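import Cfsg.Statements.S4220
import Mathlib
import Cfsg.Agent.S4219
import Cfsg.Agent.S0711
import Cfsg.Agent.S0713
import Cfsg.Agent.PermB.Support

set_option autoImplicit false
open Cfsg

namespace Cfsg.Agent.S4220

open MulAction Equiv
open scoped commutatorElement

theorem four_point : ∀ σ : Perm (Fin 4), σ ≠ 1 →
    ∃ a, σ * a * σ⁻¹ * a⁻¹ ≠ 1 ∧ (σ * a * σ⁻¹ * a⁻¹) ^ 2 = 1 := by decide +kernel

theorem three_point : ∀ σ : Perm (Fin 3), σ ≠ 1 →
    ∃ a, σ * a * σ⁻¹ * a⁻¹ ≠ 1 ∧ (σ * a * σ⁻¹ * a⁻¹) ^ 3 = 1 := by decide +kernel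

theorem four_point_three : ∃ σ a : Perm (Fin 4),
    σ * a * σ⁻¹ * a⁻¹ ≠ 1 ∧ (σ * a * σ⁻¹ * a⁻¹) ^ 3 = 1 := by decide +kernel

theorem pow_ne_one_of_prime {G : Type*} [Group G] {w : G} {p q : ℕ} (hp : p.Prime) (hq : q.Prime)
    (hne : q ≠ p) (hw : w ≠ 1) (hwq : w ^ q = 1) : w ^ p ≠ 1 := by
  intro h
  refine hw (orderOf_eq_one_iff.mp (Nat.eq_one_of_dvd_coprimes ((Nat.coprime_primes hq hp).mpr hne)
    (orderOf_dvd_of_pow_eq_one hwq) (orderOf_dvd_of_pow_eq_one h)))

/-- A large symmetric group has, in the derived group of any nontrivial normal subgroup, elements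
whose `p`-th power is nontrivial. -/
theorem exists_comm_element {r p : ℕ} (hr : 5 ≤ r) (hp : p.Prime) (R : Subgroup (Perm (Fin r)))
    [R.Normal] (hR : R ≠ ⊥) : ∃ w ∈ ⁅R, R⁆, w ^ p ≠ 1 := by
  have h5 : 5 ≤ Nat.card (Fin r) := by simpa using hr
  have hA := Equiv.Perm.alternatingGroup_le_of_normal h5 (N := R) ((Subgroup.nontrivial_iff_ne_bot R).mpr hR)
  haveI : ⁅alternatingGroup (Fin r), alternatingGroup (Fin r)⁆.Normal := Subgroup.commutator_normal _ _
  have hne : ⁅alternatingGroup (Fin r), alternatingGroup (Fin r)⁆ ≠ ⊥ := fun h => by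
    rw [Subgroup.commutator_eq_bot_iff_le_centralizer, Subgroup.le_centralizer_iff_isMulCommutative,
      alternatingGroup.isMulCommutative_iff_card_le_three] at h
    omega
  have hAA := (Equiv.Perm.alternatingGroup_le_of_normal h5 ((Subgroup.nontrivial_iff_ne_bot _).mpr hne)).trans
    (Subgroup.commutator_mono hA hA)
  let a : Fin r := ⟨0, by omega⟩
  let b : Fin r := ⟨1, by omega⟩
  let c : Fin r := ⟨2, by omega⟩
  let d : Fin r := ⟨3, by omega⟩
  have hab : a ≠ b := by simp [a, b]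
  have hac : a ≠ c := by simp [a, c]
  have hcd : c ≠ d := by simp [c, d]
  have hbc : b ≠ c := by simp [b, c]
  by_cases h2 : p = 2
  · refine ⟨swap a b * swap a c, hAA ?_, ?_⟩
    · exact Equiv.Perm.IsThreeCycle.mem_alternatingGroup
        (Equiv.Perm.isThreeCycle_swap_mul_swap_same hab hac hbc)
    · intro h
      have h3 := (Equiv.Perm.isThreeCycle_swap_mul_swap_same hab hac hbc).orderOf
      have := orderOf_dvd_of_pow_eq_one h
      rw [h3, h2] at this
      norm_num at this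
  · refine ⟨swap a b * swap c d, hAA ?_, pow_ne_one_of_prime hp Nat.prime_two (Ne.symm h2) ?_ ?_⟩
    · rw [Equiv.Perm.mem_alternatingGroup, map_mul, Equiv.Perm.sign_swap hab, Equiv.Perm.sign_swap hcd]
      rfl
    · intro h
      have := congrArg (fun f : Perm (Fin r) => f a) h
      rw [Equiv.Perm.mul_apply, swap_apply_of_ne_of_ne hac (by simp [a, d]), swap_apply_left,
        Equiv.Perm.one_apply] at this
      exact hab this.symm
    · have e : swap a b * swap c d = swap c d * swap a b := by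
        rw [Equiv.mul_swap_eq_swap_mul, swap_apply_of_ne_of_ne hac.symm hbc.symm,
          swap_apply_of_ne_of_ne (by simp [a, d]) (by simp [b, d])]
      rw [(show Commute (swap a b) (swap c d) from e).mul_pow, pow_two, pow_two, swap_mul_self,
        swap_mul_self, one_mul]

/-- The three small symmetric cases. -/
theorem exists_top_comm_element {r p : ℕ} (hp : p.Prime) (hr : r = 3 ∨ r = 4)
    (R : Subgroup (Perm (Fin r))) (hR : R ≠ ⊥)
    (h : (r = 3 → p ≠ 3) ∧ (r = 4 → p = 2 → R = ⊤)) : ∃ w ∈ ⁅R, (⊤ : Subgroup (Perm (Fin r)))⁆, w ^ p ≠ 1 := by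
  obtain ⟨σ, hσ, hσ1⟩ : ∃ σ ∈ R, σ ≠ 1 := by
    obtain ⟨⟨σ, hσ⟩, hne⟩ := Subgroup.ne_bot_iff_exists_ne_one.mp hR
    exact ⟨σ, hσ, fun e => hne (Subtype.ext e)⟩
  rcases hr with rfl | rfl
  · obtain ⟨a, ha, ha'⟩ := three_point σ hσ1
    exact ⟨_, Subgroup.commutator_mem_commutator hσ (Subgroup.mem_top a),
      pow_ne_one_of_prime hp Nat.prime_three (h.1 rfl).symm ha ha'⟩
  · by_cases h2 : p = 2
    · obtain ⟨τ, a, ha, ha'⟩ := four_point_three
      exact ⟨_, Subgroup.commutator_mem_commutator (h.2 rfl h2 ▸ Subgroup.mem_top τ) (Subgroup.mem_top a),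
        pow_ne_one_of_prime hp Nat.prime_three (by omega) ha ha'⟩
    · obtain ⟨a, ha, ha'⟩ := four_point σ hσ1
      exact ⟨_, Subgroup.commutator_mem_commutator hσ (Subgroup.mem_top a),
        pow_ne_one_of_prime hp Nat.prime_two (Ne.symm h2) ha ha'⟩

section Small
variable {α : Type*} [Fintype α] [DecidableEq α] (G : Subgroup (Perm α))

theorem card_mul_fixing (hG : IsMultiplyPretransitive G α 4) (h4 : 4 ≤ Fintype.card α)
    (s : Finset α) (hs : s.card = 4) :
    Nat.card G * (Fintype.card α - 4).factorial =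
      Nat.card (fixingSubgroup G (s : Set α)) * (Fintype.card α).factorial := by
  have h := IsMultiplyPretransitive.index_of_fixingSubgroup_mul hG
    (s := (s : Set α)) (by rw [Set.ncard_coe_finset, hs])
  rw [Nat.card_eq_fintype_card] at h
  rw [← h, ← mul_assoc, Subgroup.card_mul_index]

theorem degree_six (hG : IsMultiplyPretransitive G α 4) (h6 : Fintype.card α = 6) :
    alternatingGroup α ≤ G := by
  obtain ⟨s, -, hs⟩ := Finset.exists_subset_card_eq (show 4 ≤ (Finset.univ : Finset α).card by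
    rw [Finset.card_univ, h6]; norm_num)
  have h := card_mul_fixing G hG (by omega) s hs
  rw [h6, show Nat.factorial (6 - 4) = 2 from rfl, show Nat.factorial 6 = 720 from rfl] at h
  refine Equiv.Perm.alternatingGroup_le_of_index_le_two ?_
  have hmul := Subgroup.card_mul_index G
  rw [Nat.card_perm, Nat.card_eq_fintype_card (α := α), h6, show Nat.factorial 6 = 720 from rfl] at hmul
  have hpos : 0 < Nat.card (fixingSubgroup G (s : Set α)) := Nat.card_pos
  have hGpos : 0 < Nat.card G := Nat.card_pos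
  nlinarith

theorem degree_nine (hG : IsMultiplyPretransitive G α 4) (h9 : Fintype.card α = 9) :
    alternatingGroup α ≤ G := by
  classical
  have small : ∀ g ∈ G, g ≠ 1 → g.support.card ≤ 5 → alternatingGroup α ≤ G := fun g hg hg1 hs =>
    (Cfsg.Agent.S0711.result G (k := 4) (by norm_num) (by omega) hG g hg hg1 (by omega)).2
  obtain ⟨s, -, hs⟩ := Finset.exists_subset_card_eq (show 4 ≤ (Finset.univ : Finset α).card by
    rw [Finset.card_univ, h9]; norm_num)
  by_cases hK : fixingSubgroup G (s : Set α) = ⊥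
  swap
  · obtain ⟨⟨g, hg⟩, hg1⟩ := Subgroup.ne_bot_iff_exists_ne_one.mp hK
    refine small g g.2 (fun h => hg1 (Subtype.ext (Subtype.ext h))) ?_
    have hsub : (g : Perm α).support ⊆ sᶜ := fun a ha => Finset.mem_compl.mpr fun has =>
      Equiv.Perm.mem_support.mp ha ((mem_fixingSubgroup_iff G).mp hg a has)
    have := Finset.card_le_card hsub
    rw [Finset.card_compl, hs, h9] at this
    omega
  have h := card_mul_fixing G hG (by omega) s hs
  rw [h9, hK, Subgroup.card_bot, show Nat.factorial (9 - 4) = 120 from rfl,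
    show Nat.factorial 9 = 362880 from rfl] at h
  have hcard : Nat.card G = 3024 := by omega
  haveI := Fact.mk (show Nat.Prime 7 by norm_num)
  obtain ⟨Q⟩ : Nonempty (Sylow 7 G) := inferInstance
  have hQ : Nat.card Q = 7 := by
    rw [Q.card_eq_multiplicity, hcard]
    have h7 : (3024 : ℕ).factorization 7 = 1 := by
      rw [show 3024 = 7 ^ 1 * 432 by norm_num, Nat.factorization_mul (by norm_num) (by norm_num),
        Nat.factorization_pow, Nat.Prime.factorization (by norm_num : Nat.Prime 7)]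
      simp [Nat.factorization_eq_zero_of_not_dvd (show ¬ 7 ∣ 432 by norm_num)]
    rw [h7, pow_one]
  obtain ⟨⟨c, hc⟩, hgen⟩ := (isCyclic_of_prime_card hQ).exists_generator (α := (Q : Subgroup G))
  have hc7 : orderOf (c : Perm α) = 7 := by
    rw [Subgroup.orderOf_coe, ← Subgroup.orderOf_mk c hc]
    exact (orderOf_eq_card_of_forall_mem_zpowers hgen).trans hQ
  have hsc : (c : Perm α).support.card = 7 := by
    have hcyc := Equiv.Perm.isCycle_of_prime_order (σ := (c : Perm α)) (by rw [hc7]; norm_num)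
      (by rw [hc7]; exact lt_of_le_of_lt (Finset.card_le_univ _) (by omega))
    rw [← hcyc.orderOf, hc7]
  have hcyc := Equiv.Perm.isCycle_of_prime_order (σ := (c : Perm α)) (by rw [hc7]; norm_num)
      (by rw [hc7]; exact lt_of_le_of_lt (Finset.card_le_univ _) (by omega))
  by_cases hC : ∃ g : G, g * c = c * g ∧ g ∉ (Q : Subgroup G)
  · obtain ⟨g, hg, hgQ⟩ := hC
    obtain ⟨u, hu⟩ := Finset.card_pos.mp (show 0 < (c : Perm α).support.card by omega)
    have hcomm : Commute (g : Perm α) (c : Perm α) := congrArg Subtype.val hg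
    have hgu : (g : Perm α) u ∈ (c : Perm α).support := by
      rw [Equiv.Perm.mem_support] at hu ⊢
      intro e
      apply hu
      apply (g : Perm α).injective
      rw [← Equiv.Perm.mul_apply, hcomm.eq, Equiv.Perm.mul_apply, e]
    obtain ⟨i, hi⟩ := hcyc.exists_zpow_eq (Equiv.Perm.mem_support.mp hu) (Equiv.Perm.mem_support.mp hgu)
    refine small _ (g * (c ^ i)⁻¹).2 (fun e => hgQ ?_) ?_
    · have : g = c ^ i := mul_inv_eq_one.mp (Subtype.ext e)
      rw [this]; exact zpow_mem hc i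
    · have hsub : ((g * (c ^ i)⁻¹ : G) : Perm α).support ⊆ (c : Perm α).supportᶜ := by
        intro v hv
        rw [Finset.mem_compl]
        intro hvc
        obtain ⟨j, hj⟩ := hcyc.exists_zpow_eq (Equiv.Perm.mem_support.mp hu) (Equiv.Perm.mem_support.mp hvc)
        refine Equiv.Perm.mem_support.mp hv ?_
        rw [Subgroup.coe_mul, Subgroup.coe_inv, SubgroupClass.coe_zpow, ← hj]
        have hD : Commute ((g : Perm α) * ((c : Perm α) ^ i)⁻¹) ((c : Perm α) ^ j) :=
          ((hcomm.zpow_right j).mul_left ((((Commute.refl (c : Perm α)).zpow_zpow i j)).inv_left))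
        have hfix : ((g : Perm α) * ((c : Perm α) ^ i)⁻¹) u = u := by
          have h1 : (((c : Perm α) ^ i)⁻¹ * (g : Perm α)) u = u := by
            rw [Equiv.Perm.mul_apply, ← hi]; simp
          rwa [← (hcomm.zpow_right i).inv_right.eq] at h1
        rw [← Equiv.Perm.mul_apply, hD.eq, Equiv.Perm.mul_apply, hfix]
      have := Finset.card_le_card hsub
      rw [Finset.card_compl, hsc, h9] at this
      omega
  push Not at hC
  exfalso
  set N := Subgroup.normalizer ((Q : Subgroup G) : Set G)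
  let f : N →* MulAut (Q : Subgroup G) := (Q : Subgroup G).normalizerMonoidHom
  haveI : IsCyclic (Q : Subgroup G) := isCyclic_of_prime_card hQ
  have hN : Nat.card N ∣ 7 * 6 := by
    have h1 : Nat.card f.ker ∣ 7 := by
      have hle : f.ker.map N.subtype ≤ (Q : Subgroup G) := by
        rintro _ ⟨g, hg, rfl⟩
        refine hC _ ?_
        have := congrArg Subtype.val (DFunLike.congr_fun (MonoidHom.mem_ker.mp hg) ⟨c, hc⟩)
        simp only [f, Subgroup.normalizerMonoidHom_apply_apply_coe, MulAut.one_apply] at this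
        exact mul_inv_eq_iff_eq_mul.mp this
      have := Subgroup.card_dvd_of_le hle
      rwa [Subgroup.card_map_of_injective N.subtype_injective, hQ] at this
    have h2 : f.ker.index ∣ 6 := by
      rw [Subgroup.index_ker]
      refine f.range.card_subgroup_dvd_card.trans (dvd_of_eq ?_)
      rw [IsCyclic.card_mulAut, hQ]
      rfl
    rw [← Subgroup.card_mul_index f.ker]
    exact Nat.mul_dvd_mul h1 h2
  have hQN : 7 ∣ Nat.card N := hQ ▸ Subgroup.card_dvd_of_le Subgroup.le_normalizer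
  have hmod := card_sylow_modEq_one 7 G
  have hn : Nat.card (Sylow 7 G) = N.index := Q.card_eq_index_normalizer
  have hmul := Subgroup.card_mul_index N
  rw [← hn, hcard] at hmul
  rw [Nat.ModEq] at hmod
  obtain ⟨d, hd⟩ := hQN
  rw [hd] at hN hmul
  have hd6 : d ≤ 6 := Nat.le_of_dvd (by norm_num) (Nat.dvd_of_mul_dvd_mul_left (by norm_num) hN)
  interval_cases d <;> omega

end Small

section Core

/-- Commutators of elements normalising a cyclic subgroup centralise it. -/
theorem commute_commutator {X : Type*} [Group X] [Finite X] (C : Subgroup X) [IsCyclic C] {a b : X}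
    (ha : ∀ x ∈ C, a * x * a⁻¹ ∈ C) (hb : ∀ x ∈ C, b * x * b⁻¹ ∈ C) :
    ∀ x ∈ C, Commute ⁅a, b⁆ x := by
  have norm : ∀ a : X, (∀ x ∈ C, a * x * a⁻¹ ∈ C) → a ∈ Subgroup.normalizer (C : Set X) := by
    intro a ha
    have e : C.map (MulAut.conj a).toMonoidHom = C := Subgroup.eq_of_le_of_card_ge
      (by rintro _ ⟨x, hx, rfl⟩; exact ha x hx)
      (le_of_eq (Subgroup.card_map_of_injective (MulAut.conj a).injective).symm)
    refine Subgroup.mem_normalizer_iff.mpr fun x => ⟨ha x, fun h => ?_⟩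
    rw [← e] at h
    obtain ⟨y, hy, hyx⟩ := h
    exact (MulAut.conj a).injective hyx ▸ hy
  intro x hx
  let f := C.normalizerMonoidHom
  let ε := IsCyclic.mulAutMulEquiv C
  set A : Subgroup.normalizer (C : Set X) := ⟨a, norm a ha⟩
  set B : Subgroup.normalizer (C : Set X) := ⟨b, norm b hb⟩
  have h : f ⁅A, B⁆ = 1 := by
    rw [map_commutatorElement, commutatorElement_eq_one_iff_mul_comm]
    exact ε.injective (by rw [map_mul, map_mul, mul_comm])
  have := congrArg Subtype.val (DFunLike.congr_fun h ⟨x, hx⟩)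
  simp only [f, Subgroup.normalizerMonoidHom_apply_apply_coe, MulAut.one_apply] at this
  exact mul_inv_eq_iff_eq_mul.mp this

variable {M : Type*} [Group M] (N₀ : Subgroup M) (PN : Subgroup N₀)
  {ι : Type*} {X : ι → Type*} [∀ i, Group (X i)] (ρ : ∀ i, N₀ →* X i)

theorem core_big [∀ i, Finite (X i)] (hcyc : ∀ i, IsCyclic (PN.map (ρ i)))
    (hconj : ∀ n : M, ∀ y ∈ PN.map N₀.subtype, n * y * n⁻¹ ∈ PN.map N₀.subtype)
    {Y : Type*} [Group Y] (res : M →* Y) {w : Y} (hw : w ∈ ⁅N₀.map res, N₀.map res⁆) :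
    ∃ g : N₀, (∀ i, ∀ s ∈ PN, Commute (ρ i g) (ρ i s)) ∧ res g = w := by
  have e : N₀.map res = (⊤ : Subgroup N₀).map (res.comp N₀.subtype) := by
    rw [← Subgroup.map_map, ← MonoidHom.range_eq_map N₀.subtype, Subgroup.range_subtype]
  rw [e, ← Subgroup.map_commutator] at hw
  obtain ⟨g, hg, hgw⟩ := hw
  refine ⟨g, fun i => ?_, hgw⟩
  haveI := hcyc i
  have hnorm : ∀ a : N₀, ∀ x ∈ PN.map (ρ i), ρ i a * x * (ρ i a)⁻¹ ∈ PN.map (ρ i) := by
    rintro a _ ⟨s, hs, rfl⟩
    obtain ⟨t, ht, hte⟩ := hconj a _ ⟨s, hs, rfl⟩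
    refine ⟨t, ht, ?_⟩
    rw [show t = a * s * a⁻¹ from Subtype.ext hte, map_mul, map_mul, map_inv]
  have hle : ⁅(⊤ : Subgroup N₀), ⊤⁆ ≤ (Subgroup.centralizer ((PN.map (ρ i) : Subgroup (X i)) : Set (X i))).comap (ρ i) := by
    rw [Subgroup.commutator_le]
    intro a _ b _
    rw [Subgroup.mem_comap, map_commutatorElement, Subgroup.mem_centralizer_iff]
    intro x hx
    exact (commute_commutator _ (hnorm a) (hnorm b) x hx).eq.symm
  intro s hs
  exact (Subgroup.mem_centralizer_iff.mp (hle hg) _ ⟨s, hs, rfl⟩).symm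

theorem core_small [Fintype ι] [hN₀ : N₀.Normal] {p : ℕ} (hp : p.Prime)
    (hcard : ∀ i, Nat.card (PN.map (ρ i)) = p) (hι : 1 ≤ Fintype.card ι ∧ Fintype.card ι ≤ 3)
    (agree : ∀ s ∈ PN, ∀ t ∈ PN, ∀ o, (∀ o', o' ≠ o → ρ o' s = ρ o' t) → s = t)
    (hconj : ∀ n : M, ∀ y ∈ PN.map N₀.subtype, n * y * n⁻¹ ∈ PN.map N₀.subtype)
    {Y : Type*} [Group Y] (res : M →* Y) (hres : Function.Surjective res) {w : Y}
    (hw : w ∈ ⁅N₀.map res, (⊤ : Subgroup Y)⁆) :
    ∃ g : N₀, (∀ i, ∀ s ∈ PN, Commute (ρ i g) (ρ i s)) ∧ res g = w := by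
  classical
  haveI := Fact.mk hp
  have cj : ∀ g : N₀, ∀ s ∈ PN, g * s * g⁻¹ ∈ PN := fun g s hs => by
    obtain ⟨t, ht, hte⟩ := hconj g _ ⟨s, hs, rfl⟩
    rwa [show g * s * g⁻¹ = t from (Subtype.ext hte).symm]
  have scalar : ∀ g : N₀, ∃ a : ℤ, ∀ s ∈ PN, g * s * g⁻¹ = s ^ a := by
    intro g
    by_cases hinj : ∃ o, ∀ s ∈ PN, ρ o s = 1 → s = 1
    · obtain ⟨o, hker⟩ := hinj
      haveI : IsCyclic (PN.map (ρ o)) := isCyclic_of_prime_card (hcard o)
      obtain ⟨⟨_, c, hc, rfl⟩, hgen⟩ := IsCyclic.exists_generator (α := PN.map (ρ o))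
      have all : ∀ s ∈ PN, ∃ i : ℤ, s = c ^ i := fun s hs => by
        obtain ⟨i, hi⟩ := Subgroup.mem_zpowers_iff.mp (hgen ⟨_, ⟨s, hs, rfl⟩⟩)
        refine ⟨i, mul_inv_eq_one.mp (hker _ (mul_mem hs (inv_mem (zpow_mem hc i))) ?_)⟩
        rw [map_mul, map_inv, map_zpow, mul_inv_eq_one]
        exact (congrArg Subtype.val hi).symm
      obtain ⟨a, ha⟩ := all _ (cj g c hc)
      refine ⟨a, fun s hs => ?_⟩
      obtain ⟨i, rfl⟩ := all s hs
      rw [← conj_zpow, ha, ← zpow_mul, ← zpow_mul, mul_comm]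
    push Not at hinj
    -- now there are exactly three orbits
    have hk3' : (Finset.univ : Finset ι).card = 3 := by
      by_contra hne
      rw [Finset.card_univ] at hne
      obtain ⟨o⟩ : Nonempty ι := Fintype.card_pos_iff.mp (by omega)
      obtain ⟨s, hs, hs1, hs2⟩ := hinj o
      by_cases hex : ∃ b, b ≠ o
      · obtain ⟨b, hb⟩ := hex
        refine hs2 (agree s hs 1 (one_mem _) b fun o' hne' => ?_)
        have : o' = o := by
          by_contra h
          have hsub := Finset.card_le_univ ({o', o, b} : Finset ι)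
          rw [Finset.card_insert_of_notMem (by simp [h, hne']),
            Finset.card_insert_of_notMem (by simp [hb.symm]), Finset.card_singleton] at hsub
          omega
        rw [map_one, this, hs1]
      · push Not at hex
        exact hs2 (agree s hs 1 (one_mem _) o fun o' hne' => absurd (hex o') hne')
    obtain ⟨a, b, c, hab, hac, hbc, hOabc⟩ := Finset.card_eq_three.mp hk3'
    have mem3 : ∀ o : ι, o = a ∨ o = b ∨ o = c := fun o => by
      have := Finset.mem_univ o; rw [hOabc] at this; simpa using this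
    obtain ⟨za, hza, hza1, hza2⟩ := hinj a
    obtain ⟨zb, hzb, hzb1, hzb2⟩ := hinj b
    have two : ∀ s ∈ PN, ∀ t ∈ PN, ρ a s = ρ a t → ρ b s = ρ b t → s = t :=
      fun s hs t ht h1 h2 => agree s hs t ht c fun o' hne => by
        rcases mem3 o' with rfl | rfl | rfl
        exacts [h1, h2, absurd rfl hne]
    have twoac : ∀ s ∈ PN, ∀ t ∈ PN, ρ b s = ρ b t → ρ c s = ρ c t → s = t :=
      fun s hs t ht h1 h2 => agree s hs t ht a fun o' hne => by
        rcases mem3 o' with rfl | rfl | rfl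
        exacts [absurd rfl hne, h1, h2]
    have ne1 : ∀ o z, z ∈ PN → ρ o z ≠ 1 → ∀ s ∈ PN, ∃ i : ℤ, ρ o s = ρ o z ^ i := by
      intro o z hz hz1 s hs
      have htop := zpowers_eq_top_of_prime_card (G := PN.map (ρ o)) (hcard o)
        (g := ⟨_, ⟨z, hz, rfl⟩⟩) (fun e => hz1 (congrArg Subtype.val e))
      obtain ⟨i, hi⟩ := Subgroup.mem_zpowers_iff.mp
        (htop ▸ Subgroup.mem_top (⟨_, ⟨s, hs, rfl⟩⟩ : PN.map (ρ o)))
      exact ⟨i, (congrArg Subtype.val hi).symm⟩
    have hzab : ρ b za ≠ 1 := fun h => hza2 (two _ hza 1 (one_mem _) (by rw [hza1, map_one]) (by rw [h, map_one]))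
    have hzba : ρ a zb ≠ 1 := fun h => hzb2 (two _ hzb 1 (one_mem _) (by rw [h, map_one]) (by rw [hzb1, map_one]))
    have hzac : ρ c za ≠ 1 := fun h => hza2 (agree za hza 1 (one_mem _) b fun o' hne => by
      rcases mem3 o' with rfl | rfl | rfl
      · rw [hza1, map_one]
      · exact absurd rfl hne
      · rw [h, map_one])
    have gena : ∀ s ∈ PN, ρ a s = 1 → ∃ i : ℤ, s = za ^ i := fun s hs h => by
      obtain ⟨i, hi⟩ := ne1 b za hza hzab s hs
      exact ⟨i, two _ hs _ (zpow_mem hza i) (by rw [h, map_zpow, hza1, one_zpow]) (by rw [hi, map_zpow])⟩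
    obtain ⟨α', hα⟩ := gena _ (cj g za hza) (by rw [map_mul, map_mul, hza1, mul_one, map_inv, mul_inv_cancel])
    have hβ : g * zb * g⁻¹ = zb ^ α' := by
      refine twoac _ (cj g zb hzb) _ (zpow_mem hzb α') ?_ ?_
      · rw [map_mul, map_mul, hzb1, mul_one, map_inv, mul_inv_cancel, map_zpow, hzb1, one_zpow]
      · obtain ⟨i, hi⟩ := ne1 c za hza hzac zb hzb
        rw [map_mul, map_mul, hi, map_inv, ← conj_zpow, ← map_inv, ← map_mul, ← map_mul, hα,
          map_zpow, map_zpow, hi, ← zpow_mul, ← zpow_mul, mul_comm]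
    refine ⟨α', fun s hs => ?_⟩
    obtain ⟨j, hj⟩ := ne1 a zb hzb hzba s hs
    obtain ⟨i, hi⟩ := gena (s * (zb ^ j)⁻¹) (mul_mem hs (inv_mem (zpow_mem hzb j)))
      (by rw [map_mul, map_inv, map_zpow, hj, mul_inv_cancel])
    have hs' : s = za ^ i * zb ^ j := by rw [← hi, inv_mul_cancel_right]
    have hcom : Commute za zb := by
      have hpair : ∀ o, ρ o (za * zb) = ρ o (zb * za) := fun o => by
        haveI : IsCyclic (PN.map (ρ o)) := isCyclic_of_prime_card (hcard o)
        letI : CommGroup (PN.map (ρ o)) := IsCyclic.commGroup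
        rw [map_mul, map_mul]
        exact congrArg Subtype.val (mul_comm (⟨_, ⟨za, hza, rfl⟩⟩ : PN.map (ρ o)) ⟨_, ⟨zb, hzb, rfl⟩⟩)
      exact two _ (mul_mem hza hzb) _ (mul_mem hzb hza) (hpair a) (hpair b)
    subst hs'
    rw [show g * (za ^ i * zb ^ j) * g⁻¹ = (g * za ^ i * g⁻¹) * (g * zb ^ j * g⁻¹) by group,
      ← conj_zpow, ← conj_zpow, hα, hβ, (hcom.zpow_zpow i j).mul_zpow, ← zpow_mul, ← zpow_mul,
      ← zpow_mul, ← zpow_mul, mul_comm α' i, mul_comm α' j]
  have hY : (⊤ : Subgroup Y) = (⊤ : Subgroup M).map res := (Subgroup.map_top_of_surjective res hres).symm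
  rw [hY, ← Subgroup.map_commutator] at hw
  obtain ⟨g, hg, hgw⟩ := hw
  set PNN : Subgroup M := PN.map N₀.subtype
  have hC : ∀ a ∈ N₀, ∀ h : M, ∀ y ∈ PNN, ⁅a, h⁆ * y * ⁅a, h⁆⁻¹ = y := by
    intro a ha h y hy
    obtain ⟨A, hA⟩ := scalar ⟨a⁻¹, inv_mem ha⟩
    have hB : ∀ z ∈ PNN, a⁻¹ * z * a = z ^ A := by
      rintro _ ⟨s, hs, rfl⟩
      have := congrArg Subtype.val (hA s hs)
      simpa using this
    have hz : h⁻¹ * y * h ∈ PNN := by simpa using hconj h⁻¹ y hy
    calc ⁅a, h⁆ * y * ⁅a, h⁆⁻¹ = a * (h * (a⁻¹ * (h⁻¹ * y * h) * a) * h⁻¹) * a⁻¹ := by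
          rw [commutatorElement_def]; group
      _ = a * (h * (h⁻¹ * y * h) ^ A * h⁻¹) * a⁻¹ := by rw [hB _ hz]
      _ = a * y ^ A * a⁻¹ := by rw [← conj_zpow]; congr 3; group
      _ = a * (a⁻¹ * y * a) * a⁻¹ := by rw [hB y hy]
      _ = y := by group
  have hC' : ⁅N₀, (⊤ : Subgroup M)⁆ ≤ Subgroup.centralizer (PNN : Set M) := by
    rw [Subgroup.commutator_le]
    intro a ha h _
    rw [Subgroup.mem_centralizer_iff]
    exact fun y hy => (mul_inv_eq_iff_eq_mul.mp (hC a ha h y hy)).symm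
  haveI := hN₀
  refine ⟨⟨g, Subgroup.commutator_le_left _ _ hg⟩, fun i s hs => ?_, hgw⟩
  rw [Commute, SemiconjBy, ← map_mul, ← map_mul]
  exact congrArg _ (Subtype.ext (Subgroup.mem_centralizer_iff.mp (hC' hg) _ ⟨s, hs, rfl⟩).symm)

end Core

section Main
variable {α : Type*} [Fintype α] [DecidableEq α] (G : Subgroup (Perm α))

set_option maxHeartbeats 1000000 in
theorem miller {k p r : ℕ} (hp : p.Prime) (hn : Fintype.card α = k * p + r) (hk : 1 ≤ k)
    (hpk : k < p) (hrk : k < r) (hr3 : 3 ≤ r) (hG : IsMultiplyPretransitive G α (r + 1)) :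
    alternatingGroup α ≤ G := by
  classical
  haveI := Fact.mk hp
  have hkp : p ≤ k * p := Nat.le_mul_of_pos_left p hk
  have h2p := hp.two_le
  have hr1 : r + 1 ≤ Fintype.card α := by omega
  have small : ∀ g ∈ G, g ≠ 1 → g.support.card ≤ r → alternatingGroup α ≤ G := fun g hg hg1 hs =>
    (Cfsg.Agent.S0711.result G (k := r + 1) (by omega) hr1 hG g hg hg1 (by omega)).2
  have hGr : IsMultiplyPretransitive G α r :=
    isMultiplyPretransitive_of_le (n := r + 1) (by omega) (by rwa [Nat.card_eq_fintype_card])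
  obtain ⟨x⟩ : Nonempty (Fin r ↪ α) :=
    Function.Embedding.nonempty_of_card_le (by rw [Fintype.card_fin]; omega)
  let F : Finset α := Finset.univ.map x
  let H := stabilizer G x
  have memH : ∀ g : G, g ∈ H ↔ ∀ i, (g : Perm α) (x i) = x i := fun g =>
    ⟨fun h i => congrArg (fun e : Fin r ↪ α => e i) h, fun h => Function.Embedding.ext h⟩
  have memF : ∀ a, a ∈ F ↔ ∃ i, x i = a := by simp [F]
  have htrans : ∀ u v : α, u ∉ F → v ∉ F → ∃ g ∈ H, (g : Perm α) u = v := by
    intro u v hu hv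
    have hu' : ∀ i, x i ≠ u := fun i e => hu ((memF u).mpr ⟨i, e⟩)
    have hv' : ∀ i, x i ≠ v := fun i e => hv ((memF v).mpr ⟨i, e⟩)
    let eu : Fin (r + 1) ↪ α := ⟨Fin.snoc x u, Fin.snoc_injective_iff.mpr ⟨x.injective, by simpa using hu'⟩⟩
    let ev : Fin (r + 1) ↪ α := ⟨Fin.snoc x v, Fin.snoc_injective_iff.mpr ⟨x.injective, by simpa using hv'⟩⟩
    obtain ⟨g, hg⟩ := hG.exists_smul_eq eu ev
    refine ⟨g, (memH g).mpr fun i => ?_, ?_⟩
    · have := congrArg (fun e : Fin (r + 1) ↪ α => e i.castSucc) hg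
      simp [eu, ev] at this; exact this
    · have := congrArg (fun e : Fin (r + 1) ↪ α => e (Fin.last r)) hg
      simp [eu, ev] at this; exact this
  obtain ⟨P₀⟩ : Nonempty (Sylow p H) := inferInstance
  let P' : Subgroup G := (P₀ : Subgroup H).map H.subtype
  let P : Subgroup (Perm α) := P'.map G.subtype
  have hPG : P ≤ G := Subgroup.map_subtype_le _
  have hPp : IsPGroup p P := (P₀.isPGroup'.map _).map _
  have hPF : ∀ y ∈ P, ∀ i, y (x i) = x i := by
    rintro _ ⟨_, ⟨⟨g, hg⟩, -, rfl⟩, rfl⟩ i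
    exact (memH g).mp hg i
  let orb : α → Finset α := fun u => Finset.univ.filter fun v => ∃ y ∈ P, y u = v
  have memOrb : ∀ u v, v ∈ orb u ↔ ∃ y ∈ P, y u = v := by simp [orb]
  have orb_self : ∀ u, u ∈ orb u := fun u => (memOrb u u).mpr ⟨1, one_mem _, rfl⟩
  have orb_eq : ∀ u v, v ∈ orb u → orb v = orb u := by
    intro u v hv
    obtain ⟨y, hy, rfl⟩ := (memOrb u v).mp hv
    ext w
    rw [memOrb, memOrb]
    exact ⟨fun ⟨z, hz, e⟩ => ⟨z * y, mul_mem hz hy, e⟩,
      fun ⟨z, hz, e⟩ => ⟨z * y⁻¹, mul_mem hz (inv_mem hy), by simp [e]⟩⟩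
  have orbF : ∀ u, u ∉ F → ∀ v ∈ orb u, v ∉ F := by
    intro u hu v hv hvF
    obtain ⟨y, hy, rfl⟩ := (memOrb u v).mp hv
    obtain ⟨i, hi⟩ := (memF _).mp hvF
    exact hu ((memF u).mpr ⟨i, y.injective ((hPF y hy i).trans hi)⟩)
  have hFcard : F.card = r := by simp [F]
  have hUcard : (Fᶜ).card = k * p := by rw [Finset.card_compl, hFcard, hn]; omega
  have orb_card : ∀ u, u ∉ F → (orb u).card = p := by
    intro u hu
    obtain ⟨m, hm⟩ := hPp.card_orbit (α := α) u
    have e : (orb u).card = Nat.card (orbit P u) := by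
      rw [Nat.card_eq_card_toFinset]
      congr 1
      ext v
      simp only [Set.mem_toFinset, memOrb, mem_orbit_iff]
      exact ⟨fun ⟨y, hy, e⟩ => ⟨⟨y, hy⟩, e⟩, fun ⟨y, e⟩ => ⟨y, y.2, e⟩⟩
    rw [← e] at hm
    have hle : (orb u).card ≤ k * p :=
      hUcard ▸ Finset.card_le_card (fun v hv => Finset.mem_compl.mpr (orbF u hu v hv))
    have hm0 : m ≠ 0 := by
      intro h0
      rw [h0, pow_zero, Finset.card_eq_one] at hm
      obtain ⟨w, hw⟩ := hm
      have hfix : ∀ y ∈ P, y u = u := fun y hy => by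
        have h1 := hw ▸ (memOrb u _).mpr ⟨y, hy, rfl⟩
        have h2 := hw ▸ orb_self u
        rw [Finset.mem_singleton] at h1 h2
        rw [h1, h2]
      have hle' : (P₀ : Subgroup H) ≤ stabilizer H u := fun h hh =>
        hfix _ ⟨_, ⟨h, hh, rfl⟩, rfl⟩
      apply P₀.not_dvd_index
      rw [← Subgroup.relIndex_mul_index hle']
      refine Dvd.dvd.mul_left ?_ _
      rw [MulAction.index_stabilizer]
      have horb : orbit H u = ↑(Fᶜ) := by
        ext v
        simp only [Finset.coe_compl, Set.mem_compl_iff, Finset.mem_coe, mem_orbit_iff]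
        refine ⟨?_, fun hv => ?_⟩
        · rintro ⟨g, rfl⟩ hgF
          obtain ⟨i, hi⟩ := (memF _).mp hgF
          exact hu ((memF u).mpr ⟨i, (g : G).1.injective (((memH g).mp g.2 i).trans hi)⟩)
        · obtain ⟨g, hg, e⟩ := htrans u v hu hv
          exact ⟨⟨g, hg⟩, e⟩
      rw [horb, Set.ncard_coe_finset, hUcard]
      exact Dvd.intro_left k rfl
    have hm1 : m < 2 := by
      by_contra h
      have : p ^ 2 ≤ p ^ m := Nat.pow_le_pow_right hp.pos (by omega)
      have : k * p < p ^ 2 := by rw [pow_two]; exact Nat.mul_lt_mul_of_pos_right hpk hp.pos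
      omega
    rw [hm, show m = 1 by omega, pow_one]
  let O : Finset (Finset α) := Fᶜ.image orb
  have hO : ∀ u, u ∉ F → orb u ∈ O := fun u hu => Finset.mem_image_of_mem _ (Finset.mem_compl.mpr hu)
  have hO' : ∀ o ∈ O, ∃ u, u ∉ F ∧ orb u = o := fun o ho => by
    obtain ⟨u, hu, rfl⟩ := Finset.mem_image.mp ho
    exact ⟨u, Finset.mem_compl.mp hu, rfl⟩
  have hOcard : O.card = k := by
    have h := Finset.card_eq_sum_card_fiberwise (s := Fᶜ) (t := O) (f := orb)
      (fun u hu => Finset.mem_image_of_mem _ hu)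
    rw [Finset.sum_congr rfl (g := fun _ => p) fun o ho => ?_, Finset.sum_const, smul_eq_mul, hUcard] at h
    · exact (Nat.eq_of_mul_eq_mul_right hp.pos h).symm
    · obtain ⟨u, hu, rfl⟩ := hO' o ho
      refine (congrArg Finset.card ?_).trans (orb_card u hu)
      ext v
      simp only [Finset.mem_filter, Finset.mem_compl]
      exact ⟨fun h => h.2 ▸ orb_self v, fun h => ⟨orbF u hu v h, orb_eq u v h⟩⟩
  -- the normaliser
  let N : Subgroup (Perm α) := G ⊓ Subgroup.normalizer (P : Set (Perm α))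
  have hPN : P ≤ N := le_inf hPG Subgroup.le_normalizer
  have memN : ∀ n ∈ N, ∀ y, y ∈ P ↔ n * y * n⁻¹ ∈ P := fun n hn y =>
    Subgroup.mem_normalizer_iff.mp hn.2 y
  have fixiff : ∀ u, u ∈ F ↔ ∀ y ∈ P, y u = u := by
    intro u
    refine ⟨fun h y hy => ?_, fun h => ?_⟩
    · obtain ⟨i, rfl⟩ := (memF u).mp h; exact hPF y hy i
    · by_contra hu
      have h1 : orb u ⊆ {u} := fun v hv => by
        obtain ⟨y, hy, rfl⟩ := (memOrb u v).mp hv
        rw [Finset.mem_singleton, h y hy]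
      have := Finset.card_le_card h1
      rw [orb_card u hu, Finset.card_singleton] at this
      omega
  have NF : ∀ n ∈ N, ∀ u, n u ∈ F ↔ u ∈ F := by
    intro n hn u
    rw [fixiff, fixiff]
    refine ⟨fun h y hy => ?_, fun h y hy => ?_⟩
    · apply n.injective
      simpa using h _ ((memN n hn y).mp hy)
    · have := h _ ((memN n⁻¹ (inv_mem hn) y).mp hy)
      simp only [inv_inv, Perm.mul_apply] at this
      simpa using congrArg n this
  have himg : ∀ n ∈ N, ∀ u, (orb u).image n = orb (n u) := by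
    intro n hn u
    ext v
    simp only [Finset.mem_image, memOrb]
    constructor
    · rintro ⟨_, ⟨y, hy, rfl⟩, rfl⟩
      exact ⟨n * y * n⁻¹, (memN n hn y).mp hy, by simp⟩
    · rintro ⟨y, hy, rfl⟩
      refine ⟨_, ⟨n⁻¹ * y * n⁻¹⁻¹, (memN n⁻¹ (inv_mem hn) y).mp hy, rfl⟩, by simp⟩
  have hOimg : ∀ n ∈ N, ∀ o ∈ O, o.image (n : Perm α) ∈ O := by
    intro n hn o ho
    obtain ⟨u, hu, rfl⟩ := hO' o ho
    rw [himg n hn u]
    exact hO _ (fun h => hu ((NF n hn u).mp h))
  let θ : N →* Perm O :=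
    { toFun := fun n =>
        { toFun := fun o => ⟨o.1.image (n : Perm α), hOimg n n.2 o o.2⟩
          invFun := fun o => ⟨o.1.image (⇑((n : Perm α)⁻¹)), hOimg _ (inv_mem n.2) o o.2⟩
          left_inv := fun o => Subtype.ext (by simp [Finset.image_image, Function.comp_def])
          right_inv := fun o => Subtype.ext (by simp [Finset.image_image, Function.comp_def]) }
      map_one' := by ext o : 2; simp
      map_mul' := fun a b => by ext o : 2; simp [Finset.image_image, Function.comp_def] }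
  set N₀ := θ.ker with hN₀
  have memN₀ : ∀ n : N, n ∈ N₀ → ∀ o ∈ O, ∀ a, (n : Perm α) a ∈ o ↔ a ∈ o := by
    intro n hn o ho a
    have e : o.image (n : Perm α) = o :=
      congrArg Subtype.val (DFunLike.congr_fun (MonoidHom.mem_ker.mp hn) (⟨o, ho⟩ : O))
    constructor
    · intro h
      rw [← e, Finset.mem_image] at h
      obtain ⟨b, hb, hab⟩ := h
      exact (n : Perm α).injective hab ▸ hb
    · intro h; exact e ▸ Finset.mem_image_of_mem _ h
  have hPN₀ : ∀ n : N, (n : Perm α) ∈ P → n ∈ N₀ := by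
    intro n hn
    refine MonoidHom.mem_ker.mpr (Equiv.ext fun o => Subtype.ext ?_)
    obtain ⟨u, hu, ho⟩ := hO' o.1 o.2
    show o.1.image (n : Perm α) = o.1
    rw [← ho, himg _ n.2 u]
    exact orb_eq u _ ((memOrb u _).mpr ⟨_, hn, rfl⟩)
  -- action on the fixed points
  let eF : Fin r ≃ {a // a ∈ F} := Equiv.ofBijective (fun i => ⟨x i, (memF _).mpr ⟨i, rfl⟩⟩)
    ⟨fun i j h => x.injective (congrArg Subtype.val h), fun ⟨a, ha⟩ => by
      obtain ⟨i, hi⟩ := (memF a).mp ha; exact ⟨i, Subtype.ext hi⟩⟩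
  let res : N →* Perm (Fin r) :=
    { toFun := fun n => eF.symm.permCongr ((n : Perm α).subtypePerm fun a => NF n n.2 a)
      map_one' := by ext i; simp [Equiv.permCongr_apply]
      map_mul' := fun a b => by ext i; simp [Equiv.permCongr_apply] }
  have res_apply : ∀ (n : N) i, x (res n i) = (n : Perm α) (x i) := fun n i => by
    have := congrArg Subtype.val (eF.apply_symm_apply (((n : Perm α).subtypePerm fun a => NF n n.2 a) (eF i)))
    exact this
  have res_surj : Function.Surjective res := by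
    intro σ
    obtain ⟨g, hg, hge⟩ := Cfsg.Agent.S4219.result hGr x P₀ x (σ.toEmbedding.trans x)
      (fun i ⟨y, hy⟩ => hPF _ ⟨y, hy, rfl⟩ i) (fun i ⟨y, hy⟩ => hPF _ ⟨y, hy, rfl⟩ (σ i))
    have hgN : (g : Perm α) ∈ N := by
      refine ⟨g.2, Subgroup.mem_normalizer_iff.mpr fun y => ?_⟩
      have hy : ∀ z : G, z ∈ P' ↔ (z : Perm α) ∈ P := fun z =>
        ⟨fun h => ⟨z, h, rfl⟩, fun ⟨w, hw, e⟩ => Subtype.ext e ▸ hw⟩
      constructor
      · intro h
        exact (hy _).mp ((Subgroup.mem_normalizer_iff.mp hg ⟨y, hPG h⟩).mp ((hy ⟨y, hPG h⟩).mpr h))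
      · intro h
        have hyG : y ∈ G := by
          have := mul_mem (mul_mem (inv_mem g.2) (hPG h)) g.2
          simpa [mul_assoc] using this
        exact (hy ⟨y, hyG⟩).mp ((Subgroup.mem_normalizer_iff.mp hg ⟨y, hyG⟩).mpr ((hy _).mpr h))
    refine ⟨⟨g, hgN⟩, Equiv.ext fun i => x.injective ?_⟩
    rw [res_apply]
    exact congrArg (fun e : Fin r ↪ α => e i) hge
  let R := N₀.map res
  haveI : R.Normal := Subgroup.Normal.map inferInstance res res_surj
  have hθ : N₀.index ≤ k.factorial := by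
    rw [hN₀, Subgroup.index_ker]
    refine (Nat.le_of_dvd Nat.card_pos θ.range.card_subgroup_dvd_card).trans (le_of_eq ?_)
    rw [Nat.card_perm, Nat.card_eq_fintype_card, Fintype.card_coe, hOcard]
  have hRi : R.index ≤ k.factorial :=
    (Nat.le_of_dvd (Nat.pos_of_ne_zero Subgroup.FiniteIndex.index_ne_zero)
      (Subgroup.index_map_dvd N₀ res_surj)).trans hθ
  have hR : R ≠ ⊥ := by
    intro h
    rw [h, Subgroup.index_bot, Nat.card_perm, Nat.card_eq_fintype_card, Fintype.card_fin] at hRi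
    have := (Nat.factorial_lt hk).mpr hrk
    omega
  -- action on one orbit
  let ρ : ∀ o, o ∈ O → (N₀ →* Perm {a // a ∈ o}) := fun o ho =>
    { toFun := fun n => ((n : N) : Perm α).subtypePerm fun a => memN₀ _ n.2 o ho a
      map_one' := by ext; rfl
      map_mul' := fun a b => by ext; rfl }
  let PN : Subgroup N₀ := (P.subgroupOf N).subgroupOf N₀
  let lift : ∀ y, y ∈ P → N₀ := fun y hy => ⟨⟨y, hPN hy⟩, hPN₀ _ hy⟩
  have hPNp : IsPGroup p PN := hPp.comap_subtype.comap_subtype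
  have hPcard : ∀ o (ho : o ∈ O), Nat.card (PN.map (ρ o ho)) = p := by
    intro o ho
    obtain ⟨u, hu, rfl⟩ := hO' o ho
    obtain ⟨m, hm⟩ := (hPNp.map (ρ _ ho)).exists_card_eq
    have hdvd : p ^ m ∣ p.factorial := by
      rw [← hm]
      refine (Subgroup.card_subgroup_dvd_card _).trans (dvd_of_eq ?_)
      rw [Nat.card_perm, Nat.card_eq_fintype_card, Fintype.card_coe, orb_card u hu]
    have hm1 : m ≤ 1 := by
      by_contra hcon
      have : p * p ∣ p * (p - 1).factorial := by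
        rw [Nat.mul_factorial_pred hp.ne_zero, ← pow_two]
        exact (pow_dvd_pow p (by omega)).trans hdvd
      have := (hp.dvd_factorial).mp (Nat.dvd_of_mul_dvd_mul_left hp.pos this)
      omega
    have hm0 : m ≠ 0 := by
      intro h0
      rw [h0, pow_zero, Subgroup.card_eq_one] at hm
      have h1 : orb u ⊆ {u} := fun v hv => by
        obtain ⟨y, hy, rfl⟩ := (memOrb u v).mp hv
        have : ρ _ ho (lift y hy) = 1 := by
          rw [← Subgroup.mem_bot, ← hm]; exact ⟨lift y hy, hy, rfl⟩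
        rw [Finset.mem_singleton]
        exact congrArg Subtype.val (Equiv.ext_iff.mp this ⟨u, orb_self u⟩)
      have := Finset.card_le_card h1
      rw [orb_card u hu, Finset.card_singleton] at this
      omega
    rw [hm, show m = 1 by omega, pow_one]
  -- centralizing elements act as elements of `P`
  have hT : ∀ o (ho : o ∈ O) (n : N₀), (∀ s ∈ PN, Commute (ρ o ho n) (ρ o ho s)) →
      ρ o ho n ∈ PN.map (ρ o ho) := by
    intro o ho n hcom
    obtain ⟨u, hu, rfl⟩ := hO' o ho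
    haveI : IsCyclic (PN.map (ρ _ ho)) := isCyclic_of_prime_card (hPcard _ ho)
    have hcomm : ∀ s ∈ PN, ∀ t ∈ PN, ρ _ ho s * ρ _ ho t = ρ _ ho t * ρ _ ho s := fun s hs t ht => by
      letI : CommGroup (PN.map (ρ _ ho)) := IsCyclic.commGroup
      exact congrArg Subtype.val (mul_comm (⟨_, ⟨s, hs, rfl⟩⟩ : PN.map (ρ _ ho)) ⟨_, ⟨t, ht, rfl⟩⟩)
    obtain ⟨y, hy, hyu⟩ := (memOrb u _).mp ((ρ _ ho n ⟨u, orb_self u⟩).2)
    refine ⟨lift y hy, hy, Equiv.ext fun ⟨v, hv⟩ => ?_⟩
    obtain ⟨z, hz, hzu⟩ := (memOrb u v).mp hv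
    have ev : (⟨v, hv⟩ : {a // a ∈ orb u}) = ρ _ ho (lift z hz) ⟨u, orb_self u⟩ := Subtype.ext hzu.symm
    have eu : ρ _ ho (lift y hy) ⟨u, orb_self u⟩ = ρ _ ho n ⟨u, orb_self u⟩ := Subtype.ext hyu
    rw [ev, ← Perm.mul_apply, hcomm _ hy _ hz, Perm.mul_apply, eu, ← Perm.mul_apply,
      (hcom (lift z hz) hz).symm.eq, Perm.mul_apply]
  have finish : ∀ g : N₀, (∀ o (ho : o ∈ O), ρ o ho g ∈ PN.map (ρ o ho)) → res g ^ p ≠ 1 →
      alternatingGroup α ≤ G := by
    intro g hg hne
    refine small (((g : N) : Perm α) ^ p) (pow_mem (g : N).2.1 p) (fun e => hne ?_) ?_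
    · have : (g : N) ^ p = 1 := Subtype.ext (by simpa using e)
      rw [← map_pow, this, map_one]
    · refine (Finset.card_le_card fun u hu => ?_).trans hFcard.le
      by_contra hF
      refine Perm.mem_support.mp hu ?_
      have ho := hO u hF
      obtain ⟨s, hs, hse⟩ := hg _ ho
      have hp1 : ρ _ ho g ^ p = 1 := by
        have := pow_card_eq_one' (G := PN.map (ρ _ ho)) (x := ⟨_, ⟨s, hs, hse⟩⟩)
        rw [hPcard _ ho] at this
        exact congrArg Subtype.val this
      rw [← map_pow] at hp1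
      have := congrArg Subtype.val (Equiv.ext_iff.mp hp1 ⟨u, orb_self u⟩)
      exact this
  have conjPN : ∀ n : N, ∀ y ∈ PN.map N₀.subtype, n * y * n⁻¹ ∈ PN.map N₀.subtype := by
    rintro n _ ⟨y, hy, rfl⟩
    have h : ((n * (y : N) * n⁻¹ : N) : Perm α) ∈ P := (memN _ n.2 _).mp hy
    exact ⟨⟨_, hPN₀ _ h⟩, h, rfl⟩
  have conclude : ∀ g : N₀, (∀ o : O, ∀ s ∈ PN, Commute (ρ o.1 o.2 g) (ρ o.1 o.2 s)) → res g ^ p ≠ 1 →
      alternatingGroup α ≤ G := fun g h hw => finish g (fun o ho => hT o ho g (h ⟨o, ho⟩)) hw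
  by_cases hr5 : 5 ≤ r
  · obtain ⟨w, hw, hwp⟩ := exists_comm_element hr5 hp R hR
    obtain ⟨g, hg, rfl⟩ := core_big N₀ PN (fun o : O => ρ o.1 o.2)
      (fun o => isCyclic_of_prime_card (hPcard o.1 o.2)) conjPN res hw
    exact conclude g hg hwp
  have hr34 : r = 3 ∨ r = 4 := by omega
  have hk3 : k ≤ 3 := by omega
  by_cases h33 : r = 3 ∧ p = 3
  · obtain ⟨rfl, rfl⟩ := h33
    interval_cases k
    · exact degree_six G hG (by omega)
    · exact degree_nine G hG (by omega)
  by_cases hcyc : ∃ y ∈ P, y ≠ 1 ∧ ∃ o ∈ O, ∀ u, u ∉ o → y u = u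
  · obtain ⟨y, hy, hy1, o, ho, hyo⟩ := hcyc
    obtain ⟨u₀, hu₀, rfl⟩ := hO' o ho
    have hyp : y ^ p = 1 := by
      ext v
      by_cases hv : v ∈ orb u₀
      · have h1 : ρ _ ho (lift y hy) ^ p = 1 := by
          have := pow_card_eq_one' (G := PN.map (ρ _ ho)) (x := ⟨_, ⟨lift y hy, hy, rfl⟩⟩)
          rw [hPcard _ ho] at this
          exact congrArg Subtype.val this
        rw [← map_pow] at h1
        exact congrArg Subtype.val (Equiv.ext_iff.mp h1 ⟨v, hv⟩)
      · exact Perm.pow_apply_eq_self_of_apply_eq_self (hyo v hv) p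
    have hord : orderOf y = p := orderOf_eq_prime hyp hy1
    have hsupp : y.support ⊆ orb u₀ := fun v hv => by
      by_contra h; exact Perm.mem_support.mp hv (hyo v h)
    have hcy := Perm.isCycle_of_prime_order (σ := y) (hord.symm ▸ hp) (by
      rw [hord]
      have := Finset.card_le_card hsupp
      rw [orb_card u₀ hu₀] at this
      omega)
    exact Cfsg.Agent.S0713.result G
      (Cfsg.Agent.PermB.isPreprimitive_of_multiply G (by omega) hr1 hG) hp (by omega) (by omega)
      hcy (by rw [← hcy.orderOf, hord]) (hPG hy)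
  push Not at hcyc
  have nocyc : ∀ y ∈ P, ∀ o ∈ O, (∀ u, u ∉ o → u ∉ F → y u = u) → y = 1 := by
    intro y hy o ho h
    by_contra hy1
    obtain ⟨u, hu, hyu⟩ := hcyc y hy hy1 o ho
    exact hyu (if hF : u ∈ F then (fixiff u).mp hF y hy else h u hu hF)
  obtain ⟨w, hw, hwp⟩ := exists_top_comm_element hp hr34 R hR
    ⟨fun h => fun h' => h33 ⟨h, h'⟩, fun h4 h2 => by
      have hk1 : k = 1 := by omega
      rw [← Subgroup.index_eq_one]
      have h0 : R.index ≠ 0 := Subgroup.FiniteIndex.index_ne_zero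
      rw [hk1, Nat.factorial_one] at hRi
      omega⟩
  have agree : ∀ s ∈ PN, ∀ t ∈ PN, ∀ o : O, (∀ o' : O, o' ≠ o → ρ o'.1 o'.2 s = ρ o'.1 o'.2 t) → s = t := by
    intro s hs t ht o h
    refine Subtype.ext (Subtype.ext ?_)
    refine (mul_inv_eq_one.mp (nocyc _ (mul_mem hs (inv_mem ht)) o.1 o.2 fun u hu hF => ?_))
    have hne : (⟨orb u, hO u hF⟩ : O) ≠ o := fun e => hu (congrArg Subtype.val e ▸ orb_self u)
    have h1 : ρ _ (hO u hF) (s * t⁻¹) = 1 := by
      rw [map_mul, map_inv, h _ hne, mul_inv_cancel]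
    exact congrArg Subtype.val (Equiv.ext_iff.mp h1 ⟨u, orb_self u⟩)
  obtain ⟨g, hg, rfl⟩ := core_small N₀ PN (fun o : O => ρ o.1 o.2) hp (fun o => hPcard o.1 o.2)
    (by rw [Fintype.card_coe, hOcard]; exact ⟨hk, hk3⟩) agree conjPN res res_surj hw
  exact conclude g hg hwp

end Main

/-- Let `n = kp + r` with `p` prime, `1 ≤ k < p` and `r > k`, excluding the case `k = 1, r = 2`. Then a permutation group of degree `n` that is `(r + 1)`-fold transitive contains the alternating group. -/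
theorem result {α : Type*} [Fintype α] [DecidableEq α] (G : Subgroup (Equiv.Perm α)) {k p r : ℕ} (hp : p.Prime) (hn : Fintype.card α = k * p + r) (hk : 1 ≤ k) (hpk : k < p) (hrk : k < r) (hex : ¬ (k = 1 ∧ r = 2)) (hG : MulAction.IsMultiplyPretransitive G α (r + 1)) : alternatingGroup α ≤ G := by
  exact miller G hp hn hk hpk hrk (by omega) hG

end Cfsg.Agent.S4220
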