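import Cfsg.Statements.S4221
import Mathlib
import Cfsg.Agent.Lib.RankOne.OddOrder

set_option autoImplicit false
open Cfsg

namespace Cfsg.Agent.S4221

open Equiv Finset
open Cfsg.Agent.RankOne

variable {α : Type*} [Fintype α] [DecidableEq α]

/-- the permutations fixing the four given points -/
def fix4 (x : Fin 4 ↪ α) : Subgroup (Perm α) := ⨅ i, MulAction.stabilizer (Perm α) (x i)

lemma mem_fix4 {x : Fin 4 ↪ α} {g : Perm α} : g ∈ fix4 x ↔ ∀ i, g (x i) = x i := by
  simp [fix4, Subgroup.mem_iInf, MulAction.mem_stabilizer_iff]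

/-- the elements commuting with `u` -/
def cent (u : Perm α) : Subgroup (Perm α) := Subgroup.centralizer {u}

lemma mem_cent {u g : Perm α} : g ∈ cent u ↔ u * g = g * u := by
  simp [cent, Subgroup.mem_centralizer_singleton_iff, eq_comm]

def Pat (u : Perm α) (σ : Perm (Fin 4)) (x : Fin 4 ↪ α) : Prop := ∀ i, u (x i) = x (σ i)

def TransOn (K : Subgroup (Perm α)) (P : (Fin 4 ↪ α) → Prop) : Prop :=
  (∀ x y, P x → P y → ∃ g ∈ K, ∀ i, g (x i) = y i) ∧
    ∀ g ∈ K, ∀ x y : Fin 4 ↪ α, P x → (∀ i, g (x i) = y i) → P y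

lemma card_stab (K : Subgroup (Perm α)) (x : Fin 4 ↪ α) :
    Nat.card (MulAction.stabilizer K x) = Nat.card ↥(K ⊓ fix4 x) := by
  have : (MulAction.stabilizer K x).map K.subtype = K ⊓ fix4 x := by
    ext g
    constructor
    · rintro ⟨⟨g', hg'⟩, h, rfl⟩
      refine ⟨hg', ?_⟩
      exact mem_fix4.2 fun i =>
        congrArg (fun e : Fin 4 ↪ α => e i) (MulAction.mem_stabilizer_iff.1 h)
    · rintro ⟨hg, h⟩
      exact ⟨⟨g, hg⟩, MulAction.mem_stabilizer_iff.2
        (Function.Embedding.ext (mem_fix4.1 h)), rfl⟩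
  rw [← this]
  exact (Subgroup.card_map_of_injective K.subtype_injective).symm

lemma card_orbit {K : Subgroup (Perm α)} {P : (Fin 4 ↪ α) → Prop} (h : TransOn K P)
    {x : Fin 4 ↪ α} (hx : P x) :
    Nat.card K = Nat.card {y // P y} * Nat.card ↥(K ⊓ fix4 x) := by
  classical
  rw [← card_stab K x, ← Nat.card_congr
    (MulAction.orbitProdStabilizerEquivGroup K x), Nat.card_prod]
  congr 1
  refine Nat.card_congr (Equiv.subtypeEquivRight fun y => ⟨?_, fun hy => ?_⟩)
  · rintro ⟨g, rfl⟩
    exact h.2 g g.2 x _ hx (fun i => rfl)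
  · obtain ⟨g, hg, hg'⟩ := h.1 x y hx hy
    exact ⟨⟨g, hg⟩, Function.Embedding.ext hg'⟩

section

variable (G : Subgroup (Perm α))

def Odd4 : Prop := ∀ (y : Fin 4 ↪ α), ∀ g ∈ G, g ∈ fix4 y → Odd (orderOf g)

variable {G}

lemma conj_pattern (hO : Odd4 G) {K : Subgroup (Perm α)} (hK : K ≤ G)
    {P : (Fin 4 ↪ α) → Prop} (hT : TransOn K P) {u v : Perm α} (hu : u ∈ K) (hv : v ∈ K)
    (hu2 : u * u = 1) (hv2 : v * v = 1) {σ : Perm (Fin 4)} {x y : Fin 4 ↪ α} (hx : P x) (hy : P y)
    (hux : Pat u σ x) (hvy : Pat v σ y) :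
    ∃ g ∈ K, g * u * g⁻¹ = v ∧ ∀ i, g (x i) = y i := by
  obtain ⟨g0, hg0, hgx⟩ := hT.1 x y hx hy
  set u' := g0 * u * g0⁻¹ with hu'
  have hu'K : u' ∈ K := mul_mem (mul_mem hg0 hu) (inv_mem hg0)
  have hu'2 : u' * u' = 1 := by
    calc g0 * u * g0⁻¹ * (g0 * u * g0⁻¹) = g0 * (u * u) * g0⁻¹ := by group
      _ = 1 := by rw [hu2]; group
  have hu'y : Pat u' σ y := fun i => by
    have e : g0⁻¹ (y i) = x i := by rw [← hgx i]; exact g0.symm_apply_apply _
    simp only [hu', Perm.mul_apply, e, hux i, hgx]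
  have hfix : u' * v ∈ fix4 y := by
    rw [mem_fix4]; intro i
    have h1 : u' (y (σ i)) = y i := by
      rw [← hu'y i]
      exact congrFun (congrArg DFunLike.coe hu'2) (y i)
    rw [Perm.mul_apply, hvy i, h1]
  obtain ⟨w, hw, hwc⟩ := dihedral_conj hu'2 hv2 (hO y _ (hK (mul_mem hu'K hv)) hfix)
  have hwK : w ∈ K := (Subgroup.zpowers_le.2 (mul_mem hu'K hv)) hw
  have hwy : w ∈ fix4 y := (Subgroup.zpowers_le.2 hfix) hw
  refine ⟨w * g0, mul_mem hwK hg0, ?_, fun i => ?_⟩
  · calc w * g0 * u * (w * g0)⁻¹ = w * u' * w⁻¹ := by rw [hu']; group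
      _ = v := hwc
  · rw [Perm.mul_apply, hgx, (mem_fix4.1 hwy) i]

lemma transOn_cent (hO : Odd4 G) {K : Subgroup (Perm α)} (hK : K ≤ G)
    {P : (Fin 4 ↪ α) → Prop} (hT : TransOn K P) {u : Perm α} (hu : u ∈ K) (hu2 : u * u = 1)
    (σ : Perm (Fin 4)) : TransOn (K ⊓ cent u) (fun y => P y ∧ Pat u σ y) := by
  constructor
  · rintro x y ⟨hx, hux⟩ ⟨hy, huy⟩
    obtain ⟨g, hg, hgu, hgx⟩ := conj_pattern hO hK hT hu hu hu2 hu2 hx hy hux huy
    refine ⟨g, ⟨hg, mem_cent.2 ?_⟩, hgx⟩
    nth_rewrite 1 [← hgu]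
    group
  · rintro g ⟨hg, hgu⟩ x y ⟨hx, hux⟩ hgx
    refine ⟨hT.2 g hg x y hx hgx, fun i => ?_⟩
    rw [← hgx i, ← Perm.mul_apply, mem_cent.1 hgu, Perm.mul_apply, hux i, hgx]

lemma card_stab_eq (hO : Odd4 G) {K : Subgroup (Perm α)} (hK : K ≤ G)
    {P : (Fin 4 ↪ α) → Prop} (hT : TransOn K P) {u v : Perm α} (hu : u ∈ K) (hv : v ∈ K)
    (hu2 : u * u = 1) (hv2 : v * v = 1) {σ : Perm (Fin 4)} {x y : Fin 4 ↪ α} (hx : P x) (hy : P y)
    (hux : Pat u σ x) (hvy : Pat v σ y) :
    Nat.card ↥(K ⊓ cent u ⊓ fix4 x) = Nat.card ↥(K ⊓ cent v ⊓ fix4 y) := by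
  obtain ⟨g, hg, hgu, hgx⟩ := conj_pattern hO hK hT hu hv hu2 hv2 hx hy hux hvy
  refine Nat.card_congr ((MulAut.conj g).toEquiv.subtypeEquiv fun c => ?_)
  simp only [MulEquiv.toEquiv_eq_coe, MulEquiv.coe_toEquiv, MulAut.conj_apply]
  have hK' : c ∈ K ↔ g * c * g⁻¹ ∈ K := by
    constructor
    · exact fun h => mul_mem (mul_mem hg h) (inv_mem hg)
    · intro h
      have := mul_mem (mul_mem (inv_mem hg) h) hg
      simpa [mul_assoc] using this
  have hC : c ∈ cent u ↔ g * c * g⁻¹ ∈ cent v := by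
    rw [mem_cent, mem_cent, ← hgu]
    constructor
    · intro h
      calc g * u * g⁻¹ * (g * c * g⁻¹) = g * (u * c) * g⁻¹ := by group
        _ = g * (c * u) * g⁻¹ := by rw [h]
        _ = _ := by group
    · intro h
      calc u * c = g⁻¹ * (g * u * g⁻¹ * (g * c * g⁻¹)) * g := by group
        _ = g⁻¹ * (g * c * g⁻¹ * (g * u * g⁻¹)) * g := by rw [h]
        _ = _ := by group
  have hF : c ∈ fix4 x ↔ g * c * g⁻¹ ∈ fix4 y := by
    rw [mem_fix4, mem_fix4]
    refine forall_congr' fun i => ?_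
    have e : g⁻¹ (y i) = x i := by rw [← hgx i]; exact g.symm_apply_apply _
    simp only [Perm.mul_apply, e]
    rw [← hgx i, g.injective.eq_iff]
  simp only [Subgroup.mem_inf]
  rw [hK', hC, hF]

lemma exists_involution (hO : Odd4 G) {K : Subgroup (Perm α)} (hK : K ≤ G)
    {P : (Fin 4 ↪ α) → Prop} (hT : TransOn K P) {x : Fin 4 ↪ α} (hx : P x) {σ : Perm (Fin 4)}
    (hσ : σ * σ = 1) (hxσ : P (σ.toEmbedding.trans x)) :
    ∃ u ∈ K, u * u = 1 ∧ Pat u σ x := by
  obtain ⟨g, hg, hgx⟩ := hT.1 x _ hx hxσ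
  have hgx' : ∀ i, g (x i) = x (σ i) := fun i => hgx i
  have hσ' : ∀ i, σ (σ i) = i := fun i => congrFun (congrArg DFunLike.coe hσ) i
  have hfix : g ^ 2 ∈ fix4 x := by
    rw [mem_fix4]; intro i
    rw [pow_two, Perm.mul_apply, hgx', hgx', hσ']
  obtain ⟨m, hm⟩ := hO x _ (pow_mem (hK hg) 2) hfix
  refine ⟨g ^ (2 * m + 1), pow_mem hg _, ?_, fun i => ?_⟩
  · rw [← pow_add, ← two_mul, pow_mul, ← hm, pow_orderOf_eq_one]
  · rw [pow_succ, Perm.mul_apply, hgx', pow_mul]
    exact mem_fix4.1 (pow_mem hfix m) (σ i)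

end

/-- the elements of `X` inverted by `u` -/
abbrev Inv {Γ : Type*} [Group Γ] (u : Γ) (X : Subgroup Γ) : Type _ :=
  {i : Γ // i ∈ X ∧ u * i * u⁻¹ = i⁻¹}

lemma card_eq_cent_mul_inv {Γ : Type*} [Group Γ] [Finite Γ] {u : Γ} (hu : u * u = 1)
    {X C : Subgroup Γ} (hX : Odd (Nat.card X)) (hn : ∀ n ∈ X, u * n * u⁻¹ ∈ X)
    (hC : ∀ c, c ∈ C ↔ c ∈ X ∧ u * c = c * u) :
    Nat.card X = Nat.card C * Nat.card (Inv u X) := by
  rw [← Nat.card_prod]
  refine (Nat.card_congr (Equiv.ofBijective (fun p : ↥C × Inv u X =>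
    (⟨p.1.1 * p.2.1, mul_mem ((hC _).1 p.1.2).1 p.2.2.1⟩ : ↥X)) ⟨?_, ?_⟩)).symm
  · rintro ⟨⟨c, hc⟩, ⟨i, hi, hi'⟩⟩ ⟨⟨d, hd⟩, ⟨j, hj, hj'⟩⟩ h
    have h' : c * i = d * j := congrArg Subtype.val h
    obtain ⟨rfl, rfl⟩ := odd_decomp_unique hX ((hC _).1 hc).1 ((hC _).1 hc).2 hi hi'
      ((hC _).1 hd).1 ((hC _).1 hd).2 hj hj' h'
    rfl
  · rintro ⟨n, hn'⟩
    obtain ⟨c, i, hc, hcu, hi, hiu, rfl, -⟩ := odd_decomp hu hX hn hn'
    exact ⟨⟨⟨c, (hC _).2 ⟨hc, hcu⟩⟩, ⟨i, hi, hiu⟩⟩, rfl⟩

/-- The order formula for a four-group acting on a group of odd order. -/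
lemma four_group_formula {Γ : Type*} [Group Γ] [Finite Γ] {u v : Γ} (hu : u * u = 1)
    (hv : v * v = 1) (huv : u * v = v * u) {N A B C D : Subgroup Γ} (hN : Odd (Nat.card N))
    (hnu : ∀ n ∈ N, u * n * u⁻¹ ∈ N) (hnv : ∀ n ∈ N, v * n * v⁻¹ ∈ N)
    (hA : ∀ c, c ∈ A ↔ c ∈ N ∧ u * c = c * u) (hB : ∀ c, c ∈ B ↔ c ∈ N ∧ v * c = c * v)
    (hC : ∀ c, c ∈ C ↔ c ∈ N ∧ (u * v) * c = c * (u * v))
    (hD : ∀ c, c ∈ D ↔ c ∈ N ∧ u * c = c * u ∧ v * c = c * v) :
    Nat.card N * Nat.card D ^ 2 = Nat.card A * Nat.card B * Nat.card C := by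
  have hu' := inv_eq_self hu
  have hv' := inv_eq_self hv
  have hBN : B ≤ N := fun c hc => ((hB c).1 hc).1
  have hCN : C ≤ N := fun c hc => ((hC c).1 hc).1
  have hBo : Odd (Nat.card B) := hN.of_dvd_nat (Subgroup.card_dvd_of_le hBN)
  have hCo : Odd (Nat.card C) := hN.of_dvd_nat (Subgroup.card_dvd_of_le hCN)
  have conj_comm : ∀ {w c : Γ}, u * w = w * u → w * c = c * w →
      w * (u * c * u⁻¹) = u * c * u⁻¹ * w := by
    intro w c hw hc
    have hw' : u⁻¹ * w = w * u⁻¹ := by rw [hu', hw]
    calc w * (u * c * u⁻¹) = (w * u) * c * u⁻¹ := by group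
      _ = u * (w * c) * u⁻¹ := by rw [← hw]; group
      _ = u * c * (w * u⁻¹) := by rw [hc]; group
      _ = _ := by rw [← hw']; group
  have e1 := card_eq_cent_mul_inv hu hN hnu hA
  have e2 : Nat.card B = Nat.card D * Nat.card (Inv u B) := by
    refine card_eq_cent_mul_inv hu hBo (fun c hc => ?_) fun c => ?_
    · exact (hB _).2 ⟨hnu c (hBN hc), conj_comm huv ((hB c).1 hc).2⟩
    · rw [hD, hB]; tauto
  have huw : u * (u * v) = (u * v) * u := by rw [huv, ← mul_assoc, huv]
  have e3 : Nat.card C = Nat.card D * Nat.card (Inv u C) := by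
    refine card_eq_cent_mul_inv hu hCo (fun c hc => ?_) fun c => ?_
    · exact (hC _).2 ⟨hnu c (hCN hc), conj_comm huw ((hC c).1 hc).2⟩
    · rw [hD, hC]
      constructor
      · rintro ⟨h1, h2, h3⟩
        exact ⟨⟨h1, by rw [mul_assoc, h3, ← mul_assoc, h2, mul_assoc]⟩, h2⟩
      · rintro ⟨⟨h1, h2⟩, h3⟩
        refine ⟨h1, h3, mul_left_cancel (a := u) ?_⟩
        rw [← mul_assoc, h2, ← mul_assoc, ← h3, mul_assoc]
  have e4 : Nat.card (Inv u N) = Nat.card (Inv u B) * Nat.card (Inv u C) := by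
    rw [← Nat.card_prod]
    have hzv : ∀ z : Inv u C, v * z.1 * v⁻¹ = z.1⁻¹ := fun z => by
      have h1 : (u * v) * z.1 * (u * v)⁻¹ = z.1 := by
        rw [((hC _).1 z.2.1).2]; group
      calc v * z.1 * v⁻¹ = u⁻¹ * ((u * v) * z.1 * (u * v)⁻¹) * u := by group
        _ = u⁻¹ * z.1 * u := by rw [h1]
        _ = u * z.1 * u⁻¹ := congrArg₂ (fun p q => p * z.1 * q) hu' hu'.symm
        _ = _ := z.2.2
    have hyv : ∀ y : Inv u B, v * y.1 * v⁻¹ = y.1 := fun y => by
      rw [((hB _).1 y.2.1).2]; group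
    refine (Nat.card_congr (Equiv.ofBijective (fun p : Inv u B × Inv u C =>
      (⟨p.1.1 * p.2.1 * p.1.1, mul_mem (mul_mem (hBN p.1.2.1) (hCN p.2.2.1)) (hBN p.1.2.1), by
        calc u * (p.1.1 * p.2.1 * p.1.1) * u⁻¹
            = (u * p.1.1 * u⁻¹) * (u * p.2.1 * u⁻¹) * (u * p.1.1 * u⁻¹) := by group
          _ = _ := by rw [p.1.2.2, p.2.2.2]; group⟩ : Inv u N)) ⟨?_, ?_⟩)).symm
    · rintro ⟨y, z⟩ ⟨y', z'⟩ h
      have h1 : y.1 * z.1 * y.1 = y'.1 * z'.1 * y'.1 := congrArg Subtype.val h
      have h2 : y.1 * z.1⁻¹ * y.1 = y'.1 * z'.1⁻¹ * y'.1 := by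
        have hc : ∀ (y : Inv u B) (z : Inv u C),
            v * (y.1 * z.1 * y.1) * v⁻¹ = y.1 * z.1⁻¹ * y.1 := fun y z => by
          calc v * (y.1 * z.1 * y.1) * v⁻¹
              = (v * y.1 * v⁻¹) * (v * z.1 * v⁻¹) * (v * y.1 * v⁻¹) := by group
            _ = _ := by rw [hyv, hzv]
        rw [← hc, ← hc, h1]
      set i := y.1 * z.1 * y.1 with hi
      have hiN : i ∈ N := mul_mem (mul_mem (hBN y.2.1) (hCN z.2.1)) (hBN y.2.1)
      have k1 : (i⁻¹ * (y.1 * y.1)) * (i⁻¹ * (y.1 * y.1)) = i⁻¹ * (y.1 * z.1⁻¹ * y.1) := by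
        rw [hi]; group
      have k2 : (i⁻¹ * (y'.1 * y'.1)) * (i⁻¹ * (y'.1 * y'.1))
          = i⁻¹ * (y'.1 * z'.1⁻¹ * y'.1) := by
        rw [h1]; group
      have hm := eq_of_mul_self_eq
        (odd_orderOf_of_mem hN (mul_mem (inv_mem hiN) (mul_mem (hBN y.2.1) (hBN y.2.1))))
        (odd_orderOf_of_mem hN (mul_mem (inv_mem hiN) (mul_mem (hBN y'.2.1) (hBN y'.2.1))))
        (by rw [k1, k2, h2])
      have hy : y.1 = y'.1 := eq_of_mul_self_eq (odd_orderOf_of_mem hBo y.2.1)
        (odd_orderOf_of_mem hBo y'.2.1) (mul_left_cancel hm)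
      have hz : z.1 = z'.1 := by
        rw [hi, hy] at h1
        exact mul_left_cancel (mul_right_cancel h1)
      exact Prod.ext (Subtype.ext hy) (Subtype.ext hz)
    · rintro ⟨i, hiN, hix⟩
      set y' := v * i * v⁻¹ with hy'def
      set z := i⁻¹ * y' with hz
      have hy'N : y' ∈ N := hnv i hiN
      have hzN : z ∈ N := mul_mem (inv_mem hiN) hy'N
      have hzo := odd_orderOf_of_mem hN hzN
      have hxy' : u * y' * u⁻¹ = y'⁻¹ := by
        rw [hy'def]
        calc u * (v * i * v⁻¹) * u⁻¹ = (u * v) * i * (u * v)⁻¹ := by group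
          _ = (v * u) * i * (v * u)⁻¹ := by rw [huv]
          _ = v * (u * i * u⁻¹) * v⁻¹ := by group
          _ = _ := by rw [hix]; group
      have hyy : v * y' * v⁻¹ = i := by
        rw [hy'def, hv']
        calc v * (v * i * v) * v = (v * v) * i * (v * v) := by group
          _ = i := by rw [hv, one_mul, mul_one]
      set b := i * sqrt z with hb
      have hbN : b ∈ N := mul_mem hiN (sqrt_mem hzN)
      have hxb : u * b * u⁻¹ = b⁻¹ := by
        have hxz : u * z * u⁻¹ = i * y'⁻¹ := by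
          rw [hz]
          calc u * (i⁻¹ * y') * u⁻¹ = (u * i * u⁻¹)⁻¹ * (u * y' * u⁻¹) := by group
            _ = _ := by rw [hix, hxy', inv_inv]
        have hio : Odd (orderOf (i * y'⁻¹)) := odd_orderOf_of_mem hN (mul_mem hiN (inv_mem hy'N))
        have e1 : u * sqrt z * u⁻¹ = sqrt (i * y'⁻¹) := conj_sqrt hzo hio hxz
        have e2 : i * (sqrt z)⁻¹ * i⁻¹ = sqrt (i * y'⁻¹) := by
          rw [← sqrt_inv]
          refine conj_sqrt (by rwa [orderOf_inv]) hio ?_
          rw [hz]; group
        calc u * (i * sqrt z) * u⁻¹ = (u * i * u⁻¹) * (u * sqrt z * u⁻¹) := by group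
          _ = i⁻¹ * (i * (sqrt z)⁻¹ * i⁻¹) := by rw [hix, e1, e2]
          _ = _ := by rw [hb]; group
      have hyb : v * b * v⁻¹ = b := by
        have hyz : v * z * v⁻¹ = z⁻¹ := by
          rw [hz]
          calc v * (i⁻¹ * y') * v⁻¹ = (v * i * v⁻¹)⁻¹ * (v * y' * v⁻¹) := by group
            _ = y'⁻¹ * i := by rw [hyy]
            _ = _ := by group
        have e1 : v * sqrt z * v⁻¹ = (sqrt z)⁻¹ := by
          rw [← sqrt_inv]; exact conj_sqrt hzo (by rwa [orderOf_inv]) hyz
        calc v * (i * sqrt z) * v⁻¹ = y' * (v * sqrt z * v⁻¹) := by rw [hy'def]; group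
          _ = y' * (sqrt z)⁻¹ := by rw [e1]
          _ = i * (sqrt z * sqrt z) * (sqrt z)⁻¹ := by rw [sqrt_mul_self hzo, hz]; group
          _ = b := by rw [hb]; group
      have hbo := odd_orderOf_of_mem hN hbN
      set a := sqrt b with ha
      have haN : a ∈ N := sqrt_mem hbN
      have haa : a * a = b := sqrt_mul_self hbo
      have hxa : u * a * u⁻¹ = a⁻¹ := by
        rw [ha, ← sqrt_inv]; exact conj_sqrt hbo (by rwa [orderOf_inv]) hxb
      have hya : v * a * v⁻¹ = a := conj_sqrt hbo hbo hyb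
      set j := a⁻¹ * i * a⁻¹ with hj
      have hjN : j ∈ N := mul_mem (mul_mem (inv_mem haN) hiN) (inv_mem haN)
      have hxj : u * j * u⁻¹ = j⁻¹ := by
        calc u * (a⁻¹ * i * a⁻¹) * u⁻¹
            = (u * a * u⁻¹)⁻¹ * (u * i * u⁻¹) * (u * a * u⁻¹)⁻¹ := by group
          _ = _ := by rw [hxa, hix, hj]; group
      have hbz : b = y' * (sqrt z)⁻¹ := by
        rw [hb]
        calc i * sqrt z = i * (sqrt z * sqrt z) * (sqrt z)⁻¹ := by group
          _ = _ := by rw [sqrt_mul_self hzo, hz]; group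
      have hyj : v * j * v⁻¹ = j⁻¹ := by
        have e : y' = b * i⁻¹ * b := by
          calc y' = y' * (sqrt z)⁻¹ * i⁻¹ * (i * sqrt z) := by group
            _ = b * i⁻¹ * b := by rw [← hbz, ← hb]
        calc v * (a⁻¹ * i * a⁻¹) * v⁻¹
            = (v * a * v⁻¹)⁻¹ * (v * i * v⁻¹) * (v * a * v⁻¹)⁻¹ := by group
          _ = a⁻¹ * (b * i⁻¹ * b) * a⁻¹ := by rw [hya, ← hy'def, e]
          _ = _ := by rw [← haa, hj]; group
      have e : (u * v) * j * (u * v)⁻¹ = j := by
        calc (u * v) * j * (u * v)⁻¹ = u * (v * j * v⁻¹) * u⁻¹ := by group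
          _ = (u * j * u⁻¹)⁻¹ := by rw [hyj]; group
          _ = j := by rw [hxj, inv_inv]
      refine ⟨⟨⟨a, (hB a).2 ⟨haN, mul_inv_eq_iff_eq_mul.1 hya⟩, hxa⟩,
        ⟨j, (hC j).2 ⟨hjN, mul_inv_eq_iff_eq_mul.1 e⟩, hxj⟩⟩, Subtype.ext ?_⟩
      show a * (a⁻¹ * i * a⁻¹) * a = i
      group
  rw [e1, e2, e3, e4]; ring

omit [Fintype α] in
/-- a finset with a fixed point free involution has even size -/
lemma even_card_of_involution {s : Finset α} {u : Perm α} (hu : u * u = 1)
    (hs : ∀ p ∈ s, u p ∈ s) (hne : ∀ p ∈ s, u p ≠ p) : Even s.card := by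
  have h : (∑ _p ∈ s, (1 : ZMod 2)) = 0 :=
    Finset.sum_involution (fun p _ => u p) (fun _ _ => by decide) (fun p hp _ => hne p hp)
      hs (fun p _ => congrFun (congrArg DFunLike.coe hu) p)
  rw [Finset.sum_const, nsmul_eq_mul, mul_one, ZMod.natCast_eq_zero_iff_even] at h
  exact h

def mk4 (p q r s : α) (h : p ≠ q ∧ p ≠ r ∧ p ≠ s ∧ q ≠ r ∧ q ≠ s ∧ r ≠ s) : Fin 4 ↪ α :=
  ⟨![p, q, r, s], by
    obtain ⟨h1, h2, h3, h4, h5, h6⟩ := h
    intro i j hij
    fin_cases i <;> fin_cases j <;> first | rfl | (simp at hij; simp_all)⟩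

def tau : Perm (Fin 4) := swap 0 1 * swap 2 3
def sigT : Perm (Fin 4) := swap 2 3
def sigAT : Perm (Fin 4) := swap 0 1
def sigB : Perm (Fin 4) := swap 0 2 * swap 1 3

abbrev fixSet (u : Perm α) : Finset α := univ.filter (fun p => u p = p)
abbrev movSet (u : Perm α) : Finset α := univ.filter (fun p => u p ≠ p)

lemma mk4_apply (p q r s : α) h (i : Fin 4) : mk4 p q r s h i = ![p, q, r, s] i := rfl

lemma fix_add_mov (u : Perm α) : (fixSet u).card + (movSet u).card = Fintype.card α := by
  exact Finset.card_filter_add_card_filter_not (s := univ) _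

lemma inv_apply {u : Perm α} (hu : u * u = 1) (p : α) : u (u p) = p :=
  congrFun (congrArg DFunLike.coe hu) p

lemma mov_even {u : Perm α} (hu : u * u = 1) : Even (movSet u).card := by
  refine even_card_of_involution hu (fun p hp => ?_) fun p hp => (mem_filter.1 hp).2
  refine mem_filter.2 ⟨mem_univ _, fun h => (mem_filter.1 hp).2 ?_⟩
  exact u.injective h

lemma tau_mk {u : Perm α} (hu : u * u = 1) {p q : α} (h) :
    Pat u tau (mk4 p (u p) q (u q) h) := fun i => by
  fin_cases i <;> simp [mk4_apply, tau, Equiv.swap_apply_def, inv_apply hu]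

lemma count_tau {a : Perm α} (ha : a * a = 1) :
    Nat.card {y : Fin 4 ↪ α // Pat a tau y} + 2 * (movSet a).card
      = (movSet a).card * (movSet a).card := by
  classical
  rw [Nat.card_eq_fintype_card, Fintype.card_subtype]
  set M := movSet a with hM
  have hsum : ((M ×ˢ M).filter (fun pq => pq.2 ≠ pq.1 ∧ pq.2 ≠ a pq.1)).card
      + 2 * M.card = M.card * M.card := by
    have h1 : ∀ p ∈ M, (M.filter (fun q => q ≠ p ∧ q ≠ a p)).card + 2 = M.card := by
      intro p hp
      have hp' : a p ≠ p := (mem_filter.1 hp).2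
      have hap : a p ∈ M := mem_filter.2 ⟨mem_univ _, fun h => hp' (a.injective h)⟩
      have e : M.filter (fun q => q ≠ p ∧ q ≠ a p) = (M.erase p).erase (a p) := by
        ext q; simp only [mem_filter, mem_erase]; tauto
      rw [e, card_erase_of_mem (mem_erase.2 ⟨hp', hap⟩), card_erase_of_mem hp]
      have : 1 < M.card := Finset.one_lt_card.2 ⟨p, hp, a p, hap, Ne.symm hp'⟩
      omega
    rw [card_filter, sum_product]
    have e2 : ∑ p ∈ M, ((∑ q ∈ M, if q ≠ p ∧ q ≠ a p then 1 else 0) + 2)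
        = M.card * M.card := by
      rw [Finset.sum_congr rfl (g := fun _ => M.card) fun p hp => ?_, sum_const, smul_eq_mul]
      rw [← card_filter]; exact h1 p hp
    rw [sum_add_distrib, sum_const, smul_eq_mul, mul_comm M.card 2] at e2
    exact e2
  rw [← hsum]
  congr 1
  refine Finset.card_bij (fun y _ => (y 0, y 2)) ?_ ?_ ?_
  · intro y hy
    have hy' : Pat a tau y := (mem_filter.1 hy).2
    have e0 : a (y 0) = y 1 := by simpa [tau, Equiv.swap_apply_def] using hy' 0
    have e2 : a (y 2) = y 3 := by simpa [tau, Equiv.swap_apply_def] using hy' 2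
    simp only [mem_filter, mem_product, hM, mem_univ, true_and]
    refine ⟨⟨?_, ?_⟩, ?_, ?_⟩
    · rw [e0]; exact y.injective.ne (by decide)
    · rw [e2]; exact y.injective.ne (by decide)
    · exact y.injective.ne (by decide)
    · rw [e0]; exact y.injective.ne (by decide)
  · intro y hy z hz h
    obtain ⟨h0, h2⟩ := Prod.mk.injEq .. ▸ h
    have hy' : Pat a tau y := (mem_filter.1 hy).2
    have hz' : Pat a tau z := (mem_filter.1 hz).2
    ext i
    fin_cases i
    · exact h0
    · have := hy' 0; have := hz' 0; simp_all [tau, Equiv.swap_apply_def]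
    · exact h2
    · have := hy' 2; have := hz' 2; simp_all [tau, Equiv.swap_apply_def]
  · rintro ⟨p, q⟩ hpq
    simp only [mem_filter, mem_product, hM, mem_univ, true_and] at hpq
    obtain ⟨⟨hp, hq⟩, hqp, hqap⟩ := hpq
    refine ⟨mk4 p (a p) q (a q) ⟨Ne.symm hp, Ne.symm hqp, ?_, Ne.symm hqap,
      fun h => hqp (a.injective h).symm, Ne.symm hq⟩, mem_filter.2 ⟨mem_univ _, ?_⟩, rfl⟩
    · intro h; apply hqap; rw [h, inv_apply ha]
    · exact tau_mk ha _

lemma count_sigT {a : Perm α} (ha : a * a = 1) :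
    Nat.card {y : Fin 4 ↪ α // Pat a sigT y}
      = ((fixSet a).card * (fixSet a).card - (fixSet a).card) * (movSet a).card := by
  classical
  rw [Nat.card_eq_fintype_card, Fintype.card_subtype, ← Finset.offDiag_card, ← card_product]
  refine Finset.card_bij (fun y _ => ((y 0, y 1), y 2)) ?_ ?_ ?_
  · intro y hy
    have hy' : Pat a sigT y := (mem_filter.1 hy).2
    have e0 : a (y 0) = y 0 := by simpa [sigT, Equiv.swap_apply_def] using hy' 0
    have e1 : a (y 1) = y 1 := by simpa [sigT, Equiv.swap_apply_def] using hy' 1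
    have e2 : a (y 2) = y 3 := by simpa [sigT, Equiv.swap_apply_def] using hy' 2
    simp only [mem_product, mem_offDiag, mem_filter, mem_univ, true_and]
    exact ⟨⟨e0, e1, y.injective.ne (by decide)⟩, by rw [e2]; exact y.injective.ne (by decide)⟩
  · intro y hy z hz h
    have h0 : y 0 = z 0 := congrArg (fun t => t.1.1) h
    have h1 : y 1 = z 1 := congrArg (fun t => t.1.2) h
    have h2 : y 2 = z 2 := congrArg (fun t => t.2) h
    have hy' : Pat a sigT y := (mem_filter.1 hy).2
    have hz' : Pat a sigT z := (mem_filter.1 hz).2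
    ext i
    fin_cases i
    · exact h0
    · exact h1
    · exact h2
    · have := hy' 2; have := hz' 2; simp_all [sigT, Equiv.swap_apply_def]
  · rintro ⟨⟨p, q⟩, r⟩ h
    simp only [mem_product, mem_offDiag, mem_filter, mem_univ, true_and] at h
    obtain ⟨⟨hp, hq, hpq⟩, hr⟩ := h
    refine ⟨mk4 p q r (a r) ⟨hpq, fun e => hr (e ▸ hp), fun e => hr ?_,
      fun e => hr (e ▸ hq), fun e => hr ?_, Ne.symm hr⟩, mem_filter.2 ⟨mem_univ _, ?_⟩, rfl⟩
    · exact a.injective (e ▸ hp)
    · exact a.injective (e ▸ hq)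
    · intro i
      fin_cases i <;> simp [mk4_apply, sigT, Equiv.swap_apply_def, inv_apply ha, hp, hq]

lemma count_two {a u : Perm α} (ha : a * a = 1) (hau : a * u = u * a) :
    Nat.card {y : Fin 4 ↪ α // Pat a tau y ∧ Pat u sigT y}
      = ((movSet a).filter (fun p => u p = p)).card
        * ((movSet a).filter (fun p => u p = a p)).card := by
  classical
  have hau' : ∀ p, a (u p) = u (a p) := fun p => congrFun (congrArg DFunLike.coe hau) p
  rw [Nat.card_eq_fintype_card, Fintype.card_subtype, ← card_product]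
  refine Finset.card_bij (fun y _ => (y 0, y 2)) ?_ ?_ ?_
  · intro y hy
    obtain ⟨hy', hyu⟩ := (mem_filter.1 hy).2
    have e0 : a (y 0) = y 1 := by simpa [tau, Equiv.swap_apply_def] using hy' 0
    have e2 : a (y 2) = y 3 := by simpa [tau, Equiv.swap_apply_def] using hy' 2
    have u0 : u (y 0) = y 0 := by simpa [sigT, Equiv.swap_apply_def] using hyu 0
    have u2 : u (y 2) = y 3 := by simpa [sigT, Equiv.swap_apply_def] using hyu 2
    simp only [mem_filter, mem_product, mem_univ, true_and]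
    refine ⟨⟨?_, u0⟩, ?_, by rw [u2, e2]⟩
    · rw [e0]; exact y.injective.ne (by decide)
    · rw [e2]; exact y.injective.ne (by decide)
  · intro y hy z hz h
    obtain ⟨h0, h2⟩ := Prod.mk.injEq .. ▸ h
    obtain ⟨hy', -⟩ := (mem_filter.1 hy).2
    obtain ⟨hz', -⟩ := (mem_filter.1 hz).2
    ext i
    fin_cases i
    · exact h0
    · have := hy' 0; have := hz' 0; simp_all [tau, Equiv.swap_apply_def]
    · exact h2
    · have := hy' 2; have := hz' 2; simp_all [tau, Equiv.swap_apply_def]
  · rintro ⟨p, q⟩ hpq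
    simp only [mem_filter, mem_product, mem_univ, true_and] at hpq
    obtain ⟨⟨hp, hup⟩, hq, huq⟩ := hpq
    have hqp : q ≠ p := fun e => hp (by rw [e, hup] at huq; exact huq.symm)
    have hqap : q ≠ a p := by
      intro e
      apply hp
      have : u q = a p := by rw [e, ← hau', hup]
      rw [huq, e, inv_apply ha] at this
      exact this.symm
    refine ⟨mk4 p (a p) q (a q) ⟨Ne.symm hp, Ne.symm hqp, ?_, Ne.symm hqap,
      fun h => hqp (a.injective h).symm, Ne.symm hq⟩, mem_filter.2 ⟨mem_univ _, tau_mk ha _, ?_⟩,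
      rfl⟩
    · intro h; apply hqap; rw [h, inv_apply ha]
    · intro i
      fin_cases i <;>
        simp [mk4_apply, sigT, Equiv.swap_apply_def, hup, huq, ← hau', inv_apply ha]

lemma count_other {a u : Perm α} (ha : a * a = 1) (hu : u * u = 1) (hau : a * u = u * a) :
    Nat.card {y : Fin 4 ↪ α // Pat a tau y ∧ Pat u sigB y}
      = ((movSet a).filter (fun p => u p ≠ p ∧ u p ≠ a p)).card := by
  classical
  have hau' : ∀ p, a (u p) = u (a p) := fun p => congrFun (congrArg DFunLike.coe hau) p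
  rw [Nat.card_eq_fintype_card, Fintype.card_subtype]
  refine Finset.card_bij (fun y _ => y 0) ?_ ?_ ?_
  · intro y hy
    obtain ⟨hy', hyu⟩ := (mem_filter.1 hy).2
    have e0 : a (y 0) = y 1 := by simpa [tau, Equiv.swap_apply_def] using hy' 0
    have u0 : u (y 0) = y 2 := by simpa [sigB, Equiv.swap_apply_def] using hyu 0
    simp only [mem_filter, mem_univ, true_and]
    refine ⟨?_, ?_, ?_⟩
    · rw [e0]; exact y.injective.ne (by decide)
    · rw [u0]; exact y.injective.ne (by decide)
    · rw [u0, e0]; exact y.injective.ne (by decide)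
  · intro y hy z hz h0
    obtain ⟨hy', hyu⟩ := (mem_filter.1 hy).2
    obtain ⟨hz', hzu⟩ := (mem_filter.1 hz).2
    have e2 : y 2 = z 2 := by
      have := hyu 0; have := hzu 0; simp_all [sigB, Equiv.swap_apply_def]
    ext i
    fin_cases i
    · exact h0
    · have := hy' 0; have := hz' 0; simp_all [tau, Equiv.swap_apply_def]
    · exact e2
    · have := hy' 2; have := hz' 2; simp_all [tau, Equiv.swap_apply_def]
  · intro p hp
    simp only [mem_filter, mem_univ, true_and] at hp
    obtain ⟨hp, hup, huap⟩ := hp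
    refine ⟨mk4 p (a p) (u p) (a (u p)) ⟨Ne.symm hp, Ne.symm hup, ?_, Ne.symm huap,
      fun h => hup (a.injective h).symm, ?_⟩, mem_filter.2 ⟨mem_univ _, tau_mk ha _, ?_⟩, rfl⟩
    · intro h; apply huap
      calc u p = a (a (u p)) := (inv_apply ha _).symm
        _ = a p := by rw [← h]
    · intro h; apply hp
      rw [hau'] at h
      exact (u.injective h).symm
    · intro i
      fin_cases i <;>
        simp [mk4_apply, sigB, Equiv.swap_apply_def, inv_apply hu, hau']

set_option maxHeartbeats 1600000 in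
theorem core (G : Subgroup (Perm α)) (hG : MulAction.IsMultiplyPretransitive G α 4)
    (x : Fin 4 ↪ α) (hodd : Odd (Nat.card (MulAction.stabilizer G x))) :
    ((Fintype.card α = 4 ∨ Fintype.card α = 5) ∧ G = ⊤) ∨
      ((Fintype.card α = 6 ∨ Fintype.card α = 7) ∧ G = alternatingGroup α) ∨
      (Fintype.card α = 11 ∧ Nat.card G = 7920) := by
  classical
  set H := G ⊓ fix4 x with hH
  have hHo : Odd (Nat.card H) := by rw [hH, ← card_stab]; exact hodd
  have hT0 : TransOn G (fun _ => True) := by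
    refine ⟨fun y z _ _ => ?_, fun _ _ _ _ _ _ => trivial⟩
    obtain ⟨g, hg⟩ := hG.exists_smul_eq y z
    exact ⟨g, g.2, fun i => congrArg (fun e : Fin 4 ↪ α => e i) hg⟩
  have hGcard : Nat.card G = (Fintype.card α).descFactorial 4 * Nat.card H := by
    rw [card_orbit hT0 (x := x) trivial, Nat.card_congr (Equiv.subtypeUnivEquiv fun _ => trivial),
      Nat.card_eq_fintype_card, Fintype.card_embedding_eq, Fintype.card_fin]
  have hGdvd : Nat.card G ∣ (Fintype.card α).factorial := by
    have := G.card_subgroup_dvd_card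
    rwa [Nat.card_eq_fintype_card (α := Perm α), Fintype.card_perm] at this
  rw [hGcard] at hGdvd
  set n := Fintype.card α with hn
  have hd : ∀ k, n = k → Nat.card G = k.descFactorial 4 * Nat.card H ∧
      k.descFactorial 4 * Nat.card H ≤ k.factorial := fun k hk =>
    hk ▸ ⟨hGcard, Nat.le_of_dvd (Nat.factorial_pos _) hGdvd⟩
  have hn4 : 4 ≤ n := by simpa using Fintype.card_le_of_embedding x
  have htop : Nat.card G = n.factorial → G = ⊤ := fun h => by
    refine Subgroup.eq_top_of_card_eq G ?_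
    rw [h, Nat.card_eq_fintype_card, Fintype.card_perm]
  have halt : 2 * Nat.card G = n.factorial → G = alternatingGroup α := fun h => by
    refine Equiv.Perm.eq_alternatingGroup_of_index_eq_two ?_
    have := G.index_mul_card
    rw [Nat.card_eq_fintype_card (α := Perm α), Fintype.card_perm, ← hn, ← h] at this
    exact Nat.eq_of_mul_eq_mul_right Nat.card_pos this
  -- small degrees
  by_cases h5 : n ≤ 5
  · left
    refine ⟨by omega, htop ?_⟩
    have := Nat.card_pos (α := H)
    rcases (show n = 4 ∨ n = 5 by omega) with h | h <;> obtain ⟨e1, e2⟩ := hd _ h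
    · rw [h, show Nat.factorial 4 = 24 by decide]
      rw [show Nat.descFactorial 4 4 = 24 by decide] at e1 e2
      rw [show Nat.factorial 4 = 24 by decide] at e2
      omega
    · rw [h, show Nat.factorial 5 = 120 by decide]
      rw [show Nat.descFactorial 5 4 = 120 by decide] at e1 e2
      rw [show Nat.factorial 5 = 120 by decide] at e2
      omega
  by_cases h6 : n = 6
  · right; left
    refine ⟨Or.inl h6, halt ?_⟩
    obtain ⟨e1, e2⟩ := hd _ h6
    rw [h6, show Nat.factorial 6 = 720 by decide]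
    rw [show Nat.descFactorial 6 4 = 360 by decide] at e1 e2
    rw [show Nat.factorial 6 = 720 by decide] at e2
    obtain ⟨m, hm⟩ := hHo
    omega
  have hn7 : 7 ≤ n := by omega
  -- odd four point stabilisers
  have hO : Odd4 G := by
    intro y g hg hgy
    obtain ⟨k, hk, hk'⟩ := hT0.1 x y trivial trivial
    have hmem : k⁻¹ * g * k ∈ H := by
      refine Subgroup.mem_inf.2 ⟨mul_mem (mul_mem (inv_mem hk) hg) hk, mem_fix4.2 fun i => ?_⟩
      rw [Perm.mul_apply, Perm.mul_apply, hk', mem_fix4.1 hgy i, ← hk']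
      exact k.symm_apply_apply _
    have := odd_orderOf_of_mem hHo hmem
    have e : orderOf (k⁻¹ * g * k) = orderOf g := by
      have := MulEquiv.orderOf_eq (MulAut.conj k⁻¹) g
      simpa using this
    rwa [e] at this
  -- an involution fixes at most three points
  have hfix3 : ∀ u ∈ G, u * u = 1 → u ≠ 1 → (fixSet u).card ≤ 3 := by
    intro u hu hu2 hu1
    by_contra hc
    obtain ⟨s, hs, hs4⟩ := Finset.exists_subset_card_eq (show 4 ≤ (fixSet u).card by omega)
    let y : Fin 4 ↪ α :=
      (Fintype.equivFinOfCardEq (α := ↥s) (by simpa using hs4)).symm.toEmbedding.trans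
        (Function.Embedding.subtype _)
    have hy : u ∈ fix4 y := mem_fix4.2 fun i =>
      (mem_filter.1 (hs ((Fintype.equivFinOfCardEq (α := ↥s) (by simpa using hs4)).symm i).2)).2
    exact hu1 (eq_one_of_mul_self (hO y u hu hy) hu2)
  -- the involution `a`
  obtain ⟨a, haG, ha2, hax⟩ := exists_involution hO le_rfl hT0 (x := x) trivial
    (σ := tau) (by decide) trivial
  set K := G ⊓ cent a with hK
  have hKG : K ≤ G := inf_le_left
  have hT1 : TransOn K (fun y => True ∧ Pat a tau y) := transOn_cent hO le_rfl hT0 haG ha2 tau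
  have hcomm : ∀ σ : Perm (Fin 4), (∀ i, tau (σ i) = σ (tau i)) →
      (fun y => True ∧ Pat a tau y) (σ.toEmbedding.trans x) := fun σ hσ =>
    ⟨trivial, fun i => by simp [hax (σ i), hσ i]⟩
  obtain ⟨t, htK, ht2, htx⟩ := exists_involution hO hKG hT1 (x := x) ⟨trivial, hax⟩
    (σ := sigT) (by decide) (hcomm _ (by decide))
  obtain ⟨b, hbK, hb2, hbx⟩ := exists_involution hO hKG hT1 (x := x) ⟨trivial, hax⟩
    (σ := sigB) (by decide) (hcomm _ (by decide))
  have hat : a * t = t * a := mem_cent.1 htK.2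
  have hab : a * b = b * a := mem_cent.1 hbK.2
  have hat2 : (a * t) * (a * t) = 1 := by
    rw [mul_assoc, ← mul_assoc t, ← hat, mul_assoc a t t, ht2, mul_one, ha2]
  have hab2 : (a * b) * (a * b) = 1 := by
    rw [mul_assoc, ← mul_assoc b, ← hab, mul_assoc a b b, hb2, mul_one, ha2]
  have hne1 : ∀ (u : Perm α) (σ : Perm (Fin 4)), Pat u σ x → σ ≠ 1 → u ≠ 1 := by
    intro u σ hu hσ h
    subst h
    exact hσ (Equiv.ext fun i => (x.injective (by simpa using hu i)).symm)
  -- all involutions are conjugate to `a`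
  have hconj : ∀ u ∈ G, u * u = 1 → u ≠ 1 → ∃ g ∈ G, g * a * g⁻¹ = u := by
    intro u hu hu2 hu1
    have hM : 4 ≤ (movSet u).card := by
      have := hfix3 u hu hu2 hu1; have := fix_add_mov u; omega
    obtain ⟨p, hp⟩ := Finset.card_pos.1 (show 0 < (movSet u).card by omega)
    have hne : (((movSet u).erase p).erase (u p)).Nonempty := by
      rw [← Finset.card_pos]
      have h1 := Finset.pred_card_le_card_erase (s := movSet u) (a := p)
      have h2 := Finset.pred_card_le_card_erase (s := (movSet u).erase p) (a := u p)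
      omega
    obtain ⟨q, hq⟩ := hne
    simp only [mem_erase, mem_filter, mem_univ, true_and] at hp hq
    obtain ⟨hqup, hqp, hq'⟩ := hq
    obtain ⟨g, hg, hgu, -⟩ := conj_pattern hO le_rfl hT0 haG hu ha2 hu2 (σ := tau) (x := x)
      (y := mk4 p (u p) q (u q) ⟨Ne.symm hp, Ne.symm hqp,
        fun h => hqup (by rw [h, inv_apply hu2]), Ne.symm hqup,
        fun h => hqp (u.injective h).symm, Ne.symm hq'⟩)
      trivial trivial hax (tau_mk hu2 _)
    exact ⟨g, hg, hgu⟩
  set f := (fixSet a).card with hf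
  set M := (movSet a).card with hM
  have hfeq : ∀ u ∈ G, u * u = 1 → u ≠ 1 → (fixSet u).card = f := by
    intro u hu hu2 hu1
    obtain ⟨g, hg, hgu⟩ := hconj u hu hu2 hu1
    subst hgu
    refine (Finset.card_bij (fun p _ => g p) ?_ (fun _ _ _ _ h => g.injective h) ?_).symm
    · intro p hp
      simp only [mem_filter, mem_univ, true_and] at hp ⊢
      simp [hp]
    · intro p hp
      simp only [mem_filter, mem_univ, true_and] at hp
      refine ⟨g.symm p, ?_, by simp⟩
      simp only [mem_filter, mem_univ, true_and]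
      apply g.injective
      simpa using hp
  have hfM : f + M = n := fix_add_mov a
  have hf3 : f ≤ 3 := hfix3 a haG ha2 (hne1 a tau hax (by decide))
  have htG : t ∈ G := hKG htK
  have hbG : b ∈ G := hKG hbK
  have ht1 : t ≠ 1 := hne1 t sigT htx (by decide)
  have hatx : Pat (a * t) sigAT x := fun i => by
    rw [Perm.mul_apply, htx, hax]
    exact congrArg x ((show ∀ i, tau (sigT i) = sigAT i by decide) i)
  have habx : Pat (a * b) (tau * sigB) x := fun i => by rw [Perm.mul_apply, hbx, hax]; rfl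
  have hat1 : a * t ≠ 1 := hne1 _ _ hatx (by decide)
  have hax0 : ∀ i, a (x i) ≠ x i := fun i => by
    rw [hax i]; refine x.injective.ne ?_; revert i; decide
  -- an involution centralising `a` and fixing a moved pair
  have hpair : ∀ u ∈ G, u * u = 1 → u ≠ 1 → a * u = u * a → ∀ p, a p ≠ p → u p = p →
      ((movSet a).filter (fun p => u p = p)).card = 2 ∧ 2 ≤ f ∧
      ((fixSet a).filter (fun p => u p = p)).card + 2 = f := by
    intro u hu hu2 hu1 hau p hp hup
    have hau' : ∀ p, a (u p) = u (a p) := fun p => congrFun (congrArg DFunLike.coe hau) p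
    set S := (movSet a).filter (fun p => u p = p) with hS
    have hS2 : 2 ≤ S.card := by
      refine Finset.one_lt_card.2 ⟨p, ?_, a p, ?_, Ne.symm hp⟩
      · simp [hS, hp, hup]
      · simp [hS, ← hau', hup, hp]
    have hSe : Even S.card := by
      refine even_card_of_involution ha2 (fun q hq => ?_) fun q hq => ?_
      · simp only [hS, mem_filter, mem_univ, true_and] at hq ⊢
        exact ⟨fun h => hq.1 (a.injective h), by rw [← hau', hq.2]⟩
      · simp only [hS, mem_filter, mem_univ, true_and] at hq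
        exact hq.1
    have e := Finset.card_filter_add_card_filter_not (s := fixSet u) (fun p => a p = p)
    rw [hfeq u hu hu2 hu1] at e
    have e1 : (fixSet u).filter (fun p => a p = p) = (fixSet a).filter (fun p => u p = p) := by
      ext q; simp [and_comm]
    have e2 : (fixSet u).filter (fun p => ¬ a p = p) = S := by
      ext q; simp [hS, and_comm]
    rw [e1, e2] at e
    obtain ⟨c, hc⟩ := hSe
    omega
  obtain ⟨hSt, hf2, htF⟩ := hpair t htG ht2 ht1 hat (x 0) (hax0 0)
    (by rw [htx]; rfl)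
  obtain ⟨hSat, -, hatF⟩ := hpair (a * t) (mul_mem haG htG) hat2 hat1
    (by rw [mul_assoc a t a, ← hat]) (x 2) (hax0 2) (by rw [hatx]; rfl)
  have hSg : ((movSet a).filter (fun p => t p = a p)).card = 2 := by
    rw [← hSat]; congr 1
    refine Finset.filter_congr fun q _ => ?_
    rw [Perm.mul_apply]
    exact ⟨fun h => by rw [h, inv_apply ha2], fun h => by rw [← inv_apply ha2 (t q), h]⟩
  have hMeven : Even M := mov_even ha2
  -- stabiliser orders
  set A := Nat.card ↥(G ⊓ cent a ⊓ fix4 x) with hAdef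
  set T := Nat.card ↥(G ⊓ cent t ⊓ fix4 x) with hTdef
  set W := Nat.card ↥(K ⊓ cent t ⊓ fix4 x) with hWdef
  set V := Nat.card ↥(K ⊓ cent b ⊓ fix4 x) with hVdef
  have hApos : 0 < A := Nat.card_pos
  have hTpos : 0 < T := Nat.card_pos
  have hWpos : 0 < W := Nat.card_pos
  have hVpos : 0 < V := Nat.card_pos
  -- the centralisers of `a` and `t`
  have E1 : (M * M - 2 * M) * A = (f * f - f) * M * T := by
    obtain ⟨g, hg, hga⟩ := hconj t htG ht2 ht1
    have hTT : TransOn (G ⊓ cent t) (fun y => True ∧ Pat t sigT y) :=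
      transOn_cent hO le_rfl hT0 htG ht2 sigT
    have c1 := card_orbit hT1 (x := x) ⟨trivial, hax⟩
    have c2 := card_orbit hTT (x := x) ⟨trivial, htx⟩
    have c3 : Nat.card ↥(G ⊓ cent a) = Nat.card ↥(G ⊓ cent t) := by
      refine Nat.card_congr ((MulAut.conj g).toEquiv.subtypeEquiv fun c => ?_)
      simp only [MulEquiv.toEquiv_eq_coe, MulEquiv.coe_toEquiv, MulAut.conj_apply,
        Subgroup.mem_inf, mem_cent, ← hga]
      refine and_congr ⟨fun h => mul_mem (mul_mem hg h) (inv_mem hg), fun h => ?_⟩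
        ⟨fun h => ?_, fun h => ?_⟩
      · have := mul_mem (mul_mem (inv_mem hg) h) hg
        simpa [mul_assoc] using this
      · calc g * a * g⁻¹ * (g * c * g⁻¹) = g * (a * c) * g⁻¹ := by group
          _ = g * (c * a) * g⁻¹ := by rw [h]
          _ = _ := by group
      · calc a * c = g⁻¹ * (g * a * g⁻¹ * (g * c * g⁻¹)) * g := by group
          _ = g⁻¹ * (g * c * g⁻¹ * (g * a * g⁻¹)) * g := by rw [h]
          _ = _ := by group
    simp only [true_and] at c1 c2
    rw [← hK, c1, c2] at c3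
    have d1 := count_tau ha2
    rw [← hM] at d1
    have d2 := count_sigT ht2
    have ef : (fixSet t).card = f := hfeq t htG ht2 ht1
    have eM : (movSet t).card = M := by have := fix_add_mov t; omega
    rw [ef, eM] at d2
    rw [d2, ← hTdef] at c3
    rw [show Nat.card {y : Fin 4 ↪ α // Pat a tau y} = M * M - 2 * M by omega] at c3
    exact c3
  -- Brauer's formula for the two four-groups
  have hnorm : ∀ (u : Perm α) (σ : Perm (Fin 4)), u ∈ G → Pat u σ x → σ * σ = 1 →
      ∀ c ∈ H, u * c * u⁻¹ ∈ H := by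
    intro u σ hu hux hσ c hc
    refine Subgroup.mem_inf.2 ⟨mul_mem (mul_mem hu hc.1) (inv_mem hu), mem_fix4.2 fun i => ?_⟩
    have hσ' : σ (σ i) = i := congrFun (congrArg DFunLike.coe hσ) i
    have e : u⁻¹ (x i) = x (σ i) := by
      rw [Perm.inv_eq_iff_eq, hux, hσ']
    rw [Perm.mul_apply, Perm.mul_apply, e, mem_fix4.1 hc.2, hux, hσ']
  have hmemH : ∀ (u c : Perm α), c ∈ G ⊓ cent u ⊓ fix4 x ↔ c ∈ H ∧ u * c = c * u := by
    intro u c; simp only [hH, Subgroup.mem_inf, mem_cent]; tauto
  have hmemK : ∀ (u c : Perm α),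
      c ∈ K ⊓ cent u ⊓ fix4 x ↔ c ∈ H ∧ a * c = c * a ∧ u * c = c * u := by
    intro u c; simp only [hH, hK, Subgroup.mem_inf, mem_cent]; tauto
  have hfixperm : ∀ π : Perm (Fin 4), fix4 (π.toEmbedding.trans x) = fix4 x := by
    intro π; ext c
    simp only [mem_fix4, Function.Embedding.trans_apply, Equiv.coe_toEmbedding]
    exact π.forall_congr_right (q := fun i => c (x i) = x i)
  have hsame : ∀ (u v : Perm α) (σ ρ π : Perm (Fin 4)), u ∈ G → v ∈ G → u * u = 1 → v * v = 1 →
      Pat u σ x → Pat v ρ x → (∀ i, ρ (π i) = π (σ i)) →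
      Nat.card ↥(G ⊓ cent u ⊓ fix4 x) = Nat.card ↥(G ⊓ cent v ⊓ fix4 x) := by
    intro u v σ ρ π hu hv hu2 hv2 hux hvx hπ
    have := card_stab_eq hO le_rfl hT0 hu hv hu2 hv2 (σ := σ) (x := x)
      (y := π.toEmbedding.trans x) trivial trivial hux
      (fun i => by simp [hvx (π i), hπ i])
    rwa [hfixperm] at this
  have B1 : Nat.card H * V ^ 2 = A ^ 3 := by
    rw [four_group_formula ha2 hb2 hab hHo (hnorm a tau haG hax (by decide))
      (hnorm b sigB hbG hbx (by decide)) (hmemH a) (hmemH b) (hmemH (a * b)) (hmemK b),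
      ← hsame a b tau sigB (swap 1 2) haG hbG ha2 hb2 hax hbx (by decide),
      ← hsame a (a * b) tau (tau * sigB) (swap 1 3) haG (mul_mem haG hbG) ha2 hab2 hax habx
        (by decide)]
    ring
  have B2 : Nat.card H * W ^ 2 = A * T ^ 2 := by
    rw [four_group_formula ha2 ht2 hat hHo (hnorm a tau haG hax (by decide))
      (hnorm t sigT htG htx (by decide)) (hmemH a) (hmemH t) (hmemH (a * t)) (hmemK t),
      ← hsame t (a * t) sigT sigAT (swap 0 2 * swap 1 3) htG (mul_mem haG htG) ht2 hat2 htx hatx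
        (by decide)]
    ring
  have hh : 0 < Nat.card H := Nat.card_pos
  have B3 : W * A = T * V := by
    have h1 : A * (W * A) ^ 2 = A * (T * V) ^ 2 := by
      calc A * (W * A) ^ 2 = W ^ 2 * A ^ 3 := by ring
        _ = V ^ 2 * (Nat.card H * W ^ 2) := by rw [← B1]; ring
        _ = _ := by rw [B2]; ring
    exact Nat.pow_left_injective (by norm_num) (Nat.eq_of_mul_eq_mul_left hApos h1)
  by_cases h7 : n = 7
  · right; left
    refine ⟨Or.inr h7, halt ?_⟩
    obtain ⟨c, hc⟩ := hMeven
    have hf' : f = 3 := by omega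
    have hM' : M = 4 := by omega
    rw [hf', hM'] at E1
    have hA3 : 3 ∣ Nat.card H := by
      have h1 : A ∣ Nat.card H :=
        Subgroup.card_dvd_of_le (fun c hc => ((hmemH a c).1 hc).1)
      exact (Dvd.intro T (by omega : 3 * T = A)).trans h1
    have h2 := Nat.le_of_dvd hh hA3
    obtain ⟨e1, h3⟩ := hd _ h7
    rw [h7, show Nat.factorial 7 = 5040 by decide]
    rw [show Nat.descFactorial 7 4 = 840 by decide] at e1 h3
    rw [show Nat.factorial 7 = 5040 by decide] at h3
    obtain ⟨k, hk⟩ := hHo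
    obtain ⟨l, hl⟩ := hA3
    omega
  -- now `n ≥ 8`
  set So := (movSet a).filter (fun p => t p ≠ p ∧ t p ≠ a p) with hSo
  have hSo4 : So.card + 4 = M := by
    have e1 := Finset.card_filter_add_card_filter_not (s := movSet a) (fun p => t p = p)
    have e2 := Finset.card_filter_add_card_filter_not
      (s := (movSet a).filter (fun p => ¬ t p = p)) (fun p => t p = a p)
    rw [Finset.filter_filter (fun p => ¬ t p = p), Finset.filter_filter (fun p => ¬ t p = p)] at e2
    have e3 : (movSet a).filter (fun p => ¬ t p = p ∧ t p = a p)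
        = (movSet a).filter (fun p => t p = a p) := by
      refine Finset.filter_congr fun q hq => ⟨fun h => h.2, fun h => ⟨?_, h⟩⟩
      rw [h]; exact (mem_filter.1 hq).2
    have e4 : (movSet a).filter (fun p => ¬ t p = p ∧ ¬ t p = a p) = So := rfl
    rw [e3, hSg, e4] at e2
    rw [hSt] at e1
    omega
  obtain ⟨p, hpSo⟩ := Finset.card_pos.1 (show 0 < So.card by
    obtain ⟨c, hc⟩ := hMeven; omega)
  have hp : a p ≠ p ∧ t p ≠ p ∧ t p ≠ a p := by simpa [hSo] using hpSo
  have hat' : ∀ q, a (t q) = t (a q) := fun q => congrFun (congrArg DFunLike.coe hat) q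
  have E2 : 4 * W = So.card * V := by
    have hT2 : ∀ σ, TransOn (K ⊓ cent t) (fun y => (True ∧ Pat a tau y) ∧ Pat t σ y) :=
      fun σ => transOn_cent hO hKG hT1 htK ht2 σ
    let y : Fin 4 ↪ α := mk4 p (a p) (t p) (a (t p)) ⟨Ne.symm hp.1, Ne.symm hp.2.1,
      fun h => hp.2.2 (by nth_rewrite 2 [h]; rw [inv_apply ha2]), Ne.symm hp.2.2,
      fun h => hp.2.1 (a.injective h).symm,
      fun h => hp.1 (t.injective (by rw [← hat', ← h]))⟩
    have hy1 : True ∧ Pat a tau y := ⟨trivial, tau_mk ha2 _⟩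
    have hy2 : Pat t sigB y := fun i => by
      fin_cases i <;> simp [y, mk4_apply, sigB, Equiv.swap_apply_def, inv_apply ht2, hat']
    have c1 := card_orbit (hT2 sigT) (x := x) ⟨⟨trivial, hax⟩, htx⟩
    have c2 := card_orbit (hT2 sigB) (x := y) ⟨hy1, hy2⟩
    have c3 : Nat.card ↥(K ⊓ cent t ⊓ fix4 y) = V :=
      card_stab_eq hO hKG hT1 htK hbK ht2 hb2 hy1 ⟨trivial, hax⟩ hy2 hbx
    simp only [true_and] at c1 c2
    rw [c1, c3, count_two ha2 hat, count_other ha2 ht2 hat, hSt, hSg, ← hSo] at c2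
    exact c2
  have hfM' : f = 3 ∧ So.card = 4 ∧ A = T := by
    obtain ⟨s, hs⟩ : ∃ s, s = So.card := ⟨_, rfl⟩
    have hMs : M = s + 4 := by omega
    rw [← hs] at E2 ⊢
    have e3 : s * A = 4 * T := by
      refine Nat.eq_of_mul_eq_mul_right hVpos ?_
      calc s * A * V = (s * V) * A := by ring
        _ = 4 * (W * A) := by rw [← E2]; ring
        _ = _ := by rw [B3]; ring
    rcases (show f = 2 ∨ f = 3 by omega) with h | h
    · exfalso
      rw [h, hMs] at E1
      have e4 : (s + 2) * A = 2 * T := by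
        refine Nat.eq_of_mul_eq_mul_left (show 0 < s + 4 by omega) ?_
        have : (s + 4) * (s + 4) - 2 * (s + 4) = (s + 4) * (s + 2) := by
          rw [Nat.sub_eq_iff_eq_add (Nat.mul_le_mul_right _ (by omega))]; ring
        rw [this, show (2 * 2 - 2 : ℕ) = 2 from rfl] at E1
        calc (s + 4) * ((s + 2) * A) = (s + 4) * (s + 2) * A := by ring
          _ = _ := by rw [E1]; ring
      have : (2 * (s + 2)) * A = s * A := by rw [mul_assoc, e4, e3]; ring
      have := Nat.eq_of_mul_eq_mul_right hApos this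
      omega
    · rw [h, hMs] at E1
      have e4 : (s + 2) * A = 6 * T := by
        refine Nat.eq_of_mul_eq_mul_left (show 0 < s + 4 by omega) ?_
        have : (s + 4) * (s + 4) - 2 * (s + 4) = (s + 4) * (s + 2) := by
          rw [Nat.sub_eq_iff_eq_add (Nat.mul_le_mul_right _ (by omega))]; ring
        rw [this, show (3 * 3 - 3 : ℕ) = 6 from rfl] at E1
        calc (s + 4) * ((s + 2) * A) = (s + 4) * (s + 2) * A := by ring
          _ = _ := by rw [E1]; ring
      have hs4 : s = 4 := by
        have : (2 * (s + 2)) * A = (3 * s) * A := by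
          rw [mul_assoc, e4, mul_assoc, e3]; ring
        have := Nat.eq_of_mul_eq_mul_right hApos this
        omega
      subst hs4
      exact ⟨h, rfl, by omega⟩
  obtain ⟨hf', hSo', hAT⟩ := hfM'
  have hn11 : n = 11 := by omega
  right; right
  refine ⟨hn11, ?_⟩
  -- the centraliser of the four-group `⟨a,t⟩` in `H` is trivial
  have hSoeq : So = {p, a p, t p, a (t p)} := by
    refine (Finset.eq_of_subset_of_card_le ?_ ?_).symm
    · have hcl : ∀ q ∈ So, a q ∈ So ∧ t q ∈ So := by
        intro q hq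
        simp only [hSo, mem_filter, mem_univ, true_and] at hq ⊢
        refine ⟨⟨fun h => hq.1 (a.injective h), fun h => hq.2.1 ?_, fun h => hq.2.2 ?_⟩,
          fun h => hq.1 ?_, fun h => hq.2.1 (t.injective h), fun h => hq.2.2 ?_⟩
        · rw [← hat'] at h; exact a.injective h
        · rw [← hat'] at h; exact a.injective h
        · rw [hat'] at h; exact t.injective h
        · rw [hat'] at h; exact t.injective h
      obtain ⟨h1, h2⟩ := hcl p hpSo
      intro q hq
      simp only [mem_insert, Finset.mem_singleton] at hq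
      rcases hq with rfl | rfl | rfl | rfl
      exacts [hpSo, h1, h2, (hcl _ h2).1]
    · rw [hSo']
      refine le_of_eq (Eq.symm ?_)
      rw [Finset.card_insert_of_notMem, Finset.card_insert_of_notMem, Finset.card_pair]
      · exact fun h => hp.1 (t.injective (by rw [← hat', ← h]))
      · simp only [mem_insert, Finset.mem_singleton, not_or]
        exact ⟨Ne.symm hp.2.2, fun h => hp.2.1 (a.injective h).symm⟩
      · simp only [mem_insert, Finset.mem_singleton, not_or]
        exact ⟨Ne.symm hp.1, Ne.symm hp.2.1,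
          fun h => hp.2.2 (by nth_rewrite 2 [h]; rw [inv_apply ha2])⟩
  have hW1 : W = 1 := by
    rw [hWdef, Nat.card_eq_one_iff_unique]
    refine ⟨⟨fun ⟨c, hc⟩ ⟨d, hd⟩ => Subtype.ext ?_⟩, ⟨1⟩⟩
    suffices h : ∀ c ∈ K ⊓ cent t ⊓ fix4 x, c = 1 by exact (h c hc).trans (h d hd).symm
    intro c hc
    obtain ⟨hcH, hca, hct⟩ := (hmemK t c).1 hc
    refine eq_one_of_mul_self (odd_orderOf_of_mem hHo hcH) (Equiv.ext fun q => ?_)
    rw [Perm.mul_apply, Perm.one_apply]
    have hca' : ∀ q, a (c q) = c (a q) := fun q => congrFun (congrArg DFunLike.coe hca) q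
    have hct' : ∀ q, t (c q) = c (t q) := fun q => congrFun (congrArg DFunLike.coe hct) q
    have hcx := mem_fix4.1 hcH.2
    by_cases hq : a q = q
    · -- `t` fixes one point of `fixSet a`, which `c` fixes; `c` permutes the other two
      set F1 := (fixSet a).filter (fun p => ¬ t p = p) with hF1
      set F0 := (fixSet a).filter (fun p => t p = p) with hF0
      have e := Finset.card_filter_add_card_filter_not (s := fixSet a) (fun p => t p = p)
      rw [← hF0, ← hF1, ← hf] at e
      have hF01 : F0.card = 1 := by omega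
      have hF12 : F1.card = 2 := by omega
      by_cases htq : t q = q
      · obtain ⟨e0, he0⟩ := Finset.card_eq_one.1 hF01
        have k1 : q ∈ F0 := by simp [hF0, hq, htq]
        have k2 : c q ∈ F0 := by simp [hF0, hca', hq, hct', htq]
        rw [he0, Finset.mem_singleton] at k1 k2
        have k3 : c q = q := k2.trans k1.symm
        rw [k3, k3]
      · obtain ⟨u, v, huv, he1⟩ := Finset.card_eq_two.1 hF12
        have k1 : q ∈ F1 := by simp [hF1, hq, htq]
        have k2 : c q ∈ F1 := by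
          simp only [hF1, mem_filter, mem_univ, true_and]
          exact ⟨by rw [hca', hq], fun h => htq (c.injective (by rw [← hct', h]))⟩
        have k3 : c (c q) ∈ F1 := by
          simp only [hF1, mem_filter, mem_univ, true_and]
          exact ⟨by rw [hca', hca', hq], fun h =>
            htq (c.injective (c.injective (by rw [← hct', ← hct', h])))⟩
        simp only [he1, mem_insert, Finset.mem_singleton] at k1 k2 k3
        by_cases hcq : c q = q
        · rw [hcq, hcq]
        · have hcc : c (c q) ≠ c q := fun h => hcq (c.injective h)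
          grind
    · -- moved by `a`
      by_cases hq' : q ∈ So
      · have hcp : c p ∈ ({p, a p, t p, a (t p)} : Finset α) := by
          rw [← hSoeq, hSo]
          simp only [mem_filter, mem_univ, true_and]
          refine ⟨fun h => hp.1 ?_, fun h => hp.2.1 ?_, fun h => hp.2.2 ?_⟩
          · exact c.injective (by rw [← hca', h])
          · exact c.injective (by rw [← hct', h])
          · exact c.injective (by rw [← hct', ← hca', h])
        have hccp : c (c p) = p := by
          simp only [mem_insert, Finset.mem_singleton] at hcp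
          rcases hcp with h | h | h | h
          · rw [h, h]
          · rw [h, ← hca', h, inv_apply ha2]
          · rw [h, ← hct', h, inv_apply ht2]
          · rw [h, ← hca', ← hct', h, hat', inv_apply ha2, inv_apply ht2]
        rw [hSoeq] at hq'
        simp only [mem_insert, Finset.mem_singleton] at hq'
        rcases hq' with rfl | rfl | rfl | rfl
        · exact hccp
        · rw [← hca', ← hca', hccp]
        · rw [← hct', ← hct', hccp]
        · rw [← hca', ← hca', ← hct', ← hct', hccp]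
      · have hqM : q ∈ movSet a := by simp [hq]
        have hor : t q = q ∨ t q = a q := by
          simp only [hSo, mem_filter, mem_univ, true_and, not_and, not_not] at hq'
          tauto
        have hfixq : c q = q := by
          rcases hor with h | h
          · have k : ({x 0, x 1} : Finset α) = (movSet a).filter (fun p => t p = p) := by
              refine Finset.eq_of_subset_of_card_le ?_ ?_
              · intro z hz
                simp only [mem_insert, Finset.mem_singleton] at hz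
                rcases hz with rfl | rfl <;>
                  simp [hax0, htx _, sigT, Equiv.swap_apply_def]
              · rw [hSt, Finset.card_pair (x.injective.ne (by decide))]
            have hq2 : q ∈ ({x 0, x 1} : Finset α) := by rw [k]; simp [hq, h]
            simp only [mem_insert, Finset.mem_singleton] at hq2
            rcases hq2 with rfl | rfl <;> exact hcx _
          · have k : ({x 2, x 3} : Finset α) = (movSet a).filter (fun p => t p = a p) := by
              refine Finset.eq_of_subset_of_card_le ?_ ?_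
              · intro z hz
                simp only [mem_insert, Finset.mem_singleton] at hz
                rcases hz with rfl | rfl <;>
                  simp [hax0, htx _, hax _, sigT, tau, Equiv.swap_apply_def]
              · rw [hSg, Finset.card_pair (x.injective.ne (by decide))]
            have hq2 : q ∈ ({x 2, x 3} : Finset α) := by rw [k]; simp [hq, h]
            simp only [mem_insert, Finset.mem_singleton] at hq2
            rcases hq2 with rfl | rfl <;> exact hcx _
        rw [hfixq, hfixq]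
  have hh3 : Nat.card H = A ^ 3 := by
    rw [hW1, ← hAT, one_pow, mul_one] at B2
    rw [B2]; ring
  rw [hn11, show Nat.descFactorial 11 4 = 7920 by decide] at hGdvd hGcard
  rw [show Nat.factorial 11 = 7920 * 5040 by decide] at hGdvd
  have hd' := Nat.dvd_of_mul_dvd_mul_left (by norm_num) hGdvd
  have hA1 : A = 1 := by
    rw [hh3] at hd' hHo
    have hA18 : A ≤ 17 := by
      by_contra hc
      have := Nat.le_of_dvd (by norm_num) hd'
      have : 18 ^ 3 ≤ A ^ 3 := Nat.pow_le_pow_left (by omega) 3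
      omega
    obtain ⟨k, hk⟩ := hHo
    interval_cases A <;> first | rfl | omega | norm_num at hd'
  rw [hGcard, hh3, hA1, one_pow, mul_one]

/-- Let `G` be a `4`-fold transitive permutation group on a finite set of `n` points in which the pointwise stabilizer of some four distinct points has odd order. Then `n = 4` or `n = 5` with `G` the full symmetric group, or `n = 6` or `n = 7` with `G` the alternating group, or `n = 11` and `G` has order `7920`. -/
theorem result {α : Type*} [Fintype α] [DecidableEq α] (G : Subgroup (Equiv.Perm α)) (hG : MulAction.IsMultiplyPretransitive G α 4) (x : Fin 4 ↪ α) (hodd : Odd (Nat.card (MulAction.stabilizer G x))) : ((Fintype.card α = 4 ∨ Fintype.card α = 5) ∧ G = ⊤) ∨ ((Fintype.card α = 6 ∨ Fintype.card α = 7) ∧ G = alternatingGroup α) ∨ (Fintype.card α = 11 ∧ Nat.card G = 7920) := by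
  exact core G hG x hodd

end Cfsg.Agent.S4221
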