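import Cfsg.Statements.S4222
import Mathlib

set_option autoImplicit false
open Cfsg

namespace Cfsg.Agent.S4222

/-- If a normal subgroup `N` of a finite group is complete (its centre is trivial and every automorphism of `N` is inner), then the group is the internal direct product of `N` and the centralizer of `N`: the centralizer is a complement to `N`. -/
theorem result {T : Type*} [Group T] [Finite T] (N : Subgroup T) [N.Normal] (hz : Subgroup.center ↥N = ⊥) (ha : Function.Surjective (MulAut.conj : ↥N →* MulAut ↥N)) : (Subgroup.centralizer (N : Set T)).IsComplement' N := by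
  refine Subgroup.isComplement'_of_disjoint_and_mul_eq_univ ?_ ?_
  · rw [Subgroup.disjoint_def]
    intro x hx hxN
    have : (⟨x, hxN⟩ : N) ∈ Subgroup.center N := Subgroup.mem_center_iff.mpr fun n =>
      Subtype.ext (Subgroup.mem_centralizer_iff.mp hx n n.2)
    rw [hz, Subgroup.mem_bot] at this
    exact congrArg Subtype.val this
  · rw [Set.eq_univ_iff_forall]
    intro t
    obtain ⟨n, hn⟩ := ha (MulAut.conjNormal (H := N) t)
    have key : ∀ y : T, y ∈ N → n.1 * y * n.1⁻¹ = t * y * t⁻¹ := by
      intro y hy
      have := congrArg Subtype.val (DFunLike.congr_fun hn ⟨y, hy⟩)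
      simpa [MulAut.conjNormal_apply, MulAut.conj_apply] using this
    refine ⟨t * (n.1)⁻¹, ?_, n.1, n.2, by simp⟩
    rw [SetLike.mem_coe, Subgroup.mem_centralizer_iff]
    intro y hy
    have h := key (n.1⁻¹ * y * n.1) (mul_mem (mul_mem (inv_mem n.2) hy) n.2)
    group at h ⊢
    have h2 : y = t * (n.1⁻¹ * y * n.1) * t⁻¹ := by rw [← key _ (mul_mem (mul_mem (inv_mem n.2) hy) n.2)]; group
    conv_lhs => rw [h2]
    group

end Cfsg.Agent.S4222
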