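import Cfsg.Statements.S4223
import Mathlib

set_option autoImplicit false
open Cfsg

namespace Cfsg.Agent.S4223

/-- Fitting's lemma for a normal endomorphism of an indecomposable group. -/
theorem fitting_lemma {A : Type*} [Group A] [Finite A]
    (hind : ∀ H K : Subgroup A, H.Normal → K.Normal → H ⊓ K = ⊥ → H ⊔ K = ⊤ → H = ⊥ ∨ K = ⊥)
    (h : A →* A) (hn : ∀ a x, h (a * x * a⁻¹) = a * h x * a⁻¹) (hinj : ¬ Function.Injective h) (x : A)
    (hx : h x = x) : x = 1 := by
  classical
  have hiter : ∀ k : ℕ, ∀ a y, h^[k] (a * y * a⁻¹) = a * h^[k] y * a⁻¹ := by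
    intro k
    induction k with
    | zero => intro a y; simp
    | succ k ih => intro a y; rw [Function.iterate_succ_apply', ih, hn, Function.iterate_succ_apply']
  let φ : ℕ → A →* A := fun k => MonoidHom.mk' (h^[k]) (fun a b => iterate_map_mul h k a b)
  -- the ranges stabilise
  obtain ⟨k, hk0, hk⟩ : ∃ k, 0 < k ∧ Nat.card (φ k).range ≤ Nat.card (φ (k + k)).range := by
    by_contra hcon
    push Not at hcon
    have : ∀ j, 1 ≤ j → Nat.card (φ (2 ^ j)).range + j ≤ Nat.card A + 1 := by
      intro j hj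
      induction j, hj using Nat.le_induction with
      | base => have := Subgroup.card_le_card_group (φ (2 ^ 1)).range; omega
      | succ j hj ih =>
        have := hcon (2 ^ j) (by positivity)
        rw [← two_mul, ← pow_succ'] at this
        omega
    have h1 := this (Nat.card A + 1) (by omega)
    have : 0 < Nat.card (φ (2 ^ (Nat.card A + 1))).range := Nat.card_pos
    omega
  set I := (φ k).range
  set J := (φ k).ker
  have hIn : I.Normal := ⟨by rintro _ ⟨y, rfl⟩ a; exact ⟨a * y * a⁻¹, hiter k a y⟩⟩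
  have hcard : Nat.card (φ (k + k)).range = Nat.card (I.map (φ k)) := by
    congr 2
    ext z
    constructor
    · rintro ⟨y, rfl⟩; exact ⟨φ k y, ⟨y, rfl⟩, (Function.iterate_add_apply h k k y).symm⟩
    · rintro ⟨_, ⟨y, rfl⟩, rfl⟩; exact ⟨y, Function.iterate_add_apply h k k y⟩
  have hle : I.map (φ k) ≤ I := by rintro _ ⟨y, -, rfl⟩; exact ⟨y, rfl⟩
  have heq : I.map (φ k) = I := Subgroup.eq_of_le_of_card_ge hle (hcard ▸ hk)
  have hsup : I ⊔ J = ⊤ := by
    rw [eq_top_iff]
    intro y _
    obtain ⟨u, hu, hue⟩ := (heq.ge : I ≤ _) (⟨y, rfl⟩ : φ k y ∈ I)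
    have hv : u⁻¹ * y ∈ J := by rw [MonoidHom.mem_ker, map_mul, map_inv, hue, inv_mul_cancel]
    simpa using mul_mem (Subgroup.mem_sup_left hu : u ∈ I ⊔ J) (Subgroup.mem_sup_right hv)
  have hinf : I ⊓ J = ⊥ := by
    rw [eq_bot_iff]
    rintro y ⟨hyI, hyJ⟩
    have hs : Function.Surjective (fun u : I => (⟨φ k u, hle ⟨u, u.2, rfl⟩⟩ : I)) := by
      rintro ⟨z, hz⟩
      obtain ⟨u, hu, rfl⟩ := (heq.ge : I ≤ _) hz
      exact ⟨⟨u, hu⟩, rfl⟩
    have hi := Finite.injective_iff_surjective.mpr hs
    have : (⟨y, hyI⟩ : I) = 1 := hi (Subtype.ext (by show φ k y = φ k 1; rw [map_one]; exact hyJ))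
    exact congrArg Subtype.val this
  rcases hind I J hIn inferInstance hinf hsup with hI | hJ
  · have hxI : x ∈ I := ⟨x, Function.iterate_fixed hx k⟩
    rwa [hI, Subgroup.mem_bot] at hxI
  · exfalso
    apply hinj
    rw [injective_iff_map_eq_one]
    intro y hy
    have : y ∈ J := by
      obtain ⟨j, rfl⟩ : ∃ j, k = j + 1 := ⟨k - 1, by omega⟩
      show h^[j + 1] y = 1
      rw [Function.iterate_succ_apply, hy, iterate_map_one]
    rwa [hJ, Subgroup.mem_bot] at this

theorem exists_factor {n : ℕ} {A R : Type*} [Group A] [Finite A] [Nontrivial A] [Group R] {B : Fin n → Type*}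
    [∀ j, Group (B j)] [∀ j, Finite (B j)]
    (hA : ∀ H K : Subgroup A, H.Normal → K.Normal → H ⊓ K = ⊥ → H ⊔ K = ⊤ → H = ⊥ ∨ K = ⊥)
    (hB : ∀ j, ∀ H K : Subgroup (B j), H.Normal → K.Normal → H ⊓ K = ⊥ → H ⊔ K = ⊤ → H = ⊥ ∨ K = ⊥)
    (e : A × R ≃* ((j : Fin n) → B j)) :
    ∃ j, Function.Bijective (fun a : A => e (a, 1) j) := by
  classical
  let ι : A →* ((j : Fin n) → B j) := e.toMonoidHom.comp (MonoidHom.inl A R)
  let ρ : ((j : Fin n) → B j) →* A := (MonoidHom.fst A R).comp e.symm.toMonoidHom
  have hρι : ∀ a, ρ (ι a) = a := fun a => by simp [ρ, ι]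
  let T : (Fin n → Prop) → ((j : Fin n) → B j) →* ((j : Fin n) → B j) := fun P =>
    MonoidHom.mk' (fun y j => if P j then y j else 1) (fun y z => by funext j; by_cases hP : P j <;> simp [hP])
  have hnormal : ∀ P a x, ρ (T P (ι (a * x * a⁻¹))) = a * ρ (T P (ι x)) * a⁻¹ := by
    intro P a x
    have e1 : T P (ι (a * x * a⁻¹)) = ι a * T P (ι x) * (ι a)⁻¹ := by
      rw [map_mul, map_mul, map_inv]
      funext j
      by_cases hP : P j <;> simp [T, hP]
    rw [e1, map_mul, map_mul, map_inv, hρι]
  let s : ℕ → A →* A := fun k => ρ.comp ((T (fun j => (j : ℕ) < k)).comp ι)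
  let h : Fin n → A →* A := fun k => ρ.comp ((T (fun j => j = k)).comp ι)
  have hstep : ∀ (k : Fin n) a, s ((k : ℕ) + 1) a = s k a * h k a := by
    intro k a
    show ρ _ = ρ _ * ρ _
    rw [← map_mul]
    congr 1
    funext j
    simp only [T, MonoidHom.comp_apply, MonoidHom.mk'_apply, Pi.mul_apply]
    rcases lt_trichotomy (j : ℕ) (k : ℕ) with hj | hj | hj
    · have hne : j ≠ k := fun e => by rw [e] at hj; omega
      rw [if_pos (show (j : ℕ) < (k : ℕ) + 1 by omega), if_pos hj, if_neg hne, mul_one]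
    · have he : j = k := Fin.ext hj
      rw [if_pos (show (j : ℕ) < (k : ℕ) + 1 by omega), if_neg (show ¬ (j : ℕ) < (k : ℕ) by omega), if_pos he, one_mul]
    · have hne : j ≠ k := fun e => by rw [e] at hj; omega
      rw [if_neg (show ¬ (j : ℕ) < (k : ℕ) + 1 by omega), if_neg (show ¬ (j : ℕ) < (k : ℕ) by omega), if_neg hne, one_mul]
  have hsn : ∀ a, s n a = a := fun a => by
    show ρ _ = a
    conv_rhs => rw [← hρι a]
    congr 1
    funext j
    simp [T, j.2]
  obtain ⟨k, hk⟩ : ∃ k, Function.Injective (h k) := by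
    by_contra hcon
    push Not at hcon
    have hall : ∀ m, m ≤ n → Function.Injective (s m) → False := by
      intro m
      induction m with
      | zero =>
        intro _ hi
        obtain ⟨a, ha⟩ := exists_ne (1 : A)
        apply ha
        apply hi
        show ρ _ = ρ _
        congr 1
        funext j
        simp [T]
      | succ m ih =>
        intro hm hi
        have hbij : Function.Bijective (s (m + 1)) := ⟨hi, Finite.injective_iff_surjective.mp hi⟩
        let α := (MulEquiv.ofBijective (s (m + 1)) hbij).symm.toMonoidHom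
        have hα : ∀ y, α (s (m + 1) y) = y := fun y => (MulEquiv.ofBijective (s (m + 1)) hbij).symm_apply_apply y
        refine ih (by omega) ?_
        rw [injective_iff_map_eq_one]
        intro x hx
        refine fitting_lemma hA (α.comp (h ⟨m, hm⟩)) ?_ ?_ x ?_
        · intro a y
          apply hi
          show s (m + 1) (α (h ⟨m, hm⟩ (a * y * a⁻¹))) = s (m + 1) (a * α (h ⟨m, hm⟩ y) * a⁻¹)
          have hαr : ∀ z, s (m + 1) (α z) = z := fun z => (MulEquiv.ofBijective (s (m + 1)) hbij).apply_symm_apply z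
          rw [hαr, show s (m + 1) (a * α (h ⟨m, hm⟩ y) * a⁻¹) = a * s (m + 1) (α (h ⟨m, hm⟩ y)) * a⁻¹ from hnormal _ _ _, hαr]
          exact hnormal _ _ _
        · intro hc; exact hcon ⟨m, hm⟩ (Function.Injective.of_comp (f := α) (by exact hc))
        · show α (h ⟨m, hm⟩ x) = x
          have h1 := hstep ⟨m, hm⟩ x
          simp only at h1
          rw [hx, one_mul] at h1
          rw [← h1, hα]
    exact hall n le_rfl (fun a b hab => by rwa [hsn, hsn] at hab)
  refine ⟨k, ?_⟩
  let f : A →* B k := (Pi.evalMonoidHom B k).comp ι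
  let g : B k →* A := ρ.comp (MonoidHom.mulSingle B k)
  have hgf : ∀ a, g (f a) = h k a := fun a => by
    show ρ _ = ρ _
    congr 1
    funext j
    by_cases hj : j = k
    · subst hj; simp [T, f]
    · simp [T, f, hj]
  have hfinj : Function.Injective f := fun a b hab => hk (by rw [← hgf, ← hgf, hab])
  have hIn : f.range.Normal := by
    refine ⟨?_⟩
    rintro _ ⟨a, rfl⟩ b
    refine ⟨ρ (MonoidHom.mulSingle B k b) * a * (ρ (MonoidHom.mulSingle B k b))⁻¹, ?_⟩
    set y := e.symm (MonoidHom.mulSingle B k b)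
    have hy : e (y.1 * a * y.1⁻¹, 1) = MonoidHom.mulSingle B k b * e (a, 1) * (MonoidHom.mulSingle B k b)⁻¹ := by
      conv_rhs => rw [← e.apply_symm_apply (MonoidHom.mulSingle B k b)]
      rw [← map_inv, ← map_mul, ← map_mul]
      congr 1
      ext <;> simp [y]
    show e (y.1 * a * y.1⁻¹, 1) k = _
    rw [hy]
    simp [f, ι]
  have hinf : f.range ⊓ g.ker = ⊥ := by
    rw [eq_bot_iff]
    rintro _ ⟨⟨a, rfl⟩, ha⟩
    rw [Subgroup.mem_bot, show a = 1 from hk (by rw [← hgf, ha, map_one]), map_one]
  have hsup : f.range ⊔ g.ker = ⊤ := by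
    rw [eq_top_iff]
    intro b _
    obtain ⟨a, ha⟩ := Finite.injective_iff_surjective.mp hk (g b)
    have hv : (f a)⁻¹ * b ∈ g.ker := by rw [MonoidHom.mem_ker, map_mul, map_inv, hgf, ha, inv_mul_cancel]
    simpa using mul_mem (Subgroup.mem_sup_left ⟨a, rfl⟩ : f a ∈ f.range ⊔ g.ker) (Subgroup.mem_sup_right hv)
  rcases hB k f.range g.ker hIn inferInstance hinf hsup with h' | h'
  · obtain ⟨a, ha⟩ := exists_ne (1 : A)
    refine absurd (hfinj ?_) ha
    rw [map_one, ← Subgroup.mem_bot, ← h']
    exact ⟨a, rfl⟩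
  · rw [h', sup_bot_eq] at hsup
    exact ⟨hfinj, MonoidHom.range_eq_top.mp hsup⟩

/-- Split off one factor of a product. -/
def splitFactor {n : ℕ} (B : Fin (n + 1) → Type*) [∀ j, Group (B j)] (k : Fin (n + 1)) :
    ((j : Fin (n + 1)) → B j) ≃* B k × ((j : Fin n) → B (k.succAbove j)) :=
  { (Fin.insertNthEquiv B k).symm with map_mul' := fun _ _ => rfl }

/-- If a finite group is isomorphic both to a direct product of `m` directly indecomposable nontrivial groups and to a direct product of `n` such groups (a group is directly indecomposable when it is not the internal direct product of two nontrivial normal subgroups), then `m = n` and the factors are isomorphic in pairs after a suitable matching. -/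
theorem result {m n : ℕ} {A : Fin m → Type*} {B : Fin n → Type*} [∀ i, Group (A i)] [∀ j, Group (B j)] [∀ i, Finite (A i)] [∀ j, Finite (B j)] (hA : ∀ i, Nontrivial (A i) ∧ ∀ H K : Subgroup (A i), H.Normal → K.Normal → H ⊓ K = ⊥ → H ⊔ K = ⊤ → H = ⊥ ∨ K = ⊥) (hB : ∀ j, Nontrivial (B j) ∧ ∀ H K : Subgroup (B j), H.Normal → K.Normal → H ⊓ K = ⊥ → H ⊔ K = ⊤ → H = ⊥ ∨ K = ⊥) (e : ((i : Fin m) → A i) ≃* ((j : Fin n) → B j)) : ∃ σ : Fin m ≃ Fin n, ∀ i, Nonempty (A i ≃* B (σ i)) := by
  classical
  induction m generalizing n with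
  | zero =>
    cases n with
    | zero => exact ⟨Equiv.refl _, fun i => i.elim0⟩
    | succ n =>
      exfalso
      haveI := (hB 0).1
      obtain ⟨b, hb⟩ := exists_ne (1 : B 0)
      apply hb
      have h1 : e.symm (Pi.mulSingle 0 b) = e.symm 1 := funext fun i => i.elim0
      have := congrFun (e.symm.injective h1) 0
      simpa using this
  | succ m ih =>
    cases n with
    | zero =>
      exfalso
      haveI := (hA 0).1
      obtain ⟨a, ha⟩ := exists_ne (1 : A 0)
      apply ha
      have h1 : e (Pi.mulSingle 0 a) = e 1 := funext fun j => j.elim0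
      have := congrFun (e.injective h1) 0
      simpa using this
    | succ n =>
      haveI := (hA 0).1
      let dA := splitFactor A 0
      obtain ⟨k, hk⟩ := exists_factor (hA 0).2 (fun j => (hB j).2) (dA.symm.trans e)
      let e' : (A 0 × ((i : Fin m) → A ((0 : Fin (m+1)).succAbove i))) ≃* (B k × ((j : Fin n) → B (k.succAbove j))) :=
        (dA.symm.trans e).trans (splitFactor B k)
      let ψ : ((j : Fin n) → B (k.succAbove j)) →* ((i : Fin m) → A ((0 : Fin (m+1)).succAbove i)) :=
        ((MonoidHom.snd _ _).comp e'.symm.toMonoidHom).comp (MonoidHom.inr _ _)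
      have hψ : Function.Injective ψ := by
        rw [injective_iff_map_eq_one]
        intro w hw
        set a := (e'.symm (1, w)).1
        have he : e'.symm (1, w) = (a, 1) := Prod.ext rfl hw
        have h1 : e' (a, 1) = (1, w) := by rw [← he, e'.apply_symm_apply]
        have ha : a = 1 := hk.1 (by
          show (dA.symm.trans e) (a, 1) k = (dA.symm.trans e) (1, 1) k
          have := congrArg Prod.fst h1
          rw [show (dA.symm.trans e) (1, 1) = 1 from map_one _]
          exact this)
        rw [ha] at h1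
        have := congrArg Prod.snd h1
        rw [show e' (1, 1) = 1 from map_one _] at this
        exact this.symm
      have hcardAB : Nat.card (A 0) = Nat.card (B k) := Nat.card_eq_of_bijective _ hk
      have hcard : Nat.card ((j : Fin n) → B (k.succAbove j)) = Nat.card ((i : Fin m) → A ((0 : Fin (m+1)).succAbove i)) := by
        have h := Nat.card_congr e'.toEquiv
        rw [Nat.card_prod, Nat.card_prod, hcardAB] at h
        exact (Nat.eq_of_mul_eq_mul_left Nat.card_pos h).symm
      obtain ⟨σ, hσ⟩ := ih (fun i => hA _) (fun j => hB _)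
        (MulEquiv.ofBijective ψ (hψ.bijective_of_nat_card_le hcard.ge)).symm
      refine ⟨(finSuccEquiv' (0 : Fin (m+1))).trans ((Equiv.optionCongr σ).trans (finSuccEquiv' k).symm), fun i => ?_⟩
      refine Fin.succAboveCases (0 : Fin (m+1)) ?_ (fun j => ?_) i
      · simp only [Equiv.trans_apply, finSuccEquiv'_at, Equiv.optionCongr_apply, Option.map_none, finSuccEquiv'_symm_none]
        exact ⟨MulEquiv.ofBijective ((Pi.evalMonoidHom B k).comp ((dA.symm.trans e).toMonoidHom.comp (MonoidHom.inl _ _))) hk⟩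
      · simp only [Equiv.trans_apply, finSuccEquiv'_succAbove, Equiv.optionCongr_apply, Option.map_some, finSuccEquiv'_symm_some]
        exact hσ j

end Cfsg.Agent.S4223
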