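import Cfsg.Statements.S4227
import Mathlib
import Cfsg.Agent.PLocalB.PConstrained
import Cfsg.Agent.BGUniq.PLocalBasic
import Cfsg.Agent.Lib.CharCore.Burnside
import Cfsg.Agent.Lib.Thompson.Cores
import Cfsg.Agent.Lib.PGroup.Basic
import Cfsg.Agent.S4218

set_option autoImplicit false
open Cfsg

namespace Cfsg.Agent.S4227

open Cfsg

theorem card_eq_two_three {G : Type*} [Group G] [Finite G] (h : ∀ x : G, x ^ 6 = 1) :
    ∃ a b, Nat.card G = 2 ^ a * 3 ^ b := by
  refine ⟨(Nat.card G).factorization 2, (Nat.card G).factorization 3, ?_⟩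
  refine Nat.eq_of_factorization_eq Nat.card_pos.ne' (by positivity) fun r => ?_
  rw [Nat.factorization_mul (by positivity) (by positivity)]
  simp only [Finsupp.coe_add, Pi.add_apply, Nat.factorization_pow, Finsupp.smul_apply, smul_eq_mul,
    Nat.Prime.factorization Nat.prime_two, Nat.Prime.factorization Nat.prime_three]
  rcases eq_or_ne r 2 with rfl | h2
  · simp
  rcases eq_or_ne r 3 with rfl | h3
  · simp
  rw [Finsupp.single_eq_of_ne h2, Finsupp.single_eq_of_ne h3, mul_zero, mul_zero]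
  by_contra hne
  have hr : r ∈ (Nat.card G).primeFactors := by
    rw [← Nat.support_factorization]
    exact Finsupp.mem_support_iff.mpr hne
  obtain ⟨hr, hdvd, -⟩ := Nat.mem_primeFactors.mp hr
  haveI := Fact.mk hr
  obtain ⟨x, hx⟩ := exists_prime_orderOf_dvd_card' r hdvd
  have h6 : r ∣ 2 * 3 := hx ▸ orderOf_dvd_of_pow_eq_one (h x)
  rcases hr.dvd_mul.mp h6 with h' | h'
  · exact h2 ((Nat.prime_dvd_prime_iff_eq hr Nat.prime_two).mp h')
  · exact h3 ((Nat.prime_dvd_prime_iff_eq hr Nat.prime_three).mp h')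

theorem solvable_six {G : Type*} [Group G] [Finite G] (h : ∀ x : G, x ^ 6 = 1) :
    Group.IsSolvable G := by
  obtain ⟨a, b, hab⟩ := card_eq_two_three h
  exact CharCore.isSolvable_of_card_eq_prime_pow_mul Nat.prime_two Nat.prime_three _ G a b rfl hab

theorem quot_six {G : Type*} [Group G] (h : ∀ x : G, x ^ 6 = 1) (N : Subgroup G) [N.Normal] :
    ∀ x : G ⧸ N, x ^ 6 = 1 := by
  intro x
  induction x using QuotientGroup.induction_on with | _ g => ?_
  rw [← QuotientGroup.mk_pow, h, QuotientGroup.mk_one]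

theorem pow_prime_eq_one {G : Type*} [Group G] {p : ℕ} [hp : Fact p.Prime] {S : Subgroup G}
    (hS : IsPGroup p S) (h : ∀ x : G, x ^ 6 = 1) (hp6 : ∀ k, Nat.gcd (p ^ k) 6 ∣ p)
    {x : G} (hx : x ∈ S) : x ^ p = 1 := by
  obtain ⟨k, hk⟩ := hS ⟨x, hx⟩
  have hk' : x ^ p ^ k = 1 := by simpa using congrArg Subtype.val hk
  exact orderOf_dvd_iff_pow_eq_one.mp
    ((Nat.dvd_gcd (orderOf_dvd_of_pow_eq_one hk') (orderOf_dvd_of_pow_eq_one (h x))).trans (hp6 k))

theorem gcd_two (k : ℕ) : Nat.gcd (2 ^ k) 6 ∣ 2 := by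
  have h : Nat.Coprime (Nat.gcd (2 ^ k) 6) 3 :=
    Nat.Coprime.coprime_dvd_left (Nat.gcd_dvd_left _ _) (Nat.Coprime.pow_left k (by norm_num))
  exact h.dvd_of_dvd_mul_right (Nat.gcd_dvd_right _ _)

theorem gcd_three (k : ℕ) : Nat.gcd (3 ^ k) 6 ∣ 3 := by
  have h : Nat.Coprime (Nat.gcd (3 ^ k) 6) 2 :=
    Nat.Coprime.coprime_dvd_left (Nat.gcd_dvd_left _ _) (Nat.Coprime.pow_left k (by norm_num))
  exact h.dvd_of_dvd_mul_left (Nat.gcd_dvd_right _ _)

/-- The central computation: no involutory pair permuted by an element of order three. -/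
theorem no_fixed_point_free {Z : Type*} [Group Z] (Q : Subgroup Z) [Q.Normal]
    (hab : ∀ u ∈ Q, ∀ v ∈ Q, u * v = v * u) (h3 : ∀ v ∈ Q, v ^ 3 = 1)
    (x a : Z) (hx : x ^ 3 = 1)
    (hsum : ∀ v ∈ Q, v * (x * v * x⁻¹) * (x * (x * v * x⁻¹) * x⁻¹) = 1)
    (haa : a * a ∈ Q) (hcomm : (a * (x * a * x⁻¹))⁻¹ * ((x * a * x⁻¹) * a) ∈ Q)
    (hc : (a * (x * a * x⁻¹))⁻¹ * (x * (x * a * x⁻¹) * x⁻¹) ∈ Q) :
    ∀ w ∈ Q, a * w * a⁻¹ = w := by
  have hQ : Q.Normal := inferInstance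
  set b := x * a * x⁻¹ with hb
  set c := x * b * x⁻¹ with hc'
  have cj : ∀ g v, v ∈ Q → g * v * g⁻¹ ∈ Q := fun g v hv => hQ.conj_mem v hv g
  have triv : ∀ q ∈ Q, ∀ v ∈ Q, q * v * q⁻¹ = v := fun q hq v hv => by
    rw [hab q hq v hv, mul_inv_cancel_right]
  have same : ∀ g g', g⁻¹ * g' ∈ Q → ∀ v ∈ Q, g' * v * g'⁻¹ = g * v * g⁻¹ := fun g g' hg v hv => by
    have e := triv _ hg v hv
    calc g' * v * g'⁻¹ = g * ((g⁻¹ * g') * v * (g⁻¹ * g')⁻¹) * g⁻¹ := by group
      _ = _ := by rw [e]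
  have aab : ∀ v ∈ Q, b * (a * v * a⁻¹) * b⁻¹ = a * (b * v * b⁻¹) * a⁻¹ := fun v hv => by
    calc b * (a * v * a⁻¹) * b⁻¹ = (b * a) * v * (b * a)⁻¹ := by group
      _ = (a * b) * v * (a * b)⁻¹ := same _ _ hcomm v hv
      _ = _ := by group
  have cab : ∀ v ∈ Q, c * v * c⁻¹ = a * (b * v * b⁻¹) * a⁻¹ := fun v hv => by
    rw [same _ _ hc v hv]; group
  have a2 : ∀ v ∈ Q, a * (a * v * a⁻¹) * a⁻¹ = v := fun v hv => by
    calc a * (a * v * a⁻¹) * a⁻¹ = (a * a) * v * (a * a)⁻¹ := by group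
      _ = v := triv _ haa v hv
  have hinv : ∀ v ∈ Q, v = v⁻¹ → v = 1 := fun v hv e => by
    have h2 : v * v = 1 := by nth_rewrite 2 [e]; exact mul_inv_cancel v
    have := h3 v hv
    rwa [pow_succ, pow_two, h2, one_mul] at this
  have key : ∀ u ∈ Q, a * u * a⁻¹ = u⁻¹ → (b * u * b⁻¹ = u ∨ b * u * b⁻¹ = u⁻¹) → u = 1 := by
    intro u hu hau hbu
    set P := x * u * x⁻¹ with hP
    set R := x * P * x⁻¹ with hR
    have hPQ : P ∈ Q := cj x u hu
    have hRQ : R ∈ Q := cj x P hPQ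
    have hs : u * P * R = 1 := hsum u hu
    have hxxx : x * x * x = 1 := by rw [← hx, pow_succ, pow_two]
    have hx2 : x⁻¹ = x * x := by
      rw [inv_eq_iff_mul_eq_one, ← mul_assoc]
      exact hxxx
    have haP : a * P * a⁻¹ = x * (c * u * c⁻¹) * x⁻¹ := by
      have e : x * c = a * x := by
        rw [hc', hb]
        calc x * (x * (x * a * x⁻¹) * x⁻¹) = (x * x * x) * a * (x * x)⁻¹ := by group
          _ = a * (x * x)⁻¹ := by rw [hxxx, one_mul]
          _ = a * x := by rw [← hx2, inv_inv]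
      calc a * P * a⁻¹ = (a * x) * u * (a * x)⁻¹ := by rw [hP]; group
        _ = (x * c) * u * (x * c)⁻¹ := by rw [e]
        _ = _ := by group
    have haR : a * R * a⁻¹ = x * (x * (b * u * b⁻¹) * x⁻¹) * x⁻¹ := by
      have e : a * (x * x) = (x * x) * b := by
        rw [hb]
        calc a * (x * x) = (x * x * x) * a * x⁻¹ := by rw [hxxx, one_mul, ← hx2]
          _ = _ := by group
      calc a * R * a⁻¹ = (a * (x * x)) * u * (a * (x * x))⁻¹ := by rw [hR, hP]; group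
        _ = ((x * x) * b) * u * ((x * x) * b)⁻¹ := by rw [e]
        _ = _ := by group
    have hcu := cab u hu
    have happ : (a * u * a⁻¹) * (a * P * a⁻¹) * (a * R * a⁻¹) = 1 := by
      calc _ = a * (u * P * R) * a⁻¹ := by group
        _ = 1 := by rw [hs, mul_one, mul_inv_cancel]
    rw [hau, haP, haR, hcu] at happ
    have inj : ∀ v : Z, x * v * x⁻¹ = 1 → v = 1 := fun v hv => conj_eq_one_iff.mp hv
    rcases hbu with hbu | hbu
    · rw [hbu, hau] at happ
      have hPi : x * u⁻¹ * x⁻¹ = P⁻¹ := by rw [hP]; group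
      rw [hPi, ← hP, ← hR] at happ
      have e : R = u * P := by
        calc R = P * u * (u⁻¹ * P⁻¹ * R) := by group
          _ = u * P := by rw [happ, mul_one, hab P hPQ u hu]
      have : R = R⁻¹ := e.trans (eq_inv_of_mul_eq_one_left hs)
      have hR1 := hinv R hRQ this
      exact inj u (inj _ (by rw [← hP, ← hR]; exact hR1))
    · rw [hbu] at happ
      rw [show a * u⁻¹ * a⁻¹ = (a * u * a⁻¹)⁻¹ by group, hau, inv_inv, ← hP,
        show x * (x * u⁻¹ * x⁻¹) * x⁻¹ = R⁻¹ by rw [hR, hP]; simp [mul_assoc]] at happ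
      have e : P = u * R := by
        calc P = u * (u⁻¹ * P * R⁻¹) * R := by group
          _ = u * R := by rw [happ, mul_one]
      have : P = P⁻¹ := by
        refine eq_inv_of_mul_eq_one_left ?_
        calc P * P = P * (u * R) := by rw [← e]
          _ = (P * u) * R := by group
          _ = (u * P) * R := by rw [hab P hPQ u hu]
          _ = 1 := hs
      have hP1 := hinv P hPQ this
      exact inj u (by rw [← hP]; exact hP1)
  intro w hw
  by_contra hne
  set v := w * (a * w * a⁻¹)⁻¹ with hv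
  have haw : a * w * a⁻¹ ∈ Q := cj a w hw
  have hvQ : v ∈ Q := mul_mem hw (inv_mem haw)
  have hv1 : v ≠ 1 := fun e => hne (mul_inv_eq_one.mp e).symm
  have hav : a * v * a⁻¹ = v⁻¹ := by
    calc a * v * a⁻¹ = (a * w * a⁻¹) * (a * (a * w * a⁻¹) * a⁻¹)⁻¹ := by rw [hv]; group
      _ = (a * w * a⁻¹) * w⁻¹ := by rw [a2 w hw]
      _ = v⁻¹ := by rw [hv, mul_inv_rev, inv_inv]
  have hbv : b * v * b⁻¹ ∈ Q := cj b v hvQ
  have hbb : ∀ t ∈ Q, b * (b * t * b⁻¹) * b⁻¹ = t := fun t ht => by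
    have ht' : x⁻¹ * t * x ∈ Q := by simpa using cj x⁻¹ t ht
    calc b * (b * t * b⁻¹) * b⁻¹ = x * (a * (a * (x⁻¹ * t * x) * a⁻¹) * a⁻¹) * x⁻¹ := by
          rw [hb]; group
      _ = x * (x⁻¹ * t * x) * x⁻¹ := by rw [a2 _ ht']
      _ = t := by group
  have habv : a * (b * v * b⁻¹) * a⁻¹ = (b * v * b⁻¹)⁻¹ := by
    rw [← aab v hvQ, hav]; group
  by_cases h1 : v * (b * v * b⁻¹) = 1
  · refine hv1 (key v hvQ hav (Or.inr ?_))
    exact eq_inv_of_mul_eq_one_right h1
  · refine h1 (key _ (mul_mem hvQ hbv) ?_ (Or.inl ?_))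
    · calc a * (v * (b * v * b⁻¹)) * a⁻¹ = (a * v * a⁻¹) * (a * (b * v * b⁻¹) * a⁻¹) := by group
        _ = v⁻¹ * (b * v * b⁻¹)⁻¹ := by rw [hav, habv]
        _ = _ := by rw [← mul_inv_rev, hab _ hbv v hvQ]
    · calc b * (v * (b * v * b⁻¹)) * b⁻¹ = (b * v * b⁻¹) * (b * (b * v * b⁻¹) * b⁻¹) := by group
        _ = _ := by rw [hbb v hvQ, hab _ hbv v hvQ]

theorem abelian_sec_absurd {Z : Type*} [Group Z] [Finite Z] (h : ∀ x : Z, x ^ 6 = 1)
    (Q : Subgroup Z) [Q.Normal] (hab : ∀ u ∈ Q, ∀ v ∈ Q, u * v = v * u) (hQ : IsPGroup 3 Q)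
    (hC : ∀ g : Z, (∀ v ∈ Q, g * v = v * g) → g ∈ Q) (hmax : pCore 3 (Z ⧸ Q) = ⊥) :
    ¬ 3 ∣ Q.index := by
  intro hd
  haveI : Fact (Nat.Prime 3) := ⟨Nat.prime_three⟩
  haveI : Fact (Nat.Prime 2) := ⟨Nat.prime_two⟩
  have hY := quot_six h Q
  haveI := solvable_six hY
  have hYp : IsPSolvable 2 (Z ⧸ Q) := BGUniq.isPSolvable_of_isSolvable' 2 _
  have hO2 : pPrimeCore 2 (Z ⧸ Q) = ⊥ := by
    refine eq_bot_iff.mpr (le_of_le_of_eq (Thompson.le_pCore inferInstance ?_) hmax)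
    intro g
    refine ⟨1, Subtype.ext ?_⟩
    have h6 : orderOf g ∣ 6 := by
      rw [← Subgroup.orderOf_coe]; exact orderOf_dvd_of_pow_eq_one (hY g)
    have h2 : (orderOf g).Coprime 2 :=
      Nat.Coprime.coprime_dvd_left (orderOf_dvd_natCard g) Thompson.card_pPrimeCore_coprime
    have h3' : orderOf g ∣ 3 := h2.dvd_of_dvd_mul_left (show orderOf g ∣ 2 * 3 from h6)
    simpa using congrArg Subtype.val (orderOf_dvd_iff_pow_eq_one.mp h3')
  have hD2 : IsPGroup 2 (pCore 2 (Z ⧸ Q)) := Thompson.isPGroup_pCore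
  have hCD := Thompson.centralizer_pCore_le hYp hO2
  rw [Subgroup.index_eq_card] at hd
  obtain ⟨y, hy⟩ := exists_prime_orderOf_dvd_card' 3 hd
  have hy3 : y ^ 3 = 1 := hy ▸ pow_orderOf_eq_one y
  have hex : ∃ d' ∈ pCore 2 (Z ⧸ Q), d' * y ≠ y * d' := by
    by_contra hc
    push Not at hc
    have := pow_prime_eq_one hD2 hY gcd_two (hCD (Subgroup.mem_centralizer_iff.mpr hc))
    have h' : orderOf y ∣ 2 := orderOf_dvd_of_pow_eq_one this
    rw [hy] at h'
    norm_num at h'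
  obtain ⟨d', hd', hne⟩ := hex
  have cjD : ∀ t, t ∈ pCore 2 (Z ⧸ Q) → y * t * y⁻¹ ∈ pCore 2 (Z ⧸ Q) := fun t ht =>
    (inferInstance : (pCore 2 (Z ⧸ Q)).Normal).conj_mem t ht y
  set d := d' * (y * d' * y⁻¹) with hdd
  set e := y * d * y⁻¹ with hee
  have hdD : d ∈ pCore 2 (Z ⧸ Q) := mul_mem hd' (cjD _ hd')
  have hd'2 : d' * d' = 1 := by rw [← pow_two]; exact pow_prime_eq_one hD2 hY gcd_two hd'
  have hd2 : d * d = 1 := by rw [← pow_two]; exact pow_prime_eq_one hD2 hY gcd_two hdD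
  have commD : ∀ s ∈ pCore 2 (Z ⧸ Q), ∀ t ∈ pCore 2 (Z ⧸ Q), s * t = t * s := by
    intro s hs t ht
    have e1 : ∀ r ∈ pCore 2 (Z ⧸ Q), r⁻¹ = r := fun r hr => by
      rw [inv_eq_iff_mul_eq_one, ← pow_two]; exact pow_prime_eq_one hD2 hY gcd_two hr
    calc s * t = (s * t)⁻¹ := (e1 _ (mul_mem hs ht)).symm
      _ = t * s := by rw [mul_inv_rev, e1 s hs, e1 t ht]
  have heD : e ∈ pCore 2 (Z ⧸ Q) := cjD _ hdD
  have hye : y * e * y⁻¹ = d * e := by
    set d₁ := y * d' * y⁻¹ with hd1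
    set d₂ := y * d₁ * y⁻¹ with hd2'
    have h12 : d₁ * d₁ = 1 := by rw [← pow_two]; exact pow_prime_eq_one hD2 hY gcd_two (cjD _ hd')
    have he' : e = d₁ * d₂ := by rw [hee, hdd, hd2', hd1]; group
    have h3' : y * d₂ * y⁻¹ = d' := by
      calc y * d₂ * y⁻¹ = (y * y * y) * d' * (y * y * y)⁻¹ := by rw [hd2', hd1]; group
        _ = d' := by rw [← pow_two, ← pow_succ, hy3]; group
    rw [he', hdd]
    calc y * (d₁ * d₂) * y⁻¹ = d₂ * (y * d₂ * y⁻¹) := by rw [hd2']; group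
      _ = d' * d₂ := by rw [h3', commD _ (cjD _ (cjD _ hd')) _ hd']
      _ = d' * (d₁ * d₁) * d₂ := by rw [h12, mul_one]
      _ = _ := by group
  have hd1ne : d ≠ 1 := by
    intro e1
    apply hne
    have : y * d' * y⁻¹ = d' := by
      rw [← mul_left_cancel_iff (a := d'), hd'2]; exact e1
    exact (mul_inv_eq_iff_eq_mul.mp this).symm
  obtain ⟨x₀, hx₀⟩ := QuotientGroup.mk'_surjective Q y
  set x := x₀ ^ 4 with hxdef
  have hx3 : x ^ 3 = 1 := by rw [hxdef, ← pow_mul]; rw [show 4 * 3 = 6 * 2 by norm_num, pow_mul, h, one_pow]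
  have hxy : QuotientGroup.mk' Q x = y := by
    rw [hxdef, map_pow, hx₀, pow_succ, hy3, one_mul]
  obtain ⟨a, ha⟩ := QuotientGroup.mk'_surjective Q d
  have mem : ∀ g, QuotientGroup.mk' Q g = 1 → g ∈ Q := fun g hg => (QuotientGroup.eq_one_iff g).mp hg
  have hsum : ∀ v ∈ Q, v * (x * v * x⁻¹) * (x * (x * v * x⁻¹) * x⁻¹) = 1 := by
    intro v hv
    have hgr : IsPGroup 3 ((Subgroup.zpowers y).comap (QuotientGroup.mk' Q)) := by
      refine (IsPGroup.of_card (p := 3) (n := 1) (G := Subgroup.zpowers y)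
        (by rw [Nat.card_zpowers, hy, pow_one])).comap_of_ker_isPGroup _ ?_
      rwa [QuotientGroup.ker_mk']
    have hvx : v * x ∈ (Subgroup.zpowers y).comap (QuotientGroup.mk' Q) := by
      rw [Subgroup.mem_comap, map_mul, hxy, (QuotientGroup.eq_one_iff v).mpr hv |> fun e : QuotientGroup.mk' Q v = 1 => e, one_mul]
      exact Subgroup.mem_zpowers y
    have h3x := pow_prime_eq_one hgr h gcd_three hvx
    calc v * (x * v * x⁻¹) * (x * (x * v * x⁻¹) * x⁻¹) = (v * x) ^ 3 * (x ^ 3)⁻¹ := by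
          simp [pow_succ, mul_assoc]
      _ = 1 := by rw [h3x, hx3, inv_one, one_mul]
  have hfix := no_fixed_point_free Q hab (fun v hv => pow_prime_eq_one hQ h gcd_three hv) x a hx3 hsum
    (mem _ (by rw [map_mul, ha, hd2]))
    (mem _ (by
      simp only [map_mul, map_inv, ha, hxy]
      rw [← hee, commD _ heD _ hdD, inv_mul_cancel]))
    (mem _ (by
      simp only [map_mul, map_inv, ha, hxy]
      rw [← hee, hye, inv_mul_cancel]))
  refine hd1ne ?_
  rw [← ha]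
  exact (QuotientGroup.eq_one_iff a).mpr (hC a fun v hv => mul_inv_eq_iff_eq_mul.mp (hfix v hv))

theorem core_index {X : Type*} [Group X] [Finite X] (h : ∀ x : X, x ^ 6 = 1)
    (hO : pPrimeCore 3 X = ⊥) : ¬ 3 ∣ (pCore 3 X).index := by
  haveI : Fact (Nat.Prime 3) := ⟨Nat.prime_three⟩
  haveI := solvable_six h
  have hp : IsPSolvable 3 X := BGUniq.isPSolvable_of_isSolvable' 3 _
  set Q := pCore 3 X with hQdef
  have hQ : IsPGroup 3 Q := Thompson.isPGroup_pCore
  set F := (frattini ↥Q).map Q.subtype with hF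
  haveI hFn : F.Normal := Thompson.map_subtype_normal_of_characteristic Q (frattini ↥Q)
  have hFQ : F ≤ Q := Subgroup.map_subtype_le _
  set π := QuotientGroup.mk' F
  have hπ := QuotientGroup.mk'_surjective F
  haveI : (Q.map π).Normal := Subgroup.Normal.map inferInstance _ hπ
  have hidx : (Q.map π).index = Q.index :=
    Subgroup.index_map_eq Q hπ (by rwa [QuotientGroup.ker_mk'])
  rw [← hidx]
  have hker : π.ker ≤ Q := by rwa [QuotientGroup.ker_mk']
  refine abelian_sec_absurd (quot_six h F) (Q.map π) ?_ (hQ.map π) ?_ ?_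
  · rintro _ ⟨u, hu, rfl⟩ _ ⟨v, hv, rfl⟩
    rw [← map_mul, ← map_mul]
    refine QuotientGroup.eq.mpr ?_
    have := PGroup.comm_mem_frattini hQ (⟨v, hv⟩⁻¹ : Q) (⟨u, hu⟩⁻¹ : Q)
    refine ⟨_, this, ?_⟩
    simp [commutatorElement_def, mul_assoc]
  · intro g hg
    obtain ⟨g, rfl⟩ := hπ g
    refine ⟨g, ?_, rfl⟩
    refine (S4218.faithful_aux hp hO g).mp fun v hv => ?_
    have : π g * π v = π v * π g := hg (π v) ⟨v, hv, rfl⟩
    apply (QuotientGroup.eq_one_iff _).mp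
    show π (g * v * g⁻¹ * v⁻¹) = 1
    rw [map_mul, map_mul, map_mul, this, map_inv, map_inv]
    group
  · refine Thompson.pCore_quotient_eq_bot _ (hQ.map π) ?_
    intro z hz
    obtain ⟨g, rfl⟩ := hπ z
    refine ⟨g, ?_, rfl⟩
    refine (Thompson.le_pCore (Subgroup.Normal.comap inferInstance π) ?_ : (pCore 3 (X ⧸ F)).comap π ≤ Q) hz
    refine Thompson.isPGroup_pCore.comap_of_ker_isPGroup _ ?_
    rw [QuotientGroup.ker_mk']
    exact hQ.to_le hFQ

theorem series_top {G : Type*} [Group G] [Finite G] {p : ℕ} [hp : Fact p.Prime]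
    (h : ¬ p ∣ (upperPSeries p G 2).1.index) : PLengthLE p 1 G := by
  rw [PLengthLE, show 2 * 1 + 1 = 2 + 1 from rfl, upperPSeries, if_pos (by decide : Even 2)]
  have htop : pPrimeCore p (G ⧸ (upperPSeries p G 2).1) = ⊤ := by
    rw [Thompson.pPrimeCore_eq_top_iff, Nat.coprime_comm, hp.out.coprime_iff_not_dvd,
      ← Subgroup.index_eq_card]
    exact h
  change (pPrimeCore p (G ⧸ (upperPSeries p G 2).1)).comap _ = ⊤
  rw [htop, Subgroup.comap_top]

/-- A finite group in which every element has order dividing `6` has `2`-length at most `1` and `3`-length at most `1`. -/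
theorem result {G : Type*} [Group G] [Finite G] (h : ∀ x : G, x ^ 6 = 1) : Cfsg.PLengthLE 2 1 G ∧ Cfsg.PLengthLE 3 1 G := by
  haveI := solvable_six h
  constructor
  · haveI : Fact (Nat.Prime 2) := ⟨Nat.prime_two⟩
    obtain ⟨S⟩ : Nonempty (Sylow 2 G) := inferInstance
    have hsol : Cfsg.IsPSolvable 2 G := BGUniq.isPSolvable_of_isSolvable' 2 _
    have hcl : Group.nilpotencyClass ↥(S : Subgroup G) ≤ 1 := by
      haveI : Group.IsNilpotent ↥(S : Subgroup G) := S.2.isNilpotent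
      rw [← Subgroup.upperCentralSeries_eq_top_iff_nilpotencyClass_le, Subgroup.upperCentralSeries_one]
      refine (Subgroup.eq_top_iff' _).mpr fun a => Subgroup.mem_center_iff.mpr fun b => ?_
      have e : ∀ r : ↥(S : Subgroup G), r⁻¹ = r := fun r => by
        rw [inv_eq_iff_mul_eq_one, ← pow_two]
        exact Subtype.ext (by simpa using pow_prime_eq_one S.2 h gcd_two r.2)
      calc b * a = (b * a)⁻¹ := (e _).symm
        _ = a * b := by rw [mul_inv_rev, e a, e b]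
    refine series_top fun hd => ?_
    have hle : (S : Subgroup G) ≤ (upperPSeries 2 G 2).1 := by
      haveI : Group.IsNilpotent ↥(S : Subgroup G) := S.2.isNilpotent
      have := PLocalB.upperCentralSeries_le_upperPSeries hsol S 1
      rwa [Subgroup.upperCentralSeries_eq_top_iff_nilpotencyClass_le.mpr hcl, ← MonoidHom.range_eq_map,
        Subgroup.range_subtype] at this
    exact S.not_dvd_index (hd.trans (Subgroup.index_dvd_of_le hle))
  · haveI : Fact (Nat.Prime 3) := ⟨Nat.prime_three⟩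
    refine series_top ?_
    have h2 := PLocalB.map_upperPSeries_succ (p := 3) (G := G) 0
    have hi := core_index (quot_six h (upperPSeries 3 G 1).1) (PLocalB.pPrimeCore_quotient_upperPSeries 0)
    have hle := PLocalB.upperPSeries_le_succ (p := 3) (G := G) 1
    simp only [Nat.mul_zero, Nat.zero_add] at h2
    rw [← h2, Subgroup.index_map_eq _ (QuotientGroup.mk'_surjective _) (by rwa [QuotientGroup.ker_mk'])] at hi
    exact hi

end Cfsg.Agent.S4227
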