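import Cfsg.Statements.S4230
import Mathlib
-- import your own Cfsg.Agent.* helpers here

set_option autoImplicit false
open Cfsg

namespace Cfsg.Agent.S4230

/-- Let p be an odd prime, q a natural number not divisible by p, and e the multiplicative order of q modulo p. For a natural number f, p divides the value at q of the f-th cyclotomic polynomial if and only if f = e·p^j for some j ≥ 0. -/
theorem result (p q f : ℕ) (hp : p.Prime) (hp2 : p ≠ 2) (hpq : ¬ p ∣ q) :
    ((p : ℤ) ∣ (Polynomial.cyclotomic f ℤ).eval (q : ℤ)) ↔ ∃ j : ℕ, f = orderOf (q : ZMod p) * p ^ j := by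
  haveI : Fact p.Prime := ⟨hp⟩
  have hq : (q : ZMod p) ≠ 0 := fun h => hpq ((ZMod.natCast_eq_zero_iff q p).mp h)
  set e := orderOf (q : ZMod p) with he
  have he1 : (q : ZMod p) ^ (p - 1) = 1 := ZMod.pow_card_sub_one_eq_one hq
  have hedvd : e ∣ p - 1 := orderOf_dvd_of_pow_eq_one he1
  have hpe : ¬ p ∣ e := fun h => by
    have := Nat.le_of_dvd (by have := hp.two_le; omega) (h.trans hedvd)
    have := hp.two_le
    omega
  have he0 : e ≠ 0 := fun h => hpe (h ▸ dvd_zero p)
  rcases Nat.eq_zero_or_pos f with rfl | hf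
  · simp only [Polynomial.cyclotomic_zero, Polynomial.eval_one]
    refine iff_of_false (fun h => hp.ne_one ?_) fun ⟨j, hj⟩ => ?_
    · exact_mod_cast Int.eq_one_of_dvd_one (Int.natCast_nonneg p) h
    · exact mul_ne_zero he0 (pow_ne_zero _ hp.ne_zero) hj.symm
  obtain ⟨k, m, hm, rfl⟩ := Nat.exists_eq_pow_mul_and_not_dvd hf.ne' p hp.ne_one
  have hm0 : NeZero ((m : ℕ) : ZMod p) := ⟨fun h => hm ((ZMod.natCast_eq_zero_iff m p).mp h)⟩
  have h1 : ((p : ℤ) ∣ (Polynomial.cyclotomic (p ^ k * m) ℤ).eval (q : ℤ)) ↔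
      IsPrimitiveRoot (q : ZMod p) m := by
    rw [← Polynomial.isRoot_cyclotomic_prime_pow_mul_iff_of_charP (k := k) (p := p),
      ← ZMod.intCast_zmod_eq_zero_iff_dvd, Polynomial.IsRoot,
      ← Polynomial.map_cyclotomic_int (p ^ k * m) (ZMod p)]
    conv_rhs => rw [show (q : ZMod p) = (Int.castRingHom (ZMod p)) (q : ℤ) by simp,
      Polynomial.eval_map, Polynomial.eval₂_at_apply]
    simp
  rw [h1, IsPrimitiveRoot.iff_orderOf]
  constructor
  · intro h
    exact ⟨k, by rw [he, h, mul_comm]⟩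
  · rintro ⟨j, hj⟩
    have := congrArg (fun t => t / p ^ t.factorization p) hj
    rw [mul_comm e] at this
    rw [Nat.ordCompl_mul, Nat.ordCompl_mul, Nat.Prime.factorization_pow hp] at this
    simp only [Nat.factorization_pow, hp.factorization_self, Finsupp.smul_apply, smul_eq_mul, mul_one,
      Finsupp.single_eq_same, Nat.div_self (pow_pos hp.pos _), one_mul,
      Nat.factorization_eq_zero_of_not_dvd hm, Nat.factorization_eq_zero_of_not_dvd hpe,
      pow_zero, Nat.div_one] at this
    exact this.symm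

end Cfsg.Agent.S4230
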