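import Cfsg.Statements.S4234
import Cfsg.Agent.FGS80.Order1092
import Cfsg.Agent.Lib.LinearGroup.Simple
import Cfsg.Agent.Lib.LinearGroup.Card

set_option autoImplicit false
open Cfsg

namespace Cfsg.Agent.S4234

instance : Fact (Nat.Prime 13) := ⟨by norm_num⟩

/-- Normalisers of non-normal subgroups pull back from a simple quotient of order `1092` by a
small central kernel. -/
theorem key {K Q : Type*} [Group K] [Finite K] [Group Q] [Finite Q] [IsSimpleGroup Q]
    (hQ : Nat.card Q = 1092) (f : K →* Q) (hf : Function.Surjective f)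
    (hc : f.ker ≤ Subgroup.center K) (h2 : ∀ z ∈ f.ker, z * z = 1)
    (hZ : ∀ H : Subgroup K, f.ker ≤ H ∨ Odd (Nat.card H)) (H : Subgroup K) (hH : ¬ H.Normal) :
    IsCoatom (Subgroup.normalizer (H : Set K)) := by
  have hN : Subgroup.normalizer (H : Set K) =
      (Subgroup.normalizer ((H.map f : Subgroup Q) : Set Q)).comap f := by
    apply le_antisymm
    · exact Subgroup.map_le_iff_le_comap.1 (Subgroup.le_normalizer_map f)
    · intro x hx
      have conj : ∀ y : K, f y ∈ Subgroup.normalizer ((H.map f : Subgroup Q) : Set Q) →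
          ∀ h ∈ H, y * h * y⁻¹ ∈ H := by
        intro y hy h hh
        obtain ⟨h', hh', he⟩ := (Subgroup.mem_normalizer_iff.1 hy (f h)).1 ⟨h, hh, rfl⟩
        set z := h'⁻¹ * (y * h * y⁻¹) with hz
        have hzk : z ∈ f.ker := by
          rw [MonoidHom.mem_ker, hz, map_mul, map_inv, map_mul, map_mul, map_inv, he]; group
        have e : y * h * y⁻¹ = h' * z := by rw [hz]; group
        rw [e]
        rcases hZ H with hle | hodd
        · exact H.mul_mem hh' (hle hzk)
        · have hpow : ∀ g ∈ H, g ^ Nat.card H = 1 := fun g hg =>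
            congrArg Subtype.val (pow_card_eq_one' (x := (⟨g, hg⟩ : H)))
          have h1 : (y * h * y⁻¹) ^ Nat.card H = 1 := by
            rw [conj_pow, hpow h hh]; group
          have hcomm : Commute h' z := Subgroup.mem_center_iff.1 (hc hzk) h'
          rw [e, hcomm.mul_pow, hpow h' hh', one_mul] at h1
          obtain ⟨k, hk⟩ := hodd
          rw [hk, pow_succ, pow_mul, pow_two, h2 z hzk, one_pow, one_mul] at h1
          rw [h1, mul_one]; exact hh'
      rw [Subgroup.mem_normalizer_iff]
      refine fun h => ⟨conj x hx h, fun hh => ?_⟩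
      simpa [mul_assoc] using conj x⁻¹ (by rw [map_inv]; exact inv_mem hx) _ hh
  have hne : Subgroup.normalizer ((H.map f : Subgroup Q) : Set Q) ≠ ⊤ := fun h => hH (by
    rw [← Subgroup.normalizer_eq_top_iff, hN, h, Subgroup.comap_top])
  have hco := FGS80.Order1092.isCoatom_normalizer hQ (H := H.map f)
    (fun h => hne (by rw [h]; exact Subgroup.normalizer_eq_top_iff.2 inferInstance))
    (fun h => hne (by rw [h]; exact Subgroup.normalizer_eq_top_iff.2 inferInstance))
  rw [hN]
  exact Subgroup.isCoatom_comap_of_surjective hf hco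

theorem card_psl : Nat.card (Matrix.ProjectiveSpecialLinearGroup (Fin 2) (ZMod 13)) = 1092 := by
  have h := LinearGroup.gcd_mul_card_PSL_two (F := ZMod 13)
  rw [Nat.card_zmod] at h
  norm_num [-Nat.card_eq_fintype_card] at h
  omega

theorem sq_eq_one_mem_center (A : Matrix.SpecialLinearGroup (Fin 2) (ZMod 13)) (h : A * A = 1) :
    A ∈ Subgroup.center (Matrix.SpecialLinearGroup (Fin 2) (ZMod 13)) := by
  have hi : A⁻¹ = A := inv_eq_of_mul_eq_one_right h
  have hM := congrArg (fun X : Matrix.SpecialLinearGroup (Fin 2) (ZMod 13) =>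
    (X : Matrix (Fin 2) (Fin 2) (ZMod 13))) hi
  simp only [Matrix.SpecialLinearGroup.coe_inv, Matrix.adjugate_fin_two] at hM
  have e01 := congrFun (congrFun hM 0) 1
  have e10 := congrFun (congrFun hM 1) 0
  have e00 := congrFun (congrFun hM 0) 0
  simp at e01 e10 e00
  have hk : ∀ b : ZMod 13, -b = b → b = 0 := by decide
  have h01 := hk _ e01
  have h10 := hk _ e10
  rw [Subgroup.mem_center_iff]
  intro B
  apply Subtype.ext
  rw [Matrix.SpecialLinearGroup.coe_mul, Matrix.SpecialLinearGroup.coe_mul]
  ext i j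
  fin_cases i <;> fin_cases j <;>
    simp [Matrix.mul_apply, Fin.sum_univ_two, h01, h10, e00, mul_comm]

/-- Let K be isomorphic to PSL(2, 13) or to SL(2, 13) and let S be a finite abelian group of order coprime to the order of K. Then in the direct product K × S every subgroup that is not normal has a normalizer that is a maximal subgroup. -/
theorem result {K S : Type*} [Group K] [CommGroup S] [Finite K] [Finite S]
    (hK : Nonempty (K ≃* Matrix.ProjectiveSpecialLinearGroup (Fin 2) (ZMod 13)) ∨
      Nonempty (K ≃* Matrix.SpecialLinearGroup (Fin 2) (ZMod 13)))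
    (hKS : (Nat.card K).Coprime (Nat.card S)) (H : Subgroup (K × S)) (hH : ¬ H.Normal) :
    IsCoatom (Subgroup.normalizer (H : Set (K × S))) := by
  classical
  haveI hs : IsSimpleGroup (Matrix.ProjectiveSpecialLinearGroup (Fin 2) (ZMod 13)) :=
    LinearGroup.isSimpleGroup_PSL' fun _ => ⟨2, by decide, by decide⟩
  -- the components of `H`
  have hfst : ∀ p ∈ H, ((p.1, 1) : K × S) ∈ H := by
    intro p hp
    obtain ⟨m, hm1, hm0⟩ := Nat.chineseRemainder hKS 1 0
    have e : p ^ m = ((p.1, 1) : K × S) := by
      refine Prod.ext ?_ ?_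
      · rw [Prod.pow_fst, ← pow_mod_natCard p.1 m, hm1, pow_mod_natCard, pow_one]
      · rw [Prod.pow_snd, ← pow_mod_natCard p.2 m, hm0, pow_mod_natCard, pow_zero]
    exact e ▸ H.pow_mem hp m
  have hmem : ∀ p : K × S, p ∈ H ↔ p.1 ∈ H.map (MonoidHom.fst K S) ∧ ((1, p.2) : K × S) ∈ H := by
    intro p
    have hsplit : p = ((p.1, 1) : K × S) * (1, p.2) := by simp
    constructor
    · intro hp
      refine ⟨⟨p, hp, rfl⟩, ?_⟩
      have := H.mul_mem (H.inv_mem (hfst p hp)) hp
      rwa [show ((p.1, 1) : K × S)⁻¹ * p = (1, p.2) by ext <;> simp] at this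
    · rintro ⟨⟨q, hq, he⟩, h2⟩
      rw [hsplit]
      refine H.mul_mem ?_ h2
      have := hfst q hq
      rwa [show q.1 = p.1 from he] at this
  set H1 := H.map (MonoidHom.fst K S) with hH1
  have hN : Subgroup.normalizer (H : Set (K × S)) =
      (Subgroup.normalizer (H1 : Set K)).comap (MonoidHom.fst K S) := by
    apply le_antisymm
    · exact Subgroup.map_le_iff_le_comap.1 (Subgroup.le_normalizer_map _)
    · intro x hx
      rw [Subgroup.mem_normalizer_iff]
      intro p
      rw [hmem p, hmem (x * p * x⁻¹)]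
      simp only [Prod.fst_mul, Prod.fst_inv, Prod.snd_mul, Prod.snd_inv, mul_inv_cancel_comm]
      exact and_congr_left' (Subgroup.mem_normalizer_iff.1 hx p.1)
  have hH1n : ¬ H1.Normal := fun h => hH (by
    rw [← Subgroup.normalizer_eq_top_iff, hN, Subgroup.normalizer_eq_top_iff.2 h,
      Subgroup.comap_top])
  rw [hN]
  refine Subgroup.isCoatom_comap_of_surjective Prod.fst_surjective ?_
  rcases hK with ⟨⟨e⟩⟩ | ⟨⟨e⟩⟩
  · have hker : e.toMonoidHom.ker = ⊥ := (MonoidHom.ker_eq_bot_iff _).2 e.injective
    refine key card_psl e.toMonoidHom e.surjective ?_ ?_ ?_ H1 hH1n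
    · rw [hker]; exact bot_le
    · rw [hker]; intro z hz; rw [Subgroup.mem_bot.1 hz, one_mul]
    · intro L; left; rw [hker]; exact bot_le
  · let f : K →* Matrix.ProjectiveSpecialLinearGroup (Fin 2) (ZMod 13) :=
      (QuotientGroup.mk' (Subgroup.center (Matrix.SpecialLinearGroup (Fin 2) (ZMod 13)))).comp
        e.toMonoidHom
    have hker : ∀ z, z ∈ f.ker ↔
        e z ∈ Subgroup.center (Matrix.SpecialLinearGroup (Fin 2) (ZMod 13)) := fun z => by
      rw [MonoidHom.mem_ker]
      exact QuotientGroup.eq_one_iff (e z)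
    have hcard : Nat.card f.ker = 2 := by
      have h2 := LinearGroup.card_center_SL (F := ZMod 13) (n := Fin 2)
      rw [Fintype.card_fin, Nat.card_zmod, show Nat.gcd 2 (13 - 1) = 2 from rfl] at h2
      exact (Nat.card_congr (Equiv.subtypeEquiv e.toEquiv hker)).trans h2
    refine key card_psl f ((QuotientGroup.mk'_surjective _).comp e.surjective) ?_ ?_ ?_ H1 hH1n
    · intro z hz
      rw [Subgroup.mem_center_iff]
      intro g
      apply e.injective
      rw [map_mul, map_mul]
      exact Subgroup.mem_center_iff.1 ((hker z).1 hz) (e g)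
    · intro z hz
      have h := congrArg Subtype.val (pow_card_eq_one' (x := (⟨z, hz⟩ : f.ker)))
      rw [hcard] at h
      simpa [pow_two] using h
    · intro L
      rcases Nat.even_or_odd (Nat.card L) with hev | hodd
      · left
        haveI : Fact (Nat.Prime 2) := ⟨Nat.prime_two⟩
        obtain ⟨⟨t, htL⟩, ht⟩ :=
          exists_prime_orderOf_dvd_card' (G := ↥L) 2 (even_iff_two_dvd.1 hev)
        rw [Subgroup.orderOf_mk] at ht
        have htk : t ∈ f.ker := (hker t).2 (sq_eq_one_mem_center _ (by
          have h1 : t * t = 1 := by rw [← pow_two]; exact (congrArg (t ^ ·) ht.symm).trans (pow_orderOf_eq_one t)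
          rw [← map_mul, h1, map_one]))
        have hz : Subgroup.zpowers t = f.ker :=
          Subgroup.eq_of_le_of_card_ge (Subgroup.zpowers_le.2 htk)
            (by rw [Nat.card_zpowers, ht, hcard])
        rw [← hz]
        exact Subgroup.zpowers_le.2 htL
      · exact Or.inr hodd

end Cfsg.Agent.S4234
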