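import Cfsg.Statements.S4237
import Cfsg.Agent.FGS80.Kulakoff
-- import your own Cfsg.Agent.* helpers here

set_option autoImplicit false
open Cfsg

namespace Cfsg.Agent.S4237

/-- Let G be a finite group, p a prime and a a natural number such that p^(a+1) divides the order of G. Then the number of subgroups of G of order p^a is congruent to 1 or to 1 + p modulo p². -/
theorem result {G : Type*} [Group G] [Finite G] (p a : ℕ) (hp : p.Prime) (hdvd : p ^ (a + 1) ∣ Nat.card G) :
    Nat.card {H : Subgroup G // Nat.card H = p ^ a} ≡ 1 [MOD p ^ 2] ∨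
      Nat.card {H : Subgroup G // Nat.card H = p ^ a} ≡ 1 + p [MOD p ^ 2] := by
  classical
  haveI : Fact p.Prime := ⟨hp⟩
  letI : Fintype (Subgroup G) := Fintype.ofFinite _
  obtain ⟨P⟩ : Nonempty (Sylow p G) := inferInstance
  obtain ⟨n, hn⟩ := IsPGroup.iff_card.mp P.isPGroup'
  have han : a < n := by
    have h1 := P.pow_dvd_card_of_pow_dvd_card hdvd
    rw [hn] at h1
    exact (Nat.pow_dvd_pow_iff_le_right hp.one_lt).1 h1
  have hcount : Nat.card {H : Subgroup G // Nat.card H = p ^ a} =
      (Cfsg.Agent.FGS80.Kulakoff.all (G := G) p a).card := by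
    rw [← Fintype.card_coe, ← Nat.card_eq_fintype_card]
    exact Nat.card_congr (Equiv.subtypeEquivRight fun H => by
      simp [Cfsg.Agent.FGS80.Kulakoff.all])
  have key := Cfsg.Agent.FGS80.Kulakoff.card_all_eq P hn han
  rw [← hcount] at key
  simp only [← ZMod.natCast_eq_natCast_iff, Nat.cast_add, Nat.cast_one]
  rw [key]
  by_cases hc : IsCyclic (P : Subgroup G)
  · left; rw [Cfsg.Agent.FGS80.Kulakoff.card_subs_cyclic hn han.le hc]; simp
  by_cases ha : a = 0
  · left
    subst ha
    have : Cfsg.Agent.FGS80.Kulakoff.subs p 0 (P : Subgroup G) = {⊥} := by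
      ext H
      simp only [Cfsg.Agent.FGS80.Kulakoff.mem_subs, Finset.mem_singleton, pow_zero,
        Subgroup.card_eq_one]
      exact ⟨fun h => h.2, fun h => ⟨h ▸ bot_le, h⟩⟩
    rw [this]; simp
  by_cases hp2 : p = 2
  · subst hp2
    have h1 := Cfsg.Agent.FGS80.Kulakoff.card_subs_cast n (P : Subgroup G) a hn han.le
    generalize (Cfsg.Agent.FGS80.Kulakoff.subs 2 a (P : Subgroup G)).card = s at h1 ⊢
    rw [← Nat.cast_one, ZMod.natCast_eq_natCast_iff] at h1
    rw [← Nat.cast_one, ← Nat.cast_add, ZMod.natCast_eq_natCast_iff, ZMod.natCast_eq_natCast_iff]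
    simp only [Nat.ModEq] at h1 ⊢
    omega
  right
  exact Cfsg.Agent.FGS80.Kulakoff.kulakoff hp2 n _ a hn (Nat.pos_of_ne_zero ha) han hc

end Cfsg.Agent.S4237
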