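import Cfsg.Statements.S4238
import Cfsg.Agent.Lib.Transfer.Frobenius
import Cfsg.Agent.Lib.Transfer.Residual
import Cfsg.Agent.Lib.Transfer.Focal
import Cfsg.Agent.Lib.Thompson.Cores
import Mathlib
-- import your own Cfsg.Agent.* helpers here

set_option autoImplicit false
open Cfsg

namespace Cfsg.Agent.S4238

open Subgroup
open scoped commutatorElement Pointwise

/-- A finite `p`-group has an element of order equal to its exponent. -/
theorem exists_orderOf_eq_exponent_of_isPGroup {K : Type*} [Group K] [Finite K] {p : ℕ} [Fact p.Prime]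
    (hK : IsPGroup p K) : ∃ k : K, orderOf k = Monoid.exponent K := by
  obtain ⟨k, hk⟩ := Finite.exists_max (fun x : K => orderOf x)
  refine ⟨k, Nat.dvd_antisymm (Monoid.order_dvd_exponent k) (Monoid.exponent_dvd.mpr fun x => ?_)⟩
  obtain ⟨a, ha⟩ := IsPGroup.iff_orderOf.mp hK x
  obtain ⟨b, hb⟩ := IsPGroup.iff_orderOf.mp hK k
  have h := hk x
  rw [ha, hb] at h
  rw [ha, hb]
  exact pow_dvd_pow p ((Nat.pow_le_pow_iff_right (Fact.out : p.Prime).one_lt).mp h)

/-- A section without an element of full order. -/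
theorem exists_bad_section {G : Type*} [Group G] [Finite G] {p : ℕ} [Fact p.Prime]
    (hG : ¬ Cfsg.HasNormalPComplement p G) :
    ∃ (H : Subgroup G) (N : Subgroup H) (_ : N.Normal), Cfsg.pPrimeCore p (H ⧸ N) = ⊥ ∧
      ∀ k : H ⧸ N, orderOf k ≠ Monoid.exponent (H ⧸ N) := by
  classical
  have hp : p.Prime := Fact.out
  obtain ⟨P⟩ : Nonempty (Sylow p G) := inferInstance
  have hex : ∃ (U : Subgroup G) (g : G), IsPGroup p U ∧ g ∈ normalizer (U : Set G) ∧
      (orderOf g).Coprime p ∧ g ∉ centralizer (U : Set G) := by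
    by_contra hc
    push Not at hc
    exact hG (Transfer.hasNormalPComplement_of_normalizer_centralizer P fun Q hQ _ g hg hgp =>
      hc Q g (P.2.to_le hQ) hg hgp)
  obtain ⟨⟨U, y⟩, hUy, hmin⟩ := Set.exists_min_image
    {x : Subgroup G × G | IsPGroup p x.1 ∧ x.2 ∈ normalizer (x.1 : Set G) ∧
      (orderOf x.2).Coprime p ∧ x.2 ∉ centralizer (x.1 : Set G)}
    (fun x => Nat.card x.1 * (Nat.card G + 1) + orderOf x.2) (Set.toFinite _)
    (by obtain ⟨U, g, h⟩ := hex; exact ⟨(U, g), h⟩)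
  obtain ⟨hU, hyN, hyp, hyC⟩ := hUy
  have hminU : ∀ W : Subgroup G, W < U → y ∈ normalizer (W : Set G) → y ∈ centralizer (W : Set G) := by
    intro W hW hyW
    by_contra hc
    have h := hmin (W, y) ⟨hU.to_le hW.le, hyW, hyp, hc⟩
    have h1 : Nat.card W < Nat.card U := lt_of_not_ge fun hge =>
      hW.ne (eq_of_le_of_card_ge hW.le hge)
    simp only at h
    nlinarith
  have hy1 : y ≠ 1 := fun h => hyC (h ▸ one_mem _)
  obtain ⟨q, hq, hqy⟩ := Nat.exists_prime_and_dvd (fun h => hy1 (orderOf_eq_one_iff.mp h))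
  have hqp : ¬ q = p := fun h => (Nat.Prime.coprime_iff_not_dvd hp).mp hyp.symm (h ▸ hqy)
  have hyq : y ^ q ∈ centralizer (U : Set G) := by
    by_contra hc
    have h := hmin (U, y ^ q) ⟨hU, pow_mem hyN q, hyp.coprime_dvd_left (orderOf_pow_dvd q), hc⟩
    have h1 : orderOf (y ^ q) < orderOf y := by
      rw [orderOf_pow' y hq.ne_zero, Nat.gcd_eq_right hqy]
      exact Nat.div_lt_self (orderOf_pos y) hq.one_lt
    simp only at h
    omega
  have hfix : ∀ u ∈ U, ∀ i : ℕ, (y ^ q) ^ i * u = u * (y ^ q) ^ i := fun u hu i =>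
    (mem_centralizer_iff.mp (pow_mem hyq i) u hu).symm
  have hdisj : ∀ j : ℕ, y ^ j ∈ U → y ^ j = 1 := fun j hj => by
    rw [← orderOf_eq_one_iff]
    obtain ⟨a, ha⟩ := IsPGroup.iff_orderOf.mp hU ⟨y ^ j, hj⟩
    rw [Subgroup.orderOf_mk] at ha
    exact Nat.eq_one_of_dvd_coprimes (hyp.coprime_dvd_left (orderOf_pow_dvd j))
      dvd_rfl (by
        rcases Nat.eq_zero_or_pos a with h0 | h0
        · rw [ha, h0, pow_zero]; exact one_dvd _
        · exfalso
          exact (Nat.Prime.coprime_iff_not_dvd hp).mp (hyp.coprime_dvd_left (orderOf_pow_dvd j)).symm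
            (ha ▸ dvd_pow_self p h0.ne'))
  -- a maximal invariant proper subgroup containing the derived subgroup
  set U' : Subgroup G := ⁅U, U⁆ with hU'def
  have hU'le : U' ≤ U := Subgroup.commutator_le_self U
  have hUne : U ≠ ⊥ := fun h => hyC (by
    rw [h, mem_centralizer_iff]
    intro u hu
    rw [SetLike.mem_coe, mem_bot] at hu
    simp [hu])
  haveI : Group.IsNilpotent U := hU.isNilpotent
  have hU'lt : U' < U := by
    refine lt_of_le_of_ne hU'le fun h => hUne ?_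
    have h1 : commutator U = ⊤ := by
      apply map_injective U.subtype_injective
      rw [map_subtype_commutator, ← MonoidHom.range_eq_map, range_subtype]
      exact h
    have h2 : (⊤ : Subgroup U) = ⊥ := Transfer.eq_bot_of_le_commutator_top (h1.ge.trans (le_of_eq rfl))
    refine (eq_bot_iff_forall U).mpr fun u hu => ?_
    have h3 : (⟨u, hu⟩ : U) ∈ (⊤ : Subgroup U) := mem_top _
    rw [h2, mem_bot] at h3
    exact congrArg Subtype.val h3
  have hinv' : ∀ u ∈ U', y * u * y⁻¹ ∈ U' := by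
    intro u hu
    have h1 : U.map (MulAut.conj y).toMonoidHom = U :=
      (mem_normalizer_iff_map_conj_eq (H := U)).mp hyN
    have h2 : U'.map (MulAut.conj y).toMonoidHom = U' := by rw [hU'def, map_commutator, h1]
    exact h2.le ⟨u, hu, rfl⟩
  obtain ⟨N0, hN0, hmax⟩ := Set.exists_max_image
    {W : Subgroup G | U' ≤ W ∧ W < U ∧ y ∈ normalizer (W : Set G)} (fun W => Nat.card W)
    (Set.toFinite _) ⟨U', le_rfl, hU'lt, (mem_normalizer_iff_map_conj_eq (H := U')).mpr
      (eq_of_le_of_card_ge (by rintro _ ⟨u, hu, rfl⟩; exact hinv' u hu)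
        (card_map_of_injective (MulAut.conj y).injective).ge)⟩
  obtain ⟨hU'N0, hN0U, hyN0⟩ := hN0
  have hN0c : ∀ u ∈ N0, y * u = u * y := fun u hu =>
    (mem_centralizer_iff.mp (hminU N0 hN0U hyN0) u hu).symm
  have hcomm : ∀ a ∈ U, ∀ b ∈ U, ⁅a, b⁆ ∈ N0 := fun a ha b hb =>
    hU'N0 (commutator_mem_commutator ha hb)
  have hN0n : ∀ a ∈ U, ∀ n ∈ N0, a * n * a⁻¹ ∈ N0 := fun a ha n hn => by
    have := mul_mem (hcomm a ha n (hN0U.le hn)) hn
    rwa [commutatorElement_def, inv_mul_cancel_right] at this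
  have hnofix : ∀ x ∈ U, x⁻¹ * (y * x * y⁻¹) ∈ N0 → x ∈ N0 := by
    intro x hxU hx
    by_contra hxN
    set W := N0 ⊔ zpowers x with hW
    have hyW : y ∈ normalizer (W : Set G) := by
      refine (mem_normalizer_iff_map_conj_eq (H := W)).mpr (eq_of_le_of_card_ge ?_
        (card_map_of_injective (MulAut.conj y).injective).ge)
      rw [hW, Subgroup.map_sup, MonoidHom.map_zpowers]
      refine sup_le ((mem_normalizer_iff_map_conj_eq (H := N0)).mp hyN0 |>.le.trans le_sup_left) (zpowers_le.mpr ?_)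
      show y * x * y⁻¹ ∈ _
      rw [show y * x * y⁻¹ = x * (x⁻¹ * (y * x * y⁻¹)) by group]
      exact mul_mem (mem_sup_right (mem_zpowers x)) (mem_sup_left hx)
    have hWU : W = U := by
      by_contra hne
      have hlt : W < U := lt_of_le_of_ne (sup_le hN0U.le (zpowers_le.mpr hxU)) hne
      have hle : N0 ≤ W := le_sup_left
      have := hmax W ⟨hU'N0.trans hle, hlt, hyW⟩
      exact hxN ((eq_of_le_of_card_ge hle this).symm ▸ mem_sup_right (mem_zpowers x))
    apply hyC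
    rw [mem_centralizer_iff]
    intro u hu
    obtain ⟨c, hcN, hc⟩ : ∃ c ∈ N0, y * u * y⁻¹ = c * u := by
      have hsub : W ≤
          ({ carrier := {u | u ∈ U ∧ y * u * y⁻¹ * u⁻¹ ∈ N0}
             one_mem' := ⟨one_mem _, by simp⟩
             mul_mem' := fun {a b} ha hb => ⟨mul_mem ha.1 hb.1, by
               rw [show y * (a * b) * y⁻¹ * (a * b)⁻¹ =
                 (y * a * y⁻¹ * a⁻¹) * (a * (y * b * y⁻¹ * b⁻¹) * a⁻¹) by group]
               exact mul_mem ha.2 (hN0n a ha.1 _ hb.2)⟩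
             inv_mem' := fun {a} ha => ⟨inv_mem ha.1, by
               rw [show y * a⁻¹ * y⁻¹ * a⁻¹⁻¹ = a⁻¹ * (y * a * y⁻¹ * a⁻¹)⁻¹ * a⁻¹⁻¹ by group]
               exact hN0n _ (inv_mem ha.1) _ (inv_mem ha.2)⟩ } : Subgroup G) := by
        refine sup_le (fun n hn => ⟨hN0U.le hn, ?_⟩) (zpowers_le.mpr ⟨hxU, ?_⟩)
        · rw [hN0c n hn, mul_inv_cancel_right, mul_inv_cancel]
          exact one_mem _
        · rw [show y * x * y⁻¹ * x⁻¹ = x * (x⁻¹ * (y * x * y⁻¹)) * x⁻¹ by group]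
          exact hN0n x hxU _ hx
      exact ⟨_, (hsub (hWU.symm ▸ hu : u ∈ W)).2, (inv_mul_cancel_right _ _).symm⟩
    have hit : ∀ i : ℕ, y ^ i * u * (y ^ i)⁻¹ = c ^ i * u := by
      intro i
      induction i with
      | zero => simp
      | succ i ih =>
        calc y ^ (i + 1) * u * (y ^ (i + 1))⁻¹ = y * (y ^ i * u * (y ^ i)⁻¹) * y⁻¹ := by
              rw [pow_succ']; group
          _ = y * (c ^ i * u) * y⁻¹ := by rw [ih]
          _ = (y * c ^ i) * (u * y⁻¹) := by group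
          _ = c ^ i * (y * u * y⁻¹) := by rw [hN0c _ (pow_mem hcN i)]; group
          _ = c ^ (i + 1) * u := by rw [hc, ← mul_assoc, ← pow_succ]
    have h1 := hit (orderOf y)
    rw [pow_orderOf_eq_one, one_mul, inv_one, mul_one, eq_comm, mul_eq_right] at h1
    have hc1 : c = 1 := by
      rw [← orderOf_eq_one_iff]
      obtain ⟨a, ha⟩ := IsPGroup.iff_orderOf.mp hU ⟨c, hN0U.le hcN⟩
      rw [Subgroup.orderOf_mk] at ha
      exact Nat.eq_one_of_dvd_coprimes (Nat.Coprime.pow_right a hyp)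
        (orderOf_dvd_of_pow_eq_one h1) (ha ▸ dvd_rfl)
    rw [hc1, one_mul, mul_inv_eq_iff_eq_mul] at hc
    exact hc.symm
  -- the section
  let H : Subgroup G :=
    { carrier := {g | ∃ u ∈ U, ∃ j : ℕ, g = u * y ^ j}
      one_mem' := ⟨1, one_mem _, 0, by simp⟩
      mul_mem' := by
        rintro _ _ ⟨u, hu, j, rfl⟩ ⟨v, hv, k, rfl⟩
        refine ⟨u * (y ^ j * v * (y ^ j)⁻¹), mul_mem hu (((mem_normalizer_iff.mp (pow_mem hyN j)) v).mp hv),
          j + k, ?_⟩
        rw [pow_add]; group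
      inv_mem' := by
        rintro _ ⟨u, hu, j, rfl⟩
        obtain ⟨k, hk⟩ : ∃ k : ℕ, (y ^ j)⁻¹ = y ^ k :=
          ⟨(orderOf y - 1) * j, inv_eq_of_mul_eq_one_right (by
            rw [← pow_add, show j + (orderOf y - 1) * j = orderOf y * j by
              obtain ⟨o, ho⟩ : ∃ o, orderOf y = o + 1 := ⟨orderOf y - 1, by have := orderOf_pos y; omega⟩
              rw [ho, Nat.add_sub_cancel]; ring, pow_mul, pow_orderOf_eq_one, one_pow])⟩
        refine ⟨y ^ k * u⁻¹ * (y ^ k)⁻¹, ((mem_normalizer_iff.mp (pow_mem hyN k)) _).mp (inv_mem hu), k, ?_⟩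
        rw [mul_inv_rev, hk, inv_mul_cancel_right] }
  have hyH : y ∈ H := ⟨1, one_mem _, 1, by simp⟩
  have hUH : ∀ u ∈ U, u ∈ H := fun u hu => ⟨u, hu, 0, by simp⟩
  let M : Subgroup G := N0 ⊔ zpowers (y ^ q)
  have hMmem : ∀ g ∈ M, ∃ n ∈ N0, ∃ i : ℕ, g = n * (y ^ q) ^ i := by
    intro g hg
    have hnorm : zpowers (y ^ q) ≤ normalizer (N0 : Set G) := zpowers_le.mpr (pow_mem hyN0 q)
    have : g ∈ ((N0 : Set G) * (zpowers (y ^ q) : Set G)) := by
      rw [← Subgroup.coe_mul_of_right_le_normalizer_left _ _ hnorm]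
      exact hg
    obtain ⟨n, hn, z, hz, rfl⟩ := Set.mem_mul.mp this
    obtain ⟨i, rfl⟩ := mem_powers_iff_mem_zpowers.mpr hz
    exact ⟨n, hn, i, rfl⟩
  haveI hMn : (M.subgroupOf H).Normal := by
    refine ⟨fun m hm h => ?_⟩
    rw [mem_subgroupOf] at hm ⊢
    obtain ⟨u, hu, j, hh⟩ := h.2
    obtain ⟨n, hn, i, hni⟩ := hMmem _ hm
    have h1 : y ^ j * (m : G) * (y ^ j)⁻¹ = m := by
      have h2 : y ^ j * n = n * y ^ j := by
        have : Commute y n := hN0c n hn
        exact (this.pow_left j).eq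
      rw [hni, ← mul_assoc, h2, mul_assoc n, ← pow_mul, ← pow_add, add_comm, pow_add, ← mul_assoc,
        mul_inv_cancel_right]
    show (h : G) * (m : G) * (h : G)⁻¹ ∈ M
    rw [hh, show u * y ^ j * (m : G) * (u * y ^ j)⁻¹ = u * (y ^ j * m * (y ^ j)⁻¹) * u⁻¹ by group, h1, hni,
      show u * (n * (y ^ q) ^ i) * u⁻¹ = u * n * u⁻¹ * (u * (y ^ q) ^ i * u⁻¹) by group,
      ← hfix u hu i, mul_inv_cancel_right]
    exact mul_mem (mem_sup_left (hN0n u hu n hn)) (mem_sup_right (pow_mem (mem_zpowers _) i))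
  set π := QuotientGroup.mk' (M.subgroupOf H) with hπ
  have hπ1 : ∀ h : H, π h = 1 ↔ (h : G) ∈ M := fun h => by
    rw [hπ, QuotientGroup.mk'_apply, QuotientGroup.eq_one_iff, mem_subgroupOf]
  have hUM : ∀ u ∈ U, u ∈ M → u ∈ N0 := by
    intro u hu hm
    obtain ⟨n, hn, i, rfl⟩ := hMmem u hm
    have h1 : (y ^ q) ^ i = 1 := by
      rw [← pow_mul]
      refine hdisj _ ?_
      rw [pow_mul, ← inv_mul_cancel_left n ((y ^ q) ^ i)]
      exact mul_mem (inv_mem (hN0U.le hn)) hu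
    rwa [h1, mul_one]
  set Y : H ⧸ M.subgroupOf H := π ⟨y, hyH⟩ with hY
  have hYq : Y ^ q = 1 := by
    rw [hY, ← map_pow, hπ1]
    exact mem_sup_right (mem_zpowers _)
  have hY1 : Y ≠ 1 := by
    intro h
    rw [hY, hπ1] at h
    obtain ⟨n, hn, i, hni⟩ := hMmem _ h
    apply hyC
    have hyn : y = n * (y ^ q) ^ i := hni
    have hnc : n ∈ centralizer (U : Set G) := by
      have h1 : n = y * ((y ^ q) ^ i)⁻¹ := eq_mul_inv_of_mul_eq hyn.symm
      have h2 : n ∈ zpowers y := h1 ▸ mul_mem (mem_zpowers y) (inv_mem (pow_mem (pow_mem (mem_zpowers y) q) i))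
      obtain ⟨k, hk⟩ := mem_powers_iff_mem_zpowers.mpr h2
      change y ^ k = n at hk
      rw [← hk, hdisj k (by rw [hk]; exact hN0U.le hn)]
      exact one_mem _
    exact hyn ▸ mul_mem hnc (pow_mem hyq i)
  -- no mixed commuting pair
  have hkey : ∀ (u : G) (hu : u ∈ U) (s : H ⧸ M.subgroupOf H), (s ^ q = 1 ∧ s ≠ 1) →
      Commute s (π ⟨u, hUH u hu⟩) → π ⟨u, hUH u hu⟩ = 1 := by
    intro u hu s hs hsu
    obtain ⟨⟨_, v, hv, j, rfl⟩, rfl⟩ := QuotientGroup.mk'_surjective _ s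
    have hsplit : π ⟨v * y ^ j, v, hv, j, rfl⟩ = π ⟨v, hUH v hv⟩ * Y ^ j := by
      rw [hY, ← map_pow, ← map_mul]; rfl
    change π ⟨v * y ^ j, v, hv, j, rfl⟩ ^ q = 1 ∧ π ⟨v * y ^ j, v, hv, j, rfl⟩ ≠ 1 at hs
    change Commute (π ⟨v * y ^ j, v, hv, j, rfl⟩) _ at hsu
    rw [hsplit] at hsu hs
    have hvu : Commute (π ⟨v, hUH v hv⟩) (π ⟨u, hUH u hu⟩) := by
      rw [← commutatorElement_eq_one_iff_commute, ← map_commutatorElement, hπ1]
      exact mem_sup_left (hcomm v hv u hu)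
    have hYu : Commute (Y ^ j) (π ⟨u, hUH u hu⟩) := by
      have := hvu.inv_left.mul_left hsu
      rwa [inv_mul_cancel_left] at this
    have hj : ¬ q ∣ j := by
      rintro ⟨k, rfl⟩
      rw [pow_mul, hYq, one_pow, mul_one] at hs
      apply hs.2
      have h1 : orderOf (π ⟨v, hUH v hv⟩) ∣ q := orderOf_dvd_of_pow_eq_one hs.1
      obtain ⟨a, ha⟩ := IsPGroup.iff_orderOf.mp hU ⟨v, hv⟩
      rw [Subgroup.orderOf_mk] at ha
      have h2 : orderOf (π ⟨v, hUH v hv⟩) ∣ p ^ a :=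
        ha ▸ (Subgroup.orderOf_mk v (hUH v hv)) ▸ orderOf_map_dvd π _
      exact orderOf_eq_one_iff.mp (Nat.eq_one_of_dvd_coprimes
        (Nat.Coprime.pow_right a ((Nat.coprime_primes hq hp).mpr hqp)) h1 h2)
    haveI : Fact q.Prime := ⟨hq⟩
    have hoY : orderOf Y = q := orderOf_eq_prime hYq hY1
    obtain ⟨k, hk⟩ : ∃ k : ℕ, (Y ^ j) ^ k = Y :=
      exists_pow_eq_self_of_coprime (hoY ▸ (hq.coprime_iff_not_dvd.mpr hj).symm)
    have hYu' : Commute Y (π ⟨u, hUH u hu⟩) := hk ▸ hYu.pow_left k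
    rw [hπ1]
    refine mem_sup_left (hnofix u hu ?_)
    refine hUM _ (mul_mem (inv_mem hu) (((mem_normalizer_iff.mp hyN) u).mp hu)) ?_
    have h1 : π (⟨u, hUH u hu⟩⁻¹ * (⟨y, hyH⟩ * ⟨u, hUH u hu⟩ * ⟨y, hyH⟩⁻¹)) = 1 := by
      simp only [map_mul, map_inv]
      rw [← hY, hYu'.eq, mul_inv_cancel_right, inv_mul_cancel]
    exact (hπ1 _).mp h1
  obtain ⟨u0, hu0, hu0N⟩ := SetLike.exists_of_lt hN0U
  have hu0ne : π ⟨u0, hUH u0 hu0⟩ ≠ 1 := fun h => hu0N (hUM u0 hu0 ((hπ1 _).mp h))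
  have hcop : (p : ℕ).Coprime q := (Nat.coprime_primes hp hq).mpr (Ne.symm hqp)
  refine ⟨H, M.subgroupOf H, hMn, ?_, ?_⟩
  · rw [eq_bot_iff]
    intro k hk
    rw [mem_bot]
    by_contra hk1
    set O := Cfsg.pPrimeCore p (H ⧸ M.subgroupOf H) with hO
    haveI hOn : O.Normal := by rw [hO]; infer_instance
    have hOc : (Nat.card O).Coprime p := Thompson.card_pPrimeCore_coprime
    obtain ⟨⟨_, v, hv, j, rfl⟩, rfl⟩ := QuotientGroup.mk'_surjective _ k
    change π ⟨v * y ^ j, v, hv, j, rfl⟩ ∈ O at hk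
    change π ⟨v * y ^ j, v, hv, j, rfl⟩ ≠ 1 at hk1
    set s := π ⟨v * y ^ j, v, hv, j, rfl⟩ with hs
    have hsplit : s = π ⟨v, hUH v hv⟩ * Y ^ j := by rw [hs, hY, ← map_pow, ← map_mul]; rfl
    -- `s ^ q` is a `p`-element
    have hsq : s ^ q = 1 := by
      let R : Subgroup (H ⧸ M.subgroupOf H) := (U.subgroupOf H).map π
      haveI : (U.subgroupOf H).Normal := by
        refine ⟨fun a ha h => ?_⟩
        rw [mem_subgroupOf] at ha ⊢
        obtain ⟨w, hw, i, hh⟩ := h.2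
        show (h : G) * (a : G) * (h : G)⁻¹ ∈ U
        rw [hh, show w * y ^ i * (a : G) * (w * y ^ i)⁻¹ = w * (y ^ i * a * (y ^ i)⁻¹) * w⁻¹ by group]
        exact mul_mem (mul_mem hw (((mem_normalizer_iff.mp (pow_mem hyN i)) _).mp ha)) (inv_mem hw)
      haveI : R.Normal := Normal.map inferInstance _ (QuotientGroup.mk'_surjective _)
      have hRmem : π ⟨v, hUH v hv⟩ ∈ R := mem_map_of_mem _ (mem_subgroupOf.mpr hv)
      have hq' : s ^ q ∈ R := by
        rw [← QuotientGroup.eq_one_iff, QuotientGroup.mk_pow, hsplit, QuotientGroup.mk_mul,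
          (QuotientGroup.eq_one_iff _).mpr hRmem, one_mul, ← QuotientGroup.mk_pow, ← pow_mul,
          mul_comm, pow_mul, hYq, one_pow, QuotientGroup.mk_one]
      obtain ⟨w, hw, hwe⟩ := hq'
      obtain ⟨a, ha⟩ := IsPGroup.iff_orderOf.mp hU ⟨(w : G), mem_subgroupOf.mp hw⟩
      rw [Subgroup.orderOf_mk] at ha
      have h2 : orderOf (s ^ q) ∣ p ^ a := by
        rw [← hwe, ← ha, Subgroup.orderOf_coe]; exact orderOf_map_dvd π w
      exact orderOf_eq_one_iff.mp (Nat.eq_one_of_dvd_coprimes (Nat.Coprime.pow_right a hOc)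
        (Subgroup.orderOf_dvd_natCard _ (pow_mem hk q)) h2)
    have hcm : Commute s (π ⟨u0, hUH u0 hu0⟩) := by
      rw [← commutatorElement_eq_one_iff_commute]
      have hin : ⁅s, π ⟨u0, hUH u0 hu0⟩⁆ ∈ O := by
        rw [commutatorElement_def, mul_assoc _ s⁻¹, mul_assoc s]
        exact mul_mem hk (by rw [← mul_assoc]; exact hOn.conj_mem _ (inv_mem hk) _)
      haveI : (U.subgroupOf H).Normal := by
        refine ⟨fun a ha h => ?_⟩
        rw [mem_subgroupOf] at ha ⊢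
        obtain ⟨w, hw, i, hh⟩ := h.2
        show (h : G) * (a : G) * (h : G)⁻¹ ∈ U
        rw [hh, show w * y ^ i * (a : G) * (w * y ^ i)⁻¹ = w * (y ^ i * a * (y ^ i)⁻¹) * w⁻¹ by group]
        exact mul_mem (mul_mem hw (((mem_normalizer_iff.mp (pow_mem hyN i)) _).mp ha)) (inv_mem hw)
      have hin2 : ⁅s, π ⟨u0, hUH u0 hu0⟩⁆ ∈ (U.subgroupOf H).map π := by
        haveI := Normal.map (H := U.subgroupOf H) inferInstance π (QuotientGroup.mk'_surjective _)
        rw [commutatorElement_def]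
        exact mul_mem (Normal.conj_mem inferInstance _ (mem_map_of_mem _ (mem_subgroupOf.mpr hu0)) s)
          (inv_mem (mem_map_of_mem _ (mem_subgroupOf.mpr hu0)))
      obtain ⟨w, hw, hwe⟩ := hin2
      obtain ⟨a, ha⟩ := IsPGroup.iff_orderOf.mp hU ⟨(w : G), mem_subgroupOf.mp hw⟩
      rw [Subgroup.orderOf_mk] at ha
      have h2 : orderOf ⁅s, π ⟨u0, hUH u0 hu0⟩⁆ ∣ p ^ a := by
        rw [← hwe, ← ha, Subgroup.orderOf_coe]; exact orderOf_map_dvd π w
      exact orderOf_eq_one_iff.mp (Nat.eq_one_of_dvd_coprimes (Nat.Coprime.pow_right a hOc)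
        (Subgroup.orderOf_dvd_natCard _ hin) h2)
    exact hu0ne (hkey u0 hu0 s ⟨hsq, hk1⟩ hcm)
  · intro k hk
    have hqk : q ∣ orderOf k := by
      haveI : Fact q.Prime := ⟨hq⟩
      rw [hk, ← orderOf_eq_prime hYq hY1]
      exact Monoid.order_dvd_exponent Y
    have hpk : p ∣ orderOf k := by
      rw [hk]
      refine dvd_trans ?_ (Monoid.order_dvd_exponent (π ⟨u0, hUH u0 hu0⟩))
      obtain ⟨a, ha⟩ := IsPGroup.iff_orderOf.mp hU ⟨u0, hu0⟩
      rw [Subgroup.orderOf_mk] at ha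
      have h2 : orderOf (π ⟨u0, hUH u0 hu0⟩) ∣ p ^ a :=
        ha ▸ (Subgroup.orderOf_mk u0 (hUH u0 hu0)) ▸ orderOf_map_dvd π _
      obtain ⟨b, -, hb⟩ := (Nat.dvd_prime_pow hp).mp h2
      rw [hb]
      exact dvd_pow_self p fun h0 => hu0ne (orderOf_eq_one_iff.mp (by rw [hb, h0, pow_zero]))
    set o := orderOf k with ho
    have hopos : 0 < o := orderOf_pos k
    set s := k ^ (o / q) with hs
    set r := k ^ (o / p) with hr
    have hso : orderOf s = q := by
      rw [hs, orderOf_pow' k (Nat.div_pos (Nat.le_of_dvd hopos hqk) hq.pos).ne', ← ho,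
        Nat.gcd_eq_right (Nat.div_dvd_of_dvd hqk), Nat.div_div_self hqk hopos.ne']
    have hro : orderOf r = p := by
      rw [hr, orderOf_pow' k (Nat.div_pos (Nat.le_of_dvd hopos hpk) hp.pos).ne', ← ho,
        Nat.gcd_eq_right (Nat.div_dvd_of_dvd hpk), Nat.div_div_self hpk hopos.ne']
    obtain ⟨⟨_, v, hv, j, rfl⟩, hre⟩ := QuotientGroup.mk'_surjective _ r
    have hsplit : r = π ⟨v, hUH v hv⟩ * Y ^ j := by rw [← hre, hY, ← map_pow, ← map_mul]; rfl
    -- `r` lies in the image of `U`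
    haveI : Fact q.Prime := ⟨hq⟩
    haveI : (U.subgroupOf H).Normal := by
      refine ⟨fun a ha h => ?_⟩
      rw [mem_subgroupOf] at ha ⊢
      obtain ⟨w, hw, i, hh⟩ := h.2
      show (h : G) * (a : G) * (h : G)⁻¹ ∈ U
      rw [hh, show w * y ^ i * (a : G) * (w * y ^ i)⁻¹ = w * (y ^ i * a * (y ^ i)⁻¹) * w⁻¹ by group]
      exact mul_mem (mul_mem hw (((mem_normalizer_iff.mp (pow_mem hyN i)) _).mp ha)) (inv_mem hw)
    set R : Subgroup (H ⧸ M.subgroupOf H) := (U.subgroupOf H).map π with hR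
    haveI : R.Normal := Normal.map inferInstance _ (QuotientGroup.mk'_surjective _)
    have hrR : r ∈ R := by
      rw [← QuotientGroup.eq_one_iff, ← orderOf_eq_one_iff]
      refine Nat.eq_one_of_dvd_coprimes hcop ?_ ?_
      · rw [← hro]; exact orderOf_map_dvd (QuotientGroup.mk' R) r
      · refine orderOf_dvd_of_pow_eq_one ?_
        rw [hsplit, QuotientGroup.mk_mul,
          (QuotientGroup.eq_one_iff _).mpr (mem_map_of_mem _ (mem_subgroupOf.mpr hv)), one_mul,
          ← QuotientGroup.mk_pow, ← pow_mul, mul_comm, pow_mul, hYq, one_pow, QuotientGroup.mk_one]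
    obtain ⟨⟨w, hwH⟩, hwU, hwe⟩ := hrR
    have hwU' : w ∈ U := mem_subgroupOf.mp hwU
    have hwe' : π ⟨w, hUH w hwU'⟩ = r := hwe
    have h1 : r = 1 := hwe' ▸ hkey w hwU' s ⟨by rw [← hso, pow_orderOf_eq_one], fun h => by
      rw [h, orderOf_one] at hso; exact hq.ne_one hso.symm⟩ (hwe'.symm ▸ (Commute.refl k).pow_pow _ _)
    rw [h1, orderOf_one] at hro
    exact hp.ne_one hro.symm

/-- Let G be a finite group and p a prime. Then G has a normal p-complement if and only if every section K = H/N of G (N a normal subgroup of a subgroup H) whose largest normal subgroup of order prime to p is trivial contains an element whose order equals the exponent of K. -/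
theorem result {G : Type*} [Group G] [Finite G] (p : ℕ) [Fact p.Prime] :
    Cfsg.HasNormalPComplement p G ↔
      ∀ (H : Subgroup G) (N : Subgroup H) [N.Normal], Cfsg.pPrimeCore p (H ⧸ N) = ⊥ →
        ∃ k : H ⧸ N, orderOf k = Monoid.exponent (H ⧸ N) := by
  constructor
  · intro hG H N _ hcore
    have hK : Cfsg.HasNormalPComplement p (H ⧸ N) :=
      Transfer.hasNormalPComplement_of_surjective (Transfer.hasNormalPComplement_subgroup hG H)
        (QuotientGroup.mk' N) (QuotientGroup.mk'_surjective N)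
    have hbot : Cfsg.pResidual p (H ⧸ N) = ⊥ := by
      rw [eq_bot_iff, ← hcore]
      exact Thompson.le_pPrimeCore inferInstance
        (((Fact.out : p.Prime).coprime_iff_not_dvd.mpr (Transfer.hasNormalPComplement_iff_not_dvd.mp hK)).symm)
    have hq := Transfer.isPGroup_quotient_pResidual (p := p) (G := H ⧸ N)
    refine exists_orderOf_eq_exponent_of_isPGroup (p := p) fun x => ?_
    obtain ⟨a, ha⟩ := hq (QuotientGroup.mk x)
    refine ⟨a, ?_⟩
    rwa [← QuotientGroup.mk_pow, QuotientGroup.eq_one_iff, hbot, Subgroup.mem_bot] at ha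
  · intro h
    by_contra hG
    obtain ⟨H, N, hN, hcore, hbad⟩ := exists_bad_section hG
    obtain ⟨k, hk⟩ := h H N hcore
    exact hbad k hk

end Cfsg.Agent.S4238
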