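import Cfsg.Statements.S4242
import Cfsg.Agent.FGS80.NilpotentMax
import Cfsg.Agent.Lib.Thompson.Cores
import Cfsg.Agent.Lib.Fitting.Minimal
import Cfsg.Agent.Lib.Solvable.Maximal

set_option autoImplicit false
open Cfsg

namespace Cfsg.Agent.S4242

/-- A subgroup generated by two commuting nilpotent subgroups is nilpotent. -/
lemma isNilpotent_sup {G : Type*} [Group G] [Finite G] {A B : Subgroup G}
    (hc : ∀ a ∈ A, ∀ b ∈ B, Commute a b) (hA : Group.IsNilpotent A) (hB : Group.IsNilpotent B) :
    Group.IsNilpotent (A ⊔ B : Subgroup G) := by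
  rw [sup_eq_iSup]
  refine Fitting.isNilpotent_iSup_of_commute _ ?_ fun b => by cases b <;> assumption
  intro i j hij x y hx hy
  cases i <;> cases j
  · exact absurd rfl hij
  · exact (hc y hy x hx).symm
  · exact hc x hx y hy
  · exact absurd rfl hij

/-- Let G be a finite group and p a prime dividing its order. Every maximal subgroup of G of order divisible by p is nilpotent if and only if G is nilpotent, or G is a minimal non-nilpotent group, or G is the internal direct product of a normal subgroup of order p and a normal minimal non-nilpotent subgroup of order prime to p. -/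
theorem result {G : Type*} [Group G] [Finite G] (p : ℕ) (hp : p.Prime) (hpG : p ∣ Nat.card G) :
    (∀ M : Subgroup G, IsCoatom M → p ∣ Nat.card M → Group.IsNilpotent M) ↔
      (Group.IsNilpotent G ∨ Cfsg.IsMinimalNonNilpotent G ∨
        ∃ Z K : Subgroup G, Z.Normal ∧ K.Normal ∧ Z ⊓ K = ⊥ ∧ Z ⊔ K = ⊤ ∧ Nat.card Z = p ∧
          Cfsg.IsMinimalNonNilpotent K ∧ ¬ p ∣ Nat.card K) := by
  have : Fact p.Prime := ⟨hp⟩
  constructor
  · intro hmax
    have h : ∀ H : Subgroup G, H ≠ ⊤ → p ∣ Nat.card H → Group.IsNilpotent H := by
      intro H hH hpH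
      obtain ⟨M, hM, hle⟩ := (eq_top_or_exists_le_coatom H).resolve_left hH
      exact Fitting.isNilpotent_of_le (hmax M hM (hpH.trans (Subgroup.card_dvd_of_le hle))) hle
    by_cases hnil : Group.IsNilpotent G
    · exact Or.inl hnil
    refine Or.inr ?_
    by_cases hall : ∀ M : Subgroup G, IsCoatom M → Group.IsNilpotent M
    · refine Or.inl ⟨hnil, fun H hH => ?_⟩
      obtain ⟨M, hM, hle⟩ := (eq_top_or_exists_le_coatom H).resolve_left hH
      exact Fitting.isNilpotent_of_le (hall M hM) hle
    refine Or.inr ?_
    push Not at hall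
    obtain ⟨M, hM, hMn⟩ := hall
    have hsol : Group.IsSolvable G := FGS80.isSolvable_of_nilpotent_dvd _ G rfl p hp hpG h
    have hpM : ¬ p ∣ Nat.card M := fun hd => hMn (h M hM.1 hd)
    have hMcop : (Nat.card M).Coprime p := (hp.coprime_iff_not_dvd.mpr hpM).symm
    obtain ⟨r, k, hr, hk, hidx⟩ := Solvable.exists_index_maximal_eq_pow hM
    have hidx' : M.index = p ^ k := by
      have : p ∣ M.index := ((Nat.Prime.dvd_mul hp).mp (M.card_mul_index.symm ▸ hpG)).resolve_left hpM
      rw [hidx] at this
      rw [hidx, (Nat.prime_dvd_prime_iff_eq hp hr).mp (hp.dvd_of_dvd_pow this)]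
    have hMnq : ∀ q : ℕ, q.Prime → ¬ IsPGroup q M := fun q hq hMq =>
      hMn (by have : Fact q.Prime := ⟨hq⟩; exact hMq.isNilpotent)
    obtain ⟨P⟩ : Nonempty (Sylow p G) := inferInstance
    have hPcard : Nat.card (P : Subgroup G) = p ^ k := by
      rw [P.card_eq_multiplicity, ← M.card_mul_index, hidx',
        Nat.factorization_mul Nat.card_pos.ne' (pow_ne_zero _ hp.ne_zero), Finsupp.add_apply,
        Nat.factorization_eq_zero_of_not_dvd hpM, hp.factorization_pow, Finsupp.single_eq_same,
        zero_add]
    have hMP : M.IsComplement' (P : Subgroup G) :=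
      Subgroup.isComplement'_of_coprime (by rw [hPcard, ← hidx', M.card_mul_index])
        (hPcard ▸ hMcop.pow_right k)
    have hPne : (P : Subgroup G) ≠ ⊥ := P.ne_bot_of_dvd_card hpG
    rcases eq_or_ne (Cfsg.pCore p G) ⊥ with hcore | hcore
    · exfalso
      have hLn : (Cfsg.pPrimeCore p G).Normal := Thompson.sSup_normal fun N hN => hN.1
      set L := Cfsg.pPrimeCore p G with hL
      have hLM : L ≤ M := by
        by_contra hne
        have htop : M ⊔ L = ⊤ := hM.2 _ (left_lt_sup.mpr hne)
        have h1 : p ∣ Nat.card L := by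
          refine dvd_trans ?_ (Subgroup.relIndex_dvd_card (H := M) (K := L))
          rw [← FGS80.relIndex_sup_of_normal M L, htop, Subgroup.relIndex_top_right, hidx']
          exact dvd_pow_self p hk.ne'
        exact Thompson.not_dvd_card_pPrimeCore h1
      have hF : Cfsg.fittingSubgroup G ≤ L := by
        rw [Fitting.fitting_eq_iSup_pCore]
        refine iSup_le fun q => ?_
        rcases eq_or_ne (q : ℕ) p with hq | hq
        · rw [hq, hcore]; exact bot_le
        · refine Thompson.le_pPrimeCore (Fitting.pCore_normal _) ?_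
          have : Fact (q : ℕ).Prime := ⟨q.2⟩
          obtain ⟨n, hn⟩ := (Fitting.pCore_isPGroup (G := G) (q : ℕ)).exists_card_eq
          rw [hn]
          exact ((Nat.coprime_primes q.2 hp).mpr hq).pow_left n
      rcases eq_or_ne (L ⊔ (P : Subgroup G)) ⊤ with htop | htop
      · have hLeq : L = M := by
          refine Subgroup.eq_of_le_of_card_ge hLM ?_
          have h1 := FGS80.card_sup_le (N := L) (H := (P : Subgroup G))
            (Subgroup.normalizer_eq_top L ▸ le_top)
          rw [htop, Subgroup.card_top, ← hMP.card_mul] at h1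
          exact Nat.le_of_mul_le_mul_right h1 Nat.card_pos
        have hn : M.Normal := hLeq ▸ hLn
        exact hPne (le_bot_iff.mp (hcore ▸ le_sSup
          ⟨FGS80.normal_sylow_of_complement hpG h P hMP hMnq, P.isPGroup'⟩))
      · have hn := h _ htop ((P.dvd_card_of_dvd_card hpG).trans (Subgroup.card_dvd_of_le le_sup_right))
        have hPC : (P : Subgroup G) ≤ Subgroup.centralizer (Cfsg.fittingSubgroup G : Set G) := by
          intro x hx
          refine Subgroup.mem_centralizer_iff.mpr fun y hy => ?_
          refine (FGS80.commute_of_isNilpotent hn (Subgroup.mem_sup_left (hF hy))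
            (Subgroup.mem_sup_right hx) ?_).eq
          refine Nat.Coprime.coprime_dvd_left (Subgroup.orderOf_dvd_natCard _ (hLM (hF hy)))
            (Nat.Coprime.coprime_dvd_right (Subgroup.orderOf_dvd_natCard _ hx) ?_)
          rw [hPcard]
          exact hMcop.pow_right k
        have hPM : (P : Subgroup G) ≤ M :=
          hPC.trans ((Fitting.centralizer_fitting_le).trans (hF.trans hLM))
        exact hpM ((P.dvd_card_of_dvd_card hpG).trans (Subgroup.card_dvd_of_le hPM))
    · have hZn : (Cfsg.pCore p G).Normal := Fitting.pCore_normal p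
      have hPeq : Cfsg.pCore p G = (P : Subgroup G) := by
        have hnle : ¬ Cfsg.pCore p G ≤ M := fun hle => hpM
          (((Fitting.pCore_isPGroup p).card_eq_or_dvd.resolve_left
            fun h1 => hcore (Subgroup.card_eq_one.mp h1)).trans (Subgroup.card_dvd_of_le hle))
        refine Subgroup.eq_of_le_of_card_ge (Fitting.pCore_le_sylow P) ?_
        rw [hPcard, ← hidx', ← Subgroup.relIndex_top_right, ← hM.2 _ (left_lt_sup.mpr hnle),
          FGS80.relIndex_sup_of_normal]
        exact Nat.le_of_dvd Nat.card_pos (Subgroup.relIndex_dvd_card _ _)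
      rw [hPeq] at hZn
      have hH : ∀ H : Subgroup G, H < M → ∀ S : Subgroup G, S ≤ (P : Subgroup G) →
          (S ⊔ H : Subgroup G) ≠ ⊤ := by
        intro H hlt S hS htop
        have h1 := FGS80.card_sup_le (N := (P : Subgroup G)) (H := H)
          (Subgroup.normalizer_eq_top (P : Subgroup G) ▸ le_top)
        have h2 : (P : Subgroup G) ⊔ H = ⊤ := top_le_iff.mp (htop ▸ sup_le_sup_right hS H)
        rw [h2, Subgroup.card_top, ← hMP.card_mul,
          mul_comm] at h1
        exact hlt.ne (Subgroup.eq_of_le_of_card_ge hlt.le (Nat.le_of_mul_le_mul_left h1 Nat.card_pos))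
      have hnilH : ∀ H : Subgroup G, H < M → Group.IsNilpotent ((P : Subgroup G) ⊔ H : Subgroup G) :=
        fun H hlt => h _ (hH H hlt _ le_rfl)
          ((P.dvd_card_of_dvd_card hpG).trans (Subgroup.card_dvd_of_le le_sup_left))
      have hMmin : Cfsg.IsMinimalNonNilpotent M := by
        refine ⟨hMn, fun H hH' => ?_⟩
        have hlt : H.map M.subtype < M := by
          refine lt_of_le_of_ne (Subgroup.map_subtype_le _) fun he => hH' ?_
          rw [← Subgroup.comap_map_eq_self_of_injective M.subtype_injective H, he]
          exact Subgroup.subgroupOf_self M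
        have hn := Fitting.isNilpotent_of_le (hnilH _ hlt)
          (le_sup_right : H.map M.subtype ≤ _)
        exact Group.nilpotent_of_mulEquiv (_h := hn)
          (H.equivMapOfInjective M.subtype M.subtype_injective).symm
      have hcomm : ∀ x ∈ M, ∀ y ∈ (P : Subgroup G), Commute y x := by
        intro x hx y hy
        have hlt : Subgroup.zpowers x < M := by
          refine lt_of_le_of_ne (Subgroup.zpowers_le.mpr hx) fun he => hMn ?_
          rw [← he]
          let _ := IsCyclic.commGroup (α := Subgroup.zpowers x)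
          infer_instance
        refine FGS80.commute_of_isNilpotent (hnilH _ hlt) (Subgroup.mem_sup_left hy)
          (Subgroup.mem_sup_right (Subgroup.mem_zpowers x)) ?_
        refine Nat.Coprime.coprime_dvd_left (Subgroup.orderOf_dvd_natCard _ hy)
          (Nat.Coprime.coprime_dvd_right (Subgroup.orderOf_dvd_natCard _ hx) ?_)
        rw [hPcard]
        exact (hMcop.pow_right k).symm
      have hMnorm : M.Normal := by
        refine Subgroup.normalizer_eq_top_iff.mp (top_le_iff.mp ?_)
        rw [← hMP.sup_eq_top]
        refine sup_le Subgroup.le_normalizer (le_trans ?_ (Subgroup.centralizer_le_normalizer _))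
        exact fun y hy => Subgroup.mem_centralizer_iff.mpr fun x hx => ((hcomm x hx y hy).eq).symm
      obtain ⟨z, hz⟩ := exists_prime_orderOf_dvd_card' (G := (P : Subgroup G)) p
        (P.dvd_card_of_dvd_card hpG)
      set Z := Subgroup.zpowers (z : G) with hZ
      have hZcard : Nat.card Z = p := by rw [hZ, Nat.card_zpowers, Subgroup.orderOf_coe, hz]
      have hZP : Z ≤ (P : Subgroup G) := Subgroup.zpowers_le.mpr z.2
      have htop : Z ⊔ M = ⊤ := by
        by_contra hne
        exact hMn (Fitting.isNilpotent_of_le
          (h _ hne (hZcard ▸ Subgroup.card_dvd_of_le le_sup_left)) le_sup_right)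
      have hdisj : Z ⊓ M = ⊥ :=
        (Subgroup.disjoint_of_coprime_natCard (hZcard ▸ hMcop.symm)).eq_bot
      have hZnorm : Z.Normal := by
        refine Subgroup.normalizer_eq_top_iff.mp (top_le_iff.mp ?_)
        rw [← htop]
        refine sup_le Subgroup.le_normalizer (le_trans ?_ (Subgroup.centralizer_le_normalizer _))
        exact fun x hx => Subgroup.mem_centralizer_iff.mpr fun y hy => (hcomm x hx y (hZP hy)).eq
      exact ⟨Z, M, hZnorm, hMnorm, hdisj, htop, hZcard, hMmin, hpM⟩
  · rintro (hnil | hmin | ⟨Z, K, hZn, hKn, hdisj, htop, hZcard, hKmin, hpK⟩) M hM hpM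
    · exact Fitting.isNilpotent_of_le (Group.isNilpotent_top.mpr hnil) le_top
    · exact hmin.2 M hM.1
    · have hZM : Z ≤ M := by
        obtain ⟨x, hx⟩ := exists_prime_orderOf_dvd_card' (G := M) p hpM
        obtain ⟨a, ha, b, hb, hab⟩ := Subgroup.mem_sup_of_normal_right.mp
          (htop.ge (Subgroup.mem_top (x : G)))
        have hc : Commute a b := Subgroup.commute_of_normal_of_disjoint Z K hZn hKn
          (disjoint_iff.mpr hdisj) a b ha hb
        have hxp : (x : G) ^ p = 1 := by rw [← hx, ← Subgroup.orderOf_coe, pow_orderOf_eq_one]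
        have hap : a ^ p = 1 := orderOf_dvd_iff_pow_eq_one.mp
          (hZcard ▸ Subgroup.orderOf_dvd_natCard Z ha)
        rw [← hab, hc.mul_pow, hap, one_mul] at hxp
        have hb1 : b = 1 := orderOf_eq_one_iff.mp (Nat.eq_one_of_dvd_coprimes
          (hp.coprime_iff_not_dvd.mpr hpK).symm (Subgroup.orderOf_dvd_natCard K hb)
          (orderOf_dvd_of_pow_eq_one hxp))
        have hane : a ≠ 1 := by
          intro ha1
          rw [ha1, hb1, one_mul] at hab
          rw [← Subgroup.orderOf_coe, ← hab, orderOf_one] at hx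
          exact hp.ne_one hx.symm
        have hgen : Subgroup.zpowers a = Z := Subgroup.eq_of_le_of_card_ge
          (Subgroup.zpowers_le.mpr ha) (le_of_eq (by
            rw [Nat.card_zpowers, hZcard, orderOf_eq_prime hap hane]))
        rw [← hgen, Subgroup.zpowers_le]
        rw [hb1, mul_one] at hab
        exact hab ▸ x.2
      have hlt : (M ⊓ K).subgroupOf K ≠ ⊤ := by
        intro he
        rw [Subgroup.subgroupOf_eq_top] at he
        exact hM.1 (top_le_iff.mp (htop ▸ sup_le hZM (he.trans inf_le_left)))
      have hnMK : Group.IsNilpotent (M ⊓ K : Subgroup G) :=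
        Group.nilpotent_of_mulEquiv (_h := hKmin.2 _ hlt)
          (Subgroup.subgroupOfEquivOfLe inf_le_right)
      have hnZ : Group.IsNilpotent Z :=
        (IsPGroup.of_card (show Nat.card Z = p ^ 1 by rw [hZcard, pow_one])).isNilpotent
      refine Fitting.isNilpotent_of_le (isNilpotent_sup (A := Z) (B := M ⊓ K)
        (fun a ha b hb => Subgroup.commute_of_normal_of_disjoint Z K hZn hKn
          (disjoint_iff.mpr hdisj) a b ha hb.2) hnZ hnMK) ?_
      intro x hx
      obtain ⟨a, ha, b, hb, hab⟩ := Subgroup.mem_sup_of_normal_right.mp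
        (htop.ge (Subgroup.mem_top x))
      rw [← hab]
      exact Subgroup.mul_mem_sup ha
        ⟨by have := mul_mem (inv_mem (hZM ha)) hx; rw [← hab] at this; simpa using this, hb⟩

end Cfsg.Agent.S4242
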