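import Cfsg.Statements.S4245
import Cfsg.Agent.Lib.CharCore.Burnside
import Cfsg.Agent.Lib.Fitting.Minimal
import Cfsg.Agent.Lib.Coprime.Action
import Cfsg.Agent.Lib.Solvable.Basic
import Mathlib.GroupTheory.Transfer
import Mathlib.GroupTheory.SpecificGroups.Cyclic

set_option autoImplicit false
open Cfsg

namespace Cfsg.Agent.S4245

open Subgroup

universe u

theorem class_case {G : Type u} [Group G] [Finite G] [IsSimpleGroup G] {p s : ℕ} (hp : p.Prime)
    {H : Subgroup G} (hH : H.index ∣ p ^ s) {g : G} (hg : g ≠ 1) (hle : H ≤ centralizer {g}) :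
    Group.IsSolvable G := by
  obtain ⟨k, -, hk⟩ := (Nat.dvd_prime_pow hp).1 ((index_dvd_of_le hle).trans hH)
  have hprime := Cfsg.Agent.CharCore.prime_card_of_prime_power_class hp hg hk
  haveI := Fact.mk hprime
  haveI : IsCyclic G := isCyclic_of_prime_card (p := Nat.card G) rfl
  letI := IsCyclic.commGroup (α := G)
  exact Group.isSolvable_of_comm mul_comm

theorem solvable_aux (p : ℕ) (hp : p.Prime) (G : Type u) [Group G] [Finite G] :
    ∀ (s : ℕ) (A : Subgroup G), A.index ∣ p ^ s → ∀ {C : Type u} [Group C] [Finite C] (φ : A →* C),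
      IsPGroup 2 C → IsCyclic C → IsCyclic φ.ker → Group.IsSolvable G := by
  induction hk : Nat.card G using Nat.strong_induction_on generalizing G with
  | _ k ih =>
  intro s A hidx C _ _ φ hC hCc hker
  rcases subsingleton_or_nontrivial G with hs | hs
  · exact Group.isSolvable_of_comm fun a b => Subsingleton.elim _ _
  by_cases hsimp : IsSimpleGroup G
  swap
  · obtain ⟨N, hNn, hNb, hNt⟩ : ∃ N : Subgroup G, N.Normal ∧ N ≠ ⊥ ∧ N ≠ ⊤ := by
      by_contra hcon
      push Not at hcon
      exact hsimp ⟨fun N hN => or_iff_not_imp_left.2 (hcon N hN)⟩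
    haveI := hNn
    have hNlt : Nat.card N < k := hk ▸ lt_of_le_of_ne (card_le_card_group N)
      fun h => hNt (eq_top_of_card_eq N h)
    have hQlt : Nat.card (G ⧸ N) < k := by
      rw [← hk, card_eq_card_quotient_mul_card_subgroup N]
      exact lt_mul_of_one_lt_right Nat.card_pos ((one_lt_card_iff_ne_bot N).2 hNb)
    have hN : Group.IsSolvable N := by
      let ι : A.subgroupOf N →* A :=
        { toFun := fun x => ⟨(x : N), x.2⟩, map_one' := rfl, map_mul' := fun _ _ => rfl }
      have hι : Function.Injective ι := fun x y h => by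
        ext; exact congrArg (fun z : A => (z : G)) h
      refine ih _ hNlt N rfl s (A.subgroupOf N) ((relIndex_dvd_index_of_normal' A N).trans hidx)
        (φ.comp ι) hC hCc ?_
      haveI := hker
      let j : (φ.comp ι).ker →* φ.ker :=
        { toFun := fun x => ⟨ι x, x.2⟩, map_one' := rfl, map_mul' := fun _ _ => rfl }
      exact isCyclic_of_injective j fun x y h => Subtype.ext (hι (congrArg Subtype.val h))
    have hQ : Group.IsSolvable (G ⧸ N) := by
      set π := QuotientGroup.mk' N with hπ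
      set ρ := π.subgroupMap A with hρ
      have hρs : Function.Surjective ρ := π.subgroupMap_surjective A
      letI : CommGroup C := @IsCyclic.commGroup C _ hCc
      set M := ρ.ker.map φ with hM
      let ψ : A.map π →* C ⧸ M := MonoidHom.liftOfSurjective ρ hρs
        ⟨(QuotientGroup.mk' M).comp φ, fun x hx => by
          rw [MonoidHom.mem_ker, MonoidHom.comp_apply]
          exact (QuotientGroup.eq_one_iff _).2 (mem_map_of_mem φ hx)⟩
      have hψ : ∀ x, ψ (ρ x) = QuotientGroup.mk' M (φ x) := fun x =>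
        MonoidHom.liftOfRightInverse_comp_apply ρ _ _ _ x
      refine ih _ hQlt (G ⧸ N) rfl s (A.map π)
        ((index_map_dvd A (QuotientGroup.mk'_surjective N)).trans hidx) ψ (hC.to_quotient M)
        (isCyclic_of_surjective _ (QuotientGroup.mk'_surjective M)) ?_
      haveI := hker
      let j : φ.ker →* ψ.ker :=
        { toFun := fun x => ⟨ρ x, by
            rw [MonoidHom.mem_ker, hψ, MonoidHom.mem_ker.1 x.2, map_one]⟩
          map_one' := Subtype.ext (map_one ρ)
          map_mul' := fun a b => Subtype.ext (map_mul ρ _ _) }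
      refine isCyclic_of_surjective j fun y => ?_
      obtain ⟨x, hx⟩ := hρs y.1
      have hy : ψ (ρ x) = 1 := by rw [hx]; exact y.2
      rw [hψ] at hy
      obtain ⟨z, hz, hzx⟩ := (QuotientGroup.eq_one_iff _).1 hy
      refine ⟨⟨x * z⁻¹, ?_⟩, Subtype.ext ?_⟩
      · rw [MonoidHom.mem_ker, map_mul, map_inv, hzx, mul_inv_cancel]
      · change ρ (x * z⁻¹) = y.1
        rw [map_mul, map_inv, MonoidHom.mem_ker.1 hz, inv_one, mul_one, hx]
    exact (Group.isSolvable_iff_subgroup_quotient N).2 ⟨hN, hQ⟩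
  haveI := hsimp
  haveI := Fact.mk hp
  haveI := Fact.mk Nat.prime_two
  obtain ⟨t, -, ht⟩ := (Nat.dvd_prime_pow hp).1 hidx
  have hsolvP : ∀ {q : ℕ}, q.Prime → IsPGroup q G → Group.IsSolvable G := fun {q} hq h => by
    haveI := Fact.mk hq
    haveI := h.isNilpotent
    exact Cfsg.Agent.Coprime.isSolvable_of_isNilpotent' inferInstance
  by_cases hAb : A = ⊥
  · refine hsolvP hp (IsPGroup.of_card (n := t) ?_)
    rw [hAb, index_bot] at ht; exact ht
  set K : Subgroup G := φ.ker.map A.subtype with hK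
  have hKA : K ≤ A := map_subtype_le _
  have hKcomm : ∀ a ∈ K, ∀ b ∈ K, a * b = b * a := by
    rintro _ ⟨a, ha, rfl⟩ _ ⟨b, hb, rfl⟩
    haveI := hker
    letI := IsCyclic.commGroup (α := φ.ker)
    exact congrArg (fun z : φ.ker => ((z : A) : G)) (mul_comm ⟨a, ha⟩ ⟨b, hb⟩)
  have hAK : A ≤ normalizer (K : Set G) := by
    refine Cfsg.Agent.Coprime.le_normalizer_of_conj_mem fun a ha => ?_
    rintro _ ⟨x, hx, rfl⟩
    exact ⟨⟨a, ha⟩ * x * ⟨a, ha⟩⁻¹, Normal.conj_mem inferInstance x hx _, rfl⟩
  obtain ⟨e, he⟩ : ∃ e, K.relIndex A = 2 ^ e := by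
    obtain ⟨c, hc⟩ := IsPGroup.iff_card.1 (hC.to_subgroup φ.range)
    refine ⟨c, ?_⟩
    rw [relIndex, hK, subgroupOf, comap_map_eq_self_of_injective A.subtype_injective, index_ker, hc]
  -- the first easy case
  by_cases hKb : K = ⊥
  · have hA2 : IsPGroup 2 A := IsPGroup.of_card (n := e) (by rw [← he, hKb, relIndex_bot_left])
    haveI : Nontrivial A := (nontrivial_iff_ne_bot A).2 hAb
    haveI := hA2.center_nontrivial
    obtain ⟨⟨⟨z, hzA⟩, hzc⟩, hz1⟩ := exists_ne (1 : center A)
    refine class_case hp hidx (g := z) (fun h => hz1 (Subtype.ext (Subtype.ext h))) fun a ha => ?_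
    rw [mem_centralizer_singleton_iff]
    exact congrArg Subtype.val (mem_center_iff.1 hzc ⟨a, ha⟩)
  obtain ⟨g, hgK, hg1⟩ : ∃ g ∈ K, g ≠ 1 := by
    by_contra h
    push Not at h
    exact hKb ((eq_bot_iff_forall K).2 h)
  have hKg : K ≤ centralizer {g} := fun a ha =>
    mem_centralizer_singleton_iff.2 (hKcomm a ha g hgK)
  by_cases hp2 : p = 2
  · subst hp2
    refine class_case hp (s := t + e) ?_ hg1 hKg
    rw [← relIndex_mul_index hKA, ht, he, ← pow_add, add_comm]
  -- `p` is odd
  obtain ⟨S⟩ : Nonempty (Sylow 2 A) := inferInstance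
  set T : Subgroup G := (S : Subgroup A).map A.subtype with hT
  have hTA : T ≤ A := map_subtype_le _
  have hTp : IsPGroup 2 T := S.isPGroup'.map _
  have hsup : K ⊔ T = A := by
    refine le_antisymm (sup_le hKA hTA) (relIndex_eq_one.1 ?_)
    refine Nat.eq_one_of_dvd_coprimes (Nat.Coprime.pow_left e
      ((Nat.Prime.coprime_iff_not_dvd Nat.prime_two).2 (S.not_dvd_index)))
      (he ▸ relIndex_dvd_of_le_left A le_sup_left) ?_
    have h1 := relIndex_dvd_of_le_left A (le_sup_right : T ≤ K ⊔ T)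
    rwa [relIndex, relIndex, hT, subgroupOf, subgroupOf,
      comap_map_eq_self_of_injective A.subtype_injective] at h1
  set T₀ : Subgroup T := (centralizer (K : Set G)).subgroupOf T with hT₀
  by_cases hT0 : T₀ = ⊥
  swap
  · haveI : T₀.Normal := ⟨fun x hx y => by
      rw [hT₀, mem_subgroupOf, mem_centralizer_iff] at hx ⊢
      intro k hk
      have h1 := hx _ ((mem_normalizer_iff''.1 (hAK (hTA y.2)) k).1 hk)
      simp only [Subgroup.coe_mul, InvMemClass.coe_inv]
      calc k * ((y : G) * x * (y : G)⁻¹) = y * (((y : G)⁻¹ * k * y) * x) * (y : G)⁻¹ := by group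
        _ = y * (x * ((y : G)⁻¹ * k * y)) * (y : G)⁻¹ := by rw [h1]
        _ = (y : G) * x * (y : G)⁻¹ * k := by group⟩
    haveI := hTp.isNilpotent
    obtain ⟨⟨z, hzT⟩, ⟨hz0, hzc⟩, hz1⟩ : ∃ c : T, c ∈ T₀ ⊓ center T ∧ c ≠ 1 := by
      by_contra hall
      push Not at hall
      exact Cfsg.Agent.Fitting.inf_center_ne_bot hT0 (eq_bot_iff.2 fun x hx => mem_bot.2 (hall x hx))
    refine class_case hp hidx (g := z) (fun h => hz1 (Subtype.ext h)) ?_
    rw [← hsup]
    refine sup_le (fun a ha => ?_) (fun a ha => ?_)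
    · exact mem_centralizer_singleton_iff.2 (mem_centralizer_iff.1 hz0 a ha)
    · exact mem_centralizer_singleton_iff.2 (congrArg Subtype.val (mem_center_iff.1 hzc ⟨a, ha⟩))
  -- now `T` is cyclic
  haveI := hCc
  have hTc : IsCyclic T := by
    refine isCyclic_of_injective (φ.comp (Subgroup.inclusion hTA))
      ((injective_iff_map_eq_one _).2 fun x hx => ?_)
    have hxK : (x : G) ∈ K := ⟨Subgroup.inclusion hTA x, hx, rfl⟩
    have hxT₀ : x ∈ T₀ := mem_centralizer_iff.2 fun k hk => (hKcomm k hk _ hxK)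
    rw [hT0] at hxT₀
    exact mem_bot.1 hxT₀
  have hTidx : ¬ 2 ∣ T.index := by
    rw [← relIndex_mul_index hTA, ht, Nat.prime_two.dvd_mul, not_or]
    refine ⟨?_, fun h => hp2 ((Nat.prime_dvd_prime_iff_eq Nat.prime_two hp).1
      (Nat.prime_two.dvd_of_dvd_pow h)).symm⟩
    rw [relIndex, hT, subgroupOf, comap_map_eq_self_of_injective A.subtype_injective]
    exact S.not_dvd_index
  let P : Sylow 2 G := hTp.toSylow hTidx
  have hPT : (P : Subgroup G) = T := rfl
  by_cases hTb : T = ⊥
  · rw [hTb, sup_bot_eq] at hsup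
    exact class_case hp hidx hg1 (hsup ▸ hKg)
  have heven : 2 ∣ Nat.card G := by
    obtain ⟨m, hm0, hm⟩ := hTp.nontrivial_iff_card.1 ((nontrivial_iff_ne_bot T).2 hTb)
    exact (hm ▸ dvd_pow_self 2 hm0.ne').trans (card_subgroup_dvd_card T)
  have hmin : (Nat.card G).minFac = 2 :=
    le_antisymm (Nat.minFac_le_of_dvd le_rfl heven)
      (Nat.minFac_prime (by have := Finite.one_lt_card (α := G); omega)).two_le
  haveI hPc : IsCyclic P := hTc
  have hcompl := IsCyclic.isComplement' hmin hPc
  rcases (MonoidHom.normal_ker (MonoidHom.transferSylow P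
    (IsCyclic.normalizer_le_centralizer hmin hPc))).eq_bot_or_eq_top with h | h
  · rw [h] at hcompl
    refine hsolvP Nat.prime_two ?_
    have : (P : Subgroup G) = ⊤ := isComplement'_bot_left.1 hcompl
    exact (P.isPGroup'.of_equiv (((MulEquiv.subgroupCongr this).trans topEquiv)))
  · rw [h] at hcompl
    exact absurd (hPT ▸ isComplement'_top_left.1 hcompl) hTb
where
  relIndex_dvd_index_of_normal' {G : Type u} [Group G] [Finite G] (A N : Subgroup G) [N.Normal] :
      A.relIndex N ∣ A.index := by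
    have e1 := Cfsg.Agent.Solvable.card_sup_mul_card_inf A N
    rw [← Cfsg.Agent.Solvable.card_mul_relIndex (le_sup_left : A ≤ A ⊔ N),
      ← Cfsg.Agent.Solvable.card_mul_relIndex (inf_le_right : A ⊓ N ≤ N), inf_relIndex_right] at e1
    have e2 : A.relIndex (A ⊔ N) = A.relIndex N := by
      refine Nat.eq_of_mul_eq_mul_left (Nat.mul_pos (Nat.card_pos (α := A))
        (Nat.card_pos (α := ↥(A ⊓ N)))) ?_
      linarith [e1]
    exact e2 ▸ relIndex_dvd_index_of_le le_sup_left

/-- Let G be a finite group with a subgroup A of prime-power index. Suppose A has a normal cyclic subgroup B such that A/B is cyclic of order a power of 2. Then G is solvable. -/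
theorem result {G : Type*} [Group G] [Finite G] (A : Subgroup G) (p s : ℕ) (hp : p.Prime) (hA : A.index = p ^ s)
    (B : Subgroup A) [B.Normal] (hB : IsCyclic B) (hAB : IsCyclic (A ⧸ B)) (r : ℕ) (hr : Nat.card (A ⧸ B) = 2 ^ r) :
    Group.IsSolvable G := by
  haveI := Fact.mk Nat.prime_two
  haveI := hAB
  exact solvable_aux p hp G s A (by rw [hA]) (QuotientGroup.mk' B) (IsPGroup.of_card hr) hAB
    (by rw [QuotientGroup.ker_mk']; exact hB)

end Cfsg.Agent.S4245
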