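import Cfsg.Statements.S4249
import Cfsg.Agent.FGS80.Kegel

set_option autoImplicit false
open Cfsg

namespace Cfsg.Agent.S4249

section

variable {G : Type*} [Group G]

/-- The Hughes subgroup is normal. -/
lemma closure_normal (p : ℕ) : (Subgroup.closure {g : G | g ^ p ≠ 1}).Normal := by
  refine ⟨fun x hx c => ?_⟩
  have h : (Subgroup.closure {g : G | g ^ p ≠ 1}).map (MulAut.conj c).toMonoidHom ≤
      Subgroup.closure {g : G | g ^ p ≠ 1} := by
    rw [MonoidHom.map_closure, Subgroup.closure_le]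
    rintro _ ⟨y, hy, rfl⟩
    refine Subgroup.subset_closure fun hc => hy ?_
    rw [← map_pow] at hc
    exact (MulAut.conj c).injective (hc.trans (map_one _).symm)
  exact h ⟨x, hx, rfl⟩

/-- An element outside the Hughes subgroup has order dividing `p`. -/
lemma pow_eq_one (p : ℕ) {g : G} (hg : g ∉ Subgroup.closure {g : G | g ^ p ≠ 1}) : g ^ p = 1 := by
  by_contra h
  exact hg (Subgroup.subset_closure h)

end

/-- Let G be a finite group and p a prime such that G is not a p-group, and suppose the Hughes subgroup H_p(G), generated by all elements g with g^p ≠ 1, is a proper subgroup. Then H_p(G) is nilpotent and has index p in G. -/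
theorem result {G : Type*} [Group G] [Finite G] (p : ℕ) (hp : p.Prime) (hG : ¬ IsPGroup p G)
    (hH : Subgroup.closure {g : G | g ^ p ≠ 1} ≠ ⊤) :
    Group.IsNilpotent (Subgroup.closure {g : G | g ^ p ≠ 1}) ∧ (Subgroup.closure {g : G | g ^ p ≠ 1}).index = p := by
  classical
  have : Fact p.Prime := ⟨hp⟩
  set H := Subgroup.closure {g : G | g ^ p ≠ 1} with hHdef
  have hHn : H.Normal := closure_normal p
  have hout : ∀ g ∉ H, g ^ p = 1 := fun g hg => pow_eq_one p hg
  obtain ⟨t, ht⟩ : ∃ t, t ∉ H := by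
    by_contra hall
    push Not at hall
    exact hH ((Subgroup.eq_top_iff' H).mpr hall)
  have hnil : Group.IsNilpotent H := by
    refine FGS80.Kegel.isNilpotent_of_splits hp _ G H t ⟨?_, hout t ht, fun h hh => ?_⟩ rfl
    · rw [Subgroup.normalizer_eq_top]; exact Subgroup.mem_top _
    · exact hout _ fun hht => ht (by simpa using mul_mem (inv_mem hh) hht)
  refine ⟨hnil, ?_⟩
  -- the quotient is a `p`-group of exponent `p`
  have hexp : ∀ x : G ⧸ H, x ^ p = 1 := by
    intro x
    obtain ⟨g, rfl⟩ := QuotientGroup.mk'_surjective H x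
    by_cases hg : g ∈ H
    · rw [QuotientGroup.mk'_apply, (QuotientGroup.eq_one_iff g).mpr hg, one_pow]
    · rw [← map_pow, hout g hg, map_one]
  have hQ : IsPGroup p (G ⧸ H) := fun x => ⟨1, by rw [pow_one]; exact hexp x⟩
  obtain ⟨k, hk⟩ := hQ.exists_card_eq
  have hidx : H.index = p ^ k := hk
  rcases k with _ | _ | k
  · rw [pow_zero, Subgroup.index_eq_one] at hidx
    exact absurd hidx hH
  · rw [hidx, zero_add, pow_one]
  exfalso
  -- a prime `q ≠ p` dividing `#H`
  obtain ⟨q, hq, hqp, hqH⟩ : ∃ q : ℕ, q.Prime ∧ q ≠ p ∧ q ∣ Nat.card H := by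
    by_contra hall
    push Not at hall
    obtain ⟨n, hn⟩ : ∃ n, Nat.card H = p ^ n := ⟨_, Nat.eq_prime_pow_of_unique_prime_dvd
      Nat.card_pos.ne' fun {d} hd hdd => by_contra fun hne => hall d hd hne hdd⟩
    refine hG (IsPGroup.of_card (n := n + (k + 1 + 1)) ?_)
    rw [← H.card_mul_index, hn, hidx, ← pow_add]
  have : Fact q.Prime := ⟨hq⟩
  -- the `q`-torsion of the centre of `H`
  let V : Subgroup G :=
    { carrier := {v | v ∈ H ∧ (∀ h ∈ H, h * v = v * h) ∧ v ^ q = 1}
      one_mem' := ⟨H.one_mem, fun h _ => by simp, one_pow q⟩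
      mul_mem' := fun {a b} ha hb => ⟨mul_mem ha.1 hb.1,
        fun h hh => by rw [← mul_assoc, ha.2.1 h hh, mul_assoc, hb.2.1 h hh, mul_assoc], by
          rw [(show Commute a b from (hb.2.1 a ha.1)).mul_pow, ha.2.2, hb.2.2, one_mul]⟩
      inv_mem' := fun {a} ha => ⟨inv_mem ha.1,
        fun h hh => ((show Commute h a from ha.2.1 h hh).inv_right).eq,
        by rw [inv_pow, ha.2.2, inv_one]⟩ }
  have hVcomm : IsMulCommutative V := ⟨⟨fun a b => Subtype.ext (b.2.2.1 a a.2.1)⟩⟩
  have hVconj : ∀ g : G, ∀ v ∈ V, g * v * g⁻¹ ∈ V := by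
    intro g v hv
    refine ⟨hHn.conj_mem v hv.1 g, fun h hh => ?_, by rw [conj_pow, hv.2.2, mul_one, mul_inv_cancel]⟩
    have h1 : (g⁻¹ * h * g) * v = v * (g⁻¹ * h * g) :=
      hv.2.1 _ (by simpa using hHn.conj_mem h hh g⁻¹)
    calc h * (g * v * g⁻¹) = g * ((g⁻¹ * h * g) * v) * g⁻¹ := by group
      _ = g * (v * (g⁻¹ * h * g)) * g⁻¹ := by rw [h1]
      _ = g * v * g⁻¹ * h := by group
  have hVn : V.Normal := ⟨fun v hv g => hVconj g v hv⟩
  obtain ⟨v, hvV, hv1⟩ : ∃ v ∈ V, v ≠ 1 := by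
    obtain ⟨S⟩ : Nonempty (Sylow q H) := inferInstance
    have hSn : (S : Subgroup H).Normal :=
      ((Group.isNilpotent_of_finite_tfae (G := H)).out 0 3 :
        Group.IsNilpotent H ↔ ∀ (p : ℕ) (_ : Fact p.Prime) (P : Sylow p H),
          (P : Subgroup H).Normal).mp hnil q inferInstance S
    have := hnil
    have hne := Fitting.inf_center_ne_bot (S.ne_bot_of_dvd_card hqH)
    set W := (S : Subgroup H) ⊓ Subgroup.center H
    have hW : IsPGroup q W := S.isPGroup'.to_le inf_le_left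
    obtain ⟨w, hw⟩ := exists_prime_orderOf_dvd_card' (G := W) q
      (hW.card_eq_or_dvd.resolve_left fun h1 => hne (Subgroup.card_eq_one.mp h1))
    rw [← Subgroup.orderOf_coe, ← Subgroup.orderOf_coe] at hw
    refine ⟨((w : H) : G), ⟨(w : H).2, fun h hh => congrArg Subtype.val
      (Subgroup.mem_center_iff.mp w.2.2 ⟨h, hh⟩), by rw [← hw, pow_orderOf_eq_one]⟩, ?_⟩
    intro h1
    rw [h1, orderOf_one] at hw
    exact hq.ne_one hw.symm
  -- elements outside `H` fix nothing in `V`
  have hfpf : ∀ x ∉ H, ∀ w ∈ V, x * w = w * x → w = 1 := by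
    intro x hx w hw hc
    have h1 : (w * x) ^ p = 1 := hout _ fun hwx => hx (by simpa using mul_mem (inv_mem hw.1) hwx)
    rw [(show Commute w x from hc.symm).mul_pow, hout x hx, mul_one] at h1
    exact orderOf_eq_one_iff.mp (Nat.eq_one_of_dvd_coprimes
      ((Nat.coprime_primes hp hq).mpr hqp.symm) (orderOf_dvd_of_pow_eq_one h1)
      (orderOf_dvd_of_pow_eq_one hw.2.2))
  -- a central element of order `p` of `G/H` and an element outside its span
  have : Nontrivial (G ⧸ H) := Finite.one_lt_card_iff_nontrivial.mp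
    (hk ▸ Nat.one_lt_pow (by omega) hp.one_lt)
  have := hQ.center_nontrivial
  obtain ⟨⟨z', hz'⟩, hz1⟩ := exists_ne (1 : Subgroup.center (G ⧸ H))
  obtain ⟨P⟩ : Nonempty (Sylow p G) := inferInstance
  have hPsurj : ∀ x' : G ⧸ H, ∃ x ∈ (P : Subgroup G), QuotientGroup.mk' H x = x' := by
    intro x'
    have h3 := (P.mapSurjective (QuotientGroup.mk'_surjective H)).3 (hQ.to_subgroup ⊤) le_top
    have h4 : x' ∈ (⊤ : Subgroup (G ⧸ H)) := Subgroup.mem_top x'
    rw [h3] at h4
    obtain ⟨x, hx, rfl⟩ := h4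
    exact ⟨x, hx, rfl⟩
  obtain ⟨z, hzP, rfl⟩ := hPsurj z'
  have hzH : z ∉ H := fun h => hz1 (Subtype.ext ((QuotientGroup.eq_one_iff z).mpr h))
  obtain ⟨y', hy'⟩ : ∃ y' : G ⧸ H, y' ∉ Subgroup.zpowers (QuotientGroup.mk' H z) := by
    by_contra hall
    push Not at hall
    have h1 := congrArg (fun K : Subgroup (G ⧸ H) => Nat.card K)
      ((Subgroup.eq_top_iff' _).mpr hall)
    simp only [Subgroup.card_top, Nat.card_zpowers] at h1
    have h2 : p ^ (k + 1 + 1) ∣ p ^ 1 := by
      rw [pow_one, ← hk, ← h1]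
      exact orderOf_dvd_of_pow_eq_one (hexp _)
    exact absurd (Nat.pow_dvd_pow_iff_le_right hp.one_lt |>.mp h2) (by omega)
  obtain ⟨y, hyP, rfl⟩ := hPsurj y'
  set E₁ := H ⊔ Subgroup.zpowers z with hE
  set E := E₁ ⊓ (P : Subgroup G) with hE₀
  have hyE : ∀ e ∈ E, e * y ∉ H := by
    intro e he₀ hey
    have he : e ∈ E₁ := he₀.1
    apply hy'
    have h1 : QuotientGroup.mk' H (e * y) = 1 := (QuotientGroup.eq_one_iff _).mpr hey
    rw [map_mul] at h1
    rw [eq_inv_of_mul_eq_one_right h1]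
    refine inv_mem ?_
    have h2 : E₁.map (QuotientGroup.mk' H) = Subgroup.zpowers (QuotientGroup.mk' H z) := by
      rw [hE, Subgroup.map_sup, QuotientGroup.map_mk'_self, bot_sup_eq, MonoidHom.map_zpowers]
    exact h2.le ⟨e, he, rfl⟩
  have hyN : y ∈ Subgroup.normalizer (E : Set G) := by
    have hEn : E₁.Normal := by
      have h2 : E₁ = (Subgroup.zpowers (QuotientGroup.mk' H z)).comap (QuotientGroup.mk' H) := by
        rw [← MonoidHom.map_zpowers, Subgroup.comap_map_eq, QuotientGroup.ker_mk', hE, sup_comm]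
      rw [h2]
      have : (Subgroup.zpowers (QuotientGroup.mk' H z)).Normal := by
        have hle : Subgroup.zpowers (QuotientGroup.mk' H z) ≤ Subgroup.center (G ⧸ H) :=
          Subgroup.zpowers_le.mpr hz'
        exact ⟨fun x hx g => by rw [Subgroup.mem_center_iff.mp (hle hx) g, mul_inv_cancel_right]; exact hx⟩
      exact this.comap _
    refine Coprime.le_normalizer_inf (A := (P : Subgroup G)) ?_ Subgroup.le_normalizer hyP
    rw [Subgroup.normalizer_eq_top]
    exact le_top
  have hVtop : ∀ K : Subgroup G, K ≤ Subgroup.normalizer (V : Set G) := fun K => by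
    rw [Subgroup.normalizer_eq_top]; exact le_top
  have h1 : v ^ Nat.card E = 1 := FGS80.Kegel.pow_card_eq_one hp V E y (hVtop E)
    (by rw [Subgroup.normalizer_eq_top]; exact Subgroup.mem_top _) hyN
    (fun e he => hout _ (hyE e he))
    (fun e he w hw => hout _ fun hwe => hyE e he (by simpa using mul_mem (inv_mem hw.1) hwe))
    (fun w hw hc => hfpf z hzH w hw
      (hc z ⟨Subgroup.mem_sup_right (Subgroup.mem_zpowers z), hzP⟩)) hvV
  obtain ⟨j, hj⟩ := (P.2.to_le (inf_le_right : E ≤ P)).exists_card_eq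
  rw [hj] at h1
  exact hv1 (orderOf_eq_one_iff.mp (Nat.eq_one_of_dvd_coprimes
    (((Nat.coprime_primes hp hq).mpr hqp.symm).pow_left j) (orderOf_dvd_of_pow_eq_one h1)
    (orderOf_dvd_of_pow_eq_one hvV.2.2)))

end Cfsg.Agent.S4249
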