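import Cfsg.Statements.S4250
import Cfsg.Agent.Lib.Thompson.Alperin
-- import your own Cfsg.Agent.* helpers here

set_option autoImplicit false
open Cfsg

namespace Cfsg.Agent.S4250

open scoped commutatorElement

/-- Let P be a Sylow p-subgroup of a finite group G. Call an intersection H = P ∩ Q with a Sylow p-subgroup Q tame when N_P(H) and N_Q(H) are Sylow p-subgroups of N_G(H). Then P ∩ G′ is generated by [P, N_G(P)] together with the commutator subgroups [P ∩ Q, ⟨x⟩] for all tame intersections P ∩ Q and all p-elements x of N_G(P ∩ Q). -/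
theorem result {G : Type*} [Group G] [Finite G] (p : ℕ) [Fact p.Prime] (P : Sylow p G) :
    (P : Subgroup G) ⊓ commutator G =
      ⁅(P : Subgroup G), Subgroup.normalizer ((P : Subgroup G) : Set G)⁆ ⊔
        ⨆ (Q : Sylow p G) (_ : (¬ p ∣ ((P : Subgroup G) ⊓ Subgroup.normalizer (((P : Subgroup G) ⊓ (Q : Subgroup G) : Subgroup G) : Set G)).relIndex (Subgroup.normalizer (((P : Subgroup G) ⊓ (Q : Subgroup G) : Subgroup G) : Set G)) ∧ ¬ p ∣ ((Q : Subgroup G) ⊓ Subgroup.normalizer (((P : Subgroup G) ⊓ (Q : Subgroup G) : Subgroup G) : Set G)).relIndex (Subgroup.normalizer (((P : Subgroup G) ⊓ (Q : Subgroup G) : Subgroup G) : Set G))))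
          (x : G) (_ : x ∈ Subgroup.normalizer (((P : Subgroup G) ⊓ (Q : Subgroup G) : Subgroup G) : Set G) ∧ ∃ k : ℕ, orderOf x = p ^ k),
          ⁅(P : Subgroup G) ⊓ (Q : Subgroup G), Subgroup.zpowers x⁆ := by
  classical
  let D : Subgroup G → Subgroup G := fun Q => (P : Subgroup G) ⊓ Q
  generalize hR : (_ ⊔ _ : Subgroup G) = R
  refine le_antisymm ?_ ?_
  · rw [inf_comm, Subgroup.commutator_inf_eq_focalSubgroup P, Subgroup.focalSubgroup_def,
      Subgroup.closure_le]
    rintro _ ⟨hg, x, hx, u, rfl⟩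
    -- every fusion step moves elements within `R`
    have hPN : ∀ t ∈ Subgroup.normalizer ((P : Subgroup G) : Set G), ∀ d ∈ (P : Subgroup G),
        d⁻¹ * (t⁻¹ * d * t) ∈ R := by
      intro t ht d hd
      rw [← hR]
      refine Subgroup.mem_sup_left ?_
      have e : d⁻¹ * (t⁻¹ * d * t) = ⁅d⁻¹, t⁻¹⁆ := by rw [commutatorElement_def]; group
      rw [e]
      exact Subgroup.commutator_mem_commutator (Subgroup.inv_mem _ hd) (Subgroup.inv_mem _ ht)
    have key := Cfsg.Agent.Thompson.Alperin.chain_of_fusion P (free := False)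
      (step := fun V t => t ∈ Subgroup.normalizer (V : Set G) ∧
        ∀ d ∈ V, d⁻¹ * (t⁻¹ * d * t) ∈ R)
      (fun V t ⟨h1, h2⟩ => ⟨Subgroup.inv_mem _ h1, fun d hd => by
        have hd' : t * d * t⁻¹ ∈ V := (Subgroup.mem_normalizer_iff.1 h1 d).1 hd
        have h3 := R.inv_mem (h2 _ hd')
        have e : ((t * d * t⁻¹)⁻¹ * (t⁻¹ * (t * d * t⁻¹) * t))⁻¹ = d⁻¹ * (t⁻¹⁻¹ * d * t⁻¹) := by
          group
        rwa [e] at h3⟩)
      (fun V t h => h.1)
      (fun t ht => ⟨ht, hPN t ht⟩)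
      (fun Q U t hU hP hQ ht hp _ => ⟨ht, fun d hd => by
        subst hU
        rw [← hR]
        refine Subgroup.mem_sup_right (Subgroup.mem_iSup_of_mem Q ?_)
        refine Subgroup.mem_iSup_of_mem ⟨hP, hQ⟩ (Subgroup.mem_iSup_of_mem t
          (Subgroup.mem_iSup_of_mem ⟨ht, hp⟩ ?_))
        have e : d⁻¹ * (t⁻¹ * d * t) = ⁅d⁻¹, t⁻¹⁆ := by rw [commutatorElement_def]; group
        rw [e]
        exact Subgroup.commutator_mem_commutator (Subgroup.inv_mem _ hd)
          (Subgroup.inv_mem _ (Subgroup.mem_zpowers t))⟩)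
      {x⁻¹} u⁻¹ (Set.singleton_subset_iff.2 ((P : Subgroup G).inv_mem hx)) (by
        rintro _ ⟨a, rfl, rfl⟩
        suffices h0 : u⁻¹⁻¹ * x⁻¹ * u⁻¹ ∈ (P : Subgroup G) from h0
        have h1 := (P : Subgroup G).mul_mem ((P : Subgroup G).inv_mem hx) hg
        simpa [commutatorElement_def, mul_assoc] using h1)
    have main : ∀ (A : Set G) (g : G), Cfsg.Agent.Thompson.Alperin.Chain
        (fun V t => t ∈ Subgroup.normalizer (V : Set G) ∧
          ∀ d ∈ V, d⁻¹ * (t⁻¹ * d * t) ∈ R) False A g →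
        ∀ a ∈ A, a⁻¹ * (g⁻¹ * a * g) ∈ R := by
      intro A g h
      induction h with
      | one A => intro a _; simp
      | @cons A V t g hs hA _ ih =>
        intro a ha
        have h1 := R.mul_mem (hs.2 a (hA ha)) (ih (t⁻¹ * a * t) ⟨a, ha, rfl⟩)
        have e : a⁻¹ * (t⁻¹ * a * t) * ((t⁻¹ * a * t)⁻¹ * (g⁻¹ * (t⁻¹ * a * t) * g)) =
            a⁻¹ * ((t * g)⁻¹ * a * (t * g)) := by group
        rwa [e] at h1
      | move hf _ _ _ => exact hf.elim
    simpa [commutatorElement_def, mul_assoc] using main _ _ key x⁻¹ rfl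
  · rw [← hR]
    refine sup_le (le_inf ?_ ?_) (iSup₂_le fun Q hQ => iSup₂_le fun t ht => le_inf ?_ ?_)
    · exact (Cfsg.Agent.Transfer.commutator_le_focalSubgroup_of_normalizer le_rfl).trans
        (Subgroup.focalSubgroup_le _)
    · exact Subgroup.commutator_mono le_top le_top
    · refine le_trans ?_ (inf_le_left : (P : Subgroup G) ⊓ (Q : Subgroup G) ≤ _)
      rw [Subgroup.commutator_le]
      intro d hd z hz
      have hzN := (Subgroup.zpowers_le.2 ht.1) hz
      rw [commutatorElement_def, mul_assoc, mul_assoc, ← mul_assoc z]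
      exact Subgroup.mul_mem _ hd
        ((Subgroup.mem_normalizer_iff.1 hzN d⁻¹).1 (Subgroup.inv_mem _ hd))
    · exact Subgroup.commutator_mono le_top le_top

end Cfsg.Agent.S4250
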