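import Cfsg.Statements.S4251
import Cfsg.Agent.Lib.Thompson.Alperin
-- import your own Cfsg.Agent.* helpers here

set_option autoImplicit false
open Cfsg

namespace Cfsg.Agent.S4251

/-- Let P be a Sylow p-subgroup of a finite group G. Call an intersection H = P ∩ Q with a Sylow p-subgroup Q tame when N_P(H) and N_Q(H) are Sylow p-subgroups of N_G(H). If N_G(H)/C_G(H) is a p-group for every nontrivial tame intersection H = P ∩ Q, then G has a normal p-complement. -/
theorem result {G : Type*} [Group G] [Finite G] (p : ℕ) [Fact p.Prime] (P : Sylow p G)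
    (h : ∀ Q : Sylow p G, (P : Subgroup G) ⊓ (Q : Subgroup G) ≠ ⊥ → (¬ p ∣ ((P : Subgroup G) ⊓ Subgroup.normalizer (((P : Subgroup G) ⊓ (Q : Subgroup G) : Subgroup G) : Set G)).relIndex (Subgroup.normalizer (((P : Subgroup G) ⊓ (Q : Subgroup G) : Subgroup G) : Set G)) ∧ ¬ p ∣ ((Q : Subgroup G) ⊓ Subgroup.normalizer (((P : Subgroup G) ⊓ (Q : Subgroup G) : Subgroup G) : Set G)).relIndex (Subgroup.normalizer (((P : Subgroup G) ⊓ (Q : Subgroup G) : Subgroup G) : Set G))) →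
      IsPGroup p (Subgroup.normalizer (((P : Subgroup G) ⊓ (Q : Subgroup G) : Subgroup G) : Set G) ⧸
        (Subgroup.centralizer (((P : Subgroup G) ⊓ (Q : Subgroup G) : Subgroup G) : Set G)).subgroupOf
          (Subgroup.normalizer (((P : Subgroup G) ⊓ (Q : Subgroup G) : Subgroup G) : Set G)))) :
    Cfsg.HasNormalPComplement p G := by
  classical
  refine Cfsg.Agent.Transfer.hasNormalPComplement_of_control P ?_
  rintro x hx y hy ⟨g, rfl⟩
  -- each step is conjugation by an element of `P`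
  have hstep : ∀ (Q : Sylow p G) (t : G),
      Cfsg.Agent.Thompson.Alperin.FullyIn p (P : Subgroup G) ((P : Subgroup G) ⊓ Q) →
      Cfsg.Agent.Thompson.Alperin.FullyIn p (Q : Subgroup G) ((P : Subgroup G) ⊓ Q) →
      t ∈ Subgroup.normalizer (((P : Subgroup G) ⊓ (Q : Subgroup G) : Subgroup G) : Set G) →
      ∃ s ∈ (P : Subgroup G), ∀ d ∈ (P : Subgroup G) ⊓ (Q : Subgroup G),
        t⁻¹ * d * t = s⁻¹ * d * s := by
    intro Q t hP hQ ht
    set U := (P : Subgroup G) ⊓ (Q : Subgroup G) with hU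
    by_cases hbot : U = ⊥
    · refine ⟨1, one_mem _, fun d hd => ?_⟩
      rw [hbot, Subgroup.mem_bot] at hd
      simp [hd]
    set N := Subgroup.normalizer (U : Set G) with hN
    set C := (Subgroup.centralizer (U : Set G)).subgroupOf N with hC
    haveI : C.Normal := by
      refine ⟨fun c hc n => ?_⟩
      have hc' := Subgroup.mem_centralizer_iff.1 hc
      refine Subgroup.mem_centralizer_iff.2 fun d hd => ?_
      have h1 : (n : G)⁻¹ * d * n ∈ U := (Subgroup.mem_normalizer_iff''.1 n.2 d).1 hd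
      have h2 := hc' _ h1
      change d * ((n : G) * c * (n : G)⁻¹) = (n : G) * c * (n : G)⁻¹ * d
      calc d * ((n : G) * c * (n : G)⁻¹) = n * (((n : G)⁻¹ * d * n) * c) * (n : G)⁻¹ := by group
        _ = n * ((c : G) * ((n : G)⁻¹ * d * n)) * (n : G)⁻¹ := congrArg (fun z => (n : G) * z * (n : G)⁻¹) h2
        _ = (n : G) * c * (n : G)⁻¹ * d := by group
    have hq : IsPGroup p (↥N ⧸ C) := h Q hbot ⟨hP, hQ⟩
    set S₀ := ((P : Subgroup G) ⊓ N).subgroupOf N with hS₀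
    have htop : S₀.map (QuotientGroup.mk' C) = ⊤ := by
      rw [← Subgroup.index_eq_one]
      obtain ⟨k, hk⟩ := hq.index (S₀.map (QuotientGroup.mk' C))
      rcases Nat.eq_zero_or_pos k with rfl | hk0
      · simpa using hk
      · exfalso
        refine hP (Dvd.dvd.trans ?_ (Subgroup.index_map_dvd S₀ (QuotientGroup.mk'_surjective C)))
        rw [hk]
        exact dvd_pow_self p hk0.ne'
    obtain ⟨s, hs, e⟩ : QuotientGroup.mk' C ⟨t, ht⟩ ∈ S₀.map (QuotientGroup.mk' C) :=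
      htop ▸ Subgroup.mem_top _
    refine ⟨s, hs.1, fun d hd => ?_⟩
    have hc : (s : ↥N)⁻¹ * ⟨t, ht⟩ ∈ C := QuotientGroup.eq.1 e
    have h1 : (s : G)⁻¹ * d * s ∈ U := (Subgroup.mem_normalizer_iff''.1 s.2 d).1 hd
    have h2 : ((s : G)⁻¹ * d * s) * ((s : G)⁻¹ * t) = ((s : G)⁻¹ * t) * ((s : G)⁻¹ * d * s) :=
      Subgroup.mem_centralizer_iff.1 hc _ h1
    calc t⁻¹ * d * t = ((s : G)⁻¹ * t)⁻¹ * (((s : G)⁻¹ * d * s) * ((s : G)⁻¹ * t)) := by group
      _ = (s : G)⁻¹ * d * s := by rw [h2]; group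
  have key := Cfsg.Agent.Thompson.Alperin.chain_of_fusion P (free := False)
    (step := fun V t => t ∈ Subgroup.normalizer (V : Set G) ∧
      ∃ s ∈ (P : Subgroup G), ∀ d ∈ V, t⁻¹ * d * t = s⁻¹ * d * s)
    (fun V t ⟨h1, s, hs, h2⟩ => ⟨Subgroup.inv_mem _ h1, s⁻¹, (P : Subgroup G).inv_mem hs,
      fun d hd => by
        have hd' : t * d * t⁻¹ ∈ V := (Subgroup.mem_normalizer_iff.1 h1 d).1 hd
        have h3 := h2 _ hd'
        rw [show t⁻¹ * (t * d * t⁻¹) * t = d by group] at h3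
        calc t⁻¹⁻¹ * d * t⁻¹ = s * (s⁻¹ * (t * d * t⁻¹) * s) * s⁻¹ := by group
          _ = s⁻¹⁻¹ * d * s⁻¹ := by rw [← h3, inv_inv]⟩)
    (fun V t h => h.1)
    (fun t ht => ⟨ht, by
      have h1 : t ∈ Subgroup.normalizer
          (((P : Subgroup G) ⊓ (P : Subgroup G) : Subgroup G) : Set G) := by rwa [inf_idem]
      have h2 : Cfsg.Agent.Thompson.Alperin.FullyIn p (P : Subgroup G)
          ((P : Subgroup G) ⊓ (P : Subgroup G)) := by
        rw [inf_idem]; exact Cfsg.Agent.Thompson.Alperin.fullyIn_self P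
      have h3 := hstep P t h2 h2 h1
      rwa [inf_idem] at h3⟩)
    (fun Q U t hU hP hQ ht _ _ => ⟨ht, by subst hU; exact hstep Q t hP hQ ht⟩)
    {x} g⁻¹ (Set.singleton_subset_iff.2 hx) (by
      rintro _ ⟨a, rfl, rfl⟩
      have h0 : g⁻¹⁻¹ * a * g⁻¹ ∈ (P : Subgroup G) := by rwa [inv_inv]
      exact h0)
  have main : ∀ (A : Set G) (u : G), Cfsg.Agent.Thompson.Alperin.Chain
      (fun V t => t ∈ Subgroup.normalizer (V : Set G) ∧
        ∃ s ∈ (P : Subgroup G), ∀ d ∈ V, t⁻¹ * d * t = s⁻¹ * d * s) False A u →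
      ∀ a ∈ A, ∃ s ∈ (P : Subgroup G), s⁻¹ * a * s = u⁻¹ * a * u := by
    intro A u h
    induction h with
    | one A => exact fun a _ => ⟨1, one_mem _, rfl⟩
    | @cons A V t u hs hA _ ih =>
      intro a ha
      obtain ⟨-, s, hs, he⟩ := hs
      obtain ⟨r, hr, her⟩ := ih (t⁻¹ * a * t) ⟨a, ha, rfl⟩
      refine ⟨s * r, (P : Subgroup G).mul_mem hs hr, ?_⟩
      calc (s * r)⁻¹ * a * (s * r) = r⁻¹ * (s⁻¹ * a * s) * r := by group
        _ = u⁻¹ * (t⁻¹ * a * t) * u := by rw [← he a (hA ha), her]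
        _ = (t * u)⁻¹ * a * (t * u) := by group
    | move hf _ _ _ => exact hf.elim
  obtain ⟨s, hs, e⟩ := main _ _ key x rfl
  exact ⟨s⁻¹, (P : Subgroup G).inv_mem hs, by simpa using e⟩

end Cfsg.Agent.S4251
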