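import Cfsg.Statements.S4252

set_option autoImplicit false
open Cfsg
open scoped Pointwise

namespace Cfsg.Agent.S4252

lemma mem_conj_smul {G : Type*} [Group G] (H : Subgroup G) (g x : G) :
    x ∈ MulAut.conj g • H ↔ g⁻¹ * x * g ∈ H := by
  rw [Subgroup.mem_pointwise_smul_iff_inv_smul_mem, MulAut.smul_def, MulAut.conj_inv_apply]

/-- Let a finite group G act on a finite set Ω with more than one point, transitively but not regularly, so that no non-identity element of G fixes two distinct points. Then the stabilizer H of any point is a Frobenius complement in G (nontrivial, proper, meeting its other conjugates trivially), and the Frobenius kernel of G with respect to H (the identity together with the elements lying in no conjugate of H) is exactly the set consisting of the identity and the elements fixing no point. -/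
theorem result {G Ω : Type*} [Group G] [Finite G] [Fintype Ω] [MulAction G Ω] (hΩ : 1 < Fintype.card Ω)
    (htrans : ∀ α β : Ω, ∃ g : G, g • α = β) (hnreg : ∃ g : G, g ≠ 1 ∧ ∃ α : Ω, g • α = α)
    (hfix : ∀ g : G, g ≠ 1 → ∀ α β : Ω, g • α = α → g • β = β → α = β) (α : Ω) :
    Cfsg.IsFrobeniusComplement (MulAction.stabilizer G α) ∧
      Cfsg.frobeniusKernel (MulAction.stabilizer G α) = {g : G | g = 1 ∨ ∀ ω : Ω, g • ω ≠ ω} := by
  have hmem : ∀ g h : G, h ∈ MulAut.conj g • MulAction.stabilizer G α ↔ h • g • α = g • α := by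
    intro g h
    rw [mem_conj_smul, MulAction.mem_stabilizer_iff, mul_smul, mul_smul, inv_smul_eq_iff]
  refine ⟨⟨?_, ?_, ?_⟩, ?_⟩
  · obtain ⟨g, hg, β, hβ⟩ := hnreg
    obtain ⟨t, rfl⟩ := htrans α β
    intro h
    have : g ∈ MulAut.conj t • MulAction.stabilizer G α := (hmem t g).mpr hβ
    rw [h, Subgroup.smul_bot, Subgroup.mem_bot] at this
    exact hg this
  · intro h
    obtain ⟨β, hβ⟩ := Fintype.exists_ne_of_one_lt_card hΩ α
    obtain ⟨t, rfl⟩ := htrans α β
    exact hβ (MulAction.mem_stabilizer_iff.mp (h ▸ Subgroup.mem_top t))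
  · intro t ht
    refine (Subgroup.eq_bot_iff_forall _).mpr fun h hh => ?_
    by_contra h1
    exact ht (MulAction.mem_stabilizer_iff.mpr
      (hfix h h1 α (t • α) (MulAction.mem_stabilizer_iff.mp hh.1) ((hmem t h).mp hh.2)).symm)
  · ext x
    refine or_congr_right ⟨fun h ω => ?_, fun h g => ?_⟩
    · obtain ⟨t, rfl⟩ := htrans α ω
      exact fun hx => h t ((hmem t x).mpr hx)
    · exact fun hx => h _ ((hmem g x).mp hx)

end Cfsg.Agent.S4252
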