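import Cfsg.Statements.S4253

set_option autoImplicit false
open Cfsg
open scoped Pointwise

namespace Cfsg.Agent.S4253

lemma mem_conj_smul {G : Type*} [Group G] (H : Subgroup G) (g x : G) :
    x ∈ MulAut.conj g • H ↔ g⁻¹ * x * g ∈ H := by
  rw [Subgroup.mem_pointwise_smul_iff_inv_smul_mem, MulAut.smul_def, MulAut.conj_inv_apply]

/-- Let H be a Frobenius complement in a finite group G (a nontrivial proper subgroup meeting each conjugate gHg⁻¹ with g outside H trivially). Then in the action of G on the left cosets of H by left multiplication, no non-identity element of G fixes two distinct cosets. -/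
theorem result {G : Type*} [Group G] [Finite G] (H : Subgroup G) (hH : Cfsg.IsFrobeniusComplement H)
    (g : G) (hg : g ≠ 1) (a b : G ⧸ H) (ha : g • a = a) (hb : g • b = b) : a = b := by
  induction a using Quotient.inductionOn' with
  | h a =>
    induction b using Quotient.inductionOn' with
    | h b =>
      change QuotientGroup.mk (g * a) = QuotientGroup.mk a at ha
      change QuotientGroup.mk (g * b) = QuotientGroup.mk b at hb
      rw [QuotientGroup.eq] at ha hb
      apply Quotient.sound'
      rw [QuotientGroup.leftRel_apply]
      by_contra hab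
      have h1 : a⁻¹ * g * a ∈ H := by simpa [mul_assoc] using inv_mem ha
      have h2 : b⁻¹ * g * b ∈ H := by simpa [mul_assoc] using inv_mem hb
      have h3 := hH.2.2 _ hab
      have h4 : a⁻¹ * g * a ∈ H ⊓ (MulAut.conj (a⁻¹ * b) • H) :=
        ⟨h1, (mem_conj_smul _ _ _).mpr (by simpa [mul_assoc] using h2)⟩
      rw [h3, Subgroup.mem_bot] at h4
      refine hg ?_
      have := congrArg (fun z => a * z * a⁻¹) h4
      simpa [mul_assoc] using this

end Cfsg.Agent.S4253
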