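import Cfsg.Statements.S4255
import Cfsg.Agent.FGS80.ClassPrimes
import Cfsg.Agent.FGS80.Basic
import Cfsg.Agent.Lib.Frobenius.Basic
import Mathlib.GroupTheory.SchurZassenhaus

set_option autoImplicit false
open Cfsg

namespace Cfsg.Agent.S4255

open Subgroup FGS80.ClassPrimes
open scoped Pointwise commutatorElement

/-- The normal `p`-complement of Burnside, as needed below. -/
lemma exists_complement {G : Type*} [Group G] [Finite G] {p : ℕ} [Fact p.Prime] (P : Sylow p G)
    (hP : normalizer ((P : Subgroup G) : Set G) ≤ centralizer ((P : Subgroup G) : Set G)) :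
    ∃ K : Subgroup G, K.Normal ∧ ¬ p ∣ Nat.card K ∧ (∃ k, K.index = p ^ k) ∧ commutator G ≤ K := by
  refine ⟨(MonoidHom.transferSylow P hP).ker, inferInstance,
    MonoidHom.not_dvd_card_ker_transferSylow P hP, ?_, ?_⟩
  · have hc := MonoidHom.ker_transferSylow_isComplement' P hP
    obtain ⟨k, hk⟩ := P.isPGroup'.exists_card_eq
    exact ⟨k, hc.symm.index_eq_card.trans hk⟩
  · rw [commutator_eq_closure, closure_le]
    rintro _ ⟨a, b, rfl⟩
    haveI : IsMulCommutative (P : Subgroup G) :=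
      ⟨⟨fun x y => Subtype.ext
        (mem_centralizer_iff.mp (hP (le_normalizer y.2)) _ x.2)⟩⟩
    rw [SetLike.mem_coe, MonoidHom.mem_ker, map_commutatorElement, commutatorElement_eq_one_iff_mul_comm]
    exact Std.Commutative.comm _ _

theorem main {G : Type*} [Group G] [Finite G] (S : Set ℕ)
    (hS : ∃ p ∈ S, IsVertex G p) (hS' : ∃ q ∉ S, IsVertex G q)
    (hdisc : ∀ p q : ℕ, IsVertex G p → IsVertex G q → p ∈ S → q ∉ S → ¬ Adj G p q)
    (hgood : ∀ p : ℕ, ∀ _ : Fact p.Prime, p ∈ S → IsVertex G p → ∀ P : Sylow p G,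
      normalizer ((P : Subgroup G) : Set G) ≤ centralizer ((P : Subgroup G) : Set G)) :
    ∃ H : Subgroup (G ⧸ Subgroup.center G), Cfsg.IsFrobeniusComplement H ∧ IsMulCommutative H ∧
      ∀ x ∈ Cfsg.frobeniusKernel H, ∀ y ∈ Cfsg.frobeniusKernel H, x * y = y * x := by
  classical
  let V := {p : ℕ // p ∈ S ∧ IsVertex G p}
  have hK : ∀ p : V, ∃ K : Subgroup G, K.Normal ∧ ¬ (p : ℕ) ∣ Nat.card K ∧
      (∃ k, K.index = (p : ℕ) ^ k) ∧ commutator G ≤ K := by
    intro p
    haveI : Fact (p : ℕ).Prime := ⟨p.2.2.1⟩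
    exact exists_complement default (hgood p this p.2.1 p.2.2 default)
  choose K hKn hKp hKi hKc using hK
  set N : Subgroup G := ⨅ p : V, K p with hN
  haveI : N.Normal := normal_iInf_normal hKn
  have hcN : commutator G ≤ N := le_iInf hKc
  -- primes
  have hNS : ∀ r : ℕ, r ∈ S → IsVertex G r → ¬ r ∣ Nat.card N := fun r h1 h2 h =>
    hKp ⟨r, h1, h2⟩ (h.trans (Subgroup.card_dvd_of_le (iInf_le K ⟨r, h1, h2⟩)))
  have hNS' : ∀ r : ℕ, r.Prime → r ∣ N.index → r ∈ S ∧ IsVertex G r := by
    intro r hr hdvd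
    by_contra hcon
    haveI : Fact r.Prime := ⟨hr⟩
    obtain ⟨R⟩ : Nonempty (Sylow r G) := inferInstance
    have hRN : (R : Subgroup G) ≤ N := by
      refine le_iInf fun p => fun x hx => ?_
      obtain ⟨e, he⟩ := hKi p
      obtain ⟨k, hk⟩ := IsPGroup.iff_orderOf.mp R.isPGroup' ⟨x, hx⟩
      haveI := hKn p
      have h1 : orderOf (QuotientGroup.mk x : G ⧸ K p) ∣ (p : ℕ) ^ e := by
        rw [← he]; exact orderOf_dvd_natCard _
      have h2 : orderOf (QuotientGroup.mk x : G ⧸ K p) ∣ r ^ k := by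
        rw [← hk, Subgroup.orderOf_mk]; exact orderOf_map_dvd (QuotientGroup.mk' (K p)) x
      have hne : (p : ℕ) ≠ r := fun h => hcon (h ▸ p.2)
      rw [← QuotientGroup.eq_one_iff, ← orderOf_eq_one_iff]
      exact Nat.eq_one_of_dvd_coprimes
        (Nat.Coprime.pow _ _ ((Nat.coprime_primes p.2.2.1 hr).mpr hne)) h1 h2
    exact R.not_dvd_index (hdvd.trans (Subgroup.index_dvd_of_le hRN))
  have hcop : (Nat.card N).Coprime N.index := by
    refine Nat.coprime_of_dvd fun r hr h1 h2 => ?_
    obtain ⟨ha, hb⟩ := hNS' r hr h2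
    exact hNS r ha hb h1
  -- `N` is abelian
  have hNab : ∀ m ∈ N, ∀ n ∈ N, Commute m n := by
    by_contra hcon
    push Not at hcon
    obtain ⟨m₀, hm₀, n₀, hn₀, hmn₀⟩ := hcon
    obtain ⟨p, hpS, hpv⟩ := hS
    haveI hpf : Fact p.Prime := ⟨hpv.1⟩
    obtain ⟨P⟩ : Nonempty (Sylow p G) := inferInstance
    have hP := hgood p hpf hpS hpv P
    set C := centralizer ((P : Subgroup G) : Set G) with hC
    haveI hPN : ((P : Subgroup G) ⊔ N).Normal :=
      ⟨fun x hx g => by
      have h1 : g * x * g⁻¹ * x⁻¹ ∈ (P : Subgroup G) ⊔ N := mem_sup_right (hcN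
        (commutator_def G ▸ commutator_mem_commutator (mem_top g) (mem_top x) :
          g * x * g⁻¹ * x⁻¹ ∈ commutator G))
      simpa using mul_mem h1 hx⟩
    have hfr : normalizer ((P : Subgroup G) : Set G) ⊔ N = ⊤ := by
      refine eq_top_iff.mpr ?_
      rw [← Sylow.normalizer_sup_eq_top' (P := P) (N := (P : Subgroup G) ⊔ N) le_sup_left]
      exact sup_le le_sup_left (sup_le (le_trans le_normalizer le_sup_left) le_sup_right)
    -- elements of `N` are central in `N` or conjugate into `C` by an element of `N`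
    have hsplit : ∀ n ∈ N, (∀ m ∈ N, Commute m n) ∨ ∃ x ∈ N, x * n * x⁻¹ ∈ C := by
      intro n hn
      by_cases hp' : p ∣ (centralizer ({n} : Set G)).index
      · left
        have hrel : (centralizer ({n} : Set G)).relIndex N = 1 := by
          by_contra hne
          obtain ⟨r, hr, hrd⟩ := Nat.exists_prime_and_dvd hne
          have hrv : IsVertex G r := ⟨hr, n, hrd.trans (FGS80.relIndex_dvd_index _ N)⟩
          have hrN : r ∣ Nat.card N := hrd.trans (Subgroup.relIndex_dvd_card _ _)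
          have hrS : r ∉ S := fun h => hNS r h hrv hrN
          exact hdisc p r hpv hrv hpS hrS (adj_of_dvd hpv.1 hr (fun h => hrS (h ▸ hpS)) hp'
            (hrd.trans (FGS80.relIndex_dvd_index _ N)))
        rw [Subgroup.relIndex_eq_one] at hrel
        exact fun m hm => mem_centralizer_singleton_iff.mp (hrel hm)
      · right
        obtain ⟨x, hx⟩ := exists_conj_mem_centralizer P hp'
        obtain ⟨c, hc, m, hm, rfl⟩ := Subgroup.mem_sup_of_normal_right.mp
          (hfr ▸ mem_top x : x ∈ normalizer ((P : Subgroup G) : Set G) ⊔ N)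
        refine ⟨m, hm, ?_⟩
        have hcC : c ∈ C := hP hc
        have := C.mul_mem (C.mul_mem (C.inv_mem hcC) hx) hcC
        convert this using 1
        group
    set Cn : Subgroup N := (C ⊓ N).subgroupOf N
    have hJ : (Cn ⊔ center N) = ⊤ := by
      refine FGS76.eq_top_of_forall_exists_conj _ fun n => ?_
      rcases hsplit n.1 n.2 with h | ⟨x, hx, hxn⟩
      · refine ⟨1, ?_⟩
        rw [one_mul, inv_one, mul_one]
        exact mem_sup_right (mem_center_iff.mpr fun m => Subtype.ext (h m.1 m.2))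
      · refine ⟨⟨x, hx⟩, mem_sup_left ?_⟩
        rw [mem_subgroupOf]
        exact ⟨hxn, (⟨x, hx⟩ * n * ⟨x, hx⟩⁻¹ : N).2⟩
    have hnc : ∀ n ∈ N, ¬ (∀ m ∈ N, Commute m n) → n ∈ C := by
      intro n hn hne
      obtain ⟨x, hx, hxn⟩ := (hsplit n hn).resolve_left hne
      obtain ⟨c, hc, z, hz, hcz⟩ := Subgroup.mem_sup_of_normal_right.mp
        (hJ ▸ mem_top (⟨x, hx⟩ : N) : (⟨x, hx⟩ : N) ∈ Cn ⊔ center N)
      have hx' : x = (c : G) * z := (congrArg Subtype.val hcz).symm
      have hzn : (z : G) * n = n * z :=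
        (congrArg Subtype.val (mem_center_iff.mp hz ⟨n, hn⟩)).symm
      have hcC : (c : G) ∈ C := hc.1
      have := C.mul_mem (C.mul_mem (C.inv_mem hcC) hxn) hcC
      convert this using 1
      rw [hx']
      calc n = n * (z : G) * (z : G)⁻¹ := by group
        _ = (c : G)⁻¹ * ((c : G) * z * n * ((c : G) * z)⁻¹) * c := by rw [← hzn]; group
    have hn₀C : n₀ ∈ C := hnc n₀ hn₀ fun h => hmn₀ (h m₀ hm₀)
    have hNC : N ≤ C := by
      intro m hm
      by_cases h : ∀ x ∈ N, Commute x m
      · have h' : m * n₀ ∈ C := hnc _ (mul_mem hm hn₀) fun hh => hmn₀ (by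
          have h1 := hh m₀ hm₀
          have h2 := ((h m₀ hm₀).inv_right).mul_right h1
          simpa using h2)
        simpa using mul_mem h' (inv_mem hn₀C)
      · exact hnc m hm h
    have hNP : N ≤ normalizer ((P : Subgroup G) : Set G) :=
      hNC.trans (centralizer_le_normalizer _)
    rw [sup_eq_left.mpr hNP] at hfr
    exact (isVertex_iff P).mp hpv (centralizer_eq_top_iff_subset.mp
      (eq_top_iff.mpr (hfr.ge.trans hP)))
  -- a complement
  obtain ⟨A, hA⟩ := Subgroup.exists_right_complement'_of_coprime hcop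
  have hAab : ∀ a ∈ A, ∀ b ∈ A, Commute a b := fun a ha b hb =>
    commutatorElement_eq_one_iff_mul_comm.mp (Subgroup.mem_bot.mp (hA.disjoint.le_bot
      ⟨hcN (commutator_def G ▸ commutator_mem_commutator (mem_top a) (mem_top b)),
        by rw [commutatorElement_def]
           exact A.mul_mem (A.mul_mem (A.mul_mem ha hb) (A.inv_mem ha)) (A.inv_mem hb)⟩))
  have hprod : ∀ g : G, ∃ n ∈ N, ∃ a ∈ A, n * a = g := by
    intro g
    have : g ∈ (N : Set G) * (A : Set G) := by rw [hA.mul_eq]; exact Set.mem_univ g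
    exact Set.mem_mul.mp this
  have hcard : A.index = Nat.card N := hA.index_eq_card
  have hNidx : N.index = Nat.card A := hA.symm.index_eq_card
  have hNle : ∀ n ∈ N, N ≤ centralizer ({n} : Set G) := fun n hn m hm =>
    mem_centralizer_singleton_iff.mpr (hNab m hm n hn)
  have hAle : ∀ a ∈ A, A ≤ centralizer ({a} : Set G) := fun a ha b hb =>
    mem_centralizer_singleton_iff.mpr (hAab b hb a ha)
  have hidx1 : ∀ g : G, (centralizer ({g} : Set G)).index = 1 → g ∈ center G := fun g hg =>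
    mem_center_iff.mpr fun x => mem_centralizer_singleton_iff.mp
      ((index_eq_one.mp hg).symm ▸ mem_top x)
  -- the key fact
  have hkey : ∀ a ∈ A, ∀ n ∈ N, Commute a n → a ∈ center G ∨ n ∈ center G := by
    intro a ha n hn hc
    by_contra hcon
    rw [not_or] at hcon
    obtain ⟨r, hr, hrd⟩ := Nat.exists_prime_and_dvd (mt (hidx1 a) hcon.1)
    obtain ⟨s, hs, hsd⟩ := Nat.exists_prime_and_dvd (mt (hidx1 n) hcon.2)
    have hrN : r ∣ Nat.card N := hrd.trans (hcard ▸ Subgroup.index_dvd_of_le (hAle a ha))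
    have hsS := hNS' s hs (hsd.trans (Subgroup.index_dvd_of_le (hNle n hn)))
    have hrv : IsVertex G r := ⟨hr, a, hrd⟩
    have hrS : r ∉ S := fun h => hNS r h hrv hrN
    have hcoan : (orderOf a).Coprime (orderOf n) :=
      Nat.Coprime.of_dvd (hNidx.symm ▸ (A.orderOf_dvd_natCard ha))
        (N.orderOf_dvd_natCard hn) hcop.symm
    have h1 := hrd.trans (index_dvd_index_mul hc hcoan)
    have h2 := hsd.trans (index_dvd_index_mul hc.symm hcoan.symm)
    rw [← hc.eq] at h2
    exact hdisc s r hsS.2 hrv hsS.1 hrS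
      (adj_of_dvd hs hr (fun h => hrS (h ▸ hsS.1)) h2 h1)
  -- pass to the quotient
  let π := QuotientGroup.mk' (center G)
  have hπ : ∀ g, π g = 1 ↔ g ∈ center G := fun g => QuotientGroup.eq_one_iff g
  set Kb := N.map π
  set Hb := A.map π
  haveI : Kb.Normal := Subgroup.Normal.map inferInstance π (QuotientGroup.mk'_surjective _)
  have hcompl : IsComplement' Kb Hb := by
    refine isComplement'_of_disjoint_and_mul_eq_univ ?_ ?_
    · rw [disjoint_iff, eq_bot_iff]
      rintro x ⟨⟨n, hn, rfl⟩, a, ha, he⟩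
      rw [Subgroup.mem_bot, ← he, hπ]
      have hz : a⁻¹ * n ∈ center G := QuotientGroup.eq.mp he
      have han : ∀ m ∈ N, Commute m a := by
        intro m hm
        have h1 : Commute m (n * (a⁻¹ * n)⁻¹) :=
          (hNab m hm n hn).mul_right (mem_center_iff.mp (inv_mem hz) m)
        simpa using h1
      refine mem_center_iff.mpr fun g => ?_
      obtain ⟨m, hm, b, hb, rfl⟩ := hprod g
      exact ((han m hm).mul_left (hAab b hb a ha)).eq
    · refine Set.eq_univ_of_forall fun x => ?_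
      obtain ⟨g, rfl⟩ := QuotientGroup.mk'_surjective (center G) x
      obtain ⟨n, hn, a, ha, rfl⟩ := hprod g
      exact Set.mem_mul.mpr ⟨π n, ⟨n, hn, rfl⟩, π a, ⟨a, ha, rfl⟩, (map_mul π n a).symm⟩
  have hcomm : ∀ x y : G, (∀ g : G, g ∈ center G) → x * y = y * x := fun x y h =>
    mem_center_iff.mp (h y) x
  have hnab : ¬ ∀ g : G, g ∈ center G := by
    intro h
    obtain ⟨q, -, hq, g, hg⟩ := hS'
    have : centralizer ({g} : Set G) = ⊤ :=
      eq_top_iff.mpr fun x _ => mem_centralizer_singleton_iff.mpr (hcomm x g h)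
    rw [this, index_top] at hg
    exact hq.one_lt.ne' (Nat.dvd_one.mp hg)
  have hK0 : Kb ≠ ⊥ := by
    intro h
    refine hnab fun g => ?_
    have hNZ : ∀ n ∈ N, n ∈ center G := fun n hn =>
      (hπ n).mp (Subgroup.mem_bot.mp (h ▸ ⟨n, hn, rfl⟩ : π n ∈ (⊥ : Subgroup _)))
    obtain ⟨n, hn, a, ha, rfl⟩ := hprod g
    refine mul_mem (hNZ n hn) (mem_center_iff.mpr fun g' => ?_)
    obtain ⟨m, hm, b, hb, rfl⟩ := hprod g'
    exact ((Commute.symm (mem_center_iff.mp (hNZ m hm) a : Commute a m)).mul_left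
      (hAab b hb a ha)).eq
  have hH0 : Hb ≠ ⊥ := by
    intro h
    refine hnab fun g => ?_
    have hAZ : ∀ a ∈ A, a ∈ center G := fun a ha =>
      (hπ a).mp (Subgroup.mem_bot.mp (h ▸ ⟨a, ha, rfl⟩ : π a ∈ (⊥ : Subgroup _)))
    obtain ⟨n, hn, a, ha, rfl⟩ := hprod g
    refine mul_mem (mem_center_iff.mpr fun g' => ?_) (hAZ a ha)
    obtain ⟨m, hm, b, hb, rfl⟩ := hprod g'
    exact ((hNab m hm n hn).mul_left
      (Commute.symm (mem_center_iff.mp (hAZ b hb) n : Commute n b))).eq
  have hfro : Cfsg.IsFrobeniusComplement Hb := by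
    refine Frobenius.isFrobeniusComplement_of_fixedPointFree hcompl hK0 hH0 ?_
    rintro _ ⟨a, ha, rfl⟩ hne
    rw [eq_bot_iff]
    rintro _ ⟨⟨n, hn, rfl⟩, hc⟩
    rw [Subgroup.mem_bot, hπ]
    have hz : ⁅a, n⁆ ∈ center G := by
      rw [← hπ, map_commutatorElement, commutatorElement_eq_one_iff_mul_comm]
      exact (mem_centralizer_singleton_iff.mp hc).symm
    set z := ⁅a, n⁆ with hzdef
    have hzN : z ∈ N := hcN (commutator_def G ▸ commutator_mem_commutator (mem_top a) (mem_top n))
    have hconj : a * n * a⁻¹ = z * n := by rw [hzdef, commutatorElement_def]; group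
    have hpow : ∀ k : ℕ, a ^ k * n * (a ^ k)⁻¹ = z ^ k * n := by
      intro k
      induction k with
      | zero => simp
      | succ k ih =>
        rw [pow_succ']
        calc a * a ^ k * n * (a * a ^ k)⁻¹ = a * (a ^ k * n * (a ^ k)⁻¹) * a⁻¹ := by group
          _ = a * z ^ k * n * a⁻¹ := by rw [ih]; group
          _ = z ^ k * a * n * a⁻¹ := by rw [mem_center_iff.mp (pow_mem hz k) a]
          _ = z ^ k * (a * n * a⁻¹) := by group
          _ = z ^ (k + 1) * n := by rw [hconj, pow_succ]; group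
    have h1 := hpow (orderOf a)
    rw [pow_orderOf_eq_one, one_mul, inv_one, mul_one] at h1
    have hz1 : z ^ orderOf a = 1 := mul_eq_right.mp h1.symm
    have hzone : z = 1 := by
      rw [← orderOf_eq_one_iff]
      exact Nat.eq_one_of_dvd_coprimes hcop.symm
        ((orderOf_dvd_of_pow_eq_one hz1).trans (hNidx.symm ▸ A.orderOf_dvd_natCard ha))
        (N.orderOf_dvd_natCard hzN)
    exact (hkey a ha n hn (commutatorElement_eq_one_iff_mul_comm.mp hzone)).resolve_left
      fun h => hne ((hπ a).mpr h)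
  refine ⟨Hb, hfro, ⟨⟨?_⟩⟩, ?_⟩
  · rintro ⟨_, a, ha, rfl⟩ ⟨_, b, hb, rfl⟩
    exact Subtype.ext ((hAab a ha b hb).map π)
  · rw [← Frobenius.coe_eq_frobeniusKernel hcompl hfro]
    rintro _ ⟨a, ha, rfl⟩ _ ⟨b, hb, rfl⟩
    exact (hNab a ha b hb).map π

/-- Let G be a finite group. Call a prime a vertex if it divides some conjugacy class size of G, and two distinct vertices adjacent if their product divides some class size. Suppose this graph is disconnected: the vertices split into two nonempty parts with no vertex of one part adjacent to a vertex of the other. Then G/Z(G) is a Frobenius group with abelian Frobenius complement and with a Frobenius kernel all of whose elements commute. -/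
theorem result {G : Type*} [Group G] [Finite G] (S : Set ℕ) (hS : ∃ p ∈ S, (p.Prime ∧ ∃ g : G, p ∣ (Subgroup.centralizer ({g} : Set G)).index)) (hS' : ∃ q ∉ S, (q.Prime ∧ ∃ g : G, q ∣ (Subgroup.centralizer ({g} : Set G)).index))
    (hdisc : ∀ p q : ℕ, (p.Prime ∧ ∃ g : G, p ∣ (Subgroup.centralizer ({g} : Set G)).index) → (q.Prime ∧ ∃ g : G, q ∣ (Subgroup.centralizer ({g} : Set G)).index) → p ∈ S → q ∉ S → ¬ (∃ g : G, p * q ∣ (Subgroup.centralizer ({g} : Set G)).index)) :
    ∃ H : Subgroup (G ⧸ Subgroup.center G), Cfsg.IsFrobeniusComplement H ∧ IsMulCommutative H ∧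
      ∀ x ∈ Cfsg.frobeniusKernel H, ∀ y ∈ Cfsg.frobeniusKernel H, x * y = y * x := by
  classical
  by_cases hgood : ∀ p : ℕ, ∀ _ : Fact p.Prime, p ∈ S → IsVertex G p → ∀ P : Sylow p G,
      Subgroup.normalizer ((P : Subgroup G) : Set G) ≤
        Subgroup.centralizer ((P : Subgroup G) : Set G)
  · exact main S hS hS' hdisc hgood
  · push Not at hgood
    obtain ⟨p, hpf, hpS, hpv, P, hP⟩ := hgood
    refine main {r | r ∉ S} hS' (by simpa [IsVertex] using hS) ?_ ?_
    · intro a b ha hb haS hbS h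
      exact hdisc b a hb ha (by simpa using hbS) haS (adj_comm.mp h)
    · intro q hqf hqS hqv Q
      exact (ito (fun h : p = q => hqS (h ▸ hpS)) P Q
        (hdisc p q hpv hqv hpS hqS)).resolve_left hP

end Cfsg.Agent.S4255
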