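import Cfsg.Statements.S4257
import Cfsg.Agent.S4255

set_option autoImplicit false
open Cfsg

namespace Cfsg.Agent.S4257

open Subgroup FGS80.ClassPrimes
open scoped commutatorElement Pointwise

variable {G : Type*} [Group G]

/-- The conclusion: a path of length at most three. -/
def Short (G : Type*) [Group G] (p q : ℕ) : Prop :=
  Adj G p q ∨ (∃ r : ℕ, IsVertex G r ∧ r ≠ p ∧ r ≠ q ∧ Adj G p r ∧ Adj G r q) ∨
    (∃ r s : ℕ, IsVertex G r ∧ IsVertex G s ∧ r ≠ p ∧ s ≠ q ∧ r ≠ s ∧ r ≠ q ∧ s ≠ p ∧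
      Adj G p r ∧ Adj G r s ∧ Adj G s q)

lemma short_two {p r q : ℕ} (hpq : p ≠ q) (hr : IsVertex G r) (h1 : p = r ∨ Adj G p r)
    (h2 : r = q ∨ Adj G r q) : Short G p q := by
  by_cases hrp : r = p
  · exact Or.inl (h2.resolve_left (fun e => hpq (hrp ▸ e)) |> fun h => hrp ▸ h)
  by_cases hrq : r = q
  · exact Or.inl (hrq ▸ h1.resolve_left (Ne.symm hrp))
  exact Or.inr (Or.inl ⟨r, hr, hrp, hrq, h1.resolve_left (Ne.symm hrp), h2.resolve_left hrq⟩)

/-- Two vertices near to equal or adjacent vertices are at distance at most three. -/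
lemma short_three {p r s q : ℕ} (hpq : p ≠ q) (hr : IsVertex G r) (hs : IsVertex G s)
    (h1 : p = r ∨ Adj G p r) (h2 : r = s ∨ Adj G r s) (h3 : s = q ∨ Adj G s q) :
    Short G p q := by
  rcases h1 with rfl | h1
  · exact short_two hpq hs h2 h3
  rcases h3 with rfl | h3
  · exact short_two hpq hr (Or.inr h1) h2
  rcases h2 with rfl | h2
  · exact short_two hpq hr (Or.inr h1) (Or.inr h3)
  by_cases hrq : r = q
  · exact Or.inl (hrq ▸ h1)
  by_cases hsp : s = p
  · exact Or.inl (hsp ▸ h3)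
  by_cases hrp : r = p
  · exact short_two hpq hs (Or.inr (hrp ▸ h2)) (Or.inr h3)
  by_cases hsq : s = q
  · exact short_two hpq hr (Or.inr h1) (Or.inr (hsq ▸ h2))
  by_cases hrs : r = s
  · exact short_two hpq hr (Or.inr h1) (Or.inr (hrs ▸ h3))
  exact Or.inr (Or.inr ⟨r, s, hr, hs, hrp, hsq, hrs, hrq, hsp, h1, h2, h3⟩)

variable [Finite G]

/-- A vertex is good when its Sylow subgroup is central in its normalizer. -/
def Good (G : Type*) [Group G] (p : ℕ) : Prop :=
  ∀ _ : Fact p.Prime, ∀ P : Sylow p G,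
    normalizer ((P : Subgroup G) : Set G) ≤ centralizer ((P : Subgroup G) : Set G)

lemma adj_of_not_good {p q : ℕ} (hpq : p ≠ q) (hp : ¬ Good G p) (hq : ¬ Good G q) :
    Adj G p q := by
  unfold Good at hp hq
  push Not at hp hq
  obtain ⟨hpf, P, hP⟩ := hp
  obtain ⟨hqf, Q, hQ⟩ := hq
  by_contra h
  rcases ito hpq P Q h with h' | h'
  · exact hP h'
  · exact hQ h'

/-- A normal subgroup of index prime to `p` contains every Sylow `p`-subgroup. -/
lemma sylow_le_of_not_dvd {p : ℕ} [hp : Fact p.Prime] (P : Sylow p G) (M : Subgroup G) [M.Normal]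
    (h : ¬ p ∣ M.index) : (P : Subgroup G) ≤ M := by
  rw [← relIndex_eq_one]
  obtain ⟨k, hk⟩ := IsPGroup.iff_card.mp P.isPGroup'
  refine Nat.eq_one_of_dvd_coprimes ((hp.out.coprime_iff_not_dvd.mpr h).pow_left k).symm
    (relIndex_dvd_index_of_normal M _) ?_
  rw [← hk]
  exact relIndex_dvd_card _ _

lemma normal_of_commutator_le (M : Subgroup G) (h : commutator G ≤ M) : M.Normal :=
  ⟨fun x hx g => by
    have h1 : ⁅g, x⁆ ∈ M := h (commutator_def G ▸ commutator_mem_commutator (mem_top g) (mem_top x))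
    simpa [commutatorElement_def] using mul_mem h1 hx⟩

lemma index_conj (x g : G) :
    (centralizer ({x * g * x⁻¹} : Set G)).index = (centralizer ({g} : Set G)).index := by
  rw [← FGS76.ncard_carrier, ← FGS76.ncard_carrier]
  congr 2
  exact ConjClasses.mk_eq_mk_iff_isConj.mpr (isConj_iff.mpr ⟨x⁻¹, by group⟩)

theorem main
    (hconn : ∀ S : Set ℕ, (∃ p ∈ S, IsVertex G p) → (∃ q ∉ S, IsVertex G q) →
      ∃ p q : ℕ, IsVertex G p ∧ IsVertex G q ∧ p ∈ S ∧ q ∉ S ∧ Adj G p q)
    (p₀ q₀ : ℕ) (hp₀ : IsVertex G p₀) (hq₀ : IsVertex G q₀) (hpq₀ : p₀ ≠ q₀) :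
    Short G p₀ q₀ := by
  classical
  by_cases hA : ∀ x : ℕ, IsVertex G x → Good G x → ∃ b, IsVertex G b ∧ ¬ Good G b ∧ Adj G x b
  · have near : ∀ x, IsVertex G x → ∃ b, IsVertex G b ∧ ¬ Good G b ∧ (x = b ∨ Adj G x b) := by
      intro x hx
      by_cases hg : Good G x
      · obtain ⟨b, hb1, hb2, hb3⟩ := hA x hx hg
        exact ⟨b, hb1, hb2, Or.inr hb3⟩
      · exact ⟨x, hx, hg, Or.inl rfl⟩
    obtain ⟨u, hu, hub, h1⟩ := near p₀ hp₀
    obtain ⟨v, hv, hvb, h3⟩ := near q₀ hq₀
    refine short_three hpq₀ hu hv h1 ?_ (h3.imp Eq.symm adj_comm.mp)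
    by_cases huv : u = v
    · exact Or.inl huv
    · exact Or.inr (adj_of_not_good huv hub hvb)
  push Not at hA
  obtain ⟨p, hpv, hpg, hpnadj⟩ := hA
  haveI hpf : Fact p.Prime := ⟨hpv.1⟩
  let V := {r : ℕ // Good G r ∧ IsVertex G r}
  have hK : ∀ r : V, ∃ K : Subgroup G, K.Normal ∧ ¬ (r : ℕ) ∣ Nat.card K ∧
      (∃ k, K.index = (r : ℕ) ^ k) ∧ commutator G ≤ K := by
    intro r
    haveI : Fact (r : ℕ).Prime := ⟨r.2.2.1⟩
    exact S4255.exists_complement default (r.2.1 this default)
  choose K hKn hKp hKi hKc using hK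
  set N : Subgroup G := ⨅ r : V, K r with hN
  haveI : N.Normal := normal_iInf_normal hKn
  have hcN : commutator G ≤ N := le_iInf hKc
  have hNS : ∀ r : ℕ, Good G r → IsVertex G r → ¬ r ∣ Nat.card N := fun r h1 h2 h =>
    hKp ⟨r, h1, h2⟩ (h.trans (Subgroup.card_dvd_of_le (iInf_le K ⟨r, h1, h2⟩)))
  have hNS' : ∀ r : ℕ, r.Prime → r ∣ N.index → Good G r ∧ IsVertex G r := by
    intro r hr hdvd
    by_contra hcon
    haveI : Fact r.Prime := ⟨hr⟩
    obtain ⟨R⟩ : Nonempty (Sylow r G) := inferInstance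
    have hRN : (R : Subgroup G) ≤ N := by
      refine le_iInf fun s => ?_
      haveI := hKn s
      obtain ⟨e, he⟩ := hKi s
      refine sylow_le_of_not_dvd R (K s) fun hd => hcon ?_
      rw [he] at hd
      have : r = (s : ℕ) := (Nat.prime_dvd_prime_iff_eq hr s.2.2.1).mp (hr.dvd_of_dvd_pow hd)
      exact this ▸ s.2
    exact R.not_dvd_index (hdvd.trans (Subgroup.index_dvd_of_le hRN))
  have hcop : (Nat.card N).Coprime N.index := by
    refine Nat.coprime_of_dvd fun r hr h1 h2 => ?_
    obtain ⟨ha, hb⟩ := hNS' r hr h2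
    exact hNS r ha hb h1
  obtain ⟨P⟩ : Nonempty (Sylow p G) := inferInstance
  have hP := hpg hpf P
  set C := centralizer ((P : Subgroup G) : Set G) with hC
  have hfr : normalizer ((P : Subgroup G) : Set G) ⊔ N = ⊤ := by
    haveI : ((P : Subgroup G) ⊔ N).Normal :=
      normal_of_commutator_le _ (hcN.trans le_sup_right)
    refine eq_top_iff.mpr ?_
    rw [← Sylow.normalizer_sup_eq_top' (P := P) (N := (P : Subgroup G) ⊔ N) le_sup_left]
    exact sup_le le_sup_left (sup_le (le_trans le_normalizer le_sup_left) le_sup_right)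
  have hnotcentral : ¬ N ≤ C := by
    intro hNC
    have hNP : N ≤ normalizer ((P : Subgroup G) : Set G) :=
      hNC.trans (centralizer_le_normalizer _)
    rw [sup_eq_left.mpr hNP] at hfr
    exact (isVertex_iff P).mp hpv (centralizer_eq_top_iff_subset.mp
      (eq_top_iff.mpr (hfr.ge.trans hP)))
  -- elements of `N` are central in `N` or conjugate into `C` by an element of `N`
  have hsplit : ∀ n ∈ N, (∀ m ∈ N, Commute m n) ∨ ∃ x ∈ N, x * n * x⁻¹ ∈ C := by
    intro n hn
    by_cases hp' : p ∣ (centralizer ({n} : Set G)).index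
    · left
      have hrel : (centralizer ({n} : Set G)).relIndex N = 1 := by
        by_contra hne
        obtain ⟨r, hr, hrd⟩ := Nat.exists_prime_and_dvd hne
        have hrv : IsVertex G r := ⟨hr, n, hrd.trans (FGS80.relIndex_dvd_index _ N)⟩
        have hrN : r ∣ Nat.card N := hrd.trans (Subgroup.relIndex_dvd_card _ _)
        have hrS : ¬ Good G r := fun h => hNS r h hrv hrN
        exact hpnadj r hrv hrS (adj_of_dvd hpv.1 hr (fun h => hrS (h ▸ hpg)) hp'
          (hrd.trans (FGS80.relIndex_dvd_index _ N)))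
      rw [Subgroup.relIndex_eq_one] at hrel
      exact fun m hm => mem_centralizer_singleton_iff.mp (hrel hm)
    · right
      obtain ⟨x, hx⟩ := exists_conj_mem_centralizer P hp'
      obtain ⟨c, hc, m, hm, rfl⟩ := Subgroup.mem_sup_of_normal_right.mp
        (hfr ▸ mem_top x : x ∈ normalizer ((P : Subgroup G) : Set G) ⊔ N)
      refine ⟨m, hm, ?_⟩
      have hcC : c ∈ C := hP hc
      have := C.mul_mem (C.mul_mem (C.inv_mem hcC) hx) hcC
      convert this using 1
      group
  have hNab : ∀ m ∈ N, ∀ n ∈ N, Commute m n := by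
    by_contra hcon
    push Not at hcon
    obtain ⟨m₀, hm₀, n₀, hn₀, hmn₀⟩ := hcon
    set Cn : Subgroup N := (C ⊓ N).subgroupOf N
    have hJ : (Cn ⊔ center N) = ⊤ := by
      refine FGS76.eq_top_of_forall_exists_conj _ fun n => ?_
      rcases hsplit n.1 n.2 with h | ⟨x, hx, hxn⟩
      · refine ⟨1, ?_⟩
        rw [one_mul, inv_one, mul_one]
        exact mem_sup_right (mem_center_iff.mpr fun m => Subtype.ext (h m.1 m.2))
      · refine ⟨⟨x, hx⟩, mem_sup_left ?_⟩
        rw [mem_subgroupOf]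
        exact ⟨hxn, (⟨x, hx⟩ * n * ⟨x, hx⟩⁻¹ : N).2⟩
    have hnc : ∀ n ∈ N, ¬ (∀ m ∈ N, Commute m n) → n ∈ C := by
      intro n hn hne
      obtain ⟨x, hx, hxn⟩ := (hsplit n hn).resolve_left hne
      obtain ⟨c, hc, z, hz, hcz⟩ := Subgroup.mem_sup_of_normal_right.mp
        (hJ ▸ mem_top (⟨x, hx⟩ : N) : (⟨x, hx⟩ : N) ∈ Cn ⊔ center N)
      have hx' : x = (c : G) * z := (congrArg Subtype.val hcz).symm
      have hzn : (z : G) * n = n * z :=
        (congrArg Subtype.val (mem_center_iff.mp hz ⟨n, hn⟩)).symm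
      have hcC : (c : G) ∈ C := hc.1
      have := C.mul_mem (C.mul_mem (C.inv_mem hcC) hxn) hcC
      convert this using 1
      rw [hx']
      calc n = n * (z : G) * (z : G)⁻¹ := by group
        _ = (c : G)⁻¹ * ((c : G) * z * n * ((c : G) * z)⁻¹) * c := by rw [← hzn]; group
    have hn₀C : n₀ ∈ C := hnc n₀ hn₀ fun h => hmn₀ (h m₀ hm₀)
    refine hnotcentral fun m hm => ?_
    by_cases h : ∀ x ∈ N, Commute x m
    · have h' : m * n₀ ∈ C := hnc _ (mul_mem hm hn₀) fun hh => hmn₀ (by
        have h1 := hh m₀ hm₀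
        have h2 := ((h m₀ hm₀).inv_right).mul_right h1
        simpa using h2)
      simpa using mul_mem h' (inv_mem hn₀C)
    · exact hnc m hm h
  -- abelian normal subgroup with abelian complement
  obtain ⟨A, hA⟩ := Subgroup.exists_right_complement'_of_coprime hcop
  have hAab : ∀ a ∈ A, ∀ b ∈ A, Commute a b := fun a ha b hb =>
    commutatorElement_eq_one_iff_mul_comm.mp (Subgroup.mem_bot.mp (hA.disjoint.le_bot
      ⟨hcN (commutator_def G ▸ commutator_mem_commutator (mem_top a) (mem_top b)),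
        by rw [commutatorElement_def]
           exact A.mul_mem (A.mul_mem (A.mul_mem ha hb) (A.inv_mem ha)) (A.inv_mem hb)⟩))
  have hprod : ∀ g : G, ∃ n ∈ N, ∃ a ∈ A, n * a = g := by
    intro g
    have : g ∈ (N : Set G) * (A : Set G) := by rw [hA.mul_eq]; exact Set.mem_univ g
    exact Set.mem_mul.mp this
  have hNidx : N.index = Nat.card A := hA.symm.index_eq_card
  have hAidx : A.index = Nat.card N := hA.index_eq_card
  have hnorm : ∀ n ∈ N, (centralizer ({n} : Set G)).Normal := fun n hn =>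
    normal_of_commutator_le _ (hcN.trans fun m hm =>
      mem_centralizer_singleton_iff.mpr (hNab m hm n hn))
  have hbadA : ∀ a ∈ A, ∀ r : ℕ, r.Prime → r ∣ (centralizer ({a} : Set G)).index →
      IsVertex G r ∧ ¬ Good G r := by
    intro a ha r hr hrd
    have hrv : IsVertex G r := ⟨hr, a, hrd⟩
    refine ⟨hrv, fun hg => hNS r hg hrv ?_⟩
    rw [← hAidx]
    exact hrd.trans (Subgroup.index_dvd_of_le fun b hb =>
      mem_centralizer_singleton_iff.mpr (hAab b hb a ha))
  -- an edge between a good and a bad vertex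
  have hbad : ∃ x, x ∈ {x : ℕ | ¬ Good G x} ∧ IsVertex G x := by
    obtain ⟨a, ha, hac⟩ : ∃ a ∈ A, a ∉ center G := by
      by_contra! hAc
      refine hnotcentral fun n hn => mem_centralizer_iff.mpr fun y _ => ?_
      obtain ⟨m, hm, a, ha, rfl⟩ := hprod y
      exact (hNab m hm n hn).mul_left (mem_center_iff.mp (hAc a ha) n).symm
    have hne : (centralizer ({a} : Set G)).index ≠ 1 := fun h => hac
      (mem_center_iff.mpr fun x => mem_centralizer_singleton_iff.mp
        ((index_eq_one.mp h).symm ▸ mem_top x))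
    obtain ⟨r, hr, hrd⟩ := Nat.exists_prime_and_dvd hne
    exact ⟨r, (hbadA a ha r hr hrd).2, (hbadA a ha r hr hrd).1⟩
  obtain ⟨b, r, hbv, hrv, hbb, hrg', ⟨g, hg⟩⟩ :=
    hconn {x | ¬ Good G x} hbad ⟨p, by simpa using hpg, hpv⟩
  have hrg : Good G r := by simpa using hrg'
  replace hbb : ¬ Good G b := hbb
  haveI hrf : Fact r.Prime := ⟨hrv.1⟩
  obtain ⟨n, hn, a, ha, hna⟩ := hprod g
  -- the endomorphism `x ↦ [a, x]` of `N`
  let f : N →* N :=
    { toFun := fun x => ⟨a * x * a⁻¹ * (x : G)⁻¹,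
        N.mul_mem (Subgroup.Normal.conj_mem inferInstance _ x.2 a) (N.inv_mem x.2)⟩
      map_one' := Subtype.ext (by simp)
      map_mul' := fun x y => Subtype.ext (by
        show a * ((x : G) * y) * a⁻¹ * ((x : G) * y)⁻¹ =
          a * x * a⁻¹ * (x : G)⁻¹ * (a * y * a⁻¹ * (y : G)⁻¹)
        have h : Commute (a * (y : G) * a⁻¹ * (y : G)⁻¹) (x : G)⁻¹ :=
          (hNab _ (N.mul_mem (Subgroup.Normal.conj_mem inferInstance _ y.2 a) (N.inv_mem y.2))
            _ (N.inv_mem x.2))
        calc a * ((x : G) * y) * a⁻¹ * ((x : G) * y)⁻¹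
            = a * x * a⁻¹ * ((a * y * a⁻¹ * (y : G)⁻¹) * (x : G)⁻¹) := by group
          _ = _ := by rw [h.eq]; simp only [mul_assoc]) }
  have hfval : ∀ x : N, (f x : G) = a * x * a⁻¹ * (x : G)⁻¹ := fun _ => rfl
  have hff : ∀ x : N, f (f x) = 1 → f x = 1 := by
    intro x hx
    set z : G := (f x : G) with hz
    have hza : Commute a z := by
      have h1 := congrArg Subtype.val hx
      rw [hfval] at h1
      exact (mul_inv_eq_iff_eq_mul.mp (mul_inv_eq_one.mp h1))
    have hconj : a * x * a⁻¹ = z * x := by rw [hz, hfval]; group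
    have hpow : ∀ k : ℕ, a ^ k * x * (a ^ k)⁻¹ = z ^ k * x := by
      intro k
      induction k with
      | zero => simp
      | succ k ih =>
        rw [pow_succ']
        calc a * a ^ k * x * (a * a ^ k)⁻¹ = a * (a ^ k * x * (a ^ k)⁻¹) * a⁻¹ := by group
          _ = a * z ^ k * x * a⁻¹ := by rw [ih]; group
          _ = z ^ k * a * x * a⁻¹ := by rw [(hza.pow_right k).eq]
          _ = z ^ k * (a * x * a⁻¹) := by group
          _ = z ^ (k + 1) * x := by rw [hconj, pow_succ]; group
    have h1 := hpow (orderOf a)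
    rw [pow_orderOf_eq_one, one_mul, inv_one, mul_one] at h1
    have hz1 : z ^ orderOf a = 1 := mul_eq_right.mp h1.symm
    refine Subtype.ext ?_
    show z = 1
    rw [← orderOf_eq_one_iff]
    exact Nat.eq_one_of_dvd_coprimes hcop.symm
      ((orderOf_dvd_of_pow_eq_one hz1).trans (hNidx.symm ▸ A.orderOf_dvd_natCard ha))
      (N.orderOf_dvd_natCard (f x).2)
  have hker : ∀ x : N, f x = 1 ↔ Commute a (x : G) := by
    intro x
    rw [Subtype.ext_iff, hfval, OneMemClass.coe_one, mul_inv_eq_one, mul_inv_eq_iff_eq_mul]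
    exact Iff.rfl
  have hdec : ∀ x : N, ∃ c m : N, f c = 1 ∧ x = c * f m := by
    intro x
    let e : f.range →* f.range :=
      (f.comp f.range.subtype).codRestrict _ fun y => ⟨y, rfl⟩
    have hinj : Function.Injective e := by
      rw [← MonoidHom.ker_eq_bot_iff, eq_bot_iff]
      rintro ⟨_, m, rfl⟩ hy
      have : f (f m) = 1 := congrArg Subtype.val hy
      exact Subgroup.mem_bot.mpr (Subtype.ext (hff m this))
    obtain ⟨⟨_, m, rfl⟩, hm⟩ := (Finite.injective_iff_surjective.mp hinj) ⟨f x, x, rfl⟩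
    have hm' : f (f m) = f x := congrArg Subtype.val hm
    refine ⟨x * (f m)⁻¹, m, ?_, by group⟩
    rw [map_mul, map_inv, hm', mul_inv_cancel]
  have hCsub : ∀ c m : N, f c = 1 →
      centralizer ({(c : G) * (f m : G)} : Set G) ≤ centralizer ({(c : G)} : Set G) ⊓
        centralizer ({(f m : G)} : Set G) := by
    intro c m hc y hy
    rw [mem_centralizer_singleton_iff] at hy
    let c' : N := ⟨y * c * y⁻¹, Subgroup.Normal.conj_mem inferInstance _ c.2 y⟩
    let m' : N := ⟨y * m * y⁻¹, Subgroup.Normal.conj_mem inferInstance _ m.2 y⟩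
    let k : G := y * a * y⁻¹ * a⁻¹
    have hk : k ∈ N := by
      have h1 : ⁅y, a⁆ ∈ commutator G := by
        rw [commutator_def]; exact commutator_mem_commutator (mem_top y) (mem_top a)
      rw [commutatorElement_def] at h1
      exact hcN h1
    have hc' : f c' = 1 := by
      rw [hker]
      have h1 : Commute (k * a) (c' : G) := by
        have : k * a = y * a * y⁻¹ := by simp [k]
        rw [this]
        exact ((hker c).mp hc).map (MulAut.conj y).toMonoidHom
      have h2 : Commute k⁻¹ (c' : G) := (hNab _ (N.inv_mem hk) _ c'.2)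
      simpa using h2.mul_left h1
    have hfm : (f m' : G) = y * (f m : G) * y⁻¹ := by
      rw [hfval, hfval]
      have h1 : Commute k (a * (m' : G) * a⁻¹) :=
        hNab _ hk _ (Subgroup.Normal.conj_mem inferInstance _ m'.2 a)
      calc a * (m' : G) * a⁻¹ * (m' : G)⁻¹
          = k * (a * (m' : G) * a⁻¹) * k⁻¹ * (m' : G)⁻¹ := by
            rw [h1.eq, mul_inv_cancel_right]
        _ = _ := by simp only [k, m']; group
    have hprod' : c' * f m' = c * f m := Subtype.ext (by
      show y * (c : G) * y⁻¹ * (f m' : G) = (c : G) * (f m : G)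
      calc y * (c : G) * y⁻¹ * (f m' : G) = y * ((c : G) * (f m : G)) * y⁻¹ := by
            rw [hfm]; group
        _ = _ := by rw [hy, mul_inv_cancel_right])
    have he : c⁻¹ * c' = f m * (f m')⁻¹ := by
      rw [eq_mul_inv_iff_mul_eq, mul_assoc, hprod', inv_mul_cancel_left]
    have hone : c⁻¹ * c' = 1 := by
      rw [he, ← map_inv, ← map_mul]
      refine hff _ ?_
      rw [map_mul, map_inv, ← he, map_mul, map_inv, hc, hc', inv_one, one_mul]
    have hcc : c' = c := (inv_mul_eq_one.mp hone).symm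
    have hmm : f m' = f m := mul_left_cancel (a := c) (by rw [← hprod', hcc])
    refine ⟨mem_centralizer_singleton_iff.mpr ?_, mem_centralizer_singleton_iff.mpr ?_⟩
    · have := congrArg Subtype.val hcc
      exact mul_inv_eq_iff_eq_mul.mp this
    · have := congrArg Subtype.val hmm
      rw [hfm] at this
      exact mul_inv_eq_iff_eq_mul.mp this
  -- move `g` to `c * a` with `c` commuting with `a`
  obtain ⟨c, m, hc, hcm⟩ := hdec ⟨n, hn⟩
  have hgc : (m : G) * g * (m : G)⁻¹ = c * a := by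
    have h1 : n = (c : G) * (f m : G) := congrArg Subtype.val hcm
    have h2 : Commute (m : G) n := hNab _ m.2 _ hn
    rw [← hna, ← mul_assoc, h2.eq, h1, hfval]
    have h3 : Commute (a * (m : G) * a⁻¹) (m : G)⁻¹ :=
      hNab _ (Subgroup.Normal.conj_mem inferInstance _ m.2 a) _ (N.inv_mem m.2)
    calc (c : G) * (a * m * a⁻¹ * (m : G)⁻¹) * m * a * (m : G)⁻¹
        = c * (a * m * a⁻¹) * a * (m : G)⁻¹ := by group
      _ = c * a := by group
  rw [← index_conj (m : G) g, hgc] at hg
  have hca : Commute a (c : G) := (hker c).mp hc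
  haveI := hnorm c c.2
  have hrc : r ∣ (centralizer ({(c : G)} : Set G)).index := by
    by_contra hrc
    have hra : ¬ r ∣ (centralizer ({a} : Set G)).index := fun h => (hbadA a ha r hrv.1 h).2 hrg
    have hle : centralizer ({(c : G)} : Set G) ⊓ centralizer ({a} : Set G) ≤
        centralizer ({(c : G) * a} : Set G) := fun y hy => mem_centralizer_singleton_iff.mpr
      ((show Commute y (c : G) from mem_centralizer_singleton_iff.mp hy.1).mul_right
        (mem_centralizer_singleton_iff.mp hy.2 : Commute y a))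
    have h1 := ((dvd_mul_left r b).trans hg).trans (Subgroup.index_dvd_of_le hle)
    rw [← relIndex_mul_index (inf_le_right : centralizer ({(c : G)} : Set G) ⊓
      centralizer ({a} : Set G) ≤ _), inf_relIndex_right] at h1
    rcases hrv.1.dvd_mul.mp h1 with h | h
    · exact hrc (h.trans (relIndex_dvd_index_of_normal _ _))
    · exact hra h
  -- `a` is not central
  obtain ⟨b', hb', hb'd⟩ := Nat.exists_prime_and_dvd (n := (centralizer ({a} : Set G)).index) (by
    intro h
    have htop := index_eq_one.mp h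
    have heq : centralizer ({(c : G) * a} : Set G) = centralizer ({(c : G)} : Set G) := by
      ext y
      have hya : Commute y a := mem_centralizer_singleton_iff.mp (htop.symm ▸ mem_top y)
      simp only [mem_centralizer_singleton_iff]
      refine ⟨fun h' => ?_, fun h' => (Commute.mul_right h' hya)⟩
      simpa using (Commute.mul_right h' hya.inv_right : Commute y ((c : G) * a * a⁻¹)).eq
    have hbN : b ∣ N.index := ((dvd_mul_right b r).trans hg).trans
      (heq ▸ Subgroup.index_dvd_of_le fun x hx =>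
        mem_centralizer_singleton_iff.mpr (hNab x hx c c.2))
    exact hbb (hNS' b hbv.1 hbN).1)
  obtain ⟨hb'v, hb'b⟩ := hbadA a ha b' hb' hb'd
  have hcop' : ∀ x : N, (orderOf a).Coprime (orderOf (x : G)) := fun x =>
    Nat.Coprime.of_dvd (hNidx.symm ▸ (A.orderOf_dvd_natCard ha))
      (N.orderOf_dvd_natCard x.2) hcop.symm
  have hedge : Adj G b' r := adj_of_dvd hb' hrv.1 (fun h => hb'b (h ▸ hrg))
    (hb'd.trans (index_dvd_index_mul hca (hcop' c)))
    (by rw [hca.eq]; exact hrc.trans (index_dvd_index_mul hca.symm (hcop' c).symm))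
  -- every vertex is near the edge
  have near : ∀ x, IsVertex G x → ∃ u, IsVertex G u ∧ (u = b' ∨ u = r) ∧ (x = u ∨ Adj G x u) := by
    intro x hx
    by_cases hxb : x = b'
    · exact ⟨b', hb'v, Or.inl rfl, Or.inl hxb⟩
    by_cases hxr : x = r
    · exact ⟨r, hrv, Or.inr rfl, Or.inl hxr⟩
    by_cases hxg : Good G x
    swap
    · exact ⟨b', hb'v, Or.inl rfl, Or.inr (adj_of_not_good hxb hxg hb'b)⟩
    haveI hxf : Fact x.Prime := ⟨hx.1⟩
    obtain ⟨Q⟩ : Nonempty (Sylow x G) := inferInstance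
    obtain ⟨y, hy⟩ : ∃ y : N, x ∣ (centralizer ({(y : G)} : Set G)).index := by
      by_contra! hall
      have hle : N ≤ centralizer ((Q : Subgroup G) : Set G) := fun y hy =>
        mem_centralizer_iff.mpr fun z hz => by
          haveI := hnorm y hy
          exact mem_centralizer_singleton_iff.mp (sylow_le_of_not_dvd Q _ (hall ⟨y, hy⟩) hz)
      haveI : ((Q : Subgroup G) ⊔ N).Normal :=
        normal_of_commutator_le _ (hcN.trans le_sup_right)
      have htop : normalizer ((Q : Subgroup G) : Set G) = ⊤ := by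
        refine eq_top_iff.mpr ?_
        rw [← Sylow.normalizer_sup_eq_top' (P := Q) (N := (Q : Subgroup G) ⊔ N) le_sup_left]
        exact sup_le le_rfl (sup_le le_normalizer (hle.trans (centralizer_le_normalizer _)))
      exact (isVertex_iff Q).mp hx (centralizer_eq_top_iff_subset.mp
        (eq_top_iff.mpr (htop.ge.trans (hxg hxf Q))))
    obtain ⟨u, w, hu, rfl⟩ := hdec y
    by_cases hxu : x ∣ (centralizer ({(u : G)} : Set G)).index
    · have hau : Commute a (u : G) := (hker u).mp hu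
      refine ⟨b', hb'v, Or.inl rfl, Or.inr (adj_of_dvd hx.1 hb' hxb
        (by rw [hau.eq]; exact hxu.trans (index_dvd_index_mul hau.symm (hcop' u).symm))
        (hb'd.trans (index_dvd_index_mul hau (hcop' u))))⟩
    · have hxw : x ∣ (centralizer ({(f w : G)} : Set G)).index := by
        by_contra hxw
        haveI := hnorm u u.2
        haveI := hnorm _ (f w).2
        have hQ : (Q : Subgroup G) ≤ centralizer ({((u * f w : N) : G)} : Set G) := fun z hz =>
          mem_centralizer_singleton_iff.mpr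
            ((show Commute z (u : G) from
              mem_centralizer_singleton_iff.mp (sylow_le_of_not_dvd Q _ hxu hz)).mul_right
              (mem_centralizer_singleton_iff.mp (sylow_le_of_not_dvd Q _ hxw hz)))
        exact Q.not_dvd_index (hy.trans (Subgroup.index_dvd_of_le hQ))
      have hle := hCsub c w hc
      exact ⟨r, hrv, Or.inr rfl, Or.inr (adj_of_dvd hx.1 hrv.1 hxr
        (hxw.trans (Subgroup.index_dvd_of_le (hle.trans inf_le_right)))
        (hrc.trans (Subgroup.index_dvd_of_le (hle.trans inf_le_left))))⟩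
  obtain ⟨u, hu, hu', h1⟩ := near p₀ hp₀
  obtain ⟨v, hv, hv', h3⟩ := near q₀ hq₀
  refine short_three hpq₀ hu hv h1 ?_ (h3.imp Eq.symm adj_comm.mp)
  rcases hu' with rfl | rfl <;> rcases hv' with rfl | rfl
  · exact Or.inl rfl
  · exact Or.inr hedge
  · exact Or.inr (adj_comm.mp hedge)
  · exact Or.inl rfl

/-- Let G be a finite group. Call a prime a vertex if it divides some conjugacy class size of G, and two distinct vertices adjacent if their product divides some class size. If this graph is connected, then its diameter is at most 3: any two distinct vertices p and q are adjacent, or joined through one or two intermediate vertices. -/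
theorem result {G : Type*} [Group G] [Finite G]
    (hconn : ∀ S : Set ℕ, (∃ p ∈ S, (p.Prime ∧ ∃ g : G, p ∣ (Subgroup.centralizer ({g} : Set G)).index)) → (∃ q ∉ S, (q.Prime ∧ ∃ g : G, q ∣ (Subgroup.centralizer ({g} : Set G)).index)) →
      ∃ p q : ℕ, (p.Prime ∧ ∃ g : G, p ∣ (Subgroup.centralizer ({g} : Set G)).index) ∧ (q.Prime ∧ ∃ g : G, q ∣ (Subgroup.centralizer ({g} : Set G)).index) ∧ p ∈ S ∧ q ∉ S ∧ (∃ g : G, p * q ∣ (Subgroup.centralizer ({g} : Set G)).index))
    (p q : ℕ) (hp : (p.Prime ∧ ∃ g : G, p ∣ (Subgroup.centralizer ({g} : Set G)).index)) (hq : (q.Prime ∧ ∃ g : G, q ∣ (Subgroup.centralizer ({g} : Set G)).index)) (hpq : p ≠ q) :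
    (∃ g : G, p * q ∣ (Subgroup.centralizer ({g} : Set G)).index) ∨ (∃ r : ℕ, (r.Prime ∧ ∃ g : G, r ∣ (Subgroup.centralizer ({g} : Set G)).index) ∧ r ≠ p ∧ r ≠ q ∧ (∃ g : G, p * r ∣ (Subgroup.centralizer ({g} : Set G)).index) ∧ (∃ g : G, r * q ∣ (Subgroup.centralizer ({g} : Set G)).index)) ∨
      (∃ r s : ℕ, (r.Prime ∧ ∃ g : G, r ∣ (Subgroup.centralizer ({g} : Set G)).index) ∧ (s.Prime ∧ ∃ g : G, s ∣ (Subgroup.centralizer ({g} : Set G)).index) ∧ r ≠ p ∧ s ≠ q ∧ r ≠ s ∧ r ≠ q ∧ s ≠ p ∧
        (∃ g : G, p * r ∣ (Subgroup.centralizer ({g} : Set G)).index) ∧ (∃ g : G, r * s ∣ (Subgroup.centralizer ({g} : Set G)).index) ∧ (∃ g : G, s * q ∣ (Subgroup.centralizer ({g} : Set G)).index)) := by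
  exact main hconn p q hp hq hpq

end Cfsg.Agent.S4257
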