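import Cfsg.Statements.S4261
import Cfsg.Agent.FGS80.Basic
import Cfsg.Agent.Lib.Fitting.Minimal

set_option autoImplicit false
open Cfsg

namespace Cfsg.Agent.S4261


/-- The core-free case. -/
lemma eq_bot_of_coreFree {G : Type*} [Group G] [Finite G] [Group.IsSolvable G] (M : Subgroup G)
    (hM : IsCoatom M) (hcore : M.normalCore = ⊥) (hexp : ∀ x : G, x ^ M.index ∈ M) : M = ⊥ := by
  by_contra hne
  have : Nontrivial G := by
    by_contra h
    rw [not_nontrivial_iff_subsingleton] at h
    exact hne (Subsingleton.elim _ _)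
  obtain ⟨A, hA⟩ := Fitting.exists_isMinNormal (G := G)
  obtain ⟨p, hp, hAe⟩ := hA.exists_isElementaryAbelian_of_isSolvable
  have : Fact p.Prime := ⟨hp⟩
  have hAn : A.Normal := hA.1
  have htop : M ⊔ A = ⊤ := by
    refine hM.2 _ (left_lt_sup.mpr fun h => hA.2.1 ?_)
    exact le_bot_iff.mp (hcore ▸ Subgroup.normal_le_normalCore.mpr h)
  obtain ⟨a, ha⟩ := IsPGroup.iff_card.mp (Fitting.isPGroup_of_isElementaryAbelian hAe)
  have hidx : M.index ∣ p ^ a := by
    rw [← ha, ← Subgroup.relIndex_top_right, ← htop, FGS80.relIndex_sup_of_normal]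
    exact Subgroup.relIndex_dvd_card _ _
  have hP : ∀ y : G, (orderOf y).Coprime p → y = 1 := by
    intro y hy
    have hmem : y ∈ M.normalCore := by
      intro g
      have hc : (orderOf (g * y * g⁻¹)).Coprime M.index := by
        rw [show g * y * g⁻¹ = MulAut.conj g y from rfl, MulEquiv.orderOf_eq]
        exact (hy.pow_right a).coprime_dvd_right hidx
      obtain ⟨j, hj⟩ := exists_pow_eq_self_of_coprime hc.symm
      exact hj ▸ pow_mem (hexp _) j
    rwa [hcore, Subgroup.mem_bot] at hmem
  have hG : IsPGroup p G := by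
    intro x
    refine ⟨(orderOf x).factorization p, hP _ ?_⟩
    rw [orderOf_pow' _ (pow_ne_zero _ hp.ne_zero),
      Nat.gcd_eq_right (Nat.ordProj_dvd (orderOf x) p)]
    exact (Nat.coprime_ordCompl hp (orderOf_pos x).ne').symm
  have := hG.isNilpotent
  have hn : M.Normal :=
    Subgroup.NormalizerCondition.normal_of_coatom M (Group.normalizerCondition_of_isNilpotent) hM
  rw [Subgroup.normalCore_eq_self] at hcore
  exact hne hcore

/-- Let M be a maximal subgroup of a finite solvable group G such that x^[G : M] lies in M for every x in G. Then M is normal in G. -/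
theorem result {G : Type*} [Group G] [Finite G] (hG : Group.IsSolvable G) (M : Subgroup G) (hM : IsCoatom M)
    (hexp : ∀ x : G, x ^ M.index ∈ M) : M.Normal := by
  have hle : M.normalCore ≤ M := Subgroup.normalCore_le M
  let f := QuotientGroup.mk' M.normalCore
  have hf : Function.Surjective f := QuotientGroup.mk'_surjective _
  have hker : f.ker ≤ M := (QuotientGroup.ker_mk' _).trans_le hle
  have hcm : (M.map f).comap f = M := by rw [Subgroup.comap_map_eq, sup_eq_left.mpr hker]
  have : Group.IsSolvable (G ⧸ M.normalCore) := solvable_of_surjective hf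
  have hM' : IsCoatom (M.map f) := by
    refine ⟨fun h => hM.1 ?_, fun N hN => ?_⟩
    · rw [← hcm, h, Subgroup.comap_top]
    · have hlt : M < N.comap f := by
        have := (Subgroup.comap_lt_comap_of_surjective hf).mpr hN
        rwa [hcm] at this
      rw [← Subgroup.map_comap_eq_self_of_surjective hf N, hM.2 _ hlt]
      exact Subgroup.map_top_of_surjective f hf
  have hidx : (M.map f).index = M.index := Subgroup.index_map_eq M hf hker
  have hbot := eq_bot_of_coreFree (M.map f) hM' ?_ ?_
  · have : M = M.normalCore := by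
      refine le_antisymm ?_ hle
      rw [← hcm, hbot, MonoidHom.comap_bot, QuotientGroup.ker_mk']
      simp [hcm]
    rw [this]
    infer_instance
  · refine eq_bot_iff.mpr ?_
    have h1 : (M.map f).normalCore.comap f ≤ M.normalCore :=
      Subgroup.normal_le_normalCore.mpr
        ((Subgroup.comap_mono (Subgroup.normalCore_le _)).trans_eq hcm)
    refine fun z hz => ?_
    obtain ⟨w, rfl⟩ := hf z
    exact Subgroup.mem_bot.mpr ((QuotientGroup.eq_one_iff w).mpr (h1 hz))
  · intro z
    obtain ⟨w, rfl⟩ := hf z
    rw [hidx, ← map_pow]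
    exact Subgroup.mem_map_of_mem f (hexp w)

end Cfsg.Agent.S4261
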