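import Cfsg.Statements.S4262
import Cfsg.Agent.FGS80.Kegel
import Cfsg.Agent.Lib.Fitting.Minimal

set_option autoImplicit false
open Cfsg

namespace Cfsg.Agent.S4262

section

variable {G : Type*} [Group G] [Finite G]

/-- A centraliser which is a maximal subgroup among centralisers of noncentral elements is
nilpotent. -/
lemma isNilpotent_centralizer
    (h : ∀ g : G, g ∉ Subgroup.center G → IsCoatom (Subgroup.centralizer ({g} : Set G)))
    {x : G} (hx : x ∉ Subgroup.center G) :
    Group.IsNilpotent (Subgroup.centralizer ({x} : Set G)) := by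
  classical
  -- some prime part of `x` is noncentral
  obtain ⟨p, hp, k, hk⟩ : ∃ p : ℕ, p.Prime ∧ ∃ k : ℕ,
      x ^ k ∉ Subgroup.center G ∧ ∃ e, orderOf (x ^ k) = p ^ e := by
    by_contra hall
    refine hx (Subgroup.zpowers_le.mp (Subgroup.subgroupOf_eq_top.mp
      (Subgroup.eq_top_of_card_eq _ (Nat.dvd_antisymm (Subgroup.card_subgroup_dvd_card _)
        ((Nat.dvd_iff_prime_pow_dvd_dvd _ _).mpr fun p e hp he => ?_)))))
    have : Fact p.Prime := ⟨hp⟩
    rw [Nat.card_zpowers] at he
    obtain ⟨m, hm⟩ := he
    have hm0 : m ≠ 0 := by rintro rfl; simp at hm; exact (orderOf_pos x).ne' (orderOf_eq_zero_iff.mpr (by simpa using hm))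
    have hord : orderOf (x ^ m) = p ^ e := by
      rw [orderOf_pow' _ hm0, Nat.gcd_eq_right (Dvd.intro_left _ hm.symm), hm,
        Nat.mul_div_cancel _ (Nat.pos_of_ne_zero hm0)]
    have hy : x ^ m ∈ Subgroup.center G := by
      by_contra hy
      exact hall ⟨p, hp, m, hy, e, hord⟩
    have h1 := Subgroup.orderOf_dvd_natCard
      ((Subgroup.center G).subgroupOf (Subgroup.zpowers x))
      (x := ⟨x ^ m, Subgroup.npow_mem_zpowers x m⟩) (Subgroup.mem_subgroupOf.mpr hy)
    rwa [Subgroup.orderOf_mk, hord] at h1
  obtain ⟨hyc, e, he⟩ := hk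
  have : Fact p.Prime := ⟨hp⟩
  set y := x ^ k with hy
  have hle : Subgroup.centralizer ({x} : Set G) ≤ Subgroup.centralizer ({y} : Set G) := by
    intro c hc
    refine Subgroup.mem_centralizer_singleton_iff.mpr ?_
    exact (Commute.pow_right (Subgroup.mem_centralizer_singleton_iff.mp hc : Commute c x) k).eq
  have heq : Subgroup.centralizer ({x} : Set G) = Subgroup.centralizer ({y} : Set G) :=
    le_antisymm hle ((h x hx).le_iff.mp hle |>.resolve_left (h y hyc).1 |>.le)
  rw [heq]
  set C := Subgroup.centralizer ({y} : Set G) with hC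
  have hcentral : ∀ z : C, (orderOf z).Coprime p → z ∈ Subgroup.center C := by
    intro z hz
    rw [Subgroup.mem_center_iff]
    intro c
    by_cases hzc : (z : G) ∈ Subgroup.center G
    · exact Subtype.ext (Subgroup.mem_center_iff.mp hzc c)
    have hyz : Commute y z := (Subgroup.mem_centralizer_singleton_iff.mp z.2 : Commute (z : G) y).symm
    have hcop : (orderOf y).Coprime (orderOf (z : G)) := by
      rw [he, Subgroup.orderOf_coe]
      exact (hz.symm).pow_left e
    have hpow : ∃ m, (y * z) ^ m = y := by
      obtain ⟨j, hj⟩ := exists_pow_eq_self_of_coprime hcop.symm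
      refine ⟨orderOf (z : G) * j, ?_⟩
      rw [pow_mul, hyz.mul_pow, pow_orderOf_eq_one, mul_one, hj]
    obtain ⟨m, hm⟩ := hpow
    have hnc : y * (z : G) ∉ Subgroup.center G := fun hc' => hyc (hm ▸ pow_mem hc' m)
    have hsub : Subgroup.centralizer ({y * (z : G)} : Set G) ≤ C := by
      intro c hc'
      refine Subgroup.mem_centralizer_singleton_iff.mpr ?_
      have := (Commute.pow_right (Subgroup.mem_centralizer_singleton_iff.mp hc' : Commute c _) m).eq
      rwa [hm] at this
    have heq' : C = Subgroup.centralizer ({y * (z : G)} : Set G) :=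
      ((h _ hnc).le_iff.mp hsub).resolve_left (h y hyc).1
    have hc' : Commute (c : G) (y * z) :=
      Subgroup.mem_centralizer_singleton_iff.mp (heq'.le c.2)
    have hcy : Commute (c : G) y := Subgroup.mem_centralizer_singleton_iff.mp c.2
    exact Subtype.ext (by simpa using (hcy.inv_right.mul_right hc').eq)
  have hq : IsPGroup p (C ⧸ Subgroup.center C) := by
    intro z
    obtain ⟨c, rfl⟩ := QuotientGroup.mk'_surjective _ z
    refine ⟨(orderOf c).factorization p, ?_⟩
    rw [← map_pow]
    refine (QuotientGroup.eq_one_iff _).mpr (hcentral _ ?_)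
    rw [orderOf_pow' _ (pow_ne_zero _ hp.ne_zero),
      Nat.gcd_eq_right (Nat.ordProj_dvd (orderOf c) p)]
    exact (Nat.coprime_ordCompl hp (orderOf_pos c).ne').symm
  exact Group.of_quotient_center_nilpotent hq.isNilpotent

/-- If `G` is not solvable, its solvable normal subgroups are central. -/
lemma le_center_of_isSolvable
    (h : ∀ g : G, g ∉ Subgroup.center G → IsCoatom (Subgroup.centralizer ({g} : Set G)))
    (hG : ¬ Group.IsSolvable G) (R : Subgroup G) [R.Normal] (hR : Group.IsSolvable R) :
    R ≤ Subgroup.center G := by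
  intro r hr
  rw [Subgroup.mem_center_iff]
  intro x
  by_cases hx : x ∈ Subgroup.center G
  · exact (Subgroup.mem_center_iff.mp hx r).symm
  by_contra hne
  have hle : ¬ R ≤ Subgroup.centralizer ({x} : Set G) := fun hle =>
    hne (Subgroup.mem_centralizer_singleton_iff.mp (hle hr)).symm
  have htop : Subgroup.centralizer ({x} : Set G) ⊔ R = ⊤ := (h x hx).2 _ (left_lt_sup.mpr hle)
  apply hG
  have := isNilpotent_centralizer h hx
  have hsurj : Function.Surjective
      ((QuotientGroup.mk' R).comp (Subgroup.centralizer ({x} : Set G)).subtype) := by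
    rw [← MonoidHom.range_eq_top, MonoidHom.range_comp, Subgroup.range_subtype]
    have h1 := congrArg (Subgroup.map (QuotientGroup.mk' R)) htop
    rwa [Subgroup.map_sup, QuotientGroup.map_mk'_self, sup_bot_eq,
      Subgroup.map_top_of_surjective _ (QuotientGroup.mk'_surjective R)] at h1
  exact (Group.isSolvable_iff_subgroup_quotient R).mpr
    ⟨hR, Group.isSolvable_of_surjective hsurj⟩

end

/-- Let G be a finite group in which the centralizer of every non-central element is a maximal subgroup of G. Then G is solvable. -/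
theorem result {G : Type*} [Group G] [Finite G]
    (h : ∀ g : G, g ∉ Subgroup.center G → IsCoatom (Subgroup.centralizer ({g} : Set G))) :
    Group.IsSolvable G := by
  classical
  by_contra hG
  have hcomm : Group.IsSolvable (Subgroup.center G) := Group.isSolvable_of_comm fun a b =>
    Subtype.ext ((Subgroup.mem_center_iff.mp b.2) a)
  set π := QuotientGroup.mk' (Subgroup.center G) with hπ
  have hπs : Function.Surjective π := QuotientGroup.mk'_surjective _
  -- `G/Z(G)` has no nontrivial solvable normal subgroup
  have hrad : ∀ R : Subgroup (G ⧸ Subgroup.center G), R.Normal → Group.IsSolvable R → R = ⊥ := by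
    intro R hRn hR
    have : (R.comap π).Normal := hRn.comap π
    have hsol : Group.IsSolvable (R.comap π) := by
      have hker : (π.subgroupComap R).ker ≤
          (Subgroup.inclusion (show Subgroup.center G ≤ R.comap π from fun z hz => by
            rw [Subgroup.mem_comap, hπ, QuotientGroup.mk'_apply,
              (QuotientGroup.eq_one_iff z).mpr hz]
            exact R.one_mem)).range := fun y hy =>
        ⟨⟨y, (QuotientGroup.eq_one_iff (y : G)).mp (congrArg Subtype.val hy)⟩, rfl⟩
      exact Group.isSolvable_of_ker_le_range _ _ hker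
    have hle := le_center_of_isSolvable h hG _ hsol
    rw [← Subgroup.map_comap_eq_self_of_surjective hπs R, Subgroup.map_eq_bot_iff,
      QuotientGroup.ker_mk']
    exact hle
  have hne : Nontrivial (G ⧸ Subgroup.center G) := by
    by_contra hs
    rw [not_nontrivial_iff_subsingleton] at hs
    apply hG
    exact (Group.isSolvable_iff_subgroup_quotient (Subgroup.center G)).mpr
      ⟨hcomm, Group.isSolvable_of_comm fun a b => Subsingleton.elim _ _⟩
  obtain ⟨M, hM⟩ := Fitting.exists_isMinNormal (G := G ⧸ Subgroup.center G)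
  have hMn : M.Normal := hM.1
  -- every odd prime misses `M`
  have key : ∀ q : ℕ, q.Prime → q ≠ 2 → ¬ q ∣ Nat.card M := by
    intro q hq hq2 hqM
    have : Fact q.Prime := ⟨hq⟩
    obtain ⟨xb, hxb⟩ := exists_prime_orderOf_dvd_card' (G := G ⧸ Subgroup.center G) q
      (hqM.trans (Subgroup.card_subgroup_dvd_card M))
    obtain ⟨x, rfl⟩ := hπs xb
    have hxne : π x ≠ 1 := fun h1 => by
      rw [h1, orderOf_one] at hxb
      exact hq.ne_one hxb.symm
    have hx : x ∉ Subgroup.center G := fun hc => hxne ((QuotientGroup.eq_one_iff x).mpr hc)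
    have hZC : Subgroup.center G ≤ Subgroup.centralizer ({x} : Set G) :=
      Subgroup.center_le_centralizer _
    set C := (Subgroup.centralizer ({x} : Set G)).map π with hC
    have hCn : Group.IsNilpotent C := Fitting.isNilpotent_map π (isNilpotent_centralizer h hx)
    have hCmax : IsCoatom C := by
      have hcm : C.comap π = Subgroup.centralizer ({x} : Set G) := by
        rw [hC, Subgroup.comap_map_eq, QuotientGroup.ker_mk', sup_eq_left.mpr hZC]
      refine ⟨fun htop => (h x hx).1 (by rw [← hcm, htop, Subgroup.comap_top]), fun N hN => ?_⟩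
      have hlt := (Subgroup.comap_lt_comap_of_surjective hπs).mpr hN
      rw [hcm] at hlt
      rw [← Subgroup.map_comap_eq_self_of_surjective hπs N, (h x hx).2 _ hlt,
        Subgroup.map_top_of_surjective π hπs]
    have hCnot : ∀ N : Subgroup (G ⧸ Subgroup.center G), N ≤ C → N ≠ ⊥ →
        C ≤ Subgroup.normalizer (N : Set (G ⧸ Subgroup.center G)) →
        Subgroup.normalizer (N : Set (G ⧸ Subgroup.center G)) = C := by
      intro N hNC hN hle
      refine ((hCmax.le_iff).mp hle).resolve_left fun htop => hN ?_
      refine hrad N (Subgroup.normalizer_eq_top_iff.mp htop) ?_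
      have := Fitting.isNilpotent_of_le hCn hNC
      infer_instance
    obtain ⟨S⟩ : Nonempty (Sylow q C) := inferInstance
    set Q := (S : Subgroup C).map C.subtype with hQ
    have hQC : Q ≤ C := Subgroup.map_subtype_le _
    have hqC : q ∣ Nat.card C := by
      rw [← hxb]
      exact Subgroup.orderOf_dvd_natCard C
        (Subgroup.mem_map_of_mem π (Subgroup.mem_centralizer_singleton_iff.mpr rfl))
    have hQb : Q ≠ ⊥ := by
      rw [hQ, Ne, Subgroup.map_eq_bot_iff_of_injective _ C.subtype_injective]
      exact S.ne_bot_of_dvd_card hqC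
    have hSn : (S : Subgroup C).Normal :=
      ((Group.isNilpotent_of_finite_tfae (G := C)).out 0 3 :
        Group.IsNilpotent C ↔ ∀ (p : ℕ) (_ : Fact p.Prime) (P : Sylow p C),
          (P : Subgroup C).Normal).mp hCn q inferInstance S
    have hCQ : C ≤ Subgroup.normalizer (Q : Set (G ⧸ Subgroup.center G)) := by
      have := Subgroup.le_normalizer_map (H := (S : Subgroup C)) C.subtype
      rwa [Subgroup.normalizer_eq_top_iff.mpr hSn, ← MonoidHom.range_eq_map,
        Subgroup.range_subtype] at this
    have hNQ := hCnot Q hQC hQb hCQ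
    obtain ⟨P, hP⟩ := (S.isPGroup'.map C.subtype).exists_le_sylow
    have hPQ : (P : Subgroup (G ⧸ Subgroup.center G)) = Q := by
      refine le_antisymm ?_ hP
      have hnil := P.isPGroup'.isNilpotent
      by_contra hlt
      have hlt' : Q.subgroupOf P < ⊤ := lt_top_iff_ne_top.mpr fun h1 =>
        hlt (Subgroup.subgroupOf_eq_top.mp h1)
      obtain ⟨y, hyN, hyQ⟩ := SetLike.exists_of_lt
        ((Group.normalizerCondition_of_isNilpotent (h := hnil)) _ hlt')
      refine hyQ (Subgroup.mem_subgroupOf.mpr ?_)
      have hyC : (y : G ⧸ Subgroup.center G) ∈ C := by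
        rw [← hNQ]
        have h2 := Subgroup.le_normalizer_map (H := Q.subgroupOf P)
          (P : Subgroup (G ⧸ Subgroup.center G)).subtype ⟨y, hyN, rfl⟩
        rwa [Subgroup.map_subgroupOf_eq_of_le hP] at h2
      have h3 := S.3 (P.isPGroup'.comap_subtype (K := C)) (fun c hc => hP ⟨c, hc, rfl⟩)
      exact ⟨⟨_, hyC⟩, h3.le (show (⟨_, hyC⟩ : C) ∈
        (P : Subgroup (G ⧸ Subgroup.center G)).subgroupOf C from y.2), rfl⟩
    have hN1 : Cfsg.HasNormalPComplement q (Subgroup.normalizer (Cfsg.thompsonSubgroupOf q
        (P : Subgroup (G ⧸ Subgroup.center G)) : Set (G ⧸ Subgroup.center G))) := by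
      rw [hCnot _ (((Thompson.thompsonSubgroupOf_le _).trans hPQ.le).trans hQC)
        (PComplement.thompsonSubgroupOf_ne_bot P.isPGroup' (hPQ ▸ hQb))
        (hCQ.trans (hPQ ▸ Thompson.normalizer_le_normalizer_thompsonSubgroupOf Q))]
      exact FGS80.Kegel.hasNormalPComplement_of_isNilpotent hCn
    have hN2 : Cfsg.HasNormalPComplement q (Subgroup.centralizer
        (((P : Subgroup (G ⧸ Subgroup.center G)) ⊓ Subgroup.centralizer
          ((P : Subgroup (G ⧸ Subgroup.center G)) : Set (G ⧸ Subgroup.center G)) :
            Subgroup (G ⧸ Subgroup.center G)) : Set (G ⧸ Subgroup.center G))) := by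
      refine FGS80.Kegel.hasNormalPComplement_of_isNilpotent (Fitting.isNilpotent_of_le hCn ?_)
      rw [hPQ]
      have hb : Q ⊓ Subgroup.centralizer (Q : Set (G ⧸ Subgroup.center G)) ≠ ⊥ := by
        have : Nontrivial Q := (Subgroup.nontrivial_iff_ne_bot _).mpr hQb
        have := (S.isPGroup'.map C.subtype).center_nontrivial
        obtain ⟨z, hz⟩ := exists_ne (1 : Subgroup.center Q)
        intro hbot
        have hmem : ((z : Q) : G ⧸ Subgroup.center G) ∈
            Q ⊓ Subgroup.centralizer (Q : Set (G ⧸ Subgroup.center G)) :=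
          ⟨(z : Q).2, Subgroup.mem_centralizer_iff.mpr
            fun y hy => congrArg Subtype.val (Subgroup.mem_center_iff.mp z.2 ⟨y, hy⟩)⟩
        rw [hbot, Subgroup.mem_bot] at hmem
        exact hz (Subtype.ext (Subtype.ext hmem))
      refine (Subgroup.centralizer_le_normalizer _).trans ?_
      exact (hCnot _ (inf_le_left.trans hQC) hb
        (Coprime.le_normalizer_inf hCQ (Coprime.le_normalizer_centralizer hCQ))).le
    have hnd := Transfer.hasNormalPComplement_iff_not_dvd.mp
      (PComplement.thompson_normal_p_complement hq2 P hN1 hN2)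
    set K := Cfsg.pResidual q (G ⧸ Subgroup.center G) with hK
    rcases hM.le_or_inf_eq_bot K with hle | hdis
    · exact hnd (hqM.trans (Subgroup.card_dvd_of_le hle))
    · have hinj : Function.Injective ((QuotientGroup.mk' K).comp M.subtype) := by
        rw [← MonoidHom.ker_eq_bot_iff, eq_bot_iff]
        intro m hm
        have h1 : (m : G ⧸ Subgroup.center G) ∈ M ⊓ K :=
          ⟨m.2, (QuotientGroup.eq_one_iff _).mp hm⟩
        rw [hdis, Subgroup.mem_bot] at h1
        exact Subgroup.mem_bot.mpr (Subtype.ext h1)
      have := ((Transfer.isPGroup_quotient_pResidual (G := G ⧸ Subgroup.center G) (p := q)).of_injective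
        _ hinj).isNilpotent
      exact hM.2.1 (hrad M hMn inferInstance)
  have : Fact (Nat.Prime 2) := ⟨Nat.prime_two⟩
  have hM2 : IsPGroup 2 M := IsPGroup.of_card (Nat.eq_prime_pow_of_unique_prime_dvd
    Nat.card_pos.ne' fun {d} hd hdd => by_contra fun hne => key d hd hne hdd)
  have := hM2.isNilpotent
  exact hM.2.1 (hrad M hMn inferInstance)

end Cfsg.Agent.S4262
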