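import Cfsg.Statements.S4263
import Cfsg.Agent.FGS80.Basic
import Cfsg.Agent.Lib.Fitting
import Cfsg.Agent.Lib.Thompson.Cores

set_option autoImplicit false
open Cfsg

namespace Cfsg.Agent.S4263


/-- In a finite nilpotent group every element raised to the index of a subgroup lies in it. -/
lemma pow_index_mem {N : Type*} [Group N] [Finite N] (hN : Group.IsNilpotent N) (K : Subgroup N)
    (x : N) : x ^ K.index ∈ K := by
  induction K using WellFoundedGT.induction generalizing x with
  | _ K ih =>
    rcases eq_or_ne K ⊤ with rfl | hK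
    · simp
    · have hlt : K < Subgroup.normalizer (K : Set N) :=
        (Group.normalizerCondition_of_isNilpotent (h := hN)) K (lt_top_iff_ne_top.mpr hK)
      rw [← Subgroup.relIndex_mul_index hlt.le, mul_comm, pow_mul]
      have := Subgroup.pow_index_mem (H := K.subgroupOf (Subgroup.normalizer (K : Set N)))
        (⟨_, ih _ hlt x⟩ : Subgroup.normalizer (K : Set N))
      exact this

/-- Let G be a finite group. An element x lies in the Fitting subgroup F(G) if and only if, for every subgroup H of G, the power x^[G : H] lies in H. -/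
theorem result {G : Type*} [Group G] [Finite G] (x : G) :
    x ∈ Cfsg.fittingSubgroup G ↔ ∀ H : Subgroup G, x ^ H.index ∈ H := by
  constructor
  · intro hx H
    have hn : Group.IsNilpotent (Cfsg.fittingSubgroup G) := Fitting.fitting_isNilpotent
    have h1 := pow_index_mem hn (H.subgroupOf (Cfsg.fittingSubgroup G)) ⟨x, hx⟩
    obtain ⟨k, hk⟩ := FGS80.relIndex_dvd_index H (Cfsg.fittingSubgroup G)
    rw [hk, pow_mul]
    exact pow_mem (Subgroup.mem_subgroupOf.mp h1) k
  · intro h
    refine (Subgroup.zpowers_le (H := Cfsg.fittingSubgroup G)).mp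
      (Subgroup.subgroupOf_eq_top.mp (Subgroup.eq_top_of_card_eq _ ?_))
    refine Nat.dvd_antisymm (Subgroup.card_subgroup_dvd_card _)
      ((Nat.dvd_iff_prime_pow_dvd_dvd _ _).mpr fun p k hp hk => ?_)
    have : Fact p.Prime := ⟨hp⟩
    rw [Nat.card_zpowers] at hk
    obtain ⟨m, hm⟩ := hk
    have hord : orderOf (x ^ m) = p ^ k := by
      have hx0 : orderOf x ≠ 0 := (orderOf_pos x).ne'
      have hm0 : m ≠ 0 := by rintro rfl; simp at hm; exact hx0 (orderOf_eq_zero_iff.mpr (by simpa using hm))
      rw [orderOf_pow' _ hm0, Nat.gcd_eq_right (Dvd.intro_left _ hm.symm), hm,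
        Nat.mul_div_cancel _ (Nat.pos_of_ne_zero hm0)]
    have hy : x ^ m ∈ Cfsg.fittingSubgroup G := by
      refine Fitting.pCore_le_fitting p ?_
      rw [Thompson.pCore_eq_iInf_sylow]
      refine Subgroup.mem_iInf.mpr fun P => ?_
      have hP : (x ^ m) ^ (P : Subgroup G).index ∈ (P : Subgroup G) := by
        rw [← pow_mul, mul_comm, pow_mul]
        exact pow_mem (h _) m
      have hco : Nat.Coprime (P : Subgroup G).index (orderOf (x ^ m)) := by
        rw [hord]
        exact (Nat.Coprime.pow_left k ((hp.coprime_iff_not_dvd).mpr P.not_dvd_index)).symm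
      obtain ⟨j, hj⟩ := exists_pow_eq_self_of_coprime hco
      exact hj ▸ pow_mem hP j
    rw [← hord]
    refine (dvd_of_eq (Subgroup.orderOf_coe (⟨x ^ m, Subgroup.npow_mem_zpowers x m⟩ : Subgroup.zpowers x))).trans ?_
    exact (Subgroup.orderOf_dvd_natCard _ (x := (⟨x ^ m, Subgroup.npow_mem_zpowers x m⟩ : Subgroup.zpowers x)) (Subgroup.mem_subgroupOf.mpr hy))

end Cfsg.Agent.S4263
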