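import Cfsg.Statements.S4264
import Mathlib
import Cfsg.Agent.ClassBound.Step

set_option autoImplicit false
open Cfsg

namespace Cfsg.Agent.S4264

open Cfsg.Agent.ClassBound

lemma bound_mono (π : Finset ℕ) (c c' : ℝ) (h0 : 0 ≤ c) (h : c ≤ c') (hB : Bound π c) : Bound π c' :=
  fun G _ _ X _ φ hk => (hB G X φ hk).trans (pow_le_pow_left₀ h0 h _)

lemma bound_two : Bound {2} 2 := by
  have h := bound_step ∅ 2 Nat.prime_two (by simp) 1 2 zero_le_one bound_empty ?_
  · simpa using h
  intro X _ P hP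
  have h2 := (pgroup_bound 2 Nat.prime_two 1 1 le_rfl zero_le_one (by
    intro m n _ hn
    simp only [Nat.add_one_sub_one, pow_one] at hn
    have : (n : ℝ) ≤ 2 ^ (2 * (m - 1)) := by exact_mod_cast hn
    simpa [show (1:ℝ) + 1 = 2 by norm_num] using this) _ P rfl hP).2
  refine h2.trans ?_
  rw [one_pow, one_mul, show (1:ℝ) + 1 = 2 by norm_num]
  exact pow_le_pow_right₀ one_le_two (Nat.sub_le _ _)

lemma le_three_pow : ∀ p : ℕ, 3 ≤ p → p ≤ 3 ^ (p - 2) := by
  intro p hp
  induction p, hp using Nat.le_induction with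
  | base => norm_num
  | succ n hn ih =>
    rw [show n + 1 - 2 = (n - 2) + 1 by omega, pow_succ]
    omega

lemma bound_odd (S : Finset ℕ) (hS : ∀ p ∈ S, p.Prime ∧ p ≠ 2) :
    Bound (insert 2 S) (3 * ∏ p ∈ S, (1 + (1/3 : ℝ) ^ (p - 1))) := by
  induction S using Finset.induction_on with
  | empty =>
    simp only [Finset.prod_empty, mul_one, Finset.insert_empty]
    exact bound_mono _ 2 3 (by norm_num) (by norm_num) bound_two
  | @insert q S hqS ih =>
    obtain ⟨hq, hq2⟩ := hS q (Finset.mem_insert_self _ _)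
    have ih' := ih (fun p hp => hS p (Finset.mem_insert_of_mem hp))
    set c : ℝ := 3 * ∏ p ∈ S, (1 + (1/3 : ℝ) ^ (p - 1)) with hcdef
    have hprod : (1:ℝ) ≤ ∏ p ∈ S, (1 + (1/3 : ℝ) ^ (p - 1)) :=
      Finset.one_le_prod (fun p _ => le_add_of_nonneg_right (by positivity))
    have hc3 : 3 ≤ c := by rw [hcdef]; linarith
    have hc0 : 0 < c := by linarith
    have hq3 : 3 ≤ q := by have := hq.two_le; omega
    rw [Finset.insert_comm, Finset.prod_insert hqS]
    refine bound_step _ q hq (by simp [hqS, hq2]) c _ hc0.le ih' ?_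
    intro X _ P hP
    have hx0 : 0 ≤ (1 / c) ^ (q - 1) := by positivity
    have key := (pgroup_bound q hq c ((1 / c) ^ (q - 1)) (by linarith) hx0 (by
      intro m n hm hn
      have hpp : ((q : ℝ)) ^ q ≤ c ^ ((q - 1) * (q - 1)) := by
        calc ((q : ℝ)) ^ q ≤ ((3 : ℝ) ^ (q - 2)) ^ q :=
              pow_le_pow_left₀ (by positivity) (by exact_mod_cast le_three_pow q hq3) _
          _ = (3 : ℝ) ^ ((q - 2) * q) := (pow_mul _ _ _).symm
          _ ≤ (3 : ℝ) ^ ((q - 1) * (q - 1)) := by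
              refine pow_le_pow_right₀ (by norm_num) ?_
              obtain ⟨r, rfl⟩ : ∃ r, q = r + 2 := ⟨q - 2, by omega⟩
              simp only [Nat.add_sub_cancel, show r + 2 - 1 = r + 1 by omega]
              nlinarith
          _ ≤ _ := pow_le_pow_left₀ (by norm_num) hc3 _
      have hn' : (n : ℝ) ≤ c ^ ((q - 1) * (m - 1)) := by
        refine (pow_le_pow_iff_left₀ (by positivity) (by positivity)
          (show q - 1 ≠ 0 by omega)).1 ?_
        calc (n : ℝ) ^ (q - 1) ≤ ((q : ℝ)) ^ (q * (m - 1)) := by exact_mod_cast hn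
          _ = (((q : ℝ)) ^ q) ^ (m - 1) := pow_mul _ _ _
          _ ≤ (c ^ ((q - 1) * (q - 1))) ^ (m - 1) := pow_le_pow_left₀ (by positivity) hpp _
          _ = (c ^ ((q - 1) * (m - 1))) ^ (q - 1) := by
              rw [← pow_mul, ← pow_mul]; congr 1; ring
      have hexp : q * m = (q - 1) * (m - 1) + m + (q - 1) := by
        obtain ⟨r, rfl⟩ : ∃ r, q = r + 1 := ⟨q - 1, by omega⟩
        obtain ⟨s, rfl⟩ : ∃ s, m = s + 1 := ⟨m - 1, by omega⟩
        simp only [Nat.add_sub_cancel]; ring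
      have h1 : c ^ (q * m) * (1 / c) ^ (q - 1) = c ^ ((q - 1) * (m - 1)) * c ^ m := by
        rw [hexp, pow_add, pow_add, one_div, inv_pow, mul_assoc (c ^ ((q - 1) * (m - 1)) * c ^ m),
          mul_inv_cancel₀ (pow_ne_zero _ hc0.ne'), mul_one]
      calc (n : ℝ) * c ^ m ≤ c ^ ((q - 1) * (m - 1)) * c ^ m :=
            mul_le_mul_of_nonneg_right hn' (by positivity)
        _ = c ^ (q * m) * 1 * (1 / c) ^ (q - 1) := by rw [mul_one, h1]
        _ ≤ _ := by
            gcongr
            exact one_le_pow₀ (le_add_of_nonneg_right hx0)) _ P rfl hP).2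
    refine key.trans ?_
    calc c ^ Nat.card X * (1 + (1 / c) ^ (q - 1)) ^ (Nat.card X - norb P X)
        ≤ c ^ Nat.card X * (1 + (1 / 3) ^ (q - 1)) ^ Nat.card X := by
          refine mul_le_mul_of_nonneg_left ?_ (by positivity)
          refine (pow_le_pow_left₀ (by positivity) ?_ _).trans
            (pow_le_pow_right₀ (le_add_of_nonneg_right (by positivity)) (Nat.sub_le _ _))
          gcongr
      _ = _ := by rw [hcdef, ← mul_pow]; congr 1; ring

lemma prod_le (S : Finset ℕ) (hS : ∀ p ∈ S, 3 ≤ p) :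
    ∏ p ∈ S, (1 + (1/3 : ℝ) ^ (p - 1)) ≤ 6/5 := by
  have hsum : ∑ p ∈ S, (1/3 : ℝ) ^ (p - 1) ≤ 1/6 := by
    obtain ⟨n, hn⟩ : ∃ n, ∀ p ∈ S, p < n :=
      ⟨S.sup id + 1, fun p hp => Nat.lt_succ_of_le (Finset.le_sup (f := id) hp)⟩
    have h1 : S ⊆ (Finset.range n).image (fun i => i + 3) := fun p hp =>
      Finset.mem_image.2 ⟨p - 3, Finset.mem_range.2 (by have := hn p hp; omega),
        by have := hS p hp; omega⟩
    refine (Finset.sum_le_sum_of_subset_of_nonneg h1 (fun i _ _ => by positivity)).trans ?_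
    rw [Finset.sum_image (fun a _ b _ h => by simpa using h)]
    have h2 : ∀ i : ℕ, (1/3 : ℝ) ^ (i + 3 - 1) = 1/9 * (1/3) ^ i := fun i => by
      rw [show i + 3 - 1 = i + 2 by omega, pow_add]; ring
    simp only [h2, ← Finset.mul_sum]
    rw [geom_sum_eq (by norm_num)]
    have : (0:ℝ) ≤ (1/3) ^ n := by positivity
    have h3 : ∀ t : ℝ, 1 / 9 * ((t - 1) / (1 / 3 - 1)) = 1/6 * (1 - t) := fun t => by ring
    rw [h3]; linarith
  refine le_trans ?_ (show Real.exp (1/6) ≤ 6/5 by
    have := Real.exp_bound_div_one_sub_of_interval (x := 1/6) (by norm_num) (by norm_num)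
    linarith [show (1:ℝ) / (1 - 1/6) = 6/5 by norm_num])
  refine le_trans ?_ (Real.exp_le_exp.2 hsum)
  rw [Real.exp_sum]
  exact Finset.prod_le_prod (fun p _ => by positivity) (fun p _ => by
    have := Real.add_one_le_exp ((1/3 : ℝ) ^ (p - 1)); linarith)

theorem k_le (d : ℕ) (G : Subgroup (Equiv.Perm (Fin d))) :
    (Nat.card (ConjClasses G) : ℝ) ≤ (18/5 : ℝ) ^ d := by
  classical
  let S := (Nat.card G).primeFactors.erase 2
  have hS : ∀ p ∈ S, p.Prime ∧ p ≠ 2 := fun p hp =>
    ⟨Nat.prime_of_mem_primeFactors (Finset.mem_of_mem_erase hp), Finset.ne_of_mem_erase hp⟩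
  have hb := bound_odd S hS G (Fin d) G.subtype (by
    intro q _ hq hdvd
    rw [Subgroup.ker_subtype, Subgroup.card_bot] at hdvd
    exact hq.ne_one (Nat.dvd_one.1 hdvd))
  have hall : piClasses G (insert 2 S) = Set.univ := by
    refine Set.eq_univ_of_forall fun c => ?_
    obtain ⟨g, rfl⟩ := ConjClasses.mk_surjective c
    refine ⟨g, fun q hq hqd => ?_, rfl⟩
    have : q ∈ (Nat.card G).primeFactors :=
      Nat.mem_primeFactors.2 ⟨hq, hqd.trans (orderOf_dvd_natCard g), Nat.card_pos.ne'⟩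
    by_cases h : q = 2
    · exact h ▸ Finset.mem_insert_self _ _
    · exact Finset.mem_insert_of_mem (Finset.mem_erase.2 ⟨h, this⟩)
  rw [hall, Set.ncard_univ, Nat.card_fin] at hb
  refine hb.trans (pow_le_pow_left₀ ?_ ?_ _)
  · exact mul_nonneg (by norm_num) (Finset.prod_nonneg fun p _ => by positivity)
  · have := prod_le S (fun p hp => by
      have := (hS p hp).1.two_le; have := (hS p hp).2; omega)
    linarith

lemma numeric : ∀ d : ℕ, 10 ≤ d → (18/5 : ℝ) ^ d ≤ 5 ^ (d - 1) := by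
  intro d hd
  induction d, hd using Nat.le_induction with
  | base => norm_num
  | succ n hn ih =>
    rw [show n + 1 - 1 = (n - 1) + 1 by omega, pow_succ, pow_succ]
    exact mul_le_mul ih (by norm_num) (by norm_num) (by positivity)

/-- Let G be a subgroup of the symmetric group of degree d ≥ 1. Then G has at most 5^{d−1} conjugacy classes. -/
theorem result (d : ℕ) (hd : 1 ≤ d) (G : Subgroup (Equiv.Perm (Fin d))) : Nat.card (ConjClasses ↥G) ≤ 5 ^ (d - 1) := by
  by_cases h10 : 10 ≤ d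
  · have h := (k_le d G).trans (numeric d h10)
    exact_mod_cast h
  · have h1 : Nat.card (ConjClasses ↥G) ≤ Nat.factorial d := by
      refine (Nat.card_le_card_of_surjective _ ConjClasses.mk_surjective).trans ?_
      refine (Subgroup.card_le_card_group G).trans ?_
      rw [Nat.card_eq_fintype_card, Fintype.card_perm, Fintype.card_fin]
    refine h1.trans ?_
    interval_cases d <;> decide

end Cfsg.Agent.S4264
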