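import Cfsg.Statements.S4266
import Cfsg.Agent.K94.Main

set_option autoImplicit false
open Cfsg

namespace Cfsg.Agent.S4266

/-- Let p be a prime and G a finite solvable group whose order is divisible by p². Then G has at least 49p/60 conjugacy classes. -/
theorem result {G : Type*} [Group G] [Finite G] (hsolv : Group.IsSolvable G) (p : ℕ) [Fact p.Prime] (hp : p ^ 2 ∣ Nat.card G) : 49 * p ≤ 60 * Nat.card (ConjClasses G) := by
  let e : Shrink.{0} G ≃* G := Shrink.mulEquiv
  haveI : Finite (Shrink.{0} G) := Finite.of_equiv G e.symm.toEquiv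
  haveI := hsolv
  have hsol : Group.IsSolvable (Shrink.{0} G) :=
    Group.isSolvable_of_surjective (f := e.symm.toMonoidHom) e.symm.surjective
  have hk := Cfsg.Agent.K94.bound_aux (p := p) (Nat.card (Shrink.{0} G)) (Shrink.{0} G) le_rfl hsol
    (by rwa [Nat.card_congr e.toEquiv])
  exact hk.trans (Nat.mul_le_mul_left _ (Nat.card_le_card_of_surjective _
    (ConjClasses.map_surjective (f := e.symm.toMonoidHom) e.symm.surjective)))

end Cfsg.Agent.S4266
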