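import Cfsg.Statements.S4269
import Cfsg.Agent.Lib.Solvable.Conj
import Mathlib.GroupTheory.Commutator.Basic

set_option autoImplicit false
open Cfsg

namespace Cfsg.Agent.S4269

open Subgroup
open scoped Pointwise commutatorElement

theorem pronormal_iff {G : Type*} [Group G]
    (V : Subgroup G) [V.Normal] (hV : IsMulCommutative ↥V) (H : Subgroup G) (hHV : H ⊔ V = ⊤) :
    Cfsg.IsPronormal H ↔
      ∀ U : Subgroup G, U ≤ V → (∀ h ∈ H, U.map (MulAut.conj h).toMonoidHom = U) →
        U = (U ⊓ Subgroup.normalizer (H : Set G)) ⊔ ⁅H, U⁆ := by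
  have hcommV : ∀ a ∈ V, ∀ b ∈ V, a * b = b * a := fun a ha b hb =>
    congrArg Subtype.val (hV.1.1 ⟨a, ha⟩ ⟨b, hb⟩)
  have hconjU : ∀ U : Subgroup G, (∀ h ∈ H, U.map (MulAut.conj h).toMonoidHom = U) →
      ∀ h ∈ H, ∀ u ∈ U, h * u * h⁻¹ ∈ U := fun U hU h hh u hu => by
    rw [← hU h hh]; exact ⟨u, hu, rfl⟩
  have mem_norm : ∀ w : G, H.map (MulAut.conj w).toMonoidHom = H →
      w ∈ Subgroup.normalizer (H : Set G) := fun w hw => by
    rw [mem_normalizer_iff'']
    intro y
    rw [← Cfsg.Agent.Solvable.mem_conj_smul]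
    exact (SetLike.ext_iff.1 hw y).symm
  have map_mul : ∀ a b : G, H.map (MulAut.conj (a * b)).toMonoidHom =
      (H.map (MulAut.conj b).toMonoidHom).map (MulAut.conj a).toMonoidHom := fun a b =>
    Cfsg.Agent.Solvable.conj_smul_mul a b H
  have map_self : ∀ w ∈ Subgroup.normalizer (H : Set G),
      H.map (MulAut.conj w).toMonoidHom = H := fun w hw => by
    ext y
    refine Iff.trans ?_ (mem_normalizer_iff''.1 hw y).symm
    exact Cfsg.Agent.Solvable.mem_conj_smul
  constructor
  · intro hpro U hUV hU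
    have hcle : ⁅H, U⁆ ≤ U := commutator_le.2 fun h hh u hu => by
      rw [commutatorElement_def]
      exact mul_mem (hconjU U hU h hh u hu) (inv_mem hu)
    refine le_antisymm (fun u hu => ?_) (sup_le inf_le_left hcle)
    obtain ⟨x, hx, he⟩ := hpro u
    have hle : H ⊔ H.map (MulAut.conj u).toMonoidHom ≤ ⁅H, U⁆ ⊔ H := by
      refine sup_le le_sup_right ?_
      rintro _ ⟨h, hh, rfl⟩
      have : (MulAut.conj u).toMonoidHom h = ⁅h, u⁆⁻¹ * h := by
        simp [commutatorElement_def, mul_assoc]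
      rw [this]
      exact mul_mem (mem_sup_left (inv_mem (commutator_mem_commutator hh hu))) (mem_sup_right hh)
    have hnorm : H ≤ Subgroup.normalizer ((⁅H, U⁆ : Subgroup G) : Set G) := by
      have hNU : H ≤ Subgroup.normalizer (U : Set G) := fun k hk => by
        rw [mem_normalizer_iff]
        refine fun n => ⟨hconjU U hU k hk n, fun h' => ?_⟩
        simpa [mul_assoc] using hconjU U hU k⁻¹ (inv_mem hk) _ h'
      intro k hk
      rw [mem_normalizer_iff]
      have key : ∀ k ∈ H, ∀ n ∈ (⁅H, U⁆ : Subgroup G), k * n * k⁻¹ ∈ (⁅H, U⁆ : Subgroup G) := by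
        intro k hk n hn
        suffices hh : (⁅H, U⁆ : Subgroup G).map (MulAut.conj k).toMonoidHom ≤ ⁅H, U⁆ from
          hh ⟨n, hn, rfl⟩
        rw [map_commutator]
        refine commutator_mono ?_ (hU k hk).le
        exact (map_self k (le_normalizer hk)).le
      refine fun n => ⟨key k hk n, fun h' => ?_⟩
      simpa [mul_assoc] using key k⁻¹ (inv_mem hk) _ h'
    have hxm := hle hx
    rw [← SetLike.mem_coe, coe_mul_of_right_le_normalizer_left _ _ hnorm] at hxm
    obtain ⟨c, hc, h, hh, rfl⟩ := hxm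
    rw [map_mul, map_self h (le_normalizer hh)] at he
    have hw : c⁻¹ * u ∈ Subgroup.normalizer (H : Set G) := by
      refine mem_norm _ ?_
      rw [map_mul, he, ← map_mul, inv_mul_cancel]
      exact map_self 1 (one_mem _)
    have : u = c * (c⁻¹ * u) := by group
    rw [this]
    exact mul_mem (mem_sup_right hc) (mem_sup_left ⟨U.mul_mem (U.inv_mem (hcle hc)) hu, hw⟩)
  · intro hcrit g
    have hg : g ∈ V ⊔ H := by rw [sup_comm, hHV]; exact mem_top g
    obtain ⟨v, hv, h, hh, rfl⟩ := mem_sup_of_normal_left.1 hg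
    rw [map_mul, map_self h (le_normalizer hh)]
    set J := H ⊔ H.map (MulAut.conj v).toMonoidHom
    -- the elements `u` of `V` with `[H, u] ⊆ J`
    let U : Subgroup G :=
      { carrier := {u | u ∈ V ∧ ∀ k ∈ H, ⁅k, u⁆ ∈ J}
        one_mem' := ⟨V.one_mem, fun k _ => by rw [commutatorElement_one_right]; exact one_mem J⟩
        mul_mem' := fun {a b} ha hb => ⟨V.mul_mem ha.1 hb.1, fun k hk => by
          have h1 : ⁅k, b⁆ ∈ V := by
            rw [commutatorElement_def]
            exact V.mul_mem (Normal.conj_mem inferInstance b hb.1 k) (V.inv_mem hb.1)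
          have : ⁅k, a * b⁆ = ⁅k, a⁆ * (a * ⁅k, b⁆ * a⁻¹) := by
            simp only [commutatorElement_def]; group
          rw [this, hcommV a ha.1 _ h1, mul_inv_cancel_right]
          exact J.mul_mem (ha.2 k hk) (hb.2 k hk)⟩
        inv_mem' := fun {a} ha => ⟨V.inv_mem ha.1, fun k hk => by
          have h1 : ⁅k, a⁆ ∈ V := by
            rw [commutatorElement_def]
            exact V.mul_mem (Normal.conj_mem inferInstance a ha.1 k) (V.inv_mem ha.1)
          have : ⁅k, a⁻¹⁆ = a⁻¹ * ⁅k, a⁆⁻¹ * a := by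
            simp only [commutatorElement_def]; group
          rw [this, hcommV _ (V.inv_mem ha.1) _ (V.inv_mem h1), mul_assoc, inv_mul_cancel, mul_one]
          exact J.inv_mem (ha.2 k hk)⟩ }
    have hUV : U ≤ V := fun u hu => hu.1
    have hUc : ∀ k ∈ H, ∀ u ∈ U, k * u * k⁻¹ ∈ U := fun k hk u hu =>
      ⟨Normal.conj_mem inferInstance u hu.1 k, fun l hl => by
        have : ⁅l, k * u * k⁻¹⁆ = k * ⁅k⁻¹ * l * k, u⁆ * k⁻¹ := by
          simp only [commutatorElement_def]; group
        rw [this]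
        exact J.mul_mem (J.mul_mem (mem_sup_left hk)
          (hu.2 _ (H.mul_mem (H.mul_mem (H.inv_mem hk) hl) hk))) (mem_sup_left (H.inv_mem hk))⟩
    have hvU : v ∈ U := ⟨hv, fun k hk => by
      have : ⁅k, v⁆ = k * (v * k⁻¹ * v⁻¹) := by simp only [commutatorElement_def]; group
      rw [this]
      exact J.mul_mem (mem_sup_left hk) (mem_sup_right ⟨k⁻¹, H.inv_mem hk, rfl⟩)⟩
    have heq := hcrit U hUV fun k hk => le_antisymm
      (by rintro _ ⟨u, hu, rfl⟩; exact hUc k hk u hu)
      (fun u hu => ⟨k⁻¹ * u * k, by simpa using hUc k⁻¹ (H.inv_mem hk) u hu, by simp [mul_assoc]⟩)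
    have hcle : ⁅H, U⁆ ≤ U := commutator_le.2 fun k hk u hu => by
      rw [commutatorElement_def]
      exact mul_mem (hUc k hk u hu) (inv_mem hu)
    have hJle : ⁅H, U⁆ ≤ J := commutator_le.2 fun k hk u hu => hu.2 k hk
    have hvmem : v ∈ (U ⊓ Subgroup.normalizer (H : Set G)) ⊔ ⁅H, U⁆ := heq ▸ hvU
    have hnorm : ⁅H, U⁆ ≤ Subgroup.normalizer ((U ⊓ Subgroup.normalizer (H : Set G) : Subgroup G) : Set G) := by
      intro c hc
      rw [mem_normalizer_iff]
      intro y
      have hcV := hUV (hcle hc)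
      constructor
      · intro hy
        rwa [hcommV c hcV y (hUV hy.1), mul_inv_cancel_right]
      · intro hy
        have hyV : y ∈ V := by
          simpa [mul_assoc] using V.mul_mem (V.mul_mem (V.inv_mem hcV) (hUV hy.1)) hcV
        rwa [hcommV c hcV y hyV, mul_inv_cancel_right] at hy
    rw [← SetLike.mem_coe, coe_mul_of_right_le_normalizer_left _ _ hnorm] at hvmem
    obtain ⟨n, hn, c, hc, hnc⟩ := hvmem
    change n * c = v at hnc
    refine ⟨c, hJle hc, ?_⟩
    rw [← hnc, show n * c = c * n from hcommV n (hUV hn.1) c (hUV (hcle hc)), map_mul,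
      map_self n hn.2]

/-- Let G be a finite group, V an abelian normal subgroup and H a subgroup with HV = G. Then H is pronormal in G (H and gHg⁻¹ are conjugate inside the subgroup they generate, for every g) if and only if every H-invariant subgroup U of V satisfies U = N_U(H)·[H, U], that is, U is the join of U ∩ N_G(H) and the commutator subgroup [H, U]. -/
theorem result {G : Type*} [Group G] [Finite G]
    (V : Subgroup G) [V.Normal] (hV : IsMulCommutative ↥V) (H : Subgroup G) (hHV : H ⊔ V = ⊤) :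
    Cfsg.IsPronormal H ↔
      ∀ U : Subgroup G, U ≤ V → (∀ h ∈ H, U.map (MulAut.conj h).toMonoidHom = U) →
        U = (U ⊓ Subgroup.normalizer (H : Set G)) ⊔ ⁅H, U⁆ := by
  exact pronormal_iff V hV H hHV

end Cfsg.Agent.S4269
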