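import Cfsg.Statements.S4274
import Cfsg.Agent.FG78.NoSimple175560

set_option autoImplicit false
open Cfsg

namespace Cfsg.Agent.S4274

open Subgroup MulAction Cfsg.Agent.FG78

universe u

/-- an element of order 19 normalising a subgroup with at most 18 elements centralises it -/
theorem small_centralized {H : Type u} [Group H] [Finite H] (Q : Subgroup H)
    (hQ : Nat.card Q < 19) {x : H} (hx : x ∈ normalizer (Q : Set H)) (ho : orderOf x = 19) :
    ∀ q ∈ Q, q * x = x * q := by
  classical
  haveI := Fintype.ofFinite Q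
  let f := normalizerMonoidHom Q
  let σ : Equiv.Perm Q := (f ⟨x, hx⟩).toEquiv
  have hσ : orderOf σ ∣ 19 := by
    have h : σ = (MulAction.toPermHom (MulAut Q) Q) (f ⟨x, hx⟩) := Equiv.ext fun _ => rfl
    rw [h]
    refine (orderOf_map_dvd _ _).trans ((orderOf_map_dvd _ _).trans ?_)
    rw [orderOf_mk, ho]
  have hσ2 : orderOf σ ∣ (Fintype.card Q).factorial := by
    rw [← Fintype.card_perm]
    exact orderOf_dvd_card
  have hσ1 : σ = 1 := by
    rcases (Nat.dvd_prime (by norm_num : Nat.Prime 19)).mp hσ with h | h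
    · exact orderOf_eq_one_iff.mp h
    · rw [h] at hσ2
      have := (Nat.Prime.dvd_factorial (by norm_num : Nat.Prime 19)).mp hσ2
      rw [← Nat.card_eq_fintype_card] at this
      omega
  intro q hq
  have h := congrArg (fun τ : Equiv.Perm Q => ((τ ⟨q, hq⟩ : Q) : H)) hσ1
  have h' : x * q * x⁻¹ = q := h
  exact (mul_inv_eq_iff_eq_mul.mp h').symm

theorem main : ∀ (n : ℕ) (H : Type u) [Group H] [Finite H], Nat.card H = n → n ∣ 175560 → 19 ∣ n →
    IsSimpleGroup H ∧ n = 175560 ∨ ∀ P : Sylow 19 H, (P : Subgroup H).Normal := by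
  intro n
  induction n using Nat.strong_induction_on with
  | _ n ih =>
  intro H _ _ hn hdvd h19
  haveI : Fact (Nat.Prime 19) := ⟨by norm_num⟩
  have hsq : ¬ 19 ^ 2 ∣ Nat.card H := fun h => (by norm_num : ¬ 19 ^ 2 ∣ 175560) (h.trans (hn ▸ hdvd))
  have h19' : 19 ∣ Nat.card H := hn ▸ h19
  by_cases hs : IsSimpleGroup H
  · rcases eq_or_ne (Nat.card H) 19 with h1 | h1
    · refine Or.inr fun P => ?_
      have hP := PrimeSylow.card_sylow_eq h19' hsq P
      rw [eq_top_of_card_eq (P : Subgroup H) (by rw [hP, h1])]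
      infer_instance
    · exact Or.inl ⟨hs, hn ▸ A175560.no_simple (hn ▸ hdvd) h19' h1⟩
  refine Or.inr ?_
  haveI : Nontrivial H := Finite.one_lt_card_iff_nontrivial.mp (by
    have := Nat.le_of_dvd Nat.card_pos h19'; omega)
  -- a normal subgroup containing a Sylow 19-subgroup and proper gives the conclusion
  have hA : ∀ M : Subgroup H, M.Normal → M ≠ ⊤ → 19 ∣ Nat.card M →
      ∀ P : Sylow 19 H, (P : Subgroup H).Normal := by
    intro M hM hMt h19M P
    haveI := hM
    have hlt : Nat.card M < n := by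
      rcases lt_or_ge (Nat.card M) n with h | h
      · exact h
      · exact absurd (eq_top_of_le_card M (hn ▸ h)) hMt
    rcases ih _ hlt M rfl ((card_subgroup_dvd_card M).trans (hn ▸ dvd_rfl) |>.trans hdvd) h19M with
      ⟨-, h⟩ | h
    · exfalso
      have := Nat.le_of_dvd (by norm_num) hdvd
      omega
    · obtain ⟨T⟩ := (inferInstance : Nonempty (Sylow 19 M))
      haveI hc : (T : Subgroup M).Characteristic := T.characteristic_of_normal (h T)
      have hN : ((T : Subgroup M).map M.subtype).Normal := ConjAct.normal_of_characteristic_of_normal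
      have hTc : Nat.card ((T : Subgroup M).map M.subtype) = 19 := by
        rw [card_map_of_injective M.subtype_injective]
        exact PrimeSylow.card_sylow_eq h19M (fun h => hsq (h.trans (card_subgroup_dvd_card M))) T
      obtain ⟨S, hS⟩ := (IsPGroup.of_card (n := 1) (by rw [hTc, pow_one]) :
        IsPGroup 19 ((T : Subgroup M).map M.subtype)).exists_le_sylow
      have hS' : (T : Subgroup M).map M.subtype = S :=
        eq_of_le_of_card_ge hS (by rw [hTc, PrimeSylow.card_sylow_eq h19' hsq S])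
      haveI : Unique (Sylow 19 H) := S.unique_of_normal (hS' ▸ hN)
      exact P.normal_of_subsingleton
  obtain ⟨N, hNn, hNb, hNt⟩ : ∃ N : Subgroup H, N.Normal ∧ N ≠ ⊥ ∧ N ≠ ⊤ := by
    by_contra! h
    refine hs ⟨fun N hN => ?_⟩
    by_cases hb : N = ⊥
    · exact Or.inl hb
    · exact Or.inr (h N hN hb)
  haveI := hNn
  by_cases h19N : 19 ∣ Nat.card N
  · exact hA N hNn hNt h19N
  have hmul : N.index * Nat.card N = Nat.card H := N.index_mul_card
  have h19q : 19 ∣ Nat.card (H ⧸ N) := by
    rw [← Subgroup.index]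
    exact ((by norm_num : Nat.Prime 19).dvd_mul.mp (hmul ▸ h19' : 19 ∣ N.index * Nat.card N)).resolve_right h19N
  have hqlt : Nat.card (H ⧸ N) < n := by
    rw [← Subgroup.index, ← hn, ← hmul]
    have h1 : 1 < Nat.card N := N.one_lt_card_iff_ne_bot.mpr hNb
    have h2 : 0 < N.index := Nat.pos_of_ne_zero N.index_ne_zero_of_finite
    nlinarith
  intro P
  have hP := PrimeSylow.card_sylow_eq h19' hsq P
  rcases ih _ hqlt (H ⧸ N) rfl
    (((Subgroup.card_quotient_dvd_card N).trans (hn ▸ dvd_rfl)).trans hdvd) h19q with ⟨-, h⟩ | h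
  · exfalso
    have := Nat.le_of_dvd (by norm_num) hdvd
    omega
  let P' : Sylow 19 (H ⧸ N) := P.mapSurjective (QuotientGroup.mk'_surjective N)
  haveI hK : ((P' : Subgroup (H ⧸ N)).comap (QuotientGroup.mk' N)).Normal := (h P').comap _
  set K := (P' : Subgroup (H ⧸ N)).comap (QuotientGroup.mk' N) with hKdef
  have hKeq : K = (P : Subgroup H) ⊔ N := by
    rw [hKdef, Sylow.coe_mapSurjective, comap_map_eq, QuotientGroup.ker_mk']
  by_cases hKt : K = ⊤
  swap
  · refine hA K hK hKt ?_ P
    rw [← hP]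
    exact card_dvd_of_le (hKeq ▸ le_sup_left)
  -- now `H = P N` and we show that `P` is central
  have hidx : Nat.card N * 19 = Nat.card H := by
    have h1 : Nat.card (H ⧸ N) = 19 := by
      have hsur : Function.Surjective ((QuotientGroup.mk' N).comp (P : Subgroup H).subtype) := by
        intro q
        have hq : q ∈ ((P' : Subgroup (H ⧸ N))) := by
          obtain ⟨y, rfl⟩ := QuotientGroup.mk'_surjective N q
          have : y ∈ K := hKt ▸ mem_top y
          exact this
        rw [Sylow.coe_mapSurjective] at hq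
        obtain ⟨y, hy, rfl⟩ := hq
        exact ⟨⟨y, hy⟩, rfl⟩
      have h2 := Nat.card_le_card_of_surjective _ hsur
      rw [hP] at h2
      have := Nat.le_of_dvd Nat.card_pos h19q
      omega
    rw [← hmul, Subgroup.index, h1, mul_comm]
  suffices hdvd' : Nat.card H ∣ Nat.card (PrimeSylow.cent P) by
    have htop : PrimeSylow.cent P = ⊤ :=
      eq_top_of_le_card _ (Nat.le_of_dvd Nat.card_pos hdvd')
    refine ⟨fun x hx g => ?_⟩
    have := PrimeSylow.mem_cent.mp (htop ▸ mem_top g : g ∈ PrimeSylow.cent P) x hx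
    rwa [← this, mul_inv_cancel_right]
  rw [← hidx]
  refine Nat.Coprime.mul_dvd_of_dvd_of_dvd
    (((by norm_num : Nat.Prime 19).coprime_iff_not_dvd.mpr h19N).symm) ?_
    (hP.symm.dvd.trans (card_dvd_of_le (PrimeSylow.le_cent hP)))
  rw [Nat.dvd_iff_prime_pow_dvd_dvd]
  intro q k hq hqk
  rcases Nat.eq_zero_or_pos k with rfl | hk
  · simp
  haveI := Fact.mk hq
  obtain ⟨Q⟩ := (inferInstance : Nonempty (Sylow q N))
  have hqN : q ∣ Nat.card N := (dvd_pow_self q hk.ne').trans hqk
  have hq19 : q ≠ 19 := fun h => h19N (h ▸ hqN)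
  have hQk : q ^ k ∣ Nat.card (Q : Subgroup N) := Q.pow_dvd_card_of_pow_dvd_card hqk
  set R := (Q : Subgroup N).map N.subtype with hRdef
  have hRc : Nat.card R = Nat.card (Q : Subgroup N) :=
    card_map_of_injective N.subtype_injective
  -- the cardinality of `R` is small
  have hR19 : Nat.card R < 19 := by
    obtain ⟨j, hj⟩ := Q.2.exists_card_eq
    have hj' : Nat.card R = q ^ j := hRc.trans hj
    rw [hj']
    have hd : q ^ j ∣ 9240 := by
      have h1 : q ^ j ∣ Nat.card N := hj ▸ card_subgroup_dvd_card _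
      have h2 : Nat.card N * 19 ∣ 9240 * 19 := by rw [hidx, hn]; exact hdvd
      exact h1.trans (Nat.dvd_of_mul_dvd_mul_right (by norm_num) h2)
    have hmem := A175560.mem_divs (hd.trans (by norm_num : 9240 ∣ 175560))
    rcases Nat.eq_zero_or_pos j with rfl | hj0
    · simp
    by_contra hlt
    have hq' : ∀ d ∈ A175560.divs, d ∣ 9240 → 19 ≤ d →
        ∃ a ∈ [2, 3, 5, 7, 11], ∃ b ∈ [2, 3, 5, 7, 11], a ≠ b ∧ a ∣ d ∧ b ∣ d := by decide +kernel
    obtain ⟨a, ha, b, hb, hab, had, hbd⟩ := hq' _ hmem hd (by omega)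
    have pa : a.Prime := by fin_cases ha <;> norm_num
    have pb : b.Prime := by fin_cases hb <;> norm_num
    exact hab (((Nat.prime_dvd_prime_iff_eq pa hq).mp (pa.dvd_of_dvd_pow had)).trans
      ((Nat.prime_dvd_prime_iff_eq pb hq).mp (pb.dvd_of_dvd_pow hbd)).symm)
  -- Frattini
  have hfr := Sylow.normalizer_sup_eq_top Q
  rw [← hRdef] at hfr
  have h19R : 19 ∣ Nat.card (normalizer (R : Set H)) := by
    by_contra hnd
    have h1 := Nat.card_congr (QuotientGroup.quotientInfEquivProdNormalQuotient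
      (normalizer (R : Set H)) N).toEquiv
    have h2 := card_quotient_dvd_card (N.subgroupOf (normalizer (R : Set H)))
    rw [h1] at h2
    have h3 : Nat.card ((normalizer (R : Set H) ⊔ N : Subgroup H) ⧸
        N.subgroupOf (normalizer (R : Set H) ⊔ N)) = N.index := by
      rw [← Subgroup.index, ← relIndex, hfr, relIndex_top_right]
    rw [h3] at h2
    exact hnd ((by rw [← Subgroup.index] at h19q; exact h19q : 19 ∣ N.index).trans h2)
  obtain ⟨x, hx⟩ := exists_prime_orderOf_dvd_card' (G := normalizer (R : Set H)) 19 h19R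
  have hxo : orderOf (x : H) = 19 := by rw [orderOf_coe, hx]
  have hcx := small_centralized R hR19 x.2 hxo
  obtain ⟨S, hS⟩ := (IsPGroup.of_card (n := 1) (by rw [Nat.card_zpowers, hxo, pow_one]) :
      IsPGroup 19 (zpowers (x : H))).exists_le_sylow
  have hSeq : zpowers (x : H) = S :=
    eq_of_le_of_card_ge hS (by rw [Nat.card_zpowers, hxo, PrimeSylow.card_sylow_eq h19' hsq S])
  rw [PrimeSylow.card_cent_eq P S]
  refine hQk.trans (hRc.symm.dvd.trans (card_dvd_of_le ?_))
  intro y hy
  rw [PrimeSylow.mem_cent]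
  intro z hz
  rw [← hSeq] at hz
  obtain ⟨i, rfl⟩ := mem_zpowers_iff.mp hz
  exact ((show Commute y (x : H) from hcx y hy).zpow_right i).symm

/-- A finite group of order 175560 = 2³·3·5·7·11·19 is either simple or has a normal Sylow 19-subgroup. -/
theorem result {G : Type*} [Group G] [Finite G] (hG : Nat.card G = 175560) : IsSimpleGroup G ∨ ∀ P : Sylow 19 G, (P : Subgroup G).Normal := by
  rcases main _ G hG dvd_rfl (by norm_num) with ⟨h, -⟩ | h
  · exact Or.inl h
  · exact Or.inr h

end Cfsg.Agent.S4274
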