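import Cfsg.Statements.S4275
import Cfsg.Agent.FGS80.DesignTwist

set_option autoImplicit false
open Cfsg

namespace Cfsg.Agent.S4275

/-- A permutation intertwining the action with its twist by `α` gives the conjugation formula. -/
lemma conj_of_equivariant {Ω : Type*} [Fintype Ω] (G : Subgroup (Equiv.Perm Ω)) (α : G ≃* G)
    (σ : Equiv.Perm Ω) (hσ : ∀ (g : G) (x : Ω), σ (g • x) = α g • σ x) :
    σ ∈ Subgroup.normalizer (G : Set (Equiv.Perm Ω)) ∧
      ∀ g : G, ((α g : G) : Equiv.Perm Ω) = σ * (g : Equiv.Perm Ω) * σ⁻¹ := by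
  have h : ∀ g : G, ((α g : G) : Equiv.Perm Ω) = σ * (g : Equiv.Perm Ω) * σ⁻¹ := by
    intro g
    ext x
    have := hσ g (σ⁻¹ x)
    simp only [Subgroup.smul_def, Equiv.Perm.smul_def] at this
    simpa [Equiv.Perm.mul_apply] using this.symm
  refine ⟨Subgroup.mem_normalizer_iff.mpr fun y => ⟨fun hy => h ⟨y, hy⟩ ▸ SetLike.coe_mem _,
    fun hy => ?_⟩, h⟩
  obtain ⟨g, hg⟩ := α.surjective ⟨_, hy⟩
  have h1 := h g
  rw [hg] at h1
  rw [show y = (g : Equiv.Perm Ω) from mul_left_cancel (mul_right_cancel h1)]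
  exact g.2

/-- Let G be a transitive group of permutations of a finite set Ω, let o ∈ Ω, and let α be an automorphism of G. Then α is induced by conjugation by a permutation of Ω normalizing G if and only if the image under α of the stabilizer of o fixes some point of Ω. -/
theorem result {Ω : Type*} [Fintype Ω] (G : Subgroup (Equiv.Perm Ω)) (htr : MulAction.IsPretransitive G Ω) (o : Ω) (α : G ≃* G) : (∃ σ : Equiv.Perm Ω, σ ∈ Subgroup.normalizer (G : Set (Equiv.Perm Ω)) ∧ ∀ g : G, ((α g : G) : Equiv.Perm Ω) = σ * (g : Equiv.Perm Ω) * σ⁻¹) ↔ ∃ ω : Ω, ∀ g ∈ (MulAction.stabilizer G o).map α.toMonoidHom, g • ω = ω := by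
  have := htr
  constructor
  · rintro ⟨σ, -, hσ⟩
    refine ⟨σ o, ?_⟩
    rintro _ ⟨g, hg, rfl⟩
    have hg' : (g : Equiv.Perm Ω) o = o := hg
    show ((α g : G) : Equiv.Perm Ω) (σ o) = σ o
    simp [hσ, hg']
  · rintro ⟨ω, hω⟩
    obtain ⟨σ, hσ⟩ := FGS80.exists_perm_of_fixed α o ω
      (fun g hg => hω _ (Subgroup.mem_map_of_mem _ hg))
    exact ⟨σ, conj_of_equivariant G α σ hσ⟩

end Cfsg.Agent.S4275
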