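import Cfsg.Statements.S4276
import Cfsg.Agent.S4275

set_option autoImplicit false
open Cfsg

namespace Cfsg.Agent.S4276


/-- Let G be a doubly transitive group of permutations of a finite set Ω of size n, let o ∈ Ω, and let α be an automorphism of G of odd order. Suppose that the image under α of the stabilizer of o has an orbit on Ω whose length k is coprime to n. Then α is induced by conjugation by a permutation of Ω normalizing G, and k = 1 or k = n − 1. -/
theorem result {Ω : Type*} [Fintype Ω] (G : Subgroup (Equiv.Perm Ω)) (h2 : MulAction.IsMultiplyPretransitive G Ω 2) (o : Ω) (α : MulAut G) (hα : Odd (orderOf α)) (ω : Ω) (hk : (Nat.card (MulAction.orbit ((MulAction.stabilizer G o).map α.toMonoidHom) ω)).Coprime (Fintype.card Ω)) : (∃ σ : Equiv.Perm Ω, σ ∈ Subgroup.normalizer (G : Set (Equiv.Perm Ω)) ∧ ∀ g : G, ((α g : G) : Equiv.Perm Ω) = σ * (g : Equiv.Perm Ω) * σ⁻¹) ∧ (Nat.card (MulAction.orbit ((MulAction.stabilizer G o).map α.toMonoidHom) ω) = 1 ∨ Nat.card (MulAction.orbit ((MulAction.stabilizer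 G o).map α.toMonoidHom) ω) = Fintype.card Ω - 1) := by
  have := h2
  have : MulAction.IsPretransitive G Ω := MulAction.isPretransitive_of_is_two_pretransitive
  obtain ⟨g₀, hg₀⟩ := MulAction.exists_smul_eq G o o
  have heq : Nat.card (MulAction.orbit ((MulAction.stabilizer G o).map α.toMonoidHom) ω) =
      Nat.card {b : Ω // FGS80.twistRel α o ω o b} := by
    refine Nat.card_congr (Equiv.subtypeEquivRight fun b => ?_)
    constructor
    · rintro ⟨⟨h, g, hg, hgh⟩, hb⟩
      refine ⟨g, hg, ?_⟩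
      rw [← hb]
      exact congrArg (· • ω) hgh
    · rintro ⟨g, hg, hb⟩
      exact ⟨⟨α g, Subgroup.mem_map_of_mem _ hg⟩, hb⟩
  rw [heq] at hk ⊢
  obtain ⟨hk', z, hz⟩ := FGS80.exists_fixed_point h2 o ω α hα hk
  obtain ⟨σ, hσ⟩ := FGS80.exists_perm_of_fixed α o z hz
  exact ⟨⟨σ, S4275.conj_of_equivariant G α σ hσ⟩, hk'⟩

end Cfsg.Agent.S4276
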