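import Cfsg.Statements.S4277
import Cfsg.Agent.FGS80.DesignTwist
import Cfsg.Agent.FGS80.Burnside

set_option autoImplicit false
open Cfsg
open scoped Pointwise

namespace Cfsg.Agent.S4277

section

variable {G Ω : Type*} [Group G] [MulAction G Ω]

/-- Pairs `(σ, α)` with `σ (g • x) = α g • σ x`. -/
def intertwiners (G Ω : Type*) [Group G] [MulAction G Ω] :
    Subgroup (Equiv.Perm Ω × MulAut G) where
  carrier := {s | ∀ (g : G) (x : Ω), s.1 (g • x) = s.2 g • s.1 x}
  one_mem' := by intro g x; simp
  mul_mem' := by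
    intro s t hs ht g x
    simp only [Prod.fst_mul, Prod.snd_mul, Equiv.Perm.mul_apply, MulAut.mul_apply]
    rw [ht, hs]
  inv_mem' := by
    intro s hs g x
    apply s.1.injective
    have h1 : ∀ y, s.1 (s.1⁻¹ y) = y := s.1.apply_symm_apply
    have h2 : ∀ y, s.2 (s.2⁻¹ y) = y := s.2.apply_symm_apply
    simp only [Prod.fst_inv, Prod.snd_inv]
    rw [hs, h1, h1, h2]

lemma mem_intertwiners {s : Equiv.Perm Ω × MulAut G} :
    s ∈ intertwiners G Ω ↔ ∀ (g : G) (x : Ω), s.1 (g • x) = s.2 g • s.1 x := Iff.rfl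

lemma conj_mem_intertwiners (g : G) :
    ((MulAction.toPerm g : Equiv.Perm Ω), MulAut.conj g) ∈ intertwiners G Ω := by
  intro h x
  simp only [MulAction.toPerm_apply, MulAut.conj_apply, ← mul_smul, inv_mul_cancel_right]

/-- The image of the intertwiners in `Out G` is solvable when `G` is faithful of prime degree. -/
lemma isSolvable_range [Finite G] [Fintype Ω] [FaithfulSMul G Ω] {p : ℕ} [Fact p.Prime]
    (P : Sylow p G) [IsCyclic (P : Subgroup G)] (o : Ω)
    (htr : ∀ x : Ω, ∃ a ∈ (P : Subgroup G), a • o = x) :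
    Group.IsSolvable ↥(((QuotientGroup.mk' (Cfsg.Inn G)).comp
      ((MonoidHom.snd (Equiv.Perm Ω) (MulAut G)).comp (intertwiners G Ω).subtype)).range) := by
  classical
  set q := ((QuotientGroup.mk' (Cfsg.Inn G)).comp
      ((MonoidHom.snd (Equiv.Perm Ω) (MulAut G)).comp (intertwiners G Ω).subtype)) with hq
  -- intertwiners normalising `P`
  let T : Subgroup (intertwiners G Ω) :=
    { carrier := {s | ∀ a : G, a ∈ (P : Subgroup G) ↔ (s : Equiv.Perm Ω × MulAut G).2 a ∈ (P : Subgroup G)}
      one_mem' := by intro a; simp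
      mul_mem' := by
        intro s t hs ht a
        simp only [Subgroup.coe_mul, Prod.snd_mul, MulAut.mul_apply]
        exact (ht a).trans (hs _)
      inv_mem' := by
        intro s hs a
        simp only [Subgroup.coe_inv, Prod.snd_inv]
        rw [hs ((s : Equiv.Perm Ω × MulAut G).2⁻¹ a), MulAut.apply_inv_self] }
  let ρ : T →* MulAut (P : Subgroup G) :=
    { toFun := fun s =>
        { toFun := fun a => ⟨(s.1 : Equiv.Perm Ω × MulAut G).2 a, (s.2 a).mp a.2⟩
          invFun := fun a => ⟨(s.1 : Equiv.Perm Ω × MulAut G).2.symm a,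
            (s.2 _).mpr (by rw [MulEquiv.apply_symm_apply]; exact a.2)⟩
          left_inv := fun a => Subtype.ext (MulEquiv.symm_apply_apply _ _)
          right_inv := fun a => Subtype.ext (MulEquiv.apply_symm_apply _ _)
          map_mul' := fun a b => Subtype.ext (map_mul _ _ _) }
      map_one' := by ext a; simp
      map_mul' := by intro s t; ext a; simp }
  have hker : Group.IsSolvable ρ.ker := Group.isSolvable_of_comm fun s t => by
    have hfix : ∀ (u : ρ.ker) (a : G), a ∈ (P : Subgroup G) →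
        (u.1.1 : Equiv.Perm Ω × MulAut G).2 a = a := fun u a ha =>
      congrArg Subtype.val (DFunLike.congr_fun (MonoidHom.mem_ker.mp u.2) ⟨a, ha⟩)
    have hσ : ∀ (u : ρ.ker) (a : G), a ∈ (P : Subgroup G) → ∀ x : Ω,
        (u.1.1 : Equiv.Perm Ω × MulAut G).1 (a • x) =
          a • (u.1.1 : Equiv.Perm Ω × MulAut G).1 x := fun u a ha x => by
      rw [mem_intertwiners.mp u.1.1.2 a x, hfix u a ha]
    let _ := IsCyclic.commGroup (α := (P : Subgroup G))
    have h1 : ∀ x, (((s * t : ρ.ker) : T).1 : Equiv.Perm Ω × MulAut G).1 x =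
        (((t * s : ρ.ker) : T).1 : Equiv.Perm Ω × MulAut G).1 x := by
      intro x
      obtain ⟨a, ha, rfl⟩ := htr x
      rw [hσ _ a ha, hσ _ a ha]
      obtain ⟨b, hb, hbs⟩ := htr ((s.1.1 : Equiv.Perm Ω × MulAut G).1 o)
      obtain ⟨c, hc, hct⟩ := htr ((t.1.1 : Equiv.Perm Ω × MulAut G).1 o)
      simp only [Subgroup.coe_mul, Prod.fst_mul, Equiv.Perm.mul_apply]
      rw [← hct, hσ s c hc, ← hbs, hσ t b hb, ← hct, ← mul_smul c b, ← mul_smul b c]
      have := congrArg Subtype.val (mul_comm (⟨b, hb⟩ : (P : Subgroup G)) ⟨c, hc⟩)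
      simp only [Subgroup.coe_mul] at this
      rw [this]
    refine Subtype.ext (Subtype.ext (Subtype.ext (Prod.ext (Equiv.ext h1) ?_)))
    refine MulEquiv.ext fun g => FaithfulSMul.eq_of_smul_eq_smul (α := Ω) fun y => ?_
    obtain ⟨x, rfl⟩ := ((((s * t : ρ.ker) : T).1 : Equiv.Perm Ω × MulAut G).1).surjective y
    rw [← mem_intertwiners.mp (s * t : ρ.ker).1.1.2 g x, h1 (g • x), h1 x,
      mem_intertwiners.mp (t * s : ρ.ker).1.1.2 g x]
  have : Group.IsSolvable (MulAut (P : Subgroup G)) := Group.isSolvable_of_comm fun a b =>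
    (IsCyclic.mulAutMulEquiv (P : Subgroup G)).injective (by rw [map_mul, map_mul, mul_comm])
  have hT : Group.IsSolvable T :=
    Group.isSolvable_of_ker_le_range ρ.ker.subtype ρ (by rw [Subgroup.range_subtype])
  have hsurj : q.range = (q.comp T.subtype).range := by
    refine le_antisymm ?_ (by rintro _ ⟨t, rfl⟩; exact ⟨_, rfl⟩)
    rintro _ ⟨⟨⟨σ, α⟩, hs⟩, rfl⟩
    obtain ⟨g, hg⟩ := MulAction.exists_smul_eq G
      (P.mapSurjective (f := α.toMonoidHom) α.surjective) P
    have hmem := (intertwiners G Ω).mul_mem (conj_mem_intertwiners (Ω := Ω) g) hs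
    refine ⟨⟨⟨_, hmem⟩, fun a => ?_⟩, ?_⟩
    · have hg' := congrArg (fun S : Sylow p G => (S : Subgroup G)) hg
      simp only [Sylow.coe_subgroup_smul, Sylow.coe_mapSurjective] at hg'
      show a ∈ (P : Subgroup G) ↔ MulAut.conj g (α a) ∈ (P : Subgroup G)
      conv_rhs => rw [← hg']
      rw [← MulAut.smul_def, Subgroup.smul_mem_pointwise_smul_iff]
      exact (Subgroup.mem_map_iff_mem (f := α.toMonoidHom) α.injective).symm
    · show QuotientGroup.mk' (Cfsg.Inn G) (MulAut.conj g * α) = QuotientGroup.mk' (Cfsg.Inn G) α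
      rw [map_mul, show QuotientGroup.mk' (Cfsg.Inn G) (MulAut.conj g) = 1 from
        (QuotientGroup.eq_one_iff _).mpr ⟨g, rfl⟩, one_mul]
  rw [hsurj]
  exact Group.isSolvable_of_surjective (q.comp T.subtype).rangeRestrict_surjective

end

/-- A case of the Schreier conjecture: if a finite simple group G has a subgroup of prime index, then the outer automorphism group of G is solvable. -/
theorem result {G : Type*} [Group G] [Finite G] [IsSimpleGroup G] (H : Subgroup G) (hH : H.index.Prime) : Group.IsSolvable (Cfsg.Out G) := by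
  classical
  by_cases hsol : Group.IsSolvable G
  · have hc : ∀ a b : G, a * b = b * a := fun a b =>
      ((IsSimpleGroup.comm_iff_isSolvable).mpr hsol) a b
    let _ : CommGroup G := { ‹Group G› with mul_comm := hc }
    have : IsCyclic G := inferInstance
    have : Group.IsSolvable (MulAut G) := Group.isSolvable_of_comm fun a b =>
      (IsCyclic.mulAutMulEquiv G).injective (by rw [map_mul, map_mul, mul_comm])
    exact Group.isSolvable_of_surjective (QuotientGroup.mk'_surjective (Cfsg.Inn G))
  set p := H.index with hp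
  have : Fact p.Prime := ⟨hH⟩
  let _ : Fintype (G ⧸ H) := Fintype.ofFinite _
  let o : G ⧸ H := ((1 : G) : G ⧸ H)
  have hHtop : H ≠ ⊤ := fun h => by rw [hp, h, Subgroup.index_top] at hH; exact Nat.not_prime_one hH
  have hfaith : FaithfulSMul G (G ⧸ H) := by
    refine ⟨fun {a b} hab => ?_⟩
    have hcore : H.normalCore = ⊥ :=
      (IsSimpleGroup.eq_bot_or_eq_top_of_normal _ (Subgroup.normalCore_normal H)).resolve_right
        fun h => hHtop (top_le_iff.mp (h ▸ Subgroup.normalCore_le H))
    have : a⁻¹ * b ∈ H.normalCore := by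
      rw [Subgroup.normalCore_eq_ker, MonoidHom.mem_ker]
      ext x
      show (a⁻¹ * b) • x = x
      rw [mul_smul, ← hab x, inv_smul_smul]
    rw [hcore, Subgroup.mem_bot, inv_mul_eq_one] at this
    exact this
  have hcard : Fintype.card (G ⧸ H) = p := by rw [← Nat.card_eq_fintype_card]; rfl
  have h2 := (FGS80.Burnside.isSolvable_or_two_transitive (G := G) hcard).resolve_left hsol
  have hstab : MulAction.stabilizer G o = H := MulAction.stabilizer_quotient H
  have hcop : (Nat.card H).Coprime p := by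
    refine ((hH.coprime_iff_not_dvd).mpr fun hd => ?_).symm
    obtain ⟨d, hd⟩ := hd
    have h1 : Nat.card G ∣ (Fintype.card (G ⧸ H)).factorial := by
      rw [← Fintype.card_perm, ← Nat.card_eq_fintype_card]
      exact Subgroup.card_dvd_of_injective (MulAction.toPermHom G (G ⧸ H))
        MulAction.toPerm_injective
    rw [hcard, ← H.card_mul_index, hd, ← hp, ← Nat.mul_factorial_pred hH.ne_zero, mul_comm _ p,
      Nat.mul_dvd_mul_iff_left hH.pos] at h1
    have := (hH.dvd_factorial).mp ((Dvd.intro d rfl).trans h1)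
    have := hH.pos
    omega
  -- the subgroup of `Out G` coming from intertwiners
  set q := ((QuotientGroup.mk' (Cfsg.Inn G)).comp
      ((MonoidHom.snd (Equiv.Perm (G ⧸ H)) (MulAut G)).comp
        (intertwiners G (G ⧸ H)).subtype)) with hq
  obtain ⟨P⟩ : Nonempty (Sylow p G) := inferInstance
  have hPcard : Nat.card (P : Subgroup G) = p := by
    rw [P.card_eq_multiplicity, ← H.card_mul_index,
      Nat.factorization_mul Nat.card_pos.ne' hH.ne_zero, Finsupp.add_apply,
      Nat.factorization_eq_zero_of_not_dvd ((hH.coprime_iff_not_dvd).mp hcop.symm),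
      Nat.Prime.factorization_self hH, zero_add, pow_one]
  have : IsCyclic (P : Subgroup G) := isCyclic_of_prime_card hPcard
  have htr : ∀ x : G ⧸ H, ∃ a ∈ (P : Subgroup G), a • o = x := by
    intro x
    have hinj : Function.Injective fun a : (P : Subgroup G) => (a : G) • o := by
      intro a b hab
      have hmem : (a : G)⁻¹ * b ∈ H := by
        rw [← hstab, MulAction.mem_stabilizer_iff, mul_smul]
        simp only at hab
        rw [← hab, inv_smul_smul]
      have hmemP : (a : G)⁻¹ * b ∈ (P : Subgroup G) := mul_mem (inv_mem a.2) b.2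
      have h1 : orderOf ((a : G)⁻¹ * b) = 1 :=
        Nat.eq_one_of_dvd_coprimes hcop (Subgroup.orderOf_dvd_natCard H hmem)
          ((Subgroup.orderOf_dvd_natCard (P : Subgroup G) hmemP).trans (dvd_of_eq hPcard))
      exact Subtype.ext (inv_mul_eq_one.mp (orderOf_eq_one_iff.mp h1))
    obtain ⟨a, ha⟩ := (hinj.bijective_of_nat_card_le
      (le_of_eq (by rw [hPcard, Nat.card_eq_fintype_card, hcard]))).2 x
    exact ⟨a, a.2, ha⟩
  have hR : Group.IsSolvable q.range := isSolvable_range P o htr
  -- every element of odd order lies in the range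
  let O : Subgroup (MulAut G) := Subgroup.normalClosure {α | Odd (orderOf α)}
  let O' : Subgroup (Cfsg.Out G) := O.map (QuotientGroup.mk' (Cfsg.Inn G))
  have hgen : ∀ α : MulAut G, Odd (orderOf α) → QuotientGroup.mk' (Cfsg.Inn G) α ∈ q.range := by
    intro α hα
    have hk : (Nat.card {b : G ⧸ H // FGS80.twistRel α o o o b}).Coprime
        (Fintype.card (G ⧸ H)) := by
      have he : {b : G ⧸ H // FGS80.twistRel α o o o b} ≃
          MulAction.orbit (H.map α.toMonoidHom) o := by
        refine Equiv.subtypeEquivRight fun b => ⟨?_, ?_⟩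
        · rintro ⟨g, hg, hgb⟩
          exact ⟨⟨α g, Subgroup.mem_map_of_mem _ (hstab.le hg)⟩, hgb⟩
        · rintro ⟨⟨_, g, hg, rfl⟩, hb⟩
          exact ⟨g, hstab.ge hg, hb⟩
      rw [Nat.card_congr he, hcard]
      refine Nat.Coprime.coprime_dvd_left ?_ hcop
      rw [Nat.card_congr (MulAction.orbitEquivQuotientStabilizer _ o),
        ← Subgroup.card_map_of_injective (K := H) (f := α.toMonoidHom) α.injective]
      exact Subgroup.card_quotient_dvd_card _
    obtain ⟨-, z, hz⟩ := FGS80.exists_fixed_point h2 o o α hα hk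
    obtain ⟨σ, hσ⟩ := FGS80.exists_perm_of_fixed α o z hz
    exact ⟨⟨(σ, α), hσ⟩, rfl⟩
  have hO : O' ≤ q.range := by
    show O.map _ ≤ _
    rw [Subgroup.map_le_iff_le_comap]
    show Subgroup.closure (Group.conjugatesOfSet _) ≤ _
    rw [Subgroup.closure_le]
    intro β hβ
    obtain ⟨α, hα, hc⟩ := Group.mem_conjugatesOfSet_iff.mp hβ
    obtain ⟨c, rfl⟩ := isConj_iff.mp hc
    refine hgen _ ?_
    rw [show c * α * c⁻¹ = MulAut.conj c α from rfl, MulEquiv.orderOf_eq]
    exact hα
  have : O'.Normal := (Subgroup.normalClosure_normal).map _ (QuotientGroup.mk'_surjective _)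
  have : Group.IsSolvable O' :=
    Group.isSolvable_of_isSolvable_injective (Subgroup.inclusion_injective hO)
  have h2grp : IsPGroup 2 (Cfsg.Out G ⧸ O') := by
    intro x
    obtain ⟨y, rfl⟩ := QuotientGroup.mk'_surjective O' x
    obtain ⟨α, rfl⟩ := QuotientGroup.mk'_surjective (Cfsg.Inn G) y
    refine ⟨(orderOf α).factorization 2, ?_⟩
    rw [← map_pow, ← map_pow]
    refine (QuotientGroup.eq_one_iff _).mpr (Subgroup.mem_map_of_mem _
      (Subgroup.subset_normalClosure ?_))
    show Odd (orderOf (α ^ 2 ^ (orderOf α).factorization 2))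
    rw [orderOf_pow' _ (pow_ne_zero _ two_ne_zero),
      Nat.gcd_eq_right (Nat.ordProj_dvd (orderOf α) 2)]
    rw [Nat.odd_iff]
    have := Nat.not_dvd_ordCompl Nat.prime_two (orderOf_pos α).ne'
    omega
  have : Group.IsNilpotent (Cfsg.Out G ⧸ O') := h2grp.isNilpotent
  exact (Group.isSolvable_iff_subgroup_quotient O').mpr ⟨inferInstance, inferInstance⟩

end Cfsg.Agent.S4277
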