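import Cfsg.Statements.S4280
import Cfsg.Agent.CG26.ChevInv.DataF4
import Cfsg.Agent.ChevFixed.F4

set_option autoImplicit false
open Cfsg
open Cfsg.Agent.CG26.ChevInv Cfsg.Agent.CG26.ChevInv.InvF4 Cfsg.Agent.ChevGroup Cfsg.Agent.ChevCore
open Cfsg.Agent.ChevGroup.TypeF4 (model wit_ok longest_ok pos_span)

namespace Cfsg.Agent.S4280

/-- In the Chevalley group of type F₄ over a finite field of odd order q there are exactly two conjugacy classes of involutions; the centralizer of an involution in one class has order q¹⁶(q² − 1)(q⁴ − 1)(q⁶ − 1)(q⁸ − 1), and in the other class q¹⁰(q² − 1)²(q⁴ − 1)(q⁶ − 1). -/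
theorem result {F : Type*} [Field F] [Fintype F] (hF : Odd (Fintype.card F)) : ∃ s t : ↥(Cfsg.Lie.chevF4.group F), orderOf s = 2 ∧ orderOf t = 2 ∧ ¬ IsConj s t ∧ (∀ u : ↥(Cfsg.Lie.chevF4.group F), orderOf u = 2 → IsConj u s ∨ IsConj u t) ∧ Nat.card (Subgroup.centralizer ({s} : Set ↥(Cfsg.Lie.chevF4.group F))) = Fintype.card F ^ 16 * (Fintype.card F ^ 2 - 1) * (Fintype.card F ^ 4 - 1) * (Fintype.card F ^ 6 - 1) * (Fintype.card F ^ 8 - 1) ∧ Nat.card (Subgroup.centralizer ({t} : Set ↥(Cfsg.Lie.chevF4.group F))) = Fintype.card F ^ 10 * (Fintype.card F ^ 2 - 1) ^ 2 * (Fintype.card F ^ 4 - 1) * (Fintype.card F ^ 6 - 1) := by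
  have hq : 1 ≤ Fintype.card F := Fintype.card_pos
  have hinj : injB model = true := by
    have := red_ok
    simp only [redB, Bool.and_eq_true] at this
    exact this.1
  obtain ⟨s, t, hs, ht, hne, hall, cs, ct⟩ := involution_data (T := model) uGoodF4 hF odd_ok red_ok wit_ok
    longest_ok pos_span (ChevFixed.TypeF4.card_torus (torusFacts_of_good uGoodF4.toCommGood.toGood)
      (relsOfCommGood uGoodF4.toCommGood F))
    orbit_ok cover_ok (ja := ⟨0, by decide⟩) (jb := ⟨2, by decide⟩) (by decide) (by decide) count_ne okA okB countA countB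
  refine ⟨s, t, hs, ht, hne, hall, ?_, ?_⟩
  · rw [cs, show List.range subA.k = [0, 1, 2, 3] from rfl, sumG_step uGoodF4 okA wit_ok hinj F _ stepA3,
      sumG_step uGoodF4 okA wit_ok hinj F _ stepA2, sumG_step uGoodF4 okA wit_ok hinj F _ stepA1,
      sumG_step uGoodF4 okA wit_ok hinj F _ stepA0, sumG_nil, show model.tab.l = 4 from rfl]
    simp only [repsA0, repsA1, repsA2, repsA3, List.map_cons, List.map_nil, List.sum_cons, List.sum_nil,
      List.length_cons, List.length_nil]
    generalize Fintype.card F = q at hq ⊢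
    have h1 : 1 ≤ q := hq
    zify [h1, Nat.one_le_pow 2 q h1, Nat.one_le_pow 4 q h1, Nat.one_le_pow 6 q h1, Nat.one_le_pow 8 q h1]
    ring
  · rw [ct, show List.range subB.k = [0, 1, 2, 3] from rfl, sumG_step uGoodF4 okB wit_ok hinj F _ stepB3,
      sumG_step uGoodF4 okB wit_ok hinj F _ stepB2, sumG_step uGoodF4 okB wit_ok hinj F _ stepB1,
      sumG_step uGoodF4 okB wit_ok hinj F _ stepB0, sumG_nil, show model.tab.l = 4 from rfl]
    simp only [repsB0, repsB1, repsB2, repsB3, List.map_cons, List.map_nil, List.sum_cons, List.sum_nil,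
      List.length_cons, List.length_nil]
    generalize Fintype.card F = q at hq ⊢
    have h1 : 1 ≤ q := hq
    zify [h1, Nat.one_le_pow 2 q h1, Nat.one_le_pow 4 q h1, Nat.one_le_pow 6 q h1]
    ring

end Cfsg.Agent.S4280
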