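import Cfsg.Statements.S4281
import Cfsg.Agent.CG26.ChevInv.DataE8
import Cfsg.Agent.ChevFixed.E8

set_option autoImplicit false
open scoped BigOperators
open Cfsg
open Cfsg.Agent.CG26.ChevInv Cfsg.Agent.CG26.ChevInv.InvE8 Cfsg.Agent.ChevGroup Cfsg.Agent.ChevCore
open Cfsg.Agent.ChevGroup.TypeE8 (model wit_ok longest_ok pos_span)

namespace Cfsg.Agent.S4281

/-- In the Chevalley group of type E₈ over a finite field of odd order q there are exactly two conjugacy classes of involutions; the centralizer of an involution in one class has order q⁵⁶(q⁸ − 1)·∏_{i=1}^{7}(q^{2i} − 1), and in the other class q⁶⁴(q² − 1)²(q⁶ − 1)(q⁸ − 1)(q¹⁰ − 1)(q¹² − 1)(q¹⁴ − 1)(q¹⁸ − 1). -/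
theorem result {F : Type*} [Field F] [Fintype F] (hF : Odd (Fintype.card F)) : ∃ s t : ↥(Cfsg.Lie.chevE8.group F), orderOf s = 2 ∧ orderOf t = 2 ∧ ¬ IsConj s t ∧ (∀ u : ↥(Cfsg.Lie.chevE8.group F), orderOf u = 2 → IsConj u s ∨ IsConj u t) ∧ Nat.card (Subgroup.centralizer ({s} : Set ↥(Cfsg.Lie.chevE8.group F))) = Fintype.card F ^ 56 * (Fintype.card F ^ 8 - 1) * ∏ i ∈ Finset.Icc 1 7, (Fintype.card F ^ (2 * i) - 1) ∧ Nat.card (Subgroup.centralizer ({t} : Set ↥(Cfsg.Lie.chevE8.group F))) = Fintype.card F ^ 64 * (Fintype.card F ^ 2 - 1) ^ 2 * (Fintype.card F ^ 6 - 1) * (Fintype.card F ^ 8 - 1) * (Fintype.card F ^ 10 - 1) * (Fintype.card F ^ 12 - 1) * (Fintype.card F ^ 14 - 1) * (Fintype.card F ^ 18 - 1) := by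
  have hq : 1 ≤ Fintype.card F := Fintype.card_pos
  have hinj : injB model = true := by
    have := red_ok
    simp only [redB, Bool.and_eq_true] at this
    exact this.1
  obtain ⟨s, t, hs, ht, hne, hall, cs, ct⟩ := involution_data (T := model) uGoodE8 hF odd_ok red_ok wit_ok
    longest_ok pos_span (ChevFixed.TypeE8.card_torus (torusFacts_of_good uGoodE8.toCommGood.toGood)
      (relsOfCommGood uGoodE8.toCommGood F))
    orbit_ok cover_ok (ja := ⟨0, by decide⟩) (jb := ⟨0, by decide⟩) (by decide) (by decide) count_ne okA okB countA countB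
  refine ⟨s, t, hs, ht, hne, hall, ?_, ?_⟩
  · rw [cs, show List.range subA.k = [0, 1, 2, 3, 4, 5, 6, 7] from rfl, sumG_step uGoodE8 okA wit_ok hinj F _ stepA7,
      sumG_step uGoodE8 okA wit_ok hinj F _ stepA6,
      sumG_step uGoodE8 okA wit_ok hinj F _ stepA5,
      sumG_step uGoodE8 okA wit_ok hinj F _ stepA4,
      sumG_step uGoodE8 okA wit_ok hinj F _ stepA3,
      sumG_step uGoodE8 okA wit_ok hinj F _ stepA2,
      sumG_step uGoodE8 okA wit_ok hinj F _ stepA1,
      sumG_step uGoodE8 okA wit_ok hinj F _ stepA0,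
      sumG_nil, show model.tab.l = 8 from rfl]
    simp only [repsA0, repsA1, repsA2, repsA3, repsA4, repsA5, repsA6, repsA7, List.map_cons, List.map_nil, List.sum_cons,
      List.sum_nil, List.length_cons, List.length_nil]
    rw [show Finset.Icc 1 7 = ({1, 2, 3, 4, 5, 6, 7} : Finset ℕ) by decide]
    simp only [Finset.mem_insert, Finset.mem_singleton, OfNat.ofNat_ne_one, or_self, not_false_eq_true,
      Finset.prod_insert, Finset.prod_singleton, Nat.reduceEqDiff, Nat.reduceMul]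
    generalize Fintype.card F = q at hq ⊢
    have h1 : 1 ≤ q := hq
    zify [h1, Nat.one_le_pow 2 q h1, Nat.one_le_pow 4 q h1, Nat.one_le_pow 6 q h1, Nat.one_le_pow 8 q h1, Nat.one_le_pow 10 q h1, Nat.one_le_pow 12 q h1, Nat.one_le_pow 14 q h1]
    ring
  · rw [ct, show List.range subB.k = [0, 1, 2, 3, 4, 5, 6, 7] from rfl, sumG_step uGoodE8 okB wit_ok hinj F _ stepB7,
      sumG_step uGoodE8 okB wit_ok hinj F _ stepB6,
      sumG_step uGoodE8 okB wit_ok hinj F _ stepB5,
      sumG_step uGoodE8 okB wit_ok hinj F _ stepB4,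
      sumG_step uGoodE8 okB wit_ok hinj F _ stepB3,
      sumG_step uGoodE8 okB wit_ok hinj F _ stepB2,
      sumG_step uGoodE8 okB wit_ok hinj F _ stepB1,
      sumG_step uGoodE8 okB wit_ok hinj F _ stepB0,
      sumG_nil, show model.tab.l = 8 from rfl]
    simp only [repsB0, repsB1, repsB2, repsB3, repsB4, repsB5, repsB6, repsB7, List.map_cons, List.map_nil, List.sum_cons,
      List.sum_nil, List.length_cons, List.length_nil]
    generalize Fintype.card F = q at hq ⊢
    have h1 : 1 ≤ q := hq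
    zify [h1, Nat.one_le_pow 2 q h1, Nat.one_le_pow 6 q h1, Nat.one_le_pow 8 q h1, Nat.one_le_pow 10 q h1, Nat.one_le_pow 12 q h1, Nat.one_le_pow 14 q h1, Nat.one_le_pow 18 q h1]
    ring

end Cfsg.Agent.S4281
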