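import Cfsg.Statements.S4282
import Cfsg.Agent.FGS73.HHBWeight

set_option autoImplicit false
open Cfsg

namespace Cfsg.Agent.S4282

/-- A critical case behind the Hall–Higman theorem. Let p ≠ q be primes and G a finite group generated by a normal q-subgroup Q and a cyclic p-subgroup generated by x, such that the centralizer of every non-identity element of that cyclic subgroup is its product with the centre of G. Let K be an algebraically closed field of characteristic p and ρ a faithful representation of G on a nonzero finite-dimensional K-space whose restriction to Q is irreducible. If s is the least exponent with (ρ(x) − 1)^s = 0, then |⟨x⟩| − 1 ≤ s ≤ |⟨x⟩|; and if s = |⟨x⟩| − 1 then |⟨x⟩| − 1 is a power of q and Q is non-abelian. -/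
theorem result {G : Type*} [Group G] [Finite G] (p q : ℕ) [Fact p.Prime] [Fact q.Prime] (hpq : p ≠ q) (Q : Subgroup G) [Q.Normal] (hQ : IsPGroup q Q) (x : G) (hx : IsPGroup p (Subgroup.zpowers x)) (hgen : Q ⊔ Subgroup.zpowers x = ⊤) (hC : ∀ y ∈ Subgroup.zpowers x, y ≠ 1 → Subgroup.centralizer ({y} : Set G) = Subgroup.zpowers x ⊔ Subgroup.center G) {K : Type*} [Field K] [IsAlgClosed K] [CharP K p] {V : Type*} [AddCommGroup V] [Module K V] [FiniteDimensional K V] [Nontrivial V] (ρ : Representation K G V) (hfaith : Function.Injective ρ) (hirr : ∀ W : Submodule K V, (∀ g ∈ Q, Submodule.map (ρ g) W ≤ W) → W = ⊥ ∨ W = ⊤) (s : ℕ) (hs : (ρ x - 1) ^ s = 0) (hmin : ∀ k < s, (ρ x - 1) ^ k ≠ 0) : Nat.card (Subgroup.zpowers x) - 1 ≤ s ∧ s ≤ Nat.card (Subgroup.zpowers x) ∧ (s = Nat.card (Subgroup.zpowers x) - 1 → (∃ b : ℕ, Nat.card (Subgroup.zpowers x) - 1 = q ^ b) ∧ ¬ IsMulCommutative Q) := by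
  classical
  open scoped commutatorElement in
  have hp : p.Prime := Fact.out
  have hq : q.Prime := Fact.out
  set N := Nat.card (Subgroup.zpowers x) with hN
  obtain ⟨m, hm⟩ : ∃ m, N = p ^ m := IsPGroup.iff_card.1 hx
  have hxN : x ^ N = 1 := by rw [hN, Nat.card_zpowers, pow_orderOf_eq_one]
  haveI : CharP (Module.End K V) p := charP_of_injective_algebraMap
    (FaithfulSMul.algebraMap_injective K (Module.End K V)) p
  have hsN : (ρ x - 1) ^ N = 0 := by
    rw [hm, sub_pow_char_pow_of_commute p m (Commute.one_right _), ← map_pow, ← hm, hxN, map_one,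
      one_pow, sub_self]
  have hle : s ≤ N := by
    by_contra h
    exact hmin N (not_le.1 h) hsN
  have hne1 : (1 : Module.End K V) ≠ 0 := one_ne_zero
  rcases Nat.eq_zero_or_pos m with rfl | hm1
  · refine ⟨by rw [hm]; simp, hle, fun h => ?_⟩
    exfalso
    have hs0 : s = 0 := by rw [h, hm]; simp
    rw [hs0, pow_zero] at hs
    exact hne1 hs
  rcases Nat.lt_or_ge (N - 1) s with hlt | hge
  · exact ⟨by omega, hle, fun h => absurd h (by omega)⟩
  have hNp : 1 < N := hm ▸ Nat.one_lt_pow (by omega) hp.one_lt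
  have hnorm : (ρ x - 1) ^ (N - 1) = 0 := pow_eq_zero_of_le hge hs
  -- elements of `Q` commuting with a power of `x` are central
  have hcopQ : ∀ v ∈ Q, (orderOf v).Coprime N := by
    intro v hv
    obtain ⟨l, hl⟩ := hQ ⟨v, hv⟩
    refine Nat.Coprime.coprime_dvd_left (m := orderOf v)
      (orderOf_dvd_of_pow_eq_one (by simpa using congrArg Subtype.val hl)) ?_
    rw [hm]
    exact Nat.Coprime.pow _ _ ((Nat.coprime_primes hq hp).2 (Ne.symm hpq))
  have hcent : ∀ i, 0 < i → i < N → ∀ v ∈ Q, x ^ i * v = v * x ^ i →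
      v ∈ Subgroup.center G := by
    intro i hi hiN v hv hcomm
    have hy1 : x ^ i ≠ 1 := pow_ne_one_of_lt_orderOf (by omega)
      (by rw [← Nat.card_zpowers, ← hN]; exact hiN)
    have h1 : v ∈ Subgroup.centralizer ({x ^ i} : Set G) :=
      Subgroup.mem_centralizer_singleton_iff.2 hcomm.symm
    rw [hC _ (pow_mem (Subgroup.mem_zpowers x) i) hy1] at h1
    obtain ⟨a, ha, z, hz, rfl⟩ := Subgroup.mem_sup_of_normal_right.1 h1
    obtain ⟨j, rfl⟩ := ha
    have hz' : (x ^ j * z) ^ N = z ^ N := by
      have : Commute (x ^ j) z := Subgroup.mem_center_iff.1 hz _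
      rw [this.mul_pow, ← zpow_natCast, ← zpow_mul, mul_comm, zpow_mul, zpow_natCast, hxN,
        one_zpow, one_mul]
    obtain ⟨b, hb⟩ := exists_pow_eq_self_of_coprime (hcopQ _ hv).symm
    change x ^ j * z ∈ Subgroup.center G
    rw [← hb, hz']
    exact pow_mem (pow_mem hz _) _
  -- the averaging lemma kills abelian invariant subgroups
  have habel : ∀ A : Subgroup G, A ≤ Q → (∀ a ∈ A, ∀ b ∈ A, a * b = b * a) →
      (∀ a ∈ A, x * a * x⁻¹ ∈ A) → A ≤ Subgroup.center G := by
    intro A hAQ hAc hAx a ha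
    obtain ⟨n, rfl⟩ := Nat.exists_eq_succ_of_ne_zero (show m ≠ 0 by omega)
    let σ : A →* A := ((MulAut.conj x).toMonoidHom.comp A.subtype).codRestrict A fun e => hAx e e.2
    have hσit : ∀ k (e : A), (((⇑σ)^[k] e : A) : G) = x ^ k * e * (x ^ k)⁻¹ := by
      intro k
      induction k with
      | zero => intro e; simp
      | succ k ih =>
        intro e
        rw [Function.iterate_succ_apply']
        change x * (((⇑σ)^[k] e : A) : G) * x⁻¹ = _
        rw [ih, pow_succ']
        group
    have hcard : (Nat.card A : K) ≠ 0 := by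
      rw [Ne, CharP.cast_eq_zero_iff K p]
      intro hd
      obtain ⟨l, hl⟩ := IsPGroup.iff_card.1 (hQ.to_le hAQ)
      rw [hl] at hd
      exact hpq ((Nat.prime_dvd_prime_iff_eq hp hq).1 (hp.dvd_of_dvd_pow hd))
    have key := Cfsg.Agent.FGS73.end_abelian_norm
      (show A →* Module.End K V from ρ.comp A.subtype)
      (fun a b => by
        change ρ (a : G) * ρ (b : G) = ρ (b : G) * ρ (a : G)
        rw [← map_mul, ← map_mul, hAc _ a.2 _ b.2]) σ (ρ x) hp (n := n)
      (fun e => Subtype.ext (by rw [hσit, ← hm, hxN]; simp))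
      (Cfsg.Agent.FGS73.norm_of_sub_one_pow (p := p) (m := n + 1) _ hnorm
        (by rw [← show N = p ^ (n + 1) from hm]; omega))
      (fun e w => by
        change ρ x (ρ (e : G) w) = ρ (x * e * x⁻¹) (ρ x w)
        rw [← Module.End.mul_apply, ← map_mul, ← Module.End.mul_apply, ← map_mul]
        group) hcard ⟨a, ha⟩
    have key' : a⁻¹ * (x ^ p ^ n * a * (x ^ p ^ n)⁻¹) = 1 := by
      apply hfaith
      rw [map_one]
      rw [← hσit (p ^ n) ⟨a, ha⟩]
      exact key
    refine hcent (p ^ n) (pow_pos hp.pos n) (hm ▸ Nat.pow_lt_pow_right hp.one_lt (by omega)) a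
      (hAQ ha) ?_
    rw [inv_mul_eq_one] at key'
    conv_rhs => rw [key']
    group
  -- `Q` has class two
  have hQ' : ⁅Q, Q⁆ ≤ Subgroup.center G := by
    let f : ℕ → Subgroup G := fun k => Nat.rec Q (fun _ B => ⁅B, Q⁆) k
    have hfn : ∀ k, (f k).Normal := by
      intro k
      induction k with
      | zero => assumption
      | succ k ih => exact Subgroup.commutator_normal _ _
    have hfle : ∀ k, f (k + 1) ≤ f k := fun k => by
      haveI := hfn k
      exact Subgroup.commutator_le_left _ _
    have hfQ : ∀ k, f k ≤ Q := fun k => by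
      induction k with
      | zero => exact le_rfl
      | succ k ih => exact (hfle k).trans ih
    have hfmap : ∀ k, (Subgroup.lowerCentralSeries (⊤ : Subgroup Q) k).map Q.subtype = f k := by
      intro k
      induction k with
      | zero =>
        change (⊤ : Subgroup Q).map Q.subtype = Q
        rw [← MonoidHom.range_eq_map, Subgroup.range_subtype]
      | succ k ih =>
        rw [Subgroup.lowerCentralSeries_succ, Subgroup.map_commutator, ih, ← MonoidHom.range_eq_map,
          Subgroup.range_subtype]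
    haveI : Group.IsNilpotent Q := hQ.isNilpotent
    have hex : ∃ k, f k ≤ Subgroup.center G := by
      obtain ⟨k, hk⟩ := nilpotent_iff_lowerCentralSeries.1 (inferInstance : Group.IsNilpotent Q)
      exact ⟨k, by rw [← hfmap, hk, Subgroup.map_bot]; exact bot_le⟩
    by_contra hcon
    obtain ⟨k, hk⟩ : ∃ k, Nat.find hex = k + 2 := by
      refine ⟨Nat.find hex - 2, ?_⟩
      have h0 : ¬ f 0 ≤ Subgroup.center G := fun h => hcon ((hfle 0).trans h)
      have h1 : ¬ f 1 ≤ Subgroup.center G := hcon
      have := Nat.find_spec hex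
      rcases hf : Nat.find hex with _ | _ | j
      · rw [hf] at this; exact absurd this h0
      · rw [hf] at this; exact absurd this h1
      · rfl
    have hcz : ⁅f (k + 1), Q⁆ ≤ Subgroup.center G := by
      have := Nat.find_spec hex
      rw [hk] at this
      exact this
    have hb : ⁅⁅f (k + 1), Q⁆, Q⁆ = ⊥ := by
      rw [Subgroup.commutator_eq_bot_iff_le_centralizer]
      exact hcz.trans (Subgroup.center_le_centralizer _)
    have hb' : ⁅⁅Q, f (k + 1)⁆, Q⁆ = ⊥ := by rwa [Subgroup.commutator_comm Q]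
    have h3 := Subgroup.commutator_commutator_eq_bot_of_rotate hb' hb
    rw [Subgroup.commutator_eq_bot_iff_le_centralizer] at h3
    have hkf : f (k + 1) ≤ ⁅Q, Q⁆ := by
      clear hk hcz hb hb' h3
      induction k with
      | zero => exact le_rfl
      | succ k ih => exact (hfle (k + 1)).trans ih
    have hc : f (k + 1) ≤ Subgroup.center G := habel _ (hfQ (k + 1)) (fun a ha b hb'' => by
      exact Subgroup.mem_centralizer_iff.1 (h3 (hkf hb'')) a ha) (fun a ha => (hfn (k + 1)).conj_mem a ha x)
    exact Nat.find_min hex (show k + 1 < Nat.find hex by omega) hc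
  -- Schur
  have hschur : ∀ X : Module.End K V, (∀ g ∈ Q, ρ g * X = X * ρ g) → ∃ c : K, X = c • 1 := by
    intro X hX
    obtain ⟨c, hc⟩ := Module.End.exists_eigenvalue X
    refine ⟨c, ?_⟩
    have hinv : ∀ g ∈ Q, Submodule.map (ρ g) (Module.End.eigenspace X c) ≤
        Module.End.eigenspace X c := by
      intro g hg
      rintro w ⟨u, hu, rfl⟩
      rw [SetLike.mem_coe, Module.End.mem_eigenspace_iff] at hu
      rw [Module.End.mem_eigenspace_iff, ← Module.End.mul_apply, ← hX g hg, Module.End.mul_apply,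
        hu, map_smul]
    rcases hirr (Module.End.eigenspace X c) hinv with h | h
    · exact absurd h hc
    · refine LinearMap.ext fun w => ?_
      have hw : w ∈ Module.End.eigenspace X c := h ▸ Submodule.mem_top
      rw [Module.End.mem_eigenspace_iff] at hw
      simp [hw]
  set Z : Subgroup Q := (Subgroup.center G).subgroupOf Q with hZdef
  have hmemZ : ∀ z : Q, z ∈ Z ↔ (z : G) ∈ Subgroup.center G := fun z => Iff.rfl
  have hsc : ∀ z : Q, z ∈ Z → ∃ c : K, ρ (z : G) = c • 1 := fun z hz => hschur _ fun g _ => by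
    rw [← map_mul, ← map_mul, Subgroup.mem_center_iff.1 ((hmemZ z).1 hz) g]
  let ψ : Q → K := fun z => if hz : z ∈ Z then (hsc z hz).choose else 0
  have hψ : ∀ z : Q, z ∈ Z → ρ (z : G) = ψ z • 1 := fun z hz => by
    rw [show ψ z = (hsc z hz).choose from dif_pos hz]
    exact (hsc z hz).choose_spec
  let η : Q →* Q := (MulAut.conjNormal x).toMonoidHom
  have hηit : ∀ k (e : Q), (((⇑η)^[k] e : Q) : G) = x ^ k * e * (x ^ k)⁻¹ := by
    intro k
    induction k with
    | zero => intro e; simp
    | succ k ih =>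
      intro e
      rw [Function.iterate_succ_apply']
      change ((MulAut.conjNormal x ((⇑η)^[k] e) : Q) : G) = _
      rw [MulAut.conjNormal_apply, ih, pow_succ']
      group
  have hηfix : ∀ z : Q, z ∈ Z → η z = z := fun z hz => Subtype.ext (by
    change ((MulAut.conjNormal x z : Q) : G) = _
    rw [MulAut.conjNormal_apply, Subgroup.mem_center_iff.1 ((hmemZ z).1 hz) x]
    group)
  have hcomm : ∀ u v : Q, ⁅u, v⁆ ∈ Z := fun u v => by
    rw [hmemZ]
    exact hQ' (Subgroup.commutator_mem_commutator u.2 v.2)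
  have hbase : Cfsg.Agent.FGS73.HHBase (show Q →* Module.End K V from ρ.comp Q.subtype) Z ψ η
      (ρ x) N := by
    refine ⟨fun z hz u => ?_, hcomm, hψ, ?_, fun e => ?_, fun z hz => ?_, fun z hz => ?_, ?_, ?_,
      fun e w => ?_⟩
    · have : z * u = u * z :=
        Subtype.ext (Subgroup.mem_center_iff.1 ((hmemZ z).1 hz) (u : G)).symm
      rw [this]
    · intro v hv
      by_contra hall
      push Not at hall
      apply hv
      have hzQ : ∀ u : Q, u * v = v * u := fun u => by
        rw [← commutatorElement_eq_one_iff_mul_comm]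
        apply Subtype.ext
        apply hfaith
        change ρ ((⁅u, v⁆ : Q) : G) = ρ 1
        rw [hψ _ (hcomm u v), hall u, one_smul, map_one]
      have hzc : (Subgroup.center Q).map Q.subtype ≤ Subgroup.center G :=
        habel _ (Subgroup.map_subtype_le _) (by
          rintro a ⟨a', ha', rfl⟩ b ⟨b', -, rfl⟩
          exact (congrArg Subtype.val (Subgroup.mem_center_iff.1 ha' b')).symm) (by
          rintro a ⟨a', ha', rfl⟩
          refine ⟨η a', ?_, MulAut.conjNormal_apply x a'⟩
          rw [SetLike.mem_coe, Subgroup.mem_center_iff]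
          intro g
          obtain ⟨g', rfl⟩ := (MulAut.conjNormal (H := Q) x).surjective g
          change _ * MulAut.conjNormal x a' = MulAut.conjNormal x a' * _
          rw [← map_mul, ← map_mul, Subgroup.mem_center_iff.1 ha' g'])
      exact hzc ⟨v, Subgroup.mem_center_iff.2 hzQ, rfl⟩
    · exact Subtype.ext (by rw [hηit, hxN]; simp)
    · rw [hηfix z hz]; exact hz
    · rw [hηfix z hz]
    · intro v i hi hiN hv
      rw [hmemZ] at hv
      set c : G := ((v⁻¹ * (⇑η)^[i] v : Q) : G) with hc
      have hcQ : c ∈ Q := SetLike.coe_mem _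
      have hcv : x ^ i * v * (x ^ i)⁻¹ = v * c := by
        rw [hc]; push_cast; rw [hηit]; group
      have hpowc : ∀ k : ℕ, (x ^ i) ^ k * v * ((x ^ i) ^ k)⁻¹ = v * c ^ k := by
        intro k
        induction k with
        | zero => simp
        | succ k ih =>
          have h1 : x ^ i * c * (x ^ i)⁻¹ = c := by
            rw [Subgroup.mem_center_iff.1 hv (x ^ i)]; group
          calc (x ^ i) ^ (k + 1) * v * ((x ^ i) ^ (k + 1))⁻¹
              = x ^ i * ((x ^ i) ^ k * v * ((x ^ i) ^ k)⁻¹) * (x ^ i)⁻¹ := by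
                rw [pow_succ']; group
            _ = (x ^ i * v * (x ^ i)⁻¹) * (x ^ i * c * (x ^ i)⁻¹) ^ k := by
                rw [ih, conj_pow]; group
            _ = v * c ^ (k + 1) := by rw [hcv, h1, mul_assoc, ← pow_succ']
      have hc1 : c = 1 := by
        have h1 := hpowc N
        rw [← pow_mul, mul_comm, pow_mul, hxN, one_pow, one_mul, inv_one, mul_one,
          left_eq_mul] at h1
        have h2 := Nat.dvd_gcd (dvd_refl (orderOf c)) (orderOf_dvd_of_pow_eq_one h1)
        rw [(hcopQ c hcQ).gcd_eq_one, Nat.dvd_one, orderOf_eq_one_iff] at h2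
        exact h2
      rw [hc1, mul_one] at hcv
      rw [hmemZ]
      refine hcent i hi hiN v v.2 ?_
      conv_rhs => rw [← hcv]
      group
    · rw [← map_pow, hxN, map_one]
    · change ρ x (ρ (e : G) w) = ρ ((MulAut.conjNormal x e : Q) : G) (ρ x w)
      rw [MulAut.conjNormal_apply, ← Module.End.mul_apply, ← map_mul, ← Module.End.mul_apply,
        ← map_mul]
      group
  have hE : (Nat.card Q : K) ≠ 0 := by
    rw [Ne, CharP.cast_eq_zero_iff K p]
    intro hd
    obtain ⟨l, hl⟩ := IsPGroup.iff_card.1 hQ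
    rw [hl] at hd
    exact hpq ((Nat.prime_dvd_prime_iff_eq hp hq).1 (hp.dvd_of_dvd_pow hd))
  have hidx : Z.index ≠ 1 := by
    intro h1
    rw [Subgroup.index_eq_one] at h1
    obtain ⟨c, hc⟩ := hschur (ρ x) fun g hg => by
      have hgz : (⟨g, hg⟩ : Q) ∈ Z := h1 ▸ Subgroup.mem_top _
      rw [← map_mul, ← map_mul, Subgroup.mem_center_iff.1 ((hmemZ _).1 hgz) x]
    have h2 : ((c - 1) • (1 : Module.End K V)) ^ N = 0 := by rw [sub_smul, one_smul, ← hc, hsN]
    rw [smul_pow, one_pow] at h2
    have h3 := (smul_eq_zero.1 h2).resolve_right hne1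
    have hc1 : c = 1 := sub_eq_zero.1 (pow_eq_zero_iff (by omega) |>.1 h3)
    rw [hc1, one_smul, ← map_one ρ] at hc
    have hx1 := hfaith hc
    rw [hN, Nat.card_zpowers, hx1, orderOf_one] at hNp
    exact lt_irrefl 1 hNp
  obtain ⟨hi, hN3, -, hsharp⟩ := hbase.exact_mod hm1 hm hE hnorm hidx
  have hs1 : N - 1 ≤ s := by
    by_contra h
    exact hsharp (pow_eq_zero_of_le (by omega) hs)
  refine ⟨hs1, hle, fun _ => ⟨?_, ?_⟩⟩
  · obtain ⟨l, hl⟩ := IsPGroup.iff_card.1 hQ
    have h1 : N - 1 ∣ q ^ l := by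
      rw [← hl]
      exact (dvd_pow_self _ (by omega : (2 : ℕ) ≠ 0)).trans (hi ▸ Z.index_dvd_card)
    obtain ⟨b, -, hb⟩ := (Nat.dvd_prime_pow hq).1 h1
    exact ⟨b, hb⟩
  · intro hQc
    apply hidx
    rw [Subgroup.index_eq_one, eq_top_iff]
    intro v _
    rw [hmemZ]
    refine habel Q le_rfl (fun a ha b hb => ?_) (fun a ha => Subgroup.Normal.conj_mem inferInstance a ha x) v.2
    exact congrArg Subtype.val (mul_comm' (⟨a, ha⟩ : Q) ⟨b, hb⟩)

end Cfsg.Agent.S4282
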