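import Cfsg.Statements.S4283
import Cfsg.Agent.Lib.Frobenius.Kernel

set_option autoImplicit false
open Cfsg

namespace Cfsg.Agent.S4283

/-- Let G be a finite group with centre Z and let K, H be abelian subgroups of G containing Z such that G/Z is a Frobenius group with complement H/Z and kernel K/Z. Then the conjugacy class sizes of G are exactly 1, [G : K] and [G : H], and these two indices are coprime. (This is the converse half of the characterization of finite groups whose conjugacy class sizes are exactly 1, m and n with m and n coprime.) -/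
theorem result {G : Type*} [Group G] [Finite G] (K H : Subgroup G) (hZK : Subgroup.center G ≤ K) (hZH : Subgroup.center G ≤ H) (hK : IsMulCommutative K) (hH : IsMulCommutative H) (hFrob : Cfsg.IsFrobeniusComplement (H.map (QuotientGroup.mk' (Subgroup.center G)))) (hker : Cfsg.frobeniusKernel (H.map (QuotientGroup.mk' (Subgroup.center G))) = (K.map (QuotientGroup.mk' (Subgroup.center G)) : Set (G ⧸ Subgroup.center G))) : Set.range (fun x : G => (Subgroup.centralizer ({x} : Set G)).index) = ({1, K.index, H.index} : Set ℕ) ∧ K.index.Coprime H.index := by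
  classical
  set Z := Subgroup.center G with hZ
  set π := QuotientGroup.mk' Z with hπ
  have hker' : π.ker = Z := QuotientGroup.ker_mk' Z
  have hπ1 : ∀ g : G, π g = 1 ↔ g ∈ Z := fun g => QuotientGroup.eq_one_iff g
  have hmemK : ∀ g : G, π g ∈ K.map π → g ∈ K := fun g hg => by
    have h1 : g ∈ (K.map π).comap π := hg
    rwa [Subgroup.comap_map_eq_self (hker'.trans_le hZK)] at h1
  have hmemH : ∀ g : G, π g ∈ H.map π → g ∈ H := fun g hg => by
    have h1 : g ∈ (H.map π).comap π := hg
    rwa [Subgroup.comap_map_eq_self (hker'.trans_le hZH)] at h1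
  have hiK : (K.map π).index = K.index := by
    rw [Subgroup.index_map, hker', sup_eq_left.mpr hZK, MonoidHom.range_eq_top.mpr (QuotientGroup.mk'_surjective Z), Subgroup.index_top, mul_one]
  have hiH : (H.map π).index = H.index := by
    rw [Subgroup.index_map, hker', sup_eq_left.mpr hZH, MonoidHom.range_eq_top.mpr (QuotientGroup.mk'_surjective Z), Subgroup.index_top, mul_one]
  obtain ⟨N, hNeq, hNn, hNc⟩ := Cfsg.Agent.Frobenius.exists_frobeniusKernel_subgroup hFrob
  have hNK : N = K.map π := SetLike.coe_injective (hNeq.trans hker)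
  have hcop : K.index.Coprime H.index := by
    have h1 := Cfsg.Agent.Frobenius.coprime_card_index hFrob
    rw [← hNK] at hiK
    rw [hiH, ← hNc.symm.index_eq_card, hiK] at h1
    exact h1
  -- centralizers
  have hCK : ∀ x ∈ K, x ∉ Z → Subgroup.centralizer ({x} : Set G) = K := by
    intro x hx hxZ
    refine le_antisymm (fun g hg => hmemK g ?_) fun g hg =>
      Subgroup.mem_centralizer_singleton_iff.mpr (congrArg Subtype.val (hK.is_comm.comm ⟨g, hg⟩ ⟨x, hx⟩))
    rw [← SetLike.mem_coe, ← hker]
    by_contra hgk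
    obtain ⟨hg1, a, ha⟩ := Cfsg.Agent.Frobenius.exists_conj_of_not_mem_frobeniusKernel hgk
    have hc : π g * π x = π x * π g := by
      rw [← map_mul, ← map_mul, Subgroup.mem_centralizer_singleton_iff.mp hg]
    have hxk : π x ∈ Cfsg.frobeniusKernel (H.map π) := by
      rw [hker]; exact Subgroup.mem_map_of_mem π hx
    have hH' := Cfsg.Agent.Frobenius.isFrobeniusComplement_conj hFrob a
    have h2 := Cfsg.Agent.Frobenius.centralizer_le hH' hg1 ha
      (Subgroup.mem_centralizer_singleton_iff.mpr hc.symm)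
    exact hxZ ((hπ1 x).mp (Cfsg.Agent.Frobenius.eq_one_of_mem_frobeniusKernel_of_mem_conj hxk h2))
  have hCH : ∀ x ∈ H, x ∉ Z → Subgroup.centralizer ({x} : Set G) = H := by
    intro x hx hxZ
    refine le_antisymm (fun g hg => hmemH g ?_) fun g hg =>
      Subgroup.mem_centralizer_singleton_iff.mpr (congrArg Subtype.val (hH.is_comm.comm ⟨g, hg⟩ ⟨x, hx⟩))
    refine Cfsg.Agent.Frobenius.centralizer_le hFrob (fun h => hxZ ((hπ1 x).mp h))
      (Subgroup.mem_map_of_mem π hx) (Subgroup.mem_centralizer_singleton_iff.mpr ?_)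
    rw [← map_mul, ← map_mul, Subgroup.mem_centralizer_singleton_iff.mp hg]
  have hZtop : ∀ x ∈ Z, (Subgroup.centralizer ({x} : Set G)).index = 1 := fun x hx => by
    rw [Subgroup.index_eq_one, eq_top_iff]
    exact fun g _ => Subgroup.mem_centralizer_singleton_iff.mpr (Subgroup.mem_center_iff.mp hx g)
  refine ⟨Set.eq_of_subset_of_subset ?_ ?_, hcop⟩
  · rintro _ ⟨x, rfl⟩
    simp only [Set.mem_insert_iff, Set.mem_singleton_iff]
    by_cases hxZ : x ∈ Z
    · exact Or.inl (hZtop x hxZ)
    by_cases hxK : π x ∈ Cfsg.frobeniusKernel (H.map π)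
    · rw [hker] at hxK
      exact Or.inr (Or.inl (by rw [hCK x (hmemK x hxK) hxZ]))
    · obtain ⟨-, a, ha⟩ := Cfsg.Agent.Frobenius.exists_conj_of_not_mem_frobeniusKernel hxK
      obtain ⟨a, rfl⟩ := QuotientGroup.mk'_surjective Z a
      rw [Cfsg.Agent.Frobenius.mem_conj_smul, ← map_inv, ← map_mul, ← map_mul] at ha
      have hh : a⁻¹ * x * a ∉ Z := fun h => hxZ (by
        have h1 := (inferInstance : (Subgroup.center G).Normal).conj_mem _ h a
        simpa [mul_assoc] using h1)
      refine Or.inr (Or.inr ?_)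
      have heq : (Subgroup.centralizer ({x} : Set G)) =
          (Subgroup.centralizer ({a⁻¹ * x * a} : Set G)).map (MulAut.conj a).toMonoidHom := by
        ext g
        constructor
        · intro hg
          refine ⟨a⁻¹ * g * a, Subgroup.mem_centralizer_singleton_iff.mpr ?_, by simp [mul_assoc]⟩
          have h1 := Subgroup.mem_centralizer_singleton_iff.mp hg
          calc a⁻¹ * g * a * (a⁻¹ * x * a) = a⁻¹ * (g * x) * a := by group
            _ = a⁻¹ * (x * g) * a := by rw [h1]
            _ = a⁻¹ * x * a * (a⁻¹ * g * a) := by group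
        · rintro ⟨c, hc, rfl⟩
          refine Subgroup.mem_centralizer_singleton_iff.mpr ?_
          have h1 := Subgroup.mem_centralizer_singleton_iff.mp hc
          show a * c * a⁻¹ * x = x * (a * c * a⁻¹)
          calc a * c * a⁻¹ * x = a * (c * (a⁻¹ * x * a)) * a⁻¹ := by group
            _ = a * (a⁻¹ * x * a * c) * a⁻¹ := by rw [h1]
            _ = x * (a * c * a⁻¹) := by group
      rw [heq, hCH _ (hmemH _ ha) hh]
      exact Subgroup.index_map_equiv H (MulAut.conj a)
  · rintro n (rfl | rfl | rfl)
    · exact ⟨1, hZtop 1 (one_mem _)⟩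
    · obtain ⟨y, hy, hy1⟩ := Cfsg.Agent.Frobenius.exists_ne_one_mem_frobeniusKernel hFrob |> fun ⟨y, a, b⟩ =>
        (⟨y, by first | exact a | exact b, by first | exact a | exact b⟩ :
          ∃ y, y ∈ Cfsg.frobeniusKernel (H.map π) ∧ y ≠ 1)
      rw [hker] at hy
      obtain ⟨x, hx, rfl⟩ := hy
      exact ⟨x, by show (Subgroup.centralizer ({x} : Set G)).index = _; rw [hCK x hx fun h => hy1 ((hπ1 x).mpr h)]⟩
    · obtain ⟨y, hy, hy1⟩ := Cfsg.Agent.Frobenius.exists_ne_one_mem hFrob
      obtain ⟨x, hx, rfl⟩ := hy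
      exact ⟨x, by show (Subgroup.centralizer ({x} : Set G)).index = _; rw [hCH x hx fun h => hy1 ((hπ1 x).mpr h)]⟩

end Cfsg.Agent.S4283
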