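import Cfsg.Statements.S4291
import Cfsg.Agent.FPFStructure.ZassenhausMain

set_option autoImplicit false
open Cfsg

namespace Cfsg.Agent.S4291

/-- Let G be a finite group that occurs as a Frobenius complement. Then G has exactly one normal subgroup N such that every Sylow subgroup of N is cyclic and the quotient of G by N is trivial or isomorphic to one of the following five groups: the Klein four-group, the alternating group of degree 4, the symmetric group of degree 4, the alternating group of degree 5, the symmetric group of degree 5. (The quotient is described by a surjective homomorphism with kernel N; the Klein four-group is written as the dihedral group of order 4.) -/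
theorem result {G : Type*} [Group G] [Finite G]
    (hFC : (∃ (L : Type) (_ : Group L) (_ : Finite L) (H : Subgroup L), Cfsg.IsFrobeniusComplement H ∧ Nonempty (G ≃* H))) :
    ∃! N : Subgroup G, N.Normal ∧ (∀ (p : ℕ) [Fact p.Prime] (P : Sylow p N), IsCyclic P) ∧
      (N = ⊤ ∨
        (∃ f : G →* DihedralGroup 2, Function.Surjective f ∧ f.ker = N) ∨
        (∃ f : G →* alternatingGroup (Fin 4), Function.Surjective f ∧ f.ker = N) ∨
        (∃ f : G →* Equiv.Perm (Fin 4), Function.Surjective f ∧ f.ker = N) ∨
        (∃ f : G →* alternatingGroup (Fin 5), Function.Surjective f ∧ f.ker = N) ∨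
        (∃ f : G →* Equiv.Perm (Fin 5), Function.Surjective f ∧ f.ker = N)) := by
  have key : ∀ N : Subgroup G, N.Normal → (∀ (p : ℕ) [Fact p.Prime] (P : Sylow p N), IsCyclic P) →
      IsZGroup N := fun N _ h => (isZGroup_iff N).2 fun p hp P => @h p ⟨hp⟩ P
  have hback : ∀ N : Subgroup G, IsZGroup N →
      ∀ (p : ℕ) [Fact p.Prime] (P : Sylow p N), IsCyclic P := fun N h p _ P => by
    haveI := h
    infer_instance
  rcases FPFStructure.exists_quotient hFC with hZ | ⟨hs, N, hn, hNZ, hsm, huniq⟩ |
    ⟨hns, N, hn, hNZ, h5, huniq⟩
  · haveI := hZ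
    refine ⟨⊤, ⟨inferInstance, hback ⊤ inferInstance, Or.inl rfl⟩, ?_⟩
    rintro N' ⟨hn', hz', h | h | h | h | h | h⟩
    · exact h
    · exact absurd hZ (FPFStructure.Small.not_isZGroup (N := N') (Or.inl h))
    · exact absurd hZ (FPFStructure.Small.not_isZGroup (N := N') (Or.inr (Or.inl h)))
    · exact absurd hZ (FPFStructure.Small.not_isZGroup (N := N') (Or.inr (Or.inr h)))
    · exact absurd (inferInstance : Group.IsSolvable G) (FPFStructure.Five.not_isSolvable (N := N') (Or.inl h))
    · exact absurd (inferInstance : Group.IsSolvable G) (FPFStructure.Five.not_isSolvable (N := N') (Or.inr h))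
  · refine ⟨N, ⟨hn, hback N hNZ, ?_⟩, ?_⟩
    · rcases hsm with h | h | h
      exacts [Or.inr (Or.inl h), Or.inr (Or.inr (Or.inl h)), Or.inr (Or.inr (Or.inr (Or.inl h)))]
    rintro N' ⟨hn', hz', h | h | h | h | h | h⟩
    · exfalso
      haveI := key N' hn' hz'
      have hT : IsZGroup (⊤ : Subgroup G) := h ▸ this
      haveI := hT
      exact FPFStructure.Small.not_isZGroup hsm
        (IsZGroup.of_injective (f := (Subgroup.topEquiv (G := G)).symm.toMonoidHom)
          (Subgroup.topEquiv (G := G)).symm.injective)
    · exact huniq N' hn' (key N' hn' hz') (Or.inl h)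
    · exact huniq N' hn' (key N' hn' hz') (Or.inr (Or.inl h))
    · exact huniq N' hn' (key N' hn' hz') (Or.inr (Or.inr h))
    · exact absurd hs (FPFStructure.Five.not_isSolvable (N := N') (Or.inl h))
    · exact absurd hs (FPFStructure.Five.not_isSolvable (N := N') (Or.inr h))
  · refine ⟨N, ⟨hn, hback N hNZ, ?_⟩, ?_⟩
    · rcases h5 with h | h
      exacts [Or.inr (Or.inr (Or.inr (Or.inr (Or.inl h)))), Or.inr (Or.inr (Or.inr (Or.inr (Or.inr h))))]
    rintro N' ⟨hn', hz', h | h | h | h | h | h⟩
    · exfalso
      haveI := key N' hn' hz'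
      apply hns
      haveI : Group.IsSolvable N' := inferInstance
      have hT : Group.IsSolvable (⊤ : Subgroup G) := h ▸ this
      haveI := hT
      exact Group.isSolvable_of_surjective (f := (Subgroup.topEquiv (G := G)).toMonoidHom)
        (Subgroup.topEquiv (G := G)).surjective
    · exfalso
      haveI := key N' hn' hz'
      exact hns (FPFStructure.isSolvable_of_small (N := N') inferInstance (Or.inl h))
    · exfalso
      haveI := key N' hn' hz'
      exact hns (FPFStructure.isSolvable_of_small (N := N') inferInstance (Or.inr (Or.inl h)))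
    · exfalso
      haveI := key N' hn' hz'
      exact hns (FPFStructure.isSolvable_of_small (N := N') inferInstance (Or.inr (Or.inr h)))
    · exact huniq N' hn' (key N' hn' hz') (Or.inl h)
    · exact huniq N' hn' (key N' hn' hz') (Or.inr h)

end Cfsg.Agent.S4291
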