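import Cfsg.Statements.S4293
import Cfsg.Agent.FGS80.FPF
import Mathlib.GroupTheory.Finiteness
import Mathlib.LinearAlgebra.FreeModule.PID
import Mathlib.RingTheory.Finiteness.Basic
import Mathlib.GroupTheory.FiniteAbelian.Basic
import Mathlib.Algebra.CharP.Basic

set_option autoImplicit false
open Cfsg

namespace Cfsg.Agent.S4293

open scoped BigOperators

/-- Left multiplication by a unit of `H` preserves the additive subgroup generated by `H`. -/
lemma mul_mem_span {D : Type*} [DivisionRing D] (H : Subgroup Dˣ) {h : Dˣ} (hh : h ∈ H) {x : D}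
    (hx : x ∈ Submodule.span ℤ ((fun u : Dˣ => (u : D)) '' (H : Set Dˣ))) :
    (h : D) * x ∈ Submodule.span ℤ ((fun u : Dˣ => (u : D)) '' (H : Set Dˣ)) := by
  induction hx using Submodule.span_induction with
  | mem y hy =>
    obtain ⟨u, hu, rfl⟩ := hy
    exact Submodule.subset_span ⟨h * u, mul_mem hh hu, Units.val_mul h u⟩
  | zero => simp
  | add y z _ _ hy hz => rw [mul_add]; exact add_mem hy hz
  | smul n y _ hy => rw [mul_smul_comm]; exact Submodule.smul_mem _ n hy

/-- A nontrivial finite subgroup of the multiplicative group of a division ring occurs as a Frobenius complement of some finite Frobenius group. -/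
theorem result {D : Type*} [DivisionRing D] (H : Subgroup Dˣ) [Finite H] (hH : H ≠ ⊥) :
    ∃ (L : Type) (_ : Group L) (_ : Finite L) (C : Subgroup L), Cfsg.IsFrobeniusComplement C ∧ Nonempty (H ≃* C) := by
  classical
  have : Nontrivial H := (Subgroup.nontrivial_iff_ne_bot H).mpr hH
  set M : Submodule ℤ D := Submodule.span ℤ ((fun u : Dˣ => (u : D)) '' (H : Set Dˣ)) with hM
  have : Module.Finite ℤ M := Module.Finite.iff_fg.mpr (Submodule.fg_span (Set.toFinite _))
  let one' : M := ⟨1, Submodule.subset_span ⟨1, H.one_mem, rfl⟩⟩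
  -- a prime `q` prime to `#H` for which `M ≠ qM`
  obtain ⟨q, hq, hqH, hqM⟩ : ∃ q : ℕ, q.Prime ∧ ¬ q ∣ Nat.card H ∧ ∀ y : M, q • y ≠ one' := by
    obtain ⟨c, hc⟩ := CharP.exists D
    rcases eq_or_ne c 0 with rfl | hc0
    · have : CharZero D := CharP.charP_to_charZero D
      have : Module.Free ℤ M := inferInstance
      let b := Module.Free.chooseBasis ℤ M
      obtain ⟨i, hi⟩ : ∃ i, b.repr one' i ≠ 0 := by
        by_contra hall
        push Not at hall
        have h0 : b.repr one' = 0 := Finsupp.ext hall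
        rw [LinearEquiv.map_eq_zero_iff] at h0
        exact one_ne_zero (congrArg Subtype.val h0 : (1 : D) = 0)
      obtain ⟨q, hqge, hq⟩ := Nat.exists_infinite_primes (Nat.card H + (b.repr one' i).natAbs + 1)
      refine ⟨q, hq, fun hd => ?_, fun y hy => ?_⟩
      · have := Nat.le_of_dvd Nat.card_pos hd
        omega
      · have h1 := congrArg (fun z => (b.repr z i).natAbs) hy
        simp only [map_nsmul, Finsupp.smul_apply, nsmul_eq_mul, Int.natAbs_mul,
          Int.natAbs_natCast] at h1
        have := Nat.le_of_dvd (Int.natAbs_pos.mpr hi) (Dvd.intro _ h1)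
        omega
    · have hcp : c.Prime := (CharP.char_is_prime_or_zero D c).resolve_right hc0
      have : Fact c.Prime := ⟨hcp⟩
      refine ⟨c, hcp, fun hd => ?_, fun y hy => ?_⟩
      · obtain ⟨h, hh⟩ := exists_prime_orderOf_dvd_card' c hd
        have h1 : (((h : Dˣ) : D) - 1) ^ c = 0 := by
          rw [sub_pow_char_of_commute c (Commute.one_right _), one_pow,
            ← Units.val_pow_eq_pow_val, ← SubmonoidClass.coe_pow, ← hh, pow_orderOf_eq_one]
          simp
        have h2 : h = 1 := Subtype.ext (Units.ext (sub_eq_zero.mp (pow_eq_zero_iff hcp.ne_zero |>.mp h1)))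
        rw [h2, orderOf_one] at hh
        exact hcp.ne_one hh.symm
      · have h1 : c • (y : D) = 1 := congrArg Subtype.val hy
        rw [nsmul_eq_mul, CharP.cast_eq_zero, zero_mul] at h1
        exact zero_ne_one h1
  -- the reduction `V = M / qM`
  let N : AddSubgroup M := (nsmulAddMonoidHom q : M →+ M).range
  have hN : ∀ x : M, x ∈ N ↔ ∃ y : M, q • y = x := fun x => Iff.rfl
  let act : H → (M →+ M) := fun h =>
    { toFun := fun x => ⟨((h : Dˣ) : D) * x, mul_mem_span H h.2 x.2⟩
      map_zero' := Subtype.ext (mul_zero _)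
      map_add' := fun x y => Subtype.ext (mul_add _ _ _) }
  have hact1 : ∀ x, act 1 x = x := fun x => Subtype.ext (one_mul _)
  have hactmul : ∀ h h' x, act (h * h') x = act h (act h' x) := fun h h' x =>
    Subtype.ext (mul_assoc _ _ _)
  let qact : H → (M ⧸ N →+ M ⧸ N) := fun h => QuotientAddGroup.map N N (act h) (by
    rintro x ⟨y, rfl⟩
    exact ⟨act h y, (map_nsmul (act h) q y).symm⟩)
  have hq1 : ∀ v, qact 1 v = v := by
    intro v
    obtain ⟨x, rfl⟩ := QuotientAddGroup.mk'_surjective N v
    exact congrArg _ (hact1 x)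
  have hqmul : ∀ h h' v, qact (h * h') v = qact h (qact h' v) := by
    intro h h' v
    obtain ⟨x, rfl⟩ := QuotientAddGroup.mk'_surjective N v
    exact congrArg _ (hactmul h h' x)
  let φ : H →* MulAut (Multiplicative (M ⧸ N)) :=
    { toFun := fun h =>
        { toFun := fun v => Multiplicative.ofAdd (qact h v.toAdd)
          invFun := fun v => Multiplicative.ofAdd (qact h⁻¹ v.toAdd)
          left_inv := fun v => by simp [← hqmul, hq1]
          right_inv := fun v => by simp [← hqmul, hq1]
          map_mul' := fun v w => by simp }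
      map_one' := by ext v; simp [hq1]
      map_mul' := fun h h' => by ext v; simp [hqmul] }
  have : Finite (M ⧸ N) := by
    have : AddGroup.FG M := Module.Finite.iff_addGroup_fg.mp inferInstance
    refine AddCommGroup.finite_of_fg_torsion _ fun v => ?_
    rw [isOfFinAddOrder_iff_nsmul_eq_zero]
    refine ⟨q, hq.pos, ?_⟩
    obtain ⟨x, rfl⟩ := QuotientAddGroup.mk'_surjective N v
    rw [← map_nsmul]
    exact (QuotientAddGroup.eq_zero_iff _).mpr ⟨x, rfl⟩
  have : Nontrivial (Multiplicative (M ⧸ N)) := by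
    refine ⟨Multiplicative.ofAdd (QuotientAddGroup.mk one'), 1, fun h => ?_⟩
    obtain ⟨y, hy⟩ := (QuotientAddGroup.eq_zero_iff one').mp h
    exact hqM y hy
  have hfp : ∀ g : H, g ≠ 1 → ∀ v, φ g v = v → v = 1 := fun h hh v hv => by
    obtain ⟨x, hx⟩ := QuotientAddGroup.mk'_surjective N v.toAdd
    have hx0 : ((act h x - x : M)) ∈ N := by
      rw [← QuotientAddGroup.eq_zero_iff, QuotientAddGroup.mk_sub, sub_eq_zero]
      have : qact h v.toAdd = v.toAdd := congrArg Multiplicative.toAdd hv
      rw [← hx] at this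
      exact this
    obtain ⟨y, hy⟩ := hx0
    have hy' : ((h : Dˣ) : D) * (x : D) - (x : D) = q • (y : D) := (congrArg Subtype.val hy).symm
    -- summing over the powers of `h`
    set d := orderOf h with hd
    have hne : ((h : Dˣ) : D) - 1 ≠ 0 := sub_ne_zero.mpr fun h1 => hh (Subtype.ext (Units.ext h1))
    have hpow : ((h : Dˣ) : D) ^ d = 1 := by
      rw [hd, ← Units.val_pow_eq_pow_val, ← SubmonoidClass.coe_pow, pow_orderOf_eq_one]
      simp
    have hsum : ∑ i ∈ Finset.range d, ((h : Dˣ) : D) ^ i = 0 := by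
      have := mul_geom_sum ((h : Dˣ) : D) d
      rw [hpow, sub_self, mul_eq_zero] at this
      exact this.resolve_left hne
    have hstep : ∀ i, ∃ z : M, ((h : Dˣ) : D) ^ i * (x : D) - (x : D) = q • (z : D) := by
      intro i
      induction i with
      | zero => exact ⟨0, by simp⟩
      | succ i ih =>
        obtain ⟨z, hz⟩ := ih
        refine ⟨act h z + y, ?_⟩
        show _ = q • (((h : Dˣ) : D) * (z : D) + (y : D))
        rw [smul_add, ← hy', ← mul_smul_comm, ← hz, pow_succ', mul_sub, mul_assoc]
        abel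
    choose z hz using hstep
    have hdx : (d : ℕ) • (x : D) = q • ((-∑ i ∈ Finset.range d, z i : M) : D) := by
      push_cast
      rw [smul_neg, Finset.smul_sum, ← Finset.sum_neg_distrib]
      simp only [← hz, neg_sub, Finset.sum_sub_distrib, ← Finset.sum_mul, hsum, zero_mul, sub_zero,
        Finset.sum_const, Finset.card_range]
    have hcop : Nat.Coprime d q :=
      (hq.coprime_iff_not_dvd.mpr fun hdd => hqH (hdd.trans (orderOf_dvd_natCard h))).symm
    have hbez := Nat.gcd_eq_gcd_ab d q
    rw [hcop] at hbez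
    refine Multiplicative.toAdd.injective ?_
    rw [toAdd_one, ← hx]
    refine (QuotientAddGroup.eq_zero_iff x).mpr ⟨Nat.gcdA d q • (-∑ i ∈ Finset.range d, z i) + Nat.gcdB d q • x, ?_⟩
    apply Subtype.ext
    show q • ((Nat.gcdA d q • (-∑ i ∈ Finset.range d, z i) + Nat.gcdB d q • x : M) : D) = (x : D)
    conv_rhs => rw [← one_smul ℤ (x : D), show (1 : ℤ) = _ from hbez]
    simp only [Submodule.coe_add, SetLike.val_smul, smul_add, add_smul, mul_smul, natCast_zsmul]
    rw [smul_comm (q : ℕ) (Nat.gcdA d q), smul_comm (d : ℕ) (Nat.gcdA d q), hdx]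
  obtain ⟨L, i1, i2, C, hC, hiso, -⟩ := FGS80.exists_frobenius_of_fpf φ hfp
  exact ⟨L, i1, i2, C, hC, hiso⟩

end Cfsg.Agent.S4293
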