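import Cfsg.Statements.S4294
import Cfsg.Agent.S3359
import Cfsg.Agent.FGS80.DivisionFC
import Cfsg.Agent.FGS80.DivisionQuaternion
import Cfsg.Agent.Lib.LinearGroup.Card

set_option autoImplicit false
open Cfsg

namespace Cfsg.Agent.S4294

open Matrix

instance : Fact (Nat.Prime 5) := ⟨by norm_num⟩

/-- `SL(2,5)`. -/
abbrev SL25 := Matrix.SpecialLinearGroup (Fin 2) (ZMod 5)

def tX : SL25 := ⟨!![1, 1; 0, 1], by decide⟩
def tX' : SL25 := ⟨!![1, 0; 1, 1], by decide⟩
def tY : SL25 := ⟨!![2, 0; 0, 3], by decide⟩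
def tN : SL25 := ⟨!![4, 0; 0, 4], by decide⟩

theorem forall_SL25 {P : Matrix (Fin 2) (Fin 2) (ZMod 5) → Prop}
    (h : ∀ a b c d : ZMod 5, a * d - b * c = 1 → P !![a, b; c, d]) (w : SL25) :
    P (w : Matrix (Fin 2) (Fin 2) (ZMod 5)) := by
  rw [Matrix.eta_fin_two (w : Matrix (Fin 2) (Fin 2) (ZMod 5))]
  refine h _ _ _ _ ?_
  rw [← Matrix.det_fin_two]
  exact w.2

set_option maxHeartbeats 1000000 in
theorem mat_invert : ∀ a b c d : ZMod 5, a * d - b * c = 1 →
    !![a, b; c, d] * !![1, 1; 0, 1] =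
      !![1, 1; 0, 1] * !![1, 1; 0, 1] * !![1, 1; 0, 1] * !![1, 1; 0, 1] * !![a, b; c, d] →
    !![a, b; c, d] * !![a, b; c, d] = !![4, 0; 0, 4] := by decide +kernel

set_option maxHeartbeats 1000000 in
theorem mat_cent : ∀ a b c d : ZMod 5, a * d - b * c = 1 →
    !![a, b; c, d] * !![1, 1; 0, 1] = !![1, 1; 0, 1] * !![a, b; c, d] →
    !![a, b; c, d] * !![1, 0; 1, 1] = !![1, 0; 1, 1] * !![a, b; c, d] →
    !![a, b; c, d] * !![a, b; c, d] = !![1, 0; 0, 1] := by decide +kernel

set_option maxHeartbeats 1000000 in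
theorem mat_five : ∀ a b c d : ZMod 5, a * d - b * c = 1 →
    !![a, b; c, d] ^ 5 = 1 → (!![1, 1; 0, 1] * !![a, b; c, d]) ^ 5 = !![4, 0; 0, 4] →
    ∃ l : Fin 5, !![a, b; c, d] * !![1, 1; 0, 1] ^ (l : ℕ) =
      !![1, 1; 0, 1] ^ (l : ℕ) * !![1, 0; 1, 1] := by decide +kernel

theorem invert_X (w : SL25) (h : w * tX = tX ^ 4 * w) : w * w = tN := by
  apply Subtype.ext
  refine forall_SL25 (P := fun A => A * (tX : Matrix (Fin 2) (Fin 2) (ZMod 5)) =
    (tX : Matrix (Fin 2) (Fin 2) (ZMod 5)) * tX * tX * tX * A → A * A = (tN : Matrix (Fin 2) (Fin 2) (ZMod 5)))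
    mat_invert w ?_
  have := congrArg Subtype.val h
  simpa [pow_succ] using this

theorem cent_XX' (w : SL25) (h : w * tX = tX * w) (h' : w * tX' = tX' * w) : w * w = 1 := by
  apply Subtype.ext
  show _ = (1 : Matrix (Fin 2) (Fin 2) (ZMod 5))
  rw [Matrix.one_fin_two]
  refine forall_SL25 (P := fun A => A * (tX : Matrix (Fin 2) (Fin 2) (ZMod 5)) = tX * A →
    A * (tX' : Matrix (Fin 2) (Fin 2) (ZMod 5)) = tX' * A → A * A = !![1, 0; 0, 1]) mat_cent w ?_ ?_
  · exact congrArg Subtype.val h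
  · exact congrArg Subtype.val h'

theorem five_cases (z : SL25) (h : z ^ 5 = 1) (h' : (tX * z) ^ 5 = tN) :
    ∃ l : Fin 5, z * tX ^ (l : ℕ) = tX ^ (l : ℕ) * tX' := by
  have key := forall_SL25 (P := fun A => A ^ 5 = 1 →
    ((tX : Matrix (Fin 2) (Fin 2) (ZMod 5)) * A) ^ 5 = (tN : Matrix (Fin 2) (Fin 2) (ZMod 5)) →
    ∃ l : Fin 5, A * (tX : Matrix (Fin 2) (Fin 2) (ZMod 5)) ^ (l : ℕ) =
      (tX : Matrix (Fin 2) (Fin 2) (ZMod 5)) ^ (l : ℕ) * tX') mat_five z
  obtain ⟨l, hl⟩ := key (by rw [← Matrix.SpecialLinearGroup.coe_pow, h]; rfl)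
    (by rw [← Matrix.SpecialLinearGroup.coe_mul, ← Matrix.SpecialLinearGroup.coe_pow, h'])
  refine ⟨l, Subtype.ext ?_⟩
  simpa [Matrix.SpecialLinearGroup.coe_mul, Matrix.SpecialLinearGroup.coe_pow] using hl

/-- A finite non-solvable subgroup of the multiplicative group of a division ring is isomorphic to the binary icosahedral group SL(2,5). -/
theorem result {D : Type*} [DivisionRing D] (H : Subgroup Dˣ) [Finite H] (hH : ¬ Group.IsSolvable H) :
    Nonempty (H ≃* Matrix.SpecialLinearGroup (Fin 2) (ZMod 5)) := by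
  classical
  haveI : CharZero D := FGS80.DivisionFC.charZero H hH
  haveI : Nontrivial H := by
    by_contra h
    rw [not_nontrivial_iff_subsingleton] at h
    exact hH (isSolvable_of_comm fun a b => Subsingleton.elim _ _)
  obtain ⟨G₀, -, hidx, S, M, hsup, -, hcomm, ⟨e⟩, -, hM30⟩ :=
    S3359.result hH (FGS80.DivisionFC.frobenius_complement H)
  let ι : ↥H →* D := (Units.coeHom D).comp H.subtype
  have hι : Function.Injective ι := fun a b h => Subtype.ext (Units.ext h)
  let f : SL25 →* ↥H := S.subtype.comp e.symm.toMonoidHom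
  have hf : Function.Injective f := S.subtype_injective.comp e.symm.injective
  have hfS : ∀ w, f w ∈ S := fun w => (e.symm w).2
  have hfe : ∀ (g : ↥H) (hg : g ∈ S), f (e ⟨g, hg⟩) = g := fun g hg =>
    congrArg Subtype.val (e.symm_apply_apply ⟨g, hg⟩)
  have hinvol : ∀ g : ↥H, g * g = 1 → g ≠ 1 → ι g = -1 := by
    intro g hg hg1
    rcases FGS80.DivisionQuaternion.sq_eq (Commute.one_right (ι g))
      (by rw [← map_mul, hg, map_one, one_mul]) with h | h
    · exact absurd (hι (h.trans (map_one ι).symm)) hg1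
    · exact h
  have hN : ι (f tN) = -1 := hinvol _ (by rw [← map_mul, show tN * tN = 1 by decide, map_one])
    (fun h => absurd (hf (h.trans (map_one f).symm)) (by decide))
  set x := ι (f tX) with hxdef
  set y := ι (f tY) with hydef
  have hx5 : x ^ 5 = 1 := by
    rw [hxdef, ← map_pow, ← map_pow, show tX ^ 5 = 1 by decide, map_one, map_one]
  have hx1 : x ≠ 1 := fun h =>
    absurd (hf ((hι (h.trans (map_one ι).symm)).trans (map_one f).symm)) (by decide : tX ≠ 1)
  have hyx : y * x = x ^ 4 * y := by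
    rw [hxdef, hydef, ← map_pow, ← map_pow, ← map_mul, ← map_mul, ← map_mul, ← map_mul,
      show tY * tX = tX ^ 4 * tY by decide]
  have hyy : y * y = -1 := by
    rw [hydef, ← map_mul, ← map_mul, show tY * tY = tN by decide, hN]
  have hMbot : M = ⊥ := by
    by_contra hM
    obtain ⟨r, hr, hrM⟩ := Nat.exists_prime_and_dvd
      (fun h => hM (Subgroup.eq_bot_of_card_eq _ h))
    haveI : Fact r.Prime := ⟨hr⟩
    obtain ⟨⟨z, hzM⟩, hz⟩ := exists_prime_orderOf_dvd_card' (G := ↥M) r hrM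
    rw [Subgroup.orderOf_mk] at hz
    have h7 : 7 ≤ r := by
      by_contra h
      have h30 : ¬ r ∣ 30 := fun hd =>
        hr.ne_one (Nat.eq_one_of_dvd_coprimes hM30 hrM hd)
      have := hr.two_le
      interval_cases r <;> norm_num at *
    have hzc : ∀ w, Commute (ι z) (ι (f w)) := fun w =>
      (Commute.map (show Commute (f w) z from hcomm _ (hfS w) z hzM) ι).symm
    exact FGS80.DivisionQuaternion.no_root hr h7 (by rw [orderOf_injective ι hι, hz]) hx5 hx1 hyx
      hyy (hzc tX) (hzc tY)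
  rw [hMbot, sup_bot_eq] at hsup
  subst hsup
  rcases hidx with h1 | h2
  · rw [Subgroup.index_eq_one] at h1
    exact ⟨(Subgroup.topEquiv.symm.trans (MulEquiv.subgroupCongr h1.symm)).trans e⟩
  exfalso
  haveI : S.Normal := Subgroup.normal_of_index_eq_two h2
  -- an element outside `S` normalising the Sylow 5-subgroup
  have hcS : Nat.card S = 120 := by
    rw [Nat.card_congr e.toEquiv, LinearGroup.card_SL_two, Nat.card_zmod]; norm_num
  have hoX : orderOf (e.symm tX) = 5 := by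
    rw [MulEquiv.orderOf_eq]
    exact orderOf_eq_prime (by decide) (by decide)
  let P : Sylow 5 ↥S := Sylow.ofCard (Subgroup.zpowers (e.symm tX)) (by
    rw [Nat.card_zpowers, hoX, hcS, show (120 : ℕ) = 5 ^ 1 * 24 by norm_num,
      Nat.factorization_mul (by norm_num) (by norm_num)]
    simp [(show Nat.Prime 5 by norm_num).factorization_self,
      Nat.factorization_eq_zero_of_not_dvd (show ¬ 5 ∣ 24 by norm_num)])
  have hPmap : (P : Subgroup ↥S).map S.subtype = Subgroup.zpowers (f tX) := by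
    show (Subgroup.zpowers (e.symm tX)).map S.subtype = _
    rw [MonoidHom.map_zpowers]; rfl
  have hfr := P.normalizer_sup_eq_top
  rw [hPmap] at hfr
  obtain ⟨n₀, hn₀, hn₀S⟩ : ∃ n ∈ Subgroup.normalizer (Subgroup.zpowers (f tX) : Set ↥H), n ∉ S := by
    by_contra h
    push Not at h
    rw [sup_eq_right.2 h] at hfr
    rw [hfr, Subgroup.index_top] at h2
    omega
  obtain ⟨i, hi⟩ := Subgroup.mem_zpowers_iff.1
    ((Subgroup.mem_normalizer_iff.1 hn₀ (f tX)).1 (Subgroup.mem_zpowers _))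
  -- `a ∈ {1, 2}` after multiplying by `tY`
  have hfx5 : f tX ^ 5 = 1 := by rw [← map_pow, show tX ^ 5 = 1 by decide, map_one]
  obtain ⟨a, ha5, ha⟩ : ∃ a : ℕ, a < 5 ∧ n₀ * f tX = f tX ^ a * n₀ := by
    refine ⟨(i % 5).toNat, by omega, ?_⟩
    have h := zpow_eq_zpow_emod' i hfx5
    rw [hi] at h
    have h' : ((i % 5).toNat : ℤ) = i % 5 := Int.toNat_of_nonneg (Int.emod_nonneg _ (by norm_num))
    rw [← zpow_natCast, h', ← mul_inv_eq_iff_eq_mul]
    exact h
  obtain ⟨n, hnS, hn⟩ : ∃ n : ↥H, n ∉ S ∧ (n * f tX = f tX * n ∨ n * f tX = f tX ^ 2 * n) := by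
    have hy' : ∀ k, f tY * f tX ^ k = f tX ^ (4 * k) * f tY := by
      intro k
      induction k with
      | zero => simp
      | succ k ih =>
        rw [pow_succ, ← mul_assoc, ih, mul_assoc, ← map_mul, show tY * tX = tX ^ 4 * tY by decide,
          map_mul, map_pow, ← mul_assoc, ← pow_add, mul_add, mul_one]
    have hyn : f tY * n₀ ∉ S := fun h => hn₀S ((Subgroup.mul_mem_cancel_left S (hfS tY)).1 h)
    have hred : ∀ k, f tX ^ (k + 5) = f tX ^ k := fun k => by rw [pow_add, hfx5, mul_one]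
    have hmove : f tY * n₀ * f tX = f tX ^ (4 * a) * (f tY * n₀) := by
      rw [mul_assoc, ha, ← mul_assoc, hy', mul_assoc]
    interval_cases a
    · rw [pow_zero, one_mul] at ha
      exact absurd (hf ((mul_eq_left.1 ha).trans (map_one f).symm)) (by decide : tX ≠ 1)
    · exact ⟨n₀, hn₀S, Or.inl (by rwa [pow_one] at ha)⟩
    · exact ⟨n₀, hn₀S, Or.inr ha⟩
    · refine ⟨_, hyn, Or.inr ?_⟩
      rw [hmove, show 4 * 3 = 7 + 5 from rfl, hred, show 7 = 2 + 5 from rfl, hred]
    · refine ⟨_, hyn, Or.inl ?_⟩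
      rw [hmove, show 4 * 4 = 11 + 5 from rfl, hred, show 11 = 6 + 5 from rfl, hred,
        show 6 = 1 + 5 from rfl, hred, pow_one]
  rcases hn with hn | hn
  · -- `n` centralises `X`; adjust it to centralise `X'`
    have hz : n * f tX' * n⁻¹ ∈ S := (inferInstance : S.Normal).conj_mem _ (hfS _) n
    obtain ⟨l, hl⟩ := five_cases (e ⟨_, hz⟩) (hf (by
      rw [map_pow, hfe, conj_pow, ← map_pow, show tX' ^ 5 = 1 by decide, map_one]
      group)) (hf (by
      rw [map_pow, map_mul, hfe]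
      have h5 : (f tX * (n * f tX' * n⁻¹)) ^ 5 = n * f tN * n⁻¹ := by
        have e1 : f tX * (n * f tX' * n⁻¹) = n * (f tX * f tX') * n⁻¹ := by
          rw [← mul_assoc, ← mul_assoc, ← hn, mul_assoc n (f tX)]
        rw [e1, conj_pow, ← map_mul, ← map_pow, show (tX * tX') ^ 5 = tN by decide]
      rw [h5]
      apply hι
      rw [map_mul, map_mul, hN, mul_neg, neg_mul, mul_one, ← map_mul, mul_inv_cancel, map_one]))
    set c := (f tX ^ (l : ℕ))⁻¹ * n with hc
    have hcS' : c ∉ S := fun h => hnS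
      ((Subgroup.mul_mem_cancel_left S (S.inv_mem (S.pow_mem (hfS tX) _))).1 h)
    have hcX : Commute c (f tX) :=
      ((Commute.refl (f tX)).pow_left _).inv_left.mul_left hn
    have hcX' : Commute c (f tX') := by
      have h := congrArg f hl
      rw [map_mul, map_mul, map_pow, hfe] at h
      show c * f tX' = f tX' * c
      have h' : f tX' = (f tX ^ (l : ℕ))⁻¹ * (n * f tX' * n⁻¹ * f tX ^ (l : ℕ)) := by rw [h]; group
      conv_rhs => rw [h']
      rw [hc]
      group
    have hc2S : c * c ∈ S := by rw [← pow_two]; exact Subgroup.sq_mem_of_index_two h2 c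
    have hw : e ⟨c * c, hc2S⟩ * e ⟨c * c, hc2S⟩ = 1 := cent_XX' _
      (hf (by rw [map_mul, map_mul, hfe]; exact (hcX.mul_left hcX).eq))
      (hf (by rw [map_mul, map_mul, hfe]; exact (hcX'.mul_left hcX').eq))
    have hc4 : (c * c) * (c * c) = 1 := by
      rw [← hfe _ hc2S, ← map_mul, hw, map_one]
    by_cases hc1 : c * c = 1
    · refine hcS' ?_
      by_cases hc0 : c = 1
      · rw [hc0]; exact S.one_mem
      rw [hι ((hinvol c hc1 hc0).trans hN.symm)]
      exact hfS _
    · have hcY : Commute c (f tY) := by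
        rw [show tY = tX * tX' * tX ^ 2 * tX' ^ 3 by decide]
        simp only [map_mul, map_pow]
        exact ((hcX.mul_right hcX').mul_right (hcX.pow_right 2)).mul_right (hcX'.pow_right 3)
      have h2' : ι c * ι c = ι (f tY) * ι (f tY) := by
        rw [← map_mul, hinvol _ hc4 hc1]; exact hyy.symm
      rcases FGS80.DivisionQuaternion.sq_eq (hcY.map ι) h2' with h | h
      · exact hcS' (hι h ▸ hfS tY)
      · refine hcS' ?_
        rw [hι (h.trans (show -ι (f tY) = ι (f (tN * tY)) by rw [map_mul, map_mul, hN, neg_one_mul]))]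
        exact hfS _
  · -- `n` has order eight and acts with order four on `⟨X⟩`
    have hn2S : n * n ∈ S := by rw [← pow_two]; exact Subgroup.sq_mem_of_index_two h2 n
    have hnk : n * f tX ^ 2 = f tX ^ 4 * n := by
      rw [pow_two, ← mul_assoc, hn, mul_assoc, hn, ← mul_assoc, ← pow_add]
    have hnn : n * n * f tX = f tX ^ 4 * (n * n) := by
      rw [mul_assoc, hn, ← mul_assoc, hnk, mul_assoc]
    have hw : e ⟨n * n, hn2S⟩ * e ⟨n * n, hn2S⟩ = tN :=
      invert_X _ (hf (by rw [map_mul, map_mul, hfe, map_pow]; exact hnn))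
    refine FGS80.DivisionQuaternion.no_outer (n := ι n) hx5 hx1
      (by rw [hxdef, ← map_pow, ← map_mul, ← map_mul, hn]) ?_
    rw [show (4 : ℕ) = 2 + 2 from rfl, pow_add, pow_two, ← map_mul, ← map_mul, ← hfe _ hn2S,
      ← map_mul, hw, hN]

end Cfsg.Agent.S4294
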