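import Cfsg.Statements.S4295
import Cfsg.Agent.FGS80.FPF
import Cfsg.Agent.Lib.Frobenius.Kernel
import Cfsg.Agent.Lib.Frobenius.Involution
import Mathlib.NumberTheory.SumTwoSquares
import Mathlib.FieldTheory.Finite.Basic
import Mathlib.GroupTheory.SpecificGroups.Quaternion

set_option autoImplicit false
open Cfsg

namespace Cfsg.Agent.S4295

/-- An abelian group of odd order `K` with automorphisms `I`, `J` like the quaternion units has
square order. -/
lemma isSquare_card.{u} : ∀ (n : ℕ) (K : Type u) [CommGroup K] [Finite K] (I J : K →* K),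
    Nat.card K = n → Odd n → (∀ x, I (I x) = x⁻¹) → (∀ x, J (J x) = x⁻¹) →
    (∀ x, I (J x) = (J (I x))⁻¹) → IsSquare n := by
  intro n
  induction n using Nat.strong_induction_on with
  | _ n ih =>
    intro K _ _ I J hn hodd hI hJ hIJ
    rcases eq_or_ne n 1 with rfl | hn1
    · exact IsSquare.one
    obtain ⟨p, hp, hpn⟩ := Nat.exists_prime_and_dvd hn1
    have : Fact p.Prime := ⟨hp⟩
    -- kernel and image of the `p`-th power
    let P : Subgroup K := (powMonoidHom p : K →* K).range
    let E : Subgroup K := (powMonoidHom p : K →* K).ker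
    have hcard : Nat.card P * Nat.card E = n := by
      rw [← hn, ← Subgroup.index_ker, Subgroup.index_mul_card]
    have hE1 : 1 < Nat.card E := by
      obtain ⟨z, hz⟩ := exists_prime_orderOf_dvd_card' (G := K) p (hn ▸ hpn)
      rw [Subgroup.one_lt_card_iff_ne_bot]
      intro hb
      have : z ∈ E := by show z ^ p = 1; rw [← hz, pow_orderOf_eq_one]
      rw [hb, Subgroup.mem_bot] at this
      rw [this, orderOf_one] at hz
      exact hp.ne_one hz.symm
    have hP : IsSquare (Nat.card P) := by
      let res : (K →* K) → (P →* P) := fun f => (f.comp P.subtype).codRestrict P fun x => by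
        obtain ⟨y, hy⟩ := x.2
        exact ⟨f y, (map_pow f y p).symm.trans (congrArg f hy)⟩
      refine ih _ ?_ P (res I) (res J) rfl (hodd.of_dvd_nat ⟨_, hcard.symm⟩)
        (fun x => Subtype.ext (hI x)) (fun x => Subtype.ext (hJ x)) (fun x => Subtype.ext (hIJ x))
      rw [← hcard]
      exact lt_mul_of_one_lt_right Nat.card_pos hE1
    obtain ⟨a, b, hab⟩ := ZMod.sq_add_sq p (-1 : ZMod p)
    have hpow : ∀ (x : E) (m m' : ℕ), (m : ZMod p) = m' → (x : K) ^ m = (x : K) ^ m' := by
      intro x m m' h
      rw [ZMod.natCast_eq_natCast_iff] at h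
      exact pow_eq_pow_iff_modEq.mpr (h.of_dvd (orderOf_dvd_of_pow_eq_one x.2))
    let W : K →* K :=
      { toFun := fun x => I x ^ a.val * J x ^ b.val
        map_one' := by simp
        map_mul' := fun x y => by simp [mul_pow, mul_mul_mul_comm] }
    have hW : ∀ x : E, W (W x) = (x : K) := by
      intro x
      show I (I (x : K) ^ a.val * J x ^ b.val) ^ a.val *
        J (I (x : K) ^ a.val * J x ^ b.val) ^ b.val = x
      simp only [map_mul, map_pow, hI, hJ, hIJ, mul_pow, ← pow_mul, inv_pow]
      have h1 : (x : K) ^ (a.val * a.val + b.val * b.val + 1) = (x : K) ^ 0 := by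
        refine hpow x _ _ ?_
        push_cast
        simp only [ZMod.natCast_val, ZMod.cast_id', id_eq]
        linear_combination hab
      rw [pow_zero, pow_add, pow_add, pow_one] at h1
      rw [mul_comm b.val a.val, mul_assoc, inv_mul_cancel_left, ← mul_inv]
      exact inv_eq_of_mul_eq_one_right h1
    have hanti : ∀ x : K, W (I (J x)) = (I (J (W x)))⁻¹ := by
      intro x
      show I (I (J x)) ^ a.val * J (I (J x)) ^ b.val = (I (J (I x ^ a.val * J x ^ b.val)))⁻¹
      simp only [map_mul, map_pow, map_inv, hI, hJ, hIJ, mul_inv, inv_inv, inv_pow]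
    have hmem : ∀ f : K →* K, ∀ x ∈ E, f x ∈ E := fun f x hx => by
      show f x ^ p = 1
      rw [← map_pow, show x ^ p = 1 from hx, map_one]
    let Ep : Subgroup E := {
      carrier := {x | W x = (x : K)}
      one_mem' := map_one W
      mul_mem' := fun {x y} hx hy => by
        show W ((x : K) * y) = (x : K) * y
        rw [map_mul, hx, hy]
      inv_mem' := fun {x} hx => by
        show W ((x : K)⁻¹) = (x : K)⁻¹
        rw [map_inv, hx] }
    let Em : Subgroup E := {
      carrier := {x | W x = (x : K)⁻¹}
      one_mem' := by simp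
      mul_mem' := fun {x y} hx hy => by
        show W ((x : K) * y) = ((x : K) * y)⁻¹
        rw [map_mul, hx, hy, mul_inv]
      inv_mem' := fun {x} hx => by
        show W ((x : K)⁻¹) = ((x : K)⁻¹)⁻¹
        rw [map_inv, hx] }
    have hoddE : (Nat.card E).Coprime 2 :=
      (Nat.coprime_two_right).mpr (hodd.of_dvd_nat (hcard ▸ dvd_mul_left _ _))
    have hdisj : Disjoint Ep Em := by
      rw [disjoint_iff, Subgroup.eq_bot_iff_forall]
      rintro x ⟨hx1, hx2⟩
      have : (x : K) = (x : K)⁻¹ := hx1.symm.trans hx2
      refine (powCoprime hoddE).injective ?_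
      show x ^ 2 = (1 : E) ^ 2
      rw [one_pow]
      ext
      simp only [pow_two, Subgroup.coe_mul, Subgroup.coe_one, MulMemClass.coe_mul, OneMemClass.coe_one]
      nth_rw 2 [this]
      exact mul_inv_cancel _
    have htop : ∀ x : E, x ∈ Ep ⊔ Em := by
      intro x
      obtain ⟨y, rfl⟩ := (powCoprime hoddE).surjective x
      let w : E := ⟨W y, hmem W y y.2⟩
      show y ^ 2 ∈ _
      have : y ^ 2 = (y * w) * (y * w⁻¹) := by
        rw [mul_mul_mul_comm, mul_inv_cancel, mul_one, pow_two]
      rw [this]
      refine Subgroup.mul_mem_sup ?_ ?_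
      · show W ((y : K) * W y) = (y : K) * W y
        rw [map_mul, hW, mul_comm]
      · show W ((y : K) * (W y)⁻¹) = ((y : K) * (W y)⁻¹)⁻¹
        rw [map_mul, map_inv, hW, mul_inv, inv_inv, mul_comm]
    have hsum : Nat.card Ep * Nat.card Em = Nat.card E := by
      refine (Subgroup.IsComplement'.card_mul
        (Subgroup.isComplement'_of_disjoint_and_mul_eq_univ hdisj ?_))
      rw [← Subgroup.normal_mul, Set.eq_univ_iff_forall]
      exact htop
    let u : E → E := fun x => ⟨I (J x), hmem (I.comp J) x x.2⟩
    have huinj : Function.Injective u := by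
      intro x y hxy
      have := congrArg (fun z => I (J z)) (congrArg Subtype.val hxy)
      simp only [u, hIJ, map_inv, hI, hJ, inv_inv] at this
      exact Subtype.ext (by simpa using this)
    have hle : ∀ S T : Subgroup E, (∀ x ∈ S, u x ∈ T) → Nat.card S ≤ Nat.card T := fun S T h =>
      Nat.card_le_card_of_injective (fun x : S => (⟨u x, h x x.2⟩ : T))
        fun x y hxy => Subtype.ext (huinj (congrArg Subtype.val hxy))
    have heq : Nat.card Ep = Nat.card Em := by
      refine le_antisymm (hle _ _ fun x hx => ?_) (hle _ _ fun x hx => ?_)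
      · show W (I (J x)) = (I (J x))⁻¹
        rw [hanti, hx]
      · show W (I (J x)) = I (J x)
        rw [hanti, hx, map_inv, map_inv, inv_inv]
    rw [← hcard, ← hsum, heq]
    exact hP.mul ⟨_, rfl⟩

/-- The squares of nontrivial elements of `Q₈` are the central involution. -/
lemma quaternion_square : ∀ g : QuaternionGroup 2, g ≠ 1 →
    g = QuaternionGroup.a 2 ∨ g * g = QuaternionGroup.a 2 := by
  decide

/-- A homomorphism out of `Q₈` from the defining relations. -/
lemma exists_hom {M : Type*} [Group M] (I J : M) (h1 : I * I = J * J) (h2 : J * J * (J * J) = 1)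
    (h3 : I * J * I = J) : ∃ φ : QuaternionGroup 2 →* M, φ (QuaternionGroup.a 2) = I * I := by
  have h4 : I ^ 4 = 1 := by
    rw [show I ^ 4 = (I * I) * (I * I) by simp [pow_succ, mul_assoc], h1, h2]
  have hpow : ∀ i j : ZMod (2 * 2), I ^ (i + j).val = I ^ i.val * I ^ j.val := by
    intro i j
    rw [← pow_add, ZMod.val_add]
    exact (pow_eq_pow_mod _ h4).symm
  have hneg : ∀ i : ZMod (2 * 2), I ^ (-i).val = (I ^ i.val)⁻¹ := fun i =>
    eq_inv_of_mul_eq_one_left (by rw [← hpow, neg_add_cancel, ZMod.val_zero, pow_zero])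
  have hc : J⁻¹ * I * J = I⁻¹ := by
    have : I * J = J * I⁻¹ := by
      calc I * J = (I * J * I) * I⁻¹ := by group
        _ = J * I⁻¹ := by rw [h3]
    rw [mul_assoc, this, inv_mul_cancel_left]
  have hflip : ∀ n : ℕ, I ^ n * J = J * (I ^ n)⁻¹ := by
    intro n
    have h5 := conj_pow (a := J⁻¹) (b := I) (i := n)
    rw [inv_inv, hc, inv_pow] at h5
    rw [h5]; group
  let f : QuaternionGroup 2 → M := fun g => match g with
    | .a i => I ^ i.val
    | .xa i => J * I ^ i.val
  refine ⟨MonoidHom.mk' f ?_, pow_two I⟩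
  rintro (i | i) (j | j)
  · exact hpow i j
  · show J * I ^ (j - i).val = I ^ i.val * (J * I ^ j.val)
    rw [sub_eq_add_neg, add_comm, hpow, hneg, ← mul_assoc, ← mul_assoc, hflip]
  · show J * I ^ (i + j).val = J * I ^ i.val * I ^ j.val
    rw [hpow, mul_assoc]
  · show I ^ ((2 : ℕ) + j - i : ZMod (2 * 2)).val = J * I ^ i.val * (J * I ^ j.val)
    rw [show J * I ^ i.val * (J * I ^ j.val) = J * (I ^ i.val * J) * I ^ j.val by group, hflip,
      ← mul_assoc J J, ← h1, ← hneg, mul_assoc (I * I), ← hpow]
    rw [show (2 : ℕ) + j - i = ((2 : ℕ) : ZMod (2 * 2)) + (-i + j) by ring, hpow]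
    congr 1
    exact pow_two I

/-- `Q₈` acts on an abelian group of order `n²` with the central involution inverting. -/
lemma exists_action : ∀ n : ℕ, Odd n → ∃ (V : Type) (_ : CommGroup V) (_ : Finite V)
    (φ : QuaternionGroup 2 →* MulAut V), Nat.card V = n * n ∧
      ∀ v, φ (QuaternionGroup.a 2) v = v⁻¹ := by
  intro n
  induction n using Nat.recOnMul with
  | zero => intro h; simp at h
  | one =>
    intro _
    exact ⟨Unit, inferInstance, inferInstance, 1, by simp, fun v => Subsingleton.elim _ _⟩
  | prime p hp =>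
    intro _
    have : Fact p.Prime := ⟨hp⟩
    obtain ⟨a, b, hab⟩ := ZMod.sq_add_sq p (-1 : ZMod p)
    let I : MulAut (Multiplicative (ZMod p × ZMod p)) := AddEquiv.toMultiplicative
      { toFun := fun v => (-v.2, v.1)
        invFun := fun v => (v.2, -v.1)
        left_inv := fun v => by simp
        right_inv := fun v => by simp
        map_add' := fun v w => by ext <;> simp [add_comm] }
    let J : MulAut (Multiplicative (ZMod p × ZMod p)) := AddEquiv.toMultiplicative
      { toFun := fun v => (a * v.1 + b * v.2, b * v.1 - a * v.2)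
        invFun := fun v => (-(a * v.1 + b * v.2), -(b * v.1 - a * v.2))
        left_inv := fun v => by
          ext
          · simp; linear_combination (-v.1) * hab
          · simp; linear_combination (-v.2) * hab
        right_inv := fun v => by
          ext
          · simp; linear_combination (-v.1) * hab
          · simp; linear_combination (-v.2) * hab
        map_add' := fun v w => by ext <;> simp <;> ring }
    have hI2 : ∀ v, I (I v) = v⁻¹ := fun v => by
      apply Multiplicative.toAdd.injective
      ext <;> simp [I]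
    have hJ2 : ∀ v, J (J v) = v⁻¹ := fun v => by
      apply Multiplicative.toAdd.injective
      ext
      · simp [J]; linear_combination v.toAdd.1 * hab
      · simp [J]; linear_combination v.toAdd.2 * hab
    have hIJ : I * J * I = J := MulEquiv.ext fun v => by
      apply Multiplicative.toAdd.injective
      ext <;> simp [I, J, MulAut.mul_apply] <;> ring
    obtain ⟨φ, hφ⟩ := exists_hom I J (MulEquiv.ext fun v => by simp [hI2, hJ2])
      (MulEquiv.ext fun v => by simp [hJ2]) hIJ
    refine ⟨Multiplicative (ZMod p × ZMod p), inferInstance, inferInstance, φ, ?_, fun v => ?_⟩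
    · rw [Nat.card_congr Multiplicative.toAdd, Nat.card_prod, Nat.card_zmod]
    · rw [hφ, MulAut.mul_apply, hI2]
  | mul m k hm hk =>
    intro hodd
    obtain ⟨hm', hk'⟩ := Nat.odd_mul.mp hodd
    obtain ⟨V, iV, fV, φ, hV, hφ⟩ := hm hm'
    obtain ⟨W, iW, fW, ψ, hW, hψ⟩ := hk hk'
    refine ⟨V × W, inferInstance, inferInstance,
      { toFun := fun g => MulEquiv.prodCongr (φ g) (ψ g)
        map_one' := MulEquiv.ext fun x => by simp [MulEquiv.prodCongr]
        map_mul' := fun g h => MulEquiv.ext fun x => by simp [MulEquiv.prodCongr, Prod.map] }, ?_, fun v => ?_⟩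
    · rw [Nat.card_prod, hV, hW]; ring
    · ext <;> simp [MulEquiv.prodCongr, hφ, hψ]

/-- For a natural number m the following are equivalent: (a) some finite group has a Frobenius complement isomorphic to the quaternion group of order 8 whose Frobenius kernel (the identity together with the elements lying in no conjugate of the complement) has exactly m elements; (b) m is an odd perfect square greater than 1. -/
theorem result (m : ℕ) :
    (∃ (L : Type) (_ : Group L) (_ : Finite L) (H : Subgroup L), Cfsg.IsFrobeniusComplement H ∧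
        Nonempty (H ≃* QuaternionGroup 2) ∧ Nat.card (Cfsg.frobeniusKernel H) = m) ↔
    (Odd m ∧ IsSquare m ∧ 1 < m) := by
  constructor
  · rintro ⟨L, iL, fL, H, hH, ⟨e⟩, rfl⟩
    obtain ⟨N, hN, hnorm, hcompl⟩ := Frobenius.exists_frobeniusKernel_subgroup hH
    have hcard : Nat.card (Cfsg.frobeniusKernel H) = Nat.card N := by rw [← hN]; rfl
    rw [hcard]
    have hfpf : Frobenius.IsFPF H N := by
      refine Frobenius.isFPF_of_normal fun h hh hh1 => ?_
      rw [Subgroup.eq_bot_iff_forall]
      rintro x ⟨hx, hxc⟩
      have hmem := Frobenius.mem_of_commute hH hh1 hh (g := x)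
        (Subgroup.mem_centralizer_iff.mp hxc h (Set.mem_singleton h))
      exact Subgroup.mem_bot.mp (hcompl.disjoint.le_bot ⟨hx, hmem⟩)
    have hne : N ≠ ⊥ := by
      intro h
      have := hcompl.sup_eq_top
      rw [h, bot_sup_eq] at this
      exact hH.2.1 this
    have h8 : Nat.card H = 8 := by
      rw [← Nat.card_congr e.symm.toEquiv, Nat.card_eq_fintype_card, QuaternionGroup.card]
    obtain ⟨-, hcomm⟩ := hfpf.unique_involution hne (h8 ▸ by norm_num)
    have hcop := hfpf.coprime
    rw [h8] at hcop
    have hodd : Odd (Nat.card N) :=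
      Nat.coprime_two_left.mp (Nat.Coprime.coprime_dvd_left (by norm_num) hcop)
    refine ⟨hodd, ?_, (Subgroup.one_lt_card_iff_ne_bot N).mpr hne⟩
    let _ : CommGroup N := { (inferInstance : Group N) with mul_comm := hcomm.is_comm.comm }
    let act : QuaternionGroup 2 →* MulAut N := MulAut.conjNormal.comp (H.subtype.comp e.symm.toMonoidHom)
    have hsq : ∀ v : N, act (QuaternionGroup.a 2) v = v⁻¹ := by
      intro v
      apply Subtype.ext
      refine hfpf.inverts (e.symm (QuaternionGroup.a 2)).2 ?_ v v.2
      rw [Subgroup.orderOf_coe, MulEquiv.orderOf_eq]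
      exact orderOf_eq_prime (by decide) (by decide)
    refine isSquare_card (Nat.card N) N (act (QuaternionGroup.a 1)).toMonoidHom
      (act (QuaternionGroup.xa 0)).toMonoidHom rfl hodd ?_ ?_ ?_
    · intro x
      show act _ (act _ x) = x⁻¹
      rw [← MulAut.mul_apply, ← map_mul]
      exact hsq x
    · intro x
      show act _ (act _ x) = x⁻¹
      rw [← MulAut.mul_apply, ← map_mul]
      exact hsq x
    · intro x
      show act _ (act _ x) = (act _ (act _ x))⁻¹
      rw [← MulAut.mul_apply, ← map_mul, ← MulAut.mul_apply, ← map_mul, ← hsq, ← MulAut.mul_apply,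
        ← map_mul]
      congr 1
  · rintro ⟨hodd, ⟨n, rfl⟩, h1⟩
    obtain ⟨V, iV, fV, φ, hV, hφ⟩ := exists_action n (Nat.odd_mul.mp hodd).1
    have : Nontrivial V := Finite.one_lt_card_iff_nontrivial.mp (hV ▸ h1)
    have : Nontrivial (QuaternionGroup 2) := ⟨1, QuaternionGroup.a 2, by decide⟩
    have hcop : (Nat.card V).Coprime 2 := Nat.coprime_two_right.mpr (hV ▸ hodd)
    have hfp : ∀ g : QuaternionGroup 2, g ≠ 1 → ∀ v, φ g v = v → v = 1 := fun g hg v hv => by
      have h2 : v⁻¹ = v := by
        rw [← hφ]
        rcases quaternion_square g hg with h | h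
        · rwa [← h]
        · rw [← h, map_mul, MulAut.mul_apply, hv, hv]
      refine (powCoprime hcop).injective ?_
      show v ^ 2 = 1 ^ 2
      rw [one_pow, pow_two]
      nth_rw 1 [← h2]
      exact inv_mul_cancel v
    obtain ⟨L, iL, fL, H, hH, ⟨e⟩, hidx⟩ := FGS80.exists_frobenius_of_fpf φ hfp
    exact ⟨L, iL, fL, H, hH, ⟨e.symm⟩, by rw [Frobenius.card_frobeniusKernel hH, hidx, hV]⟩

end Cfsg.Agent.S4295
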