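import Cfsg.Statements.S4296
import Cfsg.Agent.Lib.Frobenius.Complement
import Cfsg.Agent.Lib.Frobenius.Kernel
import Cfsg.Agent.Lib.Frobenius.Involution
import Mathlib.FieldTheory.Finite.Basic
import Mathlib.GroupTheory.Perm.Cycle.Type
import Mathlib.Tactic.LinearCombination

set_option autoImplicit false
open Cfsg

namespace Cfsg.Agent.S4296

universe v

/-- A finite abelian group of odd order with two anticommuting square roots of `-1` has square order. -/
theorem isSquare_card_aux : ∀ (n : ℕ) (V : Type v) [AddCommGroup V] [Finite V], Nat.card V ≤ n →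
    ∀ I J : V →+ V, (∀ v, I (I v) = -v) → (∀ v, J (J v) = -v) → (∀ v, I (J v) = -(J (I v))) →
      Odd (Nat.card V) → IsSquare (Nat.card V) := by
  intro n
  induction n with
  | zero => intro V _ _ hle; exact absurd hle (by have := Nat.card_pos (α := V); omega)
  | succ n ih =>
    intro V _ _ hle I J hI hJ hIJ hodd
    by_cases h1 : Nat.card V = 1
    · exact ⟨1, h1⟩
    obtain ⟨p, hp, hpd⟩ := Nat.exists_prime_and_dvd h1
    haveI := Fact.mk hp
    let μ : V →+ V := nsmulAddMonoidHom p
    have hcard : Nat.card V = Nat.card μ.ker * Nat.card μ.range := by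
      rw [AddSubgroup.card_eq_card_quotient_mul_card_addSubgroup μ.ker,
        Nat.card_congr (QuotientAddGroup.quotientKerEquivRange μ).toEquiv, mul_comm]
    obtain ⟨x, hx⟩ := exists_prime_addOrderOf_dvd_card' p hpd
    have hker2 : 2 ≤ Nat.card μ.ker := by
      have hx0 : x ≠ 0 := fun h => by rw [h, addOrderOf_zero] at hx; exact hp.one_lt.ne hx
      have hxk : x ∈ μ.ker := by
        show p • x = 0
        rw [← hx]; exact addOrderOf_nsmul_eq_zero x
      haveI : Nontrivial μ.ker := ⟨⟨⟨x, hxk⟩, 0, fun h => hx0 (congrArg Subtype.val h)⟩⟩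
      exact Finite.one_lt_card
    have hmap : ∀ (f : V →+ V) (w : V), w ∈ μ.range → f w ∈ μ.range := by
      rintro f _ ⟨u, rfl⟩
      exact ⟨f u, by simp [μ]⟩
    have hrange : IsSquare (Nat.card μ.range) := by
      have h0 : 0 < Nat.card μ.range := Nat.card_pos
      refine ih μ.range (by rw [hcard] at hle; nlinarith)
        ((I.comp μ.range.subtype).codRestrict μ.range fun w => hmap I w w.2)
        ((J.comp μ.range.subtype).codRestrict μ.range fun w => hmap J w w.2)
        (fun v => Subtype.ext (hI v)) (fun v => Subtype.ext (hJ v)) (fun v => Subtype.ext (hIJ v)) ?_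
      exact hodd.of_dvd_nat (Dvd.intro_left _ hcard.symm)
    -- the elements of order dividing `p`
    have hp2 : Odd p := hodd.of_dvd_nat hpd
    obtain ⟨a, b, hab⟩ := ZMod.sq_add_sq p (-1 : ZMod p)
    obtain ⟨h, hh⟩ : ∃ h : ℕ, p + 1 = 2 * h := by
      obtain ⟨m, hm⟩ := hp2
      exact ⟨m + 1, by omega⟩
    let A := a.val
    let B := b.val
    have hab' : p ∣ A * A + B * B + 1 := by
      rw [← ZMod.natCast_eq_zero_iff, Nat.cast_add, Nat.cast_add, Nat.cast_mul, Nat.cast_mul]
      simp only [A, B, ZMod.natCast_val, ZMod.cast_id', id_eq, Nat.cast_one]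
      linear_combination hab
    let T : V →+ V := A • I + B • J
    let S : V →+ V := I.comp J
    have hT2 : ∀ v, T (T v) = -((A * A + B * B) • v) := fun v => by
      simp only [T, AddMonoidHom.add_apply, AddMonoidHom.coe_smul, Pi.smul_apply, map_add,
        map_nsmul, hI, hJ, hIJ, smul_neg, smul_add, smul_smul, add_smul]
      rw [mul_comm B A]
      abel
    have hTK : ∀ v ∈ μ.ker, T (T v) = v := by
      intro v hv
      obtain ⟨c, hc⟩ := hab'
      have h0 : p • v = 0 := hv
      have h2 : (A * A + B * B + 1) • v = 0 := by rw [hc, mul_comm, mul_smul, h0, smul_zero]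
      rw [hT2, ← add_eq_zero_iff_neg_eq']
      rw [succ_nsmul] at h2
      rwa [add_comm]
    have hIJ' : ∀ v, J (I v) = -(I (J v)) := fun v => by rw [hIJ, neg_neg]
    have hST : ∀ v, T (S v) = -(S (T v)) := fun v => by
      simp only [T, S, AddMonoidHom.add_apply, AddMonoidHom.coe_comp, Function.comp_apply,
        AddMonoidHom.coe_smul, Pi.smul_apply, map_add, map_nsmul, hI, hJ, hIJ', map_neg, neg_neg,
        smul_neg, neg_add]
    let P : AddSubgroup V := μ.ker ⊓ (T - AddMonoidHom.id V).ker
    let M : AddSubgroup V := μ.ker ⊓ (T + AddMonoidHom.id V).ker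
    have hS2 : ∀ v, S (S v) = -v := fun v => by
      simp only [S, AddMonoidHom.coe_comp, Function.comp_apply, hIJ', map_neg, hI, hJ, neg_neg]
    have hSker : ∀ v ∈ μ.ker, S v ∈ μ.ker := fun v hv => by
      show p • S v = 0
      rw [← map_nsmul, show p • v = 0 from hv, map_zero]
    have hPM : Nat.card P = Nat.card M := by
      refine le_antisymm ?_ ?_
      · refine Nat.card_le_card_of_injective (fun v : P => (⟨S v, hSker _ v.2.1, ?_⟩ : M)) ?_
        · have h2 : T (v : V) - v = 0 := v.2.2
          show T (S v) + S v = 0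
          rw [hST, sub_eq_zero.mp h2, neg_add_cancel]
        · intro v w h
          have h2 := congrArg S (congrArg Subtype.val h)
          simp only [hS2, neg_inj] at h2
          exact Subtype.ext h2
      · refine Nat.card_le_card_of_injective (fun v : M => (⟨S v, hSker _ v.2.1, ?_⟩ : P)) ?_
        · have h2 : T (v : V) + v = 0 := v.2.2
          show T (S v) - S v = 0
          rw [hST, eq_neg_of_add_eq_zero_left h2, map_neg, neg_neg, sub_self]
        · intro v w h
          have h2 := congrArg S (congrArg Subtype.val h)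
          simp only [hS2, neg_inj] at h2
          exact Subtype.ext h2
    have hsplit : Nat.card μ.ker = Nat.card P * Nat.card M := by
      rw [← Nat.card_prod]
      refine Nat.card_congr (Equiv.symm (Equiv.ofBijective
        (fun x : P × M => (⟨(x.1 : V) + x.2, add_mem x.1.2.1 x.2.2.1⟩ : μ.ker)) ⟨?_, ?_⟩))
      · rintro ⟨x, y⟩ ⟨x', y'⟩ he
        have h2 : (x : V) + y = x' + y' := congrArg Subtype.val he
        have e1 : T (x : V) = x := sub_eq_zero.mp x.2.2
        have e2 : T (x' : V) = x' := sub_eq_zero.mp x'.2.2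
        have e3 : T (y : V) = -y := eq_neg_of_add_eq_zero_left y.2.2
        have e4 : T (y' : V) = -y' := eq_neg_of_add_eq_zero_left y'.2.2
        have h3 : (x : V) - x' = -((y : V) - y') := by
          rw [neg_sub, sub_eq_sub_iff_add_eq_add, add_comm (y' : V)]; exact h2
        have h4 := congrArg T h3
        rw [map_sub, map_neg, map_sub, e1, e2, e3, e4] at h4
        have h5 : (2 : ℕ) • ((x : V) - x') = 0 := by
          rw [two_nsmul]
          conv_lhs => arg 1; rw [h3]
          conv_lhs => arg 2; rw [h4]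
          abel
        have h6 : (x : V) - x' = 0 := by
          have hk : p • ((x : V) - x') = 0 := μ.ker.sub_mem x.2.1 x'.2.1
          have h7 : (p + 1) • ((x : V) - x') = 0 := by rw [hh, mul_nsmul, h5, smul_zero]
          rwa [succ_nsmul, hk, zero_add] at h7
        have hxx : x = x' := Subtype.ext (sub_eq_zero.mp h6)
        subst hxx
        exact Prod.ext rfl (Subtype.ext (add_left_cancel h2))
      · rintro ⟨v, hv⟩
        have h0 : p • v = 0 := hv
        refine ⟨(⟨h • (v + T v), ?_, ?_⟩, ⟨h • (v - T v), ?_, ?_⟩), Subtype.ext ?_⟩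
        · show p • (h • (v + T v)) = 0
          rw [smul_comm, smul_add, ← map_nsmul T, h0, map_zero, add_zero, smul_zero]
        · show T (h • (v + T v)) - h • (v + T v) = 0
          rw [map_nsmul, map_add, hTK v hv, add_comm (T v), sub_self]
        · show p • (h • (v - T v)) = 0
          rw [smul_comm, smul_sub, ← map_nsmul T, h0, map_zero, sub_zero, smul_zero]
        · show T (h • (v - T v)) + h • (v - T v) = 0
          rw [map_nsmul, map_sub, hTK v hv, ← smul_add, sub_add_sub_cancel, sub_self, smul_zero]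
        · show h • (v + T v) + h • (v - T v) = v
          rw [← smul_add, add_add_sub_cancel, ← two_nsmul, ← mul_nsmul, ← hh, succ_nsmul, h0,
            zero_add]
    rw [hcard]
    exact IsSquare.mul ⟨Nat.card P, by rw [hsplit, hPM]⟩ hrange

/-- Let H be a Frobenius complement in a finite group, and suppose some Sylow subgroup of H is not cyclic. Then the number of elements of the Frobenius kernel (the identity together with the elements lying in no conjugate of H) is an odd perfect square. -/
theorem result {L : Type*} [Group L] [Finite L] (H : Subgroup L) (hF : Cfsg.IsFrobeniusComplement H)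
    (hZ : ∃ (p : ℕ) (_ : Fact p.Prime) (P : Sylow p H), ¬ IsCyclic P) :
    Odd (Nat.card (Cfsg.frobeniusKernel H)) ∧ IsSquare (Nat.card (Cfsg.frobeniusKernel H)) := by
  obtain ⟨K, hKeq, hKn, hc⟩ := Cfsg.Agent.Frobenius.exists_frobeniusKernel_subgroup hF
  rw [← hKeq, Nat.card_congr (Equiv.refl _ : ((K : Set L) : Type _) ≃ K)]
  have hfpf : Cfsg.Agent.Frobenius.IsFPF H K := Cfsg.Agent.Frobenius.isFPF_of_normal
    (Cfsg.Agent.Frobenius.fixedPointFree_of_isFrobeniusComplement hc hF)
  have hKb : K ≠ ⊥ := by
    intro h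
    have h1 := Cfsg.Agent.Frobenius.two_le_index hF
    rw [hc.index_eq_card, h, Subgroup.card_bot] at h1
    omega
  obtain ⟨p, hp, P, hP⟩ := hZ
  rcases hfpf.sylow_isCyclic_or_quaternion hKb P with h | ⟨h2, n, ⟨e⟩⟩
  · exact absurd h hP
  obtain ⟨m, hm⟩ : ∃ m : ℕ, 2 ^ n = 2 * m := by
    cases n with
    | zero =>
      refine absurd ?_ hP
      haveI : IsCyclic (QuaternionGroup (2 ^ 0)) :=
        isCyclic_of_orderOf_eq_card (QuaternionGroup.xa 0)
          (by rw [QuaternionGroup.orderOf_xa, Nat.card_eq_fintype_card, QuaternionGroup.card]; norm_num)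
      exact isCyclic_of_surjective e.symm e.symm.surjective
    | succ k => exact ⟨2 ^ k, by rw [pow_succ']⟩
  haveI : NeZero (2 * (2 ^ n)) := ⟨by positivity⟩
  have hzne : QuaternionGroup.a ((2 ^ n : ℕ) : ZMod (2 * 2 ^ n)) ≠ 1 := by
    intro h
    rw [show (1 : QuaternionGroup (2 ^ n)) = QuaternionGroup.a 0 from rfl,
      QuaternionGroup.a.injEq] at h
    have h1 := Nat.le_of_dvd (by positivity) ((ZMod.natCast_eq_zero_iff _ _).mp h)
    have h2 : 0 < 2 ^ n := by positivity
    omega
  let ι : QuaternionGroup (2 ^ n) →* L :=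
    H.subtype.comp ((P : Subgroup H).subtype.comp e.symm.toMonoidHom)
  have hι : Function.Injective ι :=
    H.subtype_injective.comp ((P : Subgroup H).subtype_injective.comp e.symm.injective)
  set z := ι (QuaternionGroup.a ((2 ^ n : ℕ) : ZMod (2 * 2 ^ n))) with hz
  set i := ι (QuaternionGroup.a ((m : ℕ) : ZMod (2 * 2 ^ n))) with hi
  set j := ι (QuaternionGroup.xa (0 : ZMod (2 * 2 ^ n))) with hj
  have hzH : z ∈ H := SetLike.coe_mem _
  have hz1 : z ≠ 1 := fun h => hzne (hι (h.trans (map_one ι).symm))
  have hNN : ((2 ^ n : ℕ) : ZMod (2 * 2 ^ n)) + ((2 ^ n : ℕ) : ZMod (2 * 2 ^ n)) = 0 := by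
    rw [← Nat.cast_add, ← two_mul, ZMod.natCast_self]
  have hmm : (m : ZMod (2 * 2 ^ n)) + (m : ZMod (2 * 2 ^ n)) = ((2 ^ n : ℕ) : ZMod (2 * 2 ^ n)) := by
    rw [← Nat.cast_add, ← two_mul, hm]
  have hz2 : z * z = 1 := by
    rw [hz, ← map_mul, QuaternionGroup.a_mul_a, hNN]
    exact map_one ι
  have hii : i * i = z := by rw [hi, hz, ← map_mul, QuaternionGroup.a_mul_a, hmm]
  have hjj : j * j = z := by
    rw [hj, hz, ← map_mul, QuaternionGroup.xa_mul_xa, add_zero, sub_zero]
  have hij : i * j = z * (j * i) := by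
    rw [hi, hj, hz, ← map_mul, ← map_mul, ← map_mul]
    congr 1
    simp only [QuaternionGroup.a_mul_xa, QuaternionGroup.xa_mul_a, zero_sub, zero_add]
    congr 1
    rw [← hmm]; abel
  have hinv : ∀ x ∈ K, z * x * z⁻¹ = x⁻¹ := fun x hx =>
    Cfsg.Agent.Frobenius.inverts_frobeniusKernel hF hzH hz1 hz2 x (by rw [← hKeq]; exact hx)
  have hcomm : ∀ x ∈ K, ∀ y ∈ K, x * y = y * x := fun x hx y hy =>
    Cfsg.Agent.Frobenius.commute_frobeniusKernel hF hzH hz1 hz2 x (by rw [← hKeq]; exact hx) y
      (by rw [← hKeq]; exact hy)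
  letI : CommGroup K :=
    { (inferInstance : Group K) with mul_comm := fun a b => Subtype.ext (hcomm a a.2 b b.2) }
  have heven : Odd (Nat.card K) := by
    have h1 : 2 ∣ Nat.card H := by
      have h2 : orderOf (⟨z, hzH⟩ : H) = 2 :=
        orderOf_eq_prime (by rw [pow_two]; exact Subtype.ext hz2)
          (fun h => hz1 (congrArg Subtype.val h))
      rw [← h2]; exact orderOf_dvd_natCard _
    have h3 := (Cfsg.Agent.Frobenius.coprime_card_index hF).coprime_dvd_left h1
    rw [hc.index_eq_card] at h3
    exact Nat.coprime_two_left.mp h3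
  refine ⟨heven, ?_⟩
  let c : L → (Additive K →+ Additive K) := fun g =>
    MonoidHom.toAdditive (MulAut.conjNormal g : MulAut K).toMonoidHom
  have hcc : ∀ (g g' : L) (v : Additive K), c g (c g' v) = c (g * g') v := fun g g' v =>
    congrArg Additive.ofMul ((DFunLike.congr_fun (map_mul (MulAut.conjNormal : L →* MulAut K) g g') v.toMul).symm)
  have hcz : ∀ v : Additive K, c z v = -v := fun v =>
    congrArg Additive.ofMul (Subtype.ext (by simpa using hinv _ v.toMul.2))
  refine isSquare_card_aux (Nat.card K) (Additive K) le_rfl (c i) (c j) (fun v => by rw [hcc, hii, hcz])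
    (fun v => by rw [hcc, hjj, hcz]) (fun v => ?_) heven
  rw [hcc, hcc, hij, ← hcc z, hcz]

end Cfsg.Agent.S4296
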