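import Cfsg.Statements.S4299
import Cfsg.Agent.Lib.Frobenius.Construct
import Mathlib.NumberTheory.PrimesCongruentOne
import Mathlib.RingTheory.IntegralDomain
import Mathlib.Data.ZMod.Basic

set_option autoImplicit false
open Cfsg

namespace Cfsg.Agent.S4299

/-- A prime field containing a primitive root of unity of the given order. -/
theorem exists_prime_unit {n : ℕ} (hn : n ≠ 0) :
    ∃ q : ℕ, q.Prime ∧ 4 < q ∧ ∃ ζ : (ZMod q)ˣ, orderOf ζ = n := by
  obtain ⟨q, hq, hqn, hmod⟩ := Nat.exists_prime_gt_modEq_one 4 hn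
  haveI := Fact.mk hq
  refine ⟨q, hq, hqn, ?_⟩
  obtain ⟨g, hg⟩ := IsCyclic.exists_ofOrder_eq_natCard (α := (ZMod q)ˣ)
  have hcard : Nat.card (ZMod q)ˣ = q - 1 := by
    rw [Nat.card_eq_fintype_card, ZMod.card_units]
  have hdvd : n ∣ orderOf g := by
    rw [hg, hcard]
    exact (Nat.modEq_iff_dvd' hq.one_lt.le).mp hmod.symm
  exact ⟨g ^ (orderOf g / n), orderOf_pow_orderOf_div (orderOf_pos g).ne' hdvd⟩

/-- Every nontrivial finite cyclic group occurs as a Frobenius complement of some finite Frobenius group. -/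
theorem result {C : Type*} [Group C] [Finite C] [IsCyclic C] [Nontrivial C] :
    ∃ (L : Type) (_ : Group L) (_ : Finite L) (H : Subgroup L), Cfsg.IsFrobeniusComplement H ∧ Nonempty (C ≃* H) := by
  have hn : Nat.card C ≠ 0 := Nat.card_pos.ne'
  obtain ⟨q, hq, -, ζ, hζ⟩ := exists_prime_unit hn
  haveI := Fact.mk hq
  have hcard : Nat.card (Subgroup.zpowers ζ) = Nat.card C := by rw [Nat.card_zpowers, hζ]
  haveI : Nontrivial (Subgroup.zpowers ζ) := by
    rw [← Finite.one_lt_card_iff_nontrivial, hcard]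
    exact Finite.one_lt_card
  obtain ⟨L, i1, i2, H, hH, ⟨e⟩⟩ :=
    Cfsg.Agent.Frobenius.exists_frobenius_of_fixedPointFree_add (V := ZMod q)
      (A := Subgroup.zpowers ζ) (fun a ha v hv => by
        by_contra hv0
        have h1 : (((a : (ZMod q)ˣ) : ZMod q)) * v = 1 * v := by rw [one_mul]; exact hv
        exact ha (Subtype.ext (Units.ext (mul_right_cancel₀ hv0 h1))))
  exact ⟨L, i1, i2, H, hH, ⟨(mulEquivOfCyclicCardEq hcard.symm).trans e⟩⟩

end Cfsg.Agent.S4299
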