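import Cfsg.Statements.S4297
import Cfsg.Agent.Lib.Frobenius.Construct
import Mathlib.NumberTheory.PrimesCongruentOne
import Mathlib.RingTheory.IntegralDomain
import Mathlib.Data.ZMod.Basic
import Cfsg.Agent.S4299
import Mathlib.GroupTheory.SpecificGroups.Quaternion

set_option autoImplicit false
open Cfsg

namespace Cfsg.Agent.S4297

/-- For every n ≥ 2 the dicyclic group of order 4n (generated by an element a of order 2n and an element x with x² = aⁿ and x a x⁻¹ = a⁻¹) occurs as a Frobenius complement of some finite Frobenius group. -/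
theorem result (n : ℕ) (hn : 2 ≤ n) :
    ∃ (L : Type) (_ : Group L) (_ : Finite L) (H : Subgroup L), Cfsg.IsFrobeniusComplement H ∧ Nonempty (H ≃* QuaternionGroup n) := by
  obtain ⟨q, hq, hq4, ζ, hζ⟩ := Cfsg.Agent.S4299.exists_prime_unit (n := 2 * n) (by omega)
  haveI := Fact.mk hq
  haveI : NeZero (2 * n) := ⟨by omega⟩
  haveI : NeZero n := ⟨by omega⟩
  let z : ZMod (2 * n) → ZMod q := fun i => ((ζ : ZMod q)) ^ i.val
  have hz0 : z 0 = 1 := by simp [z]
  have hord : orderOf (ζ : ZMod q) = 2 * n := by rw [orderOf_units, hζ]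
  have hadd : ∀ i j, z (i + j) = z i * z j := fun i j => by
    simp only [z, ← pow_add, ZMod.val_add]
    conv_rhs => rw [← pow_mod_orderOf, hord]
  have hinj : ∀ i, z i = 1 → i = 0 := fun i h => by
    have h0 : (ζ : ZMod q) ^ i.val = 1 := h
    have h1 : 2 * n ∣ i.val := hord.symm.dvd.trans (orderOf_dvd_of_pow_eq_one h0)
    exact (ZMod.val_eq_zero i).mp (Nat.eq_zero_of_dvd_of_lt h1 i.val_lt)
  have hzn : z (n : ZMod (2 * n)) = -1 := by
    have hv : (n : ZMod (2 * n)).val = n := ZMod.val_cast_of_lt (by omega)
    have h2 : z (n : ZMod (2 * n)) * z (n : ZMod (2 * n)) = 1 * 1 := by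
      rw [← hadd, one_mul, ← Nat.cast_add, ← two_mul, ZMod.natCast_self, hz0]
    rcases mul_self_eq_mul_self_iff.mp h2 with h | h
    · have h3 := hinj _ h
      rw [h3, ZMod.val_zero] at hv
      omega
    · exact h
  have hneg : z (-(n : ZMod (2 * n))) = -1 := by
    have h : (-(n : ZMod (2 * n))) = (n : ZMod (2 * n)) := by
      rw [neg_eq_iff_add_eq_zero, ← Nat.cast_add, ← two_mul, ZMod.natCast_self]
    rw [h, hzn]
  let act : QuaternionGroup n → ZMod q × ZMod q → ZMod q × ZMod q := fun g v =>
    match g with
    | .a i => (z i * v.1, z (-i) * v.2)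
    | .xa i => (-(z (-i) * v.2), z i * v.1)
  have hone : ∀ v, act 1 v = v := by
    intro v
    show act (QuaternionGroup.a 0) v = v
    simp only [act, neg_zero, hz0, one_mul]
  have hmul : ∀ g g' v, act (g * g') v = act g (act g' v) := by
    intro g g' v
    rcases g with i | i <;> rcases g' with j | j
    · simp only [QuaternionGroup.a_mul_a, act, neg_add, hadd]
      ext <;> simp only [mul_assoc]
    · simp only [QuaternionGroup.a_mul_xa, act, sub_eq_add_neg, neg_add, neg_neg, hadd]
      ext <;> ring
    · simp only [QuaternionGroup.xa_mul_a, act, neg_add, hadd]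
      ext <;> ring
    · simp only [QuaternionGroup.xa_mul_xa, act, sub_eq_add_neg, neg_add, neg_neg, hadd, hzn, hneg]
      ext <;> ring
  let inst : DistribMulAction (QuaternionGroup n) (ZMod q × ZMod q) :=
    { smul := act
      one_smul := hone
      mul_smul := hmul
      smul_zero := fun g => by
        show act g 0 = 0
        rcases g with i | i <;> simp [act]
      smul_add := fun g v w => by
        show act g (v + w) = act g v + act g w
        rcases g with i | i <;> simp only [act] <;> ext <;> simp only [Prod.fst_add, Prod.snd_add] <;>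
          ring }
  obtain ⟨L, i1, i2, H, hH, ⟨e⟩⟩ :=
    @Cfsg.Agent.Frobenius.exists_frobenius_of_fixedPointFree_add (ZMod q × ZMod q)
      (QuaternionGroup n) _ _ _ _ _ _ inst (fun g hg v hv => by
        change act g v = v at hv
        rcases g with i | i
        · simp only [act, Prod.ext_iff] at hv
          by_contra hv0
          have h1 : ∀ (j : ZMod (2 * n)) (w : ZMod q), z j * w = w → w ≠ 0 → j = 0 :=
            fun j w hw hw0 => hinj j (mul_right_cancel₀ hw0 (by rw [one_mul]; exact hw))
          have hi : i = 0 := by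
            by_cases h : v.1 = 0
            · have h2 : v.2 ≠ 0 := fun h2 => hv0 (Prod.ext h h2)
              exact neg_eq_zero.mp (h1 _ _ hv.2 h2)
            · exact h1 _ _ hv.1 h
          exact hg (by rw [hi]; rfl)
        · simp only [act, Prod.ext_iff] at hv
          obtain ⟨h1, h2⟩ := hv
          have h3 : z (-i) * z i = 1 := by rw [← hadd, neg_add_cancel, hz0]
          have h4 : (2 : ZMod q) * v.1 = 0 := by
            linear_combination (-1) * h1 + z (-i) * h2 - v.1 * h3
          have h5 : (2 : ZMod q) ≠ 0 := by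
            intro h
            have h6 : ((2 : ℕ) : ZMod q) = 0 := by exact_mod_cast h
            have := Nat.le_of_dvd two_pos ((ZMod.natCast_eq_zero_iff 2 q).mp h6)
            omega
          have h7 : v.1 = 0 := (mul_eq_zero.mp h4).resolve_left h5
          exact Prod.ext h7 (by rw [← h2, h7, mul_zero]; rfl))
  exact ⟨L, i1, i2, H, hH, ⟨e.symm⟩⟩

end Cfsg.Agent.S4297
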