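import Cfsg.Statements.S4298
import Cfsg.Agent.Lib.Frobenius.Construct
import Mathlib.LinearAlgebra.Matrix.SpecialLinearGroup
import Mathlib.Data.ZMod.Basic
import Mathlib.Tactic.Ring
import Mathlib.Tactic.FinCases
import Mathlib.LinearAlgebra.Matrix.Determinant.Basic

set_option autoImplicit false
open Cfsg

namespace Cfsg.Agent.S4298

/-- Images in `SL(2,5)` of the elements of `SL(2,3)`, indexed by the entries in base three. -/
def table : List (ZMod 5 × ZMod 5 × ZMod 5 × ZMod 5) :=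
  [(1, 0, 0, 1), (1, 0, 0, 1), (1, 0, 0, 1), (1, 0, 0, 1), (1, 0, 0, 1), (1, 0, 0, 1),
   (1, 0, 0, 1), (1, 0, 0, 1), (1, 0, 0, 1), (1, 0, 0, 1), (1, 0, 0, 1), (1, 0, 0, 1),
   (1, 0, 0, 1), (1, 0, 0, 1), (1, 0, 0, 1), (0, 4, 1, 0), (2, 4, 3, 4), (3, 2, 1, 1),
   (1, 0, 0, 1), (1, 0, 0, 1), (1, 0, 0, 1), (0, 1, 4, 0), (2, 3, 4, 4), (3, 1, 2, 1),
   (1, 0, 0, 1), (1, 0, 0, 1), (1, 0, 0, 1), (1, 0, 0, 1), (1, 0, 0, 1), (1, 0, 0, 1),
   (1, 0, 0, 1), (1, 2, 1, 3), (1, 0, 0, 1), (1, 0, 0, 1), (3, 3, 4, 1), (1, 0, 0, 1),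
   (1, 0, 0, 1), (1, 1, 2, 3), (1, 0, 0, 1), (1, 0, 0, 1), (1, 0, 0, 1), (0, 2, 2, 0),
   (4, 2, 1, 2), (1, 0, 0, 1), (1, 0, 0, 1), (1, 0, 0, 1), (3, 4, 3, 1), (1, 0, 0, 1),
   (4, 1, 2, 2), (1, 0, 0, 1), (1, 0, 0, 1), (1, 0, 0, 1), (1, 0, 0, 1), (3, 0, 0, 2),
   (1, 0, 0, 1), (1, 0, 0, 1), (4, 0, 0, 4), (1, 0, 0, 1), (1, 0, 0, 1), (2, 2, 1, 4),
   (1, 0, 0, 1), (1, 0, 0, 1), (4, 3, 4, 2), (1, 0, 0, 1), (1, 0, 0, 1), (2, 1, 2, 4),
   (1, 0, 0, 1), (2, 0, 0, 3), (1, 0, 0, 1), (1, 4, 3, 3), (1, 0, 0, 1), (1, 0, 0, 1),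
   (1, 0, 0, 1), (1, 0, 0, 1), (4, 4, 3, 2), (1, 3, 4, 3), (1, 0, 0, 1), (1, 0, 0, 1),
   (1, 0, 0, 1), (0, 3, 3, 0), (1, 0, 0, 1)]

/-- The embedding of `SL(2,3)` in `SL(2,5)`. -/
def img (a b c d : ZMod 3) : ZMod 5 × ZMod 5 × ZMod 5 × ZMod 5 :=
  table.getD (27 * a.val + 9 * b.val + 3 * c.val + d.val) (1, 0, 0, 1)

/-- Product of two matrices given as quadruples. -/
def mul4 (x y : ZMod 5 × ZMod 5 × ZMod 5 × ZMod 5) : ZMod 5 × ZMod 5 × ZMod 5 × ZMod 5 :=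
  (x.1 * y.1 + x.2.1 * y.2.2.1, x.1 * y.2.1 + x.2.1 * y.2.2.2,
    x.2.2.1 * y.1 + x.2.2.2 * y.2.2.1, x.2.2.1 * y.2.1 + x.2.2.2 * y.2.2.2)

/-- Action of a quadruple on a vector. -/
def app (x : ZMod 5 × ZMod 5 × ZMod 5 × ZMod 5) (v : ZMod 5 × ZMod 5) : ZMod 5 × ZMod 5 :=
  (x.1 * v.1 + x.2.1 * v.2, x.2.2.1 * v.1 + x.2.2.2 * v.2)

theorem app_one (v : ZMod 5 × ZMod 5) : app (1, 0, 0, 1) v = v := by
  simp [app]

theorem app_mul (x y : ZMod 5 × ZMod 5 × ZMod 5 × ZMod 5) (v : ZMod 5 × ZMod 5) :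
    app (mul4 x y) v = app x (app y v) := by
  simp only [app, mul4]
  ext <;> ring

theorem app_add (x : ZMod 5 × ZMod 5 × ZMod 5 × ZMod 5) (v w : ZMod 5 × ZMod 5) :
    app x (v + w) = app x v + app x w := by
  simp only [app, Prod.fst_add, Prod.snd_add]
  ext <;> simp <;> ring

theorem img_one : img 1 0 0 1 = (1, 0, 0, 1) := by decide +kernel

theorem img_mul : ∀ a b c d : ZMod 3, a * d - b * c = 1 → ∀ e f g h : ZMod 3, e * h - f * g = 1 →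
    img (a * e + b * g) (a * f + b * h) (c * e + d * g) (c * f + d * h) =
      mul4 (img a b c d) (img e f g h) := by
  decide +kernel

theorem img_fpf : ∀ a b c d : ZMod 3, a * d - b * c = 1 →
    (a, b, c, d) = (1, 0, 0, 1) ∨ ∀ v : ZMod 5 × ZMod 5, app (img a b c d) v = v → v = 0 := by
  decide +kernel

/-- The group SL(2,3) of order 24 (the binary tetrahedral group) occurs as a Frobenius complement of some finite Frobenius group. -/
theorem result :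
    ∃ (L : Type) (_ : Group L) (_ : Finite L) (H : Subgroup L), Cfsg.IsFrobeniusComplement H ∧ Nonempty (H ≃* Matrix.SpecialLinearGroup (Fin 2) (ZMod 3)) := by
  let act : Matrix.SpecialLinearGroup (Fin 2) (ZMod 3) → ZMod 5 × ZMod 5 → ZMod 5 × ZMod 5 :=
    fun g v => app (img (g.1 0 0) (g.1 0 1) (g.1 1 0) (g.1 1 1)) v
  have hdet : ∀ g : Matrix.SpecialLinearGroup (Fin 2) (ZMod 3),
      g.1 0 0 * g.1 1 1 - g.1 0 1 * g.1 1 0 = 1 := fun g => by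
    rw [← Matrix.det_fin_two]; exact g.2
  have hone : ∀ v, act 1 v = v := fun v => by
    show app (img ((1 : Matrix (Fin 2) (Fin 2) (ZMod 3)) 0 0) ((1 : Matrix (Fin 2) (Fin 2) (ZMod 3)) 0 1)
      ((1 : Matrix (Fin 2) (Fin 2) (ZMod 3)) 1 0) ((1 : Matrix (Fin 2) (Fin 2) (ZMod 3)) 1 1)) v = v
    simp only [Matrix.one_apply_eq, Matrix.one_apply_ne, ne_eq, zero_ne_one, one_ne_zero,
      not_false_eq_true]
    rw [img_one, app_one]
  have hmul : ∀ g h v, act (g * h) v = act g (act h v) := fun g h v => by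
    show app (img ((g.1 * h.1) 0 0) ((g.1 * h.1) 0 1) ((g.1 * h.1) 1 0) ((g.1 * h.1) 1 1)) v = _
    simp only [Matrix.mul_apply, Fin.sum_univ_two]
    rw [img_mul _ _ _ _ (hdet g) _ _ _ _ (hdet h), app_mul]
  let inst : DistribMulAction (Matrix.SpecialLinearGroup (Fin 2) (ZMod 3)) (ZMod 5 × ZMod 5) :=
    { smul := act
      one_smul := hone
      mul_smul := hmul
      smul_zero := fun g => by
        show act g 0 = 0
        simp [act, app]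
      smul_add := fun g v w => app_add _ v w }
  haveI : Fact (Nat.Prime 5) := ⟨by norm_num⟩
  haveI : Nontrivial (Matrix.SpecialLinearGroup (Fin 2) (ZMod 3)) := by
    refine ⟨⟨1, ⟨!![1, 1; 0, 1], by simp [Matrix.det_fin_two]⟩, fun h => ?_⟩⟩
    have h1 := congrArg (fun g : Matrix.SpecialLinearGroup (Fin 2) (ZMod 3) => g.1 0 1) h
    simp at h1
  obtain ⟨L, i1, i2, H, hH, ⟨e⟩⟩ :=
    @Cfsg.Agent.Frobenius.exists_frobenius_of_fixedPointFree_add (ZMod 5 × ZMod 5)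
      (Matrix.SpecialLinearGroup (Fin 2) (ZMod 3)) _ _ _ _ _ _ inst (fun g hg v hv => by
        rcases img_fpf _ _ _ _ (hdet g) with h | h
        · refine absurd ?_ hg
          simp only [Prod.mk.injEq] at h
          obtain ⟨ha, hb, hc, hd⟩ := h
          ext i j
          fin_cases i <;> fin_cases j <;> simpa
        · exact h v hv)
  exact ⟨L, i1, i2, H, hH, ⟨e.symm⟩⟩

end Cfsg.Agent.S4298
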