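import Cfsg.Statements.S4300
-- no helper imports

set_option autoImplicit false
open Cfsg

namespace Cfsg.Agent.S4300

/-- Let G act faithfully and primitively on a set X, and suppose the stabilizer of some point is a simple group. Then either G is simple, or G has a normal subgroup, neither trivial nor the whole group, that acts regularly on X (transitively with trivial point stabilizers). -/
theorem result {G : Type*} [Group G] {X : Type*} [MulAction G X] [FaithfulSMul G X]
    (hprim : MulAction.IsPreprimitive G X) (x : X) (hsimple : IsSimpleGroup (MulAction.stabilizer G x)) :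
    IsSimpleGroup G ∨ ∃ N : Subgroup G, N.Normal ∧ N ≠ ⊥ ∧ N ≠ ⊤ ∧
      MulAction.IsPretransitive N X ∧ ∀ y : X, MulAction.stabilizer N y = ⊥ := by
  by_contra hcon
  push Not at hcon
  obtain ⟨hns, hno⟩ := hcon
  have : Nontrivial G := (MulAction.stabilizer G x).subtype_injective.nontrivial
  apply hns
  refine ⟨fun N hN => ?_⟩
  by_contra hne
  push Not at hne
  obtain ⟨hb, ht⟩ := hne
  have hfp : MulAction.fixedPoints N X ≠ Set.univ := by
    intro h
    apply hb
    rw [eq_bot_iff]
    intro n hn
    rw [Subgroup.mem_bot]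
    apply FaithfulSMul.eq_of_smul_eq_smul (α := X)
    intro z
    rw [one_smul]
    exact (h ▸ Set.mem_univ z : z ∈ MulAction.fixedPoints N X) ⟨n, hn⟩
  have htr : MulAction.IsPretransitive N X :=
    MulAction.IsQuasiPreprimitive.isPretransitive_of_normal hfp
  have hnor : (N.subgroupOf (MulAction.stabilizer G x)).Normal := inferInstance
  rcases hnor.eq_bot_or_eq_top with h | h
  · obtain ⟨z, hz⟩ := hno N hN hb ht htr
    apply hz
    rw [eq_bot_iff]
    intro n hn
    obtain ⟨m, hm⟩ := MulAction.exists_smul_eq N x z
    rw [Subgroup.mem_bot]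
    have hfix : ((m⁻¹ * n * m : N) : G) ∈ MulAction.stabilizer G x := by
      change (m⁻¹ * n * m) • x = x
      rw [mul_smul, mul_smul, hm, MulAction.mem_stabilizer_iff.mp hn, ← hm, inv_smul_smul]
    have h2 : (⟨_, hfix⟩ : MulAction.stabilizer G x) ∈ N.subgroupOf (MulAction.stabilizer G x) :=
      (m⁻¹ * n * m).2
    rw [h, Subgroup.mem_bot, Subtype.ext_iff] at h2
    have h3 : m⁻¹ * n * m = 1 := Subtype.ext h2
    calc n = m * (m⁻¹ * n * m) * m⁻¹ := by group
      _ = 1 := by rw [h3]; group
  · apply ht
    rw [Subgroup.subgroupOf_eq_top] at h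
    rw [eq_top_iff]
    intro g _
    obtain ⟨m, hm⟩ := MulAction.exists_smul_eq N x (g • x)
    have : (m : G)⁻¹ * g ∈ N := h (by
      rw [MulAction.mem_stabilizer_iff, mul_smul, ← hm]
      exact inv_smul_smul m x)
    simpa using mul_mem m.2 this

end Cfsg.Agent.S4300
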