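import Cfsg.Statements.S4301
import Mathlib.GroupTheory.GroupAction.MultipleTransitivity
import Mathlib.GroupTheory.Perm.Basic

set_option autoImplicit false
open Cfsg

namespace Cfsg.Agent.S4301

/-- One-point extension of a multiply transitive group. Let X be a set and G a group of permutations of Option X (the set X with one extra point ∗ = none) all of whose elements fix ∗, such that G is k-transitive on the points of X for some k ≥ 2, X having at least k points. Suppose a permutation h of Option X and an element g of G satisfy: h interchanges ∗ with a point x of X and fixes a point y of X; g interchanges x and y; (g h)³ and h² lie in G; and for every f in G fixing x, the product h f h lies in G and fixes x. Then an element of the group generated by G and h fixes ∗ exactly when it lies in G, and that group acts (k+1)-transitively on Option X. -/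
theorem result {X : Type*} (G : Subgroup (Equiv.Perm (Option X))) (hfix : ∀ f ∈ G, f none = none)
    (k : ℕ) (hk : 2 ≤ k) (hkX : Nonempty (Fin k ↪ X))
    (htrans : ∀ a b : Fin k ↪ X, ∃ f ∈ G, ∀ i, f (some (a i)) = some (b i))
    (h g : Equiv.Perm (Option X)) (hg : g ∈ G) (x y : X)
    (h1 : h none = some x) (h2 : h (some x) = none) (h3 : h (some y) = some y)
    (h4 : g (some x) = some y) (h5 : g (some y) = some x)
    (h6 : (g * h) ^ 3 ∈ G) (h7 : h ^ 2 ∈ G)
    (h8 : ∀ f ∈ G, f (some x) = some x → h * f * h ∈ G ∧ (h * f * h) (some x) = some x) :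
    (∀ f ∈ Subgroup.closure ((G : Set (Equiv.Perm (Option X))) ∪ {h}), f none = none ↔ f ∈ G) ∧
      MulAction.IsMultiplyPretransitive (Subgroup.closure ((G : Set (Equiv.Perm (Option X))) ∪ {h})) (Option X) (k + 1) := by
  classical
  have hk0 : 0 < k := by omega
  obtain ⟨e0⟩ := hkX
  let i0 : Fin k := ⟨0, hk0⟩
  let i1 : Fin k := ⟨1, by omega⟩
  have hi01 : i0 ≠ i1 := by simp [i0, i1]
  have hemb : ∀ u v : X, u ≠ v → ∃ e : Fin k ↪ X, e i0 = u ∧ e i1 = v := by
    intro u v huv
    let e1 : Fin k ↪ X := e0.trans (Equiv.swap (e0 i0) u).toEmbedding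
    have h1' : e1 i0 = u := by simp [e1]
    have hne : e1 i1 ≠ u := fun h => hi01 (e1.injective (h1'.trans h.symm))
    refine ⟨e1.trans (Equiv.swap (e1 i1) v).toEmbedding, ?_, by simp⟩
    show Equiv.swap (e1 i1) v (e1 i0) = u
    rw [h1', Equiv.swap_apply_of_ne_of_ne hne.symm huv]
  have hone : ∀ u z : X, ∃ f ∈ G, f (some u) = some z := by
    intro u z
    obtain ⟨f, hf, hf'⟩ := htrans (e0.trans (Equiv.swap (e0 i0) u).toEmbedding)
      (e0.trans (Equiv.swap (e0 i0) z).toEmbedding)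
    exact ⟨f, hf, by simpa using hf' i0⟩
  have hxy : x ≠ y := by
    rintro rfl
    rw [h2] at h3
    exact Option.some_ne_none _ h3.symm
  -- the set `G ∪ G h G`
  let U : Set (Equiv.Perm (Option X)) := {f | f ∈ G ∨ ∃ a ∈ G, ∃ b ∈ G, f = a * h * b}
  have hUl : ∀ a ∈ G, ∀ f ∈ U, a * f ∈ U := by
    rintro a ha f (hf | ⟨b, hb, c, hc, rfl⟩)
    · exact Or.inl (G.mul_mem ha hf)
    · exact Or.inr ⟨a * b, G.mul_mem ha hb, c, hc, by group⟩
  have hUr : ∀ a ∈ G, ∀ f ∈ U, f * a ∈ U := by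
    rintro a ha f (hf | ⟨b, hb, c, hc, rfl⟩)
    · exact Or.inl (G.mul_mem hf ha)
    · exact Or.inr ⟨b, hb, c * a, G.mul_mem hc ha, by group⟩
  have hh2 : (h ^ 2)⁻¹ ∈ G := G.inv_mem h7
  have hUh : h ∈ U := Or.inr ⟨1, G.one_mem, 1, G.one_mem, by group⟩
  have hUhi : h⁻¹ ∈ U := by
    rw [show h⁻¹ = (h ^ 2)⁻¹ * h by group]
    exact hUl _ hh2 _ hUh
  have hUinv : ∀ f ∈ U, f⁻¹ ∈ U := by
    rintro f (hf | ⟨a, ha, b, hb, rfl⟩)
    · exact Or.inl (G.inv_mem hf)
    · rw [show (a * h * b)⁻¹ = b⁻¹ * h⁻¹ * a⁻¹ by group]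
      exact hUr _ (G.inv_mem ha) _ (hUl _ (G.inv_mem hb) _ hUhi)
  have hhgh : h * g * h ∈ U := by
    rw [show h * g * h = g⁻¹ * (g * h) ^ 3 * h⁻¹ * g⁻¹ by rw [pow_three]; group]
    exact hUr _ (G.inv_mem hg) _ (hUl _ (G.mul_mem (G.inv_mem hg) h6) _ hUhi)
  have hkey : ∀ f ∈ G, h * f * h ∈ U := by
    intro f hf
    by_cases hfx : f (some x) = some x
    · exact Or.inl (h8 f hf hfx).1
    obtain ⟨z, hz⟩ : ∃ z, f (some x) = some z := by
      cases he : f (some x) with
      | none => exact absurd (f.injective (he.trans (hfix f hf).symm)) (Option.some_ne_none x)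
      | some z => exact ⟨z, rfl⟩
    have hzx : z ≠ x := fun he => hfx (by rw [hz, he])
    obtain ⟨e, he0, he1⟩ := hemb x y hxy
    obtain ⟨e', he0', he1'⟩ := hemb x z hzx.symm
    obtain ⟨a, ha, hae⟩ := htrans e e'
    have hax : a (some x) = some x := by simpa [he0, he0'] using hae i0
    have hay : a (some y) = some z := by simpa [he1, he1'] using hae i1
    set b := (a * g)⁻¹ * f with hb
    have hbG : b ∈ G := G.mul_mem (G.inv_mem (G.mul_mem ha hg)) hf
    have hbx : b (some x) = some x := by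
      rw [hb, Equiv.Perm.mul_apply, hz, Equiv.Perm.inv_def, Equiv.symm_apply_eq,
        Equiv.Perm.mul_apply, h4, hay]
    rw [show h * f * h = (h * a * h) * (h ^ 2)⁻¹ * (h * g * h) * ((h ^ 2)⁻¹ * (h * b * h)) by
      rw [hb]; group]
    exact hUr _ (G.mul_mem hh2 (h8 b hbG hbx).1) _ (hUl _ (G.mul_mem (h8 a ha hax).1 hh2) _ hhgh)
  have hUmul : ∀ f ∈ U, ∀ f' ∈ U, f * f' ∈ U := by
    rintro f (hf | ⟨a, ha, b, hb, rfl⟩) f' hf'
    · exact hUl f hf f' hf'
    rcases hf' with hf' | ⟨c, hc, d, hd, rfl⟩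
    · exact hUr f' hf' _ (Or.inr ⟨a, ha, b, hb, rfl⟩)
    · rw [show a * h * b * (c * h * d) = a * (h * (b * c) * h) * d by group]
      exact hUr d hd _ (hUl a ha _ (hkey _ (G.mul_mem hb hc)))
  have hsub : ∀ f ∈ Subgroup.closure ((G : Set (Equiv.Perm (Option X))) ∪ {h}), f ∈ U := by
    intro f hf
    induction hf using Subgroup.closure_induction with
    | mem u hu =>
      rcases hu with hu | hu
      · exact Or.inl hu
      · rw [Set.mem_singleton_iff.mp hu]; exact hUh
    | one => exact Or.inl G.one_mem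
    | mul u v _ _ hu hv => exact hUmul u hu v hv
    | inv u _ hu => exact hUinv u hu
  set H := Subgroup.closure ((G : Set (Equiv.Perm (Option X))) ∪ {h}) with hH
  have hGH : ∀ f ∈ G, f ∈ H := fun f hf => Subgroup.subset_closure (Or.inl hf)
  have hhH : h ∈ H := Subgroup.subset_closure (Or.inr rfl)
  refine ⟨fun f hf => ⟨fun hn => ?_, fun h' => hfix f h'⟩, ?_⟩
  · rcases hsub f hf with h' | ⟨a, ha, b, hb, rfl⟩
    · exact h'
    · exfalso
      rw [Equiv.Perm.mul_apply, Equiv.Perm.mul_apply, hfix b hb, h1] at hn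
      exact Option.some_ne_none x (a.injective (hn.trans (hfix a ha).symm))
  -- move the first point to the new one
  have hto : ∀ o : Option X, ∃ τ ∈ H, τ o = none := by
    rintro (_ | z)
    · exact ⟨1, one_mem _, rfl⟩
    · obtain ⟨a, ha, haz⟩ := hone z x
      exact ⟨h * a, mul_mem hhH (hGH a ha), by rw [Equiv.Perm.mul_apply, haz, h2]⟩
  have hnorm : ∀ e : Fin (k + 1) ↪ Option X, ∃ τ ∈ H, τ (e 0) = none ∧
      ∃ c : Fin k ↪ X, ∀ i, τ (e i.succ) = some (c i) := by
    intro e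
    obtain ⟨τ, hτ, hτ0⟩ := hto (e 0)
    have hex : ∀ i : Fin k, ∃ z, τ (e i.succ) = some z := fun i => by
      cases he : τ (e i.succ) with
      | none => exact absurd (e.injective (τ.injective (he.trans hτ0.symm))) (Fin.succ_ne_zero i)
      | some z => exact ⟨z, rfl⟩
    choose c hc using hex
    exact ⟨τ, hτ, hτ0, ⟨c, fun i j hij => Fin.succ_injective _
      (e.injective (τ.injective ((hc i).trans ((congrArg some hij).trans (hc j).symm))))⟩, hc⟩
  refine ⟨fun e e' => ?_⟩
  obtain ⟨τ, hτ, hτ0, c, hc⟩ := hnorm e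
  obtain ⟨τ', hτ', hτ0', c', hc'⟩ := hnorm e'
  obtain ⟨f, hf, hfc⟩ := htrans c c'
  refine ⟨⟨τ'⁻¹ * f * τ, mul_mem (mul_mem (inv_mem hτ') (hGH f hf)) hτ⟩, ?_⟩
  ext1 i
  show (τ'⁻¹ * f * τ) (e i) = e' i
  rw [Equiv.Perm.mul_apply, Equiv.Perm.mul_apply, Equiv.Perm.inv_def, Equiv.symm_apply_eq]
  refine Fin.cases ?_ (fun j => ?_) i
  · rw [hτ0, hfix f hf, hτ0']
  · rw [hc, hfc, hc']

end Cfsg.Agent.S4301
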