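import Cfsg.Statements.S4304
import Cfsg.Agent.SylowNum.Decomp
import Cfsg.Agent.SylowNum.Simple

set_option autoImplicit false
open Cfsg

namespace Cfsg.Agent.S4304

open scoped Pointwise
open MulAction Cfsg.Agent.SylowNum

theorem not_isPrimePow_fifteen : ¬ IsPrimePow 15 := by
  rw [isPrimePow_nat_iff]
  rintro ⟨p, k, hp, hk, h⟩
  have h3 : (3 : ℕ) ∣ p := Nat.prime_three.dvd_of_dvd_pow (n := k) (by rw [h]; norm_num)
  have h5 : (5 : ℕ) ∣ p := (show Nat.Prime 5 by norm_num).dvd_of_dvd_pow (n := k) (by rw [h]; norm_num)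
  have := (Nat.prime_dvd_prime_iff_eq Nat.prime_three hp).mp h3
  have := (Nat.prime_dvd_prime_iff_eq (by norm_num) hp).mp h5
  omega

theorem not_order_minFac {S : Type*} [Group S] [Finite S] [IsSimpleGroup S]
    (hS : ¬ IsMulCommutative S) (N : ℕ) (hN : Nat.card S = N) (p : ℕ) [Fact p.Prime]
    (hmin : N.minFac = p) (hsq : ¬ p ^ 2 ∣ N) : False := by
  obtain ⟨P⟩ : Nonempty (Sylow p S) := inferInstance
  refine not_isCyclic_sylow_minFac hS (hN ▸ hmin) P ?_
  obtain ⟨k, hk⟩ := IsPGroup.iff_card.mp P.isPGroup'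
  have hd : p ^ k ∣ N := hN ▸ hk ▸ Subgroup.card_subgroup_dvd_card _
  have hk1 : k ≤ 1 := by
    by_contra h
    exact hsq ((pow_dvd_pow p (by omega)).trans hd)
  interval_cases k
  · have : Subsingleton (P : Subgroup S) := Finite.card_le_one_iff_subsingleton.mp (by rw [hk]; simp)
    exact isCyclic_of_subsingleton
  · exact isCyclic_of_prime_card (p := p) (by rw [hk, pow_one])

theorem not_order_315 {S : Type*} [Group S] [Finite S] [IsSimpleGroup S]
    (hS : ¬ IsMulCommutative S) (hN : Nat.card S = 315) : False := by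
  have : Fact (Nat.Prime 3) := ⟨Nat.prime_three⟩
  have : Fact (Nat.Prime 5) := ⟨by norm_num⟩
  obtain ⟨P⟩ : Nonempty (Sylow 3 S) := inferInstance
  obtain ⟨k, hk⟩ := IsPGroup.iff_card.mp P.isPGroup'
  have hPcard : Nat.card (P : Subgroup S) = 9 := by
    have h2 : 3 ^ 2 ∣ Nat.card (P : Subgroup S) := P.pow_dvd_card_of_pow_dvd_card (by rw [hN]; norm_num)
    have h3 : Nat.card (P : Subgroup S) ∣ 315 := hN ▸ Subgroup.card_subgroup_dvd_card _
    rw [hk] at h2 h3 ⊢
    have h4 : k ≤ 2 := by
      by_contra h
      have : (3 : ℕ) ^ 3 ∣ 315 := (pow_dvd_pow 3 (by omega)).trans h3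
      norm_num at this
    have h5 : 2 ≤ k := (Nat.pow_dvd_pow_iff_le_right (by norm_num)).mp h2
    rw [show k = 2 by omega]; norm_num
  have hn7 : Nat.card (Sylow 3 S) = 7 := by
    have hd : Nat.card (Sylow 3 S) ∣ 35 := by
      have h1 := P.card_dvd_index
      have h2 := Subgroup.card_mul_index (P : Subgroup S)
      rw [hPcard, hN] at h2
      rwa [show (P : Subgroup S).index = 35 by omega] at h1
    have hmod : Nat.card (Sylow 3 S) % 3 = 1 := card_sylow_modEq_one 3 S
    have hne : Nat.card (Sylow 3 S) ≠ 1 := by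
      intro h1
      have : Subsingleton (Sylow 3 S) := Finite.card_le_one_iff_subsingleton.mp h1.le
      exact P.ne_bot_of_dvd_card (by rw [hN]; norm_num)
        (normal_pGroup_eq_bot hS _ P.normal_of_subsingleton P.isPGroup')
    have := Nat.le_of_dvd (by norm_num) hd
    interval_cases h : Nat.card (Sylow 3 S) <;> omega
  have hNcard : Nat.card (Subgroup.normalizer (P : Set S)) = 45 := by
    have h := Subgroup.card_mul_index (Subgroup.normalizer (P : Set S))
    rw [← P.card_eq_index_normalizer, hn7, hN] at h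
    omega
  have hcomm : IsMulCommutative (P : Subgroup S) :=
    IsPGroup.isMulCommutative_of_card_eq_prime_sq (p := 3) (by rw [hPcard]; norm_num)
  refine not_normalizer_le_centralizer hS (by rw [hN]; norm_num) P fun g hg => ?_
  have hg45 : g ^ 45 = 1 := by
    have h := pow_card_eq_one' (x := (⟨g, hg⟩ : Subgroup.normalizer (P : Set S)))
    rw [hNcard] at h
    exact congrArg Subtype.val h
  -- `g ^ 5` lies in `P`, `g ^ 9` centralises `P`
  have h5 : g ^ 5 ∈ (P : Subgroup S) := by
    have hgP : g ^ 5 ∈ Subgroup.normalizer (P : Set S) := pow_mem hg 5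
    have hZ : IsPGroup 3 (Subgroup.zpowers (g ^ 5)) := by
      intro x
      refine ⟨2, ?_⟩
      obtain ⟨x, hx⟩ := x
      obtain ⟨i, rfl⟩ := Subgroup.mem_zpowers_iff.mp hx
      apply Subtype.ext
      rw [SubgroupClass.coe_pow, OneMemClass.coe_one]
      change ((g ^ 5) ^ i) ^ (9 : ℕ) = 1
      rw [← zpow_natCast, ← zpow_mul, mul_comm, zpow_mul, zpow_natCast, ← pow_mul, hg45, one_zpow]
    have hle : Subgroup.zpowers (g ^ 5) ≤ Subgroup.normalizer (P : Set S) := by
      rwa [Subgroup.zpowers_le]
    have h2 := hZ.to_sup_of_normal_right' P.isPGroup' hle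
    have h3 := P.is_maximal' h2 le_sup_right
    exact h3 ▸ (le_sup_left : Subgroup.zpowers (g ^ 5) ≤ _) (Subgroup.mem_zpowers _)
  have h9 : g ^ 9 ∈ Subgroup.centralizer (P : Set S) := by
    refine conj_trivial_of_modEq (q := 5) (P : Subgroup S) (pow_mem hg 9) ?_ ?_
    · rw [← pow_mul, hg45]
    · intro d hd hmod
      rw [hPcard] at hd hmod ⊢
      have := Nat.le_of_dvd (by norm_num) hd
      interval_cases d <;> simp [Nat.ModEq] at hmod ⊢ <;> omega
  have h5c : g ^ 5 ∈ Subgroup.centralizer (P : Set S) := by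
    rw [Subgroup.mem_centralizer_iff]
    intro m hm
    exact congrArg Subtype.val (hcomm.1.1 ⟨m, hm⟩ ⟨_, h5⟩)
  have e : g = (g ^ 5) ^ 2 * (g ^ 9)⁻¹ := by
    rw [← pow_mul]; group
  rw [e]
  exact mul_mem (pow_mem h5c 2) (inv_mem h9)

theorem no_simple {S : Type*} [Group S] [Finite S] [IsSimpleGroup S] [Fact (Nat.Prime 7)]
    (hS : ¬ IsMulCommutative S) (h7 : 7 ∣ Nat.card S) (hn : Nat.card (Sylow 7 S) = 15) : False := by
  classical
  have := Fintype.ofFinite (Sylow 7 S)
  obtain ⟨P⟩ : Nonempty (Sylow 7 S) := inferInstance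
  have hPcard : Nat.card (P : Subgroup S) = 7 := card_sylow_of_simple hS h7 (by rw [hn]; norm_num) P
  set NP := Subgroup.normalizer (P : Set S) with hNPdef
  set C := Subgroup.centralizer (P : Set S) with hCdef
  have hPC : (P : Subgroup S) ≤ C := by
    have : IsCyclic (P : Subgroup S) := isCyclic_of_prime_card hPcard
    intro x hx
    rw [hCdef, Subgroup.mem_centralizer_iff]
    intro m hm
    obtain ⟨g, hg⟩ := IsCyclic.exists_generator (α := (P : Subgroup S))
    obtain ⟨i, hi⟩ := Subgroup.mem_zpowers_iff.mp (hg ⟨x, hx⟩)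
    obtain ⟨j, hj⟩ := Subgroup.mem_zpowers_iff.mp (hg ⟨m, hm⟩)
    have hcm : (⟨m, hm⟩ : (P : Subgroup S)) * ⟨x, hx⟩ = ⟨x, hx⟩ * ⟨m, hm⟩ := by
      rw [← hi, ← hj, ← zpow_add, add_comm, zpow_add]
    exact congrArg Subtype.val hcm
  have hN : Nat.card S = 15 * Nat.card NP := by
    rw [← hn, P.card_eq_index_normalizer, mul_comm, Subgroup.card_mul_index]
  -- a point stabilizer in the centralizer is trivial
  have hfree : ∀ c ∈ C, ∀ Q : Sylow 7 S, Q ≠ P → c • Q = Q → c = 1 := by
    intro c hc Q hQ hcQ
    set O := orbit (P : Subgroup S) Q with hO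
    have hcardO : Nat.card O = 7 := (relIndex_inter (by rw [hn]; norm_num) P Q hQ).2
    have hcomm : ∀ x ∈ (P : Subgroup S), ∀ R : Sylow 7 S, x • c • R = c • x • R := fun x hx R => by
      rw [← mul_smul, ← mul_smul, Subgroup.mem_centralizer_iff.mp hc x hx]
    have hfixO : ∀ R ∈ O, c • R = R := by
      rintro R ⟨⟨x, hx⟩, rfl⟩
      change c • x • Q = x • Q
      rw [← hcomm x hx, hcQ]
    have hcP : c • P = P :=
      Sylow.smul_eq_iff_mem_normalizer.mpr (Subgroup.centralizer_le_normalizer _ hc)
    have hPO : P ∉ O := by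
      rintro ⟨⟨x, hx⟩, hxQ⟩
      apply hQ
      have h2 : x • Q = P := hxQ
      calc Q = x⁻¹ • (x • Q) := (inv_smul_smul x Q).symm
        _ = x⁻¹ • P := by rw [h2]
        _ = P := Sylow.smul_eq_iff_mem_normalizer.mpr (Subgroup.le_normalizer (inv_mem hx))
    -- the seventh power fixes every point
    have h7fix : c ^ 7 = 1 := by
      refine smul_sylow_injective (by rw [hn]; norm_num) fun R => ?_
      have hfix7 : ∀ T : Sylow 7 S, c • T = T → c ^ 7 • T = T := fun T h =>
        pow_mem (show c ∈ MulAction.stabilizer S T from h) 7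
      by_cases hRO : R ∈ O
      · exact hfix7 R (hfixO R hRO)
      by_cases hRP : R = P
      · exact hfix7 R (hRP ▸ hcP)
      -- `c` preserves the other orbit
      have hO2 : Nat.card (orbit (P : Subgroup S) R) = 7 :=
        (relIndex_inter (by rw [hn]; norm_num) P R hRP).2
      have hcR : c • R ∈ orbit (P : Subgroup S) R := by
        have hcR1 : c • R ≠ P := fun h => hRP (smul_left_cancel c (h.trans hcP.symm))
        have hcR2 : c • R ∉ O := fun h => hRO (by
          have := hfixO _ h
          rwa [← smul_left_cancel c this])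
        by_contra hcR3
        have hd : Disjoint O (orbit (P : Subgroup S) R) := by
          rw [Set.disjoint_left]
          intro T hT hT'
          apply hRO
          rw [hO, ← orbit_eq_iff.mpr hT, orbit_eq_iff.mpr hT']
          exact mem_orbit_self R
        have hsub : Set.ncard (insert P (insert (c • R) (O ∪ orbit (P : Subgroup S) R))) ≤ 15 := by
          rw [← hn, ← Set.ncard_univ]
          exact Set.ncard_le_ncard (Set.subset_univ _) (Set.toFinite _)
        rw [Set.ncard_insert_of_notMem, Set.ncard_insert_of_notMem, Set.ncard_union_eq hd,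
          ← Nat.card_coe_set_eq, ← Nat.card_coe_set_eq, hcardO, hO2] at hsub
        · omega
        · exact fun h => h.elim hcR2 hcR3
        · rintro (h | h | h)
          · exact hcR1 h.symm
          · exact hPO h
          · obtain ⟨⟨x, hx⟩, hxR⟩ := h
            apply hRP
            have h2 : x • R = P := hxR
            calc R = x⁻¹ • (x • R) := (inv_smul_smul x R).symm
              _ = x⁻¹ • P := by rw [h2]
              _ = P := Sylow.smul_eq_iff_mem_normalizer.mpr (Subgroup.le_normalizer (inv_mem hx))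
      obtain ⟨⟨x, hx⟩, hxR⟩ := hcR
      have hxR' : c • R = x • R := hxR.symm
      have hpow : ∀ n : ℕ, c ^ n • R = x ^ n • R := by
        intro n
        induction n with
        | zero => simp
        | succ n ih =>
          rw [pow_succ', mul_smul, ih, ← hcomm _ (pow_mem hx n), hxR', ← mul_smul, ← pow_succ]
      have hx7 : x ^ 7 = 1 := by
        have h := pow_card_eq_one' (x := (⟨x, hx⟩ : (P : Subgroup S)))
        rw [hPcard] at h
        exact congrArg Subtype.val h
      rw [hpow 7, hx7, one_smul]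
    have hcP' : c ∈ (P : Subgroup S) := by
      have hZ : IsPGroup 7 (Subgroup.zpowers c) := by
        obtain ⟨j, -, hj⟩ := (Nat.dvd_prime_pow (m := 1) (show Nat.Prime 7 by norm_num)).mp
          (by simpa using orderOf_dvd_of_pow_eq_one h7fix)
        exact IsPGroup.of_card (n := j) (by rw [Nat.card_zpowers, hj])
      have h2 := hZ.to_sup_of_normal_right' P.isPGroup'
        (by rw [Subgroup.zpowers_le]; exact Subgroup.centralizer_le_normalizer _ hc)
      exact (P.is_maximal' h2 le_sup_right) ▸ (le_sup_left : Subgroup.zpowers c ≤ _)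
        (Subgroup.mem_zpowers c)
    by_contra hc1
    have hmem : c ∈ (P : Subgroup S) ⊓ (Q : Subgroup S) := by
      rw [← P.isPGroup'.inf_normalizer_sylow Q]
      exact ⟨hcP', Sylow.smul_eq_iff_mem_normalizer.mp hcQ⟩
    have hrel := card_mul_relIndex (inf_le_left : (P : Subgroup S) ⊓ Q ≤ P)
    rw [(relIndex_inter (by rw [hn]; norm_num) P Q hQ).1, hPcard] at hrel
    have : Nat.card ↥((P : Subgroup S) ⊓ Q) = 1 := by omega
    rw [Subgroup.card_eq_one.mp this, Subgroup.mem_bot] at hmem
    exact hc1 hmem
  -- the order of the centralizer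
  have hexQ : ∃ Q : Sylow 7 S, Q ≠ P := by
    by_contra h
    push Not at h
    have : Subsingleton (Sylow 7 S) := ⟨fun a b => (h a).trans (h b).symm⟩
    have := Finite.card_le_one_iff_subsingleton.mpr this
    omega
  obtain ⟨Q, hQ⟩ := hexQ
  have hCfix : ∀ c ∈ C, c • P = P := fun c hc =>
    Sylow.smul_eq_iff_mem_normalizer.mpr (Subgroup.centralizer_le_normalizer _ hc)
  have hCle : Nat.card C ≤ 14 := by
    have h1 : Nat.card C ≤ Nat.card ↥({P}ᶜ : Set (Sylow 7 S)) := by
      refine Nat.card_le_card_of_injective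
        (fun c => ⟨(c : S) • Q, fun h => hQ (smul_left_cancel (c : S) ((h : (c : S) • Q = P).trans
          (hCfix _ c.2).symm))⟩) fun a b h => ?_
      have h' : (a : S) • Q = (b : S) • Q := congrArg Subtype.val h
      have := hfree _ (mul_mem (inv_mem b.2) a.2) Q hQ (by rw [mul_smul, h', inv_smul_smul])
      exact Subtype.ext (inv_mul_eq_one.mp this).symm
    rw [Nat.card_coe_set_eq] at h1
    have h2 := Set.ncard_add_ncard_compl ({P} : Set (Sylow 7 S))
    rw [Set.ncard_singleton, hn] at h2
    omega
  have hC7 : 7 ∣ Nat.card C := hPcard ▸ Subgroup.card_dvd_of_le hPC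
  by_cases hC14 : Nat.card C = 14
  · -- an involution with exactly one fixed point is odd
    have : Fact (Nat.Prime 2) := ⟨Nat.prime_two⟩
    obtain ⟨c, hc⟩ := exists_prime_orderOf_dvd_card' (G := C) 2 (by rw [hC14]; norm_num)
    have hc2 : (c : S) * c = 1 := by
      have h := pow_orderOf_eq_one c
      rw [hc, pow_two] at h
      exact congrArg Subtype.val h
    have hc1 : (c : S) ≠ 1 := by
      intro h
      rw [← Subgroup.orderOf_coe, h, orderOf_one] at hc
      omega
    set σ : Equiv.Perm (Sylow 7 S) := MulAction.toPerm (c : S) with hσ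
    have hσσ : σ * σ = 1 := by
      refine Equiv.ext fun R => ?_
      change (c : S) • (c : S) • R = R
      rw [← mul_smul, hc2, one_smul]
    have hsupp : σ.support = Finset.univ.erase P := by
      ext R
      rw [Equiv.Perm.mem_support, Finset.mem_erase]
      constructor
      · intro h; exact ⟨fun hR => h (hR ▸ hCfix _ c.2), Finset.mem_univ _⟩
      · rintro ⟨hR, -⟩ h
        exact hc1 (hfree _ c.2 R hR h)
    have hcard14 : σ.support.card = 14 := by
      rw [hsupp, Finset.card_erase_of_mem (Finset.mem_univ _), Finset.card_univ,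
        ← Nat.card_eq_fintype_card, hn]
    have hord : orderOf σ = 2 := by
      refine orderOf_eq_prime (by rw [pow_two, hσσ]) fun h => ?_
      rw [h, Equiv.Perm.support_one, Finset.card_empty] at hcard14
      omega
    obtain ⟨k, hk⟩ := Equiv.Perm.cycleType_prime_order (by rw [hord]; exact Nat.prime_two)
    have hsum := σ.sum_cycleType
    rw [hk, hord, Multiset.sum_replicate, hcard14, smul_eq_mul] at hsum
    have hsign := Equiv.Perm.sign_of_cycleType σ
    rw [hk, hord, Multiset.sum_replicate, Multiset.card_replicate, show k + 1 = 7 by omega,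
      sign_toPerm_eq_one hS] at hsign
    exact absurd hsign (by decide)
  have hC : Nat.card C = 7 := by
    have := Nat.card_pos (α := C)
    omega
  -- the normalizer modulo the centralizer
  have hdiv : Nat.card NP ∣ 42 := by
    let f := Subgroup.normalizerMonoidHom (H := (P : Subgroup S))
    have key := Subgroup.card_dvd_of_injective _ (QuotientGroup.kerLift_injective f)
    have : IsCyclic (P : Subgroup S) := isCyclic_of_prime_card hPcard
    rw [IsCyclic.card_mulAut, hPcard, Nat.totient_prime (by norm_num)] at key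
    have hker : Nat.card f.ker = 7 := by
      change Nat.card (Subgroup.normalizerMonoidHom (H := (P : Subgroup S))).ker = 7
      rw [Subgroup.normalizerMonoidHom_ker,
        Nat.card_congr (Subgroup.subgroupOfEquivOfLe (Subgroup.centralizer_le_normalizer _)).toEquiv]
      exact hC
    have := Subgroup.card_eq_card_quotient_mul_card_subgroup f.ker
    rw [hker] at this
    obtain ⟨e, he⟩ := key
    refine ⟨e, ?_⟩
    change 42 = Nat.card NP * e
    rw [show Nat.card NP = Nat.card (Subgroup.normalizer ((P : Subgroup S) : Set S)) from rfl, this,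
      mul_right_comm, ← he] <;> norm_num
  have h7N : 7 ∣ Nat.card NP :=
    hPcard ▸ Subgroup.card_dvd_of_le (H := (P : Subgroup S)) Subgroup.le_normalizer
  have hle := Nat.le_of_dvd (by norm_num) hdiv
  obtain ⟨m, hm⟩ := h7N
  have : Fact (Nat.Prime 3) := ⟨Nat.prime_three⟩
  have : Fact (Nat.Prime 2) := ⟨Nat.prime_two⟩
  rw [hm] at hdiv hle hN
  have hm6 : m ≤ 6 := by omega
  interval_cases m
  · omega
  · exact not_order_minFac hS 105 (by omega) 3 (by norm_num) (by norm_num)
  · exact not_order_minFac hS 210 (by omega) 2 (by norm_num) (by norm_num)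
  · exact not_order_315 hS (by omega)
  · norm_num at hdiv
  · norm_num at hdiv
  · exact not_order_minFac hS 630 (by omega) 2 (by norm_num) (by norm_num)

/-- No finite group has exactly 15 Sylow 7-subgroups. -/
theorem result {G : Type*} [Group G] [Finite G] : Nat.card (Sylow 7 G) ≠ 15 := by
  intro hG
  have : Fact (Nat.Prime 7) := ⟨by norm_num⟩
  obtain ⟨S, i1, i2, hS, hSc, hSp, hn⟩ :=
    Cfsg.Agent.SylowNum.exists_simple_of_card_sylow G 7 15 hG (by norm_num)
      (fun d hd hmod => by
        have := Nat.le_of_dvd (by norm_num) hd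
        interval_cases d <;> omega)
      not_isPrimePow_fifteen
  exact no_simple hSc hSp hn

end Cfsg.Agent.S4304
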