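import Cfsg.Statements.S4309


set_option autoImplicit false
open Cfsg

namespace Cfsg.Agent.S4309

/-- Let `π` be a set of primes, `G` a finite group with a Hall `π`-subgroup `H` (every prime divisor of the order of `H` lies in `π` and no prime of `π` divides its index), and `A` a normal subgroup of `G`. Then `H ∩ A` is a Hall `π`-subgroup of `A` and the image of `H` in `G/A` is a Hall `π`-subgroup of `G/A`. -/
theorem result {G : Type*} [Group G] [Finite G] (π : Set ℕ)
    (H A : Subgroup G) [A.Normal] (hH : Cfsg.IsPiHall π H) :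
    Cfsg.IsPiHall π ((H ⊓ A).subgroupOf A) ∧ Cfsg.IsPiHall π (H.map (QuotientGroup.mk' A)) := by
  obtain ⟨h1, h2⟩ := hH
  refine ⟨⟨fun q hq hd => h1 q hq (hd.trans ?_), fun q hq hqπ hd => h2 q hq hqπ (hd.trans ?_)⟩,
    ⟨fun q hq hd => h1 q hq (hd.trans (Subgroup.card_map_dvd _ _)),
     fun q hq hqπ hd => h2 q hq hqπ (hd.trans ?_)⟩⟩
  · rw [Nat.card_congr (Subgroup.subgroupOfEquivOfLe (inf_le_right : H ⊓ A ≤ A)).toEquiv]
    exact Subgroup.card_dvd_of_le inf_le_left
  · rw [Subgroup.inf_subgroupOf_right]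
    have h3 := Subgroup.relIndex_mul_index (inf_le_left : H ⊓ A ≤ H)
    have h4 := Subgroup.relIndex_mul_index (inf_le_right : H ⊓ A ≤ A)
    rw [Subgroup.inf_relIndex_left] at h3
    rw [Subgroup.inf_relIndex_right] at h4
    obtain ⟨e, he⟩ := Subgroup.relIndex_dvd_index_of_normal (H := A) (K := H)
    refine ⟨e, Nat.eq_of_mul_eq_mul_left (Nat.pos_of_ne_zero (Subgroup.index_ne_zero_of_finite (H := A.subgroupOf H))) ?_⟩
    change A.relIndex H * H.index = A.relIndex H * (H.relIndex A * e)
    rw [h3, ← h4, he]; ring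
  · exact Subgroup.index_map_dvd _ (QuotientGroup.mk'_surjective A)

end Cfsg.Agent.S4309
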