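import Cfsg.Statements.S4314
-- import your own Cfsg.Agent.* helpers here

set_option autoImplicit false
open Cfsg
set_option linter.style.haveILetI false

namespace Cfsg.Agent.S4314

open Subgroup in
theorem aux {G : Type*} [Group G] [Finite G]
    (h : ∀ x : G, (centralizer ({x} : Set G)).index = 1 ∨ ((centralizer ({x} : Set G)).index).Prime)
    {x : G} (hC : ¬ (centralizer ({x} : Set G)).Normal) :
    ∃ p q : ℕ, p.Prime ∧ q.Prime ∧ p ≠ q ∧ Nat.card (G ⧸ center G) = p * q ∧
      ¬ IsMulCommutative (G ⧸ center G) := by
  classical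
  set C := centralizer ({x} : Set G) with hCdef
  obtain ⟨p, hp, hpC⟩ : ∃ p, p.Prime ∧ C.index = p := by
    rcases h x with h1 | h1
    · exfalso
      apply hC
      show C.Normal
      rw [show C = ⊤ from Subgroup.index_eq_one.1 h1]
      infer_instance
    · exact ⟨_, h1, rfl⟩
  haveI := Fact.mk hp
  cases nonempty_fintype (G ⧸ C)
  set f := MulAction.toPermHom G (G ⧸ C) with hf
  set N := C.normalCore with hN
  have hker : f.ker = N := C.normalCore_eq_ker.symm
  have hNC : N ≤ C := C.normalCore_le
  have hidx : N.index ∣ p.factorial := by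
    rw [← hker, Subgroup.index_ker]
    refine (Subgroup.card_subgroup_dvd_card _).trans ?_
    rw [Nat.card_perm, ← hpC]
    rfl
  have hcard : Nat.card (G ⧸ C) = p := hpC
  have hpN : p ∣ N.index := hpC ▸ Subgroup.index_dvd_of_le hNC
  obtain ⟨ū, hū⟩ : ∃ v : f.range, orderOf v = p := by
    refine exists_prime_orderOf_dvd_card' p ?_
    rw [← Subgroup.index_ker, hker]
    exact hpN
  obtain ⟨u, hu⟩ := ū.2
  have hord : orderOf (f u) = p := by rw [hu, Subgroup.orderOf_coe, hū]
  -- the properties of any element with such an image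
  have key : ∀ v : G, orderOf (f v) = p → ∃ r : ℕ, r.Prime ∧ N ≤ centralizer {v} ∧
      N.index = p * r := by
    intro v hv
    have hfree : ∀ a ∈ centralizer ({v} : Set G), a ∈ C → a ∈ N := by
      intro a ha haC
      rw [← hker, MonoidHom.mem_ker]
      refine Equiv.ext fun z => ?_
      -- `⟨f v⟩` is transitive
      have htrans : ∃ i : ℤ, (f v ^ i) (QuotientGroup.mk 1) = z := by
        have hcyc : (f v).IsCycle := by
          refine Equiv.Perm.isCycle_of_prime_order'' ?_ ?_
          · rw [← Nat.card_eq_fintype_card, hcard]; exact hp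
          · rw [hv, ← Nat.card_eq_fintype_card, hcard]
        have hsupp : (f v).support = Finset.univ := by
          apply Finset.eq_univ_of_card
          rw [← hcyc.orderOf, hv, ← Nat.card_eq_fintype_card, hcard]
        have hmem : ∀ y, (f v) y ≠ y := fun y => by
          rw [← Equiv.Perm.mem_support, hsupp]; exact Finset.mem_univ y
        exact hcyc.exists_zpow_eq (hmem _) (hmem z)
      obtain ⟨i, rfl⟩ := htrans
      have hfix : f a (QuotientGroup.mk 1) = QuotientGroup.mk 1 := by
        change a • (QuotientGroup.mk 1 : G ⧸ C) = QuotientGroup.mk 1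
        rw [MulAction.Quotient.smul_mk, smul_eq_mul, mul_one]
        exact QuotientGroup.eq.2 (by simpa using haC)
      have hc : Commute (f a) (f v ^ i) :=
        ((show Commute a v from mem_centralizer_singleton_iff.1 ha).map f).zpow_right i
      change (f a * f v ^ i) _ = _
      rw [hc.eq, Equiv.Perm.mul_apply, hfix]
      rfl
    have hvC : ¬ v ∈ C := by
      intro hvC
      have h1 : v ∈ N := hfree v (mem_centralizer_singleton_iff.2 rfl) hvC
      rw [← hker, MonoidHom.mem_ker] at h1
      rw [h1, orderOf_one] at hv
      exact hp.ne_one hv.symm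
    rcases h v with h1 | h1
    · -- a central element fixing no point
      exact absurd (mem_centralizer_singleton_iff.2
        (mem_centralizer_singleton_iff.1 ((Subgroup.index_eq_one.1 h1).symm ▸ mem_top x :
          x ∈ centralizer {v})).symm) hvC
    refine ⟨_, h1, ?_⟩
    set D := centralizer ({v} : Set G) with hD
    have hDN : D ⊓ C ≤ N := fun a ha => hfree a ha.1 ha.2
    have hrel : C.relIndex D = p := by
      refine le_antisymm ?_ ?_
      · rw [← hpC, ← Subgroup.relIndex_top_right]
        exact Subgroup.relIndex_le_of_le_right le_top (by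
          rw [Subgroup.relIndex_top_right, hpC]; exact hp.ne_zero)
      · have hinj : Function.Injective fun i : Fin p =>
            (QuotientGroup.mk (⟨v ^ (i : ℕ), pow_mem (mem_centralizer_singleton_iff.2 rfl) _⟩ : D) :
              D ⧸ C.subgroupOf D) := by
          intro i j hij
          by_contra hne
          apply hvC
          wlog hlt : (i : ℕ) < j generalizing i j
          · exact this hij.symm (Ne.symm hne) (lt_of_le_of_ne (not_lt.1 hlt)
              (fun h => hne (Fin.ext h.symm)))
          have h2 := QuotientGroup.eq.1 hij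
          rw [mem_subgroupOf] at h2
          change (v ^ (i : ℕ))⁻¹ * v ^ (j : ℕ) ∈ C at h2
          rw [← Nat.add_sub_cancel' hlt.le, pow_add, inv_mul_cancel_left] at h2
          have h3 : v ^ p ∈ C := hNC (by
            rw [← hker, MonoidHom.mem_ker, map_pow, ← hv, pow_orderOf_eq_one])
          have hcop : Nat.Coprime ((j : ℕ) - i) p := by
            rw [Nat.coprime_comm]
            refine hp.coprime_iff_not_dvd.2 fun hd => ?_
            have := Nat.le_of_dvd (by omega) hd
            have := j.2
            omega
          obtain ⟨s, -, hs⟩ := Nat.exists_mul_mod_eq_one_of_coprime hcop hp.one_lt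
          have h4 : v ^ (((j : ℕ) - i) * s) ∈ C := by rw [pow_mul]; exact pow_mem h2 s
          rw [← Nat.mod_add_div (((j : ℕ) - i) * s) p, hs, pow_add, pow_one] at h4
          refine (mul_mem_cancel_right ?_).1 h4
          rw [pow_mul]; exact pow_mem h3 _
        have := Nat.card_le_card_of_injective _ hinj
        rwa [Nat.card_fin] at this
    have h2 : (D ⊓ C).index = p * D.index := by
      rw [← Subgroup.relIndex_mul_index (inf_le_left : D ⊓ C ≤ D), Subgroup.inf_relIndex_left, hrel]
    have h3 : C.index * N.relIndex C = N.index := by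
      rw [mul_comm, Subgroup.relIndex_mul_index hNC]
    have h4 : (D ⊓ C).relIndex N * N.index = p * D.index := by
      rw [Subgroup.relIndex_mul_index hDN, h2]
    have hk : N.relIndex C ≠ 1 := by
      intro hk
      rw [Subgroup.relIndex_eq_one] at hk
      exact hC (le_antisymm hk hNC ▸ C.normalCore_normal)
    rw [← h3, hpC, mul_left_comm] at h4
    have h5 := Nat.eq_of_mul_eq_mul_left hp.pos h4
    have h6 : N.relIndex C = D.index :=
      (h1.eq_one_or_self_of_dvd _ ⟨_, h5.symm.trans (mul_comm _ _)⟩).resolve_left hk
    rw [h6] at h5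
    have h7 : (D ⊓ C).relIndex N = 1 :=
      Nat.eq_of_mul_eq_mul_right h1.pos (h5.trans (one_mul _).symm)
    refine ⟨(Subgroup.relIndex_eq_one.1 h7).trans inf_le_left, ?_⟩
    rw [← h3, hpC, h6]
  obtain ⟨r, hr, hNu, hNidx⟩ := key u hord
  have hrp : p ≠ r := by
    rintro rfl
    rw [hNidx] at hidx
    obtain ⟨j, rfl⟩ : ∃ j, p = j + 1 := ⟨p - 1, by have := hp.pos; omega⟩
    rw [Nat.factorial_succ] at hidx
    have := (hp.dvd_factorial).1 (Nat.dvd_of_mul_dvd_mul_left hp.pos hidx)
    omega
  have hxN : x ∉ N := by
    intro hxN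
    have h1 : u ∈ C := mem_centralizer_singleton_iff.2
      (mem_centralizer_singleton_iff.1 (hNu hxN)).symm
    obtain ⟨r', -, -, -⟩ := key u hord
    have h2 : u ∈ centralizer ({u} : Set G) := mem_centralizer_singleton_iff.2 rfl
    have h3 : ∀ i : ℕ, f (u ^ i) (QuotientGroup.mk 1) = QuotientGroup.mk 1 := by
      intro i
      change (u ^ i) • (QuotientGroup.mk 1 : G ⧸ C) = QuotientGroup.mk 1
      rw [MulAction.Quotient.smul_mk, smul_eq_mul, mul_one]
      exact QuotientGroup.eq.2 (by simpa using pow_mem h1 i)
    have hcyc : (f u).IsCycle := by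
      refine Equiv.Perm.isCycle_of_prime_order'' ?_ ?_
      · rw [← Nat.card_eq_fintype_card, hcard]; exact hp
      · rw [hord, ← Nat.card_eq_fintype_card, hcard]
    have hsupp : (f u).support = Finset.univ := by
      apply Finset.eq_univ_of_card
      rw [← hcyc.orderOf, hord, ← Nat.card_eq_fintype_card, hcard]
    have h4 : (f u) (QuotientGroup.mk 1) ≠ QuotientGroup.mk 1 := by
      rw [← Equiv.Perm.mem_support, hsupp]; exact Finset.mem_univ _
    exact h4 (by simpa using h3 1)
  have hNcomm : ∀ n ∈ N, ∀ m ∈ N, n * m = m * n := by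
    intro n hn m hm
    have hun : orderOf (f (u * n)) = p := by
      rw [map_mul, show f n = 1 from MonoidHom.mem_ker.1 (hker.symm ▸ hn), mul_one, hord]
    obtain ⟨-, -, hNun, -⟩ := key (u * n) hun
    have h1 := mem_centralizer_singleton_iff.1 (hNun hm)
    have h2 := mem_centralizer_singleton_iff.1 (hNu hm)
    have h3 : u * (m * n) = u * (n * m) := by
      rw [← mul_assoc, ← h2, mul_assoc, h1, mul_assoc]
    exact (mul_left_cancel h3).symm
  have hNcen : N = center G := by
    refine le_antisymm (fun n hn => ?_) ?_
    · rw [mem_center_iff]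
      set L := centralizer ({n} : Set G) with hL
      have hNL : N ≤ L := fun m hm => mem_centralizer_singleton_iff.2 (hNcomm m hm n hn)
      have huL : u ∈ L := mem_centralizer_singleton_iff.2
        (mem_centralizer_singleton_iff.1 (hNu hn)).symm
      have hxL : x ∈ L := mem_centralizer_singleton_iff.2
        (mem_centralizer_singleton_iff.1 (hNC hn)).symm
      have hdiv : ∀ {v : G} {s : ℕ}, s.Prime → v ∈ L → v ∉ N → v ^ s ∈ N →
          s ∣ N.relIndex L := by
        intro v s hs hvL hvN hvs
        have hvn : (N.subgroupOf L).Normal := inferInstance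
        have h1 : orderOf (QuotientGroup.mk (⟨v, hvL⟩ : L) : L ⧸ N.subgroupOf L) = s := by
          haveI := Fact.mk hs
          refine orderOf_eq_prime ?_ ?_
          · rw [← QuotientGroup.mk_pow, QuotientGroup.eq_one_iff, mem_subgroupOf]; exact hvs
          · rw [Ne, QuotientGroup.eq_one_iff, mem_subgroupOf]; exact hvN
        rw [← h1]
        exact orderOf_dvd_natCard _
      have hup : p ∣ N.relIndex L := hdiv hp huL
        (fun hu' => by
          rw [← hker, MonoidHom.mem_ker] at hu'
          rw [hu', orderOf_one] at hord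
          exact hp.ne_one hord.symm)
        (by rw [← hker, MonoidHom.mem_ker, map_pow, ← hord, pow_orderOf_eq_one])
      have hxr : r ∣ N.relIndex L := by
        refine hdiv hr hxL hxN ?_
        have h1 : (N.subgroupOf C).Normal := inferInstance
        have hxC : x ∈ C := mem_centralizer_singleton_iff.2 rfl
        have h2 : N.relIndex C = r := by
          have h3 := Subgroup.relIndex_mul_index hNC
          rw [hpC, hNidx, mul_comm] at h3
          exact Nat.eq_of_mul_eq_mul_left hp.pos h3
        have h4 : (QuotientGroup.mk (⟨x, hxC⟩ : C) : C ⧸ N.subgroupOf C) ^ r = 1 := by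
          rw [← h2]
          exact pow_card_eq_one'
        rw [← QuotientGroup.mk_pow, QuotientGroup.eq_one_iff, mem_subgroupOf] at h4
        exact h4
      have hpr : N.index ∣ N.relIndex L :=
        hNidx ▸ Nat.Coprime.mul_dvd_of_dvd_of_dvd ((Nat.coprime_primes hp hr).2 hrp) hup hxr
      have h5 := Subgroup.relIndex_mul_index hNL
      have h6 : L.index = 1 := by
        obtain ⟨k, hk⟩ := hpr
        rw [hk, mul_assoc] at h5
        have h7 : N.index ≠ 0 := Subgroup.FiniteIndex.index_ne_zero
        have h8 : k * L.index = 1 :=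
          Nat.eq_of_mul_eq_mul_left (Nat.pos_of_ne_zero h7) (h5.trans (mul_one _).symm)
        exact Nat.eq_one_of_mul_eq_one_left h8
      intro g
      exact mem_centralizer_singleton_iff.1 ((Subgroup.index_eq_one.1 h6).symm ▸ mem_top g : g ∈ L)
    · exact Subgroup.normal_le_normalCore.2 (center_le_centralizer _)
  refine ⟨p, r, hp, hr, hrp, ?_, fun hab => hC ?_⟩
  · rw [← hNcen]
    exact hNidx
  · refine ⟨fun c hc g => ?_⟩
    have h1 : (QuotientGroup.mk (g * c * g⁻¹) : G ⧸ center G) = QuotientGroup.mk c := by
      rw [QuotientGroup.mk_mul, QuotientGroup.mk_mul, QuotientGroup.mk_inv,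
        hab.is_comm.comm (QuotientGroup.mk g : G ⧸ center G), mul_inv_cancel_right]
    have h2 : (g * c * g⁻¹)⁻¹ * c ∈ center G := QuotientGroup.eq.1 h1
    have h3 := mul_mem hc (inv_mem (center_le_centralizer ({x} : Set G) h2))
    rwa [mul_inv_rev, inv_inv, mul_inv_cancel_left] at h3

/-- Let `G` be a finite group every conjugacy class of which has size 1 or a prime. Then either `G` is nilpotent of class at most 2, or `G/Z(G)` is a non-abelian group of order `pq` for distinct primes `p, q` (a Frobenius group of order `pq`). -/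
theorem result {G : Type*} [Group G] [Finite G]
    (h : ∀ x : G, (Subgroup.centralizer ({x} : Set G)).index = 1 ∨ ((Subgroup.centralizer ({x} : Set G)).index).Prime) :
    Subgroup.upperCentralSeries G 2 = ⊤ ∨
      ∃ p q : ℕ, p.Prime ∧ q.Prime ∧ p ≠ q ∧ Nat.card (G ⧸ Subgroup.center G) = p * q ∧ ¬ IsMulCommutative (G ⧸ Subgroup.center G) := by
  classical
  by_cases hall : ∀ x : G, (Subgroup.centralizer ({x} : Set G)).Normal
  · left
    rw [eq_top_iff]
    intro y _
    rw [Subgroup.mem_upperCentralSeries_succ_iff]
    intro z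
    rw [Subgroup.upperCentralSeries_one, Subgroup.mem_center_iff]
    intro w
    haveI := hall w
    -- `G ⧸ C(w)` has order one or a prime
    have hab : ∀ a b : G ⧸ Subgroup.centralizer ({w} : Set G), a * b = b * a := by
      intro a b
      rcases h w with h1 | h1
      · haveI : Subsingleton (G ⧸ Subgroup.centralizer ({w} : Set G)) :=
          (Nat.card_eq_one_iff_unique.1 h1).1
        exact Subsingleton.elim _ _
      · haveI := Fact.mk h1
        haveI := isCyclic_of_prime_card (α := G ⧸ Subgroup.centralizer ({w} : Set G)) (hp := ⟨h1⟩) rfl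
        exact IsMulCommutative.is_comm.comm a b
    have h2 : y * z * y⁻¹ * z⁻¹ ∈ Subgroup.centralizer ({w} : Set G) := by
      rw [← QuotientGroup.eq_one_iff]
      simp only [QuotientGroup.mk_mul, QuotientGroup.mk_inv]
      rw [hab (QuotientGroup.mk y), mul_inv_cancel_right, mul_inv_cancel]
    exact (Subgroup.mem_centralizer_singleton_iff.1 h2).symm
  · right
    push Not at hall
    obtain ⟨x, hx⟩ := hall
    exact aux h hx

end Cfsg.Agent.S4314
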