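import Cfsg.Statements.S4321
import Cfsg.Agent.FG78.SingularGraph

set_option autoImplicit false
open Cfsg

namespace Cfsg.Agent.S4321

/-- Let `G` be a finite group and `p` a prime not dividing the order of the centre of `G`. Consider the primes dividing the size of some conjugacy class of a `p`-singular element (an element of order divisible by `p`), two of them adjacent when their product divides such a class size. Then any two distinct such primes are joined by a path with at most 3 edges (the graph is connected of diameter at most 3). -/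
theorem result {G : Type*} [Group G] [Finite G] (p : ℕ) [Fact p.Prime]
    (hZ : ¬ p ∣ Nat.card ↥(Subgroup.center G)) (r s : ℕ) (hr : (r.Prime ∧ ∃ x : G, p ∣ orderOf x ∧ r ∣ (Subgroup.centralizer ({x} : Set G)).index)) (hs : (s.Prime ∧ ∃ x : G, p ∣ orderOf x ∧ s ∣ (Subgroup.centralizer ({x} : Set G)).index)) (hrs : r ≠ s) :
    (∃ x : G, p ∣ orderOf x ∧ r * s ∣ (Subgroup.centralizer ({x} : Set G)).index) ∨ (∃ t : ℕ, (t.Prime ∧ ∃ x : G, p ∣ orderOf x ∧ t ∣ (Subgroup.centralizer ({x} : Set G)).index) ∧ t ≠ r ∧ t ≠ s ∧ (∃ x : G, p ∣ orderOf x ∧ r * t ∣ (Subgroup.centralizer ({x} : Set G)).index) ∧ (∃ x : G, p ∣ orderOf x ∧ t * s ∣ (Subgroup.centralizer ({x} : Set G)).index)) ∨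
      (∃ t u : ℕ, (t.Prime ∧ ∃ x : G, p ∣ orderOf x ∧ t ∣ (Subgroup.centralizer ({x} : Set G)).index) ∧ (u.Prime ∧ ∃ x : G, p ∣ orderOf x ∧ u ∣ (Subgroup.centralizer ({x} : Set G)).index) ∧ t ≠ r ∧ u ≠ s ∧ t ≠ u ∧ (∃ x : G, p ∣ orderOf x ∧ r * t ∣ (Subgroup.centralizer ({x} : Set G)).index) ∧ (∃ x : G, p ∣ orderOf x ∧ t * u ∣ (Subgroup.centralizer ({x} : Set G)).index) ∧ (∃ x : G, p ∣ orderOf x ∧ u * s ∣ (Subgroup.centralizer ({x} : Set G)).index)) := by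
  obtain ⟨hrP, x, hxp, hxr⟩ := hr
  obtain ⟨hsP, y, hyp, hys⟩ := hs
  have hpow : ∀ z : G, p ∣ orderOf z → ∃ a : G, orderOf a = p ∧
      Cfsg.Agent.FG78.clSize a ∣ Cfsg.Agent.FG78.clSize z := by
    intro z hz
    obtain ⟨m, hm⟩ := hz
    refine ⟨z ^ m, ?_, Subgroup.index_dvd_of_le fun w hw => ?_⟩
    · have hm0 : m ≠ 0 := by
        rintro rfl
        rw [mul_zero] at hm
        exact (orderOf_pos z).ne' hm
      rw [orderOf_pow' z hm0, hm, Nat.gcd_eq_right (dvd_mul_left m p),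
        Nat.mul_div_cancel _ (Nat.pos_of_ne_zero hm0)]
    · exact Cfsg.Agent.FG78.mem_cent_iff.mpr ((Cfsg.Agent.FG78.mem_cent_iff.mp hw).pow_right m)
  obtain ⟨a, ha, hax⟩ := hpow x hxp
  obtain ⟨b, hb, hby⟩ := hpow y hyp
  obtain ⟨t, u, ht, hta, hu, hub, htu⟩ := Cfsg.Agent.FG78.shared_or_edge hZ ha hb
  have htx : t ∣ (Subgroup.centralizer ({x} : Set G)).index := hta.trans hax
  have huy : u ∣ (Subgroup.centralizer ({y} : Set G)).index := hub.trans hby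
  have hrt : t ≠ r → r * t ∣ (Subgroup.centralizer ({x} : Set G)).index := fun h =>
    ((Nat.coprime_primes hrP ht).mpr h.symm).mul_dvd_of_dvd_of_dvd hxr htx
  have hus : u ≠ s → u * s ∣ (Subgroup.centralizer ({y} : Set G)).index := fun h =>
    ((Nat.coprime_primes hu hsP).mpr h).mul_dvd_of_dvd_of_dvd huy hys
  -- degenerate paths
  by_cases hts : t = s
  · left
    subst hts
    exact ⟨x, hxp, hrt hrs.symm⟩
  by_cases hur : u = r
  · left
    subst hur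
    exact ⟨y, hyp, hus hrs⟩
  rcases htu with rfl | ⟨z, hzp, hz⟩
  · exact Or.inr (Or.inl ⟨t, ⟨ht, x, hxp, htx⟩, hur, hts, ⟨x, hxp, hrt hur⟩, ⟨y, hyp, hus hts⟩⟩)
  by_cases htu' : t = u
  · subst htu'
    exact Or.inr (Or.inl ⟨t, ⟨ht, x, hxp, htx⟩, hur, hts, ⟨x, hxp, hrt hur⟩, ⟨y, hyp, hus hts⟩⟩)
  have hztu : t ∣ (Subgroup.centralizer ({z} : Set G)).index ∧
      u ∣ (Subgroup.centralizer ({z} : Set G)).index :=
    ⟨(dvd_mul_right t u).trans hz, (dvd_mul_left u t).trans hz⟩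
  by_cases htr : t = r
  · subst htr
    by_cases hus' : u = s
    · subst hus'
      exact Or.inl ⟨z, hzp, hz⟩
    · exact Or.inr (Or.inl ⟨u, ⟨hu, y, hyp, huy⟩, hur, hus', ⟨z, hzp, hz⟩, ⟨y, hyp, hus hus'⟩⟩)
  by_cases hus' : u = s
  · subst hus'
    exact Or.inr (Or.inl ⟨t, ⟨ht, x, hxp, htx⟩, htr, hts, ⟨x, hxp, hrt htr⟩, ⟨z, hzp, hz⟩⟩)
  exact Or.inr (Or.inr ⟨t, u, ⟨ht, x, hxp, htx⟩, ⟨hu, y, hyp, huy⟩, htr, hus', htu',
    ⟨x, hxp, hrt htr⟩, ⟨z, hzp, hz⟩, ⟨y, hyp, hus hus'⟩⟩)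

end Cfsg.Agent.S4321
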