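import Cfsg.Statements.S4323
import Cfsg.Agent.FG78.Abelian4323.Main

set_option autoImplicit false
open Cfsg

namespace Cfsg.Agent.S4323

/-- Let `q` be a prime and `A` a non-cyclic group of order `q²` acting by automorphisms on a finite group `G` of order prime to `q`, such that the fixed-point subgroup `C_G(a)` is abelian for every non-identity `a ∈ A`. Then `G` is solvable. -/
theorem result {A G : Type*} [Group A] [Finite A]
    [Group G] [Finite G] [MulDistribMulAction A G] (q : ℕ) (hq : q.Prime) (hA : Nat.card A = q ^ 2) (hnc : ¬ IsCyclic A)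
    (hcop : ¬ q ∣ Nat.card G) (h : ∀ a : A, a ≠ 1 → IsMulCommutative ↥(FixedPoints.subgroup (Subgroup.zpowers a) G)) :
    Group.IsSolvable G := by
  let φ : A →* MulAut G := MulDistribMulAction.toMulAut A G
  haveI : Finite (G ⋊[φ] A) := Coprime.finite_semidirect φ
  haveI := Fact.mk hq
  have hop : FG78.Ab4323.Op (Coprime.inrRange φ) q :=
    { prime := hq
      comm := by
        rintro _ ⟨a, rfl⟩ _ ⟨b, rfl⟩
        rw [← map_mul, ← map_mul, IsPGroup.commutative_of_card_eq_prime_sq hA a b]
      exp := by
        rintro _ ⟨a, rfl⟩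
        rw [← map_pow]
        obtain ⟨i, hi, he⟩ := (Nat.dvd_prime_pow hq).mp (hA ▸ orderOf_dvd_natCard a)
        rcases Nat.lt_or_eq_of_le hi with hi | rfl
        · rw [orderOf_dvd_iff_pow_eq_one.mp (he ▸ pow_dvd_pow q (Nat.le_of_lt_succ hi) |>.trans
            (pow_one q).dvd), map_one]
        · exact absurd (isCyclic_of_orderOf_eq_card a (he.trans hA.symm)) hnc
      card := by rw [Coprime.card_inrRange, hA] }
  have hgood : FG78.Ab4323.Good (Coprime.inrRange φ) (Coprime.inlRange φ) :=
    { norm := Coprime.inrRange_le_normalizer φ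
      cop := by
        rw [Coprime.card_inrRange, Coprime.card_inlRange, hA]
        exact Nat.Coprime.pow_left 2 (hq.coprime_iff_not_dvd.mpr hcop)
      ab := by
        rintro _ ⟨a, rfl⟩ ha1 _ ⟨x, rfl⟩ hx _ ⟨y, rfl⟩ hy
        have ha : a ≠ 1 := fun e => ha1 (by rw [e, map_one])
        have fix : ∀ g : G, (SemidirectProduct.inr a : G ⋊[φ] A) * SemidirectProduct.inl g =
            SemidirectProduct.inl g * SemidirectProduct.inr a →
            g ∈ FixedPoints.subgroup (Subgroup.zpowers a) G := by
          intro g hg
          have h1 : a • g = g := SemidirectProduct.inl_injective (φ := φ) (by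
            rw [show a • g = φ a g from rfl, ← Coprime.inr_mul_inl_mul_inv φ a g, hg,
              mul_inv_cancel_right])
          rintro ⟨b, hb⟩
          show b • g = g
          exact (Subgroup.zpowers_le.mpr (MulAction.mem_stabilizer_iff.mpr h1) hb :
            b ∈ MulAction.stabilizer A g)
        have := (h a ha).is_comm.comm ⟨x, fix x hx⟩ ⟨y, fix y hy⟩
        rw [← map_mul, ← map_mul]
        exact congrArg _ (congrArg Subtype.val this) }
  haveI := FG78.Ab4323.isSolvable_of_good _ _ _ _ q hop hgood rfl
  exact Group.isSolvable_of_isSolvable_injective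
    (f := (MonoidHom.ofInjective (SemidirectProduct.inl_injective (φ := φ))).toMonoidHom)
    (MonoidHom.ofInjective (SemidirectProduct.inl_injective (φ := φ))).injective

end Cfsg.Agent.S4323
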