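import Cfsg.Statements.S4325
import Cfsg.Agent.SylowNum.Swaps

set_option autoImplicit false
open Cfsg

namespace Cfsg.Agent.S4325

/-- Let r be a prime and m a natural number with m + 1 < r, and let π be a set of primes containing every prime below r but not r itself. Then in the symmetric group of degree r any m transpositions generate a π-subgroup, while O_π of the symmetric group is trivial. (So no bound on the number of conjugates that works for all π exists in the π-radical analogue of the Baer–Suzuki Theorem.) -/
theorem result (r m : ℕ) (hr : r.Prime)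
    (hm : m + 1 < r) (π : Set ℕ) (hπ : ∀ q : ℕ, q.Prime → q < r → q ∈ π) (hrπ : r ∉ π)
    (t : Fin m → Equiv.Perm (Fin r)) (ht : ∀ i, (t i).IsSwap) :
    Cfsg.IsPiSubgroup π (Subgroup.closure (Set.range t)) ∧ Cfsg.piCore π (Equiv.Perm (Fin r)) = ⊥ := by
  classical
  refine ⟨fun q hq hdvd => ?_, ?_⟩
  · rcases lt_trichotomy q r with h | h | h
    · exact hπ q hq h
    · exfalso
      subst h
      have : Fact q.Prime := ⟨hq⟩
      obtain ⟨σ, hσ⟩ := exists_prime_orderOf_dvd_card' q hdvd
      have hσ' : orderOf (σ : Equiv.Perm (Fin q)) = q := by rw [Subgroup.orderOf_coe, hσ]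
      have hcyc : (σ : Equiv.Perm (Fin q)).IsCycle := Equiv.Perm.isCycle_of_prime_order'
        (by rw [hσ']; exact hq) (by rw [hσ', Fintype.card_fin]; have := hq.pos; omega)
      have hsupp : (σ : Equiv.Perm (Fin q)).support = Finset.univ := by
        apply Finset.eq_univ_of_card
        rw [← hcyc.orderOf, hσ', Fintype.card_fin]
      let z : Fin q := ⟨0, hq.pos⟩
      have h1 : Nat.card (Fin q) ≤ Nat.card (MulAction.orbit (Subgroup.closure (Set.range t)) z) := by
        refine Nat.card_le_card_of_injective (fun y => ⟨y, ?_⟩) fun a b h => congrArg Subtype.val h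
        have hz : (σ : Equiv.Perm (Fin q)) z ≠ z := Equiv.Perm.mem_support.mp (hsupp ▸ Finset.mem_univ _)
        have hy : (σ : Equiv.Perm (Fin q)) y ≠ y := Equiv.Perm.mem_support.mp (hsupp ▸ Finset.mem_univ _)
        obtain ⟨i, hi⟩ := hcyc.exists_zpow_eq hz hy
        exact ⟨σ ^ i, by simpa [Subgroup.smul_def] using hi⟩
      have h2 := Cfsg.Agent.SylowNum.orbit_closure_swaps_card_le (Finset.univ.image t)
        (by simp [ht]) z
      have h3 : (Finset.univ.image t).card ≤ m := by simpa using Finset.card_image_le (s := Finset.univ) (f := t)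
      rw [Finset.coe_image, Finset.coe_univ, Set.image_univ] at h2
      rw [Nat.card_eq_fintype_card, Fintype.card_fin] at h1
      omega
    · exfalso
      have h1 := hdvd.trans (Subgroup.card_subgroup_dvd_card _)
      rw [Nat.card_perm, Nat.card_eq_fintype_card, Fintype.card_fin] at h1
      exact absurd ((Nat.Prime.dvd_factorial hq).mp h1) (by omega)
  · unfold Cfsg.piCore
    apply sSup_eq_bot.mpr
    rintro N ⟨hN, hNπ⟩
    by_contra hne
    have := hN
    have : NeZero r := ⟨hr.ne_zero⟩
    have hfp : MulAction.fixedPoints N (Fin r) ≠ Set.univ := by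
      intro h
      apply hne
      rw [eq_bot_iff]
      intro g hg
      rw [Subgroup.mem_bot]
      ext z
      have h4 := (h ▸ Set.mem_univ z : z ∈ MulAction.fixedPoints N (Fin r)) ⟨g, hg⟩
      rw [Subgroup.smul_def, Equiv.Perm.smul_def] at h4
      rw [Equiv.Perm.one_apply]
      exact congrArg Fin.val h4
    have htr : MulAction.IsPretransitive N (Fin r) :=
      MulAction.IsQuasiPreprimitive.isPretransitive_of_normal (G := Equiv.Perm (Fin r)) hfp
    have hd : r ∣ Nat.card N := by
      have := MulAction.index_stabilizer_of_transitive N (0 : Fin r)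
      rw [Nat.card_eq_fintype_card (α := Fin r), Fintype.card_fin] at this
      have h9 := Subgroup.index_dvd_card (MulAction.stabilizer N (0 : Fin r))
      rwa [this] at h9
    exact hrπ (hNπ r hr hd)

end Cfsg.Agent.S4325
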