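import Cfsg.Statements.S4326
-- no helper imports

set_option autoImplicit false
open Pointwise
open Cfsg

namespace Cfsg.Agent.S4326

/-- Let G be a finite group, p a prime, x an automorphism of G of p-power order and M the subgroup of fixed points of x. Suppose that p divides the index of M and that either M is self-normalizing or M has trivial center. Then some conjugate of M is mapped onto itself by x but is not fixed elementwise by x. -/
theorem result {G : Type*} [Group G] [Finite G]
    (p : ℕ) [Fact p.Prime] (x : MulAut G) (hx : ∃ k : ℕ, orderOf x = p ^ k) (M : Subgroup G)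
    (hM : ∀ g : G, g ∈ M ↔ x g = g) (hp : p ∣ M.index)
    (hself : Subgroup.normalizer (M : Set G) = M ∨ Subgroup.center M = ⊥) :
    ∃ g : G, (∀ y ∈ MulAut.conj g • M, x y ∈ MulAut.conj g • M) ∧ ∃ y ∈ MulAut.conj g • M, x y ≠ y := by
  classical
  obtain ⟨k, hk⟩ := hx
  have := Fintype.ofFinite (G ⧸ M)
  have hstep : ∀ a b : G, a⁻¹ * b ∈ M ↔ (x a)⁻¹ * x b ∈ M := fun a b => by
    rw [← map_inv, ← map_mul, hM (a⁻¹ * b), hM (x (a⁻¹ * b))]
    exact ⟨fun h => congrArg x h, fun h => x.injective h⟩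
  let σ : Equiv.Perm (G ⧸ M) := Quotient.congr x.toEquiv fun a b => by
    rw [QuotientGroup.leftRel_apply, QuotientGroup.leftRel_apply]
    exact hstep a b
  have hσa : ∀ a : G, σ (a : G ⧸ M) = ((x a : G) : G ⧸ M) := fun a => rfl
  have hpow : ∀ (n : ℕ) (a : G), (σ ^ n) (a : G ⧸ M) = (((x ^ n) a : G) : G ⧸ M) := by
    intro n
    induction n with
    | zero => intro a; simp
    | succ n ih =>
      intro a
      rw [pow_succ, Equiv.Perm.mul_apply, hσa, ih, pow_succ, MulAut.mul_apply]
  have hσ : σ ^ p ^ k = 1 := by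
    ext q
    induction q using QuotientGroup.induction_on with
    | H a => rw [hpow, ← hk, pow_orderOf_eq_one]; rfl
  have hmod := Equiv.Perm.card_compl_support_modEq hσ
  have hone : ((1 : G) : G ⧸ M) ∈ σ.supportᶜ := by
    simp [hσa, map_one, Finset.mem_compl, Equiv.Perm.mem_support]
  have hdvd : p ∣ σ.supportᶜ.card := by
    have hidx : M.index = Fintype.card (G ⧸ M) := Nat.card_eq_fintype_card
    exact Nat.modEq_zero_iff_dvd.mp (hmod.trans (Nat.modEq_zero_iff_dvd.mpr (hidx ▸ hp)))
  have h1 : 1 < σ.supportᶜ.card :=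
    lt_of_lt_of_le (Fact.out (p := p.Prime)).one_lt
      (Nat.le_of_dvd (Finset.card_pos.mpr ⟨_, hone⟩) hdvd)
  obtain ⟨q, hq, hq1⟩ := Finset.exists_mem_ne h1 ((1 : G) : G ⧸ M)
  obtain ⟨g, rfl⟩ := QuotientGroup.mk_surjective q
  rw [Finset.mem_compl, Equiv.Perm.notMem_support, hσa, eq_comm, QuotientGroup.eq] at hq
  have hgM : g ∉ M := fun h => hq1 (by rw [QuotientGroup.eq]; simpa using h)
  set c := g⁻¹ * x g with hcdef
  have hxg : x g = g * c := by rw [hcdef]; group
  have hval : ∀ m ∈ M, x (g * m * g⁻¹) = g * (c * m * c⁻¹) * g⁻¹ := by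
    intro m hm
    rw [map_mul, map_mul, map_inv, (hM m).mp hm, hxg]; group
  have hmem : ∀ y, y ∈ MulAut.conj g • M ↔ ∃ m ∈ M, g * m * g⁻¹ = y := fun y => by
    constructor
    · rintro ⟨m, hm, rfl⟩; exact ⟨m, hm, rfl⟩
    · rintro ⟨m, hm, rfl⟩; exact ⟨m, hm, rfl⟩
  refine ⟨g, fun y hy => ?_, ?_⟩
  · obtain ⟨m, hm, rfl⟩ := (hmem y).mp hy
    rw [hval m hm]
    exact (hmem _).mpr ⟨_, mul_mem (mul_mem hq hm) (inv_mem hq), rfl⟩
  · by_contra hcon
    push Not at hcon
    have hfix : ∀ m ∈ M, c * m * c⁻¹ = m := by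
      intro m hm
      have := (hval m hm).symm.trans (hcon _ ((hmem _).mpr ⟨m, hm, rfl⟩))
      exact mul_left_cancel (mul_right_cancel this)
    rcases hself with h | h
    · apply hgM
      rw [← h, Subgroup.mem_normalizer_iff_map_conj_eq]
      have hle : M.map (MulAut.conj g).toMonoidHom ≤ M := by
        rintro _ ⟨m, hm, rfl⟩
        exact (hM _).mpr (hcon _ ((hmem _).mpr ⟨m, hm, rfl⟩))
      exact Subgroup.eq_of_le_of_card_ge hle
        (le_of_eq (Subgroup.card_map_of_injective (MulAut.conj g).injective).symm)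
    · have hcz : (⟨c, hq⟩ : M) ∈ Subgroup.center M := by
        rw [Subgroup.mem_center_iff]
        intro m
        apply Subtype.ext
        exact (mul_inv_eq_iff_eq_mul.mp (hfix m m.2)).symm
      rw [h, Subgroup.mem_bot] at hcz
      have hc1 : c = 1 := congrArg Subtype.val hcz
      exact hgM ((hM g).mpr (by rw [hxg, hc1, mul_one]))

end Cfsg.Agent.S4326
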