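import Cfsg.Statements.S4330
import Cfsg.Agent.Avoid92.Decomp
import Cfsg.Agent.Lib.Thompson.Cores
import Cfsg.Agent.Lib.Solvable.Basic

set_option autoImplicit false
open Pointwise
open Cfsg

namespace Cfsg.Agent.S4330

open Cfsg.Agent in
theorem eq_bot_of_pCore_eq_bot {G : Type*} [Group G] [Finite G] (hG : Group.IsSolvable G) {p : ℕ}
    [hp : Fact p.Prime] (hp2 : p ≠ 2) {A : Subgroup G} (hA : IsPGroup p A)
    (h : ∀ c : G, ∃ g : G, IsConj c g ∧ (A.subgroupOf (A ⊔ MulAut.conj g • A)).IsSubnormal)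
    (hcore : Cfsg.pCore p G = ⊥)
    (hquot : ∀ (N : Subgroup G) (_ : N.Normal), N ≠ ⊥ →
      A.map (QuotientGroup.mk' N) ≤ Cfsg.pCore p (G ⧸ N)) : A = ⊥ := by
  classical
  by_contra hA1
  obtain ⟨a, ha, ha1, hap⟩ : ∃ a ∈ A, a ≠ 1 ∧ a ^ p = 1 := by
    have hne : (⊤ : Subgroup A) ≠ ⊥ := fun he => hA1 ((Subgroup.eq_bot_iff_forall A).2 fun x hx => by
      have : (⟨x, hx⟩ : A) ∈ (⊥ : Subgroup A) := he ▸ Subgroup.mem_top _
      exact congrArg Subtype.val (Subgroup.mem_bot.1 this))
    obtain ⟨a, -, h1, h2⟩ := PGroup.exists_mem_pow_eq_one hA hne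
    exact ⟨a, a.2, fun he => h1 (Subtype.ext he), congrArg Subtype.val h2⟩
  have : Nontrivial G := ⟨a, 1, ha1⟩
  obtain ⟨N, q, hNn, hNne, hNmin, hq, hNq, hNc, hNexp, -⟩ :=
    Solvable.exists_minimal_normal_elementary G
  have hqp : q ≠ p := by
    rintro rfl
    exact hNne (le_bot_iff.1 ((Thompson.le_pCore hNn hNq).trans hcore.le))
  have : Fact q.Prime := ⟨hq⟩
  have hcommN : ∀ x ∈ N, ∀ y ∈ N, x * y = y * x := fun x hx y hy =>
    congrArg Subtype.val (mul_comm' (⟨x, hx⟩ : N) ⟨y, hy⟩)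
  -- the preimage of the `p`-core of the quotient
  set K : Subgroup G := (Cfsg.pCore p (G ⧸ N)).comap (QuotientGroup.mk' N) with hK
  have hNK : N ≤ K := fun x hx => by
    rw [hK, Subgroup.mem_comap, QuotientGroup.mk'_apply, (QuotientGroup.eq_one_iff x).2 hx]
    exact Subgroup.one_mem _
  have hAK : A ≤ K := Subgroup.map_le_iff_le_comap.1 (hquot N hNn hNne)
  obtain ⟨P, hP⟩ := (hA.comap_subtype (K := K)).exists_le_sylow
  set P' : Subgroup G := (P : Subgroup K).map K.subtype with hP'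
  have hP'p : IsPGroup p P' := P.isPGroup'.map _
  have hP'K : P' ≤ K := Subgroup.map_subtype_le _
  have haP : a ∈ P' := ⟨⟨a, hAK ha⟩, hP ha, rfl⟩
  have hKsup : K ≤ P' ⊔ N := by
    intro x hx
    have hsurj : Function.Surjective ((QuotientGroup.mk' N).subgroupComap (Cfsg.pCore p (G ⧸ N))) :=
      MonoidHom.subgroupComap_surjective_of_surjective _ _ (QuotientGroup.mk'_surjective N)
    have hmax : (P : Subgroup K).map ((QuotientGroup.mk' N).subgroupComap (Cfsg.pCore p (G ⧸ N))) = ⊤ := by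
      have h1 := (P.mapSurjective hsurj).is_maximal'
        (Q := ⊤) (Thompson.isPGroup_pCore.to_subgroup _) le_top
      exact h1.symm
    have h2 : (⟨QuotientGroup.mk' N x, hx⟩ : Cfsg.pCore p (G ⧸ N)) ∈
        (P : Subgroup K).map ((QuotientGroup.mk' N).subgroupComap (Cfsg.pCore p (G ⧸ N))) :=
      hmax ▸ Subgroup.mem_top _
    obtain ⟨y, hy, hyx⟩ := h2
    have h3 : ((y : G) : G ⧸ N) = (x : G ⧸ N) := congrArg Subtype.val hyx
    rw [QuotientGroup.eq] at h3
    have h4 := Subgroup.mul_mem_sup (show (y : G) ∈ P' from ⟨y, hy, rfl⟩) h3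
    rwa [mul_inv_cancel_left] at h4
  have hKn : K.Normal := inferInstance
  set H : Subgroup G := Subgroup.normalizer (P' : Set G) with hH
  have hPH : P' ≤ H := Subgroup.le_normalizer
  have hHN : N ⊔ H = ⊤ := by
    have h1 : H ⊔ K = ⊤ := Sylow.normalizer_sup_eq_top P
    refine top_le_iff.1 (h1.symm.le.trans (sup_le le_sup_right (hKsup.trans ?_)))
    exact sup_le (hPH.trans le_sup_right) le_sup_left
  have hHtop : H ≠ ⊤ := fun he => by
    have hn : P'.Normal := Subgroup.normalizer_eq_top_iff.1 he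
    have h1 := (Thompson.le_pCore hn hP'p).trans hcore.le
    exact ha1 (Subgroup.mem_bot.1 (h1 haP))
  have hNH : N ⊓ H = ⊥ := Solvable.inf_eq_bot_of_minimal_normal N H hNmin hHN hHtop
  have hdec : ∀ x : G, ∃ y ∈ H, ∃ n ∈ N, x = y * n := by
    intro x
    have hx : x ∈ ((H ⊔ N : Subgroup G) : Set G) := by
      rw [sup_comm, hHN]; exact Subgroup.mem_top x
    rw [Subgroup.mul_normal] at hx
    obtain ⟨y, hy, n, hn, rfl⟩ := hx
    exact ⟨y, hy, n, hn, rfl⟩
  -- `a` moves something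
  obtain ⟨n0, hn0, hmove⟩ : ∃ n ∈ N, a * n * a⁻¹ ≠ n := by
    by_contra! hc
    set C : Subgroup G := P' ⊓ Subgroup.centralizer (N : Set G) with hC
    have hCn : C.Normal := by
      rw [← Subgroup.normalizer_eq_top_iff, eq_top_iff, ← hHN]
      refine sup_le (fun n hn => Subgroup.mem_normalizer_iff.2 fun x => ⟨fun hx => ?_, fun hx => ?_⟩)
        (fun y hy => Subgroup.mem_normalizer_iff.2 fun x => ?_)
      · rwa [hx.2 n hn, mul_inv_cancel_right]
      · have h1 := hx.2 n hn
        have h2 : n * (n * x * n⁻¹) * n⁻¹ = n * x * n⁻¹ := by rw [h1, mul_inv_cancel_right]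
        have h3 : n * x * n⁻¹ = x := mul_left_cancel (mul_right_cancel h2)
        rwa [h3] at hx
      · have hNc' : (Subgroup.centralizer (N : Set G)).Normal := inferInstance
        exact and_congr (Subgroup.mem_normalizer_iff.1 hy x)
          ⟨fun hx => hNc'.conj_mem x hx y, fun hx => by
            have := hNc'.conj_mem' _ hx y
            simpa [mul_assoc] using this⟩
    have h1 : C = ⊥ := le_bot_iff.1
      ((Thompson.le_pCore hCn (hP'p.to_le inf_le_left)).trans hcore.le)
    have h2 : a ∈ C := ⟨haP, fun n hn => by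
      have := hc n hn
      rw [mul_inv_eq_iff_eq_mul] at this
      exact this.symm⟩
    exact ha1 (Subgroup.mem_bot.1 (h1 ▸ h2))
  -- the action of `H` on `N`
  letI : CommGroup N := { (inferInstance : Group N) with mul_comm := fun x y => mul_comm' x y }
  letI : DistribMulAction H (Additive N) :=
    { smul := fun y v => Additive.ofMul (MulAut.conjNormal (y : G) v.toMul)
      one_smul := fun v => by
        show Additive.ofMul (MulAut.conjNormal ((1 : H) : G) v.toMul) = v
        simp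
      mul_smul := fun x y v => by
        show Additive.ofMul (MulAut.conjNormal ((x * y : H) : G) v.toMul) =
          Additive.ofMul (MulAut.conjNormal (x : G) (MulAut.conjNormal (y : G) v.toMul))
        simp
      smul_zero := fun x => by
        show Additive.ofMul (MulAut.conjNormal (x : G) (1 : N)) = 0
        simp
      smul_add := fun x u v => by
        show Additive.ofMul (MulAut.conjNormal (x : G) (u.toMul * v.toMul)) = _
        rw [map_mul]; rfl }
  have hsmul : ∀ (y : H) (v : Additive N),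
      (((y • v).toMul : N) : G) = (y : G) * (v.toMul : G) * (y : G)⁻¹ :=
    fun y v => MulAut.conjNormal_apply _ _
  have hirr : Avoid92.Irr H (Additive N) := by
    intro U hU
    let M : Subgroup G :=
      { carrier := {x | ∃ hx : x ∈ N, Additive.ofMul (⟨x, hx⟩ : N) ∈ U}
        one_mem' := ⟨N.one_mem, U.zero_mem⟩
        mul_mem' := fun {x y} hx hy => ⟨N.mul_mem hx.1 hy.1, U.add_mem hx.2 hy.2⟩
        inv_mem' := fun {x} hx => ⟨N.inv_mem hx.1, U.neg_mem hx.2⟩ }
    have hMn : M.Normal := ⟨fun x hx g => by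
      obtain ⟨y, hy, n, hn, rfl⟩ := hdec g
      obtain ⟨hxN, hxU⟩ := hx
      have e1 : y * n * x * (y * n)⁻¹ = y * x * y⁻¹ := by
        rw [mul_assoc y n x, hcommN n hn x hxN]; group
      rw [e1]
      refine ⟨hNn.conj_mem x hxN y, ?_⟩
      convert hU ⟨y, hy⟩ _ hxU using 1
      exact Additive.toMul.injective (Subtype.ext
        (hsmul ⟨y, hy⟩ (Additive.ofMul (⟨x, hxN⟩ : N))).symm)⟩
    rcases hNmin M hMn (fun x hx => hx.1) with hM | hM
    · refine Or.inl ((AddSubgroup.eq_bot_iff_forall U).2 fun v hv => ?_)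
      have : ((v.toMul : N) : G) ∈ M := ⟨(v.toMul).2, hv⟩
      rw [hM, Subgroup.mem_bot] at this
      exact congrArg Additive.ofMul (Subtype.ext this : v.toMul = 1)
    · refine Or.inr (eq_top_iff.2 fun v _ => ?_)
      obtain ⟨_, h2⟩ : ((v.toMul : N) : G) ∈ M := hM.symm ▸ (v.toMul).2
      exact h2
  have hVp : ∀ v : Additive N, p • v = 0 → v = 0 := fun v hv => by
    have h1 : ((v.toMul : N) : G) ^ p = 1 := congrArg (fun w : Additive N => ((w.toMul : N) : G)) hv
    have h2 := hNexp _ (v.toMul).2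
    have h3 := pow_gcd_eq_one.2 ⟨h1, h2⟩
    rw [(Nat.coprime_primes hp.out hq).2 hqp.symm, pow_one] at h3
    exact congrArg Additive.ofMul (Subtype.ext h3 : v.toMul = 1)
  have : Nontrivial N := (Subgroup.nontrivial_iff_ne_bot N).2 hNne
  have : Nontrivial (Additive N) := Additive.ofMul.symm.nontrivial
  have : Finite (Additive N) := Finite.of_equiv N Additive.ofMul
  have : (P'.subgroupOf H).Normal := Subgroup.normal_in_normalizer
  obtain ⟨v, hv⟩ := Avoid92.exists_moved_by_conjugates hp2 hVp hirr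
    (P := P'.subgroupOf H) hP'p.comap_subtype (a := ⟨a, hPH haP⟩) haP (Subtype.ext hap)
    ⟨Additive.ofMul ⟨n0, hn0⟩, fun he => hmove (by
      have := congrArg (fun w : Additive N => ((w.toMul : N) : G)) he
      simpa [hsmul] using this)⟩
  -- the class of `v`
  obtain ⟨g, hg, hsub⟩ := h ((v.toMul : N) : G)
  obtain ⟨x, rfl⟩ := isConj_iff.1 hg
  obtain ⟨y, hy, n, hn, rfl⟩ := hdec x
  set v0 : G := ((v.toMul : N) : G) with hv0
  have hv0N : v0 ∈ N := (v.toMul).2
  have hge : y * n * v0 * (y * n)⁻¹ = y * v0 * y⁻¹ := by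
    rw [mul_assoc y n v0, hcommN n hn v0 hv0N]; group
  rw [hge] at hsub
  set g0 := y * v0 * y⁻¹ with hg0
  have hg0N : g0 ∈ N := hNn.conj_mem _ hv0N y
  set J : Subgroup G := A ⊔ MulAut.conj g0 • A with hJ
  have hAJ : A ≤ J := le_sup_left
  have hcore' := Thompson.le_pCore_of_isSubnormal hsub hA.comap_subtype
  set t := a * g0 * a⁻¹ * g0⁻¹ with ht
  have htN : t ∈ N := N.mul_mem (hNn.conj_mem _ hg0N a) (N.inv_mem hg0N)
  have htJ : t ∈ J := by
    have h1 : g0 * a⁻¹ * g0⁻¹ ∈ J := by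
      refine (le_sup_right : MulAut.conj g0 • A ≤ J) ?_
      exact Subgroup.smul_mem_pointwise_smul a⁻¹ (MulAut.conj g0) A (A.inv_mem ha)
    have := J.mul_mem (hAJ ha) h1
    rw [ht]
    convert this using 1
    group
  have hat : a * t = t * a := by
    have hin : a * t * a⁻¹ * t⁻¹ ∈ N := N.mul_mem (hNn.conj_mem _ htN a) (N.inv_mem htN)
    have haJ : (⟨a, hAJ ha⟩ : J) ∈ Cfsg.pCore p J := hcore' ha
    have hin' : (⟨a, hAJ ha⟩ : J) * ⟨t, htJ⟩ * (⟨a, hAJ ha⟩ : J)⁻¹ * (⟨t, htJ⟩ : J)⁻¹ ∈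
        Cfsg.pCore p J := by
      have h1 := Thompson.instPCoreNormal.conj_mem _ ((Cfsg.pCore p J).inv_mem haJ) ⟨t, htJ⟩
      have h2 := (Cfsg.pCore p J).mul_mem haJ h1
      convert h2 using 1
      group
    obtain ⟨k, hk⟩ := Thompson.isPGroup_pCore ⟨_, hin'⟩
    have hk' : (a * t * a⁻¹ * t⁻¹) ^ p ^ k = 1 :=
      congrArg (fun w : Cfsg.pCore p J => ((w : J) : G)) hk
    have h3 := pow_gcd_eq_one.2 ⟨hk', hNexp _ hin⟩
    rw [Nat.Coprime.pow_left k ((Nat.coprime_primes hp.out hq).2 hqp.symm), pow_one,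
      mul_inv_eq_one, mul_inv_eq_iff_eq_mul] at h3
    exact h3
  have hag : a * g0 = g0 * a := by
    have hconj : ∀ i : ℕ, a ^ i * g0 * (a ^ i)⁻¹ = t ^ i * g0 := by
      intro i
      induction i with
      | zero => simp
      | succ i ih =>
        calc a ^ (i + 1) * g0 * (a ^ (i + 1))⁻¹ = a * (a ^ i * g0 * (a ^ i)⁻¹) * a⁻¹ := by
              rw [pow_succ']; group
          _ = t ^ i * (a * g0 * a⁻¹) := by
              rw [ih, ← mul_assoc a, ((show Commute a t from hat).pow_right i).eq]; group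
          _ = t ^ (i + 1) * g0 := by rw [pow_succ, ht]; group
    have h1 := hconj p
    rw [hap, inv_one, one_mul, mul_one, eq_comm, mul_eq_right] at h1
    have h2 := pow_gcd_eq_one.2 ⟨h1, hNexp _ htN⟩
    rw [(Nat.coprime_primes hp.out hq).2 hqp.symm, pow_one, ht, mul_inv_eq_one,
      mul_inv_eq_iff_eq_mul] at h2
    exact h2
  refine hv ⟨y, hy⟩ (Additive.toMul.injective (Subtype.ext ?_))
  show (((_ : H) • v).toMul : G) = v0
  rw [hsmul]
  simp only [Subgroup.coe_mul, Subgroup.coe_inv]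
  calc y⁻¹ * a * y * v0 * (y⁻¹ * a * y)⁻¹ = y⁻¹ * (a * g0) * a⁻¹ * y := by rw [hg0]; group
    _ = v0 := by rw [hag, hg0]; group

theorem le_pCore_aux.{u} (n : ℕ) : ∀ (G : Type u) [Group G] [Finite G],
    Nat.card G = n → Group.IsSolvable G → ∀ (p : ℕ) [Fact p.Prime], p ≠ 2 →
    ∀ A : Subgroup G, IsPGroup p A →
    (∀ c : G, ∃ g : G, IsConj c g ∧ (A.subgroupOf (A ⊔ MulAut.conj g • A)).IsSubnormal) →
    A ≤ Cfsg.pCore p G := by
  induction n using Nat.strong_induction_on with
  | _ n ih =>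
  intro G _ _ hcard hG p _ hp A hA h
  have hquot : ∀ (N : Subgroup G) (_ : N.Normal), N ≠ ⊥ →
      A.map (QuotientGroup.mk' N) ≤ Cfsg.pCore p (G ⧸ N) := by
    intro N _ hN
    have hlt : Nat.card (G ⧸ N) < n := by
      rw [← hcard, Subgroup.card_eq_card_quotient_mul_card_subgroup N]
      exact lt_mul_of_one_lt_right Nat.card_pos (N.one_lt_card_iff_ne_bot.2 hN)
    have := hG
    refine ih _ hlt (G ⧸ N) rfl inferInstance p hp _ (hA.map _) fun c => ?_
    obtain ⟨c, rfl⟩ := QuotientGroup.mk'_surjective N c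
    obtain ⟨g, hcg, hsub⟩ := h c
    refine ⟨QuotientGroup.mk' N g, (QuotientGroup.mk' N).map_isConj hcg, ?_⟩
    set J := A ⊔ MulAut.conj g • A
    have hJ : J.map (QuotientGroup.mk' N) =
        A.map (QuotientGroup.mk' N) ⊔ MulAut.conj (QuotientGroup.mk' N g) • A.map (QuotientGroup.mk' N) := by
      rw [Subgroup.map_sup]
      congr 1
      ext x
      simp only [Subgroup.mem_map, Subgroup.mem_smul_pointwise_iff_exists]
      constructor
      · rintro ⟨_, ⟨u, hu, rfl⟩, rfl⟩
        exact ⟨QuotientGroup.mk' N u, ⟨u, hu, rfl⟩, by simp⟩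
      · rintro ⟨_, ⟨u, hu, rfl⟩, rfl⟩
        exact ⟨MulAut.conj g • u, ⟨u, hu, rfl⟩, by simp⟩
    have h1 := hsub.map ((QuotientGroup.mk' N).subgroupMap_surjective J)
    have h2 : (A.subgroupOf J).map ((QuotientGroup.mk' N).subgroupMap J) =
        (A.map (QuotientGroup.mk' N)).subgroupOf (J.map (QuotientGroup.mk' N)) := by
      ext ⟨x, hx⟩
      simp only [Subgroup.mem_map, Subgroup.mem_subgroupOf]
      constructor
      · rintro ⟨u, hu, he⟩
        exact ⟨u, hu, congrArg Subtype.val he⟩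
      · rintro ⟨u, hu, he⟩
        exact ⟨⟨u, (le_sup_left : A ≤ J) hu⟩, hu, Subtype.ext he⟩
    rw [h2] at h1
    rw [← hJ]
    exact h1
  by_cases hcore : Cfsg.pCore p G = ⊥
  · rw [eq_bot_of_pCore_eq_bot hG hp hA h hcore hquot]
    exact bot_le
  · have h1 := hquot (Cfsg.pCore p G) Thompson.instPCoreNormal hcore
    rw [Thompson.pCore_quotient_pCore, le_bot_iff, Subgroup.map_eq_bot_iff,
      QuotientGroup.ker_mk'] at h1
    exact h1

/-- Let G be a finite solvable group, p an odd prime and A a p-subgroup of G such that every conjugacy class of G contains an element g for which A is subnormal in the subgroup generated by A and its conjugate by g. Then A is contained in O_p(G). (The hypothesis that p is odd is needed.) -/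
theorem result {G : Type*} [Group G] [Finite G]
    (hG : Group.IsSolvable G) (p : ℕ) [Fact p.Prime] (hp : p ≠ 2) (A : Subgroup G) (hA : IsPGroup p A)
    (h : ∀ c : G, ∃ g : G, IsConj c g ∧ (A.subgroupOf (A ⊔ MulAut.conj g • A)).IsSubnormal) :
    A ≤ Cfsg.pCore p G := by
  exact le_pCore_aux _ G rfl hG p hp A hA h

end Cfsg.Agent.S4330
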