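import Cfsg.Statements.S4331
import Mathlib
import Cfsg.Agent.S4089
import Cfsg.Agent.Lib.Thompson.Cores
import Cfsg.Agent.Lib.Coprime.Action

set_option autoImplicit false
open Cfsg

namespace Cfsg.Agent.S4331

/-- The plane over the field with three elements. -/
abbrev V0 := ZMod 3 × ZMod 3

/-- Multiplication by a generator of the multiplicative group of the field with nine elements. -/
def xf (v : V0) : V0 := (v.1 - v.2, v.1 + v.2)

/-- The Frobenius of the field with nine elements. -/
def af (v : V0) : V0 := (v.1, -v.2)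

/-- `xf` as an automorphism. -/
def xE : V0 ≃+ V0 where
  toFun := xf
  invFun v := (-v.1 - v.2, v.1 - v.2)
  left_inv v := by revert v; decide
  right_inv v := by revert v; decide
  map_add' a b := by revert a b; decide

/-- `af` as an automorphism. -/
def aE : V0 ≃+ V0 where
  toFun := af
  invFun := af
  left_inv v := by revert v; decide
  right_inv v := by revert v; decide
  map_add' a b := by revert a b; decide

/-- The group of translations. -/
abbrev V := Multiplicative V0

/-- `xf` acting on the translations. -/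
def X : MulAut V := xE.toMultiplicative

/-- `af` acting on the translations. -/
def A : MulAut V := aE.toMultiplicative

theorem X_apply (v : V0) : X (Multiplicative.ofAdd v) = Multiplicative.ofAdd (xf v) := rfl

theorem A_apply (v : V0) : A (Multiplicative.ofAdd v) = Multiplicative.ofAdd (af v) := rfl

theorem X_pow_apply (n : ℕ) (v : V0) :
    (X ^ n) (Multiplicative.ofAdd v) = Multiplicative.ofAdd (xf^[n] v) := by
  induction n with
  | zero => rfl
  | succ n ih => rw [pow_succ', MulAut.mul_apply, ih, Function.iterate_succ_apply', X_apply]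

theorem A_pow_apply (n : ℕ) (v : V0) :
    (A ^ n) (Multiplicative.ofAdd v) = Multiplicative.ofAdd (af^[n] v) := by
  induction n with
  | zero => rfl
  | succ n ih => rw [pow_succ', MulAut.mul_apply, ih, Function.iterate_succ_apply', A_apply]

theorem ext_V {e f : MulAut V} (h : ∀ v : V0, e (Multiplicative.ofAdd v) = f (Multiplicative.ofAdd v)) :
    e = f :=
  MulEquiv.ext fun x => h x.toAdd

theorem X_pow_eight : X ^ 8 = 1 := ext_V fun v => by
  rw [X_pow_apply, MulAut.one_apply]
  exact congrArg _ (by revert v; decide)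

theorem A_sq : A ^ 2 = 1 := ext_V fun v => by
  rw [A_pow_apply, MulAut.one_apply]
  exact congrArg _ (by revert v; decide)

theorem A_mul_X : SemiconjBy A X (X ^ 3) := ext_V fun v => by
  rw [MulAut.mul_apply, MulAut.mul_apply, X_apply, A_apply, A_apply, X_pow_apply]
  exact congrArg _ (by revert v; decide)

theorem A_pow_mul_X_pow (j k : ℕ) : A ^ j * X ^ k = X ^ (3 ^ j * k) * A ^ j := by
  induction j with
  | zero => simp
  | succ j ih =>
    calc A ^ (j + 1) * X ^ k = A * (A ^ j * X ^ k) := by rw [pow_succ', mul_assoc]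
      _ = A * X ^ (3 ^ j * k) * A ^ j := by rw [ih, mul_assoc]
      _ = (X ^ 3) ^ (3 ^ j * k) * A * A ^ j := by rw [(A_mul_X.pow_right _).eq]
      _ = X ^ (3 ^ (j + 1) * k) * A ^ (j + 1) := by
        rw [← pow_mul, mul_assoc, ← pow_succ', ← mul_assoc 3, ← pow_succ']

/-- The semidihedral group of order 16. -/
def W : Subgroup (MulAut V) where
  carrier := {w | ∃ i j : ℕ, w = X ^ i * A ^ j}
  one_mem' := ⟨0, 0, by simp⟩
  mul_mem' := by
    rintro _ _ ⟨i, j, rfl⟩ ⟨k, l, rfl⟩
    exact ⟨i + 3 ^ j * k, j + l, by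
      rw [mul_assoc, ← mul_assoc (A ^ j), A_pow_mul_X_pow, pow_add, pow_add]; simp only [mul_assoc]⟩
  inv_mem' := by
    rintro _ ⟨i, j, rfl⟩
    refine ⟨3 ^ j * (7 * i), j, ?_⟩
    rw [← A_pow_mul_X_pow, mul_inv_rev]
    congr 1
    · rw [inv_eq_iff_mul_eq_one, ← pow_add, ← two_mul, pow_mul, A_sq, one_pow]
    · rw [inv_eq_iff_mul_eq_one, ← pow_add, show i + 7 * i = 8 * i by ring, pow_mul, X_pow_eight,
        one_pow]

theorem normal_form {w : MulAut V} (hw : w ∈ W) :
    ∃ (i : Fin 8) (j : Fin 2), w = X ^ (i : ℕ) * A ^ (j : ℕ) := by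
  obtain ⟨i, j, rfl⟩ := hw
  refine ⟨⟨i % 8, Nat.mod_lt _ (by norm_num)⟩, ⟨j % 2, Nat.mod_lt _ (by norm_num)⟩, ?_⟩
  rw [← pow_eq_pow_mod _ X_pow_eight, ← pow_eq_pow_mod _ A_sq]

theorem isPGroup_W : IsPGroup 2 W := by
  rintro ⟨w, hw⟩
  obtain ⟨i, j, rfl⟩ := normal_form hw
  refine ⟨3, Subtype.ext ?_⟩
  change (X ^ (i : ℕ) * A ^ (j : ℕ)) ^ (2 ^ 3) = 1
  obtain ⟨j, hj⟩ := j
  interval_cases j
  · rw [pow_zero, mul_one, ← pow_mul, mul_comm, pow_mul]
    norm_num [X_pow_eight]
  · have h2 : (X ^ (i : ℕ) * A ^ 1) ^ 2 = X ^ (4 * (i : ℕ)) := by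
      rw [sq, mul_assoc, ← mul_assoc (A ^ 1), A_pow_mul_X_pow, mul_assoc, ← pow_add, A_sq, mul_one,
        ← pow_add]
      congr 1
      ring
    rw [show 2 ^ 3 = 2 * 4 by norm_num, pow_mul, h2, ← pow_mul,
      show 4 * (i : ℕ) * 4 = 8 * (2 * (i : ℕ)) by ring, pow_mul, X_pow_eight, one_pow]

theorem key : ∀ (v : V0) (i : Fin 8) (j : Fin 2),
    (∃ c : V0, c + v - xf^[(i : ℕ)] (af^[(j : ℕ)] c) = 0) ∨
    (∃ c : V0, ∃ k : Fin 8,
      (∀ x : V0, xf^[(k : ℕ)] (af (xf^[8 - (k : ℕ)] (xf^[(i : ℕ)] (af^[(j : ℕ)] x)))) =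
        xf^[(i : ℕ)] (af^[(j : ℕ)] (xf^[(k : ℕ)] (af (xf^[8 - (k : ℕ)] x))))) ∧
      xf^[(k : ℕ)] (af (xf^[8 - (k : ℕ)] (c + v - xf^[(i : ℕ)] (af^[(j : ℕ)] c)))) =
        c + v - xf^[(i : ℕ)] (af^[(j : ℕ)] c)) := by
  decide +kernel

/-- The example: order 144. -/
abbrev G := V ⋊[W.subtype] W

instance : Finite W := inferInstance

instance : Finite G := Finite.of_equiv _ SemidirectProduct.equivProd.symm

/-- The reflection. -/
def aW : W := ⟨A, 0, 1, by simp⟩

/-- The reflection in `G`. -/
def aG : G := SemidirectProduct.inr aW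

theorem orderOf_aG : orderOf aG = 2 := by
  haveI := Fact.mk Nat.prime_two
  rw [aG, orderOf_injective _ SemidirectProduct.inr_injective, ← Subgroup.orderOf_coe]
  refine orderOf_eq_prime A_sq fun h => ?_
  have := congrArg (fun e : MulAut V => e (Multiplicative.ofAdd ((0, 1) : V0))) h
  simp only [A_apply, MulAut.one_apply] at this
  exact absurd (show af ((0, 1) : V0) = (0, 1) from Multiplicative.ofAdd.injective this) (by decide)

theorem card_A : Nat.card (Subgroup.zpowers aG) = 2 := by rw [Nat.card_zpowers, orderOf_aG]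

theorem isPGroup_A : IsPGroup 2 (Subgroup.zpowers aG) :=
  IsPGroup.of_card (n := 1) (by rw [card_A, pow_one])

theorem isSolvable_G : Group.IsSolvable G := by
  haveI := Fact.mk Nat.prime_two
  haveI := isPGroup_W.isNilpotent
  haveI : Group.IsSolvable W := Cfsg.Agent.Coprime.isSolvable_of_isNilpotent' inferInstance
  haveI : Group.IsSolvable V := Group.isSolvable_of_comm mul_comm
  exact Group.isSolvable_of_ker_le_range (SemidirectProduct.inl : V →* G)
    SemidirectProduct.rightHom SemidirectProduct.range_inl_eq_ker_rightHom.ge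

theorem good (c : G) : ∃ g : G, IsConj c g ∧
    ((Subgroup.zpowers aG).subgroupOf (Subgroup.zpowers aG ⊔ Subgroup.zpowers g)).IsSubnormal := by
  haveI := Fact.mk Nat.prime_two
  obtain ⟨v, w, hw⟩ := c
  obtain ⟨i, j, rfl⟩ := normal_form hw
  set L : V0 → V0 := fun x => xf^[(i : ℕ)] (af^[(j : ℕ)] x) with hL
  have hwL : ∀ x : V0, (X ^ (i : ℕ) * A ^ (j : ℕ)) (Multiplicative.ofAdd x) =
      Multiplicative.ofAdd (L x) := fun x => by
    rw [MulAut.mul_apply, A_pow_apply, X_pow_apply]
  set g₀ : G := ⟨v, ⟨_, hw⟩⟩ with hg₀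
  have hconj : ∀ u : V0, SemidirectProduct.inl (Multiplicative.ofAdd u) * g₀ *
      (SemidirectProduct.inl (Multiplicative.ofAdd u))⁻¹ =
        (⟨Multiplicative.ofAdd (u + v.toAdd - L u), ⟨_, hw⟩⟩ : G) := fun u => by
    rw [← map_inv]
    refine SemidirectProduct.ext ?_ (by simp [hg₀])
    simp only [hg₀, SemidirectProduct.mul_left, SemidirectProduct.mul_right,
      SemidirectProduct.left_inl, SemidirectProduct.right_inl, map_one, MulAut.one_apply, one_mul,
      Subgroup.coe_subtype, map_inv, MulAut.mul_apply, A_pow_apply, X_pow_apply]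
    apply Multiplicative.toAdd.injective
    simp [hL, sub_eq_add_neg, add_assoc]
    exact congrArg Multiplicative.toAdd (hwL u)
  rcases key v.toAdd i j with ⟨u, hu⟩ | ⟨u, k, hk, hv⟩
  · refine ⟨_, isConj_iff.2 ⟨_, hconj u⟩, ?_⟩
    rw [Cfsg.Agent.S4089.isSubnormal_iff_exists isPGroup_A]
    refine ⟨(SemidirectProduct.inr : W →* G).range, isPGroup_W.of_surjective _
      (MonoidHom.rangeRestrict_surjective _), Subgroup.zpowers_le.2 ⟨aW, rfl⟩,
      Subgroup.le_normalizer ?_⟩
    refine ⟨⟨_, hw⟩, SemidirectProduct.ext ?_ rfl⟩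
    simp only [SemidirectProduct.left_inr]
    rw [show u + v.toAdd - L u = 0 from hu, ofAdd_zero]
  · set t : W := ⟨X ^ (k : ℕ), k, 0, by simp⟩ with ht
    set T : G := SemidirectProduct.inr t with hT
    set g' : G := ⟨Multiplicative.ofAdd (u + v.toAdd - L u), ⟨_, hw⟩⟩ with hg'
    refine ⟨T⁻¹ * g' * T, ?_, ?_⟩
    · refine (isConj_iff.2 ⟨_, hconj u⟩ : IsConj g₀ g').trans (isConj_iff.2 ⟨T⁻¹, by rw [inv_inv]⟩)
    rw [Cfsg.Agent.S4089.isSubnormal_iff_exists isPGroup_A]
    refine ⟨Subgroup.zpowers aG, isPGroup_A, le_rfl, Subgroup.centralizer_le_normalizer _ ?_⟩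
    rw [Subgroup.zpowers_eq_closure, Subgroup.centralizer_closure,
      Subgroup.mem_centralizer_singleton_iff]
    set s : W := t * aW * t⁻¹ with hs
    have hsinv : (X ^ (k : ℕ))⁻¹ = X ^ (8 - (k : ℕ)) := by
      rw [inv_eq_iff_mul_eq_one, ← pow_add, Nat.add_sub_cancel' k.2.le, X_pow_eight]
    have hsfun : ∀ x : V0, (s : MulAut V) (Multiplicative.ofAdd x) =
        Multiplicative.ofAdd (xf^[(k : ℕ)] (af (xf^[8 - (k : ℕ)] x))) := fun x => by
      simp only [hs, ht, aW, Subgroup.coe_mul, InvMemClass.coe_inv, MulAut.mul_apply, hsinv,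
        X_pow_apply, A_apply]
    have hcomm : g' * SemidirectProduct.inr s = SemidirectProduct.inr s * g' := by
      refine SemidirectProduct.ext ?_ (Subtype.ext (ext_V fun x => ?_))
      · simp only [hg', SemidirectProduct.mul_left, SemidirectProduct.left_inr, map_one, mul_one,
          one_mul, SemidirectProduct.right_inr, Subgroup.coe_subtype, hsfun]
        exact (congrArg _ hv).symm
      · simp only [hg', SemidirectProduct.mul_right, SemidirectProduct.right_inr, Subgroup.coe_mul,
          MulAut.mul_apply, A_pow_apply, X_pow_apply, hsfun]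
        exact congrArg _ (hk x).symm
    have hsT : (SemidirectProduct.inr s : G) = T * aG * T⁻¹ := by
      rw [hs, map_mul, map_mul, map_inv]; rfl
    rw [hsT] at hcomm
    calc T⁻¹ * g' * T * aG = T⁻¹ * (g' * (T * aG * T⁻¹)) * T := by group
      _ = T⁻¹ * (T * aG * T⁻¹ * g') * T := by rw [hcomm]
      _ = aG * (T⁻¹ * g' * T) := by group

theorem not_le_core : ¬ Subgroup.zpowers aG ≤ Cfsg.pCore 2 G := by
  haveI := Fact.mk Nat.prime_two
  intro h
  have ha : aG ∈ Cfsg.pCore 2 G := h (Subgroup.mem_zpowers _)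
  set e : V := Multiplicative.ofAdd ((0, 1) : V0) with he
  have hn : SemidirectProduct.inl e * aG * (SemidirectProduct.inl e : G)⁻¹ * aG⁻¹ ∈
      Cfsg.pCore 2 G :=
    mul_mem ((inferInstance : (Cfsg.pCore 2 G).Normal).conj_mem _ ha _) (inv_mem ha)
  have heq : SemidirectProduct.inl e * aG * (SemidirectProduct.inl e : G)⁻¹ * aG⁻¹ =
      SemidirectProduct.inl (Multiplicative.ofAdd ((0, 2) : V0)) := by
    calc _ = SemidirectProduct.inl e *
          (SemidirectProduct.inr aW * SemidirectProduct.inl e⁻¹ * SemidirectProduct.inr aW⁻¹) := by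
          simp [aG, mul_assoc, map_inv]
      _ = _ := by
          rw [← SemidirectProduct.inl_aut, ← map_mul]
          congr 1
          exact congrArg Multiplicative.ofAdd (show ((0, 1) : V0) + af (-((0, 1) : V0)) = (0, 2) by decide)
  rw [heq] at hn
  obtain ⟨k, hk⟩ := Cfsg.Agent.Thompson.isPGroup_pCore (p := 2) ⟨_, hn⟩
  have hk' := congrArg Subtype.val hk
  rw [SubgroupClass.coe_pow, OneMemClass.coe_one, ← map_pow, ← map_one SemidirectProduct.inl] at hk'
  have h1 := orderOf_dvd_of_pow_eq_one (SemidirectProduct.inl_injective hk')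
  have h3 : orderOf (Multiplicative.ofAdd ((0, 2) : V0)) = 3 := by
    haveI := Fact.mk Nat.prime_three
    refine orderOf_eq_prime ?_ (by decide)
    decide
  rw [h3] at h1
  exact absurd (Nat.prime_three.dvd_of_dvd_pow h1) (by decide)

/-- There is a finite solvable group G with a subgroup A of order 2 such that every conjugacy class of G contains an element g for which A is subnormal in the subgroup generated by A and g, and yet A is not contained in O_2(G). (So the corresponding criteria for odd primes fail at the prime 2, even for solvable groups.) -/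
theorem result :
    ∃ (G : Type) (_ : Group G) (_ : Finite G) (A : Subgroup G), Group.IsSolvable G ∧ Nat.card A = 2 ∧
      (∀ c : G, ∃ g : G, IsConj c g ∧ (A.subgroupOf (A ⊔ Subgroup.zpowers g)).IsSubnormal) ∧
      ¬ A ≤ Cfsg.pCore 2 G := by
  exact ⟨G, inferInstance, inferInstance, Subgroup.zpowers aG, isSolvable_G, card_A, good, not_le_core⟩

end Cfsg.Agent.S4331
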