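import Cfsg.Statements.S4332
import Mathlib
import Cfsg.Agent.Lib.Thompson.Cores

set_option autoImplicit false
open Pointwise
open Cfsg

namespace Cfsg.Agent.S4332

open Equiv Equiv.Perm

/-- Two three-cycles with the same support commute. -/
theorem commute_of_support_eq {α : Type*} [Fintype α] [DecidableEq α] {σ τ : Perm α}
    (hσ : σ.IsThreeCycle) (hτ : τ.IsThreeCycle) (h : τ.support = σ.support) : Commute σ τ := by
  set p : α → Prop := fun a => a ∈ σ.support with hp
  have hu : ∀ f : Perm α, f.support = σ.support → f ∈ (ofSubtype (p := p)).range := fun f hf => by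
    rw [mem_range_ofSubtype_iff]
    intro a ha
    show a ∈ σ.support
    rw [← hf]; exact ha
  obtain ⟨u, huσ⟩ := hu σ rfl
  obtain ⟨v, hvτ⟩ := hu τ h
  have hsu : sign u = 1 := by rw [← sign_ofSubtype, huσ]; exact hσ.sign
  have hsv : sign v = 1 := by rw [← sign_ofSubtype, hvτ]; exact hτ.sign
  have hcard : Nat.card (Subtype p) = 3 := by
    rw [Nat.card_eq_fintype_card, Fintype.card_of_subtype σ.support (fun x => Iff.rfl),
      hσ.card_support]
  haveI : Nontrivial (Subtype p) := by
    rw [← Finite.one_lt_card_iff_nontrivial, hcard]; norm_num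
  have hA : Nat.card (alternatingGroup (Subtype p)) = 3 := by
    rw [nat_card_alternatingGroup, hcard]; decide
  haveI : Fact (Nat.Prime 3) := ⟨Nat.prime_three⟩
  haveI := isCyclic_of_prime_card hA
  obtain ⟨g, hg⟩ := IsCyclic.exists_generator (α := alternatingGroup (Subtype p))
  obtain ⟨i, hi⟩ := hg ⟨u, hsu⟩
  obtain ⟨j, hj⟩ := hg ⟨v, hsv⟩
  have huv : Commute u v := by
    have h1 : Commute (g ^ i) (g ^ j) := (Commute.refl g).zpow_zpow i j
    have h2 := h1.map (alternatingGroup (Subtype p)).subtype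
    simp only at hi hj
    rw [hi, hj] at h2
    exact h2
  rw [← huσ, ← hvτ]
  exact huv.map ofSubtype

/-- Every permutation of eight points maps some 3-set to itself or to a disjoint one. -/
theorem exists_three_set (c : Perm (Fin 8)) :
    ∃ T : Finset (Fin 8), T.card = 3 ∧ (T.map c.toEmbedding = T ∨ Disjoint (T.map c.toEmbedding) T) := by
  classical
  by_cases hf : 3 ≤ (Finset.univ.filter fun x => c x = x).card
  · obtain ⟨T, hT, hc⟩ := Finset.exists_subset_card_eq hf
    refine ⟨T, hc, Or.inl ?_⟩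
    have hfix : ∀ x ∈ T, c x = x := fun x hx => (Finset.mem_filter.1 (hT hx)).2
    ext y
    simp only [Finset.mem_map, Equiv.coe_toEmbedding]
    exact ⟨by rintro ⟨x, hx, rfl⟩; rwa [hfix x hx], fun hy => ⟨y, hy, hfix y hy⟩⟩
  set M := Finset.univ.filter fun x => c x ≠ x with hMdef
  have hM : 6 ≤ M.card := by
    have := Finset.card_filter_add_card_filter_not (s := (Finset.univ : Finset (Fin 8))) (fun x => c x = x)
    simp only [Finset.card_univ, Fintype.card_fin] at this
    rw [hMdef]
    simp only [ne_eq]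
    omega
  obtain ⟨x, hx⟩ : M.Nonempty := Finset.card_pos.1 (by omega)
  set R := M \ {x, c x, c⁻¹ x} with hR
  have hRc : 3 ≤ R.card := by
    have h1 := Finset.le_card_sdiff ({x, c x, c⁻¹ x} : Finset (Fin 8)) M
    have h2 := Finset.card_le_three (a := x) (b := c x) (c := c⁻¹ x)
    rw [hR]
    omega
  obtain ⟨T, hT, hTc⟩ := Finset.exists_subset_card_eq hRc
  obtain ⟨a, b, d, hab, had, hbd, rfl⟩ := Finset.card_eq_three.1 hTc
  have hmem : ∀ y ∈ R, c y ≠ y ∧ y ≠ x ∧ c x ≠ y ∧ c y ≠ x := fun y hy => by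
    simp only [hR, hMdef, Finset.mem_sdiff, Finset.mem_filter, Finset.mem_univ, true_and,
      Finset.mem_insert, Finset.mem_singleton, not_or] at hy
    refine ⟨hy.1, hy.2.1, fun h => hy.2.2.1 h.symm, fun h => hy.2.2.2 ?_⟩
    rw [← h, Equiv.Perm.inv_def, Equiv.symm_apply_apply]
  obtain ⟨ha, hax, hxa, haxc⟩ := hmem a (hT (by simp))
  obtain ⟨hb, hbx, hxb, hbxc⟩ := hmem b (hT (by simp))
  obtain ⟨hd, hdx, hxd, hdxc⟩ := hmem d (hT (by simp))
  have hcx : c x ≠ x := (Finset.mem_filter.1 hx).2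
  have mk : ∀ y z : Fin 8, y ≠ x → z ≠ x → y ≠ z → c y ≠ y → c z ≠ z → c x ≠ y → c x ≠ z →
      c y ≠ x → c z ≠ x → c y ≠ z → c z ≠ y →
      ∃ T : Finset (Fin 8), T.card = 3 ∧
        (T.map c.toEmbedding = T ∨ Disjoint (T.map c.toEmbedding) T) := by
    intro y z h1 h2 h3 h4 h5 h6 h7 h8 h9 h10 h11
    refine ⟨{x, y, z}, Finset.card_eq_three.2 ⟨x, y, z, h1.symm, h2.symm, h3, rfl⟩, Or.inr ?_⟩
    rw [Finset.disjoint_left]
    intro w hw
    simp only [Finset.mem_map, Finset.mem_insert, Finset.mem_singleton,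
      Equiv.coe_toEmbedding] at hw ⊢
    obtain ⟨v, hv, rfl⟩ := hw
    rcases hv with rfl | rfl | rfl <;> push Not
    · exact ⟨hcx, h6, h7⟩
    · exact ⟨h8, h4, h10⟩
    · exact ⟨h9, h11, h5⟩
  by_cases eab : c a ≠ b ∧ c b ≠ a
  · exact mk a b hax hbx hab ha hb hxa hxb haxc hbxc eab.1 eab.2
  by_cases ead : c a ≠ d ∧ c d ≠ a
  · exact mk a d hax hdx had ha hd hxa hxd haxc hdxc ead.1 ead.2
  by_cases ebd : c b ≠ d ∧ c d ≠ b
  · exact mk b d hbx hdx hbd hb hd hxb hxd hbxc hdxc ebd.1 ebd.2
  refine ⟨{a, b, d}, Finset.card_eq_three.2 ⟨a, b, d, hab, had, hbd, rfl⟩, Or.inl ?_⟩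
  refine Finset.eq_of_subset_of_card_le (fun w hw => ?_) (by rw [Finset.card_map])
  simp only [Finset.mem_map, Finset.mem_insert, Finset.mem_singleton, Equiv.coe_toEmbedding] at hw ⊢
  obtain ⟨v, hv, rfl⟩ := hw
  have hinj := c.injective
  rcases not_and_or.1 eab with h1 | h1 <;> rcases not_and_or.1 ead with h2 | h2 <;>
    rcases not_and_or.1 ebd with h3 | h3 <;> push Not at h1 h2 h3 <;>
    rcases hv with rfl | rfl | rfl <;> grind

theorem subnormal_of_commute {G : Type*} [Group G] {σ τ : G} (h : Commute σ τ) :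
    ((Subgroup.zpowers σ).subgroupOf (Subgroup.zpowers σ ⊔ Subgroup.zpowers τ)).IsSubnormal := by
  have hle : Subgroup.zpowers σ ⊔ Subgroup.zpowers τ ≤ Subgroup.centralizer {σ} :=
    sup_le (Subgroup.zpowers_le.2 (Subgroup.mem_centralizer_singleton_iff.2 rfl))
      (Subgroup.zpowers_le.2 (Subgroup.mem_centralizer_singleton_iff.2 h.symm.eq))
  refine Subgroup.Normal.isSubnormal ⟨fun n hn k => ?_⟩
  obtain ⟨i, hi⟩ := hn
  refine ⟨i, ?_⟩
  have hk : Commute (k : G) σ := Subgroup.mem_centralizer_singleton_iff.1 (hle k.2)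
  simp only [Subgroup.coe_subtype, Subgroup.coe_mul, InvMemClass.coe_inv] at hi ⊢
  rw [← hi, (hk.zpow_right i).eq, mul_inv_cancel_right]

theorem exists_good (σ : Perm (Fin 8)) (hσ : σ.IsThreeCycle) (c : Perm (Fin 8)) :
    ∃ g : Perm (Fin 8), IsConj c g ∧ ((Subgroup.zpowers σ).subgroupOf
      (Subgroup.zpowers σ ⊔ MulAut.conj g • Subgroup.zpowers σ)).IsSubnormal := by
  classical
  obtain ⟨T, hT, hcT⟩ := exists_three_set c
  obtain ⟨d, hd⟩ : ∃ d : Perm (Fin 8), σ.support.map d.toEmbedding = T := by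
    have e : {x // x ∈ σ.support} ≃ {x // x ∈ T} :=
      Fintype.equivOfCardEq (by rw [Fintype.card_coe, Fintype.card_coe, hσ.card_support, hT])
    refine ⟨e.extendSubtype, ?_⟩
    refine Finset.eq_of_subset_of_card_le (fun w hw => ?_) (by simp [hσ.card_support, hT])
    obtain ⟨v, hv, rfl⟩ := Finset.mem_map.1 hw
    exact e.extendSubtype_mem v hv
  set g := d⁻¹ * c * d with hg
  have hmap : ∀ x, d (g x) = c (d x) := fun x => by simp [hg]
  have hsupp : σ.support.map g.toEmbedding = σ.support ∨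
      _root_.Disjoint (σ.support.map g.toEmbedding) σ.support := by
    rcases hcT with h | h
    · left
      apply Finset.map_injective d.toEmbedding
      rw [hd]
      conv_rhs => rw [← h, ← hd, Finset.map_map]
      rw [Finset.map_map]
      refine Finset.ext fun y => ?_
      simp only [Finset.mem_map, Function.Embedding.trans_apply, Equiv.coe_toEmbedding, hmap]
    · right
      rw [← Finset.disjoint_map d.toEmbedding, hd]
      convert h using 1
      rw [← hd, Finset.map_map, Finset.map_map]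
      refine Finset.ext fun y => ?_
      simp only [Finset.mem_map, Function.Embedding.trans_apply, Equiv.coe_toEmbedding, hmap]
  have hτ : (g * σ * g⁻¹).IsThreeCycle := by
    rw [← card_support_eq_three_iff, card_support_conj, hσ.card_support]
  have hcomm : Commute σ (g * σ * g⁻¹) := by
    rcases hsupp with h | h
    · exact commute_of_support_eq hσ hτ (by rw [support_conj]; exact h)
    · refine (Equiv.Perm.Disjoint.commute ?_)
      rw [disjoint_iff_disjoint_support, support_conj]
      exact h.symm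
  refine ⟨g, isConj_iff.2 ⟨d⁻¹, by rw [hg, inv_inv]⟩, ?_⟩
  have hz : MulAut.conj g • Subgroup.zpowers σ = Subgroup.zpowers (g * σ * g⁻¹) := by
    rw [← MulAut.conj_apply]
    exact MonoidHom.map_zpowers (MulAut.conj g).toMonoidHom σ
  rw [hz]
  exact subnormal_of_commute hcomm

theorem pCore_eq_bot : Cfsg.pCore 3 (Perm (Fin 8)) = ⊥ := by
  haveI : Fact (Nat.Prime 3) := ⟨Nat.prime_three⟩
  haveI : IsSimpleGroup (alternatingGroup (Fin 8)) := alternatingGroup.isSimpleGroup (by simp)
  have hp := Cfsg.Agent.Thompson.isPGroup_pCore (p := 3) (G := Perm (Fin 8))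
  set N := Cfsg.pCore 3 (Perm (Fin 8))
  have hle : N ≤ alternatingGroup (Fin 8) := fun x hx => by
    obtain ⟨k, hk⟩ := hp ⟨x, hx⟩
    have hk' : x ^ 3 ^ k = 1 := congrArg Subtype.val hk
    rw [mem_alternatingGroup]
    rcases Int.units_eq_one_or (sign x) with h | h
    · exact h
    · have := congrArg sign hk'
      rw [map_pow, map_one, h] at this
      rw [(Odd.pow (by decide)).neg_one_pow] at this
      exact absurd this (by decide)
  rcases (inferInstance : (N.subgroupOf (alternatingGroup (Fin 8))).Normal).eq_bot_or_eq_top with h | h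
  · rw [Subgroup.subgroupOf_eq_bot, disjoint_iff, inf_eq_left.2 hle] at h
    exact h
  · have hA : IsPGroup 3 (alternatingGroup (Fin 8)) := hp.to_le (Subgroup.subgroupOf_eq_top.1 h)
    obtain ⟨k, hk⟩ := IsPGroup.iff_card.1 hA
    rw [nat_card_alternatingGroup, Nat.card_fin] at hk
    have h2 : 2 ∣ 3 ^ k := hk ▸ (by decide)
    exact absurd (Nat.prime_two.dvd_of_dvd_pow h2) (by decide)

/-- In the symmetric group of degree 8, let A be the subgroup generated by a 3-cycle. Then every conjugacy class contains an element g for which A is subnormal in the subgroup generated by A and its conjugate by g, although O_3 of the symmetric group of degree 8 is trivial. -/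
theorem result
    (σ : Equiv.Perm (Fin 8)) (hσ : σ.IsThreeCycle) :
    (∀ c : Equiv.Perm (Fin 8), ∃ g : Equiv.Perm (Fin 8), IsConj c g ∧
      ((Subgroup.zpowers σ).subgroupOf (Subgroup.zpowers σ ⊔ MulAut.conj g • Subgroup.zpowers σ)).IsSubnormal) ∧
    Cfsg.pCore 3 (Equiv.Perm (Fin 8)) = ⊥ := by
  exact ⟨fun c => exists_good σ hσ c, pCore_eq_bot⟩

end Cfsg.Agent.S4332
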