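import Cfsg.Statements.S4334
import Cfsg.Agent.Lib.Transfer.Hall
import Cfsg.Agent.Lib.Transfer.Residual

set_option autoImplicit false
set_option linter.style.haveILetI false
open Cfsg

namespace Cfsg.Agent.S4334

open Subgroup

set_option linter.unusedSectionVars false

variable {G : Type*} [Group G] [Finite G]

/-- An element normalising `R` whose order is prime to the index of `C(R)` centralises `R`. -/
theorem mem_centralizer_of_coprime {R : Subgroup G} {y : G}
    (hy : y ∈ normalizer (R : Set G))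
    (hcop : ∀ q : ℕ, q.Prime → q ∣ orderOf y → ¬ q ∣ (centralizer (R : Set G)).index) :
    y ∈ centralizer (R : Set G) := by
  have hle : centralizer (R : Set G) ≤ normalizer (R : Set G) := centralizer_le_normalizer _
  set N := normalizer (R : Set G)
  set C := centralizer (R : Set G)
  haveI hn : (C.subgroupOf N).Normal := by
    refine ⟨fun c hc g => ?_⟩
    rw [mem_subgroupOf] at hc ⊢
    simp only [coe_mul, InvMemClass.coe_inv]
    rw [mem_centralizer_iff] at hc ⊢
    intro r hr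
    have h1 : (g : G)⁻¹ * r * g ∈ R :=
      (mem_normalizer_iff''.1 g.2 r).1 hr
    have h2 := hc _ h1
    calc r * ((g : G) * c * (g : G)⁻¹) = (g : G) * (((g : G)⁻¹ * r * g) * c) * (g : G)⁻¹ := by group
      _ = (g : G) * c * (g : G)⁻¹ * r := by rw [h2]; group
  have h1 : orderOf (QuotientGroup.mk' (C.subgroupOf N) ⟨y, hy⟩) = 1 := by
    by_contra hne
    obtain ⟨q, hq, hqd⟩ := Nat.exists_prime_and_dvd hne
    refine hcop q hq ?_ ?_
    · refine hqd.trans ?_
      rw [← orderOf_mk y hy]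
      exact orderOf_map_dvd _ _
    · refine (hqd.trans (orderOf_dvd_natCard _)).trans ?_
      change C.relIndex N ∣ C.index
      exact ⟨_, (relIndex_mul_index hle).symm⟩
  rw [orderOf_eq_one_iff, QuotientGroup.mk'_apply, QuotientGroup.eq_one_iff, mem_subgroupOf] at h1
  exact h1

/-- If the normal complement is centralised by every Sylow subgroup, then in a `π`-group with
centralizing Sylow pieces, `s`-elements commute with `s'`-elements. -/
theorem comm_of_centralizing {s : ℕ} [hs : Fact s.Prime] (hnc : HasNormalPComplement s G)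
    (h : ∀ (q : ℕ) (R : Subgroup G) (y : G), q.Prime → q ≠ s → IsPGroup q R → q ∣ Nat.card G →
      y ∈ normalizer (R : Set G) → (∃ k, orderOf y = s ^ k) → y ∈ centralizer (R : Set G))
    (S : Sylow s G) :
    ∀ x ∈ (S : Subgroup G), ∀ y ∈ pResidual s G, Commute x y := by
  set N := pResidual s G with hNdef
  haveI hNn : N.Normal := inferInstance
  have hsN : ¬ s ∣ Nat.card N := Transfer.hasNormalPComplement_iff_not_dvd.1 hnc
  suffices N ≤ centralizer ((S : Subgroup G) : Set G) by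
    intro x hx y hy
    exact mem_centralizer_iff.1 (this hy) x hx
  suffices (centralizer ((S : Subgroup G) : Set G) ⊓ N).relIndex N = 1 by
    exact (relIndex_eq_one.1 this).trans inf_le_left
  by_contra hne
  obtain ⟨q, hq, hqd⟩ := Nat.exists_prime_and_dvd hne
  haveI := Fact.mk hq
  obtain ⟨Q⟩ := (inferInstance : Nonempty (Sylow q N))
  have hqN : q ∣ Nat.card N := hqd.trans (relIndex_dvd_card _ _)
  have hqs : q ≠ s := fun h => hsN (h ▸ hqN)
  set R := (Q : Subgroup N).map N.subtype with hR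
  set M := normalizer (R : Set G) with hM
  have hMN : M ⊔ N = ⊤ := Sylow.normalizer_sup_eq_top Q
  have hsM : ¬ s ∣ M.index := by
    intro hd
    apply hsN
    refine hd.trans ?_
    have h1 : M.index = M.relIndex (M ⊔ N) := by rw [hMN, relIndex_top_right]
    rw [h1, sup_comm, ← relIndex_dvd_card_aux M N]
    exact relIndex_dvd_card M N
  obtain ⟨S₀⟩ := (inferInstance : Nonempty (Sylow s M))
  have hidx : ¬ s ∣ ((S₀ : Subgroup M).map M.subtype).index := by
    rw [index_map_subtype]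
    exact Nat.Prime.not_dvd_mul hs.out S₀.not_dvd_index hsM
  set S₁ := (S₀.isPGroup'.map M.subtype).toSylow hidx
  obtain ⟨u, hu⟩ := MulAction.exists_smul_eq G S₁ S
  -- the translate of `R` is centralised by `S`
  set e := MulAut.conj u with he
  have hRle : R.map e.toMonoidHom ≤ centralizer ((S : Subgroup G) : Set G) ⊓ N := by
    rintro _ ⟨r, hr, rfl⟩
    refine ⟨mem_centralizer_iff.2 fun x hx => ?_, hNn.conj_mem r (map_subtype_le _ hr) u⟩
    have hx' : x ∈ u • S₁ := by rw [hu]; exact hx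
    obtain ⟨z, hz, rfl⟩ := hx'
    have hzM : z ∈ M := map_subtype_le _ hz
    have hz2 : ∃ k, orderOf z = s ^ k := by
      obtain ⟨k, hk⟩ := (S₁.isPGroup'.exists_orderOf_eq_pow ⟨z, hz⟩ : _)
      exact ⟨k, by rw [← hk, Subgroup.orderOf_mk]⟩
    have hc := mem_centralizer_iff.1 (h q R z hq hqs (Q.isPGroup'.map _)
      (hqN.trans (card_subgroup_dvd_card N)) hzM hz2) r hr
    change (MulAut.conj u z) * (MulAut.conj u r) = MulAut.conj u r * MulAut.conj u z
    rw [← map_mul, ← map_mul, hc]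
  have hcard : Nat.card (R.map e.toMonoidHom) = Nat.card (Q : Subgroup N) := by
    rw [hR, card_map_of_injective e.injective, card_map_of_injective N.subtype_injective]
  apply Q.not_dvd_index
  refine hqd.trans ?_
  have h2 : Nat.card (Q : Subgroup N) ∣ Nat.card ↥(centralizer ((S : Subgroup G) : Set G) ⊓ N) :=
    hcard ▸ card_dvd_of_le hRle
  obtain ⟨c, hc⟩ := h2
  have h3 := (Q : Subgroup N).card_mul_index
  have h4 := (centralizer ((S : Subgroup G) : Set G) ⊓ N).subgroupOf N |>.card_mul_index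
  rw [Nat.card_congr (subgroupOfEquivOfLe inf_le_right).toEquiv, hc, ← h3, mul_assoc] at h4
  exact ⟨c, (Nat.eq_of_mul_eq_mul_left Nat.card_pos h4).symm.trans (mul_comm _ _)⟩
where
  relIndex_dvd_card_aux (M N : Subgroup G) [N.Normal] : M.relIndex N = M.relIndex (N ⊔ M) := by
    have h1 : M.relIndex N * Nat.card ↥(M ⊓ N) = Nat.card N := by
      rw [← inf_relIndex_right, ← relIndex_bot_left, mul_comm,
        relIndex_mul_relIndex _ _ _ bot_le inf_le_right, relIndex_bot_left]
    have h2 : M.relIndex (N ⊔ M) * Nat.card M = Nat.card ↥(N ⊔ M) := by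
      rw [← relIndex_bot_left, mul_comm, relIndex_mul_relIndex _ _ _ bot_le le_sup_right,
        relIndex_bot_left]
    have h3 : N.relIndex M * Nat.card ↥(M ⊓ N) = Nat.card M := by
      rw [← inf_relIndex_left M N, ← relIndex_bot_left, mul_comm,
        relIndex_mul_relIndex _ _ _ bot_le inf_le_left, relIndex_bot_left]
    have h4 : N.relIndex M * Nat.card N = Nat.card ↥(N ⊔ M) := by
      rw [← relIndex_sup_left (H := M) (K := N), ← relIndex_bot_left, mul_comm,
        relIndex_mul_relIndex _ _ _ bot_le le_sup_left, relIndex_bot_left]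
    apply Nat.eq_of_mul_eq_mul_right (Nat.mul_pos Nat.card_pos Nat.card_pos :
      0 < Nat.card ↥(M ⊓ N) * Nat.card M)
    calc M.relIndex N * (Nat.card ↥(M ⊓ N) * Nat.card M) = Nat.card N * Nat.card M := by
          rw [← mul_assoc, h1]
      _ = Nat.card N * (N.relIndex M * Nat.card ↥(M ⊓ N)) := by rw [h3]
      _ = N.relIndex M * Nat.card N * Nat.card ↥(M ⊓ N) := by ring
      _ = M.relIndex (N ⊔ M) * Nat.card M * Nat.card ↥(M ⊓ N) := by rw [h4, h2]
      _ = _ := by ring

/-- Wielandt's conjugation for commuting families of Sylow pieces. -/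
theorem wielandt (P : ℕ → Subgroup G) (F : Finset ℕ) :
    ∀ (M : Subgroup G) (S : ℕ → Subgroup G), (∀ s ∈ F, s.Prime) →
      (∀ s ∈ F, IsPGroup s (P s) ∧ P s ≤ M ∧ ¬ s ∣ (P s).index) →
      (∀ s ∈ F, ∀ t ∈ F, s ≠ t → ∀ x ∈ P s, ∀ y ∈ P t, x * y = y * x) →
      (∀ s ∈ F, IsPGroup s (S s) ∧ S s ≤ M) →
      (∀ s ∈ F, ∀ t ∈ F, s ≠ t → ∀ x ∈ S s, ∀ y ∈ S t, x * y = y * x) →
      ∃ m ∈ M, ∀ s ∈ F, ∀ x ∈ S s, m * x * m⁻¹ ∈ P s := by
  induction F using Finset.induction with
  | empty => exact fun M _ _ _ _ _ _ => ⟨1, one_mem _, by simp⟩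
  | insert r F hrF ih =>
    intro M S hF hP hPc hS hSc
    have hr := Finset.mem_insert_self r F
    haveI := Fact.mk (hF r hr)
    obtain ⟨hPr, hPrM, hPri⟩ := hP r hr
    obtain ⟨hSr, hSrM⟩ := hS r hr
    -- conjugate `S r` into `P r` inside `M`
    have hidx : ¬ r ∣ ((P r).subgroupOf M).index := by
      intro hd
      exact hPri (hd.trans ⟨_, (relIndex_mul_index hPrM).symm⟩)
    set PM := (hPr.of_equiv (subgroupOfEquivOfLe hPrM).symm).toSylow hidx
    obtain ⟨SM, hSM⟩ := (hSr.of_equiv (subgroupOfEquivOfLe hSrM).symm).exists_le_sylow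
    obtain ⟨m₁, hm₁⟩ := MulAction.exists_smul_eq M SM PM
    have hin : ∀ x ∈ S r, (m₁ : G) * x * (m₁ : G)⁻¹ ∈ P r := by
      intro x hx
      have h1 : MulAut.conj m₁ ⟨x, hSrM hx⟩ ∈ (PM : Subgroup M) := by
        rw [← hm₁]
        exact ⟨⟨x, hSrM hx⟩, hSM (show (⟨x, hSrM hx⟩ : M) ∈ (S r).subgroupOf M from hx), rfl⟩
      exact h1
    set e := MulAut.conj (m₁ : G)
    set T := (S r).map e.toMonoidHom with hT
    have hFm : ∀ s ∈ F, s ∈ insert r F := fun s hs => Finset.mem_insert_of_mem hs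
    have hne : ∀ s ∈ F, s ≠ r := fun s hs h => hrF (h ▸ hs)
    obtain ⟨m₂, hm₂, hm₂S⟩ := ih (M ⊓ centralizer (T : Set G)) (fun s => (S s).map e.toMonoidHom)
      (fun s hs => hF s (hFm s hs))
      (fun s hs => ⟨(hP s (hFm s hs)).1, le_inf (hP s (hFm s hs)).2.1 (fun x hx =>
        mem_centralizer_iff.2 (by
          rintro _ ⟨y, hy, rfl⟩
          exact hPc r hr s (hFm s hs) (hne s hs).symm _ (hin y hy) x hx)), (hP s (hFm s hs)).2.2⟩)
      (fun s hs t ht => hPc s (hFm s hs) t (hFm t ht))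
      (fun s hs => ⟨(hS s (hFm s hs)).1.map _, le_inf
        (by
          rintro _ ⟨x, hx, rfl⟩
          exact mul_mem (mul_mem m₁.2 ((hS s (hFm s hs)).2 hx)) (inv_mem m₁.2))
        (by
          rintro _ ⟨x, hx, rfl⟩
          refine mem_centralizer_iff.2 ?_
          rintro _ ⟨y, hy, rfl⟩
          rw [← map_mul, ← map_mul, hSc r hr s (hFm s hs) (hne s hs).symm y hy x hx])⟩)
      (fun s hs t ht hst => by
        rintro _ ⟨x, hx, rfl⟩ _ ⟨y, hy, rfl⟩
        rw [← map_mul, ← map_mul, hSc s (hFm s hs) t (hFm t ht) hst x hx y hy])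
    refine ⟨m₂ * m₁, mul_mem hm₂.1 m₁.2, fun s hs x hx => ?_⟩
    have hrw : m₂ * (m₁ : G) * x * (m₂ * (m₁ : G))⁻¹ = m₂ * ((m₁ : G) * x * (m₁ : G)⁻¹) * m₂⁻¹ := by
      group
    rw [hrw]
    rcases Finset.mem_insert.1 hs with rfl | hsF
    · have h2 : (m₁ : G) * x * (m₁ : G)⁻¹ ∈ T := ⟨x, hx, rfl⟩
      have h3 := mem_centralizer_iff.1 hm₂.2 _ h2
      rw [← h3, mul_inv_cancel_right]
      exact hin x hx
    · exact hm₂S s hsF _ ⟨x, hx, rfl⟩

/-- Let σ and τ be disjoint sets of primes with union π. Suppose a finite group G has a Hall π-subgroup H which is the direct product of a nilpotent σ-subgroup and a τ-subgroup (two elementwise-commuting subgroups generating H), and that the maximal τ-subgroups of G are pairwise conjugate. Then the maximal π-subgroups of G are pairwise conjugate. -/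
theorem result {G : Type*} [Group G] [Finite G]
    (σ τ π : Set ℕ) (hπ : π = σ ∪ τ) (hd : Disjoint σ τ) (H Hs Ht : Subgroup G) (hH : Cfsg.IsPiHall π H)
    (hs : Cfsg.IsPiSubgroup σ Hs) (ht : Cfsg.IsPiSubgroup τ Ht) (hsn : Group.IsNilpotent Hs)
    (hjoin : Hs ⊔ Ht = H) (hcomm : ∀ a ∈ Hs, ∀ b ∈ Ht, a * b = b * a) (hD : Cfsg.IsDPiGroup τ G) :
    Cfsg.IsDPiGroup π G := by
  classical
  have hdis : ∀ {q : ℕ}, q ∈ σ → q ∉ τ := fun h1 h2 => Set.disjoint_left.1 hd h1 h2
  -- `|H|` divides `|Hs| |Ht|`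
  have hcardH : Nat.card H ∣ Nat.card Hs * Nat.card Ht := by
    rw [← Nat.card_prod]
    let φ := MonoidHom.noncommCoprod Hs.subtype Ht.subtype (fun a b => hcomm a a.2 b b.2)
    have hr : φ.range = H := by
      refine le_antisymm ?_ ?_
      · rintro _ ⟨⟨a, b⟩, rfl⟩
        rw [← hjoin]
        exact mul_mem (le_sup_left (b := Ht) a.2) (le_sup_right (a := Hs) b.2)
      · rw [← hjoin, sup_le_iff]
        exact ⟨fun x hx => ⟨(⟨x, hx⟩, 1), by change x * 1 = x; exact mul_one x⟩,
          fun x hx => ⟨(1, ⟨x, hx⟩), by change 1 * x = x; exact one_mul x⟩⟩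
    rw [← hr]
    exact card_range_dvd φ
  have hsH : Hs ≤ H := hjoin ▸ le_sup_left
  have htH : Ht ≤ H := hjoin ▸ le_sup_right
  have hallOf : ∀ (L L' : Subgroup G), L ≤ H → Nat.card H ∣ Nat.card L * Nat.card L' →
      ∀ q : ℕ, q.Prime → q ∈ π → ¬ q ∣ Nat.card L' → ¬ q ∣ L.index := by
    intro L L' hLH hdvd q hq hqπ hqL' hqd
    rw [← relIndex_mul_index hLH] at hqd
    rcases hq.dvd_mul.1 hqd with h1 | h1
    · have h2 : Nat.card L * L.relIndex H = Nat.card H := by
        rw [← relIndex_bot_left, relIndex_mul_relIndex _ _ _ bot_le hLH, relIndex_bot_left]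
      exact hqL' (h1.trans (Nat.dvd_of_mul_dvd_mul_left Nat.card_pos (h2 ▸ hdvd)))
    · exact hH.2 q hq hqπ h1
  have hσi : ∀ q : ℕ, q.Prime → q ∈ σ → ¬ q ∣ Hs.index := fun q hq hqσ =>
    hallOf Hs Ht hsH hcardH q hq (hπ ▸ Or.inl hqσ) (fun h => hdis hqσ (ht q hq h))
  have hτi : ∀ q : ℕ, q.Prime → q ∈ τ → ¬ q ∣ Ht.index := fun q hq hqτ =>
    hallOf Ht Hs htH (by rw [mul_comm]; exact hcardH) q hq (hπ ▸ Or.inr hqτ)
      (fun h => hdis (hs q hq h) hqτ)
  -- compatible Sylow subgroups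
  have hPex : ∀ q : ℕ, ∃ P : Subgroup G, q.Prime → q ∈ π → IsPGroup q P ∧ ¬ q ∣ P.index ∧
      ((q ∈ σ ∧ P ≤ Hs) ∨ (q ∈ τ ∧ P ≤ Ht)) := by
    intro q
    by_cases hq : q.Prime ∧ q ∈ π
    swap
    · exact ⟨⊥, fun h1 h2 => absurd ⟨h1, h2⟩ hq⟩
    haveI := Fact.mk hq.1
    have hmk : ∀ L : Subgroup G, ¬ q ∣ L.index →
        ∃ P : Subgroup G, IsPGroup q P ∧ ¬ q ∣ P.index ∧ P ≤ L := by
      intro L hL
      obtain ⟨Q⟩ := (inferInstance : Nonempty (Sylow q L))
      refine ⟨(Q : Subgroup L).map L.subtype, Q.isPGroup'.map _, ?_, map_subtype_le _⟩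
      rw [index_map_subtype]
      exact Nat.Prime.not_dvd_mul hq.1 Q.not_dvd_index hL
    rcases (hπ ▸ hq.2 : q ∈ σ ∪ τ) with h1 | h1
    · obtain ⟨P, h2, h3, h4⟩ := hmk Hs (hσi q hq.1 h1)
      exact ⟨P, fun _ _ => ⟨h2, h3, Or.inl ⟨h1, h4⟩⟩⟩
    · obtain ⟨P, h2, h3, h4⟩ := hmk Ht (hτi q hq.1 h1)
      exact ⟨P, fun _ _ => ⟨h2, h3, Or.inr ⟨h1, h4⟩⟩⟩
  choose P hP using hPex
  have hPH : ∀ q, q.Prime → q ∈ π → P q ≤ H := fun q hq hqπ => by
    rcases (hP q hq hqπ).2.2 with ⟨-, h⟩ | ⟨-, h⟩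
    · exact h.trans hsH
    · exact h.trans htH
  have hPcomm : ∀ a q : ℕ, a.Prime → q.Prime → a ∈ σ → q ∈ π → a ≠ q →
      ∀ x ∈ P a, ∀ y ∈ P q, x * y = y * x := by
    intro a q ha hq haσ hqπ haq x hx y hy
    haveI := Fact.mk ha
    haveI := Fact.mk hq
    obtain ⟨hPa, -, hla⟩ := hP a ha (hπ ▸ Or.inl haσ)
    obtain ⟨hPq, -, hlq⟩ := hP q hq hqπ
    have hxs : x ∈ Hs := by
      rcases hla with ⟨-, h⟩ | ⟨h, -⟩
      · exact h hx
      · exact absurd h (hdis haσ)
    rcases hlq with ⟨-, h⟩ | ⟨-, h⟩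
    · obtain ⟨i, hi⟩ := hPa.exists_orderOf_eq_pow ⟨x, hx⟩
      obtain ⟨j, hj⟩ := hPq.exists_orderOf_eq_pow ⟨y, hy⟩
      have hcop : Nat.Coprime (orderOf (⟨x, hxs⟩ : Hs)) (orderOf (⟨y, h hy⟩ : Hs)) := by
        rw [Subgroup.orderOf_mk] at hi hj ⊢
        rw [Subgroup.orderOf_mk, hi, hj]
        exact Nat.Coprime.pow _ _ ((Nat.coprime_primes ha hq).2 haq)
      exact congrArg Subtype.val (Transfer.nilpotent_commute_of_coprime hsn hcop).eq
    · exact hcomm x hxs y (h hy)
  -- centralisers of primary subgroups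
  have hcent : ∀ (a q : ℕ) (R : Subgroup G), a.Prime → q.Prime → a ∈ π → q ∈ π → a ≠ q →
      (a ∈ σ ∨ q ∈ σ) → IsPGroup a R → ¬ q ∣ (centralizer (R : Set G)).index := by
    intro a q R ha hq haπ hqπ haq hor hR hdiv
    haveI := Fact.mk ha
    obtain ⟨Q, hQ⟩ := hR.exists_le_sylow
    set PS := (hP a ha haπ).1.toSylow (hP a ha haπ).2.1
    obtain ⟨g, hg⟩ := MulAction.exists_smul_eq G PS Q
    apply (hP q hq hqπ).2.1
    have hle : (P q).map (MulAut.conj g).toMonoidHom ≤ centralizer (R : Set G) := by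
      rintro _ ⟨y, hy, rfl⟩
      refine mem_centralizer_iff.2 fun r hr => ?_
      have hr' : r ∈ g • PS := by rw [hg]; exact hQ hr
      obtain ⟨x, hx, rfl⟩ := hr'
      change MulAut.conj g x * MulAut.conj g y = MulAut.conj g y * MulAut.conj g x
      rw [← map_mul, ← map_mul]
      congr 1
      rcases hor with h | h
      · exact hPcomm a q ha hq h hqπ haq x hx y hy
      · exact (hPcomm q a hq ha h haπ haq.symm y hy x hx).symm
    have h1 := hdiv.trans (index_dvd_of_le hle)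
    exact h1.trans (dvd_of_eq (index_map_equiv (P q) (MulAut.conj g)))
  -- every `π`-subgroup is conjugate into `H`
  have key : ∀ U : Subgroup G, IsPiSubgroup π U → ∃ g : G, ∀ x ∈ U, g * x * g⁻¹ ∈ H := by
    intro U hU
    set F := (Nat.card U).primeFactors.filter (· ∈ σ) with hF
    have hFp : ∀ s ∈ F, s.Prime ∧ s ∈ σ := fun s hs => by
      rw [hF, Finset.mem_filter] at hs
      exact ⟨Nat.prime_of_mem_primeFactors hs.1, hs.2⟩
    have hmapn : ∀ (R : Subgroup U) (y : U), y ∈ normalizer (R : Set U) →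
        (y : G) ∈ normalizer ((R.map U.subtype : Subgroup G) : Set G) := by
      intro R y hy
      exact le_normalizer_map U.subtype ⟨y, hy, rfl⟩
    have hcoe : ∀ (R : Subgroup U) (y : U),
        (y : G) ∈ centralizer ((R.map U.subtype : Subgroup G) : Set G) →
        y ∈ centralizer (R : Set U) := by
      intro R y hy
      exact mem_centralizer_iff.2 fun r hr =>
        Subtype.ext (mem_centralizer_iff.1 hy r ⟨r, hr, rfl⟩)
    have hnc : ∀ s ∈ F, HasNormalPComplement s U := by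
      intro s hs
      obtain ⟨hsp, hsσ⟩ := hFp s hs
      haveI := Fact.mk hsp
      refine Transfer.hasNormalPComplement_of_normalizer_centralizer default
        fun R hR _ y hy hcop => hcoe R y (mem_centralizer_of_coprime (hmapn R y hy) ?_)
      intro q hq hqd
      rw [Subgroup.orderOf_coe] at hqd
      have hqs : q ≠ s := fun h => hq.ne_one (Nat.eq_one_of_dvd_coprimes hcop hqd (h ▸ dvd_rfl))
      exact hcent s q _ hsp hq (hπ ▸ Or.inl hsσ) (hU q hq (hqd.trans (orderOf_dvd_natCard _)))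
        hqs.symm (Or.inl hsσ) (((default : Sylow s U).isPGroup'.to_le hR).map _)
    have hcz : ∀ s ∈ F, ∀ S : Sylow s U, ∀ x ∈ (S : Subgroup U), ∀ y ∈ pResidual s U,
        Commute x y := by
      intro s hs
      obtain ⟨hsp, hsσ⟩ := hFp s hs
      haveI := Fact.mk hsp
      refine comm_of_centralizing (hnc s hs) fun q R y hq hqs hR hqU hy ⟨k, hk⟩ =>
        hcoe R y (mem_centralizer_of_coprime (hmapn R y hy) fun r hr hrd => ?_)
      rw [Subgroup.orderOf_coe, hk] at hrd
      have hrs : r = s := (Nat.prime_dvd_prime_iff_eq hr hsp).1 (hr.dvd_of_dvd_pow hrd)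
      subst hrs
      exact hcent q r _ hq hr (hU q hq hqU) (hπ ▸ Or.inl hsσ) hqs (Or.inr hsσ) (hR.map _)
    -- the `τ`-part
    set K : Subgroup U := ⨅ s ∈ F, pResidual s U with hK
    have hKτ : IsPiSubgroup τ (K.map U.subtype) := by
      intro q hq hqd
      rw [card_map_of_injective U.subtype_injective] at hqd
      have hqU : q ∣ Nat.card U := hqd.trans (card_subgroup_dvd_card K)
      rcases (hπ ▸ hU q hq hqU : q ∈ σ ∪ τ) with h | h
      · exfalso
        have hqF : q ∈ F := by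
          rw [hF, Finset.mem_filter, Nat.mem_primeFactors]
          exact ⟨⟨hq, hqU, Nat.card_pos.ne'⟩, h⟩
        haveI := Fact.mk hq
        exact Transfer.hasNormalPComplement_iff_not_dvd.1 (hnc q hqF)
          (hqd.trans (card_dvd_of_le (iInf₂_le q hqF)))
      · exact h
    -- conjugate the `τ`-part into `Ht`
    have hext : ∀ A : Subgroup G, IsPiSubgroup τ A →
        ∃ B, A ≤ B ∧ Maximal (IsPiSubgroup τ) B := by
      intro A hA
      haveI : Finite (Subgroup G) := inferInstance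
      obtain ⟨B, hB1, hB2⟩ := Finite.exists_le_maximal (p := fun B => IsPiSubgroup τ B) hA
      exact ⟨B, hB1, hB2⟩
    obtain ⟨B, hB1, hB2⟩ := hext _ hKτ
    obtain ⟨T, hT1, hT2⟩ := hext Ht ht
    have hTH : T = Ht := by
      refine (le_antisymm hT1 ?_).symm
      rw [← relIndex_eq_one]
      by_contra hne
      obtain ⟨q, hq, hqd⟩ := Nat.exists_prime_and_dvd hne
      exact hτi q hq (hT2.1 q hq (hqd.trans (relIndex_dvd_card _ _)))
        (hqd.trans ⟨_, (relIndex_mul_index hT1).symm⟩)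
    obtain ⟨g₀, hg₀⟩ := hD B T hB2 hT2
    set e := MulAut.conj g₀ with he
    have hKt : ∀ x ∈ K, e (x : G) ∈ Ht := by
      intro x hx
      rw [← hTH, hg₀]
      exact ⟨x, hB1 ⟨x, hx, rfl⟩, rfl⟩
    -- the `σ`-parts
    let S : ℕ → Subgroup G := fun s =>
      (((Classical.arbitrary (Sylow s U) : Sylow s U) : Subgroup U).map U.subtype).map e.toMonoidHom
    have hSmem : ∀ s ∈ F, ∀ z : U, (∃ k, orderOf z = s ^ k) →
        z ∈ ((Classical.arbitrary (Sylow s U) : Sylow s U) : Subgroup U) := by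
      intro s hs z ⟨k, hk⟩
      obtain ⟨hsp, -⟩ := hFp s hs
      haveI := Fact.mk hsp
      set S₀ : Sylow s U := Classical.arbitrary _
      have hnorm : (S₀ : Subgroup U).Normal := by
        rw [← normalizer_eq_top_iff, eq_top_iff, ← Transfer.sylow_sup_pResidual_eq_top S₀,
          sup_le_iff]
        refine ⟨le_normalizer, le_trans (fun y hy => ?_) (centralizer_le_normalizer _)⟩
        exact mem_centralizer_iff.2 fun x hx => hcz s hs S₀ x hx y hy
      obtain ⟨R, hR⟩ := (IsPGroup.of_card (n := k) (by rw [Nat.card_zpowers, hk]) :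
        IsPGroup s (Subgroup.zpowers z)).exists_le_sylow
      have := S₀.unique_of_normal hnorm
      rw [Subsingleton.elim S₀ R]
      exact hR (mem_zpowers z)
    have hres : ∀ s ∈ F, ∀ t ∈ F, s ≠ t →
        ((Classical.arbitrary (Sylow t U) : Sylow t U) : Subgroup U) ≤ pResidual s U := by
      intro s hs t ht hst x hx
      haveI := Fact.mk (hFp t ht).1
      obtain ⟨k, hk⟩ := (Classical.arbitrary (Sylow t U) : Sylow t U).isPGroup'.exists_orderOf_eq_pow
        ⟨x, hx⟩
      rw [Subgroup.orderOf_mk] at hk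
      apply Transfer.mem_pResidual_of_coprime
      rw [hk]
      exact ((Nat.coprime_primes (hFp t ht).1 (hFp s hs).1).2 hst.symm).pow_left _
    obtain ⟨m, hm, hmS⟩ := wielandt P F (centralizer ((fun x : U => e (x : G)) '' (K : Set U))) S
      (fun s hs => (hFp s hs).1)
      (fun s hs => by
        obtain ⟨hsp, hsσ⟩ := hFp s hs
        obtain ⟨h1, h2, h3⟩ := hP s hsp (hπ ▸ Or.inl hsσ)
        refine ⟨h1, fun x hx => mem_centralizer_iff.2 ?_, h2⟩
        rintro _ ⟨y, hy, rfl⟩
        rcases h3 with ⟨-, h⟩ | ⟨h, -⟩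
        · exact (hcomm x (h hx) _ (hKt y hy)).symm
        · exact absurd h (hdis hsσ))
      (fun s hs t ht hst => hPcomm s t (hFp s hs).1 (hFp t ht).1 (hFp s hs).2
        (hπ ▸ Or.inl (hFp t ht).2) hst)
      (fun s hs => by
        haveI := Fact.mk (hFp s hs).1
        refine ⟨((Classical.arbitrary (Sylow s U) : Sylow s U).isPGroup'.map _).map _,
          fun x hx => mem_centralizer_iff.2 ?_⟩
        obtain ⟨_, ⟨z, hz, rfl⟩, rfl⟩ := hx
        rintro _ ⟨y, hy, rfl⟩
        have h1 : Commute z y := hcz s hs _ z hz y ((iInf₂_le (f := fun s (_ : s ∈ F) => pResidual s U) s hs) hy)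
        change e (y : G) * e (z : G) = e (z : G) * e (y : G)
        rw [← map_mul, ← map_mul, ← Subgroup.coe_mul, ← h1.eq, Subgroup.coe_mul])
      (fun s hs t ht hst => by
        rintro _ ⟨_, ⟨a, ha, rfl⟩, rfl⟩ _ ⟨_, ⟨b, hb, rfl⟩, rfl⟩
        have h1 : Commute a b := hcz s hs _ a ha b (hres s hs t ht hst hb)
        change e (a : G) * e (b : G) = e (b : G) * e (a : G)
        rw [← map_mul, ← map_mul, ← Subgroup.coe_mul, h1.eq, Subgroup.coe_mul])
    refine ⟨m * g₀, fun x hx => ?_⟩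
    have hle : (⊤ : Subgroup U) ≤ H.comap (((MulAut.conj (m * g₀)).toMonoidHom).comp U.subtype) := by
      rw [top_le_iff]
      refine Transfer.eq_top_of_prime_pow_orderOf_mem fun q hq z ⟨k, hk⟩ => ?_
      change MulAut.conj (m * g₀) (z : G) ∈ H
      rw [map_mul, MulAut.mul_apply]
      by_cases hz1 : z = 1
      · simp [hz1]
      have hk0 : k ≠ 0 := by rintro rfl; exact hz1 (orderOf_eq_one_iff.1 (by rw [hk, pow_zero]))
      have hqU : q ∣ Nat.card U := ((dvd_pow_self q hk0).trans (dvd_of_eq hk.symm)).trans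
        (orderOf_dvd_natCard z)
      by_cases hqF : q ∈ F
      · refine hPH q hq (hU q hq hqU) (hmS q hqF _ ?_)
        exact ⟨_, ⟨z, hSmem q hqF z ⟨k, hk⟩, rfl⟩, rfl⟩
      · have hzK : z ∈ K := by
          rw [hK, mem_iInf]
          intro s
          rw [mem_iInf]
          intro hs
          apply Transfer.mem_pResidual_of_coprime
          rw [hk]
          exact ((Nat.coprime_primes hq (hFp s hs).1).2 (fun h => hqF (h ▸ hs))).pow_left _
        have h1 := mem_centralizer_iff.1 hm _ ⟨z, hzK, rfl⟩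
        rw [MulAut.conj_apply, ← h1, mul_inv_cancel_right]
        exact htH (hKt z hzK)
    exact hle (mem_top (⟨x, hx⟩ : U))
  -- maximal ones are conjugates of `H`
  have hmaxH : ∀ U, Maximal (IsPiSubgroup π) U → ∃ g : G, U.map (MulAut.conj g).toMonoidHom = H := by
    intro U hU
    obtain ⟨g, hg⟩ := key U hU.1
    refine ⟨g, le_antisymm ?_ ?_⟩
    · rintro _ ⟨x, hx, rfl⟩
      exact hg x hx
    · have hle : U ≤ H.map (MulAut.conj g⁻¹).toMonoidHom := fun x hx =>
        ⟨_, hg x hx, by simp [mul_assoc]⟩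
      have hpi : IsPiSubgroup π (H.map (MulAut.conj g⁻¹).toMonoidHom) := fun q hq hqd => hH.1 q hq
        (by rwa [card_map_of_injective (MulAut.conj g⁻¹).injective] at hqd)
      intro y hy
      exact ⟨_, hU.2 hpi hle ⟨y, hy, rfl⟩, by simp [mul_assoc]⟩
  intro U V hU hV
  obtain ⟨g, hg⟩ := hmaxH U hU
  obtain ⟨k, hk⟩ := hmaxH V hV
  refine ⟨k⁻¹ * g, ?_⟩
  apply map_injective (f := (MulAut.conj k).toMonoidHom) (MulAut.conj k).injective
  change V.map (MulAut.conj k).toMonoidHom = _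
  rw [hk, ← hg, Subgroup.map_map]
  congr 1
  ext x
  simp [mul_assoc]

end Cfsg.Agent.S4334
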