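import Cfsg.Statements.S4337
import Cfsg.Agent.SylowNum.Swaps

set_option autoImplicit false
open Cfsg

namespace Cfsg.Agent.S4337

/-- In a finite symmetric group, any three transpositions generate a solvable subgroup. -/
theorem result (n : ℕ) (a b c : Equiv.Perm (Fin n))
    (ha : a.IsSwap) (hb : b.IsSwap) (hc : c.IsSwap) :
    Group.IsSolvable (Subgroup.closure ({a, b, c} : Set (Equiv.Perm (Fin n)))) := by
  classical
  have horb : ∀ z : Fin n,
      Nat.card (MulAction.orbit (Subgroup.closure ({a, b, c} : Set (Equiv.Perm (Fin n)))) z) ≤ 4 := by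
    intro z
    have h := Cfsg.Agent.SylowNum.orbit_closure_swaps_card_le ({a, b, c} : Finset (Equiv.Perm (Fin n)))
      (by simp [ha, hb, hc]) z
    have hc3 : ({a, b, c} : Finset (Equiv.Perm (Fin n))).card ≤ 3 := Finset.card_le_three
    rw [Finset.coe_insert, Finset.coe_insert, Finset.coe_singleton] at h
    omega
  exact Cfsg.Agent.SylowNum.isSolvable_of_orbits_le_four horb

end Cfsg.Agent.S4337
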