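import Cfsg.Statements.S4700
import Cfsg.Agent.Lib.SmallGroups.Few.Brauer
import Cfsg.Agent.Lib.Thompson.Cores
import Cfsg.Agent.Lib.LinearGroup.PSLTools

set_option autoImplicit false
open Cfsg

namespace Cfsg.Agent.S4700

theorem quotient_perfect {G : Type*} [Group G] (hperf : commutator G = ⊤) (N : Subgroup G)
    [N.Normal] : commutator (G ⧸ N) = ⊤ := by
  rw [commutator_def, ← Subgroup.map_top_of_surjective _ (QuotientGroup.mk'_surjective N),
    ← Subgroup.map_commutator, ← commutator_def, hperf]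

/-- The quotient by `O_{p'}` has no normal `p'`-subgroup. -/
theorem quotient_core {G : Type*} [Group G] [Finite G] (p : ℕ) [Fact p.Prime]
    (N : Subgroup (G ⧸ Cfsg.pPrimeCore p G)) (hN : N.Normal) (hp : ¬ p ∣ Nat.card N) : N = ⊥ := by
  set H := Cfsg.pPrimeCore p G
  set M := N.comap (QuotientGroup.mk' H) with hM
  have hcard : Nat.card M = Nat.card H * Nat.card N := by
    rw [hM, Thompson.card_comap_quotient H N, mul_comm]
  have hle : M ≤ H := by
    refine Thompson.le_pPrimeCore (hN.comap _) ?_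
    rw [hcard]
    exact Nat.Coprime.mul_left Thompson.card_pPrimeCore_coprime
      (((Fact.out : p.Prime).coprime_iff_not_dvd.mpr hp).symm)
  rw [eq_bot_iff]
  intro x hx
  obtain ⟨g, rfl⟩ := QuotientGroup.mk'_surjective H x
  exact Subgroup.mem_bot.mpr ((QuotientGroup.eq_one_iff g).mpr (hle hx))



/-- Let G be a finite perfect group and p a prime such that a Sylow p-subgroup of G has order p, and write the number of Sylow p-subgroups as 1 + np. Let H = O_p'(G). Then either p > 3 and G/H is isomorphic to PSL(2, p); or p = 2^m + 1 > 3 and G/H is isomorphic to SL(2, 2^m); or n = (hup + u^2 + u + h)/(u + 1) for some positive integers h and u. -/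
theorem result {G : Type*} [Group G] [Finite G] (hperf : commutator G = ⊤) (p : ℕ) [Fact p.Prime] (P : Sylow p G) (hP : Nat.card P = p) (n : ℕ) (hn : Nat.card (Sylow p G) = 1 + n * p) : (∃ (F : Type) (_ : Field F) (_ : Fintype F), Fintype.card F = p ∧ 3 < p ∧ Nonempty (G ⧸ Cfsg.pPrimeCore p G ≃* Matrix.ProjectiveSpecialLinearGroup (Fin 2) F)) ∨ (∃ (m : ℕ) (F : Type) (_ : Field F) (_ : Fintype F), Fintype.card F = 2 ^ m ∧ p = 2 ^ m + 1 ∧ 3 < p ∧ Nonempty (G ⧸ Cfsg.pPrimeCore p G ≃* Matrix.SpecialLinearGroup (Fin 2) F)) ∨ (∃ h u : ℕ, 0 < h ∧ 0 < u ∧ n * (u + 1) = h * u * p + u ^ 2 + u + h) := by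
  classical
  set H := Cfsg.pPrimeCore p G with hH
  haveI := Fintype.ofFinite (G ⧸ H)
  have hp : p.Prime := Fact.out
  by_cases hnf : SmallGroups.Few.NF p n
  · have hqperf := quotient_perfect hperf H
    let P' : Sylow p (G ⧸ H) := P.mapSurjective (QuotientGroup.mk'_surjective H)
    -- the number of Sylow subgroups of the quotient divides `n p + 1`
    have hdvd : Nat.card (Sylow p (G ⧸ H)) ∣ Nat.card (Sylow p G) := by
      rw [P.card_eq_index_normalizer, P'.card_eq_index_normalizer,
        ← Subgroup.index_comap_of_surjective _ (QuotientGroup.mk'_surjective H)]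
      refine Subgroup.index_dvd_of_le ?_
      intro g hg
      rw [Subgroup.mem_comap]
      show _ ∈ Subgroup.normalizer ((((P.mapSurjective (QuotientGroup.mk'_surjective H)) :
        Sylow p (G ⧸ H)) : Subgroup (G ⧸ H)) : Set (G ⧸ H))
      rw [Sylow.coe_mapSurjective]
      exact Subgroup.le_normalizer_map (QuotientGroup.mk' H) (Subgroup.mem_map_of_mem _ hg)
    have hP' : Nat.card P' = p := by
      have h1 : Nat.card (P' : Subgroup (G ⧸ H)) ∣ p := by
        rw [show ((P' : Sylow p (G ⧸ H)) : Subgroup (G ⧸ H)) =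
          (P : Subgroup G).map (QuotientGroup.mk' H) from Sylow.coe_mapSurjective _ _]
        exact (Subgroup.card_map_dvd _ _).trans (dvd_of_eq hP)
      rcases (Nat.dvd_prime hp).mp h1 with h | h
      · exfalso
        have h2 := P'.not_dvd_index
        have h3 := Subgroup.card_mul_index (P' : Subgroup (G ⧸ H))
        rw [h, one_mul] at h3
        rw [h3] at h2
        have h4 := Subgroup.card_eq_card_quotient_mul_card_subgroup H
        have h5 : p ∣ Nat.card G := hP ▸ Subgroup.card_subgroup_dvd_card _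
        rw [h4] at h5
        exact ((hp.dvd_mul.mp h5).resolve_left h2) |> Thompson.not_dvd_card_pPrimeCore
      · exact h
    obtain ⟨n', hn'⟩ : ∃ n', Nat.card (Sylow p (G ⧸ H)) = n' * p + 1 := by
      have h1 : Nat.card (Sylow p (G ⧸ H)) % p = 1 := by
        have := card_sylow_modEq_one p (G ⧸ H)
        rwa [Nat.ModEq, Nat.one_mod_eq_one.mpr hp.ne_one] at this
      exact ⟨Nat.card (Sylow p (G ⧸ H)) / p,
        by conv_lhs => rw [← Nat.div_add_mod' (Nat.card (Sylow p (G ⧸ H))) p, h1]⟩
    have hnn : n' = n := by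
      obtain ⟨c, hc⟩ := hdvd
      rw [hn, hn'] at hc
      have h1 : c % p = 1 := by
        have h2 : (1 + n * p) % p = 1 := by
          rw [Nat.add_mul_mod_self_right, Nat.mod_eq_of_lt hp.one_lt]
        rw [hc, Nat.mul_mod, Nat.mul_add_mod', Nat.mod_eq_of_lt hp.one_lt, one_mul,
          Nat.mod_mod] at h2
        exact h2
      obtain ⟨k, hk⟩ : ∃ k, c = k * p + 1 :=
        ⟨c / p, by conv_lhs => rw [← Nat.div_add_mod' c p, h1]⟩
      subst hk
      have h3 : n = n' + k + n' * k * p := by
        apply Nat.eq_of_mul_eq_mul_right hp.pos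
        linarith
      rcases Nat.eq_zero_or_pos k with rfl | hk
      · simpa using h3.symm
      rcases Nat.eq_zero_or_pos n' with rfl | hn0
      · exfalso
        -- the Sylow subgroup of the quotient is not normal
        obtain ⟨y, hy⟩ := exists_prime_orderOf_dvd_card' (G := (P' : Subgroup (G ⧸ H))) p
          (dvd_of_eq hP'.symm)
        have hyG := (Subgroup.orderOf_coe y).trans hy
        have hzP : Subgroup.zpowers (y : G ⧸ H) = (P' : Subgroup (G ⧸ H)) :=
          Subgroup.eq_of_le_of_card_ge (Subgroup.zpowers_le.mpr y.2)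
            (by rw [Nat.card_zpowers, hyG]; exact hP'.le)
        have hidx : ¬ p ∣ (Subgroup.zpowers (y : G ⧸ H)).index := by rw [hzP]; exact P'.not_dvd_index
        obtain ⟨s, hs⟩ := BlocksCore.CyclicCount.exists_setup hyG hidx
        rw [← hs] at hidx hzP
        have h4 := SmallGroups.card_normalizer_mul P'
        rw [← hzP, s.card_normalizer, hn'] at h4
        exact absurd (SmallGroups.Few.one_le_of_perfect hqperf s hidx h4.symm) (by omega)
      exact absurd (show n * (n' + 1) = (n' + 1) * k * n' * p + n' ^ 2 + n' + (n' + 1) * k by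
        rw [h3]; ring) (hnf _ _ (Nat.mul_pos (by omega) hk) hn0)
    subst hnn
    obtain ⟨hp3, h⟩ := SmallGroups.Few.brauer hqperf (quotient_core p) P' hP' hn' hnf
    rcases h with ⟨F, i1, i2, hF, hiso⟩ | ⟨m, F, i1, i2, hF, hpm, ⟨φ⟩⟩
    · exact Or.inl ⟨F, i1, i2, hF, hp3, hiso⟩
    · refine Or.inr (Or.inl ⟨m, F, i1, i2, hF, hpm, hp3, ⟨φ.trans
        (LinearGroup.slEquivPSL ?_).symm⟩⟩)
      rw [Fintype.card_fin, Nat.card_eq_fintype_card, hF]
      have hm : m ≠ 0 := fun h => by rw [h, pow_zero] at hpm; omega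
      have h1 : Nat.Coprime 2 (2 ^ m - 1) := by
        rw [Nat.coprime_two_left]
        exact Nat.Even.sub_odd Nat.one_le_two_pow ((even_two).pow_of_ne_zero hm) odd_one
      exact h1
  · simp only [SmallGroups.Few.NF, ne_eq, not_forall, not_not] at hnf
    obtain ⟨h, u, hh, hu, he⟩ := hnf
    exact Or.inr (Or.inr ⟨h, u, hh, hu, he⟩)

end Cfsg.Agent.S4700
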