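import Cfsg.Statements.S4342
-- no helper imports

set_option autoImplicit false
open Cfsg

namespace Cfsg.Agent.S4342

theorem pGroup_le {G : Type*} [Group G] {p : ℕ} [hp : Fact p.Prime] (H : Subgroup G) [H.Normal]
    (hH : ¬ p ∣ H.index) {Q : Subgroup G} (hQ : IsPGroup p Q) : Q ≤ H := by
  intro x hx
  obtain ⟨k, hk⟩ := hQ ⟨x, hx⟩
  have hk' : x ^ p ^ k = 1 := by simpa using congrArg Subtype.val hk
  have h2 : (x : G ⧸ H) ^ p ^ k = 1 := by
    rw [← QuotientGroup.mk_pow, hk', QuotientGroup.mk_one]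
  have h1 : orderOf (x : G ⧸ H) ∣ H.index := orderOf_dvd_natCard (x : G ⧸ H)
  obtain ⟨j, hj, hj'⟩ := (Nat.dvd_prime_pow hp.out).mp (orderOf_dvd_of_pow_eq_one h2)
  by_contra hxH
  rcases Nat.eq_zero_or_pos j with h0 | h0
  · rw [h0, pow_zero, orderOf_eq_one_iff, QuotientGroup.eq_one_iff] at hj'
    exact hxH hj'
  · exact hH ((hj' ▸ dvd_pow_self p h0.ne').trans h1)

theorem sylow_center_card {G : Type*} [Group G] [Finite G] (p : ℕ) [Fact p.Prime] (H : Subgroup G) :
    Nat.card (Sylow p (H ⧸ Subgroup.center H)) = Nat.card (Sylow p H) := by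
  have hs := QuotientGroup.mk'_surjective (Subgroup.center H)
  refine (Nat.card_eq_of_bijective (Sylow.mapSurjective hs) ⟨?_, ?_⟩).symm
  · intro Q R h
    have h' := congrArg Sylow.toSubgroup h
    rw [Sylow.coe_mapSurjective, Sylow.coe_mapSurjective] at h'
    have hRQ : (R : Subgroup H) ≤ Subgroup.normalizer (Q : Set H) := by
      intro r hr
      have h1 : QuotientGroup.mk' (Subgroup.center H) r ∈
          (Q : Subgroup H).map (QuotientGroup.mk' (Subgroup.center H)) := by
        rw [h']; exact Subgroup.mem_map_of_mem _ hr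
      obtain ⟨q, hq, hqr⟩ := h1
      obtain ⟨z, hz, hz'⟩ := (QuotientGroup.mk'_eq_mk' (Subgroup.center H)).mp hqr
      rw [← hz']
      exact mul_mem (Subgroup.le_normalizer hq) ((Subgroup.center_le_normalizer _) hz)
    have hp2 := R.isPGroup'.to_sup_of_normal_right' Q.isPGroup' hRQ
    apply Sylow.ext
    exact (Q.is_maximal' hp2 le_sup_right).symm.trans (R.is_maximal' hp2 le_sup_left)
  · exact Sylow.mapSurjective_surjective hs p

/-- Let H be a normal subgroup of a finite group G and p a prime not dividing the index of H. Then the number of Sylow p-subgroups of H/Z(H) equals the number of Sylow p-subgroups of G. -/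
theorem result {G : Type*} [Group G] [Finite G]
    (p : ℕ) [Fact p.Prime] (H : Subgroup G) [H.Normal] (hp : ¬ p ∣ H.index) :
    Nat.card (Sylow p (H ⧸ Subgroup.center H)) = Nat.card (Sylow p G) := by
  obtain ⟨P⟩ : Nonempty (Sylow p G) := inferInstance
  have hle : ∀ Q : Sylow p G, (Q : Subgroup G) ≤ H := fun Q => pGroup_le H hp Q.isPGroup'
  rw [sylow_center_card p H]
  let f : Sylow p G → Sylow p H := fun Q => Q.subtype (hle Q)
  refine (Nat.card_eq_of_bijective f ⟨fun Q R h => Sylow.subtype_injective h, fun Q => ?_⟩).symm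
  obtain ⟨R, hR⟩ := (Q.isPGroup'.map H.subtype).exists_le_sylow
  refine ⟨R, Sylow.ext (Q.is_maximal' (R.subtype (hle R)).isPGroup' ?_)⟩
  intro x hx
  exact Subgroup.mem_subgroupOf.mpr (hR (Subgroup.mem_map_of_mem _ hx))

end Cfsg.Agent.S4342
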