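import Cfsg.Statements.S4344
import Cfsg.Agent.SylowNum.Small

set_option autoImplicit false
open Cfsg
open scoped Pointwise

namespace Cfsg.Agent.S4344

theorem eq_of_card_eq {C : Type*} [Group C] [Finite C] [IsCyclic C] {A B : Subgroup C}
    (h : Nat.card A = Nat.card B) : A = B := by
  classical
  have := Fintype.ofFinite C
  have key : ∀ D : Subgroup C, Nat.card D = Nat.card A →
      (D : Set C).toFinset = Finset.univ.filter fun a : C => a ^ Nat.card A = 1 := by
    intro D hD
    apply Finset.eq_of_subset_of_card_le
    · intro a ha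
      rw [Set.mem_toFinset] at ha
      rw [Finset.mem_filter]
      refine ⟨Finset.mem_univ _, ?_⟩
      rw [← hD]
      exact congrArg Subtype.val (pow_card_eq_one' (x := (⟨a, ha⟩ : D)))
    · refine (IsCyclic.card_pow_eq_one_le Nat.card_pos).trans (le_of_eq ?_)
      rw [Set.toFinset_card, ← Nat.card_eq_fintype_card]
      exact hD.symm
  apply SetLike.coe_injective
  rw [← Set.toFinset_inj, key A rfl, key B h.symm]

/-- Let S be a finite non-abelian simple group, M a maximal subgroup of S and C a cyclic normal subgroup of M. If a Sylow p-subgroup P of S (for a prime p dividing the order of S) is contained in C, then the number of Sylow p-subgroups of S equals the index of M. -/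
theorem result {S : Type*} [Group S] [Finite S]
    [IsSimpleGroup S] (hS : ¬ IsMulCommutative S) (p : ℕ) [Fact p.Prime] (hp : p ∣ Nat.card S)
    (M : Subgroup S) (hM : IsCoatom M) (C : Subgroup S) (hCM : C ≤ M) (hCn : (C.subgroupOf M).Normal)
    (hC : IsCyclic C) (P : Sylow p S) (hP : (P : Subgroup S) ≤ C) :
    Nat.card (Sylow p S) = M.index := by
  have hPne : (P : Subgroup S) ≠ ⊥ := P.ne_bot_of_dvd_card hp
  have hPN : ¬ (P : Subgroup S).Normal := fun h =>
    hPne (Cfsg.Agent.SylowNum.normal_pGroup_eq_bot hS P h P.isPGroup')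
  have hMN : M ≤ Subgroup.normalizer (P : Set S) := by
    intro m hm
    rw [← Sylow.smul_eq_iff_mem_normalizer]
    have hmC : ∀ c ∈ C, m * c * m⁻¹ ∈ C := fun c hc =>
      hCn.conj_mem ⟨c, hCM hc⟩ hc ⟨m, hm⟩
    apply Sylow.ext
    rw [Sylow.coe_subgroup_smul]
    have hle : MulAut.conj m • (P : Subgroup S) ≤ C := by
      intro y hy
      rw [Subgroup.mem_pointwise_smul_iff_inv_smul_mem] at hy
      have := hmC _ (hP hy)
      simpa [MulAut.smul_def, mul_assoc] using this
    have : IsCyclic C := hC
    have hc : Nat.card ((MulAut.conj m • (P : Subgroup S) : Subgroup S).subgroupOf C) =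
        Nat.card ((P : Subgroup S).subgroupOf C) := by
      rw [Nat.card_congr (Subgroup.subgroupOfEquivOfLe hle).toEquiv,
        Nat.card_congr (Subgroup.subgroupOfEquivOfLe hP).toEquiv]
      exact (Nat.card_congr (Subgroup.equivSMul (MulAut.conj m) _).toEquiv).symm
    have := eq_of_card_eq hc
    have h := Subgroup.subgroupOf_inj.mp this
    rwa [inf_eq_left.mpr hle, inf_eq_left.mpr hP] at h
  rw [P.card_eq_index_normalizer]
  rcases hM.le_iff.mp hMN with h | h
  · exact absurd (Subgroup.normalizer_eq_top_iff.mp h) hPN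
  · rw [h]

end Cfsg.Agent.S4344
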