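import Cfsg.Statements.S4345
import Cfsg.Agent.SylowNum.Decomp

set_option autoImplicit false
open Cfsg

namespace Cfsg.Agent.S4345

theorem part_modEq (p ℓ : ℕ) [hp : Fact p.Prime] (hℓ : ℓ.Prime) (l : List ℕ)
    (h : ∀ m ∈ l, IsPrimePow m ∧ m % p = 1) : ℓ ^ l.prod.factorization ℓ ≡ 1 [MOD p] := by
  have hne : ∀ m ∈ l, m ≠ 0 := fun m hm => (h m hm).1.ne_zero
  induction l with
  | nil => simp [Nat.factorization_one]; rfl
  | cons a t ih =>
    rw [List.prod_cons, Nat.factorization_mul (hne a (by simp))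
      (List.prod_ne_zero fun h0 => hne 0 (List.mem_cons_of_mem _ h0) rfl), Finsupp.add_apply, pow_add]
    have h1 := ih (fun m hm => h m (List.mem_cons_of_mem _ hm)) (fun m hm => hne m (List.mem_cons_of_mem _ hm))
    obtain ⟨⟨q, k, hq, hk, rfl⟩, hmod⟩ := h a (by simp)
    have h2 : ℓ ^ (q ^ k).factorization ℓ ≡ 1 [MOD p] := by
      rw [hq.nat_prime.factorization_pow, Finsupp.single_apply]
      split_ifs with hqe
      · subst hqe
        rw [Nat.ModEq, hmod, Nat.mod_eq_of_lt hp.out.one_lt]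
      · exact Nat.ModEq.refl 1
    simpa using h2.mul h1

/-- Let G be a finite solvable group and p, ℓ primes. Then the largest power of ℓ dividing the number of Sylow p-subgroups of G is congruent to 1 modulo p. -/
theorem result {G : Type*} [Group G] [Finite G]
    (hG : Group.IsSolvable G) (p ℓ : ℕ) [Fact p.Prime] (hℓ : ℓ.Prime) :
    ℓ ^ (Nat.card (Sylow p G)).factorization ℓ ≡ 1 [MOD p] := by
  have : Fact ℓ.Prime := ⟨hℓ⟩
  obtain ⟨l, hl, hl'⟩ := Cfsg.Agent.SylowNum.exists_factors G p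
  rw [← hl]
  exact part_modEq p ℓ hℓ l fun m hm => (hl' m hm).resolve_right (by
    rintro ⟨S, i1, i2, hS, hSc, -, hsol, -⟩
    have := hsol hG
    exact hSc ⟨⟨fun a b => IsSimpleGroup.comm_iff_isSolvable.mpr this a b⟩⟩)

end Cfsg.Agent.S4345
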