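import Cfsg.Statements.S4346
import Cfsg.Agent.SylowNum.Decomp
import Cfsg.Agent.SylowNum.TwentyTwo
import Cfsg.Agent.SylowNum.PermSeven

set_option autoImplicit false
open Cfsg

namespace Cfsg.Agent.S4346

open scoped Pointwise
open MulAction Cfsg.Agent.SylowNum

theorem not_isPrimePow_twentyTwo : ¬ IsPrimePow 22 := by
  rw [isPrimePow_nat_iff]
  rintro ⟨p, k, hp, hk, h⟩
  have h2 : (2 : ℕ) ∣ p := Nat.prime_two.dvd_of_dvd_pow (n := k) (by rw [h]; norm_num)
  have h5 : (11 : ℕ) ∣ p := (show Nat.Prime 11 by norm_num).dvd_of_dvd_pow (n := k) (by rw [h]; norm_num)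
  have := (Nat.prime_dvd_prime_iff_eq Nat.prime_two hp).mp h2
  have := (Nat.prime_dvd_prime_iff_eq (by norm_num) hp).mp h5
  omega

theorem mem_conj_iff22 {S : Type*} [Group S] {D : Subgroup S} {g y : S} :
    y ∈ MulAut.conj g • D ↔ g⁻¹ * y * g ∈ D := by
  rw [Subgroup.mem_pointwise_smul_iff_inv_smul_mem, ← map_inv, MulAut.smul_def, MulAut.conj_apply,
    inv_inv]

theorem le_centralizer_of_cyclic {S : Type*} [Group S] (Q : Subgroup S) [IsCyclic Q] :
    Q ≤ Subgroup.centralizer (Q : Set S) := by
  intro a ha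
  rw [Subgroup.mem_centralizer_iff]
  intro b hb
  obtain ⟨g, hg⟩ := IsCyclic.exists_generator (α := Q)
  obtain ⟨i, hi⟩ := Subgroup.mem_zpowers_iff.mp (hg ⟨a, ha⟩)
  obtain ⟨j, hj⟩ := Subgroup.mem_zpowers_iff.mp (hg ⟨b, hb⟩)
  have hcm : (⟨b, hb⟩ : Q) * ⟨a, ha⟩ = ⟨a, ha⟩ * ⟨b, hb⟩ := by
    rw [← hi, ← hj, ← zpow_add, add_comm, zpow_add]
  exact congrArg Subtype.val hcm

section Twelve

variable {S : Type*} [Group S] [Finite S] [IsSimpleGroup S] [h11 : Fact (Nat.Prime 11)]
  (Q : Sylow 11 S) (hQ : Nat.card (Q : Subgroup S) = 11)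
  (hCQ : Subgroup.centralizer (Q : Set S) ≤ (Q : Subgroup S))

include hQ hCQ

/-- An element fixing three points of the action on twelve Sylow 11-subgroups is trivial. -/
theorem fix_three (hn : Nat.card (Sylow 11 S) = 12) {s : S} {R R' : Sylow 11 S}
    (hR : R ≠ Q) (hR' : R' ≠ Q) (hRR' : R' ≠ R) (h0 : s • Q = Q) (h1 : s • R = R)
    (h2 : s • R' = R') : s = 1 := by
  have hinter : ∀ T : Sylow 11 S, T ≠ Q → ∀ w : S, w ∈ (Q : Subgroup S) → w • T = T → w = 1 := by
    intro T hT w hw hwT
    have hmem : w ∈ (Q : Subgroup S) ⊓ (T : Subgroup S) := by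
      rw [← Q.isPGroup'.inf_normalizer_sylow T]
      exact ⟨hw, Sylow.smul_eq_iff_mem_normalizer.mp hwT⟩
    have hrel := relIndex_inter (by rw [hn]; norm_num) Q T hT
    have hcard := card_mul_relIndex (inf_le_left : (Q : Subgroup S) ⊓ T ≤ Q)
    rw [hrel.1, hQ] at hcard
    have h1' : Nat.card ↥((Q : Subgroup S) ⊓ T) = 1 := by omega
    rwa [Subgroup.card_eq_one.mp h1', Subgroup.mem_bot] at hmem
  -- `R'` is in the orbit of `R` under `Q`
  have horb : R' ∈ orbit (Q : Subgroup S) R := by
    by_contra hcon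
    have hd : Set.ncard (insert Q (insert R' (orbit (Q : Subgroup S) R))) ≤ 12 := by
      rw [← hn, ← Set.ncard_univ]
      exact Set.ncard_le_ncard (Set.subset_univ _) (Set.toFinite _)
    rw [Set.ncard_insert_of_notMem, Set.ncard_insert_of_notMem hcon, ← Nat.card_coe_set_eq,
      (relIndex_inter (by rw [hn]; norm_num) Q R hR).2] at hd
    · omega
    · rintro (h | ⟨⟨x, hx⟩, hxR⟩)
      · exact hR' h.symm
      · apply hR
        have h2' : x • R = Q := hxR
        rw [← inv_smul_smul x R, h2']
        exact Sylow.smul_eq_iff_mem_normalizer.mpr (Subgroup.le_normalizer (inv_mem hx))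
  obtain ⟨⟨x, hx⟩, hxR⟩ := horb
  have hxR' : x • R = R' := hxR
  have hsN : s ∈ Subgroup.normalizer ((Q : Subgroup S) : Set S) :=
    Sylow.smul_eq_iff_mem_normalizer.mp h0
  have hw : x⁻¹ * (s * x * s⁻¹) ∈ (Q : Subgroup S) :=
    mul_mem (inv_mem hx) ((Subgroup.mem_normalizer_iff.mp hsN x).mp hx)
  have hs1 : s⁻¹ • R = R := inv_smul_eq_iff.mpr h1.symm
  have hw1 := hinter R hR _ hw (by
    rw [mul_smul, mul_smul, mul_smul, hs1, hxR', h2, ← hxR', inv_smul_smul])
  have hcomm : s * x = x * s := by
    have e : s * x * s⁻¹ = x := (inv_mul_eq_one.mp hw1).symm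
    exact mul_inv_eq_iff_eq_mul.mp e
  have hx1 : x ≠ 1 := fun h => hRR' (by rw [← hxR', h, one_smul])
  have hgen : Subgroup.zpowers x = (Q : Subgroup S) := by
    refine Subgroup.eq_of_le_of_card_ge (by rwa [Subgroup.zpowers_le]) ?_
    rw [hQ, Nat.card_zpowers]
    rcases (Nat.dvd_prime h11.out).mp (hQ ▸ Subgroup.orderOf_dvd_natCard (Q : Subgroup S) hx) with h | h
    · exact absurd (orderOf_eq_one_iff.mp h) hx1
    · omega
  have hsC : s ∈ Subgroup.centralizer (Q : Set S) := by
    rw [Subgroup.mem_centralizer_iff]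
    intro m hm
    have hm' : m ∈ Subgroup.zpowers x := hgen.symm ▸ hm
    obtain ⟨i, rfl⟩ := Subgroup.mem_zpowers_iff.mp hm'
    exact ((show Commute x s from hcomm.symm).zpow_left i).eq
  exact hinter R hR s (hCQ hsC) h1

end Twelve

theorem no_simple {S : Type*} [Group S] [Finite S] [IsSimpleGroup S] [Fact (Nat.Prime 3)]
    (hS : ¬ IsMulCommutative S) (h3 : 3 ∣ Nat.card S) (hn : Nat.card (Sylow 3 S) = 22) : False := by
  classical
  have := Fintype.ofFinite (Sylow 3 S)
  obtain ⟨P⟩ : Nonempty (Sylow 3 S) := inferInstance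
  have hP3 : Nat.card (P : Subgroup S) = 3 := card_sylow_three hn (normal_pGroup_eq_bot hS) P
  have hPcyc : IsCyclic (P : Subgroup S) := isCyclic_of_prime_card hP3
  set NP := Subgroup.normalizer (P : Set S) with hNPdef
  set C := Subgroup.centralizer (P : Set S) with hCdef
  have hPC : (P : Subgroup S) ≤ C := le_centralizer_of_cyclic _
  have hN : Nat.card S = 22 * Nat.card NP := by
    rw [← hn, P.card_eq_index_normalizer, mul_comm, Subgroup.card_mul_index]
  have hfree : ∀ x ∈ (P : Subgroup S), ∀ Q : Sylow 3 S, Q ≠ P → x • Q = Q → x = 1 := by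
    intro x hx Q hQ hxQ
    have hmem : x ∈ (P : Subgroup S) ⊓ (Q : Subgroup S) := by
      rw [← P.isPGroup'.inf_normalizer_sylow Q]
      exact ⟨hx, Sylow.smul_eq_iff_mem_normalizer.mp hxQ⟩
    have hlt : (P : Subgroup S) ⊓ Q = ⊥ := by
      by_contra hb
      have h1 : 1 < Nat.card ↥((P : Subgroup S) ⊓ Q) := (Subgroup.one_lt_card_iff_ne_bot _).mpr hb
      have h2 : Nat.card ↥((P : Subgroup S) ⊓ Q) * 3 ≤ Nat.card (P : Subgroup S) := card_inter_mul_le hQ
      omega
    rwa [hlt, Subgroup.mem_bot] at hmem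
  -- the orbits of `P` on the other Sylow subgroups
  let X0 := {Q : Sylow 3 S // Q ≠ P}
  have hCfix : ∀ c ∈ C, c • P = P := fun c hc =>
    Sylow.smul_eq_iff_mem_normalizer.mpr (Subgroup.centralizer_le_normalizer _ hc)
  have hne : ∀ c ∈ C, ∀ Q : Sylow 3 S, Q ≠ P → c • Q ≠ P := fun c hc Q hQ h =>
    hQ (smul_left_cancel c (h.trans (hCfix c hc).symm))
  let Orb := Quotient (MulAction.orbitRel (P : Subgroup S) (Sylow 3 S))
  let O := {o : Orb // o ≠ Quotient.mk'' P}
  have hOcard : Nat.card O = 7 := by
    have e := Nat.card_congr (MulAction.selfEquivSigmaOrbits (P : Subgroup S) (Sylow 3 S))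
    have := Fintype.ofFinite Orb
    rw [Nat.card_sigma] at e
    rw [hn, ← Finset.add_sum_erase _ _ (Finset.mem_univ (Quotient.mk'' P : Orb))] at e
    have hmkP : ∀ Q : Sylow 3 S, (Quotient.mk'' Q : Orb) = Quotient.mk'' P → Q = P := by
      intro Q hQ
      obtain ⟨⟨x, hx⟩, hxP⟩ : Q ∈ orbit (P : Subgroup S) P := Quotient.exact' hQ
      have h2 : x • P = Q := hxP
      rw [← h2]
      exact Sylow.smul_eq_iff_mem_normalizer.mpr (Subgroup.le_normalizer hx)
    have hout : ∀ o : Orb, Nat.card (orbit (P : Subgroup S) o.out) =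
        if o = Quotient.mk'' P then 1 else 3 := by
      intro o
      split_ifs with ho
      · have : o.out = P := hmkP _ (by rw [Quotient.out_eq']; exact ho)
        rw [this, Nat.card_eq_one_iff_unique]
        refine ⟨⟨fun a b => Subtype.ext ?_⟩, ⟨P, mem_orbit_self P⟩⟩
        obtain ⟨⟨x, hx⟩, hxa⟩ := a.2
        obtain ⟨⟨y, hy⟩, hyb⟩ := b.2
        rw [← hxa, ← hyb]
        exact (Sylow.smul_eq_iff_mem_normalizer.mpr (Subgroup.le_normalizer hx)).trans
          (Sylow.smul_eq_iff_mem_normalizer.mpr (Subgroup.le_normalizer hy)).symm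
      · have hne' : o.out ≠ P := fun h => ho (by rw [← Quotient.out_eq' o, h])
        refine Eq.trans ?_ hP3
        symm
        refine Nat.card_eq_of_bijective (fun x => ⟨x • o.out, mem_orbit _ x⟩) ⟨?_, ?_⟩
        · intro a b h
          have h' : (a : S) • o.out = (b : S) • o.out := congrArg Subtype.val h
          exact Subtype.ext (inv_mul_eq_one.mp (hfree _ (mul_mem (inv_mem b.2) a.2) o.out hne'
            (by rw [mul_smul, h', inv_smul_smul]))).symm
        · rintro ⟨_, x, rfl⟩
          exact ⟨x, rfl⟩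
    rw [hout, if_pos rfl, Finset.sum_congr rfl (fun o ho => (hout o).trans
      (if_neg (Finset.mem_erase.mp ho).1)), Finset.sum_const, smul_eq_mul] at e
    have h1 : Nat.card O = (Finset.univ.erase (Quotient.mk'' P : Orb)).card := by
      rw [← Nat.card_eq_finsetCard]
      exact Nat.card_congr (Equiv.subtypeEquivRight fun o => by simp)
    omega
  have hcomm : ∀ c ∈ C, ∀ (x : (P : Subgroup S)) (Q : Sylow 3 S), c • x • Q = x • c • Q := by
    intro c hc x Q
    change c • (x : S) • Q = (x : S) • c • Q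
    rw [← mul_smul, ← mul_smul, Subgroup.mem_centralizer_iff.mp hc x x.2]
  let act : C → Orb → Orb := fun c => Quotient.map' (fun Q => (c : S) • Q) (by
    intro a b hab
    obtain ⟨x, hx⟩ := hab
    exact ⟨x, by
      change x • (c : S) • b = (c : S) • a
      rw [← hcomm c c.2 x b]
      exact congrArg ((c : S) • ·) hx⟩)
  have actmk : ∀ (c : C) (Q : Sylow 3 S), act c (Quotient.mk'' Q) = Quotient.mk'' ((c : S) • Q) :=
    fun c Q => rfl
  have actone : ∀ o : Orb, act 1 o = o := fun o => Quotient.inductionOn' o fun Q => by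
    rw [actmk, Subgroup.coe_one, one_smul]
  have actmul : ∀ (a b : C) (o : Orb), act (a * b) o = act a (act b o) :=
    fun a b o => Quotient.inductionOn' o fun Q => by
      rw [actmk, actmk, actmk, Subgroup.coe_mul, mul_smul]
  have actne : ∀ (c : C) (o : O), act c o.1 ≠ Quotient.mk'' P := by
    intro c o h
    apply o.2
    have h2 := congrArg (act c⁻¹) h
    rw [← actmul, inv_mul_cancel, actone, actmk, hCfix _ (c⁻¹).2] at h2
    exact h2
  let : MulAction C O :=
    { smul := fun c o => ⟨act c o.1, actne c o⟩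
      one_smul := fun o => Subtype.ext (actone o.1)
      mul_smul := fun a b o => Subtype.ext (actmul a b o.1) }
  -- the image in the symmetric group on the seven orbits
  let φ := MulAction.toPermHom C O
  let K := φ.range
  have hker : Nat.card φ.ker = 3 := by
    have hle : φ.ker ≤ (P : Subgroup S).subgroupOf C := by
      intro c hc
      have hfixO : ∀ Q : Sylow 3 S, Q ≠ P → ∃ x : (P : Subgroup S), (c : S) • Q = x • Q := by
        intro Q hQ
        have hQ' : (Quotient.mk'' Q : Orb) ≠ Quotient.mk'' P := by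
          intro h
          obtain ⟨⟨x, hx⟩, hxP⟩ : Q ∈ orbit (P : Subgroup S) P := Quotient.exact' h
          apply hQ
          have h2 : x • P = Q := hxP
          rw [← h2]
          exact Sylow.smul_eq_iff_mem_normalizer.mpr (Subgroup.le_normalizer hx)
        have h1 : φ c ⟨_, hQ'⟩ = (⟨_, hQ'⟩ : O) := by
          rw [MonoidHom.mem_ker.mp hc]; rfl
        have h2 : (Quotient.mk'' ((c : S) • Q) : Orb) = Quotient.mk'' Q := congrArg Subtype.val h1
        obtain ⟨x, hx⟩ : (c : S) • Q ∈ orbit (P : Subgroup S) Q := Quotient.exact' h2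
        exact ⟨x, hx.symm⟩
      have hc3 : (c : S) ^ 3 = 1 := by
        refine smul_sylow_injective (by rw [hn]; norm_num) fun Q => ?_
        by_cases hQ : Q = P
        · exact hQ ▸ hCfix _ (pow_mem c.2 3)
        obtain ⟨x, hx⟩ := hfixO Q hQ
        have hx3 : (x : S) ^ 3 = 1 := by
          have h := pow_card_eq_one' (x := x)
          rw [hP3] at h
          exact congrArg Subtype.val h
        have hxQ : (c : S) • Q = (x : S) • Q := hx
        have hpow : ∀ m : ℕ, (c : S) ^ m • Q = (x : S) ^ m • Q := by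
          intro m
          induction m with
          | zero => simp
          | succ m ih =>
            rw [pow_succ' (c : S), mul_smul, ih, ← mul_smul,
              ← Subgroup.mem_centralizer_iff.mp c.2 _ (pow_mem x.2 m), mul_smul, hxQ, ← mul_smul,
              ← pow_succ]
        rw [hpow 3, hx3, one_smul]
      have hZ : IsPGroup 3 (Subgroup.zpowers (c : S)) := by
        obtain ⟨j, -, hj⟩ := (Nat.dvd_prime_pow (m := 1) Nat.prime_three).mp
          (show orderOf (c : S) ∣ 3 ^ 1 from by rw [pow_one (3 : ℕ)]; exact orderOf_dvd_of_pow_eq_one hc3)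
        exact IsPGroup.of_card (n := j) (by rw [Nat.card_zpowers, hj])
      have h2 := hZ.to_sup_of_normal_right' P.isPGroup'
        (by rw [Subgroup.zpowers_le]; exact Subgroup.centralizer_le_normalizer _ c.2)
      exact (P.is_maximal' h2 le_sup_right) ▸ (le_sup_left : Subgroup.zpowers (c : S) ≤ _)
        (Subgroup.mem_zpowers _)
    have hge : (P : Subgroup S).subgroupOf C ≤ φ.ker := by
      intro c hc
      rw [MonoidHom.mem_ker]
      refine Equiv.ext fun o => Subtype.ext ?_
      obtain ⟨Q, hQ⟩ := Quotient.exists_rep o.1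
      change act c o.1 = o.1
      rw [← hQ]
      exact Quotient.sound' ⟨⟨(c : S), hc⟩, rfl⟩
    rw [le_antisymm hle hge, Nat.card_congr (Subgroup.subgroupOfEquivOfLe hPC).toEquiv, hP3]
  have hCK : Nat.card C = 3 * Nat.card K := by
    have h := Subgroup.card_eq_card_quotient_mul_card_subgroup φ.ker
    rw [hker, Nat.card_congr (QuotientGroup.quotientKerEquivRange φ).toEquiv, mul_comm] at h
    exact h
  set c := Nat.card K with hc
  have hc560 : c ∣ 560 := by
    have h1 : c ∣ Nat.factorial 7 := by
      rw [← hOcard, ← Nat.card_perm]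
      exact Subgroup.card_subgroup_dvd_card _
    have h2 : Nat.Coprime c 9 := by
      have h3c : ¬ 3 ∣ c := by
        intro hd
        have h9 : 3 ^ 2 ∣ Nat.card S := by
          refine Dvd.dvd.trans ?_ (Subgroup.card_subgroup_dvd_card C)
          rw [hCK, pow_two]
          exact Nat.mul_dvd_mul_left 3 hd
        have := P.pow_dvd_card_of_pow_dvd_card h9
        rw [hP3] at this
        norm_num at this
      exact Nat.Coprime.pow_right 2 ((Nat.prime_three.coprime_iff_not_dvd.mpr h3c).symm)
    exact h2.dvd_of_dvd_mul_right (h1.trans (dvd_of_eq rfl))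
  -- the normalizer is twice the centralizer
  have hCN : C ≤ NP := Subgroup.centralizer_le_normalizer _
  have hN2 : Nat.card NP = 2 * Nat.card C := by
    have h := card_normalizer_dvd (P : Subgroup S)
    rw [hP3, Nat.totient_prime Nat.prime_three, show (3 : ℕ) - 1 = 2 from rfl] at h
    have hne : Nat.card NP ≠ Nat.card C := fun h' =>
      not_normalizer_le_centralizer hS h3 P (Subgroup.eq_of_le_of_card_ge hCN h'.le).ge
    obtain ⟨q, hq⟩ := Subgroup.card_dvd_of_le hCN
    have h' : Nat.card NP ∣ 2 * Nat.card C := h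
    rw [hq, mul_comm 2] at h'
    have hq2 : q ∣ 2 := Nat.dvd_of_mul_dvd_mul_left Nat.card_pos h'
    rcases (Nat.dvd_prime Nat.prime_two).mp hq2 with h1 | h1
    · exact absurd (by rw [hq, h1, mul_one]) hne
    · rw [hq, h1, mul_comm]
  have hS132 : Nat.card S = 132 * c := by rw [hN, hN2, hCK]; ring
  -- the Sylow 11-subgroup
  have : Fact (Nat.Prime 11) := ⟨by norm_num⟩
  have hcle : c ≤ 560 := Nat.le_of_dvd (by norm_num) hc560
  have hcpos : 0 < c := Nat.card_pos
  have hc11 : ¬ 11 ∣ c := fun h => by
    have := h.trans hc560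
    norm_num at this
  obtain ⟨Q⟩ : Nonempty (Sylow 11 S) := inferInstance
  have hQ11 : Nat.card (Q : Subgroup S) = 11 := by
    obtain ⟨k, hk⟩ := IsPGroup.iff_card.mp Q.isPGroup'
    have h1 : 11 ∣ Nat.card (Q : Subgroup S) := Q.dvd_card_of_dvd_card (hS132 ▸ ⟨12 * c, by ring⟩)
    rw [hk] at h1 ⊢
    rcases k with _ | _ | k
    · norm_num at h1
    · norm_num
    · exfalso
      have h2 : 11 ^ 2 ∣ 132 * c := hS132 ▸ (pow_dvd_pow 11 (by omega : 2 ≤ k + 1 + 1)).trans
        (hk ▸ Subgroup.card_subgroup_dvd_card _)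
      rw [show 11 ^ 2 = 11 * 11 by norm_num, show 132 * c = 11 * (12 * c) by ring] at h2
      rcases ((show Nat.Prime 11 by norm_num).dvd_mul).mp (Nat.dvd_of_mul_dvd_mul_left (by norm_num) h2) with h | h
      · norm_num at h
      · exact hc11 h
  have hQcyc : IsCyclic (Q : Subgroup S) := isCyclic_of_prime_card hQ11
  set CQ := Subgroup.centralizer (Q : Set S) with hCQdef
  have hnofix : ∀ w ∈ (Q : Subgroup S), ∀ R : Sylow 3 S, w • R = R → w = 1 := by
    intro w hw R hwR
    have h1 : orderOf w ∣ 11 := hQ11 ▸ Subgroup.orderOf_dvd_natCard (Q : Subgroup S) hw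
    rcases (Nat.dvd_prime (by norm_num)).mp h1 with h | h
    · exact orderOf_eq_one_iff.mp h
    · exfalso
      have h2 : 11 ∣ Nat.card (Subgroup.normalizer (R : Set S)) :=
        h ▸ Subgroup.orderOf_dvd_natCard _ (Sylow.smul_eq_iff_mem_normalizer.mp hwR)
      have h3 := Subgroup.card_mul_index (Subgroup.normalizer (R : Set S))
      rw [← R.card_eq_index_normalizer, hn, hS132] at h3
      obtain ⟨q, hq⟩ := h2
      rw [hq] at h3
      exact hc11 (((show Nat.Prime 11 by norm_num).dvd_mul.mp (show 11 ∣ 6 * c from ⟨q, by omega⟩)).resolve_left (by norm_num))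
  have horbQ : ∀ R : Sylow 3 S, Nat.card (orbit (Q : Subgroup S) R) = 11 := by
    intro R
    refine Eq.trans ?_ hQ11
    symm
    refine Nat.card_eq_of_bijective (fun x => ⟨x • R, mem_orbit _ x⟩) ⟨?_, ?_⟩
    · intro a b h
      have h' : (a : S) • R = (b : S) • R := congrArg Subtype.val h
      exact Subtype.ext (inv_mul_eq_one.mp (hnofix _ (mul_mem (inv_mem b.2) a.2) R
        (by rw [mul_smul, h', inv_smul_smul]))).symm
    · rintro ⟨_, x, rfl⟩
      exact ⟨x, rfl⟩
  have hfreeQ : ∀ z ∈ CQ, ∀ R : Sylow 3 S, z • R = R → z = 1 := by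
    intro z hz R hzR
    have hcm : ∀ x ∈ (Q : Subgroup S), ∀ T : Sylow 3 S, z • x • T = x • z • T := fun x hx T => by
      rw [← mul_smul, ← mul_smul, Subgroup.mem_centralizer_iff.mp hz x hx]
    have hfixO : ∀ T ∈ orbit (Q : Subgroup S) R, z • T = T := by
      rintro T ⟨⟨x, hx⟩, rfl⟩
      change z • x • R = x • R
      rw [hcm x hx, hzR]
    have h11fix : z ^ 11 = 1 := by
      refine smul_sylow_injective (by rw [hn]; norm_num) fun T => ?_
      by_cases hT : T ∈ orbit (Q : Subgroup S) R
      · exact pow_mem (show z ∈ MulAction.stabilizer S T from hfixO T hT) 11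
      have hzT : z • T ∈ orbit (Q : Subgroup S) T := by
        have hd : Disjoint (orbit (Q : Subgroup S) R) (orbit (Q : Subgroup S) T) := by
          rw [Set.disjoint_left]
          intro U hU hU'
          apply hT
          rw [← orbit_eq_iff.mpr hU, orbit_eq_iff.mpr hU']
          exact mem_orbit_self T
        have hu : orbit (Q : Subgroup S) R ∪ orbit (Q : Subgroup S) T = Set.univ := by
          apply Set.eq_of_subset_of_ncard_le (Set.subset_univ _) _ (Set.toFinite _)
          rw [Set.ncard_union_eq hd, ← Nat.card_coe_set_eq (orbit (Q : Subgroup S) R),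
            ← Nat.card_coe_set_eq (orbit (Q : Subgroup S) T), horbQ, horbQ, Set.ncard_univ, hn]
        rcases (hu ▸ Set.mem_univ (z • T) : z • T ∈ _) with h | h
        · exfalso
          apply hT
          have h' := hfixO _ h
          rwa [smul_left_cancel z h'] at h
        · exact h
      obtain ⟨⟨x, hx⟩, hxT⟩ := hzT
      have hxT' : z • T = x • T := hxT.symm
      have hpow : ∀ m : ℕ, z ^ m • T = x ^ m • T := by
        intro m
        induction m with
        | zero => simp
        | succ m ih =>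
          rw [pow_succ' z, mul_smul, ih, hcm _ (pow_mem hx m), hxT', ← mul_smul, ← pow_succ]
      have hx11 : x ^ 11 = 1 := by
        have h := pow_card_eq_one' (x := (⟨x, hx⟩ : (Q : Subgroup S)))
        rw [hQ11] at h
        exact congrArg Subtype.val h
      rw [hpow 11, hx11, one_smul]
    have hzQ : z ∈ (Q : Subgroup S) := by
      have hZ : IsPGroup 11 (Subgroup.zpowers z) := by
        obtain ⟨j, -, hj⟩ := (Nat.dvd_prime_pow (m := 1) (show Nat.Prime 11 by norm_num)).mp
          (by simpa using orderOf_dvd_of_pow_eq_one h11fix)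
        exact IsPGroup.of_card (n := j) (by rw [Nat.card_zpowers, hj])
      have h2 := hZ.to_sup_of_normal_right' Q.isPGroup'
        (by rw [Subgroup.zpowers_le]; exact Subgroup.centralizer_le_normalizer _ hz)
      exact (Q.is_maximal' h2 le_sup_right) ▸ (le_sup_left : Subgroup.zpowers z ≤ _)
        (Subgroup.mem_zpowers z)
    exact hnofix z hzQ R hzR
  have hCQle : Nat.card CQ ≤ 22 := by
    rw [← hn]
    refine Nat.card_le_card_of_injective (fun z => (z : S) • P) fun a b h => ?_
    have h' : (a : S) • P = (b : S) • P := h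
    exact Subtype.ext (inv_mul_eq_one.mp (hfreeQ _ (mul_mem (inv_mem b.2) a.2) P
      (by rw [mul_smul, h', inv_smul_smul]))).symm
  have hQCQ : (Q : Subgroup S) ≤ CQ := le_centralizer_of_cyclic _
  have hCQ : CQ ≤ (Q : Subgroup S) := by
    by_contra hnle
    have h22 : Nat.card CQ = 22 := by
      have hd : 11 ∣ Nat.card CQ := hQ11 ▸ Subgroup.card_dvd_of_le hQCQ
      have hne : Nat.card CQ ≠ 11 := fun h =>
        hnle (Subgroup.eq_of_le_of_card_ge hQCQ (by rw [h, hQ11])).ge
      have hpos := Nat.card_pos (α := CQ)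
      omega
    have : Fact (Nat.Prime 2) := ⟨Nat.prime_two⟩
    obtain ⟨z, hz⟩ := exists_prime_orderOf_dvd_card' (G := CQ) 2 (by rw [h22]; norm_num)
    have hz2 : (z : S) * z = 1 := by
      have h := pow_orderOf_eq_one z
      rw [hz, pow_two] at h
      exact congrArg Subtype.val h
    have hz1 : (z : S) ≠ 1 := by
      intro h
      rw [← Subgroup.orderOf_coe, h, orderOf_one] at hz
      omega
    set σ : Equiv.Perm (Sylow 3 S) := MulAction.toPerm (z : S) with hσ
    have hsupp : σ.support = Finset.univ := by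
      ext R
      simp only [Equiv.Perm.mem_support, Finset.mem_univ, iff_true]
      exact fun h => hz1 (hfreeQ _ z.2 R h)
    have hcard22 : σ.support.card = 22 := by
      rw [hsupp, Finset.card_univ, ← Nat.card_eq_fintype_card, hn]
    have hord : orderOf σ = 2 := by
      refine orderOf_eq_prime (Equiv.ext fun R => ?_) fun h => ?_
      · change ((σ ^ 2) R) = R
        rw [pow_two, Equiv.Perm.mul_apply]
        change (z : S) • (z : S) • R = R
        rw [← mul_smul, hz2, one_smul]
      · rw [h, Equiv.Perm.support_one, Finset.card_empty] at hcard22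
        omega
    obtain ⟨k, hk⟩ := Equiv.Perm.cycleType_prime_order (by rw [hord]; exact Nat.prime_two)
    have hsum := σ.sum_cycleType
    rw [hk, hord, Multiset.sum_replicate, hcard22, smul_eq_mul] at hsum
    have hsign := Equiv.Perm.sign_of_cycleType σ
    rw [hk, hord, Multiset.sum_replicate, Multiset.card_replicate, show k + 1 = 11 by omega,
      sign_toPerm_eq_one hS] at hsign
    exact absurd hsign (by decide)
  have hCQ11 : Nat.card CQ = 11 := by rw [le_antisymm hCQ hQCQ, hQ11]
  -- the numerical possibilities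
  set NQ := Subgroup.normalizer (Q : Set S) with hNQdef
  have hdiv : Nat.card NQ ∣ 110 := by
    have h := card_normalizer_dvd (Q : Subgroup S)
    rw [hQ11, Nat.totient_prime (by norm_num), show (11 : ℕ) - 1 = 10 from rfl] at h
    rw [show 110 = 10 * 11 from rfl]
    exact hCQ11 ▸ h
  have h11N : 11 ∣ Nat.card NQ := hQ11 ▸ Subgroup.card_dvd_of_le (H := (Q : Subgroup S)) Subgroup.le_normalizer
  have hne11 : Nat.card NQ ≠ 11 := fun h =>
    not_normalizer_le_centralizer hS (hS132 ▸ ⟨12 * c, by ring⟩) Q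
      (Subgroup.eq_of_le_of_card_ge (H := CQ) (Subgroup.centralizer_le_normalizer _)
        (by change Nat.card NQ ≤ Nat.card CQ; omega)).ge
  have hprod : Nat.card (Sylow 11 S) * Nat.card NQ = 132 * c := by
    rw [Q.card_eq_index_normalizer, mul_comm, Subgroup.card_mul_index, hS132]
  have hmod : Nat.card (Sylow 11 S) % 11 = 1 := card_sylow_modEq_one 11 S
  have hNle : Nat.card NQ ≤ 110 := Nat.le_of_dvd (by norm_num) hdiv
  obtain ⟨d, hd⟩ := h11N
  rw [hd] at hdiv hne11 hNle hprod
  have hd10 : d ∣ 10 := Nat.dvd_of_mul_dvd_mul_left (by norm_num) (hdiv.trans (dvd_of_eq rfl))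
  set n11 := Nat.card (Sylow 11 S) with hn11def
  have h12 : n11 * d = 12 * c := by
    have : n11 * (11 * d) = 11 * (n11 * d) := by ring
    omega
  have hcases : ((c = 35 ∨ c = 280 ∨ c = 560 ∨ c = 112) ∨ (n11 = 12 ∧ (5 ∣ c ∨ c = 2))) := by
    have hd0 := Nat.le_of_dvd (by norm_num) hd10
    obtain ⟨q, hq⟩ := hc560
    have hq0 : 0 < q := by rcases Nat.eq_zero_or_pos q with h | h <;> [simp [h] at hq; exact h]
    have hcmem : c ∈ Nat.divisors 560 := Nat.mem_divisors.mpr ⟨⟨q, hq⟩, by norm_num⟩
    rw [show Nat.divisors 560 = {1, 2, 4, 5, 7, 8, 10, 14, 16, 20, 28, 35, 40, 56, 70, 80, 112, 140,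
      280, 560} from by decide +kernel] at hcmem
    simp only [Finset.mem_insert, Finset.mem_singleton] at hcmem
    have hd3 : d = 2 ∨ d = 5 ∨ d = 10 := by interval_cases d <;> omega
    rcases hd3 with rfl | rfl | rfl <;> omega
  rcases hcases with hbad | ⟨hn12, hc2⟩
  · have : Fintype O := Fintype.ofFinite O
    exact not_perm_seven_order (H := K) (X := O) hOcard hbad
  -- the action on twelve points
  have := Fintype.ofFinite (Sylow 11 S)
  have hgfix : ∀ g : S, orderOf g = 3 → ∀ R : Sylow 11 S, g • R ≠ R := by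
    intro g hg R hgR
    have h1 : 3 ∣ Nat.card (Subgroup.normalizer (R : Set S)) :=
      hg ▸ Subgroup.orderOf_dvd_natCard _ (Sylow.smul_eq_iff_mem_normalizer.mp hgR)
    have h2 := Subgroup.card_mul_index (Subgroup.normalizer (R : Set S))
    rw [← R.card_eq_index_normalizer, ← hn11def, hn12, hS132] at h2
    obtain ⟨q, hq⟩ := h1
    rw [hq] at h2
    have h3c : c % 3 ≠ 0 := by
      intro h
      have := (Nat.dvd_of_mod_eq_zero h).trans hc560
      norm_num at this
    omega
  have hgP : ∀ x ∈ (P : Subgroup S), x ≠ 1 → orderOf x = 3 := by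
    intro x hx hx1
    rcases (Nat.dvd_prime Nat.prime_three).mp (hP3 ▸ Subgroup.orderOf_dvd_natCard (P : Subgroup S) hx) with h | h
    · exact absurd (orderOf_eq_one_iff.mp h) hx1
    · exact h
  rcases hc2 with h5 | hc2
  · -- an element of order 5 centralizing `P` fixes all twelve points
    have : Fact (Nat.Prime 5) := ⟨by norm_num⟩
    obtain ⟨y, hy⟩ := exists_prime_orderOf_dvd_card' (G := C) 5 (hCK ▸ h5.mul_left 3)
    let A := fixedPoints (Subgroup.zpowers (y : S)) (Sylow 11 S)
    have hA5 : Nat.card (Sylow 11 S) ≡ Nat.card A [MOD 5] :=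
      (IsPGroup.of_card (n := 1) (by rw [Nat.card_zpowers, Subgroup.orderOf_coe, hy, pow_one]) :
        IsPGroup 5 (Subgroup.zpowers (y : S))).card_modEq_card_fixedPoints _
    have hmemA : ∀ R : Sylow 11 S, R ∈ A ↔ (y : S) • R = R := by
      intro R
      constructor
      · exact fun h => h ⟨y, Subgroup.mem_zpowers _⟩
      · rintro h ⟨w, hw⟩
        obtain ⟨i, rfl⟩ := Subgroup.mem_zpowers_iff.mp hw
        exact zpow_mem (show (y : S) ∈ MulAction.stabilizer S R from h) i
    obtain ⟨g, hg⟩ := exists_prime_orderOf_dvd_card' (G := (P : Subgroup S)) 3 (by rw [hP3])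
    have hg3 : orderOf (g : S) = 3 := by rw [Subgroup.orderOf_coe, hg]
    have hA3 : 3 ∣ Nat.card A := by
      have hcm : ∀ R, R ∈ A → (g : S) • R ∈ A := by
        intro R hR
        rw [hmemA] at hR ⊢
        rw [← mul_smul, ← Subgroup.mem_centralizer_iff.mp y.2 g g.2, mul_smul, hR]
      have hgpow : (g : S) ^ 3 = 1 := orderOf_dvd_iff_pow_eq_one.mp (dvd_of_eq hg3)
      let τ : Equiv.Perm A :=
        { toFun := fun R => ⟨(g : S) • R.1, hcm _ R.2⟩
          invFun := fun R => ⟨(g : S) • (g : S) • R.1, hcm _ (hcm _ R.2)⟩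
          left_inv := fun R => Subtype.ext (by
            change (g : S) • (g : S) • (g : S) • R.1 = R.1
            rw [← mul_smul, ← mul_smul, ← pow_three', hgpow, one_smul])
          right_inv := fun R => Subtype.ext (by
            change (g : S) • (g : S) • (g : S) • R.1 = R.1
            rw [← mul_smul, ← mul_smul, ← pow_three', hgpow, one_smul]) }
      have := Fintype.ofFinite A
      have hτ : τ ^ 3 ^ 1 = 1 := Equiv.ext fun R => Subtype.ext (by
        change (g : S) • (g : S) • (g : S) • R.1 = R.1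
        rw [← mul_smul, ← mul_smul, ← pow_three', hgpow, one_smul])
      have hm := Equiv.Perm.card_compl_support_modEq hτ
      have hempty : τ.supportᶜ = ∅ := by
        ext R
        simp only [Finset.mem_compl, Equiv.Perm.notMem_support, Finset.notMem_empty, iff_false]
        exact fun h => hgfix _ hg3 R.1 (congrArg Subtype.val h)
      rw [hempty, Finset.card_empty] at hm
      rw [Nat.card_eq_fintype_card]
      exact Nat.modEq_zero_iff_dvd.mp hm.symm
    have hAle : Nat.card A ≤ 12 := hn12 ▸ Finite.card_subtype_le _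
    rw [← hn11def, hn12] at hA5
    have hA12 : Nat.card A = 12 := by
      unfold Nat.ModEq at hA5
      omega
    have hall : ∀ R : Sylow 11 S, (y : S) • R = R := fun R => by
      have hu : A = Set.univ := by
        apply Set.eq_of_subset_of_ncard_le (Set.subset_univ _) _ (Set.toFinite _)
        rw [Set.ncard_univ, ← Nat.card_coe_set_eq, hA12, ← hn11def, hn12]
      exact (hmemA R).mp (hu ▸ Set.mem_univ R)
    have hy1 := smul_sylow_injective (by rw [← hn11def, hn12]; norm_num) hall
    rw [← Subgroup.orderOf_coe, hy1, orderOf_one] at hy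
    omega
  -- order 264: count fixed points
  have h264 : Nat.card S = 264 := by rw [hS132, hc2]
  have := Fintype.ofFinite S
  have hd2 : d = 2 := by rw [hn12, hc2] at h12; omega
  have hNQ : ∀ R : Sylow 11 S, Nat.card (Subgroup.normalizer (R : Set S)) = 22 := by
    intro R
    have h := Subgroup.card_mul_index (Subgroup.normalizer (R : Set S))
    rw [← R.card_eq_index_normalizer, ← hn11def, hn12, h264] at h
    omega
  let f : S → ℕ := fun s => Fintype.card (fixedBy (Sylow 11 S) s)
  have hburn : ∑ s : S, f s = 264 := by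
    have h := MulAction.sum_card_fixedBy_eq_card_orbits_mul_card_group S (Sylow 11 S)
    have h1 : Fintype.card (Quotient (orbitRel S (Sylow 11 S))) = 1 := by
      rw [Fintype.card_eq_one_iff]
      refine ⟨Quotient.mk'' Q, fun o => Quotient.inductionOn' o fun R => Quotient.sound' ?_⟩
      exact MulAction.exists_smul_eq S Q R
    rw [h1, one_mul, ← Nat.card_eq_fintype_card, h264] at h
    exact h
  have hCQall : ∀ R : Sylow 11 S, Subgroup.centralizer (R : Set S) ≤ (R : Subgroup S) := by
    intro R z hz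
    obtain ⟨a, rfl⟩ := MulAction.exists_smul_eq S Q R
    rw [Sylow.coe_subgroup_smul, mem_conj_iff22]
    apply hCQ
    rw [hCQdef, Subgroup.mem_centralizer_iff]
    intro m hm
    have h1 : a * m * a⁻¹ ∈ ((a • Q : Sylow 11 S) : Subgroup S) := by
      rw [Sylow.coe_subgroup_smul, mem_conj_iff22]
      simpa [mul_assoc] using (show m ∈ (Q : Subgroup S) from hm)
    have h2 := Subgroup.mem_centralizer_iff.mp hz _ h1
    calc m * (a⁻¹ * z * a) = a⁻¹ * (a * m * a⁻¹ * z) * a := by group
      _ = a⁻¹ * (z * (a * m * a⁻¹)) * a := by rw [h2]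
      _ = a⁻¹ * z * a * m := by group
  have hcard11 : ∀ R : Sylow 11 S, Nat.card (R : Subgroup S) = 11 := fun R => by
    rw [R.card_eq_multiplicity, ← Q.card_eq_multiplicity, hQ11]
  have hf2 : ∀ s : S, s ≠ 1 → f s ≤ 2 := by
    intro s hs
    by_contra hcon
    push Not at hcon
    obtain ⟨a, b, e, hab, hae, hbe⟩ := Fintype.two_lt_card_iff.mp hcon
    exact hs (fix_three a.1 (hcard11 _) (hCQall _) (hn11def ▸ hn12) (fun h => hab (Subtype.ext h.symm))
      (fun h => hae (Subtype.ext h.symm)) (fun h => hbe (Subtype.ext h.symm)) a.2 b.2 e.2)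
  -- elements of order divisible by 3 fix nothing
  let T3 : Finset S := Finset.univ.filter fun s => 3 ∣ orderOf s
  have hT3 : ∀ s ∈ T3, f s = 0 := by
    intro s hs
    rw [Finset.mem_filter] at hs
    obtain ⟨q, hq⟩ := hs.2
    simp only [f, Fintype.card_eq_zero_iff]
    refine ⟨fun R => ?_⟩
    have h1 : orderOf (s ^ q) = 3 := by
      have hq0 : q ≠ 0 := by
        intro h
        rw [h, mul_zero] at hq
        exact (orderOf_pos s).ne' hq
      rw [orderOf_pow' s hq0, Nat.gcd_eq_right ⟨3, by rw [hq, mul_comm]⟩, hq, Nat.mul_div_cancel _ (Nat.pos_of_ne_zero hq0)]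
    exact hgfix _ h1 R.1 (pow_mem (show s ∈ MulAction.stabilizer S R.1 from R.2) q)
  have hT3card : 88 ≤ T3.card := by
    -- for each Sylow 3-subgroup, the centraliser minus its 3'-part gives four elements
    have hC6 : ∀ R : Sylow 3 S, ∃ F : Finset S, F.card = 4 ∧
        ∀ s ∈ F, s ∈ T3 ∧ s ∈ Subgroup.centralizer (R : Set S) := by
      intro R
      obtain ⟨a, rfl⟩ := MulAction.exists_smul_eq S P R
      have hC6' : Nat.card C = 6 := by rw [hCK, hc2]
      obtain ⟨g, hg⟩ := exists_prime_orderOf_dvd_card' (G := (P : Subgroup S)) 3 (by rw [hP3])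
      have hg3 : orderOf (g : S) = 3 := by rw [Subgroup.orderOf_coe, hg]
      have : Fact (Nat.Prime 2) := ⟨Nat.prime_two⟩
      obtain ⟨y, hy⟩ := exists_prime_orderOf_dvd_card' (G := C) 2 (by rw [hC6']; norm_num)
      have hy2 : orderOf (y : S) = 2 := by rw [Subgroup.orderOf_coe, hy]
      have hcm : Commute (g : S) (y : S) := Subgroup.mem_centralizer_iff.mp y.2 g g.2
      have hg2 : orderOf ((g : S) ^ 2) = 3 := by
        rw [orderOf_pow' _ two_ne_zero, hg3]; norm_num
      let L : Finset S := {(g : S), (g : S) ^ 2, (g : S) * y, (g : S) ^ 2 * y}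
      have hgy : orderOf ((g : S) * y) = 6 := by
        rw [hcm.orderOf_mul_eq_mul_orderOf_of_coprime (by rw [hg3, hy2]; norm_num), hg3, hy2]
      have hg2y : orderOf ((g : S) ^ 2 * y) = 6 := by
        rw [(hcm.pow_left 2).orderOf_mul_eq_mul_orderOf_of_coprime (by rw [hg2, hy2]; norm_num),
          hg2, hy2]
      have hgg : (g : S) ≠ (g : S) ^ 2 := by
        intro h
        rw [pow_two, left_eq_mul] at h
        rw [h, orderOf_one] at hg3
        omega
      have h36 : ∀ a b : S, orderOf a = 3 → orderOf b = 6 → a ≠ b := fun a b ha hb h => by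
        rw [h, hb] at ha; omega
      have hL : L.card = 4 := by
        have n1 := h36 _ _ hg3 hgy
        have n2 := h36 _ _ hg3 hg2y
        have n3 := h36 _ _ hg2 hgy
        have n4 := h36 _ _ hg2 hg2y
        have n5 : (g : S) * y ≠ (g : S) ^ 2 * y := fun h => hgg (mul_right_cancel h)
        simp only [L]
        rw [Finset.card_insert_of_notMem (by simp [hgg, n1, n2]),
          Finset.card_insert_of_notMem (by simp [n3, n4]),
          Finset.card_insert_of_notMem (by simp [n5]), Finset.card_singleton]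
      refine ⟨L.image (MulAut.conj a), by rw [Finset.card_image_of_injective _ (MulAut.conj a).injective, hL], ?_⟩
      intro s hs
      obtain ⟨w, hw, rfl⟩ := Finset.mem_image.mp hs
      have hwT : 3 ∣ orderOf w ∧ w ∈ C := by
        simp only [L, Finset.mem_insert, Finset.mem_singleton] at hw
        rcases hw with rfl | rfl | rfl | rfl
        · exact ⟨by rw [hg3], hPC g.2⟩
        · exact ⟨by rw [hg2], pow_mem (hPC g.2) 2⟩
        · exact ⟨by rw [hgy]; norm_num, mul_mem (hPC g.2) y.2⟩
        · exact ⟨by rw [hg2y]; norm_num, mul_mem (pow_mem (hPC g.2) 2) y.2⟩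
      refine ⟨Finset.mem_filter.mpr ⟨Finset.mem_univ _, ?_⟩, ?_⟩
      · exact hwT.1.trans
          (dvd_of_eq (orderOf_injective (MulAut.conj a).toMonoidHom (MulAut.conj a).injective w).symm)
      · rw [Subgroup.mem_centralizer_iff]
        intro m hm
        rw [← Sylow.coe_coe, SetLike.mem_coe, Sylow.coe_subgroup_smul, mem_conj_iff22] at hm
        have h2 := Subgroup.mem_centralizer_iff.mp hwT.2 _ hm
        change m * (a * w * a⁻¹) = a * w * a⁻¹ * m
        calc m * (a * w * a⁻¹) = a * (a⁻¹ * m * a * w) * a⁻¹ := by group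
          _ = a * (w * (a⁻¹ * m * a)) * a⁻¹ := by rw [h2]
          _ = a * w * a⁻¹ * m := by group
    choose F hF hFmem using hC6
    have hdisj : ((Finset.univ : Finset (Sylow 3 S)) : Set (Sylow 3 S)).PairwiseDisjoint F := by
      intro R _ R' _ hne'
      change Disjoint (F R) (F R')
      rw [Finset.disjoint_left]
      intro s hs hs'
      obtain ⟨hsT, hsC⟩ := hFmem R s hs
      obtain ⟨-, hsC'⟩ := hFmem R' s hs'
      obtain ⟨q, hq⟩ := (Finset.mem_filter.mp hsT).2
      have hq0 : q ≠ 0 := by
        intro h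
        rw [h, mul_zero] at hq
        exact (orderOf_pos s).ne' hq
      have h1 : orderOf (s ^ q) = 3 := by
        rw [orderOf_pow' s hq0, Nat.gcd_eq_right ⟨3, by rw [hq, mul_comm]⟩, hq,
          Nat.mul_div_cancel _ (Nat.pos_of_ne_zero hq0)]
      have hmem : ∀ U : Sylow 3 S, s ∈ Subgroup.centralizer (U : Set S) → s ^ q ∈ (U : Subgroup S) := by
        intro U hU
        have hZ : IsPGroup 3 (Subgroup.zpowers (s ^ q)) :=
          IsPGroup.of_card (n := 1) (by rw [Nat.card_zpowers, h1, pow_one])
        have h2 := hZ.to_sup_of_normal_right' U.isPGroup'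
          (by rw [Subgroup.zpowers_le]; exact pow_mem (Subgroup.centralizer_le_normalizer _ hU) q)
        exact (U.is_maximal' h2 le_sup_right) ▸ (le_sup_left : Subgroup.zpowers (s ^ q) ≤ _)
          (Subgroup.mem_zpowers _)
      have hU : ∀ U : Sylow 3 S, s ^ q ∈ (U : Subgroup S) → (U : Subgroup S) = Subgroup.zpowers (s ^ q) := by
        intro U hU
        refine (Subgroup.eq_of_le_of_card_ge (by rwa [Subgroup.zpowers_le]) ?_).symm
        rw [Nat.card_zpowers, h1, U.card_eq_multiplicity, ← P.card_eq_multiplicity, hP3]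
      exact hne' (Sylow.ext ((hU R (hmem R hsC)).trans (hU R' (hmem R' hsC')).symm))
    have h88 : (Finset.univ.biUnion F).card = 88 := by
      rw [Finset.card_biUnion hdisj, Finset.sum_congr rfl (fun R _ => hF R), Finset.sum_const,
        Finset.card_univ, ← Nat.card_eq_fintype_card, hn, smul_eq_mul]
    rw [← h88]
    refine Finset.card_le_card fun s hs => ?_
    obtain ⟨R, -, hsR⟩ := Finset.mem_biUnion.mp hs
    exact (hFmem R s hsR).1
  -- elements of order 11 fix exactly one point
  let T11 : Finset S := Finset.univ.filter fun s => orderOf s = 11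
  have hT11 : ∀ s ∈ T11, f s ≤ 1 := by
    intro s hs
    rw [Finset.mem_filter] at hs
    have hs1 : ∀ R : Sylow 11 S, s • R = R → (R : Subgroup S) = Subgroup.zpowers s := by
      intro R hR
      have hZ : IsPGroup 11 (Subgroup.zpowers s) :=
        IsPGroup.of_card (n := 1) (by rw [Nat.card_zpowers, hs.2, pow_one])
      have h2 := hZ.to_sup_of_normal_right' R.isPGroup'
        (by rw [Subgroup.zpowers_le]; exact Sylow.smul_eq_iff_mem_normalizer.mp hR)
      refine (Subgroup.eq_of_le_of_card_ge ?_ ?_).symm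
      · exact (R.is_maximal' h2 le_sup_right) ▸ le_sup_left
      · rw [Nat.card_zpowers, hs.2, hcard11]
    exact Fintype.card_le_one_iff.mpr fun a b =>
      Subtype.ext (Sylow.ext ((hs1 a.1 a.2).trans (hs1 b.1 b.2).symm))
  have hT11card : 120 ≤ T11.card := by
    let F : Sylow 11 S → Finset S := fun R => T11.filter fun s => s ∈ (R : Subgroup S)
    have hF : ∀ R, 10 ≤ (F R).card := by
      intro R
      have hsub : (((R : Subgroup S) : Set S).toFinset.erase 1) ⊆ F R := by
        intro s hs
        obtain ⟨hs1, hsR⟩ := Finset.mem_erase.mp hs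
        rw [Set.mem_toFinset] at hsR
        refine Finset.mem_filter.mpr ⟨Finset.mem_filter.mpr ⟨Finset.mem_univ _, ?_⟩, hsR⟩
        rcases (Nat.dvd_prime (show Nat.Prime 11 by norm_num)).mp
          (hcard11 R ▸ Subgroup.orderOf_dvd_natCard (R : Subgroup S) hsR) with h | h
        · exact absurd (orderOf_eq_one_iff.mp h) hs1
        · exact h
      refine le_trans ?_ (Finset.card_le_card hsub)
      rw [Finset.card_erase_of_mem (by rw [Set.mem_toFinset]; exact one_mem _), Set.toFinset_card,
        ← Nat.card_eq_fintype_card]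
      change 10 ≤ Nat.card (R : Subgroup S) - 1
      rw [hcard11]
    have hdisj : ((Finset.univ : Finset (Sylow 11 S)) : Set (Sylow 11 S)).PairwiseDisjoint F := by
      intro R _ R' _ hne'
      change Disjoint (F R) (F R')
      rw [Finset.disjoint_left]
      intro s hs hs'
      obtain ⟨hsT, hsR⟩ := Finset.mem_filter.mp hs
      obtain ⟨-, hsR'⟩ := Finset.mem_filter.mp hs'
      apply hne'
      apply Sylow.ext
      have hZ : ∀ U : Sylow 11 S, s ∈ (U : Subgroup S) → Subgroup.zpowers s = (U : Subgroup S) :=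
        fun U hU => Subgroup.eq_of_le_of_card_ge (by rwa [Subgroup.zpowers_le])
          (by rw [Nat.card_zpowers, (Finset.mem_filter.mp hsT).2, hcard11])
      exact (hZ R hsR).symm.trans (hZ R' hsR')
    have h120 : 120 ≤ (Finset.univ.biUnion F).card := by
      rw [Finset.card_biUnion hdisj]
      refine le_trans ?_ (Finset.sum_le_sum fun R _ => hF R)
      rw [Finset.sum_const, Finset.card_univ, ← Nat.card_eq_fintype_card, ← hn11def, hn12, smul_eq_mul]
    refine le_trans h120 (Finset.card_le_card fun s hs => ?_)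
    obtain ⟨R, -, hsR⟩ := Finset.mem_biUnion.mp hs
    exact (Finset.mem_filter.mp hsR).1
  have hbound : ∀ s : S, f s + (if s ∈ T11 then 1 else 0) + (if s ∈ T3 then 2 else 0) ≤
      2 + (if s = 1 then 10 else 0) := by
    intro s
    by_cases hs1 : s = 1
    · subst hs1
      have : f 1 ≤ 12 := by
        refine (Fintype.card_subtype_le _).trans ?_
        rw [← Nat.card_eq_fintype_card, ← hn11def, hn12]
      simp [T11, T3]
      omega
    · rw [if_neg hs1]
      have h2 := hf2 s hs1
      split_ifs with ha hb hb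
      · exfalso
        rw [Finset.mem_filter] at ha hb
        rw [ha.2] at hb
        norm_num at hb
      · have := hT11 s ha; omega
      · have := hT3 s hb; omega
      · omega
  have hsum := Finset.sum_le_sum (s := (Finset.univ : Finset S)) fun s _ => hbound s
  simp only [Finset.sum_add_distrib, Finset.sum_ite_mem, Finset.univ_inter, Finset.sum_const,
    smul_eq_mul, mul_one, Finset.sum_ite_eq', Finset.mem_univ, if_true] at hsum
  rw [hburn, Finset.card_univ, ← Nat.card_eq_fintype_card, h264] at hsum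
  omega

/-- No finite group has exactly 22 Sylow 3-subgroups. -/
theorem result {G : Type*} [Group G] [Finite G] : Nat.card (Sylow 3 G) ≠ 22 := by
  intro hG
  have : Fact (Nat.Prime 3) := ⟨Nat.prime_three⟩
  obtain ⟨S, i1, i2, hS, hSc, hSp, hn⟩ :=
    Cfsg.Agent.SylowNum.exists_simple_of_card_sylow G 3 22 hG (by norm_num)
      (fun d hd hmod => by
        have := Nat.le_of_dvd (by norm_num) hd
        interval_cases d <;> omega)
      not_isPrimePow_twentyTwo
  exact no_simple hSc hSp hn

end Cfsg.Agent.S4346
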