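import Cfsg.Statements.S4347
-- no helper imports

set_option autoImplicit false
open Cfsg
open scoped Pointwise

namespace Cfsg.Agent.S4347

/-- Let G be a finite group and p a prime. Say a Sylow p-subgroup Q is redundant when every element of p-power order lies in some Sylow p-subgroup other than Q. Then G has no redundant Sylow p-subgroup if and only if some element of p-power order lies in exactly one Sylow p-subgroup. -/
theorem result {G : Type*} [Group G] [Finite G]
    (p : ℕ) [Fact p.Prime] :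
    (¬ ∃ Q : Sylow p G, ∀ x : G, (∃ k : ℕ, orderOf x = p ^ k) → ∃ P : Sylow p G, P ≠ Q ∧ x ∈ P) ↔
      ∃ x : G, (∃ k : ℕ, orderOf x = p ^ k) ∧ ∃! P : Sylow p G, x ∈ P := by
  constructor
  · intro h
    push Not at h
    obtain ⟨Q⟩ : Nonempty (Sylow p G) := inferInstance
    obtain ⟨x, hx, hxQ⟩ := h Q
    refine ⟨x, hx, ?_⟩
    obtain ⟨k, hk⟩ := hx
    have hxp : IsPGroup p (Subgroup.zpowers x) :=
      IsPGroup.of_card (n := k) (by rw [Nat.card_zpowers, hk])
    obtain ⟨P, hP⟩ := hxp.exists_le_sylow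
    have hxP : x ∈ P := hP (Subgroup.mem_zpowers x)
    have hPQ : P = Q := by
      by_contra hne
      exact hxQ P hne hxP
    refine ⟨P, hxP, fun R hR => ?_⟩
    rw [hPQ]
    by_contra hne
    exact hxQ R hne hR
  · rintro ⟨x, hx, P, hxP, hu⟩ ⟨Q, hQ⟩
    obtain ⟨g, hg⟩ := MulAction.exists_smul_eq G P Q
    have hy : ∃ k : ℕ, orderOf (g * x * g⁻¹) = p ^ k := by
      have : orderOf (g * x * g⁻¹) = orderOf x :=
        orderOf_injective (MulAut.conj g).toMonoidHom (MulAut.conj g).injective x
      rw [this]; exact hx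
    obtain ⟨R, hR, hxR⟩ := hQ _ hy
    apply hR
    have hmem : x ∈ (g⁻¹ • R : Sylow p G) := by
      change x ∈ ((g⁻¹ • R : Sylow p G) : Subgroup G)
      rw [Sylow.coe_subgroup_smul,
        Subgroup.mem_pointwise_smul_iff_inv_smul_mem]
      simpa [MulAut.smul_def] using (show g * x * g⁻¹ ∈ (R : Subgroup G) from hxR)
    rw [← hg, ← hu _ hmem, smul_inv_smul]

end Cfsg.Agent.S4347
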