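import Cfsg.Statements.S4348
-- no helper imports

set_option autoImplicit false
open Cfsg

namespace Cfsg.Agent.S4348

/-- Let G be a finite group, p a prime and P a Sylow p-subgroup of G, and let O_p(G) be the largest normal p-subgroup of G. If P/O_p(G) is cyclic, then some element of p-power order of G lies in exactly one Sylow p-subgroup. -/
theorem result {G : Type*} [Group G] [Finite G]
    (p : ℕ) [Fact p.Prime] (P : Sylow p G)
    [hn : ((Cfsg.pCore p G).subgroupOf (P : Subgroup G)).Normal]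
    (hc : IsCyclic ((P : Subgroup G) ⧸ (Cfsg.pCore p G).subgroupOf (P : Subgroup G))) :
    ∃ x : G, (∃ k : ℕ, orderOf x = p ^ k) ∧ ∃! Q : Sylow p G, x ∈ Q := by
  obtain ⟨c, hc'⟩ := hc.exists_generator
  obtain ⟨x, rfl⟩ := QuotientGroup.mk'_surjective _ c
  refine ⟨x, ?_, P, x.2, fun Q hQ => ?_⟩
  · rw [Subgroup.orderOf_coe]; exact (IsPGroup.iff_orderOf.mp P.isPGroup') x
  · have hcore : Cfsg.pCore p G ≤ Q := sSup_le fun N hN => by
      have := hN.1
      exact hN.2.le_sylow_of_normal Q
    apply Sylow.ext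
    apply P.is_maximal' Q.isPGroup'
    intro y hy
    obtain ⟨k, hk⟩ := Subgroup.mem_zpowers_iff.mp (hc' (QuotientGroup.mk' _ ⟨y, hy⟩))
    rw [← map_zpow] at hk
    obtain ⟨z, hz, hz'⟩ := (QuotientGroup.mk'_eq_mk' _).mp hk
    have : ((x ^ k * z : (P : Subgroup G)) : G) = y := congrArg Subtype.val hz'
    rw [← this, Subgroup.coe_mul, Subgroup.coe_zpow]
    exact mul_mem (zpow_mem hQ k) (hcore hz)

end Cfsg.Agent.S4348
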