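import Cfsg.Statements.S4349
import Mathlib.GroupTheory.Perm.Centralizer
import Mathlib.GroupTheory.Perm.Cycle.Type
import Mathlib.GroupTheory.Sylow
import Mathlib.NumberTheory.Padics.PadicVal.Basic

set_option autoImplicit false
set_option linter.style.haveILetI false
set_option linter.unusedSectionVars false
set_option linter.unusedSimpArgs false
open Cfsg

namespace Cfsg.Agent.S4349

open Equiv Function
open scoped Pointwise

universe u
variable {α : Type u} [Fintype α] [DecidableEq α]

/-- Period of a point. -/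
noncomputable def per (x : Perm α) (a : α) : ℕ := minimalPeriod x a

theorem pow_fix_iff (x : Perm α) (a : α) (j : ℕ) : (x ^ j) a = a ↔ per x a ∣ j := by
  rw [per, ← isPeriodicPt_iff_minimalPeriod_dvd, Perm.coe_pow]
  rfl

theorem per_eq_one (x : Perm α) (a : α) : per x a = 1 ↔ x a = a := by
  have h := pow_fix_iff x a 1
  rw [pow_one, Nat.dvd_one] at h
  exact h.symm

/-- At most two fixed points and at most one cycle of each length. -/
def Good (x : Perm α) : Prop :=
  (∀ a b c : α, x a = a → x b = b → x c = c → a = b ∨ a = c ∨ b = c) ∧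
    ∀ a b : α, x a ≠ a → x b ≠ b → per x a = per x b → x.SameCycle a b

/-- An involution fixing at most one point. -/
def Pairing (m : Perm α) : Prop := m * m = 1 ∧ ∀ a b : α, m a = a → m b = b → a = b

theorem Pairing.apply_apply {m : Perm α} (hm : Pairing m) (a : α) : m (m a) = a := by
  rw [← Perm.mul_apply, hm.1]; rfl

theorem Pairing.conj {m : Perm α} (hm : Pairing m) (g : Perm α) : Pairing (g * m * g⁻¹) := by
  refine ⟨?_, fun a b ha hb => ?_⟩
  · rw [show g * m * g⁻¹ * (g * m * g⁻¹) = g * (m * m) * g⁻¹ by group, hm.1]; group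
  · simp only [Perm.mul_apply] at ha hb
    have h1 : m (g⁻¹ a) = g⁻¹ a := by
      apply g.injective; rw [ha]; simp
    have h2 : m (g⁻¹ b) = g⁻¹ b := by
      apply g.injective; rw [hb]; simp
    exact g⁻¹.injective (hm.2 _ _ h1 h2)

theorem comm_pow_apply {x m : Perm α} (h : Commute m x) (j : ℕ) (a : α) :
    m ((x ^ j) a) = (x ^ j) (m a) := by
  rw [← Perm.mul_apply, ← Perm.mul_apply, (h.pow_right j).eq]

theorem per_apply {x m : Perm α} (h : Commute m x) (a : α) : per x (m a) = per x a := by
  have key : ∀ j, per x (m a) ∣ j ↔ per x a ∣ j := fun j => by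
    rw [← pow_fix_iff, ← pow_fix_iff, ← comm_pow_apply h]
    exact m.injective.eq_iff
  exact Nat.dvd_antisymm ((key _).2 dvd_rfl) ((key _).1 dvd_rfl)

theorem exists_nat_pow {x : Perm α} {a b : α} (h : x.SameCycle a b) : ∃ i : ℕ, (x ^ i) a = b := by
  obtain ⟨i, -, hi⟩ := h.exists_pow_eq'
  exact ⟨i, hi⟩

theorem moved_apply {x m : Perm α} (hm : Pairing m) (h : Commute m x) {a : α} (ha : x a ≠ a) :
    m a ≠ a := by
  intro hma
  refine ha (hm.2 _ _ ?_ hma)
  rw [← pow_one x, comm_pow_apply h, hma]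

/-- A good element commutes with at most one pairing. -/
theorem Good.pairing_unique {x : Perm α} (hx : Good x) {m m' : Perm α} (hm : Pairing m)
    (hm' : Pairing m') (h : Commute m x) (h' : Commute m' x) : m = m' := by
  refine Equiv.ext fun a => ?_
  by_cases ha : x a = a
  · have hfix : ∀ k : Perm α, Commute k x → x (k a) = k a := fun k hk => by
      rw [← pow_one x, ← comm_pow_apply hk, pow_one, ha]
    -- both `m a`, `m' a` are fixed by `x`
    have key : ∀ k k' : Perm α, Pairing k → Pairing k' → Commute k x → Commute k' x →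
        k a ≠ a → k' a = k a := by
      intro k k' hk hk' hkx hkx' hne
      rcases hx.1 a (k a) (k' a) ha (hfix k hkx) (hfix k' hkx') with h1 | h1 | h1
      · exact absurd h1.symm hne
      · -- `k'` fixes `a`, so also `k a`
        exfalso
        have hb : x (k a) = k a := hfix k hkx
        have hc : x (k' (k a)) = k' (k a) := by
          rw [← pow_one x, ← comm_pow_apply hkx', pow_one, hb]
        rcases hx.1 a (k a) (k' (k a)) ha hb hc with h2 | h2 | h2
        · exact hne h2.symm
        · exact hne (k'.injective (h2.symm.trans h1))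
        · exact hne (hk'.2 _ _ h2.symm h1.symm)
      · exact h1.symm
    by_cases hma : m a = a
    · by_cases hma' : m' a = a
      · rw [hma, hma']
      · exact key m' m hm' hm h' h hma'
    · exact (key m m' hm hm' h h' hma).symm
  · have key : ∀ k : Perm α, Pairing k → Commute k x →
        ∃ i, (x ^ i) a = k a ∧ per x a ∣ 2 * i ∧ ¬ per x a ∣ i := by
      intro k hk hkx
      have hka : x (k a) ≠ k a := fun h0 => ha (by
        apply k.injective
        rw [← pow_one x, comm_pow_apply hkx, pow_one, h0])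
      obtain ⟨i, hi⟩ := exists_nat_pow (hx.2 a (k a) ha hka (per_apply hkx a).symm)
      refine ⟨i, hi, ?_, fun hd => moved_apply hk hkx ha ?_⟩
      · rw [← pow_fix_iff, two_mul, pow_add, Perm.mul_apply, hi, ← comm_pow_apply hkx, hi,
          hk.apply_apply]
      · rw [← hi, (pow_fix_iff x a i).2 hd]
    obtain ⟨i, hi, hi2, hni⟩ := key m hm h
    obtain ⟨j, hj, hj2, hnj⟩ := key m' hm' h'
    rw [← hi, ← hj]
    have hmod : ∀ {c k : ℕ}, c ∣ 2 * k → ¬ c ∣ k → ∃ r, c = 2 * r ∧ k % c = r := by
      intro c k ⟨d, hd⟩ hck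
      rcases Nat.even_or_odd d with ⟨e, rfl⟩ | ⟨e, rfl⟩
      · exact absurd ⟨e, by linarith⟩ hck
      · obtain ⟨r, rfl⟩ : 2 ∣ c := by
          rcases Nat.even_or_odd c with ⟨r, hr⟩ | ⟨r, rfl⟩
          · exact ⟨r, by omega⟩
          · exfalso
            have : (2 * r + 1) * (2 * e + 1) = 2 * (2 * r * e + r + e) + 1 := by ring
            omega
        refine ⟨r, rfl, ?_⟩
        have hk : k = 2 * r * e + r := by linarith
        rcases Nat.eq_zero_or_pos r with hr | hr
        · subst hr; simp at hk; simp [hk]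
        · rw [hk, Nat.mul_add_mod, Nat.mod_eq_of_lt (by omega)]
    obtain ⟨r, hr, hir⟩ := hmod hi2 hni
    obtain ⟨s, hs, hjs⟩ := hmod hj2 hnj
    have hrs : r = s := by omega
    have h3 : ∀ t : ℕ, (x ^ t) a = (x ^ (t % per x a)) a := fun t => by
      conv_lhs => rw [← Nat.mod_add_div t (per x a)]
      rw [pow_add, Perm.mul_apply, (pow_fix_iff x a _).2 (dvd_mul_right _ _)]
    rw [h3 i, h3 j, hir, hjs, hrs]

section Pairs

variable (m : Perm α)

/-- The pairs moved by `m`. -/
abbrev Pairs : Type u := {s : Sym2 α // ∃ a, m a ≠ a ∧ s(a, m a) = s}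

theorem map_mem {g : Perm α} (hg : g ∈ Subgroup.centralizer {m}) {s : Sym2 α}
    (hs : ∃ a, m a ≠ a ∧ s(a, m a) = s) : ∃ a, m a ≠ a ∧ s(a, m a) = Sym2.map g s := by
  obtain ⟨a, ha, rfl⟩ := hs
  have h : m (g a) = g (m a) := by
    rw [← Perm.mul_apply, ← Perm.mul_apply, (Subgroup.mem_centralizer_singleton_iff.1 hg).symm]
  exact ⟨g a, by rw [h]; exact g.injective.ne ha, by rw [h, Sym2.map_mk]⟩

/-- Action of the centraliser on the pairs. -/
def pairHom : Subgroup.centralizer ({m} : Set (Perm α)) →* Perm (Pairs m) where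
  toFun g :=
    { toFun := fun s => ⟨Sym2.map (g : Perm α) s.1, map_mem m g.2 s.2⟩
      invFun := fun s => ⟨Sym2.map ((g : Perm α)⁻¹ : Perm α) s.1, map_mem m (inv_mem g.2) s.2⟩
      left_inv := fun s => Subtype.ext (by simp [Sym2.map_map])
      right_inv := fun s => Subtype.ext (by simp [Sym2.map_map]) }
  map_one' := Equiv.ext fun s => Subtype.ext (by simp)
  map_mul' g h := Equiv.ext fun s => Subtype.ext (by simp [Sym2.map_map])

variable {m}

theorem isPGroup_ker (hm : Pairing m) : IsPGroup 2 (pairHom m).ker := by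
  intro g
  refine ⟨1, ?_⟩
  apply Subtype.ext
  apply Subtype.ext
  have hc : ∀ a, m ((g.1 : Perm α) a) = (g.1 : Perm α) (m a) := fun a => by
    rw [← Perm.mul_apply, ← Perm.mul_apply, (Subgroup.mem_centralizer_singleton_iff.1 g.1.2).symm]
  have hmoved : ∀ a, m a ≠ a → (g.1 : Perm α) a = a ∨ (g.1 : Perm α) a = m a := by
    intro a ha
    have h1 := congrArg (fun e : Perm (Pairs m) => (e ⟨s(a, m a), a, ha, rfl⟩).1)
      (MonoidHom.mem_ker.1 g.2)
    simp [pairHom, Sym2.map_mk] at h1
    rcases h1 with ⟨h1, -⟩ | ⟨h1, -⟩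
    · exact Or.inl h1
    · exact Or.inr h1
  refine Equiv.ext fun a => ?_
  simp only [pow_one, SubmonoidClass.coe_pow, OneMemClass.coe_one, Perm.one_apply]
  rw [pow_two, Perm.mul_apply]
  by_cases ha : m a = a
  · have h1 : (g.1 : Perm α) a = a := hm.2 _ _ (by rw [hc, ha]) ha
    rw [h1, h1]
  · rcases hmoved a ha with h1 | h1
    · rw [h1, h1]
    · rw [h1, ← hc, h1, hm.apply_apply]

theorem card_pairs_lt (hm : Pairing m) (h : 0 < Fintype.card α) :
    Fintype.card (Pairs m) < Fintype.card α := by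
  classical
  by_cases hex : ∃ a, m a ≠ a
  · obtain ⟨a, ha⟩ := hex
    let f : {b : α // m b ≠ b} → Pairs m := fun b => ⟨s(b.1, m b.1), b.1, b.2, rfl⟩
    have hf : Surjective f := fun ⟨s, b, hb, hs⟩ => ⟨⟨b, hb⟩, Subtype.ext hs⟩
    have hma : m (m a) ≠ m a := m.injective.ne ha
    have hni : ¬ Injective f := fun hinj => ha
      (congrArg Subtype.val (hinj (a₁ := ⟨a, ha⟩) (a₂ := ⟨m a, hma⟩)
        (Subtype.ext (by simp [f, hm.apply_apply, Sym2.eq_swap])))).symm
    exact (Fintype.card_lt_of_surjective_not_injective f hf hni).trans_le (Fintype.card_subtype_le _)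
  · haveI : IsEmpty (Pairs m) := ⟨fun ⟨_, b, hb, _⟩ => hex ⟨b, hb⟩⟩
    rw [Fintype.card_eq_zero]
    exact h

/-- The quotient of a good element is good. -/
theorem good_pairHom (hm : Pairing m) {x : Perm α} {e : ℕ} (he : orderOf x = 2 ^ e)
    (hx : Good x) (hmem : x ∈ Subgroup.centralizer {m}) : Good (pairHom m ⟨x, hmem⟩) := by
  classical
  set y := pairHom m ⟨x, hmem⟩ with hy
  have hcomm : Commute m x := (Subgroup.mem_centralizer_singleton_iff.1 hmem).symm
  have hfix : ∀ (a : α) (ha : m a ≠ a) (j : ℕ),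
      (y ^ j) (⟨s(a, m a), a, ha, rfl⟩ : Pairs m) = ⟨s(a, m a), a, ha, rfl⟩ ↔ per x a ∣ 2 * j := by
    intro a ha j
    have h1 : y ^ j = pairHom m (⟨x, hmem⟩ ^ j) := by rw [hy, map_pow]
    rw [h1]
    simp only [pairHom, MonoidHom.coe_mk, OneHom.coe_mk, Equiv.coe_fn_mk, Subtype.mk.injEq,
      Sym2.map_mk, SubmonoidClass.coe_pow, Sym2.eq_iff]
    rw [← pow_fix_iff, two_mul, pow_add, Perm.mul_apply]
    constructor
    · rintro (⟨h2, -⟩ | ⟨h2, h3⟩)
      · rw [h2, h2]
      · rw [h2, h3]
    · intro h2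
      by_cases h3 : (x ^ j) a = a
      · exact Or.inl ⟨h3, by rw [← comm_pow_apply hcomm, h3]⟩
      · have h4 : per x a ∣ 2 * j := by rw [← pow_fix_iff, two_mul, pow_add, Perm.mul_apply, h2]
        have hma : x a ≠ a := fun h0 => h3 ((pow_fix_iff x a j).2 (by
          rw [(per_eq_one x a).2 h0]; exact one_dvd _))
        have hmax : x (m a) ≠ m a := fun h0 => hma (by
          apply m.injective
          rw [← pow_one x, comm_pow_apply hcomm, pow_one, h0])
        -- `x ^ j` and `m` induce the same half-turn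
        obtain ⟨i, hi⟩ := exists_nat_pow (hx.2 a (m a) hma hmax (per_apply hcomm a).symm)
        have h5 : per x a ∣ 2 * i := by
          rw [← pow_fix_iff, two_mul, pow_add, Perm.mul_apply, hi, ← comm_pow_apply hcomm, hi,
            hm.apply_apply]
        have h6 : ¬ per x a ∣ i := fun hd => ha (by rw [← hi, (pow_fix_iff x a i).2 hd])
        have h7 : ¬ per x a ∣ j := fun hd => h3 ((pow_fix_iff x a j).2 hd)
        have h8 : per x a ∣ i + j := by
          obtain ⟨d, hd⟩ := h5
          obtain ⟨d', hd'⟩ := h4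
          rcases Nat.even_or_odd d with ⟨t, rfl⟩ | ⟨t, rfl⟩
          · exact absurd ⟨t, by linarith⟩ h6
          rcases Nat.even_or_odd d' with ⟨t', rfl⟩ | ⟨t', rfl⟩
          · exact absurd ⟨t', by linarith⟩ h7
          exact ⟨t + t' + 1, by linarith⟩
        have h9 : (x ^ j) (m a) = a := by
          rw [← hi, ← Perm.mul_apply, ← pow_add, add_comm]; exact (pow_fix_iff x a _).2 h8
        refine Or.inr ⟨?_, ?_⟩
        · apply m.injective
          rw [comm_pow_apply hcomm, h9, hm.apply_apply]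
        · exact h9
  have htwo : ∀ a : α, ∃ i, per x a = 2 ^ i := by
    intro a
    have : per x a ∣ 2 ^ e := by
      rw [← he, ← pow_fix_iff, pow_orderOf_eq_one]; rfl
    obtain ⟨i, -, hi⟩ := (Nat.dvd_prime_pow Nat.prime_two).1 this
    exact ⟨i, hi⟩
  -- points above fixed pairs
  have hfix1 : ∀ s : Pairs m, y s = s → ∃ a, ∃ ha : m a ≠ a,
      s = ⟨s(a, m a), a, ha, rfl⟩ ∧ per x a ∣ 2 := by
    rintro ⟨s, a, ha, rfl⟩ hs
    refine ⟨a, ha, rfl, ?_⟩
    exact (hfix a ha 1).1 (by rw [pow_one]; exact hs)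
  refine ⟨fun s t u hs ht hu => ?_, fun s t hs ht hst => ?_⟩
  · obtain ⟨a, ha, rfl, hpa⟩ := hfix1 s hs
    obtain ⟨b, hb, rfl, hpb⟩ := hfix1 t ht
    obtain ⟨c, hc, rfl, hpc⟩ := hfix1 u hu
    have heq : ∀ (p q : α) (hp : m p ≠ p) (hq : m q ≠ q), p = q ∨ m p = q →
        (⟨s(p, m p), p, hp, rfl⟩ : Pairs m) = ⟨s(q, m q), q, hq, rfl⟩ := by
      rintro p q hp hq (rfl | rfl)
      · rfl
      · exact Subtype.ext (by simp [hm.apply_apply, Sym2.eq_swap])
    have hsame : ∀ (p q : α), per x p = 2 → per x q = 2 → p = q ∨ m p = q := by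
      intro p q hp hq
      have hp' : x p ≠ p := fun h0 => by rw [(per_eq_one x p).2 h0] at hp; omega
      have hq' : x q ≠ q := fun h0 => by rw [(per_eq_one x q).2 h0] at hq; omega
      have hmp' : x (m p) ≠ m p := fun h0 => by
        rw [← per_eq_one, per_apply hcomm, hp] at h0; omega
      have hmp : m p = x p := by
        obtain ⟨i, hi⟩ := exists_nat_pow (hx.2 p (m p) hp' hmp' (per_apply hcomm p).symm)
        rcases Nat.even_or_odd i with ⟨t, rfl⟩ | ⟨t, rfl⟩
        · rw [(pow_fix_iff x p _).2 (hp ▸ ⟨t, by ring⟩)] at hi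
          exact absurd hi.symm (moved_apply hm hcomm hp')
        · rw [pow_succ', Perm.mul_apply, (pow_fix_iff x p _).2 (hp ▸ dvd_mul_right 2 t)] at hi
          exact hi.symm
      obtain ⟨i, hi⟩ := exists_nat_pow (hx.2 p q hp' hq' (hp.trans hq.symm))
      rcases Nat.even_or_odd i with ⟨t, rfl⟩ | ⟨t, rfl⟩
      · rw [(pow_fix_iff x p _).2 (hp ▸ ⟨t, by ring⟩)] at hi
        exact Or.inl hi
      · rw [pow_succ', Perm.mul_apply, (pow_fix_iff x p _).2 (hp ▸ dvd_mul_right 2 t)] at hi
        exact Or.inr (hmp.trans hi)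
    have hfixed : ∀ (p q : α), per x p = 1 → per x q = 1 → m p ≠ p → p = q ∨ m p = q := by
      intro p q hp hq hne
      rcases hx.1 p (m p) q ((per_eq_one x p).1 hp) ((per_eq_one x (m p)).1
        ((per_apply hcomm p).trans hp)) ((per_eq_one x q).1 hq) with h | h | h
      · exact absurd h.symm hne
      · exact Or.inl h
      · exact Or.inr h
    rcases (Nat.dvd_prime Nat.prime_two).1 hpa with h1 | h1 <;>
      rcases (Nat.dvd_prime Nat.prime_two).1 hpb with h2 | h2 <;>
      rcases (Nat.dvd_prime Nat.prime_two).1 hpc with h3 | h3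
    all_goals first
      | exact Or.inl (heq a b ha hb (hfixed a b h1 h2 ha))
      | exact Or.inl (heq a b ha hb (hsame a b h1 h2))
      | exact Or.inr (Or.inl (heq a c ha hc (hfixed a c h1 h3 ha)))
      | exact Or.inr (Or.inl (heq a c ha hc (hsame a c h1 h3)))
      | exact Or.inr (Or.inr (heq b c hb hc (hfixed b c h2 h3 hb)))
      | exact Or.inr (Or.inr (heq b c hb hc (hsame b c h2 h3)))
  · obtain ⟨_, a, ha, rfl⟩ := s
    obtain ⟨_, b, hb, rfl⟩ := t
    obtain ⟨i, hi⟩ := htwo a
    obtain ⟨k, hk⟩ := htwo b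
    have hi2 : 2 ≤ i := by
      by_contra hlt
      refine hs ?_
      rw [← pow_one y]
      refine (hfix a ha 1).2 (hi ▸ ?_)
      interval_cases i <;> norm_num
    have hk2 : 2 ≤ k := by
      by_contra hlt
      refine ht ?_
      rw [← pow_one y]
      refine (hfix b hb 1).2 (hk ▸ ?_)
      interval_cases k <;> norm_num
    have key : ∀ j, per x a ∣ 2 * j ↔ per x b ∣ 2 * j := fun j => by
      rw [← hfix a ha, ← hfix b hb, pow_fix_iff, pow_fix_iff, hst]
    have hik : i = k := by
      have hle : ∀ {i k : ℕ}, 1 ≤ i → (2 ^ i ∣ 2 * 2 ^ (k - 1)) → 1 ≤ k → i ≤ k := by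
        intro i k _ hd hk
        rw [← pow_succ', Nat.sub_add_cancel hk, Nat.pow_dvd_pow_iff_le_right (by norm_num)] at hd
        exact hd
      have e1 := (key (2 ^ (k - 1))).2 (by rw [hk, ← pow_succ', Nat.sub_add_cancel (by omega)])
      have e2 := (key (2 ^ (i - 1))).1 (by rw [hi, ← pow_succ', Nat.sub_add_cancel (by omega)])
      rw [hi] at e1; rw [hk] at e2
      exact le_antisymm (hle (by omega) e1 (by omega)) (hle (by omega) e2 (by omega))
    have hxa : x a ≠ a := fun h0 => by
      rw [(per_eq_one x a).2 h0] at hi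
      have := Nat.one_lt_two_pow (show i ≠ 0 by omega)
      omega
    have hxb : x b ≠ b := fun h0 => by
      rw [(per_eq_one x b).2 h0] at hk
      have := Nat.one_lt_two_pow (show k ≠ 0 by omega)
      omega
    obtain ⟨j, hj⟩ := exists_nat_pow (hx.2 a b hxa hxb (by rw [hi, hk, hik]))
    refine ⟨(j : ℤ), ?_⟩
    rw [zpow_natCast, hy, ← map_pow]
    apply Subtype.ext
    simp [pairHom, Sym2.map_mk, hj, ← comm_pow_apply hcomm]

end Pairs

/-! ### Sylow subgroups -/

variable {m : Perm α}

/-- Every Sylow 2-subgroup centralises a pairing, and pairings have centralisers of odd index. -/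
theorem not_dvd_index (hm : Pairing m) : ¬ 2 ∣ (Subgroup.centralizer ({m} : Set (Perm α))).index := by
  classical
  haveI : Fact (Nat.Prime 2) := ⟨Nat.prime_two⟩
  have hall : ∀ t ∈ m.cycleType, t = 2 := fun t ht => le_antisymm
    (Nat.le_of_dvd two_pos ((Perm.dvd_of_mem_cycleType ht).trans
      (orderOf_dvd_of_pow_eq_one (by rw [pow_two, hm.1]))))
    (Perm.two_le_of_mem_cycleType ht)
  have hrep := Multiset.eq_replicate_card.2 hall
  set k := Multiset.card m.cycleType
  have hsum : m.cycleType.sum = m.support.card := Perm.sum_cycleType m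
  rw [hrep, Multiset.sum_replicate, smul_eq_mul] at hsum
  have hfix : Fintype.card α - 2 * k ≤ 1 := by
    rw [mul_comm 2 k, hsum, ← Finset.card_compl, Finset.card_le_one]
    intro a ha b hb
    rw [Finset.mem_compl, Perm.notMem_support] at ha hb
    exact hm.2 a b ha hb
  have hle : 2 * k ≤ Fintype.card α := by
    rw [mul_comm, hsum]; exact Finset.card_le_univ _
  obtain ⟨r, hr, hn⟩ : ∃ r, r ≤ 1 ∧ Fintype.card α = 2 * k + r := ⟨_, hfix, by omega⟩
  have hcard : Nat.card (Subgroup.centralizer ({m} : Set (Perm α))) = 2 ^ k * k.factorial := by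
    rw [Perm.nat_card_centralizer, hrep, Multiset.sum_replicate, Multiset.prod_replicate,
      smul_eq_mul, hn, show 2 * k + r - k * 2 = r by omega,
      show r.factorial = 1 by interval_cases r <;> rfl, one_mul]
    rcases Nat.eq_zero_or_pos k with hk | hk
    · simp [hk]
    · rw [Multiset.toFinset_replicate, if_neg hk.ne', Finset.prod_singleton,
        Multiset.count_replicate_self]
  intro hd
  have h1 := (Subgroup.centralizer ({m} : Set (Perm α))).card_mul_index
  rw [hcard, Nat.card_perm, Nat.card_eq_fintype_card, hn] at h1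
  have h2 := congrArg (padicValNat 2) h1
  rw [padicValNat_factorial_mul_add k (show r < 2 by omega), padicValNat_factorial_mul,
    padicValNat.mul (mul_ne_zero (by positivity) (Nat.factorial_ne_zero k))
      Subgroup.index_ne_zero_of_finite,
    padicValNat.mul (by positivity) (Nat.factorial_ne_zero k), padicValNat.prime_pow] at h2
  have := one_le_padicValNat_of_dvd Subgroup.index_ne_zero_of_finite hd
  omega

theorem exists_pairing (α : Type u) [Fintype α] [DecidableEq α] : ∃ m : Perm α, Pairing m := by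
  obtain ⟨m, hm⟩ := (Perm.exists_with_cycleType_iff (α := α)
    (m := Multiset.replicate (Fintype.card α / 2) 2)).2
    ⟨by rw [Multiset.sum_replicate, smul_eq_mul]; omega,
      fun a ha => (Multiset.eq_of_mem_replicate ha).ge⟩
  refine ⟨m, ?_, fun a b ha hb => ?_⟩
  · rw [← pow_two, ← orderOf_dvd_iff_pow_eq_one, ← Perm.lcm_cycleType, hm, Multiset.lcm_dvd]
    exact fun t ht => (Multiset.eq_of_mem_replicate ht).dvd
  · have h1 : m.supportᶜ.card ≤ 1 := by
      rw [Finset.card_compl, ← Perm.sum_cycleType, hm, Multiset.sum_replicate, smul_eq_mul]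
      omega
    rw [Finset.card_le_one] at h1
    exact h1 a (by simpa using ha) b (by simpa using hb)

theorem exists_pairing_sylow (P : Sylow 2 (Perm α)) :
    ∃ m : Perm α, Pairing m ∧ (P : Subgroup (Perm α)) ≤ Subgroup.centralizer {m} := by
  haveI : Fact (Nat.Prime 2) := ⟨Nat.prime_two⟩
  obtain ⟨m, hm⟩ := exists_pairing α
  obtain ⟨R⟩ := (inferInstance : Nonempty (Sylow 2 (Subgroup.centralizer ({m} : Set (Perm α)))))
  have hidx : ¬ 2 ∣ ((R : Subgroup (Subgroup.centralizer ({m} : Set (Perm α)))).map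
      (Subgroup.centralizer ({m} : Set (Perm α))).subtype).index := by
    rw [Subgroup.index_map_subtype]
    exact Nat.Prime.not_dvd_mul Nat.prime_two R.not_dvd_index (not_dvd_index hm)
  set R' := (R.isPGroup'.map _).toSylow hidx
  obtain ⟨g, hg⟩ := MulAction.exists_smul_eq (Perm α) R' P
  refine ⟨g * m * g⁻¹, hm.conj g, fun z hz => ?_⟩
  have hz' : z ∈ g • R' := by rw [hg]; exact hz
  obtain ⟨w, hw, rfl⟩ := hz'
  have hwm := Subgroup.mem_centralizer_singleton_iff.1 (Subgroup.map_subtype_le _ hw)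
  rw [Subgroup.mem_centralizer_singleton_iff]
  change g * w * g⁻¹ * (g * m * g⁻¹) = g * m * g⁻¹ * (g * w * g⁻¹)
  simp only [mul_assoc, inv_mul_cancel_left]
  rw [← mul_assoc w, hwm, mul_assoc]

theorem exists_sylow_le (hm : Pairing m) {x : Perm α} {e : ℕ} (he : orderOf x = 2 ^ e)
    (hx : x ∈ Subgroup.centralizer {m}) :
    ∃ P : Sylow 2 (Perm α), x ∈ P ∧ (P : Subgroup (Perm α)) ≤ Subgroup.centralizer {m} := by
  haveI : Fact (Nat.Prime 2) := ⟨Nat.prime_two⟩
  obtain ⟨R, hR⟩ := (IsPGroup.of_card (n := e)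
    (by rw [Nat.card_zpowers, Subgroup.orderOf_mk, he]) :
    IsPGroup 2 (Subgroup.zpowers (⟨x, hx⟩ : Subgroup.centralizer {m}))).exists_le_sylow
  have hidx : ¬ 2 ∣ ((R : Subgroup (Subgroup.centralizer ({m} : Set (Perm α)))).map
      (Subgroup.centralizer ({m} : Set (Perm α))).subtype).index := by
    rw [Subgroup.index_map_subtype]
    exact Nat.Prime.not_dvd_mul Nat.prime_two R.not_dvd_index (not_dvd_index hm)
  exact ⟨(R.isPGroup'.map _).toSylow hidx, ⟨⟨x, hx⟩, hR (Subgroup.mem_zpowers _), rfl⟩,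
    Subgroup.map_subtype_le _⟩

/-- A Sylow subgroup centralises only one pairing. -/
theorem pairing_of_sylow_unique (P : Sylow 2 (Perm α)) {m m' : Perm α} (hm : Pairing m)
    (hm' : Pairing m') (h : (P : Subgroup (Perm α)) ≤ Subgroup.centralizer {m})
    (h' : (P : Subgroup (Perm α)) ≤ Subgroup.centralizer {m'}) : m = m' := by
  haveI : Fact (Nat.Prime 2) := ⟨Nat.prime_two⟩
  have hker : (pairHom m).ker.map (Subgroup.centralizer ({m} : Set (Perm α))).subtype ≤ P := by
    have h1 := (P.isPGroup'.of_equiv (Subgroup.subgroupOfEquivOfLe h).symm).to_sup_of_normal_right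
      (isPGroup_ker hm)
    have h2 := P.is_maximal' (h1.map (Subgroup.centralizer ({m} : Set (Perm α))).subtype) (by
      rw [Subgroup.map_sup, Subgroup.map_subgroupOf_eq_of_le h]
      exact le_sup_left)
    rw [Subgroup.map_sup, Subgroup.map_subgroupOf_eq_of_le h] at h2
    exact le_trans le_sup_right h2.le
  have hswap : ∀ a, m' (swap a (m a) (m' a)) = swap a (m a) a := by
    intro a
    have hcen : swap a (m a) ∈ Subgroup.centralizer {m} := by
      rw [Subgroup.mem_centralizer_singleton_iff]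
      have h0 := Equiv.swap_apply_apply m a (m a)
      rw [hm.apply_apply, swap_comm (m a) a, eq_mul_inv_iff_mul_eq] at h0
      exact h0
    have hmem : (⟨swap a (m a), hcen⟩ : Subgroup.centralizer ({m} : Set (Perm α))) ∈
        (pairHom m).ker := by
      rw [MonoidHom.mem_ker]
      refine Equiv.ext fun ⟨s, b, hb, hs⟩ => Subtype.ext ?_
      subst hs
      simp only [pairHom, MonoidHom.coe_mk, OneHom.coe_mk, Equiv.coe_fn_mk, Perm.one_apply,
        Sym2.map_mk]
      by_cases h1 : b = a
      · subst h1; simp [Sym2.eq_swap]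
      by_cases h2 : b = m a
      · subst h2; simp [hm.apply_apply, Sym2.eq_swap]
      · have h3 : m b ≠ a := fun h0 => h2 (by rw [← h0, hm.apply_apply])
        have h4 : m b ≠ m a := m.injective.ne h1
        rw [swap_apply_of_ne_of_ne h1 h2, swap_apply_of_ne_of_ne h3 h4]
    have h5 := Subgroup.mem_centralizer_singleton_iff.1 (h' (hker ⟨_, hmem, rfl⟩))
    have h6 := congrArg (fun t : Perm α => t (m' a)) h5
    simp only [Perm.mul_apply, Subgroup.coe_subtype, hm'.apply_apply] at h6
    exact h6.symm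
  refine Equiv.ext fun a => ?_
  have h1 := hswap a
  rw [swap_apply_left] at h1
  by_cases h2 : m' a = a
  · rw [h2, swap_apply_left] at h1
    -- `h1 : m' (m a) = m a`
    rw [h2]
    exact hm'.2 _ _ h1 h2
  by_cases h3 : m' a = m a
  · exact h3.symm
  · rw [swap_apply_of_ne_of_ne h2 h3, hm'.apply_apply] at h1
    exfalso
    -- `a` is fixed by `m`
    have h4 := hswap (m' a)
    rw [swap_apply_left, hm'.apply_apply] at h4
    by_cases h5 : a = m (m' a)
    · exact h3 (by rw [← hm.apply_apply (m' a), ← h5])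
    · rw [swap_apply_of_ne_of_ne (Ne.symm h2) h5] at h4
      exact h2 (hm.2 _ _ h4.symm h1.symm)

/-- A good element lies in only one Sylow subgroup. -/
theorem unique_of_good (n : ℕ) : ∀ {α : Type u} [Fintype α] [DecidableEq α], Fintype.card α = n →
    ∀ {x : Perm α} {e : ℕ}, orderOf x = 2 ^ e → Good x →
      ∀ P P' : Sylow 2 (Perm α), x ∈ P → x ∈ P' → P = P' := by
  induction n using Nat.strong_induction_on with
  | _ n ih =>
    intro α _ _ hn x e he hx P P' hP hP'
    haveI : Fact (Nat.Prime 2) := ⟨Nat.prime_two⟩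
    rcases Nat.eq_zero_or_pos n with h0 | hpos
    · haveI : IsEmpty α := Fintype.card_eq_zero_iff.1 (hn.trans h0)
      exact Sylow.ext (Subgroup.ext fun g => by
        rw [Subsingleton.elim g 1]; exact iff_of_true (one_mem _) (one_mem _))
    obtain ⟨m, hm, hPm⟩ := exists_pairing_sylow P
    obtain ⟨m', hm', hPm'⟩ := exists_pairing_sylow P'
    have hmm : m = m' := hx.pairing_unique hm hm'
      (Subgroup.mem_centralizer_singleton_iff.1 (hPm hP)).symm
      (Subgroup.mem_centralizer_singleton_iff.1 (hPm' hP')).symm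
    subst hmm
    have hxm : x ∈ Subgroup.centralizer {m} := hPm hP
    have hy : ∃ e', orderOf (pairHom m ⟨x, hxm⟩) = 2 ^ e' := by
      obtain ⟨j, -, hj⟩ := (Nat.dvd_prime_pow Nat.prime_two).1
        ((orderOf_map_dvd (pairHom m) ⟨x, hxm⟩).trans (dvd_of_eq (by rw [Subgroup.orderOf_mk, he])))
      exact ⟨j, hj⟩
    obtain ⟨e', he'⟩ := hy
    have key : ∀ (S : Sylow 2 (Perm α)) (hS : (S : Subgroup (Perm α)) ≤ Subgroup.centralizer {m}),
        x ∈ S → ∃ R : Sylow 2 (Perm (Pairs m)), pairHom m ⟨x, hxm⟩ ∈ R ∧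
          (S : Subgroup (Perm α)) = ((R : Subgroup (Perm (Pairs m))).comap (pairHom m)).map
            (Subgroup.centralizer ({m} : Set (Perm α))).subtype := by
      intro S hS hxS
      obtain ⟨R, hR⟩ := ((S.isPGroup'.of_equiv (Subgroup.subgroupOfEquivOfLe hS).symm).map
        (pairHom m)).exists_le_sylow
      refine ⟨R, hR ⟨⟨x, hxm⟩, hxS, rfl⟩, ?_⟩
      symm
      refine S.is_maximal' ((R.isPGroup'.comap_of_ker_isPGroup _ (isPGroup_ker hm)).map _) ?_
      intro z hz
      exact ⟨⟨z, hS hz⟩, hR ⟨⟨z, hS hz⟩, hz, rfl⟩, rfl⟩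
    obtain ⟨R, hR, hPR⟩ := key P hPm hP
    obtain ⟨R', hR', hPR'⟩ := key P' hPm' hP'
    have hRR : R = R' := ih _ (hn ▸ card_pairs_lt hm (hn.symm ▸ hpos)) rfl he'
      (good_pairHom hm he hx hxm) R R' hR hR'
    exact Sylow.ext (by rw [hPR, hPR', hRR])

/-- A bad element lies in two Sylow subgroups. -/
theorem two_of_not_good {x : Perm α} {e : ℕ} (he : orderOf x = 2 ^ e) (hx : ¬ Good x) :
    ∃ P P' : Sylow 2 (Perm α), P ≠ P' ∧ x ∈ P ∧ x ∈ P' := by
  classical
  haveI : Fact (Nat.Prime 2) := ⟨Nat.prime_two⟩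
  obtain ⟨P₀, hP₀⟩ := (IsPGroup.of_card (n := e) (by rw [Nat.card_zpowers, he]) :
    IsPGroup 2 (Subgroup.zpowers x)).exists_le_sylow
  obtain ⟨m, hm, hmP⟩ := exists_pairing_sylow P₀
  have hmx : Commute m x :=
    (Subgroup.mem_centralizer_singleton_iff.1 (hmP (hP₀ (Subgroup.mem_zpowers x)))).symm
  suffices ∃ m' : Perm α, Pairing m' ∧ Commute m' x ∧ m' ≠ m by
    obtain ⟨m', hm', hmx', hne⟩ := this
    obtain ⟨P', hxP', hP'⟩ := exists_sylow_le hm' he
      (Subgroup.mem_centralizer_singleton_iff.2 hmx'.symm.eq)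
    exact ⟨P', P₀, fun h => hne (pairing_of_sylow_unique P' hm' hm hP' (h ▸ hmP)), hxP',
      hP₀ (Subgroup.mem_zpowers x)⟩
  have hconj : ∀ g : Perm α, Commute g x → ∀ z, g (m z) ≠ m (g z) →
      ∃ m' : Perm α, Pairing m' ∧ Commute m' x ∧ m' ≠ m := fun g hg z hz =>
    ⟨g * m * g⁻¹, hm.conj g, (hg.mul_left hmx).mul_left hg.inv_left, fun h => hz (by
      conv_rhs => rw [← h]
      simp)⟩
  rw [Good, not_and_or] at hx
  rcases hx with h1 | h1
  · push Not at h1
    obtain ⟨a, b, c, ha, hb, hc, hab, hac, hbc⟩ := h1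
    set g := swap a b * swap b c with hg
    have hgx : Commute g x := by
      have hsw : ∀ p q, x p = p → x q = q → Commute (swap p q) x := fun p q hp hq => by
        have h0 := Equiv.swap_apply_apply x p q
        rw [hp, hq, eq_mul_inv_iff_mul_eq] at h0
        exact h0
      exact (hsw a b ha hb).mul_left (hsw b c hb hc)
    have hga : g a = b := by
      simp [hg, swap_apply_of_ne_of_ne hab hac]
    have hgb : g b = c := by
      simp [hg, swap_apply_of_ne_of_ne (Ne.symm hac) (Ne.symm hbc)]
    have hgc : g c = a := by simp [hg]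
    have hgother : ∀ z, z ≠ a → z ≠ b → z ≠ c → g z = z := fun z z1 z2 z3 => by
      simp [hg, swap_apply_of_ne_of_ne z2 z3, swap_apply_of_ne_of_ne z1 z2]
    by_contra hcon
    have hcg : ∀ z, g (m z) = m (g z) := fun z => by
      by_contra hz; exact hcon (hconj g hgx z hz)
    have hma : m a ≠ a := fun h => hab (hm.2 _ _ h (by rw [← hga, ← hcg, h]))
    rcases (by by_contra hh; push Not at hh; exact (hgother (m a) hh.1 hh.2.1 hh.2.2 |> fun h2 => by
        rw [hcg, hga] at h2; exact hab (m.injective h2).symm) :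
        m a = a ∨ m a = b ∨ m a = c) with h2 | h2 | h2
    · exact hma h2
    · have h3 := hcg a
      rw [hga, h2, hgb] at h3
      rw [← h2, hm.apply_apply] at h3
      exact hac h3.symm
    · have h3 := hcg a
      rw [hga, h2, hgc] at h3
      rw [h3, hm.apply_apply] at h2
      exact hbc h2
  · push Not at h1
    obtain ⟨a, b, ha, hb, hper, hab⟩ := h1
    by_cases hout : ∃ c, x c ≠ c ∧ ¬ x.SameCycle c (m c)
    · obtain ⟨c, hc, hcm⟩ := hout
      refine hconj (x.cycleOf c) ?_ c ?_
      · refine Equiv.ext fun z => ?_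
        simp only [Perm.mul_apply, Perm.cycleOf_apply, Perm.sameCycle_apply_right]
        split <;> rfl
      · rw [Perm.cycleOf_apply, if_neg hcm, Perm.cycleOf_apply_self]
        exact fun h => hc (m.injective h).symm
    push Not at hout
    -- exchange the two cycles
    have hba : ∀ z, x.SameCycle a z → ¬ x.SameCycle b z := fun z h1 h2 => hab (h1.trans h2.symm)
    have hrep : ∀ z, x.SameCycle a z → ∀ i j, (x ^ i) a = z → (x ^ j) a = z → (x ^ i) b = (x ^ j) b := by
      intro z _ i j hi hj
      have key : ∀ i j : ℕ, i ≤ j → (x ^ i) a = (x ^ j) a → (x ^ i) b = (x ^ j) b := by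
        intro i j hij h
        obtain ⟨d, rfl⟩ := Nat.exists_eq_add_of_le hij
        rw [pow_add, Perm.mul_apply] at h ⊢
        have h2 : per x b ∣ d := hper ▸ (pow_fix_iff x a d).1 ((x ^ i).injective h).symm
        rw [(pow_fix_iff x b d).2 h2]
      rcases le_total i j with h | h
      · exact key i j h (hi.trans hj.symm)
      · exact (key j i h (hj.trans hi.symm)).symm
    have hrep' : ∀ i j, (x ^ i) b = (x ^ j) b → (x ^ i) a = (x ^ j) a := by
      have key : ∀ i j : ℕ, i ≤ j → (x ^ i) b = (x ^ j) b → (x ^ i) a = (x ^ j) a := by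
        intro i j hij h
        obtain ⟨d, rfl⟩ := Nat.exists_eq_add_of_le hij
        rw [pow_add, Perm.mul_apply] at h ⊢
        have h2 : per x a ∣ d := hper.symm ▸ (pow_fix_iff x b d).1 ((x ^ i).injective h).symm
        rw [(pow_fix_iff x a d).2 h2]
      intro i j hij
      rcases le_total i j with h | h
      · exact key i j h hij
      · exact (key j i h hij.symm).symm
    have hpow : ∀ (c : α) (i : ℕ), x.SameCycle c ((x ^ i) c) := fun c i =>
      ⟨(i : ℤ), by rw [zpow_natCast]⟩
    let hf : α → α := fun z =>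
      if h : x.SameCycle a z then (x ^ (exists_nat_pow h).choose) b
      else if h : x.SameCycle b z then (x ^ (exists_nat_pow h).choose) a else z
    have hfa : ∀ i : ℕ, hf ((x ^ i) a) = (x ^ i) b := by
      intro i
      simp only [hf, dif_pos (hpow a i)]
      exact hrep _ (hpow a i) _ _ (exists_nat_pow (hpow a i)).choose_spec rfl
    have hfb : ∀ i : ℕ, hf ((x ^ i) b) = (x ^ i) a := by
      intro i
      have h1 : ¬ x.SameCycle a ((x ^ i) b) := fun h => hba _ h (hpow b i)
      simp only [hf, dif_neg h1, dif_pos (hpow b i)]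
      exact hrep' _ _ (exists_nat_pow (hpow b i)).choose_spec
    have hcases : ∀ z, (∃ i : ℕ, (x ^ i) a = z) ∨ (∃ i : ℕ, (x ^ i) b = z) ∨
        (¬ x.SameCycle a z ∧ ¬ x.SameCycle b z ∧ hf z = z) := by
      intro z
      by_cases h1 : x.SameCycle a z
      · exact Or.inl (exists_nat_pow h1)
      by_cases h2 : x.SameCycle b z
      · exact Or.inr (Or.inl (exists_nat_pow h2))
      · exact Or.inr (Or.inr ⟨h1, h2, by simp only [hf, dif_neg h1, dif_neg h2]⟩)
    have hinv : Involutive hf := by
      intro z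
      rcases hcases z with ⟨i, rfl⟩ | ⟨i, rfl⟩ | ⟨-, -, h⟩
      · rw [hfa, hfb]
      · rw [hfb, hfa]
      · rw [h, h]
    set h := hinv.toPerm with hdef
    have happ : ∀ z, h z = hf z := fun z => rfl
    have hhx : Commute h x := by
      refine Equiv.ext fun z => ?_
      simp only [Perm.mul_apply, happ]
      rcases hcases z with ⟨i, rfl⟩ | ⟨i, rfl⟩ | ⟨h1, h2, h3⟩
      · rw [← Perm.mul_apply x, ← pow_succ', hfa, hfa, pow_succ', Perm.mul_apply]
      · rw [← Perm.mul_apply x, ← pow_succ', hfb, hfb, pow_succ', Perm.mul_apply]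
      · rw [h3]
        simp only [hf, Perm.sameCycle_apply_right, dif_neg h1, dif_neg h2]
    have hout' : ∀ c, x c ≠ c → ∃ i : ℕ, (x ^ i) c = m c := fun c hc => exists_nat_pow (hout c hc)
    obtain ⟨ia, hia⟩ := hout' a ha
    obtain ⟨ib, hib⟩ := hout' b hb
    have hiab : (x ^ ia) b = (x ^ ib) b := by
      have e1 : per x a ∣ 2 * ia := by
        rw [← pow_fix_iff, two_mul, pow_add, Perm.mul_apply, hia, ← comm_pow_apply hmx, hia,
          hm.apply_apply]
      have e2 : per x b ∣ 2 * ib := by
        rw [← pow_fix_iff, two_mul, pow_add, Perm.mul_apply, hib, ← comm_pow_apply hmx, hib,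
          hm.apply_apply]
      have e3 : ¬ per x a ∣ ia := fun hd => moved_apply hm hmx ha
        (by rw [← hia, (pow_fix_iff x a ia).2 hd])
      have e4 : ¬ per x b ∣ ib := fun hd => moved_apply hm hmx hb
        (by rw [← hib, (pow_fix_iff x b ib).2 hd])
      rw [hper] at e1 e3
      obtain ⟨d, hd⟩ := e1
      obtain ⟨d', hd'⟩ := e2
      rcases Nat.even_or_odd d with ⟨t, rfl⟩ | ⟨t, rfl⟩
      · exact absurd ⟨t, by linarith⟩ e3
      rcases Nat.even_or_odd d' with ⟨t', rfl⟩ | ⟨t', rfl⟩
      · exact absurd ⟨t', by linarith⟩ e4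
      have h5 : ia + per x b * t' = ib + per x b * t := by linarith
      have h6 := congrArg (fun k => (x ^ k) b) h5
      simp only [pow_add, Perm.mul_apply, (pow_fix_iff x b _).2 (dvd_mul_right _ _)] at h6
      exact h6
    have hhm : Commute h m := by
      refine Equiv.ext fun z => ?_
      simp only [Perm.mul_apply, happ]
      rcases hcases z with ⟨i, rfl⟩ | ⟨i, rfl⟩ | ⟨h1, h2, h3⟩
      · rw [comm_pow_apply hmx, ← hia, ← Perm.mul_apply, ← pow_add, hfa, hfa,
          comm_pow_apply hmx, ← hib, pow_add, Perm.mul_apply, hiab]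
      · rw [comm_pow_apply hmx, ← hib, ← Perm.mul_apply, ← pow_add, hfb, hfb,
          comm_pow_apply hmx, ← hia, pow_add, Perm.mul_apply, (hrep' ib ia hiab.symm)]
      · rw [h3]
        have hne : ∀ c, x c ≠ c → x.SameCycle c (m z) → x.SameCycle c z := fun c hc hcz => by
          obtain ⟨i, hi⟩ := exists_nat_pow hcz
          have hz' : (x ^ i) (m c) = z := by
            rw [← comm_pow_apply hmx, hi, hm.apply_apply]
          exact (hout c hc).trans (hz' ▸ hpow (m c) i)
        simp only [hf, dif_neg (fun h => h1 (hne a ha h)), dif_neg (fun h => h2 (hne b hb h))]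
    refine ⟨h * m, ⟨?_, ?_⟩, hhx.mul_left hmx, ?_⟩
    · rw [show h * m * (h * m) = h * (m * h) * m by group, ← hhm.eq,
        show h * (h * m) * m = (h * h) * (m * m) by group, hm.1, mul_one]
      exact Equiv.ext fun z => hinv z
    · intro p q hp hq
      have key : ∀ p, (h * m) p = p → m p = p := by
        intro p hp
        rw [Perm.mul_apply, happ] at hp
        rcases hcases p with ⟨i, hi⟩ | ⟨i, hi⟩ | ⟨h1, h2, h3⟩
        · exfalso
          rw [← hi, comm_pow_apply hmx, ← hia, ← Perm.mul_apply, ← pow_add, hfa] at hp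
          exact hba _ (hpow a i) (hp ▸ hpow b (i + ia))
        · exfalso
          rw [← hi, comm_pow_apply hmx, ← hib, ← Perm.mul_apply, ← pow_add, hfb] at hp
          exact hba _ (hp ▸ hpow a (i + ib)) (hpow b i)
        · have := congrArg h (hp : hf (m p) = p)
          rw [happ, happ, hinv, h3] at this
          exact this
      exact hm.2 p q (key p hp) (key q hq)
    · intro heq
      have h1 : h = 1 := mul_right_cancel (b := m) (heq.trans (one_mul m).symm)
      have h2 := hfa 0
      rw [← happ, h1] at h2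
      exact hab ⟨0, by simpa using h2⟩

theorem good_iff (x : Perm α) :
    Good x ↔ (Fintype.card α ≤ x.support.card + 2 ∧ x.cycleType.Nodup) := by
  classical
  have h1 : (∀ a b c : α, x a = a → x b = b → x c = c → a = b ∨ a = c ∨ b = c) ↔
      Fintype.card α ≤ x.support.card + 2 := by
    constructor
    · intro h
      by_contra hlt
      have h3 : 2 < x.supportᶜ.card := by rw [Finset.card_compl]; omega
      obtain ⟨a, b, c, ha, hb, hc, hab, hac, hbc⟩ := Finset.two_lt_card_iff.1 h3
      rcases h a b c (by simpa using ha) (by simpa using hb) (by simpa using hc) with e | e | e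
      exacts [hab e, hac e, hbc e]
    · intro h a b c ha hb hc
      by_contra hne
      push Not at hne
      have h3 : 2 < x.supportᶜ.card := Finset.two_lt_card_iff.2
        ⟨a, b, c, by simpa using ha, by simpa using hb, by simpa using hc, hne.1, hne.2.1, hne.2.2⟩
      rw [Finset.card_compl] at h3
      omega
  have hcard : ∀ a, x a ≠ a → (x.cycleOf a).support.card = per x a := by
    intro a ha
    have hc := Perm.isCycle_cycleOf x ha
    have key : ∀ j, (x.cycleOf a).support.card ∣ j ↔ per x a ∣ j := fun j => by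
      rw [← hc.orderOf, orderOf_dvd_iff_pow_eq_one, ← pow_fix_iff,
        hc.pow_eq_one_iff' (x := a) (by rwa [Perm.cycleOf_apply_self]),
        Perm.cycleOf_pow_apply_self]
    exact Nat.dvd_antisymm ((key _).2 dvd_rfl) ((key _).1 dvd_rfl)
  have h2 : (∀ a b : α, x a ≠ a → x b ≠ b → per x a = per x b → x.SameCycle a b) ↔
      x.cycleType.Nodup := by
    rw [Perm.cycleType_def, Multiset.nodup_map_iff_inj_on x.cycleFactorsFinset.nodup]
    constructor
    · intro h c hc d hd hcd
      obtain ⟨hcc, hcx⟩ := Perm.mem_cycleFactorsFinset_iff.1 hc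
      obtain ⟨hdc, hdx⟩ := Perm.mem_cycleFactorsFinset_iff.1 hd
      obtain ⟨a, ha⟩ := hcc.nonempty_support
      obtain ⟨b, hb⟩ := hdc.nonempty_support
      have ec := Perm.cycle_is_cycleOf ha hc
      have ed := Perm.cycle_is_cycleOf hb hd
      have ha' : x a ≠ a := by rw [← hcx a ha]; exact Perm.mem_support.1 ha
      have hb' : x b ≠ b := by rw [← hdx b hb]; exact Perm.mem_support.1 hb
      have hp : per x a = per x b := by
        rw [← hcard a ha', ← hcard b hb', ← ec, ← ed]; exact hcd
      rw [ec, ed]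
      exact (h a b ha' hb' hp).cycleOf_eq
    · intro h a b ha hb hab
      have := h (x.cycleOf a)
        (Perm.cycleOf_mem_cycleFactorsFinset_iff.2 (Perm.mem_support.2 ha))
        (x.cycleOf b)
        (Perm.cycleOf_mem_cycleFactorsFinset_iff.2 (Perm.mem_support.2 hb))
        (by simp only [Function.comp_apply]; rw [hcard a ha, hcard b hb, hab])
      have hb2 : b ∈ (x.cycleOf a).support := by
        rw [this, Perm.mem_support, Perm.cycleOf_apply_self]; exact hb
      exact (Perm.mem_support_cycleOf_iff.1 hb2).1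
  unfold Good
  rw [h1, h2]

/-- Let n ≥ 2 and let x be an element of 2-power order of the symmetric group of degree n. Then x lies in exactly one Sylow 2-subgroup if and only if x has at most two fixed points and the nontrivial cycles of x have pairwise different lengths. -/
theorem result (n : ℕ) (hn : 2 ≤ n)
    (x : Equiv.Perm (Fin n)) (hx : ∃ k : ℕ, orderOf x = 2 ^ k) :
    (∃! P : Sylow 2 (Equiv.Perm (Fin n)), x ∈ P) ↔ (n ≤ x.support.card + 2 ∧ x.cycleType.Nodup) := by
  obtain ⟨k, hk⟩ := hx
  haveI : Fact (Nat.Prime 2) := ⟨Nat.prime_two⟩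
  have hg := good_iff x
  rw [Fintype.card_fin] at hg
  rw [← hg]
  constructor
  · rintro ⟨P, -, huniq⟩
    by_contra hbad
    obtain ⟨P₁, P₂, hne, h1, h2⟩ := two_of_not_good hk hbad
    exact hne ((huniq P₁ h1).trans (huniq P₂ h2).symm)
  · intro hgood
    obtain ⟨P, hP⟩ := (IsPGroup.of_card (n := k) (by rw [Nat.card_zpowers, hk]) :
      IsPGroup 2 (Subgroup.zpowers x)).exists_le_sylow
    exact ⟨P, hP (Subgroup.mem_zpowers x),
      fun Q hQ => unique_of_good n (Fintype.card_fin n) hk hgood Q P hQ (hP (Subgroup.mem_zpowers x))⟩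

end Cfsg.Agent.S4349
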