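import Cfsg.Statements.S4354
-- import your own Cfsg.Agent.* helpers here

set_option autoImplicit false
open Cfsg

namespace Cfsg.Agent.S4354

/-- p'-class condition, Sylow form. -/
lemma exists_sylow_le {G : Type*} [Group G] [Finite G] {p : ℕ} [Fact p.Prime] (x : G)
    (hx : ¬ p ∣ (Subgroup.centralizer ({x} : Set G)).index) :
    ∃ R : Sylow p G, (R : Subgroup G) ≤ Subgroup.centralizer ({x} : Set G) := by
  set C := Subgroup.centralizer ({x} : Set G)
  obtain ⟨T⟩ := (inferInstance : Nonempty (Sylow p C))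
  have hT : IsPGroup p ((T : Subgroup C).map C.subtype) := T.2.map _
  have hi : ¬ p ∣ ((T : Subgroup C).map C.subtype).index := by
    rw [Subgroup.index_map_subtype]
    exact Nat.Prime.not_dvd_mul Fact.out T.not_dvd_index hx
  exact ⟨hT.toSylow hi, Subgroup.map_subtype_le _⟩

lemma not_dvd_index_of_sylow_le {G : Type*} [Group G] [Finite G] {p : ℕ} [Fact p.Prime]
    {H : Subgroup G} (R : Sylow p G) (h : (R : Subgroup G) ≤ H) : ¬ p ∣ H.index :=
  fun hd => R.not_dvd_index (hd.trans (Subgroup.index_dvd_of_le h))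

lemma relIndex_dvd_index_of_normal_right {G : Type*} [Group G] [Finite G] (R N : Subgroup G)
    [N.Normal] : R.relIndex N ∣ R.index := by
  have e1 : R.relIndex N * N.index = (R ⊓ N).index := by
    rw [← Subgroup.inf_relIndex_right R N, Subgroup.relIndex_mul_index inf_le_right]
  have e2 : N.relIndex R * R.index = (R ⊓ N).index := by
    rw [← Subgroup.inf_relIndex_left R N, Subgroup.inf_relIndex_left,
      ← Subgroup.inf_relIndex_left R N, Subgroup.relIndex_mul_index inf_le_left]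
  have h3 : N.relIndex R ∣ N.index := Subgroup.relIndex_dvd_index_of_normal N R
  have h4 : R.relIndex N * N.index ∣ N.index * R.index := by
    rw [e1, ← e2]; exact Nat.mul_dvd_mul h3 dvd_rfl
  rw [mul_comm N.index R.index] at h4
  exact Nat.dvd_of_mul_dvd_mul_right (Nat.pos_of_ne_zero Subgroup.index_ne_zero_of_finite) h4

lemma cls_subgroup {G : Type*} [Group G] [Finite G] {p : ℕ} [Fact p.Prime] (N : Subgroup G)
    [N.Normal]
    (hc : ∀ x : G, (∃ k : ℕ, orderOf x = p ^ k) →
      ¬ p ∣ (Subgroup.centralizer ({x} : Set G)).index)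
    (x : N) (hx : ∃ k : ℕ, orderOf x = p ^ k) :
    ¬ p ∣ (Subgroup.centralizer ({x} : Set N)).index := by
  obtain ⟨k, hk⟩ := hx
  obtain ⟨R, hR⟩ := exists_sylow_le (p := p) (x : G)
    (hc _ ⟨k, by rw [Subgroup.orderOf_coe]; exact hk⟩)
  obtain ⟨T⟩ := (inferInstance : Nonempty (Sylow p N))
  have hTp : IsPGroup p ((R : Subgroup G).subgroupOf N) :=
    R.2.comap_of_injective N.subtype Subtype.coe_injective
  have hTi : ¬ p ∣ ((R : Subgroup G).subgroupOf N).index := by
    intro hd
    have h1 : ((R : Subgroup G).subgroupOf N).index ∣ (R : Subgroup G).index :=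
      relIndex_dvd_index_of_normal_right (R : Subgroup G) N
    exact R.not_dvd_index (hd.trans h1)
  refine not_dvd_index_of_sylow_le (hTp.toSylow hTi) ?_
  intro y hy
  have h2 := hR (show (y : G) ∈ (R : Subgroup G) from hy)
  rw [Subgroup.mem_centralizer_singleton_iff] at h2 ⊢
  exact Subtype.ext h2

lemma cls_quotient {G : Type*} [Group G] [Finite G] {p : ℕ} [Fact p.Prime] (N : Subgroup G)
    [N.Normal]
    (hc : ∀ x : G, (∃ k : ℕ, orderOf x = p ^ k) →
      ¬ p ∣ (Subgroup.centralizer ({x} : Set G)).index)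
    (x : G ⧸ N) (hx : ∃ k : ℕ, orderOf x = p ^ k) :
    ¬ p ∣ (Subgroup.centralizer ({x} : Set (G ⧸ N))).index := by
  obtain ⟨k, hk⟩ := hx
  have hp : IsPGroup p (Subgroup.zpowers x) := by
    refine IsPGroup.of_card (n := k) ?_
    rw [Nat.card_zpowers, hk]
  obtain ⟨Qb, hQb⟩ := hp.exists_le_sylow
  have hf := QuotientGroup.mk'_surjective N
  obtain ⟨P, hP⟩ := Sylow.mapSurjective_surjective hf p Qb
  have hxP : x ∈ (P : Subgroup G).map (QuotientGroup.mk' N) := by
    rw [← Sylow.coe_mapSurjective hf P, hP]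
    exact hQb (Subgroup.mem_zpowers x)
  obtain ⟨r, hr, rfl⟩ := hxP
  obtain ⟨j, hj⟩ := IsPGroup.iff_orderOf.mp P.2 ⟨r, hr⟩
  obtain ⟨R, hR⟩ := exists_sylow_le (p := p) r (hc r ⟨j, by rw [← hj, Subgroup.orderOf_mk]⟩)
  refine not_dvd_index_of_sylow_le (R.mapSurjective hf) ?_
  rw [Sylow.coe_mapSurjective, Subgroup.map_le_iff_le_comap]
  intro y hy
  have h2 := hR hy
  rw [Subgroup.mem_centralizer_singleton_iff] at h2
  rw [Subgroup.mem_comap, Subgroup.mem_centralizer_singleton_iff]
  show QuotientGroup.mk' N y * QuotientGroup.mk' N r = QuotientGroup.mk' N r * QuotientGroup.mk' N y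
  rw [← map_mul, ← map_mul, h2]

lemma sylow_comm {G : Type*} [Group G] [Finite G] {p : ℕ} [Fact p.Prime] (N : Subgroup G)
    [N.Normal]
    (hc : ∀ x : G, (∃ k : ℕ, orderOf x = p ^ k) →
      ¬ p ∣ (Subgroup.centralizer ({x} : Set G)).index)
    (P : Sylow p G) (hN : ∀ T : Sylow p N, IsMulCommutative T)
    (hQ : ∀ T : Sylow p (G ⧸ N), IsMulCommutative T) : IsMulCommutative P := by
  have hf := QuotientGroup.mk'_surjective N
  set Pb := P.mapSurjective hf with hPb
  haveI := hQ Pb
  have hPN : ∀ a ∈ (P : Subgroup G), ∀ b ∈ (P : Subgroup G), a ∈ N → b ∈ N → a * b = b * a := by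
    intro a ha b hb haN hbN
    have hp : IsPGroup p ((P : Subgroup G).subgroupOf N) :=
      P.2.comap_of_injective N.subtype Subtype.coe_injective
    obtain ⟨T, hT⟩ := hp.exists_le_sylow
    haveI := hN T
    have hco := mul_comm' (⟨⟨a, haN⟩, hT ha⟩ : (T : Subgroup N)) ⟨⟨b, hbN⟩, hT hb⟩
    exact congrArg (fun t : (T : Subgroup N) => ((t : N) : G)) hco
  have key : ∀ x ∈ (P : Subgroup G), ∃ a c : G, x = a * c ∧ a ∈ (P : Subgroup G) ∧ a ∈ N ∧
      c ∈ (P : Subgroup G) ∧ ∀ y ∈ (P : Subgroup G), y * c = c * y := by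
    intro x hx
    obtain ⟨j, hj⟩ := IsPGroup.iff_orderOf.mp P.2 ⟨x, hx⟩
    obtain ⟨R, hR⟩ := exists_sylow_le (p := p) x (hc x ⟨j, by rw [← hj, Subgroup.orderOf_mk]⟩)
    have hxR : x ∈ (R : Subgroup G) := by
      have hzp : IsPGroup p (Subgroup.zpowers x) := P.2.to_le ((Subgroup.zpowers_le).mpr hx)
      have hn : Subgroup.zpowers x ≤ Subgroup.normalizer ((R : Subgroup G) : Set G) := by
        rw [Subgroup.zpowers_le]
        refine Subgroup.centralizer_le_normalizer _ ?_
        rw [Subgroup.mem_centralizer_iff]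
        intro y hy
        exact Subgroup.mem_centralizer_singleton_iff.mp (hR hy)
      have hsup : IsPGroup p ↥((R : Subgroup G) ⊔ Subgroup.zpowers x) :=
        R.2.to_sup_of_normal_left' hzp hn
      exact (R.3 hsup le_sup_left) ▸ (show x ∈ (R : Subgroup G) ⊔ Subgroup.zpowers x from
        Subgroup.mem_sup_right (Subgroup.mem_zpowers x))
    obtain ⟨g, hg⟩ := MulAction.exists_smul_eq G P R
    set z := g⁻¹ * x * g with hz
    have conjR : ∀ y ∈ (P : Subgroup G), g * y * g⁻¹ ∈ (R : Subgroup G) := by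
      intro y hy
      rw [← hg, Sylow.coe_subgroup_smul, Subgroup.mem_pointwise_smul_iff_inv_smul_mem]
      simpa [MulAut.smul_def, MulAut.conj_symm_apply, mul_assoc] using hy
    have hzP : z ∈ (P : Subgroup G) := by
      have h2 := hxR
      rw [← hg, Sylow.coe_subgroup_smul, Subgroup.mem_pointwise_smul_iff_inv_smul_mem] at h2
      simpa [MulAut.smul_def, MulAut.conj_symm_apply, mul_assoc, hz] using h2
    have hzc : ∀ y ∈ (P : Subgroup G), y * z = z * y := by
      intro y hy
      have h2 : g * y * g⁻¹ * x = x * (g * y * g⁻¹) :=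
        Subgroup.mem_centralizer_singleton_iff.mp (hR (conjR y hy))
      calc y * z = g⁻¹ * (g * y * g⁻¹ * x) * g := by rw [hz]; group
        _ = g⁻¹ * (x * (g * y * g⁻¹)) * g := by rw [h2]
        _ = z * y := by rw [hz]; group
    set π := QuotientGroup.mk' N
    have hmem : ∀ y ∈ (P : Subgroup G), π y ∈ Pb := fun y hy => Subgroup.mem_map_of_mem π hy
    obtain ⟨nb, hnb, heq⟩ := Pb.conj_eq_normalizer_conj_of_mem (π x) (π g) (hmem x hx)
      (by rw [← map_inv, ← map_mul, ← map_mul]; exact hmem z hzP)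
    obtain ⟨m, rfl⟩ := hf nb
    set K : Subgroup G := ((Pb : Subgroup (G ⧸ N))).comap π
    have hPK : (P : Subgroup G) ≤ K := fun y hy => hmem y hy
    have hmK : ((m • P : Sylow p G) : Subgroup G) ≤ K := by
      intro y hy
      rw [Sylow.coe_subgroup_smul, Subgroup.mem_pointwise_smul_iff_inv_smul_mem] at hy
      have h3 : π (m⁻¹ * y * m) ∈ Pb := hmem _ (by
        simpa [MulAut.smul_def, MulAut.conj_symm_apply, mul_assoc] using hy)
      rw [map_mul, map_mul, map_inv] at h3
      exact (Subgroup.mem_set_normalizer_iff''.mp hnb (π y)).mpr h3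
    obtain ⟨k, hk⟩ := MulAction.exists_smul_eq K (P.subtype hPK) ((m • P).subtype hmK)
    rw [Sylow.smul_subtype] at hk
    have hk' : (k : G) • P = m • P := Sylow.subtype_injective hk
    set n := (k : G)⁻¹ * m with hn
    have hnN : n ∈ Subgroup.normalizer ((P : Subgroup G) : Set G) := by
      refine (Sylow.smul_eq_iff_mem_normalizer (P := P)).mp ?_
      rw [hn, mul_smul, ← hk', inv_smul_smul]
    have hconj : ∀ y : G, y ∈ (P : Subgroup G) ↔ n * y * n⁻¹ ∈ (P : Subgroup G) :=
      Subgroup.mem_set_normalizer_iff.mp hnN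
    have hkP : π (k : G) ∈ Pb := k.2
    have hm : π m = π (k : G) * π n := by rw [← map_mul, hn]; simp
    have hcx : π x * π (k : G) = π (k : G) * π x :=
      congrArg Subtype.val (mul_comm' (⟨π x, hmem x hx⟩ : (Pb : Subgroup (G ⧸ N))) ⟨_, hkP⟩)
    have heq' : π z = π (n⁻¹ * x * n) := by
      rw [hz, map_mul, map_mul, map_inv, heq, hm, map_mul, map_mul, map_inv, mul_inv_rev]
      calc (π n)⁻¹ * (π (k : G))⁻¹ * π x * (π (k : G) * π n)
          = (π n)⁻¹ * (π (k : G))⁻¹ * (π x * π (k : G)) * π n := by group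
        _ = (π n)⁻¹ * (π (k : G))⁻¹ * (π (k : G) * π x) * π n := by rw [hcx]
        _ = (π n)⁻¹ * π x * π n := by group
    refine ⟨x * (n * z * n⁻¹)⁻¹, n * z * n⁻¹, by group, ?_, ?_, (hconj z).mp hzP, ?_⟩
    · exact mul_mem hx (inv_mem ((hconj z).mp hzP))
    · rw [← QuotientGroup.eq_one_iff]
      show π (x * (n * z * n⁻¹)⁻¹) = 1
      have h9 : π (n * z * n⁻¹) = π x := by
        rw [map_mul, map_mul, heq', ← map_mul, ← map_mul]
        congr 1; group
      rw [map_mul, map_inv, h9, mul_inv_cancel]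
    · intro y hy
      have hy' : n⁻¹ * y * n ∈ (P : Subgroup G) := by
        rw [hconj]; simpa [mul_assoc] using hy
      calc y * (n * z * n⁻¹) = n * ((n⁻¹ * y * n) * z) * n⁻¹ := by group
        _ = n * (z * (n⁻¹ * y * n)) * n⁻¹ := by rw [hzc _ hy']
        _ = n * z * n⁻¹ * y := by group
  refine ⟨⟨fun u v => ?_⟩⟩
  apply Subtype.ext
  obtain ⟨a, c, h1, ha, haN, hcP, hcc⟩ := key u u.2
  obtain ⟨b, d, h2, hb, hbN, hdP, hdc⟩ := key v v.2
  show (u : G) * (v : G) = (v : G) * (u : G)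
  calc (u : G) * (v : G) = a * c * (b * d) := by rw [h1, h2]
    _ = a * (c * b) * d := by group
    _ = a * (b * c) * d := by rw [hcc b hb]
    _ = (a * b) * (c * d) := by group
    _ = (b * a) * (d * c) := by rw [hPN a ha b hb haN hbN, hdc c hcP]
    _ = b * (a * d) * c := by group
    _ = b * (d * a) * c := by rw [hdc a ha]
    _ = (v : G) * (u : G) := by rw [h1, h2]; group

/-- Let G be a finite group and p a prime such that the Sylow p-subgroups of G are non-abelian while every element of p-power order has conjugacy class size prime to p, and suppose no nontrivial proper normal subgroup N of G has this property and no quotient G/N by such an N has it. Then G is simple. -/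
theorem result {G : Type*} [Group G] [Finite G]
    (p : ℕ) [Fact p.Prime] (h : ((∃ P : Sylow p G, ¬ IsMulCommutative P) ∧ ∀ x : G, (∃ k : ℕ, orderOf x = p ^ k) → ¬ p ∣ (Subgroup.centralizer ({x} : Set G)).index))
    (hmin : ∀ (N : Subgroup G) [N.Normal], N ≠ ⊥ → N ≠ ⊤ →
      ¬ ((∃ P : Sylow p N, ¬ IsMulCommutative P) ∧ ∀ x : N, (∃ k : ℕ, orderOf x = p ^ k) → ¬ p ∣ (Subgroup.centralizer ({x} : Set N)).index) ∧
      ¬ ((∃ P : Sylow p (G ⧸ N), ¬ IsMulCommutative P) ∧ ∀ x : (G ⧸ N), (∃ k : ℕ, orderOf x = p ^ k) → ¬ p ∣ (Subgroup.centralizer ({x} : Set (G ⧸ N))).index)) :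
    IsSimpleGroup G := by
  obtain ⟨⟨P, hP⟩, hc⟩ := h
  haveI : Nontrivial G := by
    rcases subsingleton_or_nontrivial G with hG | hG
    · exact absurd ⟨⟨fun a b => Subtype.ext (Subsingleton.elim _ _)⟩⟩ hP
    · exact hG
  refine ⟨fun N hN => ?_⟩
  by_contra hcon
  rw [not_or] at hcon
  haveI := hN
  obtain ⟨h1, h2⟩ := hmin N hcon.1 hcon.2
  refine hP (sylow_comm N hc P (fun T => ?_) (fun T => ?_))
  · by_contra hT
    exact h1 ⟨⟨T, hT⟩, fun x hx => cls_subgroup N hc x hx⟩
  · by_contra hT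
    exact h2 ⟨⟨T, hT⟩, fun x hx => cls_quotient N hc x hx⟩

end Cfsg.Agent.S4354
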