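import Cfsg.Statements.S4358
import Mathlib.LinearAlgebra.Matrix.GeneralLinearGroup.Card
import Mathlib.LinearAlgebra.Vandermonde
import Mathlib.NumberTheory.Multiplicity

set_option autoImplicit false
set_option linter.style.haveILetI false
set_option linter.unusedSectionVars false
set_option linter.unusedSimpArgs false
open Cfsg

namespace Cfsg.Agent.S4358

open scoped Pointwise

variable {F : Type*} [Field F] {p : ℕ} [NeZero p]

/-- The monomial matrix with entry `a r` at `(r, r + i)`. -/
def monoMat (a : Fin p → F) (i : Fin p) : Matrix (Fin p) (Fin p) F :=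
  Matrix.of fun r c => if c = r + i then a r else 0

theorem monoMat_mul (a b : Fin p → F) (i j : Fin p) :
    monoMat a i * monoMat b j = monoMat (fun r => a r * b (r + i)) (i + j) := by
  ext r c
  rw [Matrix.mul_apply, Finset.sum_eq_single (r + i)]
  · simp [monoMat, add_assoc]
  · intro s _ hs
    simp [monoMat, hs]
  · simp

theorem monoMat_one : monoMat (fun _ : Fin p => (1 : F)) 0 = 1 := by
  ext r c
  simp [monoMat, Matrix.one_apply, eq_comm]

/-- The monomial unit. -/
def gl (a : Fin p → Fˣ) (i : Fin p) : GL (Fin p) F where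
  val := monoMat (fun r => (a r : F)) i
  inv := monoMat (fun r => ((a (r - i))⁻¹ : Fˣ)) (-i)
  val_inv := by
    rw [monoMat_mul, add_neg_cancel]
    simp only [add_sub_cancel_right, ← Units.val_mul, mul_inv_cancel, Units.val_one, monoMat_one]
  inv_val := by
    rw [monoMat_mul, neg_add_cancel]
    simp only [← sub_eq_add_neg, ← Units.val_mul, inv_mul_cancel, Units.val_one, monoMat_one]

theorem gl_apply (a : Fin p → Fˣ) (i r c : Fin p) :
    (gl a i).val r c = if c = r + i then (a r : F) else 0 := rfl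

theorem gl_mul (a b : Fin p → Fˣ) (i j : Fin p) :
    gl a i * gl b j = gl (fun r => a r * b (r + i)) (i + j) :=
  Units.ext (monoMat_mul _ _ i j)

theorem gl_one : gl (fun _ : Fin p => (1 : Fˣ)) 0 = 1 :=
  Units.ext monoMat_one

theorem gl_inj {a b : Fin p → Fˣ} {i j : Fin p} (h : gl a i = gl b j) : a = b ∧ i = j := by
  have h1 : ∀ r c, (if c = r + i then (a r : F) else 0) = if c = r + j then (b r : F) else 0 :=
    fun r c => congrArg (fun g : GL (Fin p) F => g.val r c) h
  have hij : i = j := by
    by_contra hne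
    have := h1 0 (0 + i)
    rw [if_pos rfl, if_neg (fun h' => hne (add_left_cancel h'))] at this
    exact (a 0).ne_zero this
  subst hij
  exact ⟨funext fun r => Units.ext (by simpa using h1 r (r + i)), rfl⟩

theorem gl_pow (a : Fin p → Fˣ) (i : Fin p) (n : ℕ) :
    gl a i ^ n = gl (fun r => ∏ k ∈ Finset.range n, a (r + k • i)) (n • i) := by
  induction n with
  | zero => rw [pow_zero, zero_nsmul, ← gl_one]; simp
  | succ n ih =>
    rw [pow_succ, ih, gl_mul, succ_nsmul]
    congr 1
    funext r
    rw [Finset.prod_range_succ]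

variable (F p) in
/-- The monomial `p`-subgroup. -/
def monoSub : Subgroup (GL (Fin p) F) where
  carrier := {g | ∃ (a : Fin p → Fˣ) (i : Fin p), (∀ r, a r ^ p = 1) ∧ g = gl a i}
  one_mem' := ⟨_, 0, fun _ => one_pow p, gl_one.symm⟩
  mul_mem' := by
    rintro _ _ ⟨a, i, ha, rfl⟩ ⟨b, j, hb, rfl⟩
    exact ⟨_, _, fun r => by rw [mul_pow, ha, hb, one_mul], gl_mul a b i j⟩
  inv_mem' := by
    rintro _ ⟨a, i, ha, rfl⟩
    refine ⟨fun r => (a (r - i))⁻¹, -i, fun r => by rw [inv_pow, ha, inv_one], ?_⟩
    exact Units.ext rfl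

theorem exists_nsmul_eq [hp : Fact p.Prime] {i : Fin p} (hi : i ≠ 0) (r : Fin p) :
    ∃ n : ℕ, n • i = r := by
  have h : AddSubgroup.zmultiples i = ⊤ := zmultiples_eq_top_of_prime_card (p := p) (by simp) hi
  have hr : r ∈ AddSubgroup.zmultiples i := h ▸ AddSubgroup.mem_top r
  exact (AddSubmonoid.mem_multiples_iff r i).1 (mem_multiples_iff_mem_zmultiples.2 hr)

theorem nsmul_one_eq (n : ℕ) (hp : 1 < p) : ((n • (1 : Fin p) : Fin p) : ℕ) = n % p := by
  induction n with
  | zero => simp
  | succ n ih =>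
    rw [succ_nsmul, Fin.val_add, ih, Fin.val_one', Nat.mod_eq_of_lt hp, Nat.mod_add_mod]

theorem val_nsmul_one (hp : 1 < p) (r : Fin p) : (r : ℕ) • (1 : Fin p) = r := by
  apply Fin.ext
  rw [nsmul_one_eq _ hp, Nat.mod_eq_of_lt r.2]

theorem pow_val_add {M : Type*} [Monoid M] (x : M) (hx : x ^ p = 1) (r s : Fin p) :
    x ^ ((r + s : Fin p) : ℕ) = x ^ (r : ℕ) * x ^ (s : ℕ) := by
  rw [← pow_add, Fin.val_add]
  exact (pow_eq_pow_mod _ hx).symm

section Sylow

variable [Fintype F] [hp : Fact p.Prime]

theorem exists_zeta (h1 : p ∣ Fintype.card F - 1) : ∃ z : Fˣ, orderOf z = p :=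
  exists_prime_orderOf_dvd_card' p (by
    rwa [Nat.card_units, Nat.card_eq_fintype_card])

theorem eq_pow_of_zeta {z : Fˣ} (hz : orderOf z = p) {u : Fˣ} (hu : u ^ p = 1) :
    ∃ k : Fin p, u = z ^ (k : ℕ) := by
  have hprim : IsPrimitiveRoot (z : F) p := by
    rw [← hz]
    exact IsPrimitiveRoot.coe_units_iff.2 (IsPrimitiveRoot.orderOf z)
  obtain ⟨k, hk, hk'⟩ := hprim.eq_pow_of_pow_eq_one (ξ := (u : F))
    (by rw [← Units.val_pow_eq_pow_val, hu, Units.val_one])
  exact ⟨⟨k, hk⟩, Units.ext (by rw [Units.val_pow_eq_pow_val]; exact hk'.symm)⟩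

theorem card_monoSub {z : Fˣ} (hz : orderOf z = p) :
    Nat.card (monoSub F p) = p ^ (p + 1) := by
  have hzp : z ^ p = 1 := hz ▸ pow_orderOf_eq_one z
  let ψ : (Fin p → Fin p) × Fin p → monoSub F p := fun x =>
    ⟨gl (fun r => z ^ (x.1 r : ℕ)) x.2, _, _,
      fun r => by rw [← pow_mul, mul_comm, pow_mul, hzp, one_pow], rfl⟩
  have hbij : Function.Bijective ψ := by
    refine ⟨fun x y h => ?_, fun ⟨g, a, i, ha, hg⟩ => ?_⟩
    · obtain ⟨h1, h2⟩ := gl_inj (congrArg Subtype.val h)
      refine Prod.ext (funext fun r => Fin.ext ?_) h2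
      exact pow_injOn_Iio_orderOf (by rw [hz]; exact (x.1 r).2) (by rw [hz]; exact (y.1 r).2)
        (congrFun h1 r)
    · choose k hk using fun r => eq_pow_of_zeta hz (ha r)
      refine ⟨(k, i), Subtype.ext ?_⟩
      change gl _ i = g
      rw [hg]
      congr 1
      exact funext fun r => (hk r).symm
  rw [← Nat.card_congr (Equiv.ofBijective ψ hbij), Nat.card_prod, Nat.card_fun, Nat.card_fin,
    pow_succ]

theorem factorization_card_GL (hp2 : p ≠ 2) (h1 : p ∣ Fintype.card F - 1)
    (h2 : ¬ p ^ 2 ∣ Fintype.card F - 1) :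
    (Nat.card (GL (Fin p) F)).factorization p = p + 1 := by
  set q := Fintype.card F with hq
  have hq1 : 1 < q := Fintype.one_lt_card
  have hpq : ¬ p ∣ q := fun h => hp.out.ne_one (Nat.eq_one_of_dvd_one
    (by simpa [Nat.sub_sub_self hq1.le] using Nat.dvd_sub h h1))
  have hodd : Odd p := hp.out.odd_of_ne_two hp2
  have hv1 : padicValNat p (q - 1) = 1 := by
    have hne : q - 1 ≠ 0 := by omega
    refine le_antisymm ?_ (one_le_padicValNat_of_dvd hne h1)
    by_contra hlt
    exact h2 ((padicValNat_dvd_iff_le hne).2 (by omega))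
  have hterm : ∀ i : Fin p, (q ^ p - q ^ (i : ℕ)).factorization p
      = 1 + padicValNat p (p - i) := by
    intro i
    have hsplit : q ^ p - q ^ (i : ℕ) = q ^ (i : ℕ) * (q ^ (p - i) - 1) := by
      rw [Nat.mul_sub, mul_one, ← pow_add, Nat.add_sub_cancel' i.2.le]
    have hne : q ^ (p - i) - 1 ≠ 0 := Nat.sub_ne_zero_of_lt (Nat.one_lt_pow (by omega) hq1)
    rw [hsplit, Nat.factorization_mul (pow_ne_zero _ (by omega)) hne, Finsupp.add_apply,
      Nat.factorization_eq_zero_of_not_dvd (fun h => hpq (hp.out.dvd_of_dvd_pow h)), zero_add,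
      Nat.factorization_def _ hp.out]
    have := padicValNat.pow_sub_pow hodd hq1 h1 hpq (show p - (i : ℕ) ≠ 0 by omega)
    rw [one_pow, hv1] at this
    exact this
  rw [Matrix.card_GL_field, Nat.factorization_prod (fun i _ => Nat.sub_ne_zero_of_lt
      (Nat.pow_lt_pow_right hq1 i.2)), Finsupp.finsetSum_apply, Finset.sum_congr rfl
      (fun i _ => hterm i), Finset.sum_add_distrib, Finset.sum_const, Finset.card_univ,
    Fintype.card_fin, smul_eq_mul, mul_one, Finset.sum_eq_single (0 : Fin p)]
  · simp [padicValNat_self, hp.out.one_lt]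
  · intro i _ hi
    refine padicValNat.eq_zero_of_not_dvd fun hd => ?_
    have h0 : (i : ℕ) ≠ 0 := fun h => hi (Fin.ext (h.trans (by simp)))
    have := Nat.le_of_dvd (by omega) hd
    omega
  · simp

theorem not_dvd_index_monoSub {z : Fˣ} (hz : orderOf z = p) (hp2 : p ≠ 2)
    (h1 : p ∣ Fintype.card F - 1) (h2 : ¬ p ^ 2 ∣ Fintype.card F - 1) :
    ¬ p ∣ (monoSub F p).index := by
  intro hd
  have h3 : (Nat.card (monoSub F p) * (monoSub F p).index).factorization p
      = (Nat.card (GL (Fin p) F)).factorization p := by rw [Subgroup.card_mul_index]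
  rw [card_monoSub hz, factorization_card_GL hp2 h1 h2,
    Nat.factorization_mul (pow_ne_zero _ hp.out.ne_zero) Subgroup.index_ne_zero_of_finite,
    Finsupp.add_apply, hp.out.factorization_pow, Finsupp.single_eq_same] at h3
  have := hp.out.factorization_pos_of_dvd Subgroup.index_ne_zero_of_finite hd
  omega

end Sylow

/-- Let p be an odd prime and F a finite field with q elements such that p divides q - 1 but p² does not. Then GL(p, F) has a Sylow p-subgroup Q such that every element of p-power order lies in some Sylow p-subgroup other than Q (a redundant Sylow p-subgroup). -/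
theorem result {F : Type*} [Field F] [Fintype F] (p : ℕ) [Fact p.Prime]
    (hp : p ≠ 2) (h1 : p ∣ Fintype.card F - 1) (h2 : ¬ p ^ 2 ∣ Fintype.card F - 1) :
    ∃ Q : Sylow p (Matrix.GeneralLinearGroup (Fin p) F), ∀ x : Matrix.GeneralLinearGroup (Fin p) F,
      (∃ k : ℕ, orderOf x = p ^ k) → ∃ P : Sylow p (Matrix.GeneralLinearGroup (Fin p) F), P ≠ Q ∧ x ∈ P := by
  classical
  have hP : p.Prime := Fact.out
  haveI : NeZero p := ⟨hP.ne_zero⟩
  obtain ⟨z, hz⟩ := exists_zeta (p := p) h1
  have hzp : z ^ p = 1 := hz ▸ pow_orderOf_eq_one z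
  set Q : Sylow p (GL (Fin p) F) :=
    (IsPGroup.of_card (card_monoSub hz)).toSylow (not_dvd_index_monoSub hz hp h1 h2) with hQdef
  have hQ : (Q : Subgroup (GL (Fin p) F)) = monoSub F p := rfl
  refine ⟨Q, fun x ⟨e, he⟩ => ?_⟩
  by_cases hxQ : x ∈ Q
  swap
  · obtain ⟨P, hP'⟩ := (IsPGroup.of_card (n := e) (by rw [Nat.card_zpowers, he]) :
      IsPGroup p (Subgroup.zpowers x)).exists_le_sylow
    exact ⟨P, fun h => hxQ (h ▸ hP' (Subgroup.mem_zpowers x)), hP' (Subgroup.mem_zpowers x)⟩
  -- normalizing elements preserve the diagonal part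
  have hdiag : ∀ g : GL (Fin p) F, g • Q = Q → ∀ a : Fin p → Fˣ, (∀ r, a r ^ p = 1) →
      ∃ b : Fin p → Fˣ, g * gl a 0 * g⁻¹ = gl b 0 := by
    intro g hg a ha
    have himg : ∀ v : Fin p → Fˣ, (∀ r, v r ^ p = 1) → g * gl v 0 * g⁻¹ ∈ monoSub F p := by
      intro v hv
      rw [← hQ, ← hg]
      exact ⟨gl v 0, ⟨v, 0, hv, rfl⟩, rfl⟩
    obtain ⟨b, i, -, hbi⟩ := himg a ha
    refine ⟨b, ?_⟩
    by_contra hne
    have hi : i ≠ 0 := fun h => hne (h ▸ hbi)
    choose c j hc hcj using fun k : Fin p → Fin p =>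
      himg (fun r => z ^ (k r : ℕ)) (fun r => by rw [← pow_mul, mul_comm, pow_mul, hzp, one_pow])
    have hcomm : ∀ k r, c k r * b (r + j k) = b r * c k (r + i) := by
      intro k r
      have h3 : gl (c k) (j k) * gl b i = gl b i * gl (c k) (j k) := by
        rw [← hcj k, ← hbi]
        simp only [mul_assoc, inv_mul_cancel_left]
        rw [← mul_assoc (gl _ 0) (gl a 0), ← mul_assoc (gl a 0) (gl _ 0)]
        congr 2
        rw [gl_mul, gl_mul]
        simp only [add_zero, mul_comm]
      rw [gl_mul, gl_mul] at h3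
      exact congrFun (gl_inj h3).1 r
    choose t ht using fun k => eq_pow_of_zeta hz (hc k 0)
    have hinj : Function.Injective fun k : Fin p → Fin p => (j k, t k) := by
      intro k k' hkk
      obtain ⟨hj, ht'⟩ : j k = j k' ∧ t k = t k' := Prod.ext_iff.1 hkk
      have hc0 : c k 0 = c k' 0 := by rw [ht, ht, ht']
      have hall : ∀ n : ℕ, c k (n • i) = c k' (n • i) := by
        intro n
        induction n with
        | zero => rwa [zero_nsmul]
        | succ n ih =>
          have h3 := hcomm k (n • i)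
          rw [ih, hj, hcomm k' (n • i)] at h3
          rw [succ_nsmul]
          exact (mul_left_cancel h3).symm
      have hcc : c k = c k' := by
        funext r
        obtain ⟨n, rfl⟩ := exists_nsmul_eq hi r
        exact hall n
      have h4 : gl (fun r => z ^ (k r : ℕ)) 0 = gl (fun r => z ^ (k' r : ℕ)) 0 := by
        have h5 := hcj k
        rw [hcc, hj, ← hcj k'] at h5
        exact mul_left_cancel (mul_right_cancel h5)
      funext r
      exact Fin.ext (pow_injOn_Iio_orderOf (by rw [hz]; exact (k r).2) (by rw [hz]; exact (k' r).2)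
        (congrFun (gl_inj h4).1 r))
    have h3 := Fintype.card_le_of_injective _ hinj
    simp only [Fintype.card_fun, Fintype.card_prod, Fintype.card_fin] at h3
    have h4 : p ^ 3 ≤ p * p := le_trans (Nat.pow_le_pow_right hP.pos (by have := hP.two_le; omega)) h3
    have := hP.two_le
    nlinarith [pow_succ p 2, sq p]
  -- normalizing elements are monomial
  have hmono : ∀ g : GL (Fin p) F, g • Q = Q → ∀ r c c' : Fin p, c ≠ c' → g.val r c ≠ 0 →
      g.val r c' ≠ 0 → False := by
    intro g hg r c c' hcc hc hc'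
    set a : Fin p → Fˣ := fun s => if s = c then z else 1 with ha
    obtain ⟨b, hb⟩ := hdiag g hg a (fun s => by
      by_cases h : s = c <;> simp [ha, h, hzp])
    have h3 : g * gl a 0 = gl b 0 * g := by rw [← hb, inv_mul_cancel_right]
    have h4 : ∀ s, g.val r s * (a s : F) = (b r : F) * g.val r s := by
      intro s
      have h5 := congrArg (fun u : GL (Fin p) F => u.val r s) h3
      simp only [Units.val_mul, Matrix.mul_apply, gl_apply, add_zero] at h5
      simpa [Finset.sum_ite_eq, Finset.sum_ite_eq', mul_ite, ite_mul, eq_comm] using h5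
    have e1 := h4 c
    have e2 := h4 c'
    simp only [ha, if_true] at e1
    rw [mul_comm] at e1
    simp only [ha, if_neg hcc.symm, Units.val_one, mul_one] at e2
    have hzb : (z : F) = b r := mul_right_cancel₀ hc e1
    rw [← hzb] at e2
    have hz1 : z = 1 := Units.ext (mul_right_cancel₀ hc' (by rw [← e2, Units.val_one, one_mul]))
    rw [hz1, orderOf_one] at hz
    exact hP.ne_one hz.symm
  -- elements with a centralising non-monomial element
  have hcen : ∀ g : GL (Fin p) F, g * x = x * g →
      (∃ r c c' : Fin p, c ≠ c' ∧ g.val r c ≠ 0 ∧ g.val r c' ≠ 0) →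
      ∃ P : Sylow p (GL (Fin p) F), P ≠ Q ∧ x ∈ P := by
    rintro g hgx ⟨r, c, c', hcc, hc, hc'⟩
    refine ⟨g • Q, fun h => hmono g h r c c' hcc hc hc', ?_⟩
    exact ⟨x, hxQ, by
      change g * x * g⁻¹ = x
      rw [hgx, mul_inv_cancel_right]⟩
  obtain ⟨a, i, ha, hxa⟩ : x ∈ monoSub F p := hxQ
  by_cases hi : i = 0
  · subst hi
    by_cases hinj : Function.Injective a
    · -- distinct eigenvalues: a conjugate of the shift
      set W : Matrix (Fin p) (Fin p) F :=
        (Matrix.vandermonde fun r => (a r : F)).transpose with hW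
      have hdet : W.det ≠ 0 := by
        rw [hW, Matrix.det_transpose, Matrix.det_vandermonde_ne_zero_iff]
        exact Units.val_injective.comp hinj
      set g := Matrix.GeneralLinearGroup.mkOfDetNeZero W hdet with hg
      set S := gl (fun _ : Fin p => (1 : Fˣ)) 1
      have hrel : S * g = g * x := by
        refine Units.ext (Matrix.ext fun r c => ?_)
        have hgv : g.val = W := rfl
        rw [hxa]
        simp only [Units.val_mul, hgv, Matrix.mul_apply, S, gl_apply, add_zero, Units.val_one]
        simp only [hW]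
        simp [Finset.sum_ite_eq, Finset.sum_ite_eq', mul_ite, ite_mul, Matrix.vandermonde_apply,
          ← Units.val_pow_eq_pow_val, pow_val_add _ (ha c), Fin.val_one', Nat.mod_eq_of_lt hP.one_lt]
      refine ⟨g⁻¹ • Q, fun h => ?_, ?_⟩
      · have h' : g • Q = Q := by
          conv_lhs => rw [← h, smul_inv_smul]
        obtain ⟨b, hb⟩ := hdiag g h' a ha
        rw [← hxa, ← hrel, mul_inv_cancel_right] at hb
        have h0 := congrArg Fin.val (gl_inj hb).2
        simp [Fin.val_one', Nat.mod_eq_of_lt hP.one_lt] at h0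
      · exact ⟨S, ⟨_, _, fun _ => one_pow p, rfl⟩, by
          change g⁻¹ * S * g⁻¹⁻¹ = x
          rw [inv_inv, mul_assoc, hrel, inv_mul_cancel_left]⟩
    · -- a repeated eigenvalue: a transvection
      rw [Function.Injective] at hinj
      push Not at hinj
      obtain ⟨r, c, hrc, hne⟩ := hinj
      set T : Matrix (Fin p) (Fin p) F := Matrix.transvection r c 1
      have hdet : T.det ≠ 0 := by
        rw [Matrix.det_transvection_of_ne _ _ hne]; exact one_ne_zero
      refine hcen (Matrix.GeneralLinearGroup.mkOfDetNeZero T hdet) ?_ ⟨r, r, c, hne, ?_, ?_⟩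
      · refine Units.ext (Matrix.ext fun s t => ?_)
        rw [hxa]
        simp only [Units.val_mul, Matrix.mul_apply, gl_apply, add_zero]
        change ∑ u, T s u * _ = ∑ u, _ * T u t
        simp only [mul_ite, mul_zero, ite_mul, zero_mul, Finset.sum_ite_eq, Finset.sum_ite_eq',
          Finset.mem_univ, if_true, T, Matrix.transvection, Matrix.add_apply, Matrix.one_apply,
          Matrix.single_apply]
        by_cases hst : s = t
        · subst hst; ring
        · by_cases h : r = s ∧ c = t
          · obtain ⟨rfl, rfl⟩ := h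
            rw [hrc]; ring
          · simp [hst, h]
      · change T r r ≠ 0
        simp [T, Matrix.transvection, Matrix.single_apply, hne.symm]
      · change T r c ≠ 0
        simp [T, Matrix.transvection, Matrix.single_apply, hne]
  -- a power of `x` shifting by one
  obtain ⟨j, hj⟩ := exists_nsmul_eq hi 1
  have hjp : Nat.Coprime j (orderOf x) := by
    rw [he]
    refine Nat.Coprime.pow_right _ (Nat.coprime_comm.1 (hP.coprime_iff_not_dvd.2 ?_))
    rintro ⟨m, rfl⟩
    have h0 : (p * m) • i = 0 := by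
      rw [mul_comm, mul_nsmul]
      have : p • (m • i) = 0 := by
        have := card_nsmul_eq_zero (x := m • i)
        simpa using this
      exact this
    rw [h0] at hj
    have := congrArg Fin.val hj
    simp [Fin.val_one', Nat.mod_eq_of_lt hP.one_lt] at this
  obtain ⟨m, hm⟩ := exists_pow_eq_self_of_coprime hjp
  set d : Fin p → Fˣ := fun r => ∏ k ∈ Finset.range j, a (r + k • i) with hd
  have hd1 : ∀ r, d r ^ p = 1 := fun r => by
    rw [hd, ← Finset.prod_pow]; exact Finset.prod_eq_one fun k _ => ha _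
  have hy : x ^ j = gl d 1 := by rw [hxa, gl_pow, hj]
  rw [hy] at hm
  set A : ℕ → Fˣ := fun n => ∏ s ∈ Finset.range n, d (s • 1) with hA
  by_cases hprod : A p = 1
  · -- conjugate into the diagonal
    have hstep : ∀ r : Fin p, A ((r + 1 : Fin p) : ℕ) = A r * d r := by
      intro r
      have h3 : A r * d r = A ((r : ℕ) + 1) := by
        simp only [hA, Finset.prod_range_succ, val_nsmul_one hP.one_lt]
      rw [h3, Fin.val_add, Fin.val_one', Nat.mod_eq_of_lt hP.one_lt]
      rcases Nat.lt_or_eq_of_le (Nat.succ_le_of_lt r.2) with h4 | h4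
      · rw [Nat.mod_eq_of_lt h4]
      · rw [show (r : ℕ) + 1 = p from h4, Nat.mod_self, hprod]
        simp [hA]
    set D := gl (fun c : Fin p => z ^ (c : ℕ)) 0 with hD
    set W : Matrix (Fin p) (Fin p) F := Matrix.of fun r c =>
      (((A r)⁻¹ : Fˣ) : F) * ((z : F) ^ (c : ℕ)) ^ (r : ℕ) with hW
    have hdet : W.det ≠ 0 := by
      rw [hW]
      have hV : (Matrix.vandermonde fun c : Fin p => (z : F) ^ (c : ℕ)).transpose.det ≠ 0 := by
        rw [Matrix.det_transpose, Matrix.det_vandermonde_ne_zero_iff]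
        intro c c' hcc
        apply Fin.ext
        refine pow_injOn_Iio_orderOf (x := z) (by rw [hz]; exact c.2) (by rw [hz]; exact c'.2) ?_
        exact Units.ext (by simpa using hcc)
      have h5 : (Matrix.of fun r c : Fin p =>
          (((A r)⁻¹ : Fˣ) : F) * ((z : F) ^ (c : ℕ)) ^ (r : ℕ)) =
          Matrix.diagonal (fun r : Fin p => (((A r)⁻¹ : Fˣ) : F)) *
            (Matrix.vandermonde fun c : Fin p => (z : F) ^ (c : ℕ)).transpose := by
        ext r c
        simp [Matrix.diagonal_mul, Matrix.vandermonde_apply]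
      rw [h5, Matrix.det_mul]
      refine mul_ne_zero ?_ hV
      rw [Matrix.det_diagonal, Finset.prod_ne_zero_iff]
      exact fun r _ => Units.ne_zero _
    set g := Matrix.GeneralLinearGroup.mkOfDetNeZero W hdet
    have hrel : gl d 1 * g = g * D := by
      refine Units.ext (Matrix.ext fun r c => ?_)
      simp only [Units.val_mul, Matrix.mul_apply, hD, gl_apply, add_zero]
      change ∑ u, _ * W u c = ∑ u, W r u * _
      simp only [mul_ite, mul_zero, ite_mul, zero_mul, Finset.sum_ite_eq, Finset.sum_ite_eq',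
        Finset.mem_univ, if_true, hW, Matrix.of_apply]
      rw [pow_val_add ((z : F) ^ (c : ℕ)) (by
        rw [← pow_mul, mul_comm, pow_mul, ← Units.val_pow_eq_pow_val, hzp, Units.val_one, one_pow]),
        hstep, Fin.val_one', Nat.mod_eq_of_lt hP.one_lt, pow_one, Units.val_pow_eq_pow_val]
      push_cast [mul_inv]
      field_simp
    have hzc : ∀ c : Fin p, (z ^ (c : ℕ)) ^ p = 1 := fun c => by
      rw [← pow_mul, mul_comm, pow_mul, hzp, one_pow]
    refine ⟨g • Q, fun h => ?_, ?_⟩
    · obtain ⟨b, hb⟩ := hdiag g h _ hzc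
      rw [← hD, ← hrel, mul_inv_cancel_right] at hb
      have h0 := congrArg Fin.val (gl_inj hb).2
      simp [Fin.val_one', Nat.mod_eq_of_lt hP.one_lt] at h0
    · refine ⟨D ^ m, pow_mem (show D ∈ monoSub F p from ⟨_, _, hzc, rfl⟩) m, ?_⟩
      change g * D ^ m * g⁻¹ = x
      rw [← conj_pow, ← hrel, mul_inv_cancel_right, hm]
  · -- irreducible: `1 + y` centralises
    set y : Matrix (Fin p) (Fin p) F := (gl d 1).val with hyd
    have hyp : y ^ p = ((A p : Fˣ) : F) • (1 : Matrix (Fin p) (Fin p) F) := by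
      rw [hyd, ← Units.val_pow_eq_pow_val, gl_pow]
      have hp0 : p • (1 : Fin p) = 0 := by
        apply Fin.ext; rw [nsmul_one_eq _ hP.one_lt, Nat.mod_self, Fin.val_zero]
      have hprodr : ∀ r : Fin p, ∏ k ∈ Finset.range p, d (r + k • 1) = A p := by
        intro r
        simp only [hA, Finset.prod_range, val_nsmul_one hP.one_lt]
        exact Fintype.prod_equiv (Equiv.addLeft r) _ _ fun k => rfl
      ext s t
      rw [gl_apply, hp0, add_zero, hprodr, Matrix.smul_apply, Matrix.one_apply]
      by_cases hst : s = t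
      · simp [hst]
      · simp [hst, Ne.symm hst]
    have hne : 1 + ((A p : Fˣ) : F) ≠ 0 := by
      intro h0
      have h3 : ((A p : Fˣ) : F) = -1 := eq_neg_of_add_eq_zero_right h0
      have h4 : A p ^ p = 1 := by
        rw [hA, ← Finset.prod_pow]; exact Finset.prod_eq_one fun k _ => hd1 _
      have h5 : ((-1 : F)) ^ p = 1 := by
        rw [← h3, ← Units.val_pow_eq_pow_val, h4, Units.val_one]
      rw [(hP.odd_of_ne_two hp).neg_one_pow] at h5
      exact hprod (Units.ext (by rw [h3, h5, Units.val_one]))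
    have hdet : (1 + y).det ≠ 0 := by
      intro h0
      obtain ⟨k, hk⟩ := hP.odd_of_ne_two hp
      have h6 : (1 + y) * (∑ i ∈ Finset.range p, (-y) ^ i) = 1 - (-y) ^ p := by
        rw [← mul_neg_geom_sum (-y) p, sub_neg_eq_add]
      have h7 := congrArg Matrix.det h6
      rw [Matrix.det_mul, h0, zero_mul, Odd.neg_pow ⟨k, hk⟩, sub_neg_eq_add, hyp] at h7
      have h8 : (1 : Matrix (Fin p) (Fin p) F) + ((A p : Fˣ) : F) • 1 =
          (1 + ((A p : Fˣ) : F)) • 1 := by rw [add_smul, one_smul]
      rw [h8, Matrix.det_smul, Matrix.det_one, mul_one] at h7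
      exact pow_ne_zero _ hne h7.symm
    refine hcen (Matrix.GeneralLinearGroup.mkOfDetNeZero _ hdet) ?_ ⟨0, 0, 1, ?_, ?_, ?_⟩
    · rw [← hm]
      refine ((?_ : Commute _ (gl d 1)).pow_right m).eq
      exact Units.ext ((Commute.one_left y).add_left (Commute.refl y)).eq
    · intro h0
      have := congrArg Fin.val h0
      simp [Fin.val_one', Nat.mod_eq_of_lt hP.one_lt] at this
    · change (1 + y) 0 0 ≠ 0
      have h01 : (0 : Fin p) ≠ 0 + 1 := by
        intro h0
        have := congrArg Fin.val h0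
        simp [Fin.val_one', Nat.mod_eq_of_lt hP.one_lt] at this
      rw [hyd, Matrix.add_apply, gl_apply, if_neg h01, Matrix.one_apply_eq, add_zero]
      exact one_ne_zero
    · change (1 + y) 0 1 ≠ 0
      have h01 : (0 : Fin p) ≠ 1 := by
        intro h0
        have := congrArg Fin.val h0
        simp [Fin.val_one', Nat.mod_eq_of_lt hP.one_lt] at this
      rw [hyd, Matrix.add_apply, gl_apply, zero_add, if_pos rfl, Matrix.one_apply_ne h01, zero_add]
      exact Units.ne_zero _

end Cfsg.Agent.S4358
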