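import Cfsg.Statements.S4359
import Cfsg.Agent.BC87.GlaubermanChain

set_option autoImplicit false
open Pointwise
open Cfsg

namespace Cfsg.Agent.S4359

open Cfsg.Agent.BC87.Glauberman
open scoped commutatorElement

/-- Let P be a subgroup of a finite group G and g an element such that P ∩ g⁻¹Pg is a normal subgroup of prime index p in g⁻¹Pg. Let n ≥ 1 and let K be the subgroup generated by P and its conjugates g⁻ⁱPgⁱ for i ≤ n. Suppose that g normalizes no non-identity normal subgroup of P and that P meets the center of K trivially. Then the order of P is pᵗ for some t with 1 ≤ t ≤ 3n and t ≠ 3n - 1. -/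
theorem result {G : Type*} [Group G] [Finite G]
    (P : Subgroup G) (g : G) (p : ℕ) (hp : p.Prime)
    (hN : ((P ⊓ MulAut.conj g⁻¹ • P).subgroupOf (MulAut.conj g⁻¹ • P)).Normal)
    (hidx : (P ⊓ MulAut.conj g⁻¹ • P).relIndex (MulAut.conj g⁻¹ • P) = p)
    (n : ℕ) (hn : 1 ≤ n) (K : Subgroup G) (hK : K = ⨆ i ∈ Finset.range (n + 1), MulAut.conj (g ^ i)⁻¹ • P)
    (h1 : ∀ Q : Subgroup G, Q ≤ P → (Q.subgroupOf P).Normal → MulAut.conj g • Q = Q → Q = ⊥)
    (h2 : P ⊓ (Subgroup.center K).map K.subtype = ⊥) :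
    ∃ t : ℕ, Nat.card P = p ^ t ∧ 1 ≤ t ∧ t ≤ 3 * n ∧ t ≠ 3 * n - 1 := by
  classical
  set σ := (sh g 1).toMonoidHom with hσ
  have hPσ : MulAut.conj g⁻¹ • P = P.map σ := by
    rw [hσ, sh, zpow_one]; rfl
  have hch1 : chain g P 1 = P ⊓ P.map σ := rfl
  have hN' : ∀ z ∈ P.map σ, ∀ y ∈ chain g P 1, z * y * z⁻¹ ∈ chain g P 1 := by
    intro z hz y hy
    rw [hch1] at hy ⊢
    rw [hPσ] at hN
    exact hN.conj_mem ⟨y, hy.2⟩ hy ⟨z, hz⟩
  obtain ⟨t, x, c, ht1, hPc, hPw, hord, hcard, hleft⟩ :=
    exists_seq g P p hp hN' (by rw [hch1, ← hPσ]; exact hidx) (fun Q hQ hQn hQσ => by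
      refine h1 Q hQ ⟨fun y hy z => hQn z z.2 y hy⟩ ?_
      have e : MulAut.conj g⁻¹ • Q = Q := by
        conv_rhs => rw [← hQσ]
        rw [sh, zpow_one]; rfl
      have e' := congrArg (MulAut.conj g • ·) e
      simp only [map_inv, smul_inv_smul] at e'
      exact e'.symm)
  set a := seq g x c with ha
  have hp0 : Fact p.Prime := ⟨hp⟩
  have hright : ∀ i j : ℤ, i ≤ j → j - i < t → ∀ z ∈ win a i j,
      ∀ y ∈ win a (i + 1) j, z * y * z⁻¹ ∈ win a (i + 1) j := by
    intro i j hij hjt
    have hle : win a (i + 1) j ≤ win a i j := win_le (by omega) le_rfl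
    have hb := hcard i j (by omega) hjt
    have hs := hcard (i + 1) j (by omega) (by omega)
    have hrel := card_eq_relIndex_mul hle
    rw [hb, hs, show (j + 1 - i).toNat = (j + 1 - (i + 1)).toNat + 1 by omega, pow_succ'] at hrel
    have hrel' : (win a (i + 1) j).relIndex (win a i j) = p :=
      (Nat.eq_of_mul_eq_mul_right (pow_pos hp.pos _) hrel).symm
    have hn : ((win a (i + 1) j).subgroupOf (win a i j)).Normal := by
      refine Subgroup.normal_of_index_eq_minFac_card ?_
      rw [show ((win a (i + 1) j).subgroupOf (win a i j)).index = p from hrel', hb,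
        Nat.Prime.pow_minFac hp (by omega)]
    intro z hz y hy
    exact hn.conj_mem ⟨y, hle hy⟩ hy ⟨z, hz⟩
  have hNc : ∀ i j : ℤ, i < j → j - i < t → ⁅a i, a j⁆ ∈ win a (i + 1) (j - 1) ∧
      win a i (j - 1) ⊓ win a (i + 1) j ≤ win a (i + 1) (j - 1) := by
    intro i j hij hjt
    set A := win a i (j - 1) with hA
    set B := win a (i + 1) j with hB
    set C := win a (i + 1) (j - 1) with hC
    have hCle : C ≤ A ⊓ B := le_inf (win_le (by omega) le_rfl) (win_le le_rfl (by omega))
    have hcA := hcard i (j - 1) (by omega) (by omega)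
    have hcB := hcard (i + 1) j (by omega) (by omega)
    have hcC := hcard (i + 1) (j - 1) (by omega) (by omega)
    have hcI := hcard i j (by omega) hjt
    obtain ⟨e, hele, he⟩ := (Nat.dvd_prime_pow hp).mp (hcA ▸ Subgroup.card_dvd_of_le (inf_le_left : A ⊓ B ≤ A))
    have hne : e ≠ (j - 1 + 1 - i).toNat := by
      intro h
      have e1 : A ⊓ B = A := Subgroup.eq_of_le_of_card_ge inf_le_left (by rw [he, hcA, h])
      have e2 : A = B := Subgroup.eq_of_le_of_card_ge (inf_eq_left.mp e1)
        (by rw [hcA, hcB]; exact le_of_eq (by congr 1; omega))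
      have e3 : win a i j = A := by
        rw [← win_union a i (j - 1) (i + 1) j (by omega) (by omega) (by omega), ← hA, ← hB, ← e2,
          sup_idem]
      rw [e3, hcA] at hcI
      have := Nat.pow_right_injective hp.two_le hcI
      omega
    have hint : A ⊓ B ≤ C := by
      refine le_of_eq (Subgroup.eq_of_le_of_card_ge hCle ?_).symm
      rw [he, hcC]; exact Nat.pow_le_pow_right hp.pos (by omega)
    refine ⟨hint ⟨?_, ?_⟩, hint⟩
    · have h3 := hleft i j (by omega) hjt (a j) (mem_win (by omega) le_rfl) (a i)⁻¹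
        (inv_mem (mem_win le_rfl (by omega)))
      have h4 := A.mul_mem (mem_win (a := a) (k := i) le_rfl (by omega)) h3
      simpa [commutatorElement_def, mul_assoc] using h4
    · have h3 := hright i j (by omega) hjt (a i) (mem_win le_rfl (by omega)) (a j)
        (mem_win (by omega) le_rfl)
      have h4 := B.mul_mem h3 (inv_mem (mem_win (a := a) (k := j) (by omega) le_rfl))
      simpa [commutatorElement_def, mul_assoc] using h4
  have hdec : ∀ i j : ℤ, i ≤ j → j - i < t → ∀ y ∈ win a i j,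
      ∃ u ∈ win a (i + 1) j, ∃ e : ℤ, y = a i ^ e * u := by
    intro i j hij hjt y hy
    refine exists_zpow_mul (S := a '' Set.Icc i j) ⟨i, ⟨le_rfl, hij⟩, rfl⟩ ?_ (hright i j hij hjt) hy
    rintro _ ⟨k, ⟨h3, h4⟩, rfl⟩
    rcases eq_or_lt_of_le h3 with h | h
    · exact Or.inl (by rw [h])
    · exact Or.inr (mem_win (by omega) h4)
  have hdec' : ∀ i j : ℤ, i ≤ j → j - i < t → ∀ y ∈ win a i j,
      ∃ u ∈ win a i (j - 1), ∃ e : ℤ, y = a j ^ e * u := by
    intro i j hij hjt y hy
    refine exists_zpow_mul (S := a '' Set.Icc i j) ⟨j, ⟨hij, le_rfl⟩, rfl⟩ ?_ (hleft i j hij hjt) hy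
    rintro _ ⟨k, ⟨h3, h4⟩, rfl⟩
    rcases eq_or_lt_of_le h4 with h | h
    · exact Or.inl (by rw [h])
    · exact Or.inr (mem_win h3 (by omega))
  have hshift : ∀ i j d : ℤ, Commute (a i) (a j) → Commute (a (i + d)) (a (j + d)) := by
    intro i j d h
    have := h.map (sh g d).toMonoidHom
    simpa [ha, sh_seq] using this
  -- the group `K` lies in a window
  have hKle : K ≤ win a 0 ((n : ℤ) + t - 1) := by
    rw [hK]
    refine iSup₂_le fun i hi => ?_
    rw [Finset.mem_range] at hi
    have e : MulAut.conj (g ^ i)⁻¹ • P = P.map (sh g (i : ℤ)).toMonoidHom := by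
      rw [sh, zpow_natCast]; rfl
    rw [e, hPw, ha, map_win]
    exact win_le (by omega) (by omega)
  have hPK : P ≤ K := by
    rw [hK]
    refine le_trans (le_of_eq ?_) (le_iSup₂ (f := fun i _ => MulAut.conj (g ^ i)⁻¹ • P) 0 (by simp))
    simp
  have hcentral : ∀ k : ℤ, 0 ≤ k → k ≤ (t : ℤ) - 1 →
      (∀ l : ℤ, 0 ≤ l → l ≤ (n : ℤ) + t - 1 → Commute (a k) (a l)) → False := by
    intro k hk0 hk1 hc
    have hkP : a k ∈ P := by rw [hPw]; exact mem_win hk0 hk1
    have hmem : a k ∈ P ⊓ (Subgroup.center K).map K.subtype := by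
      refine ⟨hkP, ⟨⟨a k, hPK hkP⟩, ?_, rfl⟩⟩
      rw [SetLike.mem_coe, Subgroup.mem_center_iff]
      intro y
      apply Subtype.ext
      refine (commute_win (a := a) (i := k) (j := k) (fun k' l h3 h4 h5 h6 => ?_) (mem_win le_rfl le_rfl)
        (hKle y.2)).eq.symm
      rw [le_antisymm h4 h3]; exact hc l h5 h6
    rw [h2, Subgroup.mem_bot] at hmem
    have := hord k
    rw [hmem, orderOf_one] at this
    exact hp.ne_one this.symm
  have hex : ∃ d : ℕ, ¬ Commute (a 0) (a d) := by
    by_contra hne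
    push Not at hne
    exact hcentral 0 le_rfl (by omega) fun l hl _ => by
      obtain ⟨l', rfl⟩ := Int.eq_ofNat_of_zero_le hl
      exact hne l'
  obtain ⟨m, hm, hmin⟩ : ∃ m, ¬ Commute (a 0) (a (m : ℕ)) ∧ ∀ d < m, Commute (a 0) (a (d : ℕ)) :=
    ⟨Nat.find hex, Nat.find_spec hex, fun d hd => not_not.mp (Nat.find_min hex hd)⟩
  have hcomm : ∀ i j : ℤ, (i - j).natAbs < m → Commute (a i) (a j) := by
    intro i j h
    rcases le_total i j with hij | hij
    · have h3 := hshift _ _ i (hmin (j - i).toNat (by omega))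
      rwa [zero_add, Int.toNat_of_nonneg (by omega), sub_add_cancel] at h3
    · have h3 := hshift _ _ j (hmin (i - j).toNat (by omega))
      rw [zero_add, Int.toNat_of_nonneg (by omega), sub_add_cancel] at h3
      exact h3.symm
  have hno : ∀ i : ℤ, ¬ Commute (a i) (a (i + m)) := by
    intro i h
    refine hm ?_
    have h3 := hshift _ _ (-i) h
    rwa [add_neg_cancel, add_neg_cancel_comm] at h3
  -- combine the inequalities
  have hlast : min (m : ℤ) t ≤ (n : ℤ) + t - m := by
    by_contra h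
    rw [not_le, lt_min_iff] at h
    rcases le_or_gt ((n : ℤ) + t - m) 0 with h0 | h0
    · exact hcentral 0 le_rfl (by omega) fun l h3 h4 => hcomm _ _ (by omega)
    · exact hcentral ((n : ℤ) + t - m) (by omega) (by omega) fun l h3 h4 => hcomm _ _ (by omega)
  refine ⟨t, hPc, ht1, ?_⟩
  rcases lt_or_ge m t with hmt | hmt
  · have h3 := two_mul_le_three_mul a p hp t m hcomm hno hord (fun i j h h' => (hNc i j h h').1)
      hdec hdec' (fun i j h h' => (hNc i j h h').2) (sh g (m : ℤ)).toMonoidHom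
      (fun i => sh_seq g x c _ i) hmt
    omega
  · omega

end Cfsg.Agent.S4359
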