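import Cfsg.Statements.S4365
import Mathlib

set_option autoImplicit false
open Cfsg

namespace Cfsg.Agent.S4365

theorem norm_trick {p : ℕ} [Fact p.Prime] {E A : Type*} [Group E] [CommGroup A] (ρ : E →* MulAut A)
    (Z : Subgroup A) (hZ : ∀ (y : E), ∀ c ∈ Z, ρ y c ∈ Z) (hexp : ∀ y : E, y ^ p = 1)
    (hN : ∀ y : E, y ≠ 1 → ∀ a : A, ∏ k : ZMod p, ρ (y ^ k.val) a ∈ Z) (g h : E)
    (hgh : g * h = h * g) (hg : g ≠ 1) (hh : h ∉ Subgroup.zpowers g) (a : A) : a ^ p ∈ Z := by
  classical
  have hp : 1 < p := (Fact.out : p.Prime).one_lt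
  have hh1 : h ≠ 1 := fun e => hh (e ▸ one_mem _)
  let F : ZMod p → ZMod p → A := fun k l => ρ (g ^ k.val * h ^ l.val) a
  have hD : ∏ k, ∏ l, F k l ∈ Z := Subgroup.prod_mem _ fun k _ => by
    have e : ∏ l, F k l = ρ (g ^ k.val) (∏ l : ZMod p, ρ (h ^ l.val) a) := by
      rw [map_prod]; exact Finset.prod_congr rfl fun l _ => by
        show ρ (g ^ k.val * h ^ l.val) a = _; rw [map_mul]; rfl
    rw [e]; exact hZ _ _ (hN h hh1 a)
  have hline : ∀ t : ZMod p, ∏ k, F k (t * k) ∈ Z := fun t => by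
    have hne : g * h ^ t.val ≠ 1 := fun e => by
      rcases eq_or_ne t 0 with rfl | ht
      · simp at e; exact hg e
      · refine hh ?_
        have hmem : h ^ t.val ∈ Subgroup.zpowers g := by
          rw [show h ^ t.val = g⁻¹ from (inv_eq_of_mul_eq_one_right e).symm]
          exact inv_mem (Subgroup.mem_zpowers g)
        have h1 : h = (h ^ t.val) ^ (t⁻¹).val := by
          rw [← pow_mul, pow_eq_pow_mod (t.val * t⁻¹.val) (hexp h), ← ZMod.val_mul,
            mul_inv_cancel₀ ht, ZMod.val_one, pow_one]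
        rw [h1]; exact pow_mem hmem _
    refine (congrArg (fun u => u ∈ Z) (Finset.prod_congr rfl fun k _ => ?_)).mp (hN _ hne a)
    show ρ ((g * h ^ t.val) ^ k.val) a = ρ (g ^ k.val * h ^ (t * k).val) a
    rw [(Commute.pow_right hgh t.val).mul_pow, ← pow_mul,
      pow_eq_pow_mod (t.val * k.val) (hexp h), ← ZMod.val_mul]
  have hsum : ∏ t, ∏ k, F k (t * k) ∈ Z := Subgroup.prod_mem _ fun t _ => hline t
  rw [Finset.prod_comm, ← Finset.mul_prod_erase _ _ (Finset.mem_univ (0 : ZMod p))] at hsum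
  have e0 : ∏ t : ZMod p, F 0 (t * 0) = a ^ p := by
    simp [F]
  have e1 : ∏ k ∈ Finset.univ.erase (0 : ZMod p), ∏ t, F k (t * k) =
      ∏ k ∈ Finset.univ.erase (0 : ZMod p), ∏ l, F k l := by
    refine Finset.prod_congr rfl fun k hk => ?_
    exact Fintype.prod_equiv (Equiv.mulRight₀ k (Finset.ne_of_mem_erase hk)) _ _ fun t => rfl
  rw [e0, e1] at hsum
  rw [← Finset.mul_prod_erase _ _ (Finset.mem_univ (0 : ZMod p))] at hD
  have hrow : ∏ l, F 0 l ∈ Z := by
    simpa [F] using hN h hh1 a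
  have hr := (Subgroup.mul_mem_cancel_left Z hrow).1 hD
  exact (Subgroup.mul_mem_cancel_right Z hr).1 hsum

/-- Let P be a finite p-group whose conjugacy class sizes are exactly 1 and pᵃ for some a ≥ 1. Then every element of P has its p-th power in the center of P (P/Z(P) has exponent p). -/
theorem result {P : Type*} [Group P] [Finite P] (p : ℕ) [Fact p.Prime]
    (hP : IsPGroup p P) (a : ℕ) (ha : 1 ≤ a)
    (hcs : {k : ℕ | ∃ x : P, (Subgroup.centralizer ({x} : Set P)).index = k} = {1, p ^ a}) (x : P) :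
    x ^ p ∈ Subgroup.center P := by
  classical
  have hp : p.Prime := Fact.out
  set Z := Subgroup.center P with hZdef
  set C : P → Subgroup P := fun y => Subgroup.centralizer ({y} : Set P) with hCdef
  have hmemC : ∀ y g, g ∈ C y ↔ g * y = y * g := fun y g => Subgroup.mem_centralizer_singleton_iff
  have hidx : ∀ y, y ∉ Z → (C y).index = p ^ a := by
    intro y hy
    have hm : (C y).index ∈ ({1, p ^ a} : Set ℕ) := by rw [← hcs]; exact ⟨y, rfl⟩
    rcases hm with h | h
    · exfalso
      refine hy (Subgroup.mem_center_iff.2 fun g => (hmemC y g).1 ?_)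
      rw [Subgroup.index_eq_one.1 h]; exact Subgroup.mem_top g
    · exact h
  have hmax : ∀ y w, y ∉ Z → w ∉ Z → C y ≤ C w → C y = C w := by
    intro y w hy hw hle
    refine Subgroup.eq_of_le_of_card_ge hle ?_
    have h1 := (C y).card_mul_index
    have h2 := (C w).card_mul_index
    rw [hidx y hy] at h1
    rw [hidx w hw, ← h1] at h2
    exact (Nat.eq_of_mul_eq_mul_right (pow_pos hp.pos a) h2).le
  by_contra hx0
  have hx1 : x ∉ Z := fun h => hx0 (pow_mem h p)
  haveI : Nontrivial (P ⧸ Z) := ⟨⟨(x : P ⧸ Z), 1, fun h => hx1 ((QuotientGroup.eq_one_iff x).1 h)⟩⟩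
  haveI : Nontrivial (Subgroup.center (P ⧸ Z)) := (hP.to_quotient Z).center_nontrivial
  obtain ⟨n, hn1, hn⟩ := ((hP.to_quotient Z).to_subgroup (Subgroup.center (P ⧸ Z))).nontrivial_iff_card.1 inferInstance
  obtain ⟨ū, hū⟩ := exists_prime_orderOf_dvd_card' (G := Subgroup.center (P ⧸ Z)) p
    (by rw [hn]; exact dvd_pow_self p (by omega))
  obtain ⟨u, hu⟩ := QuotientGroup.mk_surjective ū.1
  have hu1 : u ∉ Z := fun h => by
    have : ū = 1 := Subtype.ext (by rw [← hu]; exact (QuotientGroup.eq_one_iff u).2 h)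
    rw [this, orderOf_one] at hū; exact hp.one_lt.ne hū
  have hup : u ^ p ∈ Z := by
    rw [← QuotientGroup.eq_one_iff, QuotientGroup.mk_pow, hu, ← Subgroup.coe_pow, ← hū,
      pow_orderOf_eq_one]
    rfl
  have hcomm : ∀ g, g * u * g⁻¹ * u⁻¹ ∈ Z := fun g => by
    rw [← QuotientGroup.eq_one_iff]
    simp only [QuotientGroup.mk_mul, QuotientGroup.mk_inv, hu]
    rw [Subgroup.mem_center_iff.1 ū.2 (g : P ⧸ Z)]; group
  have hzc : ∀ c ∈ Z, ∀ g : P, g * c = c * g := fun c hc g => Subgroup.mem_center_iff.1 hc g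
  have hpu : ∀ g, u * g ^ p = g ^ p * u := by
    intro g
    set c := u * g * u⁻¹ * g⁻¹ with hc
    have hcZ : c ∈ Z := by
      have := inv_mem (hcomm g)
      have e : (g * u * g⁻¹ * u⁻¹)⁻¹ = c := by rw [hc]; group
      rwa [e] at this
    have hconj : ∀ k : ℕ, u ^ k * g * (u ^ k)⁻¹ = c ^ k * g := by
      intro k
      induction k with
      | zero => simp
      | succ k ih =>
        calc u ^ (k + 1) * g * (u ^ (k + 1))⁻¹ = u * (u ^ k * g * (u ^ k)⁻¹) * u⁻¹ := by
              rw [pow_succ']; group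
          _ = u * c ^ k * g * u⁻¹ := by rw [ih]; group
          _ = c ^ k * (c * g) := by rw [hzc _ (pow_mem hcZ k) u, hc]; group
          _ = c ^ (k + 1) * g := by rw [pow_succ]; group
    have hcp : c ^ p = 1 := by
      have h1 := hconj p
      rw [← hzc _ hup g, mul_inv_cancel_right] at h1
      exact mul_eq_right.1 h1.symm
    refine mul_inv_eq_iff_eq_mul.1 ?_
    calc u * g ^ p * u⁻¹ = (c * g) ^ p := by
          rw [← conj_pow]
          congr 1
          rw [hc]; group
      _ = g ^ p := by rw [(show Commute c g from (hzc c hcZ g).symm).mul_pow, hcp, one_mul]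
  have hbig : ∀ y, y ^ p ∉ Z → C y = C u := by
    intro y hy
    have hy1 : y ∉ Z := fun h => hy (pow_mem h p)
    have hle : ∀ w : P, C w ≤ C (w ^ p) := fun w g hg => (hmemC _ _).2
      (Commute.pow_right ((hmemC w g).1 hg) p)
    have e1 := hmax y _ hy1 hy (hle y)
    have huy : u * y = y * u := (hmemC y u).1 (e1 ▸ (hmemC _ _).2 (hpu y))
    have hpw : (y * u) ^ p = y ^ p * u ^ p := Commute.mul_pow huy.symm p
    have hyu : (y * u) ^ p ∉ Z := fun h => hy (by
      rw [hpw] at h; exact (Subgroup.mul_mem_cancel_right Z hup).1 h)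
    have hyu1 : y * u ∉ Z := fun h => hyu (pow_mem h p)
    have hpc : C ((y * u) ^ p) = C (y ^ p) := by
      ext g
      rw [hmemC, hmemC, hpw, ← mul_assoc, mul_assoc (y ^ p), ← hzc _ hup g, ← mul_assoc]
      exact ⟨fun h => mul_right_cancel h, fun h => by rw [h]⟩
    have e2 : C (y * u) = C y := by rw [hmax _ _ hyu1 hyu (hle _), hpc, e1]
    refine hmax y u hy1 hu1 fun g hg => (hmemC u g).2 ?_
    have h1 := (hmemC y g).1 hg
    have h2 := (hmemC _ g).1 (e2.symm ▸ hg)
    rw [← mul_assoc, h1, mul_assoc y g u, mul_assoc y u g] at h2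
    exact mul_left_cancel h2
  set A := C u with hAdef
  haveI hAn : A.Normal := ⟨fun g hg t => (hmemC u _).2 (by
    have hg' := (hmemC u g).1 hg
    set c := t⁻¹ * u * t⁻¹⁻¹ * u⁻¹ with hc
    have hcZ : c ∈ Z := hcomm _
    have e : t⁻¹ * u * t = c * u := by rw [hc]; group
    calc t * g * t⁻¹ * u = t * (g * (t⁻¹ * u * t)) * t⁻¹ := by group
      _ = t * ((t⁻¹ * u * t) * g) * t⁻¹ := by
        rw [e, ← mul_assoc g c u, hzc c hcZ g, mul_assoc c g u, hg']; group
      _ = u * (t * g * t⁻¹) := by group)⟩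
  have hxA : x ∈ A := hbig x hx0 ▸ (hmemC x x).2 rfl
  have hcent : ∀ y, y ^ p ∉ Z → ∀ g ∈ A, g * y = y * g := fun y hy g hg =>
    (hmemC y g).1 ((hbig y hy).symm ▸ hg)
  have habel : ∀ c ∈ A, ∀ g ∈ A, g * c = c * g := by
    intro c hc g hg
    by_cases hcp : c ^ p ∈ Z
    · have hcx : c * x = x * c := hcent x hx0 c hc
      have hcx' : (c * x) ^ p ∉ Z := by
        rw [Commute.mul_pow hcx, Subgroup.mul_mem_cancel_left Z hcp]; exact hx0
      have h1 := hcent _ hcx' g hg
      have h2 := hcent x hx0 g hg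
      rw [← mul_assoc, mul_assoc c x g, ← h2, ← mul_assoc c g x] at h1
      exact mul_right_cancel h1
    · exact hcent c hcp g hg
  have houtside : ∀ y, y ∉ A → y ^ p ∈ Z := fun y hy => by
    by_contra h
    exact hy (hbig y h ▸ (hmemC y y).2 rfl)
  letI : CommGroup A := { (inferInstance : Group A) with
    mul_comm := fun c d => Subtype.ext (habel d d.2 c c.2) }
  let ρ₀ : P →* MulAut A := MulAut.conjNormal
  have hker : A ≤ ρ₀.ker := fun g hg => MulEquiv.ext fun c => Subtype.ext (by
    show g * (c : P) * g⁻¹ = c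
    rw [habel c c.2 g hg, mul_inv_cancel_right])
  let ρ : P ⧸ A →* MulAut A := QuotientGroup.lift A ρ₀ hker
  have hexp : ∀ y : P ⧸ A, y ^ p = 1 := fun y => by
    induction y using QuotientGroup.induction_on with
    | H g =>
      rw [← QuotientGroup.mk_pow, QuotientGroup.eq_one_iff]
      by_cases hg : g ∈ A
      · exact pow_mem hg p
      · exact (hmemC _ _).2 (hzc _ (houtside g hg) u).symm
  by_cases hcyc : ∃ g : P ⧸ A, g ≠ 1 ∧ g ∈ Subgroup.center (P ⧸ A) ∧ ∃ h, h ∉ Subgroup.zpowers g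
  · obtain ⟨g, hg, hgc, h, hh⟩ := hcyc
    have key := norm_trick ρ (Z.subgroupOf A) ?_ hexp ?_ g h
      (Subgroup.mem_center_iff.1 hgc h).symm hg hh ⟨x, hxA⟩
    · exact hx0 (by simpa [Subgroup.mem_subgroupOf] using key)
    · intro y c hc
      induction y using QuotientGroup.induction_on with
      | H t =>
        show t * (c : P) * t⁻¹ ∈ Z
        rw [(hzc (c : P) hc t : t * (c : P) = c * t), mul_inv_cancel_right]; exact hc
    · intro y hy c
      induction y using QuotientGroup.induction_on with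
      | H t =>
        have htA : t ∉ A := fun h => hy ((QuotientGroup.eq_one_iff t).2 h)
        have hct : (c : P) * t ∉ A := fun h => htA ((Subgroup.mul_mem_cancel_left A c.2).1 h)
        have hform : ∀ k : ℕ, ((c : P) * t) ^ k =
            ((∏ i ∈ Finset.range k, ρ ((t : P ⧸ A) ^ i) c : A) : P) * t ^ k := by
          intro k
          induction k with
          | zero => simp
          | succ k ih =>
            have hk : ((ρ ((t : P ⧸ A) ^ k) c : A) : P) = t ^ k * c * (t ^ k)⁻¹ := rfl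
            rw [pow_succ, ih, Finset.prod_range_succ, Subgroup.coe_mul, hk, pow_succ]
            group
        have h1 := houtside _ hct
        rw [hform p, Subgroup.mul_mem_cancel_right Z (houtside t htA)] at h1
        rw [Subgroup.mem_subgroupOf]
        have e : ∏ k : ZMod p, ρ ((t : P ⧸ A) ^ k.val) c =
            ∏ i ∈ Finset.range p, ρ ((t : P ⧸ A) ^ i) c := by
          refine Finset.prod_nbij' (fun k => k.val) (fun i => (i : ZMod p)) ?_ ?_ ?_ ?_ ?_
          · intro k _; exact Finset.mem_range.2 (ZMod.val_lt k)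
          · intro i _; exact Finset.mem_univ _
          · intro k _; exact ZMod.natCast_zmod_val k
          · intro i hi; exact ZMod.val_cast_of_lt (Finset.mem_range.1 hi)
          · intro k _; rfl
        rw [e]; exact h1
  · -- the quotient has order `p`
    push Not at hcyc
    have hAi : A.index = p ^ a := hidx u hu1
    haveI : Nontrivial (P ⧸ A) := by
      rw [← Finite.one_lt_card_iff_nontrivial]
      show 1 < A.index
      rw [hAi]; exact Nat.one_lt_pow (by omega) hp.one_lt
    haveI : Nontrivial (Subgroup.center (P ⧸ A)) := (hP.to_quotient A).center_nontrivial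
    obtain ⟨⟨g, hgc⟩, hg1⟩ := exists_ne (1 : Subgroup.center (P ⧸ A))
    have hg1' : g ≠ 1 := fun h => hg1 (Subtype.ext h)
    have htop : Subgroup.zpowers g = ⊤ := (Subgroup.eq_top_iff' _).2 (hcyc g hg1' hgc)
    have hcard : Nat.card (P ⧸ A) = p := by
      rw [← Subgroup.card_top (G := P ⧸ A), ← htop, Nat.card_zpowers]
      exact orderOf_eq_prime (hexp g) hg1'
    obtain ⟨t, rfl⟩ := QuotientGroup.mk_surjective g
    have htA : t ∉ A := fun h => hg1' ((QuotientGroup.eq_one_iff t).2 h)
    have htZ : t ∉ Z := fun h => htA ((hmemC u t).2 (hzc t h u).symm)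
    have hinf : A ⊓ C t ≤ Z := by
      intro w hw
      obtain ⟨hwA, hwt⟩ := Subgroup.mem_inf.1 hw
      by_contra hwZ
      have hle : A ≤ C w := fun g hg => (hmemC w g).2 (habel w hwA g hg)
      refine htA ?_
      rw [hAdef, hmax u w hu1 hwZ hle]
      exact (hmemC w t).2 ((hmemC t w).1 hwt).symm
    have hpa : p ^ a = p := by rw [← hAi]; exact hcard
    have hZidx : Z.index ≤ p * p := by
      refine (Nat.le_of_dvd (Nat.pos_of_ne_zero Subgroup.index_ne_zero_of_finite)
        (Subgroup.index_dvd_of_le hinf)).trans ((Subgroup.index_inf_le ..).trans ?_)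
      rw [hAi, hidx t htZ, hpa]
    have hZA : Z ≤ A := fun c hc => (hmemC u c).2 (hzc c hc u).symm
    rw [← Subgroup.relIndex_mul_index hZA, hAi, hpa] at hZidx
    have hle : Z.relIndex A ≤ p := Nat.le_of_mul_le_mul_right hZidx hp.pos
    haveI : (Z.subgroupOf A).Normal := inferInstance
    obtain ⟨m, hm⟩ := (hP.to_subgroup A).index (Z.subgroupOf A)
    have hdvd : Z.relIndex A ∣ p := by
      show (Z.subgroupOf A).index ∣ p
      change (Z.subgroupOf A).index ≤ p at hle
      rw [hm] at hle ⊢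
      have : m ≤ 1 := (Nat.pow_le_pow_iff_right hp.one_lt).1 (by rwa [pow_one])
      calc p ^ m ∣ p ^ 1 := Nat.pow_dvd_pow p this
        _ = p := pow_one p
    obtain ⟨q, hq⟩ := hdvd
    have := pow_mem (Subgroup.pow_index_mem (Z.subgroupOf A) ⟨x, hxA⟩) q
    rw [← pow_mul] at this
    change (⟨x, hxA⟩ : A) ^ (Z.relIndex A * q) ∈ Z.subgroupOf A at this
    rw [← hq] at this
    exact hx0 (by simpa [Subgroup.mem_subgroupOf] using this)

end Cfsg.Agent.S4365
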