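import Cfsg.Statements.S4370
import Cfsg.Agent.S0016
import Cfsg.Agent.Lib.Thompson.Cores
import Cfsg.Agent.Lib.PGroup.Basic

set_option autoImplicit false
open Cfsg

namespace Cfsg.Agent.S4370

theorem isCyclic_centralizer_quaternion {n : ℕ} [NeZero n] (q : QuaternionGroup n)
    (hq : q ∉ Subgroup.center (QuaternionGroup n)) :
    IsCyclic (Subgroup.centralizer ({q} : Set (QuaternionGroup n))) := by
  rcases q with i | i
  · refine Subgroup.isCyclic_of_le (H' := Subgroup.zpowers (QuaternionGroup.a (1 : ZMod (2 * n)))) ?_
    intro g hg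
    rw [Subgroup.mem_centralizer_singleton_iff] at hg
    rcases g with j | j
    · refine Subgroup.mem_zpowers_iff.2 ⟨(j.val : ℤ), ?_⟩
      rw [zpow_natCast, QuaternionGroup.a_one_pow, ZMod.natCast_zmod_val]
    · exfalso
      rw [QuaternionGroup.xa_mul_a, QuaternionGroup.a_mul_xa, QuaternionGroup.xa.injEq] at hg
      apply hq
      rw [Subgroup.mem_center_iff]
      rintro (k | k)
      · simp [add_comm]
      · rw [QuaternionGroup.xa_mul_a, QuaternionGroup.a_mul_xa, QuaternionGroup.xa.injEq]
        linear_combination hg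
  · refine Subgroup.isCyclic_of_le (H' := Subgroup.zpowers (QuaternionGroup.xa i)) ?_
    intro g hg
    rw [Subgroup.mem_centralizer_singleton_iff] at hg
    have key : ∀ d : ZMod (2 * n), d + d = 0 → d = 0 ∨ d = (n : ZMod (2 * n)) := by
      intro d hd
      have h4 : 2 * n ∣ d.val + d.val := by
        rw [← ZMod.natCast_eq_zero_iff, Nat.cast_add, ZMod.natCast_zmod_val, hd]
      obtain ⟨c, hc⟩ := h4
      have hlt : d.val < 2 * n := ZMod.val_lt d
      have hc2 : c < 2 := by
        by_contra h
        have := Nat.mul_le_mul_left (2 * n) (not_lt.mp h)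
        omega
      have hn0 : 0 < n := NeZero.pos n
      rcases (show c = 0 ∨ c = 1 by omega) with rfl | rfl
      · left; rw [← ZMod.natCast_zmod_val d, show d.val = 0 by omega, Nat.cast_zero]
      · right; rw [← ZMod.natCast_zmod_val d, show d.val = n by omega]
    have h2 : QuaternionGroup.xa i * QuaternionGroup.xa i = QuaternionGroup.a (n : ZMod (2 * n)) := by
      rw [QuaternionGroup.xa_mul_xa, add_sub_cancel_right]
    rcases g with j | j
    · rw [QuaternionGroup.xa_mul_a, QuaternionGroup.a_mul_xa, QuaternionGroup.xa.injEq] at hg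
      rcases key j (by linear_combination -hg) with rfl | rfl
      · rw [QuaternionGroup.a_zero]; exact one_mem _
      · rw [← h2]; exact mul_mem (Subgroup.mem_zpowers _) (Subgroup.mem_zpowers _)
    · rw [QuaternionGroup.xa_mul_xa, QuaternionGroup.xa_mul_xa, QuaternionGroup.a.injEq] at hg
      rcases key (j - i) (by linear_combination -hg) with h | h
      · rw [sub_eq_zero.1 h]; exact Subgroup.mem_zpowers _
      · have : QuaternionGroup.xa j = QuaternionGroup.xa i * QuaternionGroup.a (n : ZMod (2 * n)) := by
          rw [QuaternionGroup.xa_mul_a, ← h, add_sub_cancel]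
        rw [this, ← h2]
        exact mul_mem (Subgroup.mem_zpowers _)
          (mul_mem (Subgroup.mem_zpowers _) (Subgroup.mem_zpowers _))

/-- Let G be a finite non-abelian nilpotent group. Then the centralizer of every non-central element of G is cyclic if and only if G is isomorphic to the direct product of a generalized quaternion group and a cyclic group of odd order. -/
theorem result {G : Type*} [Group G] [Finite G] (hG : Group.IsNilpotent G)
    (hna : ¬ IsMulCommutative G) :
    (∀ x : G, x ∉ Subgroup.center G → IsCyclic (Subgroup.centralizer ({x} : Set G))) ↔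
      ∃ (k m : ℕ), 1 ≤ k ∧ Odd m ∧ Nonempty (G ≃* QuaternionGroup (2 ^ k) × Multiplicative (ZMod m)) := by
  constructor
  · intro hcyc
    -- some Sylow subgroup is non-abelian
    obtain ⟨p, hp, P, hP⟩ : ∃ (p : ℕ) (_ : Fact p.Prime) (P : Sylow p G), ¬ IsMulCommutative P := by
      by_contra h
      push Not at h
      obtain ⟨e⟩ := ((Group.isNilpotent_of_finite_tfae (G := G)).out 0 4).1 hG
      refine hna ⟨⟨fun a b => e.symm.injective ?_⟩⟩
      rw [map_mul, map_mul]
      funext q Q
      haveI := h q ⟨Nat.prime_of_mem_primeFactors q.2⟩ Q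
      exact mul_comm' _ _
    haveI hpn : (P : Subgroup G).Normal := Sylow.normal_of_normalizerCondition
      normalizerCondition_of_isNilpotent P
    set K := Cfsg.pPrimeCore p G
    have hKp : (Nat.card K).Coprime p := Thompson.card_pPrimeCore_coprime
    have hd : (P : Subgroup G) ⊓ K = ⊥ :=
      Thompson.inf_eq_bot_of_isPGroup_of_coprime P.isPGroup' hKp
    have htop : (P : Subgroup G) ⊔ K = ⊤ := by
      refine Subgroup.eq_top_of_card_eq _ (Nat.dvd_antisymm (Subgroup.card_subgroup_dvd_card _) ?_)
      rw [Nat.dvd_iff_prime_pow_dvd_dvd]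
      intro q k hq hdvd
      haveI : Fact q.Prime := ⟨hq⟩
      obtain ⟨A, hA⟩ := Sylow.exists_subgroup_card_pow_prime q hdvd
      obtain ⟨Q, hQ⟩ := (IsPGroup.of_card hA).exists_le_sylow
      rw [← hA]
      refine Subgroup.card_dvd_of_le (hQ.trans ?_)
      by_cases hqp : q = p
      · subst hqp
        haveI : Subsingleton (Sylow q G) := Sylow.unique_of_normal P hpn |>.instSubsingleton
        rw [Subsingleton.elim Q P]
        exact le_sup_left
      · refine le_trans ?_ le_sup_right
        refine Thompson.le_pPrimeCore (Sylow.normal_of_normalizerCondition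
          normalizerCondition_of_isNilpotent Q) ?_
        obtain ⟨m, hm⟩ := IsPGroup.iff_card.1 Q.isPGroup'
        rw [hm]
        exact Nat.Coprime.pow_left m ((Nat.coprime_primes hq hp.out).2 hqp)
    have hcomm : ∀ a ∈ (P : Subgroup G), ∀ b ∈ K, Commute a b := fun a ha b hb =>
      Subgroup.commute_of_normal_of_disjoint _ _ inferInstance inferInstance (disjoint_iff.2 hd)
        a b ha hb
    let φ : ↥(P : Subgroup G) × K →* G :=
      MonoidHom.noncommCoprod (P : Subgroup G).subtype K.subtype fun a b => hcomm a a.2 b b.2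
    have hφ : Function.Bijective φ := by
      constructor
      · rw [injective_iff_map_eq_one]
        rintro ⟨a, b⟩ h
        replace h : (a : G) * b = 1 := h
        have hm : (a : G) ∈ (P : Subgroup G) ⊓ K := Subgroup.mem_inf.2
          ⟨a.2, by rw [eq_inv_of_mul_eq_one_left h]; exact inv_mem b.2⟩
        rw [hd, Subgroup.mem_bot] at hm
        rw [hm, one_mul] at h
        exact Prod.ext (Subtype.ext hm) (Subtype.ext h)
      · intro g
        have hg : g ∈ ((↑((P : Subgroup G) ⊔ K)) : Set G) := by rw [htop]; exact Subgroup.mem_top g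
        rw [Subgroup.normal_mul] at hg
        obtain ⟨a, ha, b, hb, rfl⟩ := Set.mem_mul.1 hg
        exact ⟨(⟨a, ha⟩, ⟨b, hb⟩), rfl⟩
    obtain ⟨u, hu⟩ : ∃ u : (P : Subgroup G), u ∉ Subgroup.center (P : Subgroup G) := by
      by_contra h
      push Not at h
      exact hP ⟨⟨fun a b => (Subgroup.mem_center_iff.1 (h a) b).symm⟩⟩
    have hout : ∀ v : (P : Subgroup G), v ∉ Subgroup.center (P : Subgroup G) →
        IsCyclic (Subgroup.centralizer ({(v : G)} : Set G)) := fun v hv => hcyc v fun hc => hv
      (Subgroup.mem_center_iff.2 fun w => Subtype.ext (Subgroup.mem_center_iff.1 hc (w : G)))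
    haveI := hout u hu
    haveI hKc : IsCyclic K := by
      refine Subgroup.isCyclic_of_le (H' := Subgroup.centralizer ({(u : G)} : Set G)) fun b hb => ?_
      exact Subgroup.mem_centralizer_singleton_iff.2 (hcomm u u.2 b hb).symm
    have huniq : ∀ A B : Subgroup (P : Subgroup G), Nat.card A = p → Nat.card B = p → A = B := by
      have hcz : Subgroup.center (P : Subgroup G) ≠ ⊥ := by
        haveI : Nontrivial (P : Subgroup G) := ⟨⟨u, 1, fun h => hu (h ▸ one_mem _)⟩⟩
        intro h
        have := PGroup.dvd_card_center (G := (P : Subgroup G)) P.isPGroup'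
        rw [h, Subgroup.card_bot] at this
        exact hp.out.not_dvd_one this
      obtain ⟨⟨z, hz⟩, hzo⟩ := exists_prime_orderOf_dvd_card'
        (G := Subgroup.center (P : Subgroup G)) p
        (by haveI : Nontrivial (P : Subgroup G) := ⟨⟨u, 1, fun h => hu (h ▸ one_mem _)⟩⟩
            exact PGroup.dvd_card_center P.isPGroup')
      rw [← Subgroup.orderOf_coe] at hzo
      suffices h : ∀ A : Subgroup (P : Subgroup G), Nat.card A = p → A = Subgroup.zpowers z from
        fun A B hA hB => (h A hA).trans (h B hB).symm
      intro A hA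
      obtain ⟨⟨y, hyA⟩, hy⟩ := exists_prime_orderOf_dvd_card' (G := A) p (by rw [hA])
      rw [← Subgroup.orderOf_coe] at hy
      have hAz : A = Subgroup.zpowers y := (Subgroup.eq_of_le_of_card_ge
        (Subgroup.zpowers_le.2 hyA) (by rw [Nat.card_zpowers, hy, hA])).symm
      obtain ⟨v, hv, hvy, hvz⟩ : ∃ v : (P : Subgroup G), v ∉ Subgroup.center (P : Subgroup G) ∧
          y * v = v * y ∧ z * v = v * z := by
        by_cases hyc : y ∈ Subgroup.center (P : Subgroup G)
        · exact ⟨u, hu, (Subgroup.mem_center_iff.1 hyc u).symm, (Subgroup.mem_center_iff.1 hz u).symm⟩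
        · exact ⟨y, hyc, rfl, (Subgroup.mem_center_iff.1 hz y).symm⟩
      haveI := hout v hv
      set C := Subgroup.centralizer ({(v : G)} : Set G)
      have hyC : (y : G) ∈ C :=
        Subgroup.mem_centralizer_singleton_iff.2 (congrArg Subtype.val hvy)
      have hzC : (z : G) ∈ C :=
        Subgroup.mem_centralizer_singleton_iff.2 (congrArg Subtype.val hvz)
      have hyo : orderOf (⟨(y : G), hyC⟩ : C) = p := by
        rw [← Subgroup.orderOf_coe]; show orderOf (y : G) = p; rw [Subgroup.orderOf_coe, hy]
      have hzo' : orderOf (⟨(z : G), hzC⟩ : C) = p := by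
        rw [← Subgroup.orderOf_coe]; show orderOf (z : G) = p; rw [Subgroup.orderOf_coe, hzo]
      have hmem : (⟨(y : G), hyC⟩ : C) ∈ Subgroup.zpowers (⟨(z : G), hzC⟩ : C) := by
        classical
        haveI := Fintype.ofFinite C
        set Z' := Subgroup.zpowers (⟨(z : G), hzC⟩ : C)
        by_contra hn
        have hle := IsCyclic.card_pow_eq_one_le (α := C) hp.out.pos
        have hsub : insert (⟨(y : G), hyC⟩ : C) ((Z' : Set C).toFinset) ⊆
            Finset.univ.filter fun c : C => c ^ p = 1 := by
          intro c hc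
          simp only [Finset.mem_filter, Finset.mem_univ, true_and]
          rcases Finset.mem_insert.1 hc with rfl | hc
          · exact orderOf_dvd_iff_pow_eq_one.1 (dvd_of_eq hyo)
          · obtain ⟨i, rfl⟩ := Subgroup.mem_zpowers_iff.1 (Set.mem_toFinset.1 hc)
            rw [← zpow_natCast, ← zpow_mul, mul_comm, zpow_mul, zpow_natCast,
              orderOf_dvd_iff_pow_eq_one.1 (dvd_of_eq hzo'), one_zpow]
        have hcard := (Finset.card_le_card hsub).trans hle
        rw [Finset.card_insert_of_notMem (fun h => hn (Set.mem_toFinset.1 h)),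
          Set.toFinset_card, ← Nat.card_eq_fintype_card] at hcard
        change Nat.card Z' + 1 ≤ p at hcard
        rw [Nat.card_zpowers, hzo'] at hcard
        omega
      obtain ⟨k, hk⟩ := Subgroup.mem_zpowers_iff.1 hmem
      have hyz : z ^ k = y := by
        apply Subtype.ext
        have := congrArg Subtype.val hk
        simpa using this
      rw [hAz]
      refine Subgroup.eq_of_le_of_card_ge (Subgroup.zpowers_le.2 (Subgroup.mem_zpowers_iff.2 ⟨k, hyz⟩)) ?_
      rw [Nat.card_zpowers, Nat.card_zpowers, hy, hzo]
    rcases S0016.result p P.isPGroup' huniq with h | ⟨h2, k, ⟨e⟩⟩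
    · exact absurd (IsCyclic.commutative) hP
    rcases Nat.eq_zero_or_pos k with rfl | hk
    · haveI : IsCyclic (QuaternionGroup (2 ^ 0)) := by
        rw [pow_zero]; exact QuaternionGroup.quaternionGroup_one_isCyclic
      haveI : IsCyclic (P : Subgroup G) := isCyclic_of_surjective e.symm e.symm.surjective
      exact absurd (IsCyclic.commutative) hP
    refine ⟨k, Nat.card K, hk, ?_, ⟨(MulEquiv.ofBijective φ hφ).symm.trans
      (e.prodCongr (zmodCyclicMulEquiv hKc).symm)⟩⟩
    rw [h2, Nat.coprime_two_right] at hKp
    exact hKp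
  · rintro ⟨k, m, hk, hm, ⟨e⟩⟩ x hx
    haveI : NeZero (2 ^ k) := ⟨pow_ne_zero _ two_ne_zero⟩
    haveI : NeZero m := ⟨fun h => by simp [h] at hm⟩
    have hq : (e x).1 ∉ Subgroup.center (QuaternionGroup (2 ^ k)) := fun h => hx (by
      rw [Subgroup.mem_center_iff]
      intro g
      apply e.injective
      rw [map_mul, map_mul]
      exact Prod.ext (Subgroup.mem_center_iff.1 h _) (mul_comm _ _))
    haveI := isCyclic_centralizer_quaternion _ hq
    set C := Subgroup.centralizer ({(e x).1} : Set (QuaternionGroup (2 ^ k)))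
    have hcop : (Nat.card C).Coprime (Nat.card (Multiplicative (ZMod m))) := by
      rw [Nat.card_congr Multiplicative.toAdd, Nat.card_zmod]
      refine Nat.Coprime.coprime_dvd_left (Subgroup.card_subgroup_dvd_card C) ?_
      rw [Nat.card_eq_fintype_card, QuaternionGroup.card,
        show 4 * 2 ^ k = 2 ^ (k + 2) by rw [pow_add]; ring]
      exact Nat.Coprime.pow_left _ (Nat.coprime_two_left.2 hm)
    haveI : IsCyclic (C × Multiplicative (ZMod m)) :=
      Group.isCyclic_prod_iff.2 ⟨inferInstance, inferInstance, hcop⟩
    let f : Subgroup.centralizer ({x} : Set G) →* C × Multiplicative (ZMod m) :=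
      { toFun := fun g => (⟨(e g).1, Subgroup.mem_centralizer_singleton_iff.2 (by
          have := congrArg Prod.fst (congrArg e (Subgroup.mem_centralizer_singleton_iff.1 g.2))
          simpa using this)⟩, (e g).2)
        map_one' := by simp
        map_mul' := fun a b => by simp }
    refine isCyclic_of_injective f fun a b h => Subtype.ext (e.injective ?_)
    exact Prod.ext (congrArg (fun t => (t.1 : QuaternionGroup (2 ^ k))) h)
      (congrArg (fun t : C × Multiplicative (ZMod m) => t.2) h)

end Cfsg.Agent.S4370
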