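import Cfsg.Statements.S4371
import Cfsg.Agent.Three68.CaseA
import Cfsg.Agent.Lib.Suzuki.Simple

set_option autoImplicit false
set_option linter.style.haveILetI false
open Cfsg

namespace Cfsg.Agent.S4371

open Cfsg.Agent.Three68 Cfsg.Agent.PGraphCIT

section

variable {G : Type*} [Group G] [Finite G]
  (h3 : ∀ p : ℕ, p.Prime → ∀ a b c : G, orderOf a ≠ orderOf b → orderOf b ≠ orderOf c →
    orderOf a ≠ orderOf c → ¬ (p ∣ orderOf a ∧ p ∣ orderOf b ∧ p ∣ orderOf c))
include h3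

theorem length_le (x : G) : (orderOf x).primeFactorsList.length ≤ 2 := by
  by_contra hlt
  push Not at hlt
  match hl : (orderOf x).primeFactorsList, hlt with
  | p :: a :: b :: rest, _ =>
    have hp : p.Prime := Nat.prime_of_mem_primeFactorsList (n := orderOf x) (by rw [hl]; simp)
    have ha : a.Prime := Nat.prime_of_mem_primeFactorsList (n := orderOf x) (by rw [hl]; simp)
    have hb : b.Prime := Nat.prime_of_mem_primeFactorsList (n := orderOf x) (by rw [hl]; simp)
    have hprod := Nat.prod_primeFactorsList (orderOf_pos x).ne'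
    rw [hl, List.prod_cons, List.prod_cons, List.prod_cons] at hprod
    have hd : ∀ k : ℕ, k ∣ orderOf x → orderOf (x ^ (orderOf x / k)) = k := fun k hk =>
      orderOf_pow_orderOf_div (orderOf_pos x).ne' hk
    have d1 := hd p ⟨_, hprod.symm⟩
    have d2 := hd (p * a) ⟨b * rest.prod, by rw [← hprod]; ring⟩
    have d3 := hd (p * a * b) ⟨rest.prod, by rw [← hprod]; ring⟩
    have h1 : p * 1 < p * a := Nat.mul_lt_mul_of_pos_left ha.one_lt hp.pos
    have h2 : p * a * 1 < p * a * b :=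
      Nat.mul_lt_mul_of_pos_left hb.one_lt (Nat.mul_pos hp.pos ha.pos)
    refine h3 p hp (x ^ (orderOf x / p)) (x ^ (orderOf x / (p * a)))
      (x ^ (orderOf x / (p * a * b))) ?_ ?_ ?_ ⟨d1.symm ▸ dvd_rfl, d2.symm ▸ dvd_mul_right p a,
        d3.symm ▸ (dvd_mul_right p a).mul_right b⟩
    · rw [d1, d2]; omega
    · rw [d2, d3]; omega
    · rw [d1, d3]; omega
  | [_, _], h => exact absurd h (by simp)
  | [_], h => exact absurd h (by simp)
  | [], h => exact absurd h (by simp)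

theorem edge {x₀ : G} {r : ℕ} (hr : r.Prime) (hr2 : r ≠ 2) (hx : orderOf x₀ = 2 * r) :
    EdgeB G r := by
  have h2 : orderOf (x₀ ^ r) = 2 := by
    rw [orderOf_pow, hx, Nat.gcd_eq_right (dvd_mul_left r 2), Nat.mul_div_cancel _ hr.pos]
  have hq : orderOf (x₀ ^ 2) = r := by
    rw [orderOf_pow, hx, Nat.gcd_eq_right (dvd_mul_right 2 r),
      Nat.mul_div_cancel_left _ two_pos]
  have := hr.two_le
  refine ⟨hr, hr2, fun y hy => ?_, fun y hy => ?_⟩
  · by_contra hno
    rw [not_or] at hno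
    exact h3 2 Nat.prime_two (x₀ ^ r) x₀ y (by rw [h2, hx]; omega) (by rw [hx]; exact Ne.symm hno.2)
      (by rw [h2]; exact Ne.symm hno.1) ⟨h2 ▸ dvd_rfl, hx ▸ dvd_mul_right 2 r, hy⟩
  · by_contra hno
    rw [not_or] at hno
    exact h3 r hr (x₀ ^ 2) x₀ y (by rw [hq, hx]; omega) (by rw [hx]; exact Ne.symm hno.2)
      (by rw [hq]; exact Ne.symm hno.1) ⟨hq ▸ dvd_rfl, hx ▸ dvd_mul_left r 2, hy⟩

theorem exp_four (hno : ∀ r : ℕ, r.Prime → r ≠ 2 → ¬ ∃ x : G, orderOf x = 2 * r) (x : G)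
    (hx : 2 ∣ orderOf x) : orderOf x = 2 ∨ orderOf x = 4 := by
  obtain ⟨j, hj⟩ : ∃ j, orderOf x = 2 ^ j := ⟨_, Nat.eq_prime_pow_of_unique_prime_dvd
    (orderOf_pos x).ne' fun {r} hr hrd => by
      by_contra hr2
      exact hno r hr hr2 ⟨_, orderOf_pow_orderOf_div (orderOf_pos x).ne'
        (((Nat.coprime_primes Nat.prime_two hr).2 (Ne.symm hr2)).mul_dvd_of_dvd_of_dvd hx hrd)⟩⟩
  have hl := length_le h3 x
  rw [hj, Nat.Prime.primeFactorsList_pow Nat.prime_two, List.length_replicate] at hl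
  rw [hj] at hx ⊢
  interval_cases j <;> simp_all

end

theorem charP_two {F : Type} [Field F] [Fintype F] {n : ℕ} (hn : Fintype.card F = 2 ^ n) :
    CharP F 2 := by
  obtain ⟨p, hp⟩ := CharP.exists F
  obtain ⟨v, hp', hv⟩ := FiniteField.card F p
  have h2 : p ∣ 2 ^ n := hn ▸ hv ▸ dvd_pow_self p v.ne_zero
  rwa [(Nat.prime_dvd_prime_iff_eq hp' Nat.prime_two).1 (hp'.dvd_of_dvd_pow h2)] at hp

/-- Let G be a finite non-solvable group in which no prime divides three pairwise distinct element orders. Then one of the following holds, where 'a product of at most two primes' always counts primes with multiplicity: the quotient of G by its largest normal 2-subgroup is isomorphic to PSL(2, q) with q = 2ᶠ ≥ 4 and each of q + 1, q - 1 a product of at most two primes; G is isomorphic to PSL(2, q) with q > 5, q ≡ 3 or 5 (mod 8) and each of (q + 1)/2, (q - 1)/2 a product of at most two primes; G is isomorphic to PSL(2, 7), PSL(2, 9) or PSL(3, 4); or G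 is simple of order q²(q² + 1)(q - 1), the order of the Suzuki group Sz(q), where q = 2²ⁿ⁺¹ ≥ 8, and each of q - 1, q - r + 1, q + r + 1 (r = 2ⁿ⁺¹) is a product of at most two primes. -/
theorem result {G : Type*} [Group G] [Finite G]
    (hG : ¬ Group.IsSolvable G) (h3 : (∀ p : ℕ, p.Prime → ∀ a b c : G, orderOf a ≠ orderOf b → orderOf b ≠ orderOf c → orderOf a ≠ orderOf c → ¬ (p ∣ orderOf a ∧ p ∣ orderOf b ∧ p ∣ orderOf c))) :
    (∃ (F : Type) (_ : Field F) (_ : Fintype F), CharP F 2 ∧ 4 ≤ Fintype.card F ∧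
        (Fintype.card F + 1).primeFactorsList.length ≤ 2 ∧ (Fintype.card F - 1).primeFactorsList.length ≤ 2 ∧
        Nonempty (G ⧸ Cfsg.pCore 2 G ≃* Matrix.ProjectiveSpecialLinearGroup (Fin 2) F)) ∨
    (∃ (F : Type) (_ : Field F) (_ : Fintype F), 5 < Fintype.card F ∧ (Fintype.card F % 8 = 3 ∨ Fintype.card F % 8 = 5) ∧
        ((Fintype.card F + 1) / 2).primeFactorsList.length ≤ 2 ∧ ((Fintype.card F - 1) / 2).primeFactorsList.length ≤ 2 ∧
        Nonempty (G ≃* Matrix.ProjectiveSpecialLinearGroup (Fin 2) F)) ∨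
    (∃ (F : Type) (_ : Field F) (_ : Fintype F), (Fintype.card F = 7 ∨ Fintype.card F = 9) ∧
        Nonempty (G ≃* Matrix.ProjectiveSpecialLinearGroup (Fin 2) F)) ∨
    (∃ (F : Type) (_ : Field F) (_ : Fintype F), Fintype.card F = 4 ∧ Nonempty (G ≃* Matrix.ProjectiveSpecialLinearGroup (Fin 3) F)) ∨
    (∃ n : ℕ, 1 ≤ n ∧ IsSimpleGroup G ∧ Nat.card G = (2 ^ (2 * n + 1)) ^ 2 * ((2 ^ (2 * n + 1)) ^ 2 + 1) * (2 ^ (2 * n + 1) - 1) ∧
        (2 ^ (2 * n + 1) - 1).primeFactorsList.length ≤ 2 ∧ (2 ^ (2 * n + 1) - 2 ^ (n + 1) + 1).primeFactorsList.length ≤ 2 ∧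
        (2 ^ (2 * n + 1) + 2 ^ (n + 1) + 1).primeFactorsList.length ≤ 2) := by
  classical
  haveI : Fact (Nat.Prime 2) := ⟨Nat.prime_two⟩
  by_cases hedge : ∃ r : ℕ, r.Prime ∧ r ≠ 2 ∧ ∃ x : G, orderOf x = 2 * r
  · -- an element of order `2 r`
    obtain ⟨r, hr, hr2, x₀, hx₀⟩ := hedge
    have hE := edge h3 hr hr2 hx₀
    obtain ⟨N, hNn, hNs, hNab, hC⟩ := Three68.exists_simple hE hG
    haveI := hNn
    haveI := hNs
    have hedgeN : ∃ x : N, orderOf x = 2 * r := by
      by_contra hno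
      exact socle_no_edge hE ⟨x₀, hx₀⟩ N hNab hC hno
    obtain ⟨S⟩ : Nonempty (Sylow 2 N) := inferInstance
    obtain ⟨hS4, F, iF, iT, hFodd, ⟨e⟩⟩ := simple_edge (hE.subgroup N) hNab S hedgeN
    obtain rfl := socle_eq_top hE N hNab hC hedgeN
    set e' : G ≃* Matrix.ProjectiveSpecialLinearGroup (Fin 2) F :=
      Subgroup.topEquiv.symm.trans e with he'
    obtain ⟨p, hp⟩ := CharP.exists F
    obtain ⟨v, hp', hv⟩ := FiniteField.card F p
    haveI := Fact.mk hp'
    have hgcd : Nat.gcd 2 (Fintype.card F - 1) = 2 :=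
      Nat.gcd_eq_left (by obtain ⟨j, hj⟩ := hFodd; omega)
    have hp2 : p ≠ 2 := by
      rintro rfl
      rw [hv] at hFodd
      exact absurd hFodd (Nat.not_odd_iff_even.2 (Nat.even_pow.2 ⟨even_two, v.ne_zero⟩))
    have hrange := SL2Tor.range_orderOf_psl (F := F) p
    have hord : ∀ k : ℕ, k ∣ (Fintype.card F - 1) / 2 ∨ k ∣ (Fintype.card F + 1) / 2 →
        ∃ x : G, orderOf x = k := by
      intro k hk
      have h : k ∈ Set.range
          (orderOf : Matrix.ProjectiveSpecialLinearGroup (Fin 2) F → ℕ) := by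
        rw [hrange, hgcd]; exact Or.inr hk
      obtain ⟨x, hx⟩ := h
      exact ⟨e'.symm x, (MulEquiv.orderOf_eq e'.symm x).trans hx⟩
    have hlarge : 5 < Fintype.card F := by
      by_contra hle
      have h : orderOf (e' x₀) ∈ Set.range
          (orderOf : Matrix.ProjectiveSpecialLinearGroup (Fin 2) F → ℕ) := ⟨_, rfl⟩
      rw [hrange, MulEquiv.orderOf_eq, hx₀, hgcd] at h
      have h1 := Fintype.one_lt_card (α := F)
      have := hr.two_le
      rcases h with h | h | h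
      · rcases (Nat.dvd_prime hp').1 h with h2 | h2
        · omega
        · exact hp2 ((Nat.prime_dvd_prime_iff_eq Nat.prime_two hp').1 (h2 ▸ dvd_mul_right 2 r)).symm
      · have := Nat.le_of_dvd (by obtain ⟨j, hj⟩ := hFodd; omega) h
        omega
      · have := Nat.le_of_dvd (by omega) h
        omega
    refine Or.inr (Or.inl ⟨F, iF, iT, hlarge, ?_, ?_, ?_, ⟨e'⟩⟩)
    · have hc := card_psl_two (F := F)
      rw [← Nat.card_congr e.toEquiv, hgcd, ← (S : Subgroup _).card_mul_index, hS4] at hc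
      have hi : ¬ 2 ∣ (S : Subgroup (⊤ : Subgroup G)).index := S.not_dvd_index
      by_contra hmod
      obtain ⟨j, hj⟩ := hFodd
      apply hi
      have h16 : 16 ∣ Fintype.card F ^ 2 - 1 := by
        have hm : Fintype.card F % 8 = 1 ∨ Fintype.card F % 8 = 7 := by omega
        have h2 := Nat.div_add_mod (Fintype.card F) 8
        rcases hm with hm | hm <;> rw [hm] at h2 <;> rw [← h2]
        · exact ⟨4 * (Fintype.card F / 8) ^ 2 + Fintype.card F / 8,
            Nat.sub_eq_of_eq_add (by ring)⟩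
        · exact ⟨4 * (Fintype.card F / 8) ^ 2 + 7 * (Fintype.card F / 8) + 3,
            Nat.sub_eq_of_eq_add (by ring)⟩
      obtain ⟨c, hc'⟩ := h16
      rw [hc'] at hc
      exact ⟨Fintype.card F * c, by linarith⟩
    · obtain ⟨x, hx⟩ := hord _ (Or.inr dvd_rfl)
      exact hx ▸ length_le h3 x
    · obtain ⟨x, hx⟩ := hord _ (Or.inl dvd_rfl)
      exact hx ▸ length_le h3 x
  -- no element of order twice an odd prime
  push Not at hedge
  have hno : ∀ r : ℕ, r.Prime → r ≠ 2 → ¬ ∃ x : G, orderOf x = 2 * r :=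
    fun r hr hr2 ⟨x, hx⟩ => hedge r hr hr2 x hx
  have hcit : PGraphCIT.IsCIT G := PGraphCIT.IsCIT.of_odd_prime_commute hno
  have hexp := exp_four h3 hno
  set R := Cfsg.pCore 2 G with hR
  have hlist := quotient_list hG hcit hexp
  have first : ∀ (F : Type) (iF : Field F) (iT : Fintype F) (n : ℕ), 2 ≤ n →
      Fintype.card F = 2 ^ n →
      Nonempty (G ⧸ R ≃* Matrix.ProjectiveSpecialLinearGroup (Fin 2) F) →
      ∃ (F : Type) (_ : Field F) (_ : Fintype F), CharP F 2 ∧ 4 ≤ Fintype.card F ∧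
        (Fintype.card F + 1).primeFactorsList.length ≤ 2 ∧
        (Fintype.card F - 1).primeFactorsList.length ≤ 2 ∧
        Nonempty (G ⧸ R ≃* Matrix.ProjectiveSpecialLinearGroup (Fin 2) F) := by
    intro F iF iT n hn hF he
    obtain ⟨e⟩ := he
    have hlen : ∀ k : ℕ, k ∣ 2 ^ n - 1 ∨ k ∣ 2 ^ n + 1 → k.primeFactorsList.length ≤ 2 := by
      intro k hk
      obtain ⟨x, hx⟩ :=
        (PGraphCIT.psl_order_cases (F := F) (by omega : 0 < n) hF k).2 (Or.inr hk)
      obtain ⟨g, hg⟩ := Recog71.exists_orderOf_of_hom_surjective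
        (QuotientGroup.mk'_surjective R) (e.symm x)
      rw [← hx, ← MulEquiv.orderOf_eq e.symm x, ← hg]
      exact length_le h3 g
    exact ⟨F, iF, iT, charP_two hF, hF ▸ (show 2 ^ 2 ≤ 2 ^ n from Nat.pow_le_pow_right two_pos hn),
      hF ▸ hlen _ (Or.inr dvd_rfl), hF ▸ hlen _ (Or.inl dvd_rfl), ⟨e⟩⟩
  by_cases hRb : R = ⊥
  swap
  · obtain ⟨F, iF, iT, n, hn, hF, he⟩ :=
      radical_case hcit hexp R Thompson.isPGroup_pCore hRb hlist
    exact Or.inl (first F iF iT n hn hF he)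
  let f : G ≃* G ⧸ R := MulEquiv.ofBijective (QuotientGroup.mk' R)
    ⟨(MonoidHom.ker_eq_bot_iff _).1 (by rw [QuotientGroup.ker_mk', hRb]),
      QuotientGroup.mk'_surjective R⟩
  rcases hlist with ⟨F, iF, iT, n, hn, hF, he⟩ | ⟨F, iF, iT, hF, ⟨e⟩⟩ | ⟨F, iF, iT, hF, ⟨e⟩⟩ |
      ⟨F, iF, iT, m, hm, hF, ⟨e⟩⟩
  · exact Or.inl (first F iF iT n hn hF he)
  · exact Or.inr (Or.inr (Or.inl ⟨F, iF, iT, hF, ⟨f.trans e⟩⟩))
  · exact Or.inr (Or.inr (Or.inr (Or.inl ⟨F, iF, iT, hF, ⟨f.trans e⟩⟩)))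
  · refine Or.inr (Or.inr (Or.inr (Or.inr ⟨m, hm, ?_, ?_, ?_, ?_, ?_⟩)))
    · haveI := Suzuki.isSimpleGroup hF hm
      exact (f.trans e).isSimpleGroup
    · rw [Nat.card_congr (f.trans e).toEquiv, Suzuki.card_Sz hF hm]
    all_goals
      have hel : ∀ g : Cfsg.Sz F m, (orderOf g).primeFactorsList.length ≤ 2 := fun g => by
        rw [← MulEquiv.orderOf_eq (f.trans e).symm g]
        exact length_le h3 _
    · haveI : IsCyclic (Suzuki.THom hF).range :=
        isCyclic_of_surjective (Suzuki.THom hF).rangeRestrict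
          (MonoidHom.rangeRestrict_surjective _)
      obtain ⟨g, hg⟩ := IsCyclic.exists_ofOrder_eq_natCard (α := (Suzuki.THom hF).range)
      rw [Suzuki.card_range_T hF, hF] at hg
      rw [← hg, ← Subgroup.orderOf_coe]
      exact hel _
    · obtain ⟨U, hU, hUc, -, -⟩ := S0333.result hm hF _ (Or.inr rfl)
      haveI := hU
      obtain ⟨g, hg⟩ := IsCyclic.exists_ofOrder_eq_natCard (α := U)
      rw [← hUc, ← hg, ← Subgroup.orderOf_coe]
      exact hel _
    · obtain ⟨U, hU, hUc, -, -⟩ := S0333.result hm hF _ (Or.inl rfl)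
      haveI := hU
      obtain ⟨g, hg⟩ := IsCyclic.exists_ofOrder_eq_natCard (α := U)
      rw [← hUc, ← hg, ← Subgroup.orderOf_coe]
      exact hel _

end Cfsg.Agent.S4371
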