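import Cfsg.Statements.S4377
-- import your own Cfsg.Agent.* helpers here

set_option autoImplicit false
open Cfsg

namespace Cfsg.Agent.S4377

theorem card_pow_eq_sum {G : Type*} [Group G] [Finite G] {n : ℕ} (hn : 0 < n) :
    Nat.card {g : G // g ^ n = 1} = ∑ d ∈ n.divisors, Nat.card {g : G // orderOf g = d} := by
  classical
  haveI := Fintype.ofFinite G
  simp only [Nat.card_eq_fintype_card, Fintype.card_subtype]
  rw [Finset.card_eq_sum_card_fiberwise (f := fun g : G => orderOf g) (t := n.divisors)]
  · refine Finset.sum_congr rfl fun d hd => ?_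
    congr 1
    ext g
    simp only [Finset.mem_filter, Finset.mem_univ, true_and, and_iff_right_iff_imp]
    intro h
    rw [← orderOf_dvd_iff_pow_eq_one, h]
    exact (Nat.mem_divisors.1 hd).1
  · intro g hg
    simp only [Finset.coe_filter, Set.mem_setOf_eq, Finset.mem_univ, true_and] at hg
    simp only [Finset.mem_coe, Nat.mem_divisors]
    exact ⟨orderOf_dvd_of_pow_eq_one hg, hn.ne'⟩

theorem card_eq_sum {G : Type*} [Group G] [Finite G] {m : ℕ} (hm0 : 0 < m)
    (hm : ∀ g : G, g ^ m = 1) :
    Nat.card G = ∑ d ∈ m.divisors, Nat.card {g : G // orderOf g = d} := by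
  rw [← card_pow_eq_sum hm0]
  exact (Nat.card_congr (Equiv.subtypeUnivEquiv hm)).symm

theorem order_zero {G : Type*} [Group G] [Finite G] :
    Nat.card {g : G // orderOf g = 0} = 0 := by
  haveI : IsEmpty {g : G // orderOf g = 0} := ⟨fun g => (orderOf_pos g.1).ne' g.2⟩
  exact Nat.card_of_isEmpty

theorem card_eq_of_pow {G H : Type*} [Group G] [Finite G] [Group H] [Finite H]
    (h : ∀ n : ℕ, Nat.card {g : G // g ^ n = 1} = Nat.card {h : H // h ^ n = 1}) (n : ℕ) :
    Nat.card {g : G // orderOf g = n} = Nat.card {h : H // orderOf h = n} := by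
  induction n using Nat.strong_induction_on with
  | _ n ih =>
    rcases Nat.eq_zero_or_pos n with rfl | hn
    · rw [order_zero, order_zero]
    · have e := h n
      rw [card_pow_eq_sum hn, card_pow_eq_sum hn, ← Nat.cons_self_properDivisors hn.ne',
        Finset.sum_cons, Finset.sum_cons] at e
      have : (∑ d ∈ n.properDivisors, Nat.card {g : G // orderOf g = d}) =
          ∑ d ∈ n.properDivisors, Nat.card {h : H // orderOf h = d} :=
        Finset.sum_congr rfl fun d hd => ih d (Nat.mem_properDivisors.1 hd).2
      omega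

/-- Two finite groups have the same number of elements of each order if and only if, for every n, they have the same number of elements g with gⁿ = 1. -/
theorem result {G H : Type*} [Group G] [Finite G] [Group H] [Finite H] :
    (∀ n : ℕ, Nat.card {g : G // orderOf g = n} = Nat.card {h : H // orderOf h = n}) ↔
      ∀ n : ℕ, Nat.card {g : G // g ^ n = 1} = Nat.card {h : H // h ^ n = 1} := by
  refine ⟨fun h n => ?_, card_eq_of_pow⟩
  rcases Nat.eq_zero_or_pos n with rfl | hn
  · have hm0 : 0 < Nat.card G * Nat.card H := Nat.mul_pos Nat.card_pos Nat.card_pos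
    have e : Nat.card G = Nat.card H :=
      (card_eq_sum (G := G) hm0 (fun g => by rw [pow_mul, pow_card_eq_one', one_pow])).trans
        ((Finset.sum_congr rfl fun d _ => h d).trans
          (card_eq_sum (G := H) hm0 (fun g => by rw [mul_comm, pow_mul, pow_card_eq_one', one_pow])).symm)
    have hG : ∀ g : G, g ^ 0 = 1 := fun g => pow_zero g
    have hH : ∀ g : H, g ^ 0 = 1 := fun g => pow_zero g
    rw [Nat.card_congr (Equiv.subtypeUnivEquiv hG), Nat.card_congr (Equiv.subtypeUnivEquiv hH), e]
  · rw [card_pow_eq_sum hn, card_pow_eq_sum hn]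
    exact Finset.sum_congr rfl fun d _ => h d

end Cfsg.Agent.S4377
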