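import Cfsg.Statements.S4376
import Cfsg.Agent.S4377
import Mathlib

set_option autoImplicit false
open Cfsg

namespace Cfsg.Agent.S4376

/-- the divisors of thirty -/
def ns : List ℕ := [1, 2, 3, 5, 6, 10, 15, 30]

/-- root counts at the divisors of thirty -/
noncomputable def counts (G : Type) [Group G] : List ℕ :=
  ns.map fun n => Nat.card {g : G // g ^ n = 1}

/-- a group of exponent dividing thirty with the given root counts, solvable or not -/
def Profile (s : Bool) (v : List ℕ) : Prop :=
  ∃ (G : Type) (_ : Group G) (_ : Finite G),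
    (if s then Group.IsSolvable G else ¬ Group.IsSolvable G) ∧ (∀ g : G, g ^ 30 = 1) ∧ counts G = v

/-- pointwise product -/
def mul8 : List ℕ → List ℕ → List ℕ := List.zipWith (· * ·)

theorem counts_prod (G H : Type) [Group G] [Group H] :
    counts (G × H) = mul8 (counts G) (counts H) := by
  simp only [counts, mul8, List.zipWith_map, List.zipWith_self]
  refine List.map_congr_left fun n _ => ?_
  rw [← Nat.card_prod]
  exact Nat.card_congr
    { toFun := fun g => (⟨g.1.1, congrArg Prod.fst g.2⟩, ⟨g.1.2, congrArg Prod.snd g.2⟩)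
      invFun := fun g => ⟨(g.1.1, g.2.1), Prod.ext g.1.2 g.2.2⟩
      left_inv := fun _ => rfl
      right_inv := fun _ => rfl }

theorem Profile.mul {s : Bool} {v w : List ℕ} (h : Profile s v) (h' : Profile true w) :
    Profile s (mul8 v w) := by
  obtain ⟨G, _, _, hs, he, rfl⟩ := h
  obtain ⟨H, _, _, hs', he', rfl⟩ := h'
  refine ⟨G × H, inferInstance, inferInstance, ?_, fun g => Prod.ext (he g.1) (he' g.2),
    counts_prod G H⟩
  cases s
  · simp only [Bool.false_eq_true, if_false] at hs ⊢
    intro hc
    exact hs (solvable_of_surjective (f := MonoidHom.fst G H) fun x => ⟨(x, 1), rfl⟩)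
  · simp only [if_true] at hs hs' ⊢
    haveI := hs
    haveI := hs'
    infer_instance

theorem Profile.pow {v : List ℕ} (h : Profile true v) :
    ∀ k : ℕ, Profile true ((mul8 v)^[k] v)
  | 0 => h
  | k + 1 => by
    have h2 := Profile.pow h k
    rw [Function.iterate_succ_apply']
    exact h.mul h2

/-- A module for `A` together with the number of solutions of the twisted power equation. -/
def Rep (A : Type) [Group A] (K : A → ℕ → ℕ) : Prop :=
  ∃ (V : Type) (_ : CommGroup V) (_ : Finite V) (φ : A →* MulAut V),
    (∀ a : A, a ^ 30 = 1 → ∀ v : V, (⟨v, a⟩ : V ⋊[φ] A) ^ 30 = 1) ∧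
    ∀ a : A, ∀ n ∈ ns, a ^ n = 1 → Nat.card {v : V // (⟨v, a⟩ : V ⋊[φ] A) ^ n = 1} = K a n

theorem Rep.triv (A : Type) [Group A] : Rep A (fun _ _ => 1) := by
  refine ⟨PUnit, inferInstance, inferInstance, 1, fun a ha v => ?_, fun a n _ ha => ?_⟩
  · refine SemidirectProduct.ext ?_ ?_
    · exact Subsingleton.elim _ _
    · rw [← SemidirectProduct.rightHom_eq_right, map_pow]; exact ha
  · haveI : Unique {v : PUnit // (⟨v, a⟩ : PUnit ⋊[(1 : A →* MulAut PUnit)] A) ^ n = 1} :=
      { default := ⟨1, by
          refine SemidirectProduct.ext ?_ ?_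
          · exact Subsingleton.elim _ _
          · rw [← SemidirectProduct.rightHom_eq_right, map_pow]; exact ha⟩
        uniq := fun _ => Subsingleton.elim _ _ }
    exact Nat.card_unique

theorem Rep.prod {A : Type} [Group A] {K K' : A → ℕ → ℕ} (h : Rep A K) (h' : Rep A K') :
    Rep A (fun a n => K a n * K' a n) := by
  obtain ⟨V, _, _, φ, he, hc⟩ := h
  obtain ⟨W, _, _, ψ, he', hc'⟩ := h'
  let χ : A →* MulAut (V × W) :=
    { toFun := fun a => MulEquiv.prodCongr (φ a) (ψ a)
      map_one' := MulEquiv.ext fun x => by
        show (φ 1 x.1, ψ 1 x.2) = x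
        simp
      map_mul' := fun a b => MulEquiv.ext fun x => by
        show (φ (a * b) x.1, ψ (a * b) x.2) = (φ a (φ b x.1), ψ a (ψ b x.2))
        simp }
  have key : ∀ (a : A) (x : V × W) (n : ℕ),
      ((⟨x, a⟩ : (V × W) ⋊[χ] A) ^ n).left =
        (((⟨x.1, a⟩ : V ⋊[φ] A) ^ n).left, ((⟨x.2, a⟩ : W ⋊[ψ] A) ^ n).left) := by
    intro a x n
    induction n with
    | zero => simp only [pow_zero]; rfl
    | succ n ih =>
      simp only [pow_succ', SemidirectProduct.mul_left, ih]
      rfl
  refine ⟨V × W, inferInstance, inferInstance, χ, fun a ha x => ?_, fun a n hn ha => ?_⟩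
  · refine SemidirectProduct.ext ?_ ?_
    · rw [key, he a ha x.1, he' a ha x.2]; rfl
    · rw [← SemidirectProduct.rightHom_eq_right, map_pow]; exact ha
  · show _ = K a n * K' a n
    rw [← hc a n hn ha, ← hc' a n hn ha, ← Nat.card_prod]
    refine Nat.card_congr
      { toFun := fun x => (⟨x.1.1, ?_⟩, ⟨x.1.2, ?_⟩)
        invFun := fun y => ⟨(y.1.1, y.2.1), ?_⟩
        left_inv := fun _ => rfl
        right_inv := fun _ => rfl }
    · refine SemidirectProduct.ext ?_ ?_
      · have h1 := congrArg SemidirectProduct.left x.2
        rw [key] at h1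
        exact congrArg Prod.fst h1
      · rw [← SemidirectProduct.rightHom_eq_right, map_pow]; exact ha
    · refine SemidirectProduct.ext ?_ ?_
      · have h1 := congrArg SemidirectProduct.left x.2
        rw [key] at h1
        exact congrArg Prod.snd h1
      · rw [← SemidirectProduct.rightHom_eq_right, map_pow]; exact ha
    · refine SemidirectProduct.ext ?_ ?_
      · rw [key, y.1.2, y.2.2]; rfl
      · rw [← SemidirectProduct.rightHom_eq_right, map_pow]; exact ha

/-- kernel count of a scalar component of size `q` in characteristic `p` -/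
def scK {A : Type} (p q : ℕ) {k : ℕ} [NeZero k] (c : A → ZMod k) (a : A) (n : ℕ) : ℕ :=
  if c a ≠ 0 ∨ n % p = 0 then q else 1

theorem Rep.scalar {A : Type} [Group A] (p d k : ℕ) [Fact p.Prime] [NeZero k] (hd : d ≠ 0)
    (hp : p ∣ 30) (hk : k ∣ p ^ d - 1)
    (c : A →* Multiplicative (ZMod k)) :
    Rep A (scK p (p ^ d) fun a => Multiplicative.toAdd (c a)) := by
  classical
  haveI : Fintype (GaloisField p d) := Fintype.ofFinite _
  have hqn : Nat.card (GaloisField p d) = p ^ d := GaloisField.card p d hd
  have hq : Fintype.card (GaloisField p d) = p ^ d := by rw [← Nat.card_eq_fintype_card]; exact hqn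
  obtain ⟨g, hg⟩ := IsCyclic.exists_ofOrder_eq_natCard (α := (GaloisField p d)ˣ)
  have hu : orderOf (g ^ ((p ^ d - 1) / k)) = k := by
    have hcard : orderOf g = p ^ d - 1 := by rw [hg, Nat.card_units, hqn]
    have hpos : 0 < p ^ d - 1 := hcard ▸ orderOf_pos g
    obtain ⟨r, hr⟩ := hk
    have hk0 : 0 < k := Nat.pos_of_ne_zero (NeZero.ne k)
    have hr0 : r ≠ 0 := by rintro rfl; simp at hr; omega
    rw [hr, Nat.mul_div_cancel_left r hk0, orderOf_pow_of_dvd hr0 (by rw [hcard, hr]; exact ⟨k, by ring⟩),
      hcard, hr, Nat.mul_div_cancel _ (Nat.pos_of_ne_zero hr0)]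
  set u := g ^ ((p ^ d - 1) / k) with hu'
  let ω : A →* (GaloisField p d)ˣ :=
    { toFun := fun a => u ^ (Multiplicative.toAdd (c a)).val
      map_one' := by simp
      map_mul' := fun a b => by
        rw [map_mul, toAdd_mul, ZMod.val_add, ← pow_add]
        conv_rhs => rw [← pow_mod_orderOf, hu] }
  let φ : A →* MulAut (Multiplicative (GaloisField p d)) :=
    { toFun := fun a => AddEquiv.toMultiplicative
        { toFun := fun x => (ω a : GaloisField p d) * x
          invFun := fun x => ((ω a)⁻¹ : (GaloisField p d)ˣ) * x
          left_inv := fun x => Units.inv_mul_cancel_left _ x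
          right_inv := fun x => Units.mul_inv_cancel_left _ x
          map_add' := fun x y => mul_add _ x y }
      map_one' := by
        ext x
        show Multiplicative.ofAdd ((ω 1 : GaloisField p d) * Multiplicative.toAdd x) = x
        rw [map_one, Units.val_one, one_mul, ofAdd_toAdd]
      map_mul' := fun a b => by
        ext x
        show Multiplicative.ofAdd ((ω (a * b) : GaloisField p d) * Multiplicative.toAdd x) =
          Multiplicative.ofAdd ((ω a : GaloisField p d) * ((ω b : GaloisField p d) * Multiplicative.toAdd x))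
        rw [map_mul ω, Units.val_mul, mul_assoc] }
  have key : ∀ (a : A) (v : Multiplicative (GaloisField p d)) (n : ℕ),
      Multiplicative.toAdd ((⟨v, a⟩ : Multiplicative (GaloisField p d) ⋊[φ] A) ^ n).left =
        (∑ i ∈ Finset.range n, (ω a : GaloisField p d) ^ i) * Multiplicative.toAdd v := by
    intro a v n
    induction n with
    | zero => simp
    | succ n ih =>
      simp only [pow_succ', SemidirectProduct.mul_left]
      show Multiplicative.toAdd v + (ω a : GaloisField p d) *
        Multiplicative.toAdd ((⟨v, a⟩ : Multiplicative (GaloisField p d) ⋊[φ] A) ^ n).left = _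
      rw [ih, Finset.sum_range_succ', pow_zero]
      simp only [pow_succ', ← Finset.mul_sum]
      ring
  have one_iff : ∀ a : A, (ω a : GaloisField p d) = 1 ↔ Multiplicative.toAdd (c a) = 0 := by
    intro a
    rw [Units.val_eq_one]
    show u ^ (Multiplicative.toAdd (c a)).val = 1 ↔ _
    rw [← orderOf_dvd_iff_pow_eq_one, hu]
    constructor
    · intro h
      exact (ZMod.val_eq_zero _).1 (Nat.eq_zero_of_dvd_of_lt h (ZMod.val_lt _))
    · intro h; simp [h]
  have iff1 : ∀ (a : A) (v : Multiplicative (GaloisField p d)) (n : ℕ), a ^ n = 1 →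
      ((⟨v, a⟩ : Multiplicative (GaloisField p d) ⋊[φ] A) ^ n = 1 ↔
        ((Multiplicative.toAdd (c a) ≠ 0 ∨ n % p = 0) ∨ v = 1)) := by
    intro a v n ha
    rw [SemidirectProduct.ext_iff]
    have hr : ((⟨v, a⟩ : Multiplicative (GaloisField p d) ⋊[φ] A) ^ n).right = 1 := by
      rw [← SemidirectProduct.rightHom_eq_right, map_pow]; exact ha
    simp only [hr, SemidirectProduct.one_right, and_true, SemidirectProduct.one_left]
    rw [← toAdd_eq_zero, key, mul_eq_zero, toAdd_eq_zero]
    refine or_congr ?_ Iff.rfl
    by_cases hc : Multiplicative.toAdd (c a) = 0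
    · simp only [(one_iff a).2 hc, one_pow, Finset.sum_const, Finset.card_range, nsmul_eq_mul,
        mul_one, hc, ne_eq, not_true_eq_false, false_or]
      rw [CharP.cast_eq_zero_iff (GaloisField p d) p, Nat.dvd_iff_mod_eq_zero]
    · simp only [ne_eq, hc, not_false_eq_true, true_or, iff_true]
      have h1 : (ω a : GaloisField p d) ^ n = 1 := by
        rw [← Units.val_pow_eq_pow_val, ← map_pow, ha, map_one, Units.val_one]
      have h2 := geom_sum_mul (ω a : GaloisField p d) n
      rw [h1, sub_self, mul_eq_zero] at h2
      exact h2.resolve_right fun h => hc ((one_iff a).1 (sub_eq_zero.1 h))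
  refine ⟨Multiplicative (GaloisField p d), inferInstance, inferInstance, φ,
    fun a ha v => (iff1 a v 30 ha).2 (Or.inl (Or.inr (Nat.mod_eq_zero_of_dvd hp))), fun a n _ ha => ?_⟩
  rw [Nat.card_congr (Equiv.subtypeEquivRight fun v => iff1 a v n ha)]
  unfold scK
  split_ifs with h
  · rw [Nat.card_congr (Equiv.subtypeUnivEquiv fun v => Or.inl h)]
    exact hqn
  · haveI : Unique {v : Multiplicative (GaloisField p d) //
        (Multiplicative.toAdd (c a) ≠ 0 ∨ n % p = 0) ∨ v = 1} :=
      { default := ⟨1, Or.inr rfl⟩
        uniq := fun v => Subtype.ext (v.2.resolve_left h) }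
    exact Nat.card_unique

/-- root counts of a semidirect product computed from the acting group -/
def sdCounts (A : Type) [Group A] [Fintype A] [DecidableEq A] (K : A → ℕ → ℕ) : List ℕ :=
  ns.map fun n => ∑ a : A, if a ^ n = 1 then K a n else 0

theorem Rep.profile {A : Type} [Group A] [Fintype A] [DecidableEq A] {K : A → ℕ → ℕ}
    (h : Rep A K) (hA : Group.IsSolvable A) (h30 : ∀ a : A, a ^ 30 = 1) :
    Profile true (sdCounts A K) := by
  classical
  obtain ⟨V, _, _, φ, he, hc⟩ := h
  haveI := hA
  haveI : Fintype V := Fintype.ofFinite V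
  haveI : Finite (V ⋊[φ] A) := Finite.of_equiv _ SemidirectProduct.equivProd.symm
  refine ⟨V ⋊[φ] A, inferInstance, inferInstance, ?_, fun g => ?_, ?_⟩
  · simp only [if_true]
    exact solvable_of_ker_le_range (SemidirectProduct.inl : V →* V ⋊[φ] A)
      SemidirectProduct.rightHom (le_of_eq SemidirectProduct.range_inl_eq_ker_rightHom.symm)
  · exact he g.right (h30 g.right) g.left
  · refine List.map_congr_left fun n hn => ?_
    have e : {g : V ⋊[φ] A // g ^ n = 1} ≃
        Σ a : A, {v : V // (⟨v, a⟩ : V ⋊[φ] A) ^ n = 1} :=
      { toFun := fun g => ⟨g.1.right, ⟨g.1.left, g.2⟩⟩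
        invFun := fun x => ⟨⟨x.2.1, x.1⟩, x.2.2⟩
        left_inv := fun _ => rfl
        right_inv := fun _ => rfl }
    rw [Nat.card_congr e, Nat.card_sigma]
    refine Finset.sum_congr rfl fun a _ => ?_
    split_ifs with ha
    · exact hc a n hn ha
    · haveI : IsEmpty {v : V // (⟨v, a⟩ : V ⋊[φ] A) ^ n = 1} := ⟨fun v => ha <| by
        have := congrArg SemidirectProduct.rightHom v.2
        rwa [map_pow, map_one] at this⟩
      exact Nat.card_of_isEmpty

/-- the acting abelian groups -/
abbrev Ab (a b c d : ℕ) : Type :=
  Multiplicative (ZMod a × ZMod b × ZMod c × ZMod d)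

/-- a coefficient gives a map of cyclic groups -/
def cmap (a k : ℕ) (x : ℕ) (h : a * x % k = 0) : ZMod a →+ ZMod k :=
  ZMod.lift a ⟨zmultiplesHom _ (x : ZMod k), by
    simp only [zmultiplesHom_apply, natCast_zsmul, nsmul_eq_mul, ← Nat.cast_mul]
    rw [ZMod.natCast_eq_zero_iff]
    exact Nat.dvd_of_mod_eq_zero h⟩

theorem cmap_apply (a k : ℕ) [NeZero a] (x : ℕ) (h : a * x % k = 0) (t : ZMod a) :
    cmap a k x h t = ((t.val * x : ℕ) : ZMod k) := by
  conv_lhs => rw [← ZMod.natCast_zmod_val t, ← Int.cast_natCast]
  rw [cmap, ZMod.lift_coe]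
  simp [zmultiplesHom_apply]

/-- linear form on four coordinates, as a function -/
def lin (a b c d k x y z w : ℕ) (t : Ab a b c d) : ZMod k :=
  (((Multiplicative.toAdd t).1.val * x + (Multiplicative.toAdd t).2.1.val * y +
    (Multiplicative.toAdd t).2.2.1.val * z + (Multiplicative.toAdd t).2.2.2.val * w : ℕ) : ZMod k)

theorem Rep.comp {a b c d : ℕ} [NeZero a] [NeZero b] [NeZero c] [NeZero d] {K : Ab a b c d → ℕ → ℕ}
    (h : Rep (Ab a b c d) K) (p e k x y z w : ℕ) [Fact p.Prime] [NeZero k] (he : e ≠ 0)
    (hp : p ∣ 30) (hk : k ∣ p ^ e - 1)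
    (hx : a * x % k = 0) (hy : b * y % k = 0) (hz : c * z % k = 0) (hw : d * w % k = 0) :
    Rep (Ab a b c d) (fun t n => scK p (p ^ e) (lin a b c d k x y z w) t n * K t n) := by
  let χ : ZMod a × ZMod b × ZMod c × ZMod d →+ ZMod k :=
    (cmap a k x hx).coprod ((cmap b k y hy).coprod ((cmap c k z hz).coprod (cmap d k w hw)))
  have e1 : (fun t => Multiplicative.toAdd (AddMonoidHom.toMultiplicative χ t)) =
      lin a b c d k x y z w := by
    funext t
    simp only [AddMonoidHom.toMultiplicative_apply_apply, toAdd_ofAdd, χ,
      AddMonoidHom.coprod_apply, cmap_apply, lin, Nat.cast_add]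
    ring
  have h2 := (Rep.scalar p e k he hp hk (AddMonoidHom.toMultiplicative χ)).prod h
  rw [e1] at h2
  exact h2

/-- the Heisenberg group of order twenty-seven -/
structure H27 where
  i : ZMod 3
  j : ZMod 3
  l : ZMod 3
  deriving DecidableEq

/-- coordinates -/
def H27.equiv : H27 ≃ ZMod 3 × ZMod 3 × ZMod 3 :=
  { toFun := fun h => (h.i, h.j, h.l)
    invFun := fun t => ⟨t.1, t.2.1, t.2.2⟩
    left_inv := fun _ => rfl
    right_inv := fun _ => rfl }

instance instFintypeH27 : Fintype H27 := Fintype.ofEquiv _ H27.equiv.symm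

theorem H27.ext' {a b : H27} (h1 : a.i = b.i) (h2 : a.j = b.j) (h3 : a.l = b.l) : a = b := by
  cases a; cases b; simp_all

instance instGroupH27 : Group H27 where
  mul a b := ⟨a.i + b.i, a.j + b.j, a.l + b.l - a.i * b.j⟩
  one := ⟨0, 0, 0⟩
  inv a := ⟨-a.i, -a.j, -a.l - a.i * a.j⟩
  mul_assoc a b c := H27.ext' (add_assoc _ _ _) (add_assoc _ _ _) (by
    show a.l + b.l - a.i * b.j + c.l - (a.i + b.i) * c.j =
      a.l + (b.l + c.l - b.i * c.j) - a.i * (b.j + c.j)
    ring)
  one_mul a := H27.ext' (zero_add _) (zero_add _) (by
    show 0 + a.l - 0 * a.j = a.l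
    ring)
  mul_one a := H27.ext' (add_zero _) (add_zero _) (by
    show a.l + 0 - a.i * 0 = a.l
    ring)
  inv_mul_cancel a := H27.ext' (neg_add_cancel _) (neg_add_cancel _) (by
    show -a.l - a.i * a.j + a.l - -a.i * a.j = 0
    ring)

/-- four-element module -/
abbrev W2 : Type := ZMod 2 × ZMod 2

/-- powers of an automorphism of order three -/
def rot (t : ZMod 3) (x : W2) : W2 :=
  if t = 0 then x else if t = 1 then (x.2, x.1 + x.2) else (x.1 + x.2, x.1)

theorem rot_add : ∀ a b : ZMod 3, ∀ x : W2, rot (a + b) x = rot a (rot b x) := by decide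

theorem rot_lin : ∀ a : ZMod 3, ∀ x y : W2, rot a (x + y) = rot a x + rot a y := by decide

theorem rot_zero : ∀ x : W2, rot 0 x = x := by decide

/-- the six dimensional module -/
abbrev W6 : Type := W2 × W2 × W2

/-- coordinate of a triple -/
def coord (v : W6) (t : ZMod 3) : W2 :=
  if t = 0 then v.1 else if t = 1 then v.2.1 else v.2.2

/-- the monomial action -/
def act (h : H27) (v : W6) : W6 :=
  (rot (h.l + h.j * 0) (coord v (0 - h.i)), rot (h.l + h.j * 1) (coord v (1 - h.i)),
    rot (h.l + h.j * 2) (coord v (2 - h.i)))

theorem coord_act (h : H27) (v : W6) (t : ZMod 3) :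
    coord (act h v) t = rot (h.l + h.j * t) (coord v (t - h.i)) := by
  fin_cases t <;> rfl

theorem coord_inj {v w : W6} (h : ∀ t, coord v t = coord w t) : v = w :=
  Prod.ext (h 0) (Prod.ext (h 1) (h 2))

theorem act_mul (g h : H27) (v : W6) : act (g * h) v = act g (act h v) := by
  refine coord_inj fun t => ?_
  rw [coord_act, coord_act, coord_act, ← rot_add]
  show rot (g.l + h.l - g.i * h.j + (g.j + h.j) * t) (coord v (t - (g.i + h.i))) = _
  rw [sub_sub, show g.l + h.l - g.i * h.j + (g.j + h.j) * t =
    g.l + g.j * t + (h.l + h.j * (t - g.i)) by ring]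

theorem act_one (v : W6) : act 1 v = v := by
  refine coord_inj fun t => ?_
  rw [coord_act]
  show rot (0 + 0 * t) (coord v (t - 0)) = _
  rw [zero_mul, add_zero, sub_zero, rot_zero]

theorem act_add (h : H27) (v w : W6) : act h (v + w) = act h v + act h w := by
  have hc : ∀ t, coord (v + w) t = coord v t + coord w t := fun t => by fin_cases t <;> rfl
  simp only [act, hc, rot_lin]
  rfl

/-- the action as a homomorphism -/
def φ27 : H27 →* MulAut (Multiplicative W6) where
  toFun h := AddEquiv.toMultiplicative
    { toFun := act h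
      invFun := act h⁻¹
      left_inv := fun v => by rw [← act_mul, inv_mul_cancel, act_one]
      right_inv := fun v => by rw [← act_mul, mul_inv_cancel, act_one]
      map_add' := act_add h }
  map_one' := MulEquiv.ext fun x => act_one x
  map_mul' g h := MulEquiv.ext fun x => act_mul g h x

theorem pow3 : ∀ h : H27, h ^ 3 = 1 := by decide +kernel

/-- kernel count of the monomial component -/
def monK (h : H27) (n : ℕ) : ℕ :=
  if h = 1 then (if n % 2 = 0 then 64 else 1)
  else if n % 2 = 0 then 64 else if h.i = 0 ∧ h.j = 0 then 64 else 16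

theorem triple_count : ∀ h : H27, h ≠ 1 →
    (Finset.univ.filter fun v : W6 => v + (act h v + act h (act h v)) = 0).card =
      if h.i = 0 ∧ h.j = 0 then 64 else 16 := by decide +kernel

theorem Rep.monomial : Rep H27 monK := by
  classical
  have sq : ∀ v : Multiplicative W6, v ^ 2 = 1 := by
    intro v
    have h2 : ∀ x : W6, x + x = 0 := by decide +kernel
    rw [pow_two]
    exact h2 v
  have cube : ∀ (v : Multiplicative W6) (h : H27),
      (⟨v, h⟩ : Multiplicative W6 ⋊[φ27] H27) ^ 3 =
        SemidirectProduct.inl (v * (φ27 h v * φ27 h (φ27 h v))) := by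
    intro v h
    refine SemidirectProduct.ext ?_ ?_
    · rw [pow_three]
      show v * φ27 h (v * φ27 h v) = _
      rw [map_mul]
      rfl
    · rw [← SemidirectProduct.rightHom_eq_right, map_pow, SemidirectProduct.rightHom_inl]
      exact pow3 h
  have cases3 : ∀ (h : H27) (n : ℕ), h ≠ 1 → h ^ n = 1 → 3 ∣ n := by
    intro h n h1 hn
    have ho : orderOf h = 3 := orderOf_eq_prime (pow3 h) h1
    exact ho ▸ orderOf_dvd_of_pow_eq_one hn
  have even_pow : ∀ (v : Multiplicative W6) (h : H27) (n : ℕ), n % 2 = 0 → h ^ n = 1 →
      (⟨v, h⟩ : Multiplicative W6 ⋊[φ27] H27) ^ n = 1 := by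
    intro v h n hn hh
    by_cases h1 : h = 1
    · subst h1
      obtain ⟨m, rfl⟩ := Nat.dvd_of_mod_eq_zero hn
      change (SemidirectProduct.inl v : Multiplicative W6 ⋊[φ27] H27) ^ _ = 1
      rw [← map_pow, pow_mul, sq, one_pow, map_one]
    · obtain ⟨m, rfl⟩ := cases3 h n h1 hh
      obtain ⟨r, hr⟩ : 2 ∣ m := by omega
      subst hr
      rw [pow_mul, cube, ← map_pow, pow_mul, sq, one_pow, map_one]
  have odd_pow : ∀ (v : Multiplicative W6) (n : ℕ), n % 2 = 1 → v ^ n = v := by
    intro v n hn
    rw [← Nat.mod_add_div n 2, hn, pow_add, pow_one, pow_mul, sq, one_pow, mul_one]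
  refine ⟨Multiplicative W6, inferInstance, inferInstance, φ27,
    fun h hh v => even_pow v h 30 rfl hh, fun h n _ hn => ?_⟩
  have all_card : Nat.card (Multiplicative W6) = 64 := by
    rw [Nat.card_eq_fintype_card, Fintype.card_multiplicative]
    decide +kernel
  unfold monK
  by_cases hp : n % 2 = 0
  · rw [if_pos hp, if_pos hp, ite_self, Nat.card_congr (Equiv.subtypeUnivEquiv fun v => even_pow v h n hp hn)]
    exact all_card
  · rw [if_neg hp, if_neg hp]
    have hodd : n % 2 = 1 := by omega
    by_cases h1 : h = 1
    · subst h1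
      rw [if_pos rfl]
      have e : ∀ v : Multiplicative W6,
          (⟨v, 1⟩ : Multiplicative W6 ⋊[φ27] H27) ^ n = 1 ↔ v = 1 := by
        intro v
        change (SemidirectProduct.inl v : Multiplicative W6 ⋊[φ27] H27) ^ n = 1 ↔ v = 1
        rw [← map_pow, odd_pow v n hodd]
        exact map_eq_one_iff _ SemidirectProduct.inl_injective
      rw [Nat.card_congr (Equiv.subtypeEquivRight e)]
      exact Nat.card_unique
    · rw [if_neg h1]
      obtain ⟨m, rfl⟩ := cases3 h n h1 hn
      have hm : m % 2 = 1 := by omega
      have e : ∀ v : Multiplicative W6,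
          (⟨v, h⟩ : Multiplicative W6 ⋊[φ27] H27) ^ (3 * m) = 1 ↔
            v * (φ27 h v * φ27 h (φ27 h v)) = 1 := by
        intro v
        rw [pow_mul, cube, ← map_pow, odd_pow _ m hm]
        exact map_eq_one_iff _ SemidirectProduct.inl_injective
      rw [Nat.card_congr (Equiv.subtypeEquivRight e)]
      refine (Nat.card_congr (Equiv.subtypeEquiv (Multiplicative.toAdd (α := W6))
          (q := fun v : W6 => v + (act h v + act h (act h v)) = 0) (fun v => Iff.rfl))).trans ?_
      rw [Nat.card_eq_fintype_card, Fintype.card_subtype]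
      exact triple_count h h1

/-- first linear character -/
def chi1 : H27 →* Multiplicative (ZMod 3) where
  toFun h := Multiplicative.ofAdd h.i
  map_one' := rfl
  map_mul' _ _ := rfl

/-- second linear character -/
def chi2 : H27 →* Multiplicative (ZMod 3) where
  toFun h := Multiplicative.ofAdd h.j
  map_one' := rfl
  map_mul' _ _ := rfl

theorem profile27 : Profile true [1, 1024, 3969, 1, 27648, 1024, 3969, 27648] := by
  haveI : Fact (Nat.Prime 3) := ⟨by norm_num⟩
  haveI : Fact (Nat.Prime 2) := ⟨Nat.prime_two⟩
  have hP : IsPGroup 3 H27 := fun h => ⟨1, by rw [pow_one]; exact pow3 h⟩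
  haveI := hP.isNilpotent
  have h := (((Rep.monomial).prod (Rep.scalar 2 2 3 (by decide) (by decide) (by decide) chi1)).prod
    (Rep.scalar 2 2 3 (by decide) (by decide) (by decide) chi2)).profile inferInstance
    (fun h => by rw [show 30 = 3 * 10 from rfl, pow_mul, pow3, one_pow])
  convert h using 1
  decide +kernel

theorem profileA5 : Profile false [1, 16, 21, 25, 36, 40, 45, 60] := by
  refine ⟨alternatingGroup (Fin 5), inferInstance, inferInstance, ?_, ?_, ?_⟩
  · simp only [Bool.false_eq_true, if_false]
    intro h
    haveI := h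
    exact Equiv.Perm.fin_5_not_solvable
      (solvable_of_ker_le_range (alternatingGroup (Fin 5)).subtype Equiv.Perm.sign
        (le_of_eq (Subgroup.range_subtype _).symm))
  · decide +kernel
  · simp only [counts, ns, List.map_cons, List.map_nil, Nat.card_eq_fintype_card]
    decide +kernel

instance instFactPrimeThree : Fact (Nat.Prime 3) := ⟨by norm_num⟩
instance instFactPrimeFive : Fact (Nat.Prime 5) := ⟨by norm_num⟩

theorem g0 : Profile true [1, 4, 9, 1, 12, 4, 9, 12] := by
  convert ((Rep.triv (Ab 3 1 1 1)).comp 2 2 3 1 0 0 0 (by decide) (by decide) (by decide) (by decide) (by decide) (by decide) (by decide)).profile inferInstance (by decide +kernel) using 1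
  decide +kernel

theorem g1 : Profile true [1, 4, 3, 1, 6, 4, 3, 6] := by
  convert ((Rep.triv (Ab 2 1 1 1)).comp 3 1 2 1 0 0 0 (by decide) (by decide) (by decide) (by decide) (by decide) (by decide) (by decide)).profile inferInstance (by decide +kernel) using 1
  decide +kernel

theorem g2 : Profile true [1, 208, 243, 1, 1944, 208, 243, 1944] := by
  convert ((((((Rep.triv (Ab 2 2 2 1)).comp 3 1 2 0 0 1 0 (by decide) (by decide) (by decide) (by decide) (by decide) (by decide) (by decide)).comp 3 1 2 0 1 0 0 (by decide) (by decide) (by decide) (by decide) (by decide) (by decide) (by decide)).comp 3 1 2 0 1 1 0 (by decide) (by decide) (by decide) (by decide) (by decide) (by decide) (by decide)).comp 3 1 2 1 0 0 0 (by decide) (by decide) (by decide) (by decide) (by decide) (by decide) (by decide)).comp 3 1 2 1 0 1 0 (by decide) (by decide) (by decide) (by decide) (by decide) (by decide) (by decide)).profile inferInstance (by decide +kernel) using 1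
  decide +kernel

theorem g3 : Profile true [1, 1, 243, 325, 243, 325, 1215, 1215] := by
  convert ((Rep.triv (Ab 3 5 1 1)).comp 3 4 5 0 1 0 0 (by decide) (by decide) (by decide) (by decide) (by decide) (by decide) (by decide)).profile inferInstance (by decide +kernel) using 1
  decide +kernel

theorem g4 : Profile true [1, 64, 225, 1, 576, 64, 225, 576] := by
  convert ((((Rep.triv (Ab 3 3 1 1)).comp 2 2 3 0 1 0 0 (by decide) (by decide) (by decide) (by decide) (by decide) (by decide) (by decide)).comp 2 2 3 1 0 0 0 (by decide) (by decide) (by decide) (by decide) (by decide) (by decide) (by decide)).comp 2 2 3 1 1 0 0 (by decide) (by decide) (by decide) (by decide) (by decide) (by decide) (by decide)).profile inferInstance (by decide +kernel) using 1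
  decide +kernel

theorem g5 : Profile true [1, 1664, 12825, 25, 72576, 3200, 18225, 86400] := by
  convert (((((Rep.triv (Ab 2 3 3 3)).comp 2 2 3 0 1 0 1 (by decide) (by decide) (by decide) (by decide) (by decide) (by decide) (by decide)).comp 2 2 3 0 1 1 2 (by decide) (by decide) (by decide) (by decide) (by decide) (by decide) (by decide)).comp 2 2 3 0 2 0 0 (by decide) (by decide) (by decide) (by decide) (by decide) (by decide) (by decide)).comp 5 2 6 3 2 2 2 (by decide) (by decide) (by decide) (by decide) (by decide) (by decide) (by decide)).profile inferInstance (by decide +kernel) using 1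
  decide +kernel

theorem g6 : Profile true [1, 126, 1, 125, 126, 250, 125, 250] := by
  convert ((((Rep.triv (Ab 2 1 1 1)).comp 5 1 2 1 0 0 0 (by decide) (by decide) (by decide) (by decide) (by decide) (by decide) (by decide)).comp 5 1 2 1 0 0 0 (by decide) (by decide) (by decide) (by decide) (by decide) (by decide) (by decide)).comp 5 1 2 1 0 0 0 (by decide) (by decide) (by decide) (by decide) (by decide) (by decide) (by decide)).profile inferInstance (by decide +kernel) using 1
  decide +kernel

theorem g8 : Profile true [1, 256, 513, 65, 768, 1280, 2625, 3840] := by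
  convert ((((Rep.triv (Ab 3 5 1 1)).comp 2 2 3 1 0 0 0 (by decide) (by decide) (by decide) (by decide) (by decide) (by decide) (by decide)).comp 2 2 3 1 0 0 0 (by decide) (by decide) (by decide) (by decide) (by decide) (by decide) (by decide)).comp 2 4 15 5 3 0 0 (by decide) (by decide) (by decide) (by decide) (by decide) (by decide) (by decide)).profile inferInstance (by decide +kernel) using 1
  decide +kernel

theorem g9 : Profile true [1, 256, 16929, 1625, 39168, 32000, 149625, 288000] := by
  convert (((((Rep.triv (Ab 3 3 5 1)).comp 2 4 15 0 10 3 0 (by decide) (by decide) (by decide) (by decide) (by decide) (by decide) (by decide)).comp 2 2 3 1 1 0 0 (by decide) (by decide) (by decide) (by decide) (by decide) (by decide) (by decide)).comp 5 2 3 1 1 0 0 (by decide) (by decide) (by decide) (by decide) (by decide) (by decide) (by decide)).comp 2 2 3 2 0 0 0 (by decide) (by decide) (by decide) (by decide) (by decide) (by decide) (by decide)).profile inferInstance (by decide +kernel) using 1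
  decide +kernel

theorem g10 : Profile true [1, 512, 513, 1, 1536, 512, 513, 1536] := by
  convert (((((Rep.triv (Ab 2 3 1 1)).comp 2 2 3 0 1 0 0 (by decide) (by decide) (by decide) (by decide) (by decide) (by decide) (by decide)).comp 2 2 3 0 1 0 0 (by decide) (by decide) (by decide) (by decide) (by decide) (by decide) (by decide)).comp 2 2 3 0 1 0 0 (by decide) (by decide) (by decide) (by decide) (by decide) (by decide) (by decide)).comp 2 2 3 0 1 0 0 (by decide) (by decide) (by decide) (by decide) (by decide) (by decide) (by decide)).profile inferInstance (by decide +kernel) using 1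
  decide +kernel

theorem g11 : Profile true [1, 256, 29889, 25, 117504, 6400, 56025, 172800] := by
  convert ((((((Rep.triv (Ab 3 3 3 1)).comp 2 2 3 0 2 0 0 (by decide) (by decide) (by decide) (by decide) (by decide) (by decide) (by decide)).comp 2 2 3 1 1 0 0 (by decide) (by decide) (by decide) (by decide) (by decide) (by decide) (by decide)).comp 5 2 3 2 0 0 0 (by decide) (by decide) (by decide) (by decide) (by decide) (by decide) (by decide)).comp 2 2 3 2 1 2 0 (by decide) (by decide) (by decide) (by decide) (by decide) (by decide) (by decide)).comp 2 2 3 2 2 1 0 (by decide) (by decide) (by decide) (by decide) (by decide) (by decide) (by decide)).profile inferInstance (by decide +kernel) using 1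
  decide +kernel

theorem g12 : Profile true [1, 256, 50625, 25, 117504, 6400, 56025, 172800] := by
  convert ((((((Rep.triv (Ab 3 3 3 1)).comp 2 2 3 0 1 2 0 (by decide) (by decide) (by decide) (by decide) (by decide) (by decide) (by decide)).comp 5 2 3 0 1 2 0 (by decide) (by decide) (by decide) (by decide) (by decide) (by decide) (by decide)).comp 2 2 3 2 1 0 0 (by decide) (by decide) (by decide) (by decide) (by decide) (by decide) (by decide)).comp 2 2 3 2 1 1 0 (by decide) (by decide) (by decide) (by decide) (by decide) (by decide) (by decide)).comp 2 2 3 2 2 1 0 (by decide) (by decide) (by decide) (by decide) (by decide) (by decide) (by decide)).profile inferInstance (by decide +kernel) using 1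
  decide +kernel

theorem g13 : Profile true [1, 256, 47601, 25, 117504, 6400, 66825, 172800] := by
  convert ((((((Rep.triv (Ab 3 3 3 1)).comp 2 2 3 0 1 0 0 (by decide) (by decide) (by decide) (by decide) (by decide) (by decide) (by decide)).comp 5 2 3 1 0 2 0 (by decide) (by decide) (by decide) (by decide) (by decide) (by decide) (by decide)).comp 2 2 3 2 0 2 0 (by decide) (by decide) (by decide) (by decide) (by decide) (by decide) (by decide)).comp 2 2 3 2 2 0 0 (by decide) (by decide) (by decide) (by decide) (by decide) (by decide) (by decide)).comp 2 2 3 2 2 0 0 (by decide) (by decide) (by decide) (by decide) (by decide) (by decide) (by decide)).profile inferInstance (by decide +kernel) using 1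
  decide +kernel

theorem g14 : Profile true [1, 256, 38313, 25, 117504, 6400, 50625, 172800] := by
  convert ((((((Rep.triv (Ab 3 3 3 1)).comp 5 2 3 0 0 1 0 (by decide) (by decide) (by decide) (by decide) (by decide) (by decide) (by decide)).comp 2 2 3 0 1 1 0 (by decide) (by decide) (by decide) (by decide) (by decide) (by decide) (by decide)).comp 2 2 3 1 0 1 0 (by decide) (by decide) (by decide) (by decide) (by decide) (by decide) (by decide)).comp 2 2 3 1 1 2 0 (by decide) (by decide) (by decide) (by decide) (by decide) (by decide) (by decide)).comp 2 2 3 1 2 1 0 (by decide) (by decide) (by decide) (by decide) (by decide) (by decide) (by decide)).profile inferInstance (by decide +kernel) using 1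
  decide +kernel

theorem g15 : Profile true [1, 512, 801, 65, 4608, 2560, 5985, 23040] := by
  convert (((((Rep.triv (Ab 3 3 5 1)).comp 2 1 1 0 0 0 0 (by decide) (by decide) (by decide) (by decide) (by decide) (by decide) (by decide)).comp 2 2 3 2 0 0 0 (by decide) (by decide) (by decide) (by decide) (by decide) (by decide) (by decide)).comp 2 2 3 2 1 0 0 (by decide) (by decide) (by decide) (by decide) (by decide) (by decide) (by decide)).comp 2 4 15 10 10 3 0 (by decide) (by decide) (by decide) (by decide) (by decide) (by decide) (by decide)).profile inferInstance (by decide +kernel) using 1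
  decide +kernel

theorem g16 : Profile true [1, 16, 801, 25, 816, 400, 825, 1200] := by
  convert ((((Rep.triv (Ab 3 1 1 1)).comp 2 2 3 1 0 0 0 (by decide) (by decide) (by decide) (by decide) (by decide) (by decide) (by decide)).comp 2 2 3 1 0 0 0 (by decide) (by decide) (by decide) (by decide) (by decide) (by decide) (by decide)).comp 5 2 3 1 0 0 0 (by decide) (by decide) (by decide) (by decide) (by decide) (by decide) (by decide)).profile inferInstance (by decide +kernel) using 1
  decide +kernel

theorem g17 : Profile true [1, 208, 27, 5, 648, 320, 135, 1080] := by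
  convert (((((Rep.triv (Ab 2 2 2 1)).comp 3 1 2 0 0 1 0 (by decide) (by decide) (by decide) (by decide) (by decide) (by decide) (by decide)).comp 3 1 2 0 1 0 0 (by decide) (by decide) (by decide) (by decide) (by decide) (by decide) (by decide)).comp 3 1 2 1 0 0 0 (by decide) (by decide) (by decide) (by decide) (by decide) (by decide) (by decide)).comp 5 1 2 1 1 1 0 (by decide) (by decide) (by decide) (by decide) (by decide) (by decide) (by decide)).profile inferInstance (by decide +kernel) using 1
  decide +kernel

theorem g18 : Profile true [1, 56, 3, 25, 108, 200, 75, 300] := by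
  convert ((((Rep.triv (Ab 2 2 1 1)).comp 3 1 2 0 1 0 0 (by decide) (by decide) (by decide) (by decide) (by decide) (by decide) (by decide)).comp 5 1 2 1 0 0 0 (by decide) (by decide) (by decide) (by decide) (by decide) (by decide) (by decide)).comp 5 1 2 1 1 0 0 (by decide) (by decide) (by decide) (by decide) (by decide) (by decide) (by decide)).profile inferInstance (by decide +kernel) using 1
  decide +kernel

theorem g19 : Profile true [1, 256, 27, 25, 972, 1000, 675, 2700] := by
  convert ((((((Rep.triv (Ab 2 2 1 1)).comp 3 1 2 0 1 0 0 (by decide) (by decide) (by decide) (by decide) (by decide) (by decide) (by decide)).comp 3 1 2 0 1 0 0 (by decide) (by decide) (by decide) (by decide) (by decide) (by decide) (by decide)).comp 3 1 2 1 0 0 0 (by decide) (by decide) (by decide) (by decide) (by decide) (by decide) (by decide)).comp 5 1 2 1 0 0 0 (by decide) (by decide) (by decide) (by decide) (by decide) (by decide) (by decide)).comp 5 1 2 1 1 0 0 (by decide) (by decide) (by decide) (by decide) (by decide) (by decide) (by decide)).profile inferInstance (by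 decide +kernel) using 1
  decide +kernel

theorem g20 : Profile true [1, 6, 1, 5, 6, 10, 5, 10] := by
  convert ((Rep.triv (Ab 2 1 1 1)).comp 5 1 2 1 0 0 0 (by decide) (by decide) (by decide) (by decide) (by decide) (by decide) (by decide)).profile inferInstance (by decide +kernel) using 1
  decide +kernel

theorem g21 : Profile true [1, 16, 3, 5, 18, 20, 15, 30] := by
  convert (((Rep.triv (Ab 2 1 1 1)).comp 3 1 2 1 0 0 0 (by decide) (by decide) (by decide) (by decide) (by decide) (by decide) (by decide)).comp 5 1 2 1 0 0 0 (by decide) (by decide) (by decide) (by decide) (by decide) (by decide) (by decide)).profile inferInstance (by decide +kernel) using 1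
  decide +kernel

theorem g22 : Profile true [1, 40, 9, 5, 108, 80, 45, 180] := by
  convert ((((Rep.triv (Ab 2 2 1 1)).comp 3 1 2 0 1 0 0 (by decide) (by decide) (by decide) (by decide) (by decide) (by decide) (by decide)).comp 3 1 2 1 0 0 0 (by decide) (by decide) (by decide) (by decide) (by decide) (by decide) (by decide)).comp 5 1 2 1 1 0 0 (by decide) (by decide) (by decide) (by decide) (by decide) (by decide) (by decide)).profile inferInstance (by decide +kernel) using 1
  decide +kernel

theorem g23 : Profile true [1, 10, 9, 1, 18, 10, 9, 18] := by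
  convert (((Rep.triv (Ab 2 1 1 1)).comp 3 1 2 1 0 0 0 (by decide) (by decide) (by decide) (by decide) (by decide) (by decide) (by decide)).comp 3 1 2 1 0 0 0 (by decide) (by decide) (by decide) (by decide) (by decide) (by decide) (by decide)).profile inferInstance (by decide +kernel) using 1
  decide +kernel

/-- two groups of exponent dividing thirty with equal counts have the same order type -/
theorem same_counts {G H : Type} [Group G] [Group H] (hG : ∀ g : G, g ^ 30 = 1) (hH : ∀ g : H, g ^ 30 = 1)
    (h : counts G = counts H) (n : ℕ) :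
    Nat.card {g : G // g ^ n = 1} = Nat.card {g : H // g ^ n = 1} := by
  have hmem : Nat.gcd n 30 ∈ ns := by
    have h1 : ∀ m < 31, m ∣ 30 → m ∈ ns := by decide +kernel
    exact h1 _ (Nat.lt_succ_of_le (Nat.gcd_le_right _ (by norm_num))) (Nat.gcd_dvd_right n 30)
  have e1 : ∀ g : G, g ^ n = 1 ↔ g ^ Nat.gcd n 30 = 1 := fun g => by
    rw [pow_gcd_eq_one]; exact ⟨fun a => ⟨a, hG g⟩, fun a => a.1⟩
  have e2 : ∀ g : H, g ^ n = 1 ↔ g ^ Nat.gcd n 30 = 1 := fun g => by
    rw [pow_gcd_eq_one]; exact ⟨fun a => ⟨a, hH g⟩, fun a => a.1⟩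
  rw [Nat.card_congr (Equiv.subtypeEquivRight e1), Nat.card_congr (Equiv.subtypeEquivRight e2)]
  exact List.map_inj_left.1 h _ hmem

theorem Profile.npow {v : List ℕ} (h : Profile false v) (h1 : ∀ w, Profile false w → Profile false (mul8 w v)) :
    ∀ k : ℕ, Profile false ((fun w => mul8 w v)^[k] v)
  | 0 => h
  | k + 1 => by
    rw [Function.iterate_succ_apply']
    exact h1 _ (Profile.npow h h1 k)

/-- a product of two nonsolvable profiles -/
theorem Profile.mul_false {v w : List ℕ} (h : Profile false v) (h' : Profile false w) :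
    Profile false (mul8 v w) := by
  obtain ⟨G, _, _, hs, he, rfl⟩ := h
  obtain ⟨H, _, _, -, he', rfl⟩ := h'
  refine ⟨G × H, inferInstance, inferInstance, ?_, fun g => Prod.ext (he g.1) (he' g.2),
    counts_prod G H⟩
  simp only [Bool.false_eq_true, if_false] at hs ⊢
  intro hc
  exact hs (solvable_of_surjective (f := MonoidHom.fst G H) fun x => ⟨(x, 1), rfl⟩)

/-- There are finite groups G and H having the same number of elements of each order (the same order type) with G solvable and H not solvable. -/
theorem result :
    ∃ (G : Type) (_ : Group G) (_ : Finite G) (H : Type) (_ : Group H) (_ : Finite H),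
      Group.IsSolvable G ∧ ¬ Group.IsSolvable H ∧ ∀ n : ℕ, Nat.card {g : G // orderOf g = n} = Nat.card {h : H // orderOf h = n} := by
  obtain ⟨G, _, _, hs, he, hc⟩ :=
    (((((((((((((g3.pow 3).mul
    g4).mul
    g5).mul
    (profile27.pow 1)).mul
    (g10.pow 1)).mul
    g11).mul
    g14).mul
    g16).mul
    (g17.pow 2)).mul
    g18).mul
    (g20.pow 1)).mul
    (g21.pow 32)).mul
    (g23.pow 8))
  obtain ⟨H, _, _, hs', he', hc'⟩ :=
    ((((((((((((profileA5.npow (fun _ hw => hw.mul_false profileA5) 3).mul
    (g0.pow 3)).mul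
    (g1.pow 3)).mul
    (g2.pow 3)).mul
    g6).mul
    (g8.pow 1)).mul
    g9).mul
    g12).mul
    g13).mul
    g15).mul
    (g19.pow 12)).mul
    (g22.pow 8))
  have heq : counts G = counts H := by
    rw [hc, hc']
    decide +kernel
  exact ⟨G, inferInstance, inferInstance, H, inferInstance, inferInstance, by simpa using hs, by simpa using hs',
    Cfsg.Agent.S4377.card_eq_of_pow (same_counts he he' heq)⟩

end Cfsg.Agent.S4376
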