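import Cfsg.Statements.S4381
import Cfsg.Agent.Lib.Coprime.Hom
import Cfsg.Agent.Lib.PGroup.Basic
import Cfsg.Agent.S0660

set_option autoImplicit false
open Pointwise
open Cfsg
open scoped commutatorElement

namespace Cfsg.Agent.S4381

/-- Every subgroup of a finite elementary abelian group has a complement. -/
theorem exists_compl {Q : Type*} [Group Q] [Finite Q] (p : ℕ) (hp : p.Prime)
    (hcomm : ∀ a b : Q, Commute a b) (hexp : ∀ a : Q, a ^ p = 1) (U : Subgroup Q) :
    ∃ W : Subgroup Q, U ⊓ W = ⊥ ∧ U ⊔ W = ⊤ := by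
  obtain ⟨W, hW, hmax⟩ := exists_maximal_of_wellFoundedGT (fun W : Subgroup Q => U ⊓ W = ⊥)
    ⟨⊥, inf_bot_eq U⟩
  refine ⟨W, hW, eq_top_iff.mpr fun v _ => ?_⟩
  by_contra hv
  have hvW : v ∉ W := fun h => hv (Subgroup.mem_sup_right h)
  have hlt : W < W ⊔ Subgroup.zpowers v :=
    lt_of_le_of_ne le_sup_left fun h => hvW (h ▸ Subgroup.mem_sup_right (Subgroup.mem_zpowers v))
  refine hlt.not_ge (hmax ?_ le_sup_left)
  refine eq_bot_iff.mpr fun x hx => ?_
  have hn : Subgroup.zpowers v ≤ Subgroup.normalizer (W : Set Q) := fun y _ =>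
    Subgroup.mem_normalizer_iff.mpr fun z => by rw [(hcomm y z).eq, mul_inv_cancel_right]
  obtain ⟨w, hw, y, hy, rfl⟩ := Coprime.exists_mul_of_mem_sup hn (Subgroup.mem_inf.mp hx).2
  obtain ⟨i, rfl⟩ := hy
  have hxU : w * v ^ i ∈ U := (Subgroup.mem_inf.mp hx).1
  by_cases hi : (p : ℤ) ∣ i
  · obtain ⟨j, rfl⟩ := hi
    have h1 : v ^ ((p : ℤ) * j) = 1 := by rw [zpow_mul, zpow_natCast, hexp, one_zpow]
    simp only [h1, mul_one] at hxU ⊢
    exact hW ▸ Subgroup.mem_inf.mpr ⟨hxU, hw⟩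
  · exfalso
    apply hv
    have hvi : v ^ i ∈ U ⊔ W := by
      have h2 := mul_mem (Subgroup.mem_sup_right (S := U) (inv_mem hw))
        (Subgroup.mem_sup_left (T := W) hxU)
      rwa [inv_mul_cancel_left] at h2
    obtain ⟨s, t, hst⟩ := ((Nat.prime_iff_prime_int.mp hp).coprime_iff_not_dvd).mpr hi
    have h3 : v = (v ^ i) ^ t := by
      rw [← zpow_mul, show i * t = 1 - (p : ℤ) * s by linarith, zpow_sub, zpow_one,
        zpow_mul, zpow_natCast, hexp, one_zpow, inv_one, mul_one]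
    rw [h3]
    exact zpow_mem hvi t

section

variable {A G : Type*} [Group A] [Finite A] [Group G] [Finite G] [MulDistribMulAction A G]

/-- A proper invariant subgroup, maximal among these. -/
def IsMaxInv (A : Type*) [Group A] [MulDistribMulAction A G] (M : Subgroup G) : Prop :=
  M ≠ ⊤ ∧ (∀ a : A, ∀ x ∈ M, a • x ∈ M) ∧
    ∀ L : Subgroup G, M < L → (∀ a : A, ∀ x ∈ L, a • x ∈ L) → L = ⊤

theorem exists_isMaxInv_ge (U : Subgroup G) (hU : U ≠ ⊤) (hUA : ∀ a : A, ∀ x ∈ U, a • x ∈ U) :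
    ∃ M : Subgroup G, U ≤ M ∧ IsMaxInv A M := by
  obtain ⟨M, ⟨h1, h2, h3⟩, hmax⟩ := exists_maximal_of_wellFoundedGT
    (fun M : Subgroup G => U ≤ M ∧ M ≠ ⊤ ∧ ∀ a : A, ∀ x ∈ M, a • x ∈ M) ⟨U, le_rfl, hU, hUA⟩
  refine ⟨M, h1, h2, h3, fun L hL hLA => ?_⟩
  by_contra hne
  exact hL.not_ge (hmax ⟨h1.trans hL.le, hne, hLA⟩ hL.le)

omit [Finite A] [Finite G] in
theorem frattini_invariant (a : A) (x : G) (hx : x ∈ frattini G) : a • x ∈ frattini G := by
  have := Subgroup.characteristic_iff_map_eq.mp (frattini_characteristic (G := G))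
    (MulDistribMulAction.toMulAut A G a)
  rw [← this]
  exact Subgroup.mem_map_of_mem _ hx

omit [Finite A] in
theorem frattini_le_of_isMaxInv {M : Subgroup G} (hM : IsMaxInv A M) : frattini G ≤ M := by
  by_contra h
  have hlt : M < M ⊔ frattini G := lt_of_le_of_ne le_sup_left fun he => h (he ▸ le_sup_right)
  refine hM.1 (frattini_nongenerating (hM.2.2 _ hlt fun a x hx => ?_))
  have hle : M ⊔ frattini G ≤ (M ⊔ frattini G).comap (MulDistribMulAction.toMulAut A G a).toMonoidHom :=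
    sup_le (fun y hy => Subgroup.mem_sup_left (hM.2.1 a y hy))
      (fun y hy => Subgroup.mem_sup_right (frattini_invariant a y hy))
  exact hle hx

omit [Finite A] in
theorem isMaxInv_iff_of_irred
    (hirr : ∀ L : Subgroup G, frattini G < L → (∀ a : A, ∀ x ∈ L, a • x ∈ L) → L = ⊤)
    (M : Subgroup G) : IsMaxInv A M ↔ (M = frattini G ∧ M ≠ ⊤) := by
  refine ⟨fun hM => ⟨?_, hM.1⟩, fun ⟨h, hne⟩ => ⟨hne, fun a x hx => ?_, fun L hL hLA => ?_⟩⟩
  · rcases eq_or_lt_of_le (frattini_le_of_isMaxInv hM) with he | hlt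
    · exact he.symm
    · exact absurd (hirr M hlt hM.2.1) hM.1
  · rw [h] at hx ⊢; exact frattini_invariant a x hx
  · exact hirr L (h ▸ hL) hLA

theorem irred_of_unique (hcop : (Nat.card A).Coprime (Nat.card G)) {p : ℕ} (hp : p.Prime)
    (hG : IsPGroup p G) (huniq : ∀ M N : Subgroup G, IsMaxInv A M → IsMaxInv A N → M = N)
    (L : Subgroup G) (hL : frattini G < L) (hLA : ∀ a : A, ∀ x ∈ L, a • x ∈ L) : L = ⊤ := by
  by_contra hne
  haveI := Fact.mk hp
  obtain ⟨M, hLM, hM⟩ := exists_isMaxInv_ge L hne hLA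
  let φ := MulDistribMulAction.toMulAut A G
  let q := QuotientGroup.mk' (frattini G)
  have hchar : ∀ a, (frattini G).map (φ a).toMonoidHom = frattini G := fun a =>
    Subgroup.characteristic_iff_map_eq.mp inferInstance (φ a)
  let ψ : A →* MulAut (G ⧸ frattini G) :=
    { toFun := fun a => QuotientGroup.congr _ _ (φ a) (hchar a)
      map_one' := MulEquiv.ext fun x => QuotientGroup.induction_on x fun g => by simp [φ]
      map_mul' := fun a b => MulEquiv.ext fun x => QuotientGroup.induction_on x fun g => by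
        simp [φ, mul_smul] }
  have hψ : ∀ a g, ψ a (q g) = q (a • g) := fun _ _ => rfl
  have hdvd : Nat.card (G ⧸ frattini G) ∣ Nat.card G := Subgroup.card_quotient_dvd_card _
  haveI := Coprime.finite_semidirect ψ
  obtain ⟨W, hW1, hW2⟩ := exists_compl p hp (PGroup.quotient_frattini_commute hG)
    (PGroup.quotient_frattini_pow hG) (M.map q)
  let i : (G ⧸ frattini G) →* (G ⧸ frattini G) ⋊[ψ] A := SemidirectProduct.inl
  have hi : Function.Injective i := SemidirectProduct.inl_injective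
  obtain ⟨W', hW'le, hW'A, hW'1, hW'2⟩ := S0660.result (Coprime.inlRange ψ) (Coprime.inrRange ψ)
    ((M.map q).map i) ⟨⟨fun u v => by
      obtain ⟨_, a, rfl⟩ := u
      obtain ⟨_, b, rfl⟩ := v
      apply Subtype.ext
      show SemidirectProduct.inl a * SemidirectProduct.inl b =
        SemidirectProduct.inl b * SemidirectProduct.inl a
      rw [← map_mul, ← map_mul, (PGroup.quotient_frattini_commute hG a b).eq]⟩⟩
    (Coprime.inrRange_le_normalizer ψ)
    (by rw [Coprime.card_inrRange, Coprime.card_inlRange]; exact hcop.coprime_dvd_right hdvd)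
    (by rintro _ ⟨x, _, rfl⟩; exact ⟨x, rfl⟩)
    (Coprime.inrRange_le_normalizer_map ψ (by
      rintro a _ ⟨x, hx, rfl⟩
      exact ⟨a • x, hM.2.1 a x hx, (hψ a x).symm⟩))
    (W.map i) (by rintro _ ⟨x, _, rfl⟩; exact ⟨x, rfl⟩)
    (by rw [← Subgroup.map_inf _ _ i hi, hW1, Subgroup.map_bot])
    (by rw [← Subgroup.map_sup, hW2, ← MonoidHom.range_eq_map])
  let N : Subgroup G := (W'.comap i).comap q
  have hNA : ∀ a : A, ∀ x ∈ N, a • x ∈ N := fun a x hx => by
    show i (q (a • x)) ∈ W'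
    rw [← hψ, ← Coprime.inr_mul_inl_mul_inv]
    exact Coprime.conj_mem_of_mem_normalizer (hW'A ⟨a, rfl⟩) hx
  have hsurj : ∀ y : G ⧸ frattini G, ∃ m ∈ M, ∃ n ∈ N, y = q (m * n) := fun y => by
    have hn : W' ≤ Subgroup.normalizer (((M.map q).map i : Subgroup _) : Set _) := fun w hw =>
      Coprime.mem_normalizer_of_le_iff
        (fun u hu => by
          obtain ⟨b, rfl⟩ := hW'le hw
          obtain ⟨c, hc, rfl⟩ := hu
          exact ⟨c, hc, by rw [← map_inv, ← map_mul, ← map_mul,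
            (PGroup.quotient_frattini_commute hG b c).eq, mul_inv_cancel_right]⟩)
        (fun u hu => by
          obtain ⟨b, rfl⟩ := hW'le hw
          obtain ⟨c, hc, rfl⟩ := hu
          exact ⟨c, hc, by rw [← map_inv, ← map_mul, ← map_mul,
            (PGroup.quotient_frattini_commute hG b⁻¹ c).eq, inv_mul_cancel_right]⟩)
    obtain ⟨_, ⟨_, ⟨m, hm, rfl⟩, rfl⟩, w, hw, e⟩ :=
      Coprime.exists_mul_of_mem_sup hn (hW'2.ge (⟨y, rfl⟩ : i y ∈ Coprime.inlRange ψ))
    obtain ⟨b, rfl⟩ := hW'le hw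
    obtain ⟨n, rfl⟩ := QuotientGroup.mk'_surjective _ b
    refine ⟨m, hm, n, hw, hi ?_⟩
    rw [map_mul, map_mul]; exact e
  have hNne : N ≠ ⊤ := fun h => by
    obtain ⟨x, hxL, hx⟩ := SetLike.exists_of_lt hL
    have h1 : i (q x) ∈ (M.map q).map i ⊓ W' := Subgroup.mem_inf.mpr
      ⟨Subgroup.mem_map_of_mem _ (Subgroup.mem_map_of_mem _ (hLM hxL)),
        show x ∈ N from h ▸ Subgroup.mem_top x⟩
    rw [hW'1, Subgroup.mem_bot] at h1
    exact hx ((QuotientGroup.eq_one_iff x).mp (hi (h1.trans (map_one i).symm)))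
  obtain ⟨M', hNM', hM'⟩ := exists_isMaxInv_ge N hNne hNA
  rw [huniq M' M hM' hM] at hNM'
  refine hM.1 (eq_top_iff.mpr fun x _ => ?_)
  obtain ⟨m, hm, n, hn, e⟩ := hsurj (q x)
  have h2 : (m * n)⁻¹ * x ∈ frattini G := QuotientGroup.eq.mp e.symm
  have : x = (m * n) * ((m * n)⁻¹ * x) := by group
  rw [this]
  exact mul_mem (mul_mem hm (hNM' hn)) (frattini_le_of_isMaxInv hM h2)

theorem isPGroup_of_conj (hcop : (Nat.card A).Coprime (Nat.card G))
    (hsol : Group.IsSolvable A ∨ Group.IsSolvable G)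
    (hconj : ∀ M N : Subgroup G, IsMaxInv A M → IsMaxInv A N → Nat.card M = Nat.card N) :
    ∃ p : ℕ, p.Prime ∧ IsPGroup p G := by
  by_contra hno
  push Not at hno
  have key : ∀ p, p.Prime → ∃ M : Subgroup G, IsMaxInv A M ∧
      p ^ (Nat.card G).factorization p ∣ Nat.card M := by
    intro p hp
    haveI := Fact.mk hp
    obtain ⟨P, hP⟩ := Coprime.exists_invariant_sylow_hom (MulDistribMulAction.toMulAut A G) hcop hsol p
    obtain ⟨M, hPM, hM⟩ := exists_isMaxInv_ge (P : Subgroup G) (fun h => hno p hp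
      ((P.isPGroup'.to_le h.ge).of_equiv Subgroup.topEquiv)) hP
    exact ⟨M, hM, P.card_eq_multiplicity ▸ Subgroup.card_dvd_of_le hPM⟩
  obtain ⟨M, hM, -⟩ := key 2 Nat.prime_two
  refine hM.1 ((Subgroup.card_eq_iff_eq_top M).mp (Nat.dvd_antisymm
    (Subgroup.card_subgroup_dvd_card M) ?_))
  refine (Nat.factorization_prime_le_iff_dvd Nat.card_pos.ne' Nat.card_pos.ne').mp fun p hp => ?_
  obtain ⟨M', hM', hd⟩ := key p hp
  rw [hconj M' M hM' hM] at hd
  exact (hp.pow_dvd_iff_le_factorization Nat.card_pos.ne').mp hd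

end


/-- Let the finite group A act by automorphisms on the finite group G with the orders of A and G coprime, and assume that A or G is solvable. Call a proper A-invariant subgroup of G maximal A-invariant when no A-invariant subgroup lies strictly between it and G. Then all maximal A-invariant subgroups of G are conjugate under elements of the fixed-point subgroup C_G(A) if and only if G is a p-group for some prime p and A leaves invariant no subgroup strictly between the Frattini subgroup of G and G. In that case, if G is nontrivial, the Frattini subgroup is the only maximal A-invariant subgroup (a trivial G has none). -/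
theorem result {A G : Type*} [Group A] [Finite A]
    [Group G] [Finite G] [MulDistribMulAction A G] (hcop : (Nat.card A).Coprime (Nat.card G)) (hsol : Group.IsSolvable A ∨ Group.IsSolvable G) :
    ((∀ M N : Subgroup G, (M ≠ ⊤ ∧ (∀ a : A, ∀ x ∈ M, a • x ∈ M) ∧ ∀ L : Subgroup G, M < L → (∀ a : A, ∀ x ∈ L, a • x ∈ L) → L = ⊤) → (N ≠ ⊤ ∧ (∀ a : A, ∀ x ∈ N, a • x ∈ N) ∧ ∀ L : Subgroup G, N < L → (∀ a : A, ∀ x ∈ L, a • x ∈ L) → L = ⊤) →
        ∃ c : G, (∀ a : A, a • c = c) ∧ N = MulAut.conj c • M) ↔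
      ((∃ p : ℕ, p.Prime ∧ IsPGroup p G) ∧ ∀ L : Subgroup G, frattini G < L → (∀ a : A, ∀ x ∈ L, a • x ∈ L) → L = ⊤)) ∧
    (((∃ p : ℕ, p.Prime ∧ IsPGroup p G) ∧ ∀ L : Subgroup G, frattini G < L → (∀ a : A, ∀ x ∈ L, a • x ∈ L) → L = ⊤) →
      ∀ M : Subgroup G, (M ≠ ⊤ ∧ (∀ a : A, ∀ x ∈ M, a • x ∈ M) ∧ ∀ L : Subgroup G, M < L → (∀ a : A, ∀ x ∈ L, a • x ∈ L) → L = ⊤) ↔ (M = frattini G ∧ M ≠ ⊤)) := by
  have hcard : ∀ (c : G) (M : Subgroup G), Nat.card (MulAut.conj c • M : Subgroup G) = Nat.card M :=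
    fun c M => (Nat.card_congr (Subgroup.equivSMul (MulAut.conj c) M).toEquiv).symm
  refine ⟨⟨fun h => ?_, fun ⟨⟨p, hp, hG⟩, hirr⟩ M N hM hN => ?_⟩,
    fun ⟨_, hirr⟩ M => isMaxInv_iff_of_irred hirr M⟩
  · obtain ⟨p, hp, hG⟩ := isPGroup_of_conj hcop hsol fun M N hM hN => by
      obtain ⟨c, -, rfl⟩ := h M N hM hN
      exact (hcard c M).symm
    refine ⟨⟨p, hp, hG⟩, irred_of_unique hcop hp hG fun M N hM hN => ?_⟩
    haveI := Fact.mk hp
    obtain ⟨c, -, rfl⟩ := h M N hM hN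
    haveI : M.Normal := ⟨fun x hx g => by
      have h1 : ⁅g, x⁆ ∈ M := frattini_le_of_isMaxInv hM (PGroup.comm_mem_frattini hG g x)
      simpa [commutatorElement_def] using mul_mem h1 hx⟩
    exact (Subgroup.Normal.conj_smul_eq_self c M).symm
  · refine ⟨1, fun a => smul_one a, ?_⟩
    rw [((isMaxInv_iff_of_irred hirr M).mp hM).1, ((isMaxInv_iff_of_irred hirr N).mp hN).1, map_one,
      one_smul]

end Cfsg.Agent.S4381
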