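import Cfsg.Statements.S4385
import Cfsg.Agent.LocalEven61.DihedralPush.Shapes

set_option autoImplicit false
open Pointwise
open Cfsg

namespace Cfsg.Agent.S4385

/-- Let H be a subgroup of a finite group G whose largest normal 2-subgroup O_2(H) is nontrivial and such that H/O_2(H) is a dihedral group of order at least 4. Let P be a Sylow 2-subgroup of H and S a Sylow 2-subgroup of G containing P. Suppose y ∈ S lies outside P, normalizes P, has y² in the product of P with the centralizer of P in G, and normalizes no non-identity normal subgroup of H contained in P. Then P has order 4, 8 or 16, and H modulo its largest normal subgroup of odd order is isomorphic to the four-group, to the symmetric group of degree 4, or to the direct product of the symmetric group of degree 4 with a group of order 2. -/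
theorem result {G : Type*} [Group G] [Finite G]
    (H : Subgroup G) (hO : Cfsg.pCore 2 ↥H ≠ ⊥) (n : ℕ) (hn : 2 ≤ n) (hdih : Nonempty (↥H ⧸ Cfsg.pCore 2 ↥H ≃* DihedralGroup n))
    (P : Subgroup G) (hPH : P ≤ H) (hP : IsPGroup 2 P) (hPsyl : ¬ 2 ∣ P.relIndex H)
    (S : Sylow 2 G) (hPS : P ≤ (S : Subgroup G)) (y : G) (hyS : y ∈ (S : Subgroup G)) (hyP : y ∉ P)
    (hy2 : y ^ 2 ∈ P ⊔ Subgroup.centralizer (P : Set G)) (hyN : MulAut.conj y • P = P)
    (hyQ : ∀ Q : Subgroup G, Q ≤ P → (Q.subgroupOf H).Normal → MulAut.conj y • Q = Q → Q = ⊥) :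
    (Nat.card P = 4 ∨ Nat.card P = 8 ∨ Nat.card P = 16) ∧
    (Nonempty (↥H ⧸ Cfsg.oddCore ↥H ≃* Multiplicative (ZMod 2) × Multiplicative (ZMod 2)) ∨
     Nonempty (↥H ⧸ Cfsg.oddCore ↥H ≃* Equiv.Perm (Fin 4)) ∨
     Nonempty (↥H ⧸ Cfsg.oddCore ↥H ≃* Equiv.Perm (Fin 4) × Multiplicative (ZMod 2))) := by
  have hyN' : ∀ z, y * z * y⁻¹ ∈ P ↔ z ∈ P := fun z => by
    conv_lhs => rw [← hyN]
    rw [← MulAut.conj_apply, ← MulAut.smul_def, Subgroup.smul_mem_pointwise_smul_iff]
  have hyQ' : ∀ R : Subgroup G, R ≤ P → H ≤ Subgroup.normalizer (R : Set G) →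
      y ∈ Subgroup.normalizer (R : Set G) → R = ⊥ := by
    intro R hR hHR hyR
    refine hyQ R hR ((Subgroup.normal_subgroupOf_iff_le_normalizer (hR.trans hPH)).2 hHR) ?_
    ext z
    rw [Subgroup.mem_pointwise_smul_iff_inv_smul_mem, ← map_inv, MulAut.smul_def,
      MulAut.conj_apply, inv_inv]
    constructor
    · intro hz
      have := (Subgroup.mem_normalizer_iff.1 hyR _).1 hz
      simpa [mul_assoc] using this
    · intro hz
      have := (Subgroup.mem_normalizer_iff.1 (inv_mem hyR) _).1 hz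
      simpa using this
  obtain ⟨h, K, S, ⟨k1, k2, k3, k4⟩, hodd, hpow⟩ :=
    LocalEven61.DihedralPush.exists_setup H hO n hn hdih P hPH hP hPsyl y hy2 hyN' hyQ'
  obtain ⟨m, b, p⟩ := S.exists_path
  have side : LocalEven61.DihedralPush.Path.Side H P K n := ⟨k1, k2, k3, k4, hodd, hpow⟩
  have hcard : Nat.card P = 2 ^ m := by
    rw [← p.P_eq, ← p.card_window 0 m le_rfl, zero_add]
  rcases p.cases with ⟨rfl, hc⟩ | ⟨rfl, hc, hrel⟩ | ⟨rfl, hc, hrel | hrel | hrel⟩
  · exact ⟨Or.inl (by rw [hcard]; rfl), Or.inl (p.shape_two side hc)⟩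
  · exact ⟨Or.inr (Or.inl (by rw [hcard]; rfl)), Or.inr (Or.inl (p.shape_three side hc hrel))⟩
  · exact (p.not_rel_left side hc hrel).elim
  · exact (p.not_rel_right side hc hrel).elim
  · exact ⟨Or.inr (Or.inr (by rw [hcard]; rfl)),
      Or.inr (Or.inr (p.shape_four side hPsyl hc hrel))⟩

end Cfsg.Agent.S4385
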