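import Cfsg.Statements.S4387
import Cfsg.Agent.FGS76.Basic

set_option autoImplicit false
open Pointwise
open Cfsg

namespace Cfsg.Agent.S4387

/-- Let G be a non-trivial finite group in which any two maximal subgroups are conjugate. Then G is cyclic of prime-power order. -/
theorem result {G : Type*} [Group G] [Finite G] [Nontrivial G]
    (h : ∀ M N : Subgroup G, IsCoatom M → IsCoatom N → ∃ g : G, N = MulAut.conj g • M) :
    IsCyclic G ∧ IsPrimePow (Nat.card G) := by
  classical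
  obtain ⟨M, hM⟩ : ∃ M : Subgroup G, IsCoatom M := by
    rcases eq_top_or_exists_le_coatom (⊥ : Subgroup G) with h | ⟨M, hM, -⟩
    · exact absurd h bot_ne_top
    · exact ⟨M, hM⟩
  have hg : ∃ g : G, ∀ x : G, x * g * x⁻¹ ∉ M := by
    by_contra hcon
    push Not at hcon
    exact hM.1 (Cfsg.Agent.FGS76.eq_top_of_forall_exists_conj M hcon)
  obtain ⟨g, hg⟩ := hg
  have hno : ∀ N : Subgroup G, IsCoatom N → g ∉ N := by
    intro N hN hgN
    obtain ⟨y, rfl⟩ := h M N hM hN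
    rw [Subgroup.mem_pointwise_smul_iff_inv_smul_mem, ← map_inv, MulAut.smul_def, MulAut.conj_apply] at hgN
    exact hg _ hgN
  have htop : Subgroup.zpowers g = ⊤ := by
    rcases eq_top_or_exists_le_coatom (Subgroup.zpowers g) with h1 | ⟨N, hN, hle⟩
    · exact h1
    · exact absurd (hle (Subgroup.mem_zpowers g)) (hno N hN)
  have hgen : ∀ x, x ∈ Subgroup.zpowers g := fun x => htop ▸ Subgroup.mem_top x
  haveI hcyc : IsCyclic G := ⟨⟨g, fun x => hgen x⟩⟩
  letI : CommGroup G := IsCyclic.commGroup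
  refine ⟨hcyc, ?_⟩
  have huniq : ∀ N : Subgroup G, IsCoatom N → N = M := by
    intro N hN
    obtain ⟨y, rfl⟩ := h M N hM hN
    rw [show MulAut.conj y = 1 from MulEquiv.ext fun z => by
      rw [MulAut.conj_apply, mul_comm y z, mul_inv_cancel_right]; rfl, one_smul]
  have hle : ∀ K : Subgroup G, K ≠ ⊤ → K ≤ M := by
    intro K hK
    rcases eq_top_or_exists_le_coatom K with h1 | ⟨N, hN, hle⟩
    · exact absurd h1 hK
    · exact huniq N hN ▸ hle
  have hn : orderOf g = Nat.card G := orderOf_eq_card_of_forall_mem_zpowers hgen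
  have hn1 : Nat.card G ≠ 1 := (Finite.one_lt_card (α := G)).ne'
  by_contra hpp
  obtain ⟨p, hp, hpd⟩ := Nat.exists_prime_and_dvd hn1
  obtain ⟨q, hq, hqd, hqp⟩ : ∃ q : ℕ, q.Prime ∧ q ∣ Nat.card G ∧ q ≠ p := by
    by_contra hcon
    push Not at hcon
    refine hpp ?_
    obtain ⟨k, hk⟩ : ∃ k, Nat.card G = p ^ k :=
      ⟨_, Nat.eq_prime_pow_of_unique_prime_dvd Nat.card_pos.ne' fun hd hdd => hcon _ hd hdd⟩
    refine ⟨p, k, hp.prime, ?_, hk.symm⟩
    rcases Nat.eq_zero_or_pos k with rfl | hk0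
    · exact absurd (by rw [hk, pow_zero]) hn1
    · exact hk0
  have key : ∀ r : ℕ, r.Prime → r ∣ Nat.card G → g ^ r ∈ M := by
    intro r hr hrd
    refine hle (Subgroup.zpowers (g ^ r)) (fun htop' => ?_) (Subgroup.mem_zpowers _)
    have h1 : orderOf (g ^ r) = Nat.card G := by
      rw [← Nat.card_zpowers, htop', Subgroup.card_top]
    rw [orderOf_pow_of_dvd hr.ne_zero (hn.symm ▸ hrd), hn] at h1
    exact (Nat.div_lt_self Nat.card_pos hr.one_lt).ne h1
  refine hno M hM ?_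
  have hcop : Nat.Coprime p q := (Nat.coprime_primes hp hq).2 hqp.symm
  obtain ⟨a, b, hab⟩ : ∃ a b : ℤ, (p : ℤ) * a + (q : ℤ) * b = 1 :=
    ⟨Nat.gcdA p q, Nat.gcdB p q, by rw [← Nat.gcd_eq_gcd_ab, hcop.gcd_eq_one, Nat.cast_one]⟩
  have e : g = (g ^ p) ^ a * (g ^ q) ^ b := by
    rw [← zpow_natCast g p, ← zpow_natCast g q, ← zpow_mul, ← zpow_mul, ← zpow_add, hab, zpow_one]
  rw [e]
  exact M.mul_mem (M.zpow_mem (key p hp hpd) a) (M.zpow_mem (key q hq hqd) b)

end Cfsg.Agent.S4387
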