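import Cfsg.Statements.S4395
import Cfsg.Agent.SchmidtUniv.Main
-- import your own Cfsg.Agent.* helpers here

set_option autoImplicit false
universe u
open Cfsg

namespace Cfsg.Agent.S4395

/-- Let p ≠ q be primes, r ≥ 1, a the multiplicative order of p modulo q, and a₀ = a when a is odd, a₀ = 3a/2 when a is even. Call a finite group minimal non-p-nilpotent when it has no normal p-complement but every proper subgroup has one. Then there is a minimal non-p-nilpotent group G₀ of order p^a₀ · q^r such that every minimal non-p-nilpotent group of order p^t · q^r (any t) is a quotient of G₀ by a central subgroup. -/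
theorem result (p q r : ℕ) [Fact p.Prime] [Fact q.Prime] (hpq : p ≠ q) (hr : 1 ≤ r) (a a₀ : ℕ)
    (ha : a = orderOf (p : ZMod q)) (ha₀ : a₀ = if a % 2 = 1 then a else 3 * a / 2) :
    ∃ (G₀ : Type u) (_ : Group G₀) (_ : Finite G₀),
      (¬ Cfsg.HasNormalPComplement p G₀ ∧ ∀ K : Subgroup G₀, K ≠ ⊤ → Cfsg.HasNormalPComplement p ↥K) ∧ Nat.card G₀ = p ^ a₀ * q ^ r ∧
      ∀ (X : Type u) [Group X] [Finite X], (¬ Cfsg.HasNormalPComplement p X ∧ ∀ K : Subgroup X, K ≠ ⊤ → Cfsg.HasNormalPComplement p ↥K) →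
        (∃ t : ℕ, Nat.card X = p ^ t * q ^ r) → ∃ φ : G₀ →* X, Function.Surjective φ ∧ φ.ker ≤ Subgroup.center G₀ := by
  classical
  obtain ⟨K, fK, finK, algK, ζ, hK, hζ⟩ := SchmidtUniv.exists_field (p := p) (q := q) hpq
  subst ha
  subst ha₀
  have hz0 : ζ ≠ 0 := hζ.ne_zero (Fact.out : q.Prime).ne_zero
  let z : Kˣ := Units.mk0 ζ hz0
  have hz : z ^ (q ^ r) = 1 := by
    rw [← Units.val_eq_one, Units.val_pow_eq_pow_val]
    exact (hζ.pow_eq_one_iff_dvd _).2 (dvd_pow_self q (by omega))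
  obtain ⟨E, gE, fE, π, y, hE, hcard⟩ :=
    SchmidtUniv.exists_universal (r := r) (z := z) (hz := hz) hpq rfl hK hζ
  let π₀ : ULift.{u} E →* SchmidtUniv.Base z (q ^ r) hz := π.comp MulEquiv.ulift.toMonoidHom
  have h₀ : SchmidtUniv.IsExt z (q ^ r) hz p π₀ (ULift.up y) := by
    refine ⟨hE.surj.comp ULift.down_surjective, fun x hx => ?_, fun x => ?_, hE.map_y,
      ULift.ext _ _ hE.ord, ?_⟩
    · exact Subgroup.mem_center_iff.2 fun g =>
        ULift.ext _ _ (Subgroup.mem_center_iff.1 (hE.central (x := x.down) hx) g.down)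
    · obtain ⟨k, hk⟩ := hE.pker ⟨x.1.down, x.2⟩
      exact ⟨k, Subtype.ext (ULift.ext _ _ (congrArg Subtype.val hk))⟩
    · have h := congrArg (Subgroup.map (MulEquiv.ulift.symm : E ≃* ULift.{u} E).toMonoidHom) hE.top
      rw [Subgroup.map_sup, MonoidHom.map_zpowers, _root_.commutator_def, Subgroup.map_commutator,
        Subgroup.map_top_of_surjective _ (MulEquiv.surjective _)] at h
      exact h
  have hcard₀ : Nat.card (ULift.{u} E) = _ := (Nat.card_congr Equiv.ulift).trans hcard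
  refine ⟨ULift.{u} E, inferInstance, inferInstance, h₀.schmidt hpq rfl hK hζ, hcard₀, ?_⟩
  intro X _ _ hX ⟨t, ht⟩
  obtain ⟨πX, yX, hXe⟩ :=
    SchmidtUniv.exists_isExt (z := z) (hz := hz) hpq rfl hK hζ X hX.1 hX.2 t ht
  exact SchmidtUniv.exists_surjection hpq rfl hK hζ h₀ hcard₀ hXe


end Cfsg.Agent.S4395
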