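import Cfsg.Statements.S4396
import Cfsg.Agent.Lib.FrobFree.Basic

set_option autoImplicit false
open Cfsg
open scoped Pointwise

namespace Cfsg.Agent.S4396

theorem card_sup_cast_ne_zero {k A : Type*} [Field k] [Group A] [Finite A] (X Y : Subgroup A)
    [Y.Normal] (hX : (Nat.card X : k) ≠ 0) (hY : (Nat.card Y : k) ≠ 0) :
    (Nat.card ↥(X ⊔ Y) : k) ≠ 0 := by
  have h1 := (Y.subgroupOf (X ⊔ Y)).card_mul_index
  rw [Nat.card_congr (Subgroup.subgroupOfEquivOfLe (le_sup_right : Y ≤ X ⊔ Y)).toEquiv,
    ← Subgroup.relIndex, Subgroup.relIndex_sup_right] at h1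
  have h2 : Y.relIndex X ∣ Nat.card X := Subgroup.index_dvd_card _
  obtain ⟨c, hc⟩ := h2
  rw [hc, Nat.cast_mul] at hX
  rw [← h1, Nat.cast_mul]
  exact mul_ne_zero hY (left_ne_zero_of_mul hX)

/-- A finite `p`-group acting on a nonzero space of characteristic `p` has a nonzero fixed vector. -/
theorem exists_fixed {k V A : Type*} [Field k] [AddCommGroup V] [Module k V] [Group A]
    {p : ℕ} [Fact p.Prime] (hp : (p : k) = 0) (P : Subgroup A) [Finite P] (hP : IsPGroup p P)
    (ρ : Representation k A V) (x : V) (hx : x ≠ 0) :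
    ∃ y : V, y ≠ 0 ∧ y ∈ AddSubgroup.closure (Set.range fun a : P => ρ (a : A) x) ∧
      ∀ a ∈ P, ρ a y = y := by
  classical
  have : Fintype P := Fintype.ofFinite P
  let f : (P → ZMod p) → V := fun c => ∑ a : P, (c a).val • ρ (a : A) x
  let M := AddSubgroup.closure (Set.range fun a : P => ρ (a : A) x)
  have hadd : ∀ (a b : ZMod p) (v : V), (a + b).val • v = a.val • v + b.val • v := by
    intro a b v
    rw [← add_smul, ← Nat.cast_smul_eq_nsmul k, ← Nat.cast_smul_eq_nsmul k (a.val + b.val),
      ZMod.val_add]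
    congr 1
    conv_rhs => rw [← Nat.mod_add_div (a.val + b.val) p]
    push_cast
    rw [hp]; ring
  let fh : (P → ZMod p) →+ V := AddMonoidHom.mk' f fun c d => by
    simp only [f, Pi.add_apply, hadd, Finset.sum_add_distrib]
  have hM : M ≤ fh.range := by
    rw [AddSubgroup.closure_le]
    rintro _ ⟨a, rfl⟩
    refine ⟨Pi.single a 1, ?_⟩
    change ∑ b : P, ((Pi.single a 1 : P → ZMod p) b).val • ρ (b : A) x = _
    rw [Finset.sum_eq_single a]
    · simp [ZMod.val_one p]
    · intro b _ hb; simp [hb]
    · simp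
  have : Finite M := Finite.of_injective _ (AddSubgroup.inclusion_injective hM)
  letI : MulAction P M :=
    { smul := fun a y => ⟨ρ (a : A) (y : V), by
        have : M ≤ M.comap (ρ (a : A)).toAddMonoidHom := by
          rw [AddSubgroup.closure_le]
          rintro _ ⟨b, rfl⟩
          exact AddSubgroup.subset_closure ⟨a * b, FrobFree.rmul ρ _ _ x⟩
        exact this y.2⟩
      one_smul := fun y => Subtype.ext (FrobFree.rone ρ _)
      mul_smul := fun a b y => Subtype.ext (FrobFree.rmul ρ _ _ _) }
  have hxM : x ∈ M := AddSubgroup.subset_closure ⟨1, FrobFree.rone ρ x⟩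
  have hord : addOrderOf (⟨x, hxM⟩ : M) = p := by
    refine addOrderOf_eq_prime (Subtype.ext ?_) fun h => hx (congrArg Subtype.val h)
    rw [AddSubgroup.coe_nsmul, ← Nat.cast_smul_eq_nsmul k, hp, zero_smul]; rfl
  have hdvd : p ∣ Nat.card M := hord ▸ addOrderOf_dvd_natCard _
  obtain ⟨y, hy, hy0⟩ := hP.exists_fixed_point_of_prime_dvd_card_of_fixed_point M hdvd
    (a := (0 : M)) (fun a => Subtype.ext (map_zero _))
  exact ⟨y, fun h => hy0 (Subtype.ext h.symm), y.2, fun a ha => congrArg Subtype.val (hy ⟨a, ha⟩)⟩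

/-- Let the finite group A act faithfully and linearly on a finite-dimensional vector space V over a field k, and suppose A is a Frobenius group with nilpotent kernel F (every Frobenius kernel is nilpotent) and complement H such that F fixes no nonzero vector. Then V is free as a module for H: there is a subspace W with V the direct sum of the translates hW, h ∈ H. (No assumption on the characteristic of k.) -/
theorem result {k V A : Type*} [Field k] [AddCommGroup V] [Module k V] [FiniteDimensional k V] [Group A] [Finite A] [DecidableEq A]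
    (ρ : Representation k A V) (hρ : Function.Injective ρ)
    (Fk Hc : Subgroup A) [Fk.Normal] (hHc : Cfsg.IsFrobeniusComplement Hc) (hker : Cfsg.frobeniusKernel Hc = (Fk : Set A)) (hnil : Group.IsNilpotent ↥Fk)
    (hCF : ∀ v : V, (∀ f ∈ Fk, ρ f v = v) → v = 0) :
    ∃ W : Submodule k V, DirectSum.IsInternal (fun h : ↥Hc => W.map (ρ (h : A))) := by
  classical
  have hne := hHc
  have hfpf : ∀ h ∈ Hc, h ≠ 1 → ∀ z ∈ Fk, Commute h z → z = 1 := by
    intro h hh h1 z hz hcz
    by_contra hz1
    have hz' : z ∈ Cfsg.frobeniusKernel Hc := hker ▸ hz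
    have hzH : z ∉ Hc := fun hzH => (hz'.resolve_left hz1) 1 (by simpa using hzH)
    refine h1 (Subgroup.mem_bot.mp ((hne.2.2 z hzH) ▸ Subgroup.mem_inf.mpr ⟨hh, ?_⟩))
    rw [Subgroup.mem_pointwise_smul_iff_inv_smul_mem]
    simpa [MulAut.smul_def, show z⁻¹ * h * z = h by rw [mul_assoc, hcz.eq, inv_mul_cancel_left]]
      using hh
  let S : ℕ → Subgroup A := fun q => ((default : Sylow q Fk) : Subgroup Fk).map Fk.subtype
  have hSn : ∀ q : ℕ, q.Prime → (S q).Normal := by
    intro q hq
    have : Fact q.Prime := ⟨hq⟩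
    have h1 : ((default : Sylow q Fk) : Subgroup Fk).Normal := inferInstance
    have := Sylow.characteristic_of_normal (default : Sylow q Fk) h1
    exact ConjAct.normal_of_characteristic_of_normal
  let p := ringChar k
  let s := (Nat.card Fk).primeFactors.erase p
  let Q := s.sup S
  have hS : ∀ q ∈ s, (S q).Normal ∧ (Nat.card (S q) : k) ≠ 0 ∧
      q ^ (Nat.card Fk).factorization q = Nat.card (S q) := by
    intro q hq
    have hqp := Nat.prime_of_mem_primeFactors (Finset.mem_of_mem_erase hq)
    have : Fact q.Prime := ⟨hqp⟩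
    have hc : Nat.card (S q) = q ^ (Nat.card Fk).factorization q := by
      rw [Subgroup.card_map_of_injective Fk.subtype_injective]
      exact Sylow.card_eq_multiplicity _
    refine ⟨hSn q hqp, ?_, hc.symm⟩
    rw [hc, Nat.cast_pow]
    refine pow_ne_zero _ fun h => (Finset.ne_of_mem_erase hq) ?_
    rcases CharP.char_is_prime_or_zero k p with hpp | hp0
    · exact ((Nat.prime_dvd_prime_iff_eq hpp hqp).mp
        ((CharP.cast_eq_zero_iff k p q).mp h)).symm
    · have := (CharP.cast_eq_zero_iff k p q).mp h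
      rw [hp0, zero_dvd_iff] at this
      exact absurd this hqp.ne_zero
  have hQ : ∀ t ⊆ s, (t.sup S).Normal ∧ (Nat.card ↥(t.sup S) : k) ≠ 0 := by
    intro t
    induction t using Finset.induction_on with
    | empty => intro _; rw [Finset.sup_empty]; exact ⟨inferInstance, by simp⟩
    | insert q t hq ih =>
      intro hsub
      rw [Finset.insert_subset_iff] at hsub
      obtain ⟨h1, h2⟩ := ih hsub.2
      obtain ⟨h3, h4, -⟩ := hS q hsub.1
      rw [Finset.sup_insert]
      exact ⟨Subgroup.sup_normal _ _, card_sup_cast_ne_zero _ _ h4 h2⟩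
  obtain ⟨hQn, hQk⟩ := hQ s subset_rfl
  have hQF : Q ≤ Fk := Finset.sup_le fun q _ => Subgroup.map_subtype_le _
  have hQnil : Group.IsNilpotent Q :=
    Group.nilpotent_of_mulEquiv (Subgroup.subgroupOfEquivOfLe hQF)
  have hQfix : ∀ x : V, (∀ f ∈ Q, ρ f x = x) → x = 0 := by
    intro x hx
    by_contra hx0
    rcases CharP.char_is_prime_or_zero k p with hpp | hp0
    · have : Fact p.Prime := ⟨hpp⟩
      have hSp : IsPGroup p (S p) := (default : Sylow p Fk).2.map _
      have htop : S p ⊔ Q = Fk := by
        refine Subgroup.eq_of_le_of_card_ge (sup_le (Subgroup.map_subtype_le _) hQF)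
          (Nat.le_of_dvd Nat.card_pos ?_)
        refine (Nat.factorization_prime_le_iff_dvd Nat.card_pos.ne' Nat.card_pos.ne').mp fun q hq => ?_
        refine (hq.pow_dvd_iff_le_factorization Nat.card_pos.ne').mp ?_
        by_cases hqs : q ∈ s
        · rw [(hS q hqs).2.2]
          exact Subgroup.card_dvd_of_le ((Finset.le_sup hqs).trans le_sup_right)
        · by_cases hqp : q = p
          · subst hqp
            rw [← Sylow.card_eq_multiplicity (default : Sylow p Fk),
              ← Subgroup.card_map_of_injective Fk.subtype_injective]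
            exact Subgroup.card_dvd_of_le (le_sup_left : S p ≤ S p ⊔ Q)
          · rw [Nat.factorization_eq_zero_of_not_dvd fun h => hqs (Finset.mem_erase.mpr
              ⟨hqp, Nat.mem_primeFactors.mpr ⟨hq, h, Nat.card_pos.ne'⟩⟩), pow_zero]
            exact one_dvd _
      obtain ⟨y, hy0, hycl, hy⟩ := exists_fixed (CharP.cast_eq_zero k p) (S p) hSp ρ x hx0
      refine hy0 (hCF y fun f hf => ?_)
      let T : Subgroup A :=
        { carrier := {a | ρ a y = y}
          one_mem' := FrobFree.rone ρ y
          mul_mem' := fun {a b} ha hb => by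
            rw [Set.mem_setOf_eq, FrobFree.rmul]; rw [hb, ha]
          inv_mem' := fun {a} ha => by
            rw [Set.mem_setOf_eq] at ha ⊢
            conv_lhs => rw [← ha]
            rw [← FrobFree.rmul, inv_mul_cancel, FrobFree.rone] }
      have hQT : Q ≤ T := by
        intro a ha
        suffices ∀ z ∈ AddSubgroup.closure (Set.range fun b : S p => ρ (b : A) x), ρ a z = z from
          this y hycl
        intro z hz
        induction hz using AddSubgroup.closure_induction with
        | mem w hw =>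
          obtain ⟨b, rfl⟩ := hw
          change ρ a (ρ (b : A) x) = ρ (b : A) x
          conv_rhs => rw [← hx _ (hQn.conj_mem' a ha (b : A))]
          rw [← FrobFree.rmul, ← FrobFree.rmul]
          congr 2; group
        | zero => exact map_zero _
        | add u v _ _ hu hv => rw [map_add, hu, hv]
        | neg u _ hu => rw [map_neg, hu]
      exact (htop ▸ sup_le (fun a ha => hy a ha) hQT : Fk ≤ T) hf
    · refine hx0 (hCF x fun f hf => hx f ?_)
      suffices Fk ≤ Q from this hf
      refine (Subgroup.eq_of_le_of_card_ge hQF (Nat.le_of_dvd Nat.card_pos ?_)).ge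
      refine (Nat.factorization_prime_le_iff_dvd Nat.card_pos.ne' Nat.card_pos.ne').mp fun q hq => ?_
      refine (hq.pow_dvd_iff_le_factorization Nat.card_pos.ne').mp ?_
      by_cases hqs : q ∈ s
      · rw [(hS q hqs).2.2]; exact Subgroup.card_dvd_of_le (Finset.le_sup hqs)
      · rw [Nat.factorization_eq_zero_of_not_dvd fun h => hqs (Finset.mem_erase.mpr
          ⟨hp0 ▸ hq.ne_zero, Nat.mem_primeFactors.mpr ⟨hq, h, Nat.card_pos.ne'⟩⟩), pow_zero]
        exact one_dvd _
  letI : Fintype Hc := Fintype.ofFinite Hc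
  obtain ⟨W, hW1, hW2⟩ := FrobFree.free_of_nilpotent Hc Q hQk
    (fun h hh h1 z hz => hfpf h hh h1 z (hQF hz)) _ ⊥ inferInstance bot_le rfl V ρ
    (fun n hn => by rw [Subgroup.mem_bot.mp hn, map_one]) hQfix
  have hinj : ∀ h : Hc, Function.Injective (ρ (h : A)) := fun h a b hab => by
    have := congrArg (ρ ((h : A)⁻¹)) hab
    rwa [← FrobFree.rmul, ← FrobFree.rmul, inv_mul_cancel, FrobFree.rone, FrobFree.rone] at this
  let Φ := DirectSum.coeLinearMap (fun h : Hc => W.map (ρ (h : A)))
  have hΦ : ∀ a, Φ a = ∑ h : Hc, (a h : V) := fun a => by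
    rw [DirectSum.coeLinearMap_eq_dfinsuppSum, DFinsupp.sum,
      Finset.sum_subset (Finset.subset_univ _)]
    intro h _ hh
    rw [DFinsupp.notMem_support_iff.mp hh]; rfl
  refine ⟨W, show Function.Bijective Φ from ⟨(injective_iff_map_eq_zero Φ).mpr fun a ha => ?_,
    fun x => ?_⟩⟩
  · choose w hw hwe using fun h => Submodule.mem_map.mp (a h).2
    have h0 := hW2 w hw (by rw [← ha, hΦ]; exact Finset.sum_congr rfl fun h _ => hwe h)
    refine DFinsupp.ext fun h => Subtype.ext ?_
    change (a h : V) = 0
    rw [← hwe h, h0]; exact map_zero _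
  · obtain ⟨y, hy, hxy⟩ := hW1 x
    refine ⟨∑ h : Hc, DirectSum.lof k Hc (fun h : Hc => W.map (ρ (h : A))) h
      ⟨ρ (h : A) (y h), Submodule.mem_map_of_mem (hy h)⟩, ?_⟩
    rw [← hxy, map_sum]
    exact Finset.sum_congr rfl fun h _ => DirectSum.coeLinearMap_of _ _ _

end Cfsg.Agent.S4396
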