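import Cfsg.Statements.S4398
import Cfsg.Agent.FGS82.MaximalClass

set_option autoImplicit false
open Cfsg

namespace Cfsg.Agent.S4398

theorem mc_congr {A B : Type*} [Group A] [Group B] (e : A ≃* B) (h : FGS82.MC A) : FGS82.MC B := by
  obtain ⟨a, b, k, j, hk, ha, hc, hb, hj, hj4⟩ := h
  refine ⟨e a, e b, k, j, hk, by rw [e.orderOf_eq, ha], by rw [← Nat.card_congr e.toEquiv, hc], ?_, ?_, hj4⟩
  · intro hm
    obtain ⟨i, hi⟩ := Subgroup.mem_zpowers_iff.1 hm
    exact hb (Subgroup.mem_zpowers_iff.2 ⟨i, e.injective (by rw [map_zpow, hi])⟩)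
  · rw [← map_zpow, ← hj, map_mul, map_mul, map_inv]

theorem mc_dihedral : FGS82.MC (DihedralGroup 4) := by
  refine ⟨DihedralGroup.r 1, DihedralGroup.sr 0, 2, 3, le_rfl, DihedralGroup.orderOf_r_one, ?_, ?_, ?_, rfl⟩
  · rw [Nat.card_eq_fintype_card]; rfl
  · intro hm
    obtain ⟨i, hi⟩ := Subgroup.mem_zpowers_iff.1 hm
    rw [DihedralGroup.r_one_zpow] at hi
    simp at hi
  · decide

theorem mc_quaternion : FGS82.MC (QuaternionGroup 2) := by
  refine ⟨QuaternionGroup.a 1, QuaternionGroup.xa 0, 2, 3, le_rfl, ?_, ?_, ?_, ?_, rfl⟩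
  · rw [QuaternionGroup.orderOf_a_one]; rfl
  · rw [Nat.card_eq_fintype_card]; rfl
  · intro hm
    have h4 : (QuaternionGroup.a 1 : QuaternionGroup 2) ^ 4 = 1 := by decide
    obtain ⟨i, hi⟩ := (Submonoid.mem_powers_iff _ _).1 (mem_powers_iff_mem_zpowers.2 hm)
    rw [QuaternionGroup.a_one_pow] at hi
    simp at hi
  · decide


/-- Let S be a finite 2-group of sectional 2-rank at most 2 that contains a subgroup isomorphic to the dihedral group of order 8 or to the quaternion group of order 8. Then S is dihedral of order at least 8, semidihedral of order at least 16 (order 2^(k+4) with an element a of order 2^(k+3) and an involution b with b a b⁻¹ = a^(2^(k+2)−1)), or generalized quaternion of order at least 8. -/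
theorem result {S : Type*} [Group S] [Finite S] (h2 : IsPGroup 2 S) (hr : Cfsg.SectionalPRankLE 2 2 S)
    (hsub : ∃ H : Subgroup S, Nonempty (↥H ≃* DihedralGroup 4) ∨ Nonempty (↥H ≃* QuaternionGroup 2)) :
    ((∃ k : ℕ, Nonempty (S ≃* DihedralGroup (2 ^ (k + 2)))) ∨
      (∃ k : ℕ, Nat.card S = 2 ^ (k + 4) ∧ ∃ a b : S, orderOf a = 2 ^ (k + 3) ∧ orderOf b = 2 ∧ b * a * b⁻¹ = a ^ (2 ^ (k + 2) - 1)) ∨
      (∃ k : ℕ, Nonempty (S ≃* QuaternionGroup (2 ^ (k + 1))))) := by
  haveI : Fact (Nat.Prime 2) := ⟨Nat.prime_two⟩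
  obtain ⟨H, hH⟩ := hsub
  have hHmc : FGS82.MC H := by
    rcases hH with ⟨⟨e⟩⟩ | ⟨⟨e⟩⟩
    · exact mc_congr e.symm mc_dihedral
    · exact mc_congr e.symm mc_quaternion
  have main : ∀ n : ℕ, ∀ T : Subgroup S, Nat.card T ≤ n → H ≤ T → FGS82.MC T := by
    intro n
    induction n with
    | zero => intro T hT _; exact absurd hT (by have := Nat.card_pos (α := T); omega)
    | succ n ih =>
      intro T hT hle
      by_cases heq : H = T
      · exact heq ▸ hHmc
      have hne : H.subgroupOf T ≠ ⊤ := fun h => heq (le_antisymm hle (Subgroup.subgroupOf_eq_top.1 h))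
      obtain ⟨M, hM, hHM⟩ := (eq_top_or_exists_le_coatom (H.subgroupOf T)).resolve_left hne
      have hMi : M.index = 2 := Cfsg.Agent.PGroup.index_eq_prime_of_isCoatom (h2.to_subgroup T) hM
      let M' := M.map T.subtype
      have hM'c : Nat.card M' * 2 = Nat.card T := by
        rw [← hMi, ← M.card_mul_index]
        congr 1
        exact (Nat.card_congr (M.equivMapOfInjective _ T.subtype_injective).toEquiv).symm
      have hHM' : H ≤ M' := fun x hx => ⟨⟨x, hle hx⟩, hHM (by exact hx), rfl⟩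
      have hMmc : FGS82.MC M :=
        mc_congr (M.equivMapOfInjective _ T.subtype_injective).symm
          (ih M' (by have := Nat.card_pos (α := M'); omega) hHM')
      refine FGS82.mc_of_index_two (h2.to_subgroup T) ?_ M hMi hMmc
      intro N _ hc he
      have := hr T N ⊤ ⟨⟨fun a b => Subtype.ext (hc a b)⟩⟩ (fun a _ => he a)
      rw [Subgroup.card_top] at this
      exact this
  exact FGS82.MC.shapes (mc_congr Subgroup.topEquiv (main _ ⊤ le_rfl le_top))

end Cfsg.Agent.S4398
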