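import Cfsg.Statements.S4400
import Cfsg.Agent.FGS82.PairNormal

set_option autoImplicit false
open Cfsg

namespace Cfsg.Agent.S4400

/-- Let S be a finite 2-group of sectional 2-rank at most 4, and let P and Q be normal non-abelian subgroups of S whose centres have order 2 and are different. Then P and Q commute elementwise and intersect trivially, and PQ contains its own centralizer in S. -/
theorem result {S : Type*} [Group S] [Finite S] (h2 : IsPGroup 2 S) (hr : Cfsg.SectionalPRankLE 2 4 S)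
    (P Q : Subgroup S) [P.Normal] [Q.Normal] (hP : ¬ IsMulCommutative ↥P) (hQ : ¬ IsMulCommutative ↥Q)
    (hZP : Nat.card ↥(Subgroup.center ↥P) = 2) (hZQ : Nat.card ↥(Subgroup.center ↥Q) = 2)
    (hne : (Subgroup.center ↥P).map P.subtype ≠ (Subgroup.center ↥Q).map Q.subtype) :
    ⁅P, Q⁆ = ⊥ ∧ P ⊓ Q = ⊥ ∧ Subgroup.centralizer ((P ⊔ Q : Subgroup S) : Set S) ≤ P ⊔ Q := by
  obtain ⟨z, hz, hzm⟩ := FGS82.exists_cz hZP
  obtain ⟨z', hz', hzm'⟩ := FGS82.exists_cz hZQ
  have hne' : z ≠ z' := fun h => hne (by rw [hzm, hzm', h])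
  have hPn : P.Normal := inferInstance
  have hQn : Q.Normal := inferInstance
  obtain ⟨hd, hc⟩ := FGS82.pair_disjoint h2 hz hz' hne' (fun x _ n hn => hQn.conj_mem n hn x)
    (fun x _ n hn => hPn.conj_mem n hn x)
  refine ⟨?_, hd, fun c hcm => ?_⟩
  · rw [eq_bot_iff, Subgroup.commutator_le]
    intro x hx y hy
    rw [Subgroup.mem_bot, commutatorElement_eq_one_iff_mul_comm]
    exact hc x hx y hy
  · rw [Subgroup.mem_centralizer_iff] at hcm
    exact FGS82.centralizer_le_sup h2 hr hz hz' hP hQ hd hc c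
      (fun x hx => hcm x (Subgroup.mem_sup_left hx)) (fun y hy => hcm y (Subgroup.mem_sup_right hy))

end Cfsg.Agent.S4400
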