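import Cfsg.Statements.S4401
import Cfsg.Agent.FGS82.PairNormal

set_option autoImplicit false
open Cfsg

namespace Cfsg.Agent.S4401

/-- Let S be a finite 2-group of sectional 2-rank at most 4 and P a proper non-abelian subgroup whose centre has order 2. Let S₀ be the centralizer in S of Z(P) and suppose P is normal in S₀. Then either S₀ = S, or P has sectional 2-rank at most 2 and S₀ has index 2 in S. -/
theorem result {S : Type*} [Group S] [Finite S] (h2 : IsPGroup 2 S) (hr : Cfsg.SectionalPRankLE 2 4 S)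
    (P : Subgroup S) (hPlt : P ≠ ⊤) (hP : ¬ IsMulCommutative ↥P) (hZP : Nat.card ↥(Subgroup.center ↥P) = 2)
    (S₀ : Subgroup S) (hS₀ : S₀ = Subgroup.centralizer (((Subgroup.center ↥P).map P.subtype : Subgroup S) : Set S))
    (hPn : ∀ s ∈ S₀, ∀ x ∈ P, s * x * s⁻¹ ∈ P) :
    S₀ = ⊤ ∨ (Cfsg.SectionalPRankLE 2 2 ↥P ∧ S₀.index = 2) := by
  haveI : Fact (Nat.Prime 2) := ⟨Nat.prime_two⟩
  by_cases htop : S₀ = ⊤
  · exact Or.inl htop
  right
  obtain ⟨z, hz, hzm⟩ := FGS82.exists_cz hZP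
  have hmem0 : ∀ s, s ∈ S₀ ↔ s * z = z * s := by
    intro s
    rw [hS₀, hzm, Subgroup.zpowers_eq_closure, Subgroup.centralizer_closure,
      Subgroup.mem_centralizer_singleton_iff]
  have hPS : P ≤ S₀ := fun x hx => (hmem0 x).2 (hz.comm x hx)
  -- an element normalising `S₀` with square in it
  obtain ⟨g, hgn, hg, hgg⟩ : ∃ g, g ∈ Subgroup.normalizer (S₀ : Set S) ∧ g ∉ S₀ ∧ g * g ∈ S₀ := by
    obtain ⟨g, hgn, hg⟩ := SetLike.exists_of_lt (PGroup.lt_normalizer h2 htop)
    obtain ⟨n, hn⟩ := h2 g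
    induction n generalizing g with
    | zero => rw [pow_zero, pow_one] at hn; exact absurd (hn ▸ one_mem _) hg
    | succ n ih =>
      by_cases h : g * g ∈ S₀
      · exact ⟨g, hgn, hg, h⟩
      · exact ih (g * g) (mul_mem hgn hgn) h (by rw [← pow_two, ← pow_mul, ← pow_succ']; exact hn)
  have hn0 : ∀ s ∈ S₀, g * s * g⁻¹ ∈ S₀ := fun s hs => (Subgroup.mem_normalizer_iff.1 hgn s).1 hs
  have hn0' : ∀ s ∈ S₀, g⁻¹ * s * g ∈ S₀ := fun s hs => by
    simpa using (Subgroup.mem_normalizer_iff.1 (inv_mem hgn) s).1 hs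
  let e : P ≃* P.map (MulAut.conj g).toMonoidHom :=
    P.equivMapOfInjective _ (MulAut.conj g).injective
  set Q := P.map (MulAut.conj g).toMonoidHom with hQdef
  set z' := g * z * g⁻¹ with hz'def
  have hQmem : ∀ x, x ∈ Q ↔ g⁻¹ * x * g ∈ P := by
    intro x
    constructor
    · rintro ⟨y, hy, rfl⟩; simpa [mul_assoc] using hy
    · intro h; exact ⟨_, h, by simp [mul_assoc]⟩
  have hQS : Q ≤ S₀ := fun x hx => by
    simpa [mul_assoc] using hn0 _ (hPS ((hQmem x).1 hx))
  have hz' : FGS82.Cz Q z' := by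
    refine ⟨(hQmem _).2 (by rw [hz'def]; simpa [mul_assoc] using hz.mem), ?_, ?_, ?_⟩
    · exact fun h => hz.ne (conj_eq_one_iff.1 h)
    · intro y hy
      have h := hz.comm _ ((hQmem y).1 hy)
      calc y * z' = g * ((g⁻¹ * y * g) * z) * g⁻¹ := by rw [hz'def]; group
        _ = g * (z * (g⁻¹ * y * g)) * g⁻¹ := by rw [h]
        _ = z' * y := by rw [hz'def]; group
    · intro x hx h
      rcases hz.only _ ((hQmem x).1 hx) (fun y hy => by
        have h' := h (g * y * g⁻¹) ((hQmem _).2 (by simpa [mul_assoc] using hy))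
        calc y * (g⁻¹ * x * g) = g⁻¹ * ((g * y * g⁻¹) * x) * g := by group
          _ = g⁻¹ * (x * (g * y * g⁻¹)) * g := by rw [h']
          _ = g⁻¹ * x * g * y := by group) with h' | h'
      · exact Or.inl (by simpa [mul_assoc] using congrArg (fun t => g * t * g⁻¹) h')
      · exact Or.inr (by rw [hz'def, ← h']; group)
  have hne : z ≠ z' := fun h => hg ((hmem0 g).2 (mul_inv_eq_iff_eq_mul.1 h.symm))
  have hQn : ∀ s ∈ S₀, ∀ x ∈ Q, s * x * s⁻¹ ∈ Q := fun s hs x hx => (hQmem _).2 (by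
    have := hPn _ (hn0' s hs) _ ((hQmem x).1 hx)
    simpa [mul_assoc] using this)
  obtain ⟨hd, hc⟩ := FGS82.pair_disjoint h2 hz hz' hne (fun x hx => hQn x (hPS hx))
    (fun x hx => hPn x (hQS hx))
  refine ⟨FGS82.rank_two hr hd hc e, ?_⟩
  -- the subgroup generated by `S₀` and `g`
  let S₁ : Subgroup S :=
    { carrier := {s | s ∈ S₀ ∨ g⁻¹ * s ∈ S₀}
      one_mem' := Or.inl (one_mem _)
      mul_mem' := by
        rintro a b (ha | ha) (hb | hb)
        · exact Or.inl (mul_mem ha hb)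
        · refine Or.inr ?_
          have := mul_mem (hn0' a ha) hb
          simpa [mul_assoc] using this
        · exact Or.inr (by rw [← mul_assoc]; exact mul_mem ha hb)
        · refine Or.inl ?_
          have := mul_mem (mul_mem (hn0 _ ha) hgg) hb
          simpa [mul_assoc] using this
      inv_mem' := by
        rintro a (ha | ha)
        · exact Or.inl (inv_mem ha)
        · refine Or.inr ?_
          have := mul_mem (inv_mem hgg) (hn0 _ (inv_mem ha))
          simpa [mul_assoc] using this }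
  have hle1 : S₀ ≤ S₁ := fun s hs => Or.inl hs
  have hg1 : g ∈ S₁ := Or.inr (by rw [inv_mul_cancel]; exact one_mem _)
  suffices h1 : S₁ = ⊤ by
    rw [Subgroup.index_eq_two_iff]
    refine ⟨g, fun b => ?_⟩
    have hb : b * g ∈ S₁ := h1 ▸ Subgroup.mem_top _
    by_cases hb0 : b ∈ S₀
    · refine Or.inr ⟨hb0, fun h => hg ?_⟩
      have := mul_mem (inv_mem hb0) h
      rwa [inv_mul_cancel_left] at this
    · refine Or.inl ⟨?_, hb0⟩
      rcases hb with h | h
      · exact h
      · exfalso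
        apply hb0
        have h' := hn0 _ h
        simpa [mul_assoc] using h'
  by_contra h1
  obtain ⟨h, hhn, hh⟩ := SetLike.exists_of_lt (PGroup.lt_normalizer h2 h1)
  have hperm : ∀ s ∈ S₁, (s * z * s⁻¹ = z ∧ s * z' * s⁻¹ = z') ∨
      (s * z * s⁻¹ = z' ∧ s * z' * s⁻¹ = z) := by
    have hfix : ∀ s ∈ S₀, s * z * s⁻¹ = z ∧ s * z' * s⁻¹ = z' := fun s hs => by
      refine ⟨mul_inv_eq_iff_eq_mul.2 ((hmem0 s).1 hs), ?_⟩
      have h := mul_inv_eq_iff_eq_mul.2 ((hmem0 _).1 (hn0' s hs))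
      calc s * z' * s⁻¹ = g * ((g⁻¹ * s * g) * z * (g⁻¹ * s * g)⁻¹) * g⁻¹ := by rw [hz'def]; group
        _ = z' := by rw [h]
    rintro s (hs | hs)
    · exact Or.inl (hfix s hs)
    · obtain ⟨h1, h2'⟩ := hfix _ hs
      refine Or.inr ⟨?_, ?_⟩
      · calc s * z * s⁻¹ = g * ((g⁻¹ * s) * z * (g⁻¹ * s)⁻¹) * g⁻¹ := by group
          _ = z' := by rw [h1]
      · calc s * z' * s⁻¹ = g * ((g⁻¹ * s) * z' * (g⁻¹ * s)⁻¹) * g⁻¹ := by group
          _ = g * z' * g⁻¹ := by rw [h2']
          _ = g * g * z * (g * g)⁻¹ := by rw [hz'def]; group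
          _ = z := (hfix _ hgg).1
  have hnh : ∀ s, s ∈ S₁ ↔ h * s * h⁻¹ ∈ S₁ := fun s => Subgroup.mem_normalizer_iff.1 hhn s
  have hnh' : ∀ s ∈ S₁, h⁻¹ * s * h ∈ S₁ := fun s hs => (hnh _).2 (by simpa [mul_assoc] using hs)
  set a := h * z * h⁻¹ with hadef
  set b := h * z' * h⁻¹ with hbdef
  have ha1 : a ∈ S₁ := (hnh z).1 (hle1 (hPS hz.mem))
  have hcard : ∀ x ∈ S₁, x * a * x⁻¹ = a ∨ x * a * x⁻¹ = b := fun x hx => by
    rcases hperm _ (hnh' x hx) with ⟨e1, -⟩ | ⟨e1, -⟩
    · left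
      calc x * a * x⁻¹ = h * ((h⁻¹ * x * h) * z * (h⁻¹ * x * h)⁻¹) * h⁻¹ := by rw [hadef]; group
        _ = a := by rw [e1]
    · right
      calc x * a * x⁻¹ = h * ((h⁻¹ * x * h) * z * (h⁻¹ * x * h)⁻¹) * h⁻¹ := by rw [hadef]; group
        _ = b := by rw [e1]
  have hab : a ≠ b := fun e => hne (by simpa [hadef, hbdef] using e)
  have ha0 : a ∈ S₀ := by
    rcases ha1 with h' | h'
    · exact h'
    exfalso
    -- `a` would interchange the two subgroups while centralising too much of one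
    have hswap : ∀ x ∈ P, a * x * a⁻¹ ∈ Q := fun x hx => (hQmem _).2 (by
      have := hPn _ h' x hx
      simpa [mul_assoc] using this)
    have hfix : ∀ x ∈ P, x * a * x⁻¹ = a → x = 1 := fun x hx hxa => by
      have h3 := hswap x hx
      rw [← mul_inv_eq_iff_eq_mul.1 hxa, mul_inv_cancel_right] at h3
      have : x ∈ P ⊓ Q := Subgroup.mem_inf.2 ⟨hx, h3⟩
      rwa [hd, Subgroup.mem_bot] at this
    refine hP ⟨⟨fun u v => ?_⟩⟩
    by_cases hu : u = 1
    · simp [hu]
    by_cases hv : v = 1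
    · simp [hv]
    have hmove : ∀ w : P, w ≠ 1 → (w : S) * a * (w : S)⁻¹ = b := fun w hw =>
      (hcard w (hle1 (hPS w.2))).resolve_left fun e => hw (Subtype.ext (hfix w w.2 e))
    have heq : (u : S)⁻¹ * v = 1 := hfix _ (mul_mem (inv_mem u.2) v.2) (by
      calc (u : S)⁻¹ * v * a * ((u : S)⁻¹ * v)⁻¹ = (u : S)⁻¹ * (v * a * (v : S)⁻¹) * u := by group
        _ = (u : S)⁻¹ * (u * a * (u : S)⁻¹) * u := by rw [hmove v hv, hmove u hu]
        _ = a := by group)
    rw [show u = v from Subtype.ext (inv_mul_eq_one.1 heq)]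
  have haz : a ≠ z ∧ a ≠ z' := by
    refine ⟨fun e => hh (hle1 ((hmem0 h).2 (mul_inv_eq_iff_eq_mul.1 e))), fun e => hh ?_⟩
    refine Or.inr ((hmem0 _).2 (mul_inv_eq_iff_eq_mul.1 ?_))
    calc g⁻¹ * h * z * (g⁻¹ * h)⁻¹ = g⁻¹ * a * g := by rw [hadef]; group
      _ = z := by rw [e, hz'def]; group
  set F := Subgroup.closure ({a, b} : Set S) with hFdef
  have hFn : ∀ x ∈ S₁, ∀ f ∈ F, x * f * x⁻¹ ∈ F := by
    intro x hx f hf
    induction hf using Subgroup.closure_induction with
    | mem y hy =>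
      refine Subgroup.subset_closure ?_
      rcases hperm _ (hnh' x hx) with ⟨e1, e2⟩ | ⟨e1, e2⟩ <;> rcases hy with rfl | rfl
      · left
        calc x * a * x⁻¹ = h * ((h⁻¹ * x * h) * z * (h⁻¹ * x * h)⁻¹) * h⁻¹ := by rw [hadef]; group
          _ = a := by rw [e1]
      · right
        calc x * b * x⁻¹ = h * ((h⁻¹ * x * h) * z' * (h⁻¹ * x * h)⁻¹) * h⁻¹ := by rw [hbdef]; group
          _ = b := by rw [e2]
      · right
        calc x * a * x⁻¹ = h * ((h⁻¹ * x * h) * z * (h⁻¹ * x * h)⁻¹) * h⁻¹ := by rw [hadef]; group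
          _ = b := by rw [e1]
      · left
        calc x * b * x⁻¹ = h * ((h⁻¹ * x * h) * z' * (h⁻¹ * x * h)⁻¹) * h⁻¹ := by rw [hbdef]; group
          _ = a := by rw [e2]
    | one => simp
    | mul u v _ _ hu hv => simpa [mul_assoc] using mul_mem hu hv
    | inv u _ hu => simpa [mul_assoc] using inv_mem hu
  set E := Subgroup.closure ({z, z'} : Set S) with hEdef
  have hEF : F = E.map (MulAut.conj h).toMonoidHom := by
    rw [hEdef, MonoidHom.map_closure, Set.image_pair]; rfl
  have haE : a ∉ E := by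
    intro hm
    have hzz : z' * z = z * z' := (hc z hz.mem z' hz'.mem).symm
    have hs := hz.sq h2
    have hs' := hz'.sq h2
    have hfour : a = 1 ∨ a = z ∨ a = z' ∨ a = z * z' := by
      clear_value a
      clear hadef hcard hab ha0 haz hFdef hEF ha1 hFn
      induction hm using Subgroup.closure_induction with
      | mem y hy => rcases hy with rfl | rfl <;> simp
      | one => simp
      | mul u v _ _ hu hv =>
        have hsa : ∀ t, z * (z * t) = t := fun t => by rw [← mul_assoc, hs, one_mul]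
        have hsa' : ∀ t, z' * (z' * t) = t := fun t => by rw [← mul_assoc, hs', one_mul]
        have hzza : ∀ t, z' * (z * t) = z * (z' * t) := fun t => by rw [← mul_assoc, hzz, mul_assoc]
        rcases hu with rfl | rfl | rfl | rfl <;> rcases hv with rfl | rfl | rfl | rfl <;>
          simp [mul_assoc, hs, hs', hzz, hsa, hsa', hzza]
      | inv u _ hu =>
        rcases hu with rfl | rfl | rfl | rfl <;>
          simp [inv_eq_of_mul_eq_one_right hs, inv_eq_of_mul_eq_one_right hs', mul_inv_rev, hzz]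
    rcases hfour with e | e | e | e
    · exact hz.ne (conj_eq_one_iff.1 e)
    · exact haz.1 e
    · exact haz.2 e
    · -- `z * z'` is centralised by `S₁`, but `a` is not
      have hall : ∀ x ∈ S₁, x * a * x⁻¹ = a := fun x hx => by
        rw [e]
        calc x * (z * z') * x⁻¹ = (x * z * x⁻¹) * (x * z' * x⁻¹) := by group
          _ = z * z' := by
            rcases hperm x hx with ⟨e1, e2⟩ | ⟨e1, e2⟩
            · rw [e1, e2]
            · rw [e1, e2, hzz]
      refine hne ?_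
      have := hall (h * g * h⁻¹) ((hnh g).1 hg1)
      rw [hadef] at this
      have h4 : g * z * g⁻¹ = z := by
        calc g * z * g⁻¹ = h⁻¹ * ((h * g * h⁻¹) * (h * z * h⁻¹) * (h * g * h⁻¹)⁻¹) * h := by group
          _ = h⁻¹ * (h * z * h⁻¹) * h := by rw [this]
          _ = z := by group
      exact h4.symm
  -- a commutator of `a` with one factor puts `z` and `z'` into `F`
  have hcontra : (∀ x ∈ P, x * a = a * x) ∧ (∀ x ∈ Q, x * a = a * x) := by
    by_contra hnot
    have haF : a ∈ F := Subgroup.subset_closure (by simp)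
    have key : z ∈ F ∧ z' ∈ F := by
      rw [not_and_or] at hnot
      rcases hnot with hnot | hnot <;> push Not at hnot <;> obtain ⟨x, hx, hxa⟩ := hnot
      · have hzF : z ∈ F := hz.mem_of_normal h2 (fun y hy => hFn y (hle1 (hPS hy))) fun e => hxa (by
          have hm : x * a * x⁻¹ * a⁻¹ ∈ P ⊓ F := Subgroup.mem_inf.2
            ⟨by simpa [mul_assoc] using mul_mem hx (hPn a ha0 x⁻¹ (inv_mem hx)),
             mul_mem (hFn x (hle1 (hPS hx)) a haF) (inv_mem haF)⟩
          rw [e, Subgroup.mem_bot] at hm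
          exact mul_inv_eq_iff_eq_mul.1 (mul_inv_eq_one.1 hm))
        exact ⟨hzF, hFn g hg1 z hzF⟩
      · have hzF : z' ∈ F := hz'.mem_of_normal h2 (fun y hy => hFn y (hle1 (hQS hy))) fun e => hxa (by
          have hm : x * a * x⁻¹ * a⁻¹ ∈ Q ⊓ F := Subgroup.mem_inf.2
            ⟨by simpa [mul_assoc] using mul_mem hx (hQn a ha0 x⁻¹ (inv_mem hx)),
             mul_mem (hFn x (hle1 (hQS hx)) a haF) (inv_mem haF)⟩
          rw [e, Subgroup.mem_bot] at hm
          exact mul_inv_eq_iff_eq_mul.1 (mul_inv_eq_one.1 hm))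
        refine ⟨?_, hzF⟩
        have := hFn g⁻¹ (inv_mem hg1) z' hzF
        simpa [hz'def, mul_assoc] using this
    have hle : E ≤ F := by
      rw [hEdef, Subgroup.closure_le]
      rintro y (rfl | rfl)
      exacts [key.1, key.2]
    have heq : E = F := Subgroup.eq_of_le_of_card_ge hle (by
      rw [hEF, Subgroup.card_map_of_injective (MulAut.conj h).injective])
    exact haE (heq ▸ haF)
  have haW := FGS82.centralizer_le_sup h2 hr hz hz' hP
    (fun hcomm => hP ⟨⟨fun u v => e.injective (by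
      rw [map_mul, map_mul]; exact hcomm.is_comm.comm _ _)⟩⟩) hd hc a hcontra.1 hcontra.2
  refine haE ?_
  have : P ⊔ Q ≤ (FGS82.pairHom hc).range := by
    rw [sup_le_iff]
    exact ⟨fun x hx => ⟨(⟨x, hx⟩, 1), by simp [FGS82.pairHom_apply]⟩,
      fun x hx => ⟨(1, ⟨x, hx⟩), by simp [FGS82.pairHom_apply]⟩⟩
  obtain ⟨⟨u, v⟩, huv⟩ := this haW
  rw [FGS82.pairHom_apply] at huv
  have hu : ∀ y ∈ P, y * (u : S) = u * y := fun y hy => by
    have h3 := hcontra.1 y hy
    rw [← huv, ← mul_assoc, mul_assoc (u : S) v y, ← hc y hy v v.2, ← mul_assoc] at h3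
    exact mul_right_cancel h3
  have hv : ∀ y ∈ Q, y * (v : S) = v * y := fun y hy => by
    have h3 := hcontra.2 y hy
    rw [← huv, ← mul_assoc, ← hc u u.2 y hy, mul_assoc, mul_assoc] at h3
    exact mul_left_cancel h3
  rw [← huv]
  refine mul_mem ?_ ?_
  · rcases hz.only u u.2 hu with e' | e' <;> rw [e']
    exacts [one_mem _, Subgroup.subset_closure (by simp)]
  · rcases hz'.only v v.2 hv with e' | e' <;> rw [e']
    exacts [one_mem _, Subgroup.subset_closure (by simp)]

end Cfsg.Agent.S4401
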