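import Cfsg.Statements.S4402
import Cfsg.Agent.FG78.WreathD8.Quotient
-- import your own Cfsg.Agent.* helpers here

set_option autoImplicit false
open Cfsg

namespace Cfsg.Agent.S4402

/-- Let S be a finite 2-group of sectional 2-rank at most 4 and P a proper subgroup isomorphic to the wreath product of the dihedral group of order 8 by a group of order 2 (equivalently, to a Sylow 2-subgroup of the symmetric group of degree 8; order 128). Then Z(S) = Z(P) has order 2, P has index 2 in its normalizer N_S(P), N_S(P)/Z(S) is again isomorphic to that wreath product, and every elementary abelian subgroup V of order 16 that is normal in P satisfies N_S(V) = P. -/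
theorem result {S : Type*} [Group S] [Finite S] (h2 : IsPGroup 2 S) (hr : Cfsg.SectionalPRankLE 2 4 S)
    (P : Subgroup S) (hPlt : P ≠ ⊤) (hP : ∃ T : Sylow 2 (Equiv.Perm (Fin 8)), Nonempty (↥P ≃* ↥(T : Subgroup (Equiv.Perm (Fin 8))))) :
    Subgroup.center S = (Subgroup.center ↥P).map P.subtype ∧ Nat.card ↥(Subgroup.center S) = 2 ∧
    P.relIndex (Subgroup.normalizer (P : Set S)) = 2 ∧
    (∃ (_ : ((Subgroup.center S).subgroupOf (Subgroup.normalizer (P : Set S))).Normal) (T : Sylow 2 (Equiv.Perm (Fin 8))),
      Nonempty (↥(Subgroup.normalizer (P : Set S)) ⧸ (Subgroup.center S).subgroupOf (Subgroup.normalizer (P : Set S)) ≃*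
        ↥(T : Subgroup (Equiv.Perm (Fin 8))))) ∧
    ∀ V : Subgroup S, V ≤ P → (∀ g ∈ P, ∀ v ∈ V, g * v * g⁻¹ ∈ V) → Cfsg.IsElementaryAbelian 2 V → Nat.card ↥V = 16 →
      Subgroup.normalizer (V : Set S) = P := by
  obtain ⟨T, ⟨e⟩⟩ := hP
  let e' := (Cfsg.Agent.FG78.WreathD8.equivSylow T).trans e.symm
  let c : Cfsg.Agent.FG78.WreathD8.Ctx S :=
    { φ := P.subtype.comp e'.toMonoidHom
      inj := (Subgroup.subtype_injective P).comp e'.injective
      p2 := h2
      rank := fun H K hKH hn hcomm hsq => by
        haveI : (K.subgroupOf H).Normal := ⟨fun k hk h => by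
          rw [Subgroup.mem_subgroupOf] at hk ⊢
          exact hn h h.2 k hk⟩
        have hab : IsMulCommutative (⊤ : Subgroup (H ⧸ K.subgroupOf H)) := ⟨⟨fun a b => by
          apply Subtype.ext
          obtain ⟨x, hx⟩ := QuotientGroup.mk_surjective (a : H ⧸ K.subgroupOf H)
          obtain ⟨y, hy⟩ := QuotientGroup.mk_surjective (b : H ⧸ K.subgroupOf H)
          show (a : H ⧸ K.subgroupOf H) * b = b * a
          rw [← hx, ← hy, ← QuotientGroup.mk_mul, ← QuotientGroup.mk_mul, eq_comm, QuotientGroup.eq,
            Subgroup.mem_subgroupOf]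
          have := hcomm _ (inv_mem x.2) _ (inv_mem y.2)
          simpa [mul_assoc] using this⟩⟩
        have h := hr H (K.subgroupOf H) ⊤ hab (fun a _ => by
          obtain ⟨x, rfl⟩ := QuotientGroup.mk_surjective a
          rw [pow_two, ← QuotientGroup.mk_mul, QuotientGroup.eq_one_iff, Subgroup.mem_subgroupOf]
          exact hsq _ x.2)
        rw [Subgroup.card_top] at h
        rw [Subgroup.card_eq_card_quotient_mul_card_subgroup (K.subgroupOf H),
          Nat.card_congr (Subgroup.subgroupOfEquivOfLe hKH).toEquiv]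
        exact Nat.mul_le_mul_right _ h }
  have hcP : c.P = P := by
    show (P.subtype.comp e'.toMonoidHom).range = P
    rw [MonoidHom.range_comp, MonoidHom.range_eq_top.mpr e'.surjective, ← MonoidHom.range_eq_map,
      Subgroup.range_subtype]
  have hlt : c.P ≠ ⊤ := hcP.symm ▸ hPlt
  refine ⟨?_, c.center_card hlt, ?_, ?_, fun V hV hn he hc => ?_⟩
  · have h := c.center_map hlt
    rw [hcP] at h
    exact h.symm
  · have h := c.relIndex_two hlt
    rw [hcP] at h
    exact h
  · haveI hN : ((Subgroup.center S).subgroupOf (Subgroup.normalizer (c.P : Set S))).Normal :=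
      inferInstance
    have key : ∃ (_ : ((Subgroup.center S).subgroupOf (Subgroup.normalizer (c.P : Set S))).Normal)
        (T : Sylow 2 (Equiv.Perm (Fin 8))),
        Nonempty (↥(Subgroup.normalizer (c.P : Set S)) ⧸ (Subgroup.center S).subgroupOf
          (Subgroup.normalizer (c.P : Set S)) ≃* ↥(T : Subgroup (Equiv.Perm (Fin 8)))) := by
      obtain ⟨f⟩ := c.quotient_iso hlt
      exact ⟨hN, T, ⟨f.symm.trans (Cfsg.Agent.FG78.WreathD8.equivSylow T)⟩⟩
    rw [hcP] at key
    exact key
  · have h := c.norm_V hlt V (hcP.symm ▸ hV) (fun g hg => hn g (hcP ▸ hg)) he hc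
    rw [hcP] at h
    exact h

end Cfsg.Agent.S4402
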