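import Cfsg.Statements.S4403
import Cfsg.Agent.Lib.Components.GenFitting

set_option autoImplicit false
open Cfsg

namespace Cfsg.Agent.S4403

open scoped IsMulCommutative in
/-- central elements of a perfect group have `p'`-order when a Sylow `p`-subgroup is abelian -/
theorem center_pow_eq_one {L : Type*} [Group L] [Finite L] {p : ℕ} [Fact p.Prime]
    (hL : Group.IsPerfect L) (Q : Sylow p L) [IsMulCommutative Q] (z : L)
    (hz : z ∈ Subgroup.center L) : z ^ (Q : Subgroup L).index = 1 := by
  have key : ∀ (k : ℕ) (g₀ : L), g₀⁻¹ * z ^ k * g₀ ∈ (Q : Subgroup L) →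
      g₀⁻¹ * z ^ k * g₀ = z ^ k := fun k g₀ _ => by
    rw [mul_assoc, ← Subgroup.mem_center_iff.1 (pow_mem hz k) g₀, inv_mul_cancel_left]
  have h := MonoidHom.transfer_eq_pow (MonoidHom.id (Q : Subgroup L)) z key
  have hker : (MonoidHom.transfer (MonoidHom.id (Q : Subgroup L))).ker = ⊤ := by
    rw [eq_top_iff, ← hL.commutator_eq_top, commutator_def, Subgroup.commutator_le]
    intro a _ b _
    rw [MonoidHom.mem_ker, map_commutatorElement, commutatorElement_eq_one_iff_mul_comm]
    exact mul_comm' _ _
  have h1 : MonoidHom.transfer (MonoidHom.id (Q : Subgroup L)) z = 1 := by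
    rw [← MonoidHom.mem_ker, hker]; exact Subgroup.mem_top z
  rw [h1] at h
  exact (congrArg Subtype.val h).symm

/-- Let K be a finite group, p a prime dividing its order with O_{p'}(K) = 1 (no nontrivial normal subgroup of order prime to p), and P a cyclic Sylow p-subgroup of K. Then either P is normal and self-centralizing in K with K/P cyclic of order dividing p − 1 (so K is the semidirect product of P by a group of automorphisms of P of order dividing p − 1), or the generalized Fitting subgroup F*(K) is a non-abelian simple group and p does not divide the index of F*(K) in K. -/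
theorem result {K : Type*} [Group K] [Finite K] (p : ℕ) [Fact p.Prime] (hp : p ∣ Nat.card K) (hO : Cfsg.pPrimeCore p K = ⊥)
    (P : Sylow p K) (hP : IsCyclic ↥(P : Subgroup K)) :
    ((P : Subgroup K).Normal ∧ Subgroup.centralizer ((P : Subgroup K) : Set K) = (P : Subgroup K) ∧
      (∀ (_ : (P : Subgroup K).Normal), IsCyclic (K ⧸ (P : Subgroup K))) ∧ (P : Subgroup K).index ∣ p - 1) ∨
    (IsSimpleGroup ↥(Cfsg.generalizedFittingSubgroup K) ∧ ¬ IsMulCommutative ↥(Cfsg.generalizedFittingSubgroup K) ∧
      ¬ p ∣ (Cfsg.generalizedFittingSubgroup K).index) := by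
  classical
  have hp' : p.Prime := Fact.out
  haveI := hP
  haveI : IsMulCommutative (P : Subgroup K) := IsCyclic.commutative
  have hF : Cfsg.fittingSubgroup K = Cfsg.pCore p K :=
    Components.fitting_eq_pCore_of_pPrimeCore_eq_bot hO
  have hself := Components.centralizer_generalizedFitting_le (G := K)
  by_cases hlayer : Cfsg.layer K = ⊥
  · left
    have hgen : Cfsg.generalizedFittingSubgroup K = Cfsg.pCore p K := by
      refine le_antisymm (sup_le (by rw [hlayer]; exact bot_le) hF.le) ?_
      rw [← hF]; exact Components.fitting_le_generalizedFitting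
    rw [hgen] at hself
    have hcomm : ∀ a ∈ (P : Subgroup K), ∀ b ∈ (P : Subgroup K), a * b = b * a := fun a ha b hb =>
      congrArg Subtype.val (mul_comm' (⟨a, ha⟩ : (P : Subgroup K)) ⟨b, hb⟩)
    have hPeq : (P : Subgroup K) = Cfsg.pCore p K := le_antisymm
      (fun x hx => hself (Subgroup.mem_centralizer_iff.2 fun y hy =>
        hcomm y (Thompson.pCore_le_sylow P hy) x hx))
      (Thompson.pCore_le_sylow P)
    have hn : (P : Subgroup K).Normal := by rw [hPeq]; infer_instance
    haveI := hn
    have hC : Subgroup.centralizer ((P : Subgroup K) : Set K) = (P : Subgroup K) :=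
      le_antisymm (by rw [hPeq]; exact hself)
        (fun x hx => Subgroup.mem_centralizer_iff.2 fun y hy => hcomm y hy x hx)
    let ρ : K →* MulAut (P : Subgroup K) := MulAut.conjNormal
    have hker : ρ.ker = (P : Subgroup K) := by
      refine Eq.trans ?_ hC
      ext g
      rw [MonoidHom.mem_ker, Subgroup.mem_centralizer_iff]
      constructor
      · intro h y hy
        have := congrArg Subtype.val (DFunLike.congr_fun h ⟨y, hy⟩)
        rw [MulAut.conjNormal_apply] at this
        exact (mul_inv_eq_iff_eq_mul.1 this).symm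
      · intro h
        refine MulEquiv.ext fun y => Subtype.ext ?_
        rw [MulAut.conjNormal_apply, MulAut.one_apply, ← h y y.2, mul_inv_cancel_right]
    obtain ⟨n, hn'⟩ := IsPGroup.iff_card.1 P.isPGroup'
    let e : MulAut (P : Subgroup K) ≃* (ZMod (p ^ n))ˣ :=
      hn' ▸ IsCyclic.mulAutMulEquiv (P : Subgroup K)
    have hidx : (P : Subgroup K).index = Nat.card ρ.range := by rw [← Subgroup.index_ker, hker]
    have hnp : ¬ p ∣ (P : Subgroup K).index := P.not_dvd_index
    have hn0 : 1 ≤ n := by
      by_contra h
      have h0 : n = 0 := by omega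
      have := P.dvd_card_of_dvd_card hp
      rw [hn', h0, pow_zero] at this
      exact hp'.not_dvd_one this
    have hdvd : (P : Subgroup K).index ∣ p - 1 := by
      have h1 : (P : Subgroup K).index ∣ Nat.card (ZMod (p ^ n))ˣ := by
        rw [hidx, ← Nat.card_congr e.toEquiv]; exact Subgroup.card_subgroup_dvd_card _
      rw [Nat.card_eq_fintype_card, ZMod.card_units_eq_totient, Nat.totient_prime_pow hp' hn0] at h1
      exact (Nat.Coprime.pow_right _ ((hp'.coprime_iff_not_dvd.2 hnp).symm)).dvd_of_dvd_mul_left h1
    refine ⟨hn, hC, fun h => ?_, hdvd⟩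
    by_cases hp2 : p = 2
    · haveI : Subsingleton (K ⧸ (P : Subgroup K)) := by
        rw [← Finite.card_le_one_iff_subsingleton]
        show (P : Subgroup K).index ≤ 1
        refine Nat.le_of_dvd one_pos ?_
        simpa [hp2] using hdvd
      infer_instance
    · haveI := ZMod.isCyclic_units_of_prime_pow p hp' hp2 n
      haveI : IsCyclic ρ.range :=
        isCyclic_of_injective (e.toMonoidHom.comp ρ.range.subtype)
          (e.injective.comp ρ.range.subtype_injective)
      let q := (QuotientGroup.quotientMulEquivOfEq hker.symm).trans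
        (QuotientGroup.quotientKerEquivRange ρ)
      exact isCyclic_of_surjective q.symm q.symm.surjective
  · right
    obtain ⟨L, hL⟩ : ∃ L, Cfsg.IsComponent L := by
      by_contra h
      push Not at h
      exact hlayer (Components.layer_eq_bot_iff.2 h)
    have hLd : p ∣ Nat.card L := Components.dvd_card_component hO hL
    have hLq : Cfsg.IsQuasisimple L := hL.2
    have hLperf : ⁅L, L⁆ = L := Components.component_commutator_eq_self hL
    -- commuting elements of order `p`
    have hrank : ∀ x y : K, orderOf x = p → orderOf y = p → x * y = y * x →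
        y ∈ Subgroup.zpowers x := by
      intro x y hx hy hxy
      have hT : IsPGroup p (Subgroup.closure ({x, y} : Set K)) := by
        have hpw : ∀ g ∈ Subgroup.closure ({x, y} : Set K), g ^ p = 1 ∧
            ∀ h ∈ ({x, y} : Set K), g * h = h * g := by
          intro g hg
          induction hg using Subgroup.closure_induction with
          | mem g hg =>
            refine ⟨?_, fun h hh => ?_⟩
            · rcases hg with rfl | rfl
              · rw [← hx, pow_orderOf_eq_one]
              · rw [← hy, pow_orderOf_eq_one]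
            · rcases hg with rfl | rfl <;> rcases hh with rfl | rfl <;>
                first | rfl | exact hxy | exact hxy.symm
          | one => exact ⟨one_pow _, fun h _ => by simp⟩
          | mul a b _ hb' ha hb =>
            refine ⟨?_, fun h hh => by rw [mul_assoc, hb.2 h hh, ← mul_assoc, ha.2 h hh, mul_assoc]⟩
            have hab : Commute a b := by
              clear hb
              induction hb' using Subgroup.closure_induction with
              | mem c hc => exact ha.2 c hc
              | one => exact Commute.one_right a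
              | mul c d _ _ hc hd => exact hc.mul_right hd
              | inv c _ hc => exact hc.inv_right
            rw [hab.mul_pow, ha.1, hb.1, one_mul]
          | inv a _ ha =>
            exact ⟨by rw [inv_pow, ha.1, inv_one], fun h hh => (Commute.inv_left (ha.2 h hh)).eq⟩
        exact fun g => ⟨1, Subtype.ext (by simpa using (hpw g g.2).1)⟩
      obtain ⟨R, hR⟩ := hT.exists_le_sylow
      haveI : IsCyclic (R : Subgroup K) :=
        isCyclic_of_surjective (Sylow.equiv P R) (Sylow.equiv P R).surjective
      set X : (R : Subgroup K) := ⟨x, hR (Subgroup.subset_closure (by simp))⟩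
      set Y : (R : Subgroup K) := ⟨y, hR (Subgroup.subset_closure (by simp))⟩
      have hXo : orderOf X = p := (Subgroup.orderOf_mk _ _).trans hx
      have hYo : orderOf Y = p := (Subgroup.orderOf_mk _ _).trans hy
      haveI := Fintype.ofFinite (R : Subgroup K)
      by_contra hn
      have hle := IsCyclic.card_pow_eq_one_le (α := (R : Subgroup K)) hp'.pos
      have hsub : insert Y ((Subgroup.zpowers X : Set (R : Subgroup K)).toFinset) ⊆
          Finset.univ.filter fun c : (R : Subgroup K) => c ^ p = 1 := by
        intro c hc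
        simp only [Finset.mem_filter, Finset.mem_univ, true_and]
        rcases Finset.mem_insert.1 hc with rfl | hc
        · exact orderOf_dvd_iff_pow_eq_one.1 (dvd_of_eq hYo)
        · obtain ⟨i, rfl⟩ := Subgroup.mem_zpowers_iff.1 (Set.mem_toFinset.1 hc)
          rw [← zpow_natCast, ← zpow_mul, mul_comm, zpow_mul, zpow_natCast,
            orderOf_dvd_iff_pow_eq_one.1 (dvd_of_eq hXo), one_zpow]
      have hYn : Y ∉ Subgroup.zpowers X := fun h => by
        obtain ⟨i, hi⟩ := Subgroup.mem_zpowers_iff.1 h
        exact hn (Subgroup.mem_zpowers_iff.2 ⟨i, by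
          have := congrArg Subtype.val hi
          simpa [X, Y] using this⟩)
      have hcard := (Finset.card_le_card hsub).trans hle
      rw [Finset.card_insert_of_notMem (fun h => hYn (Set.mem_toFinset.1 h)),
        Set.toFinset_card, ← Nat.card_eq_fintype_card] at hcard
      change Nat.card (Subgroup.zpowers X) + 1 ≤ p at hcard
      rw [Nat.card_zpowers, hXo] at hcard
      omega
    have hcentral : ∀ z : L, z ∈ Subgroup.center L → orderOf z = p → False := by
      intro z hz hzo
      let Q : Sylow p L := Classical.arbitrary _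
      haveI : IsMulCommutative Q := by
        obtain ⟨R, hR⟩ := (Q.isPGroup'.map L.subtype).exists_le_sylow
        haveI : IsCyclic (R : Subgroup K) :=
          isCyclic_of_surjective (Sylow.equiv P R) (Sylow.equiv P R).surjective
        haveI : IsCyclic ((Q : Subgroup L).map L.subtype) := Subgroup.isCyclic_of_le hR
        let e := (Q : Subgroup L).equivMapOfInjective L.subtype L.subtype_injective
        haveI : IsCyclic Q := isCyclic_of_surjective e.symm e.symm.surjective
        exact IsCyclic.commutative
      have := orderOf_dvd_of_pow_eq_one (center_pow_eq_one hLq.1 Q z hz)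
      rw [hzo] at this
      exact Q.not_dvd_index this
    obtain ⟨⟨x, hxL⟩, hx⟩ := exists_prime_orderOf_dvd_card' (G := L) p hLd
    have hxo : orderOf x = p := by rw [← hx, Subgroup.orderOf_mk]
    have houts : ∀ y : K, orderOf y = p → (∀ l ∈ L, l * y = y * l) → False := by
      intro y hy hc
      have hyL : y ∈ L := Subgroup.zpowers_le.2 hxL (hrank x y hxo hy (hc x hxL))
      exact hcentral ⟨y, hyL⟩ (Subgroup.mem_center_iff.2 fun l => Subtype.ext (hc l l.2))
        ((Subgroup.orderOf_mk _ _).trans hy)
    have honly : ∀ M, Cfsg.IsComponent M → M = L := by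
      intro M hM
      by_contra hne
      obtain ⟨⟨y, hyM⟩, hy⟩ := exists_prime_orderOf_dvd_card' (G := M) p (Components.dvd_card_component hO hM)
      refine houts y (by rw [← hy, Subgroup.orderOf_mk]) fun l hl => ?_
      exact (Subgroup.mem_centralizer_iff.1 (Components.component_le_centralizer hL hM (Ne.symm hne) hl) y hyM).symm
    have hlay : Cfsg.layer K = L := le_antisymm
      (Components.layer_le_iff.2 fun M hM => (honly M hM).le) (Components.component_le_layer hL)
    have hOp : Cfsg.pCore p K = ⊥ := by
      by_contra h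
      obtain ⟨m, hm⟩ := IsPGroup.iff_card.1 (Thompson.isPGroup_pCore (p := p) (G := K))
      have hdv : p ∣ Nat.card (Cfsg.pCore p K) := by
        rw [hm]
        refine dvd_pow_self p ?_
        rintro rfl
        exact h (Subgroup.eq_bot_of_card_eq _ (by simpa using hm))
      obtain ⟨⟨y, hy⟩, hyo⟩ := exists_prime_orderOf_dvd_card' (G := Cfsg.pCore p K) p hdv
      refine houts y (by rw [← hyo, Subgroup.orderOf_mk]) fun l hl => ?_
      have hl' := Components.layer_le_centralizer_fitting (G := K) (Components.component_le_layer hL hl)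
      exact (Subgroup.mem_centralizer_iff.1 hl' y (by rw [hF]; exact hy)).symm
    have hgen : Cfsg.generalizedFittingSubgroup K = L := by
      refine le_antisymm (sup_le hlay.le (by rw [hF, hOp]; exact bot_le)) ?_
      exact Components.component_le_generalizedFitting hL
    rw [hgen]
    haveI hLn : L.Normal := by rw [← hlay]; infer_instance
    have hZ : Subgroup.center L = ⊥ := by
      by_contra h
      have hle : (Subgroup.center (Cfsg.layer K)).map (Cfsg.layer K).subtype ≤ Cfsg.pCore p K :=
        Components.map_center_layer_le_pCore hO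
      rw [hlay, hOp, le_bot_iff, Subgroup.map_eq_bot_iff_of_injective _ L.subtype_injective] at hle
      exact h hle
    haveI : IsSimpleGroup (L ⧸ Subgroup.center L) := hLq.2
    refine ⟨((QuotientGroup.quotientMulEquivOfEq hZ).trans QuotientGroup.quotientBot).symm.isSimpleGroup,
      Components.not_isMulCommutative_of_isQuasisimple hLq, fun hdvd => ?_⟩
    -- Burnside inside `H = L P`
    obtain ⟨x₀, hx₀⟩ := IsCyclic.exists_generator (α := (P : Subgroup K))
    have hxn : (x₀ : K) ∉ L := fun h => by
      have hle : (P : Subgroup K) ≤ L := fun y hy => by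
        obtain ⟨i, hi⟩ := Subgroup.mem_zpowers_iff.1 (hx₀ ⟨y, hy⟩)
        have := congrArg Subtype.val hi
        simp at this
        rw [← this]; exact zpow_mem h i
      exact P.not_dvd_index (hdvd.trans (Subgroup.index_dvd_of_le hle))
    set H := L ⊔ (P : Subgroup K)
    set PH : Sylow p H := P.subtype le_sup_right
    set x : H := ⟨x₀, Subgroup.mem_sup_right x₀.2⟩
    have hxP : x ∈ (PH : Subgroup H) := by
      show (x : K) ∈ (P : Subgroup K); exact x₀.2
    have hgenP : ∀ y : H, y ∈ (PH : Subgroup H) → y ∈ Subgroup.zpowers x := fun y hy => by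
      obtain ⟨i, hi⟩ := Subgroup.mem_zpowers_iff.1 (hx₀ ⟨(y : K), hy⟩)
      refine Subgroup.mem_zpowers_iff.2 ⟨i, Subtype.ext ?_⟩
      have := congrArg Subtype.val hi
      simpa [x] using this
    have hNC : Subgroup.normalizer ((PH : Subgroup H) : Set H) ≤
        Subgroup.centralizer ((PH : Subgroup H) : Set H) := by
      intro h hh
      set N := Subgroup.normalizer ((PH : Subgroup H) : Set H)
      set C := (Subgroup.centralizer ((PH : Subgroup H) : Set H)).subgroupOf N
      haveI : C.Normal := by
        refine ⟨fun c hc g => ?_⟩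
        show ((g * c * g⁻¹ : N) : H) ∈ Subgroup.centralizer _
        rw [Subgroup.mem_centralizer_iff]
        intro y hy
        have hy' : (g : H)⁻¹ * y * g ∈ (PH : Subgroup H) := by
          simpa using (Subgroup.mem_normalizer_iff.1 (inv_mem g.2) y).1 hy
        have : (g : H)⁻¹ * y * g * (c : H) = (c : H) * ((g : H)⁻¹ * y * g) :=
          Subgroup.mem_centralizer_iff.1 hc _ hy'
        show y * ((g : H) * c * (g : H)⁻¹) = (g : H) * c * (g : H)⁻¹ * y
        calc y * ((g : H) * c * (g : H)⁻¹) = g * (((g : H)⁻¹ * y * g) * c) * (g : H)⁻¹ := by group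
          _ = g * (c * ((g : H)⁻¹ * y * g)) * (g : H)⁻¹ := by rw [this]
          _ = _ := by group
      have hPC : (PH : Subgroup H) ≤ Subgroup.centralizer ((PH : Subgroup H) : Set H) := by
        intro a ha
        rw [Subgroup.mem_centralizer_iff]
        intro b hb
        have e := congrArg Subtype.val
          (mul_comm' (⟨(b : K), hb⟩ : (P : Subgroup K)) ⟨(a : K), ha⟩)
        exact Subtype.ext (by simpa using e)
      have hcop : ¬ p ∣ C.index := by
        intro hd
        refine PH.not_dvd_index (hd.trans ?_)
        refine (Subgroup.relIndex_dvd_of_le_left N hPC).trans ?_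
        exact Subgroup.relIndex_dvd_index_of_le (Subgroup.le_normalizer)
      obtain ⟨t, ht⟩ : ∃ t : ℕ, x ^ t = h * x * h⁻¹ := by
        have h1 : h * x * h⁻¹ ∈ Subgroup.zpowers x :=
          hgenP _ ((Subgroup.mem_normalizer_iff.1 hh x).1 hxP)
        rw [← mem_powers_iff_mem_zpowers] at h1
        exact h1
      obtain ⟨n, hn'⟩ : ∃ n, orderOf x = p ^ n := by
        obtain ⟨n, hn'⟩ := P.isPGroup'.exists_orderOf_eq_pow x₀ |>.imp fun _ h => h
        exact ⟨n, by rw [← hn', ← Subgroup.orderOf_coe, Subgroup.orderOf_coe x₀]⟩
      have htp : (p : ℤ) ∣ (t : ℤ) - 1 := by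
        by_contra hnd
        refine hxn ?_
        -- modulo `L` the group is generated by `x`
        let π := QuotientGroup.mk' L
        have hz : ∀ g ∈ H, ∃ i : ℤ, π g = π (x₀ : K) ^ i := by
          intro g hg
          have hg' : g ∈ ((L ⊔ (P : Subgroup K) : Subgroup K) : Set K) := hg
          rw [Subgroup.normal_mul] at hg'
          obtain ⟨l, hl, y, hy, rfl⟩ := Set.mem_mul.1 hg'
          obtain ⟨i, hi⟩ := Subgroup.mem_zpowers_iff.1 (hx₀ ⟨y, hy⟩)
          refine ⟨i, ?_⟩
          have e := congrArg Subtype.val hi
          simp at e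
          rw [map_mul, show π l = 1 from (QuotientGroup.eq_one_iff l).2 hl, one_mul, ← e, map_zpow]
        obtain ⟨i, hi⟩ := hz h h.2
        have h1 := congrArg (fun u : H => π (u : K)) ht
        simp only [Subgroup.coe_pow, Subgroup.coe_mul, Subgroup.coe_inv, map_pow, map_mul, map_inv,
          hi] at h1
        change π (x₀ : K) ^ t = π (x₀ : K) ^ i * π (x₀ : K) * (π (x₀ : K) ^ i)⁻¹ at h1
        rw [(Commute.zpow_self (π (x₀ : K)) i).eq, mul_inv_cancel_right] at h1
        have h2 : ((orderOf (π (x₀ : K)) : ℕ) : ℤ) ∣ (t : ℤ) - 1 := by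
          rw [orderOf_dvd_iff_zpow_eq_one, zpow_sub_one, zpow_natCast, h1, mul_inv_cancel]
        obtain ⟨j, hj⟩ := (P.isPGroup'.map π).exists_orderOf_eq_pow
          (⟨π (x₀ : K), Subgroup.mem_map.2 ⟨_, x₀.2, rfl⟩⟩ : (P : Subgroup K).map π) |>.imp fun _ h => h
        rw [Subgroup.orderOf_mk] at hj
        rcases Nat.eq_zero_or_pos j with rfl | hj0
        · rw [pow_zero, orderOf_eq_one_iff] at hj
          exact (QuotientGroup.eq_one_iff (x₀ : K)).1 hj
        · exact absurd (dvd_trans (by rw [hj]; exact_mod_cast dvd_pow_self p hj0.ne') h2) hnd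
      set g : N := ⟨h, hh⟩
      have hpow : ∀ i : ℕ, h ^ i * x * (h ^ i)⁻¹ = x ^ t ^ i := by
        intro i
        induction i with
        | zero => simp
        | succ i ih =>
          calc h ^ (i + 1) * x * (h ^ (i + 1))⁻¹ = h * (h ^ i * x * (h ^ i)⁻¹) * h⁻¹ := by
                rw [pow_succ']; group
            _ = (h * x * h⁻¹) ^ (t ^ i) := by rw [ih, conj_pow]
            _ = x ^ t ^ (i + 1) := by rw [← ht, ← pow_mul, ← pow_succ']
      have hfix : h ^ (p ^ n) * x * (h ^ (p ^ n))⁻¹ = x := by
        have h3 : (p : ℤ) ^ (n + 1) ∣ (t : ℤ) ^ (p ^ n) - 1 := by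
          have := dvd_sub_pow_of_dvd_sub (R := ℤ) (p := p) (a := (t : ℤ)) (b := 1) htp n
          rwa [one_pow] at this
        rw [hpow, ← zpow_natCast, Nat.cast_pow,
          show x ^ ((t : ℤ) ^ (p ^ n)) = x ^ ((1 : ℤ) + ((t : ℤ) ^ (p ^ n) - 1)) by ring_nf,
          zpow_add, zpow_one, orderOf_dvd_iff_zpow_eq_one.1 (by
            rw [hn', Nat.cast_pow]
            exact dvd_trans (pow_dvd_pow _ (Nat.le_succ n)) h3), mul_one]
      have hgC : g ^ (p ^ n) ∈ C := by
        show ((g ^ (p ^ n) : N) : H) ∈ Subgroup.centralizer _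
        rw [Subgroup.coe_pow, Subgroup.mem_centralizer_iff]
        intro y hy
        obtain ⟨i, rfl⟩ := Subgroup.mem_zpowers_iff.1 (hgenP y hy)
        have hc : Commute (h ^ (p ^ n)) x := mul_inv_eq_iff_eq_mul.1 hfix
        exact (hc.zpow_right i).eq.symm
      have hgmem : (g : N ⧸ C) = 1 := by
        rw [← orderOf_eq_one_iff]
        refine Nat.eq_one_of_dvd_coprimes (Nat.Coprime.pow_left n (hp'.coprime_iff_not_dvd.2 hcop))
          (orderOf_dvd_of_pow_eq_one ?_) (orderOf_dvd_natCard _)
        rw [← QuotientGroup.mk_pow, QuotientGroup.eq_one_iff]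
        exact hgC
      exact (QuotientGroup.eq_one_iff g).1 hgmem
    have hc := MonoidHom.ker_transferSylow_isComplement' PH hNC
    set W := (MonoidHom.transferSylow PH hNC).ker
    have hLW : L.subgroupOf H ≤ W := by
      intro l hl
      have hl' : (l : K) ∈ ⁅L, L⁆ := by rw [hLperf]; exact hl
      have hle : ⁅L.subgroupOf H, L.subgroupOf H⁆ ≤ W := by
        rw [Subgroup.commutator_le]
        intro a _ b _
        rw [MonoidHom.mem_ker, map_commutatorElement, commutatorElement_eq_one_iff_mul_comm]
        have e := congrArg Subtype.val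
          (mul_comm' (⟨((MonoidHom.transferSylow PH hNC a : H) : K), (MonoidHom.transferSylow PH hNC a).2⟩ : (P : Subgroup K))
            ⟨((MonoidHom.transferSylow PH hNC b : H) : K), (MonoidHom.transferSylow PH hNC b).2⟩)
        exact Subtype.ext (Subtype.ext (by simpa using e))
      apply hle
      have := Subgroup.map_commutator (L.subgroupOf H) (L.subgroupOf H) H.subtype
      rw [Subgroup.subgroupOf_map_subtype, inf_eq_left.2 (le_sup_left : L ≤ H)] at this
      rw [← this] at hl'
      obtain ⟨l', hl1, hl2⟩ := hl'
      rwa [H.subtype_injective hl2] at hl1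
    have h1 := Subgroup.card_dvd_of_le hLW
    rw [Nat.card_congr (Subgroup.subgroupOfEquivOfLe (le_sup_left : L ≤ H)).toEquiv] at h1
    have h2 : Nat.card W = (PH : Subgroup H).index := hc.index_eq_card.symm
    exact PH.not_dvd_index (h2 ▸ hLd.trans h1)

end Cfsg.Agent.S4403
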