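import Cfsg.Statements.S4405
import Cfsg.Agent.FGS82.ExtraMinus
import Cfsg.Agent.Lib.Thompson.Cores

set_option autoImplicit false
open Cfsg

namespace Cfsg.Agent.S4405

/-- Let G be a finite group of order 320 = 64·5 whose largest normal 2-subgroup H = O₂(G) equals the Fitting subgroup F(G) and is extraspecial of order 32 containing no elementary abelian subgroup of order 8 (so H is the central product of a quaternion group and a dihedral group of order 8). If T is an involution of G outside H whose centralizer in H contains an elementary abelian subgroup of order 4, then C_H(T) itself is elementary abelian of order 4. -/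
theorem result {G : Type*} [Group G] [Finite G]
    (hG : Nat.card G = 320) (hHF : Cfsg.pCore 2 G = Cfsg.fittingSubgroup G)
    (hex : Cfsg.IsExtraspecial 2 ↥(Cfsg.pCore 2 G)) (h32 : Nat.card ↥(Cfsg.pCore 2 G) = 32)
    (hminus : ∀ A : Subgroup G, A ≤ Cfsg.pCore 2 G → Cfsg.IsElementaryAbelian 2 A → Nat.card ↥A ≤ 4)
    (T : G) (hT : orderOf T = 2) (hTH : T ∉ Cfsg.pCore 2 G)
    (V : Subgroup G) (hV : V ≤ Cfsg.pCore 2 G ⊓ Subgroup.centralizer ({T} : Set G)) (hV4 : Nat.card ↥V = 4) (hVe : Cfsg.IsElementaryAbelian 2 V) :
    Nat.card ↥(Cfsg.pCore 2 G ⊓ Subgroup.centralizer ({T} : Set G)) = 4 ∧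
      Cfsg.IsElementaryAbelian 2 (Cfsg.pCore 2 G ⊓ Subgroup.centralizer ({T} : Set G)) := by
  set H := Cfsg.pCore 2 G with hH
  haveI : H.Normal := hH ▸ inferInstance
  obtain ⟨z, D⟩ := FGS82.exists_qdata hex
  obtain ⟨e⟩ := FGS82.Minus.equiv_model D h32 (fun A hA => by
    rw [← Subgroup.card_map_of_injective H.subtype_injective]
    exact hminus _ (Subgroup.map_subtype_le A)
      ((Thompson.isElementaryAbelian_iff_of_injective H.subtype_injective).2 hA))
  set C := Subgroup.centralizer (H : Set G) with hCdef
  haveI : C.Normal := by rw [hCdef]; infer_instance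
  have hCH : C ≤ H := by
    have hinter : Nat.card (H.subgroupOf C) = 2 := by
      rw [← hex.2]
      refine Nat.card_congr
        { toFun := fun c => ⟨⟨c.1.1, c.2⟩, Subgroup.mem_center_iff.2 fun h =>
            Subtype.ext (Subgroup.mem_centralizer_iff.1 c.1.2 h.1 h.2)⟩
          invFun := fun c => ⟨⟨c.1.1, Subgroup.mem_centralizer_iff.2 fun h hh =>
            congrArg Subtype.val (Subgroup.mem_center_iff.1 c.2 ⟨h, hh⟩)⟩, c.1.2⟩
          left_inv := fun _ => rfl
          right_inv := fun _ => rfl }
    have hidx : H.index = 10 := by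
      have := H.card_mul_index
      rw [h32, hG] at this; omega
    have hdvd : Nat.card C ∣ 20 := by
      rw [← (H.subgroupOf C).card_mul_index, hinter, show (20 : ℕ) = 2 * 10 from rfl, ← hidx]
      exact mul_dvd_mul_left 2 (H.relIndex_dvd_index_of_normal C)
    haveI : Fact (Nat.Prime 5) := ⟨by norm_num⟩
    by_cases h5 : 5 ∣ Nat.card C
    · exfalso
      let Q : Sylow 5 C := Classical.arbitrary _
      have hn : Nat.card (Sylow 5 C) = 1 := by
        have h1 : Nat.card (Sylow 5 C) ≡ 1 [MOD 5] := card_sylow_modEq_one 5 C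
        have h2 : Nat.card (Sylow 5 C) ∣ 20 :=
          ((Sylow.card_dvd_index Q).trans (Subgroup.index_dvd_card _)).trans hdvd
        have h3 := Nat.le_of_dvd (by norm_num) h2
        generalize Nat.card (Sylow 5 C) = n at h1 h2 h3
        interval_cases n <;> first | rfl | (revert h1 h2; decide)
      haveI : Subsingleton (Sylow 5 C) := (Nat.card_eq_one_iff_unique.1 hn).1
      haveI : (Q : Subgroup C).Normal := Sylow.normal_of_subsingleton Q
      haveI : (Q : Subgroup C).Characteristic := Sylow.characteristic_of_normal Q inferInstance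
      set R := (Q : Subgroup C).map C.subtype
      haveI : R.Normal := ConjAct.normal_of_characteristic_of_normal
      have hR : IsPGroup 5 R := Q.isPGroup'.map _
      have hle : R ≤ H := by
        rw [hHF]
        exact le_sSup ⟨inferInstance, hR.isNilpotent⟩
      have hQ5 : 5 ∣ Nat.card (Q : Subgroup C) := Q.dvd_card_of_dvd_card h5
      rw [← Subgroup.card_map_of_injective (K := (Q : Subgroup C)) C.subtype_injective] at hQ5
      have := hQ5.trans (Subgroup.card_dvd_of_le hle)
      rw [h32] at this; norm_num at this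
    · have : Nat.card C ∣ 2 ^ 2 := by
        have hco : (Nat.card C).Coprime 5 :=
          (Nat.Coprime.symm ((Fact.out : Nat.Prime 5).coprime_iff_not_dvd.2 h5))
        exact hco.dvd_of_dvd_mul_right (by simpa using hdvd)
      obtain ⟨k, -, hk⟩ := (Nat.dvd_prime_pow Nat.prime_two).1 this
      exact hH ▸ Thompson.le_pCore inferInstance (IsPGroup.of_card hk)
  let Φ : G →* Equiv.Perm (Fin 5) :=
    FGS82.Minus.act.comp ((MulAut.congr e).toMonoidHom.comp MulAut.conjNormal)
  have hinn : ∀ h : H, Φ h = 1 := by
    intro h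
    show FGS82.Minus.act (MulAut.congr e (MulAut.conjNormal (h : G))) = 1
    rw [show MulAut.congr e (MulAut.conjNormal (h : G)) = MulAut.conj (e h) from
      MulEquiv.ext fun x => by
        simp only [MulAut.congr, MulAut.conj_apply]
        show e (MulAut.conjNormal (h : G) (e.symm x)) = _
        rw [show MulAut.conjNormal (h : G) (e.symm x) = h * e.symm x * h⁻¹ from
          Subtype.ext (by simp)]
        simp]
    exact FGS82.Minus.act_conj (e h)
  have hker : ∀ g : G, Φ g = 1 → g ∈ H := by
    intro g hg
    have hIeq : (MulAut.conj : FGS82.Minus.M →* _).range = FGS82.Minus.act.ker := by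
      refine Subgroup.eq_of_le_of_card_ge ?_ ?_
      · rintro _ ⟨m, rfl⟩; exact FGS82.Minus.act_conj m
      · refine FGS82.Minus.card_ker_act_le.trans ?_
        have hk : Nat.card (MulAut.conj : FGS82.Minus.M →* _).ker ≤ 2 := by
          classical
          rw [Nat.card_eq_fintype_card, Fintype.card_subtype]
          refine le_trans (Finset.card_le_card (t := {1, FGS82.Minus.zM}) fun m hm => ?_)
            Finset.card_le_two
          simp only [Finset.mem_filter, Finset.mem_univ, true_and, MonoidHom.mem_ker] at hm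
          simp only [Finset.mem_insert, Finset.mem_singleton]
          refine FGS82.Minus.qdataM.center m fun x => ?_
          have := DFunLike.congr_fun hm x
          simp only [MulAut.conj_apply, MulAut.one_apply] at this
          exact mul_inv_eq_iff_eq_mul.1 this
        have h := Subgroup.card_eq_card_quotient_mul_card_subgroup
          (MulAut.conj : FGS82.Minus.M →* _).ker
        rw [Nat.card_congr (QuotientGroup.quotientKerEquivRange
          (MulAut.conj : FGS82.Minus.M →* _)).toEquiv, FGS82.Minus.cardM] at h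
        nlinarith
    have hg' : MulAut.congr e (MulAut.conjNormal g) ∈ FGS82.Minus.act.ker := hg
    rw [← hIeq] at hg'
    obtain ⟨m, hm⟩ := hg'
    set h := e.symm m
    have hc : (h : G)⁻¹ * g ∈ C := by
      rw [Subgroup.mem_centralizer_iff]
      intro x hx
      have := DFunLike.congr_fun hm (e ⟨x, hx⟩)
      simp only [MulAut.congr, MulAut.conj_apply] at this
      have h' : e (h * ⟨x, hx⟩ * h⁻¹) = e (MulAut.conjNormal g ⟨x, hx⟩) := by
        simpa [h] using this
      have h'' := congrArg Subtype.val (e.injective h')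
      simp at h''
      calc x * ((h : G)⁻¹ * g) = (h : G)⁻¹ * ((h : G) * x * (h : G)⁻¹) * g := by group
        _ = (h : G)⁻¹ * (g * x * g⁻¹) * g := by rw [h'']
        _ = (h : G)⁻¹ * g * x := by group
    have := mul_mem h.2 (hCH hc)
    rwa [mul_inv_cancel_left] at this
  have hkerΦ : Φ.ker = H := le_antisymm (fun g hg => hker g hg) (fun g hg => hinn ⟨g, hg⟩)
  have hrange : Nat.card Φ.range = 10 := by
    rw [← Subgroup.index_ker, hkerΦ]
    have := H.card_mul_index
    rw [h32, hG] at this; omega
  haveI : Fact (Nat.Prime 5) := ⟨by norm_num⟩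
  obtain ⟨c, hc⟩ := exists_prime_orderOf_dvd_card' (G := Φ.range) 5 (by rw [hrange]; norm_num)
  haveI : (Subgroup.zpowers c).Normal := Subgroup.normal_of_index_eq_two (by
    have := (Subgroup.zpowers c).card_mul_index
    rw [Nat.card_zpowers, hc, hrange] at this; omega)
  have hσσ : Φ T * Φ T = 1 := by
    rw [← map_mul, ← pow_two, ← hT, pow_orderOf_eq_one, map_one]
  have hσ1 : Φ T ≠ 1 := fun h => hTH (hker T h)
  have hnorm : ∃ r : Fin 5, Φ T * (c : Equiv.Perm (Fin 5)) * Φ T =
      (c : Equiv.Perm (Fin 5)) ^ (r : ℕ) := by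
    let σ : Φ.range := ⟨Φ T, T, rfl⟩
    have hmem := Subgroup.Normal.conj_mem (inferInstance : (Subgroup.zpowers c).Normal) c
      (Subgroup.mem_zpowers c) σ
    rw [mem_zpowers_iff_mem_range_orderOf, Finset.mem_image] at hmem
    obtain ⟨r, hr, he⟩ := hmem
    rw [Finset.mem_range, hc] at hr
    refine ⟨⟨r, hr⟩, ?_⟩
    have := congrArg Subtype.val he
    simp only [Subgroup.coe_pow, Subgroup.coe_mul, Subgroup.coe_inv, σ] at this
    rw [inv_eq_of_mul_eq_one_right hσσ] at this
    exact this.symm
  have hsub := FGS82.Minus.perm_fixed_subsingleton (Φ T) hσσ hσ1 c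
    (by
      have := congrArg Subtype.val (pow_orderOf_eq_one c)
      rw [hc] at this
      exact this)
    (fun h => by
      have : c = 1 := Subtype.ext h
      rw [this, orderOf_one] at hc; norm_num at hc)
    hnorm
  set φ := MulAut.congr e (MulAut.conjNormal T)
  have hφ2 : ∀ x, φ (φ x) = x := by
    intro x
    rw [← MulAut.mul_apply, ← map_mul, ← map_mul, ← pow_two, ← hT, pow_orderOf_eq_one, map_one,
      map_one, MulAut.one_apply]
  have hfour := FGS82.Minus.card_fixed_le φ hφ2 (fun i j a b => hsub i j a b)
  have hD : Nat.card ↥(H ⊓ Subgroup.centralizer ({T} : Set G)) ≤ 4 := by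
    refine le_trans (Nat.card_le_card_of_injective
      (fun d => (⟨e ⟨d.1, d.2.1⟩, ?_⟩ : {w : FGS82.Minus.M // φ w = w})) ?_) hfour
    · show e (MulAut.conjNormal T (e.symm (e ⟨d.1, d.2.1⟩))) = _
      rw [e.symm_apply_apply]
      congr 1
      refine Subtype.ext ?_
      rw [MulAut.conjNormal_apply]
      exact mul_inv_eq_iff_eq_mul.2 (Subgroup.mem_centralizer_singleton_iff.1 d.2.2).symm
    · intro a b hab
      have h' := e.injective (congrArg Subtype.val hab)
      exact Subtype.ext (congrArg (fun t : H => (t : G)) h')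
  have heq : V = H ⊓ Subgroup.centralizer ({T} : Set G) :=
    Subgroup.eq_of_le_of_card_ge hV (by omega)
  rw [← heq]
  exact ⟨hV4, hVe⟩

end Cfsg.Agent.S4405
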