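import Cfsg.Statements.S4406
import Mathlib

set_option autoImplicit false
open Cfsg

namespace Cfsg.Agent.S4406

/-- the alternating group of degree four -/
abbrev A4 : Type := ↥(alternatingGroup (Fin 4))

theorem conj_three {M : Type*} [Group M] (u y : M) (h : u ^ 3 = 1) :
    u * (u * (u * y * u⁻¹) * u⁻¹) * u⁻¹ = y := by
  rw [pow_three, ← mul_assoc] at h
  calc u * (u * (u * y * u⁻¹) * u⁻¹) * u⁻¹ = (u * u * u) * y * (u * u * u)⁻¹ := by
        simp only [mul_inv_rev, mul_assoc]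
    _ = y := by rw [h, one_mul, inv_one, mul_one]

theorem pow12 : ∀ x : A4, x ^ 12 = 1 := by decide +kernel

theorem four_two : ∀ x : A4, x ^ 4 = 1 → x ^ 2 = 1 := by decide +kernel

theorem cycle : ∀ x y q : A4, x ^ 2 = 1 → y ^ 2 = 1 → x ≠ 1 → y ≠ 1 → x ≠ y → q ^ 3 = 1 → q ≠ 1 →
    (q * x * q⁻¹ = y ∧ q * y * q⁻¹ = x * y) ∨ (q⁻¹ * x * q = y ∧ q⁻¹ * y * q = x * y) := by
  decide +kernel


/-- In the direct product P = A₄ × A₄, let X be the Sylow 2-subgroup, X₁ and X₂ its intersections with the two direct factors, Q a Sylow 3-subgroup and Q₁, Q₂ its intersections with the two factors. Then every subgroup B of X of order 4 either meets X₁ or X₂ nontrivially, or is normalized by one of the two subgroups of Q of order 3 other than Q₁ and Q₂. -/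
theorem result
    (X : Sylow 2 (↥(alternatingGroup (Fin 4)) × ↥(alternatingGroup (Fin 4))))
    (Q : Sylow 3 (↥(alternatingGroup (Fin 4)) × ↥(alternatingGroup (Fin 4))))
    (B : Subgroup (↥(alternatingGroup (Fin 4)) × ↥(alternatingGroup (Fin 4)))) (hBX : B ≤ (X : Subgroup _)) (hB4 : Nat.card ↥B = 4) :
    B ⊓ ((X : Subgroup _) ⊓ Subgroup.prod ⊤ ⊥) ≠ ⊥ ∨ B ⊓ ((X : Subgroup _) ⊓ Subgroup.prod ⊥ ⊤) ≠ ⊥ ∨
      ∃ R : Subgroup (↥(alternatingGroup (Fin 4)) × ↥(alternatingGroup (Fin 4))), R ≤ (Q : Subgroup _) ∧ Nat.card ↥R = 3 ∧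
        R ≠ (Q : Subgroup _) ⊓ Subgroup.prod ⊤ ⊥ ∧ R ≠ (Q : Subgroup _) ⊓ Subgroup.prod ⊥ ⊤ ∧ R ≤ Subgroup.normalizer (B : Set _) := by
  classical
  haveI : Fact (Nat.Prime 3) := ⟨Nat.prime_three⟩
  -- elements of X square to one
  have hX2 : ∀ x : A4 × A4, x ∈ B → x ^ 2 = 1 := by
    intro x hx
    obtain ⟨k, hk⟩ := (X.2 : IsPGroup 2 (X : Subgroup (A4 × A4))) ⟨x, hBX hx⟩
    have hk' : x ^ 2 ^ k = 1 := congrArg Subtype.val hk
    have h12 : x ^ 12 = 1 := Prod.ext (pow12 x.1) (pow12 x.2)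
    have hg := pow_gcd_eq_one.2 ⟨hk', h12⟩
    have h4 : x ^ 4 = 1 := by
      obtain ⟨c, hc⟩ : Nat.gcd (2 ^ k) 12 ∣ 4 := by
        have h1 : Nat.gcd (2 ^ k) 12 ∣ 12 := Nat.gcd_dvd_right _ _
        obtain ⟨j, -, hj⟩ := (Nat.dvd_prime_pow Nat.prime_two).1 (Nat.gcd_dvd_left (2 ^ k) 12)
        rw [hj] at h1 ⊢
        have hj2 : j ≤ 2 := by
          by_contra hcon
          push Not at hcon
          exact absurd ((pow_dvd_pow 2 hcon).trans h1) (by norm_num)
        exact pow_dvd_pow 2 hj2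
      exact (congrArg (x ^ ·) hc).trans (by show x ^ (_ * c) = 1; rw [pow_mul, hg, one_pow])
    exact Prod.ext (four_two x.1 (congrArg Prod.fst h4)) (four_two x.2 (congrArg Prod.snd h4))
  by_cases hc : ∃ x ∈ B, x ≠ 1 ∧ (x.1 = 1 ∨ x.2 = 1)
  · obtain ⟨x, hx, hx1, h | h⟩ := hc
    · refine Or.inr (Or.inl fun hbot => hx1 ?_)
      rw [← Subgroup.mem_bot, ← hbot]
      exact ⟨hx, hBX hx, Subgroup.mem_prod.2 ⟨Subgroup.mem_bot.2 h, Subgroup.mem_top _⟩⟩
    · refine Or.inl fun hbot => hx1 ?_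
      rw [← Subgroup.mem_bot, ← hbot]
      exact ⟨hx, hBX hx, Subgroup.mem_prod.2 ⟨Subgroup.mem_top _, Subgroup.mem_bot.2 h⟩⟩
  push Not at hc
  refine Or.inr (Or.inr ?_)
  obtain ⟨a, ha, ha1⟩ : ∃ a ∈ B, a ≠ 1 := by
    by_contra hcon
    push Not at hcon
    have : B = ⊥ := (Subgroup.eq_bot_iff_forall _).2 hcon
    rw [this, Subgroup.card_bot] at hB4
    omega
  obtain ⟨b, hb, hb1, hba⟩ : ∃ b ∈ B, b ≠ 1 ∧ b ≠ a := by
    by_contra hcon
    push Not at hcon
    have hsub : (B : Set (A4 × A4)) ⊆ {1, a} := fun y hy => by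
      by_cases h1 : y = 1
      · exact Or.inl h1
      · exact Or.inr (hcon y hy h1)
    have := Set.ncard_le_ncard hsub (Set.toFinite _)
    rw [← Nat.card_coe_set_eq] at this
    have h2 : ({1, a} : Set (A4 × A4)).ncard ≤ 2 := by
      refine (Set.ncard_insert_le _ _).trans ?_
      rw [Set.ncard_singleton]
    have h3 : Nat.card B ≤ 2 := le_trans this h2
    omega
  have hab1 : a * b ≠ 1 := fun h => hba (by
    have := hX2 a ha; rw [pow_two] at this
    exact mul_left_cancel (a := a) (h.trans this.symm))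
  have hBset : (B : Set (A4 × A4)) = {1, a, b, a * b} := by
    have hsub : ({1, a, b, a * b} : Set (A4 × A4)) ⊆ B := by
      rintro y (rfl | rfl | rfl | rfl)
      exacts [B.one_mem, ha, hb, B.mul_mem ha hb]
    refine (Set.eq_of_subset_of_ncard_le hsub ?_ (Set.toFinite _)).symm
    rw [← Nat.card_coe_set_eq]
    have : Nat.card (B : Set (A4 × A4)) = 4 := hB4
    rw [this, Set.ncard_insert_of_notMem, Set.ncard_insert_of_notMem, Set.ncard_insert_of_notMem,
      Set.ncard_singleton]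
    · simp only [Set.mem_singleton_iff]
      exact fun h => ha1 (by simpa using h)
    · simp only [Set.mem_insert_iff, Set.mem_singleton_iff, not_or]
      exact ⟨fun h => hba h.symm, fun h => hb1 (by simpa using h)⟩
    · simp only [Set.mem_insert_iff, Set.mem_singleton_iff, not_or]
      exact ⟨fun h => ha1 h.symm, fun h => hb1 h.symm, fun h => hab1 h.symm⟩
  obtain ⟨ha1', ha2'⟩ := hc a ha ha1
  obtain ⟨hb1', hb2'⟩ := hc b hb hb1
  obtain ⟨hab1', hab2'⟩ := hc (a * b) (B.mul_mem ha hb) hab1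
  have hne : a.1 ≠ b.1 := fun h => hab1' (by
    rw [Prod.fst_mul, ← h]
    exact (pow_two a.1).symm.trans (congrArg Prod.fst (hX2 a ha)))
  have hne2 : a.2 ≠ b.2 := fun h => hab2' (by
    rw [Prod.snd_mul, ← h]
    exact (pow_two a.2).symm.trans (congrArg Prod.snd (hX2 a ha)))
  -- the Sylow 3-subgroup is a product
  have hQc : Nat.card (Q : Subgroup (A4 × A4)) = 9 := by
    rw [Sylow.card_eq_multiplicity, Nat.card_prod, Nat.card_eq_fintype_card]
    have : Fintype.card A4 = 12 := by decide +kernel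
    rw [this]
    have h144 : padicValNat 3 144 = 2 := by
      rw [show (144 : ℕ) = 3 ^ 2 * 16 from rfl, padicValNat.mul (by norm_num) (by norm_num),
        padicValNat.prime_pow, padicValNat.eq_zero_of_not_dvd (by norm_num)]
    norm_num [Nat.factorization_def _ Nat.prime_three, h144]
  set P1 := (Q : Subgroup (A4 × A4)).map (MonoidHom.fst A4 A4) with hP1
  set P2 := (Q : Subgroup (A4 × A4)).map (MonoidHom.snd A4 A4) with hP2
  have hsmall : ∀ P : Subgroup A4, IsPGroup 3 P → Nat.card P ≤ 3 := by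
    intro P hP
    obtain ⟨k, hk⟩ := IsPGroup.iff_card.1 hP
    have hd := Subgroup.card_subgroup_dvd_card P
    have : Fintype.card A4 = 12 := by decide +kernel
    rw [hk, Nat.card_eq_fintype_card, this] at hd
    rw [hk]
    by_contra hcon
    push Not at hcon
    have : 2 ≤ k := by
      by_contra h
      push Not at h
      interval_cases k <;> simp_all
    exact absurd ((pow_dvd_pow 3 this).trans hd) (by norm_num)
  have h1 := hsmall P1 (Q.2.map _)
  have h2 := hsmall P2 (Q.2.map _)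
  have hQle : (Q : Subgroup (A4 × A4)) ≤ P1.prod P2 := fun q hq =>
    ⟨⟨q, hq, rfl⟩, ⟨q, hq, rfl⟩⟩
  have hprod : Nat.card (P1.prod P2) = Nat.card P1 * Nat.card P2 := by
    rw [Nat.card_congr (Subgroup.prodEquiv P1 P2).toEquiv, Nat.card_prod]
  have hle := Subgroup.card_le_of_le hQle
  rw [hprod, hQc] at hle
  have hc1 : Nat.card P1 = 3 := by nlinarith
  have hc2 : Nat.card P2 = 3 := by nlinarith
  have hQeq : (Q : Subgroup (A4 × A4)) = P1.prod P2 :=
    Subgroup.eq_of_le_of_card_ge hQle (by rw [hprod, hQc, hc1, hc2])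
  have hgen : ∀ (P : Subgroup A4), Nat.card P = 3 → ∀ x y : A4, x ^ 2 = 1 → y ^ 2 = 1 → x ≠ 1 → y ≠ 1 →
      x ≠ y → ∃ q ∈ P, orderOf q = 3 ∧ q * x * q⁻¹ = y ∧ q * y * q⁻¹ = x * y := by
    intro P hP x y hx hy hx1 hy1 hxy
    obtain ⟨⟨q, hq⟩, hq1⟩ := exists_prime_orderOf_dvd_card' (G := P) 3 (hP ▸ dvd_rfl)
    rw [Subgroup.orderOf_mk] at hq1
    have hq3 : q ^ 3 = 1 := hq1 ▸ pow_orderOf_eq_one q
    have hqne : q ≠ 1 := fun h => by rw [h, orderOf_one] at hq1; omega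
    rcases cycle x y q hx hy hx1 hy1 hxy hq3 hqne with h | h
    · exact ⟨q, hq, hq1, h⟩
    · exact ⟨q⁻¹, P.inv_mem hq, by rw [orderOf_inv, hq1], by simpa using h.1, by simpa using h.2⟩
  obtain ⟨q1, hq1, ho1, e1, e1'⟩ := hgen P1 hc1 a.1 b.1 (congrArg Prod.fst (hX2 a ha))
    (congrArg Prod.fst (hX2 b hb)) ha1' hb1' hne
  obtain ⟨q2, hq2, ho2, e2, e2'⟩ := hgen P2 hc2 a.2 b.2 (congrArg Prod.snd (hX2 a ha))
    (congrArg Prod.snd (hX2 b hb)) ha2' hb2' hne2
  have ho : orderOf (q1, q2) = 3 := by rw [Prod.orderOf_mk, ho1, ho2]; rfl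
  have hRQ : Subgroup.zpowers (q1, q2) ≤ (Q : Subgroup (A4 × A4)) := by
    rw [Subgroup.zpowers_le, hQeq]; exact ⟨hq1, hq2⟩
  refine ⟨Subgroup.zpowers (q1, q2), hRQ, by rw [Nat.card_zpowers, ho], ?_, ?_, ?_⟩
  · intro h
    have hm := h.le (Subgroup.mem_zpowers (q1, q2))
    have hq : q2 = 1 := by simpa using hm.2.2
    rw [hq, orderOf_one] at ho2; omega
  · intro h
    have hm := h.le (Subgroup.mem_zpowers (q1, q2))
    have hq : q1 = 1 := by simpa using hm.2.1
    rw [hq, orderOf_one] at ho1; omega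
  · rw [Subgroup.zpowers_le]
    have hmap : ∀ y ∈ (B : Set (A4 × A4)), (q1, q2) * y * (q1, q2)⁻¹ ∈ (B : Set (A4 × A4)) := by
      have ea : (q1, q2) * a * (q1, q2)⁻¹ = b := Prod.ext e1 e2
      have eb : (q1, q2) * b * (q1, q2)⁻¹ = a * b := Prod.ext e1' e2'
      have eab : (q1, q2) * (a * b) * (q1, q2)⁻¹ = b * (a * b) := by
        calc (q1, q2) * (a * b) * (q1, q2)⁻¹
            = ((q1, q2) * a * (q1, q2)⁻¹) * ((q1, q2) * b * (q1, q2)⁻¹) := by group
          _ = b * (a * b) := by rw [ea, eb]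
      intro y hy
      rw [hBset] at hy
      rcases hy with rfl | rfl | rfl | rfl
      · rw [mul_one, mul_inv_cancel]; exact B.one_mem
      · rw [ea]; exact hb
      · rw [eb]; exact B.mul_mem ha hb
      · rw [eab]; exact B.mul_mem hb (B.mul_mem ha hb)
    rw [Subgroup.mem_normalizer_iff]
    intro y
    refine ⟨hmap y, fun hy => ?_⟩
    have h1 := hmap _ (hmap _ hy)
    have h3 : ((q1, q2) : A4 × A4) ^ 3 = 1 := ho ▸ pow_orderOf_eq_one _
    have : (q1, q2) * ((q1, q2) * ((q1, q2) * y * (q1, q2)⁻¹) * (q1, q2)⁻¹) * (q1, q2)⁻¹ = y :=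
      conj_three _ y h3
    exact this ▸ h1

end Cfsg.Agent.S4406
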