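import Cfsg.Statements.S4407
-- import your own Cfsg.Agent.* helpers here

set_option autoImplicit false
open Cfsg

namespace Cfsg.Agent.S4407

open Subgroup

/-- The two four-subgroups of the dihedral group of order 8. -/
theorem d8_pairs : ∀ k : ZMod 4, ∀ x y : DihedralGroup 4, x * x = 1 → y * y = 1 → x * y * (x * y) = 1 →
    ((x = 1 ∨ x = DihedralGroup.r 2 ∨ x = DihedralGroup.sr k ∨ x = DihedralGroup.sr k * DihedralGroup.r 2) ∧
      (y = 1 ∨ y = DihedralGroup.r 2 ∨ y = DihedralGroup.sr k ∨ y = DihedralGroup.sr k * DihedralGroup.r 2)) ∨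
    ((x = 1 ∨ x = DihedralGroup.r 2 ∨ x = DihedralGroup.r 1 * DihedralGroup.sr k ∨
        x = DihedralGroup.r 1 * DihedralGroup.sr k * DihedralGroup.r 2) ∧
      (y = 1 ∨ y = DihedralGroup.r 2 ∨ y = DihedralGroup.r 1 * DihedralGroup.sr k ∨
        y = DihedralGroup.r 1 * DihedralGroup.sr k * DihedralGroup.r 2)) := by
  decide

/-- Coordinates. -/
abbrev C4 := (ZMod 2 × ZMod 2) × ZMod 2 × ZMod 2

/-- The central involution in coordinates. -/
def zc (v : C4) : C4 := ((v.1.1 + v.1.2, v.1.2), v.2.1 + v.2.2, v.2.2)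

/-- The reflection fixing the first pair in coordinates. -/
def sc (v : C4) : C4 := (v.1, v.2.1 + v.2.2, v.2.2)

/-- The other reflection in coordinates. -/
def tc (v : C4) : C4 := (v.2, v.1)

theorem count_bad : ¬ ((Finset.univ.filter fun v : C4 => zc v = v ∧ sc v = v).card = 2) := by decide

theorem count_good : (Finset.univ.filter fun v : C4 => zc v = v ∧ tc v = v).card = 2 := by decide

theorem zmod2_two : ∀ a : ZMod 2, a = 0 ∨ a = 1 := by decide

/-- The module, given the axes. -/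
theorem core {S : Type*} [Group S] [Finite S] {X : Subgroup S}
    {M : Type*} [AddCommGroup M] [Module (ZMod 2) M] [Finite M] (ρ : Representation (ZMod 2) S M)
    (hirr : ∀ N : Submodule (ZMod 2) M, (∀ s : S, ∀ m ∈ N, ρ s m ∈ N) → N = ⊥ ∨ N = ⊤)
    (a b r s : S) (hab : a * b = b * a) (ha : a * a * a = 1) (hb : b * b * b = 1)
    (hsa : s * a = a * s) (hsb : s * b = b⁻¹ * s) (hra : r * a = b * r) (hrb : r * b = a⁻¹ * r)
    (hr4 : r * r * (r * r) = 1) (hs2 : s * s = 1) (hsr : s * r = r⁻¹ * s) (hr : r ∈ X) (hs : s ∈ X)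
    (hgen : closure ({a, b, r, s} : Set S) = ⊤)
    (hfix : ∀ m, ρ a m = m → ρ b m = m → m = 0)
    (hU : ∃ m, m ≠ 0 ∧ ρ b m = m)
    (hcard : Nat.card ({1, r * r, r * s, r * s * (r * r)} : Set S) = 4)
    (hpairs : ∀ x ∈ X, ∀ y ∈ X, x * x = 1 → y * y = 1 → x * y * (x * y) = 1 →
      (x ∈ ({1, r * r, s, s * (r * r)} : Set S) ∧ y ∈ ({1, r * r, s, s * (r * r)} : Set S)) ∨
      (x ∈ ({1, r * r, r * s, r * s * (r * r)} : Set S) ∧ y ∈ ({1, r * r, r * s, r * s * (r * r)} : Set S))) :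
    Nat.card M = 16 ∧
      ∃! B : Subgroup S, B ≤ X ∧ Nat.card ↥B = 4 ∧ (∀ b ∈ B, b ^ 2 = 1) ∧
        Nat.card {m : M // ∀ b ∈ B, ρ b m = m} = 2 := by
  classical
  have hm : ∀ (g h : S) (m : M), ρ (g * h) m = ρ g (ρ h m) := fun g h m => by rw [map_mul]; rfl
  have h1 : ∀ m : M, ρ 1 m = m := fun m => by rw [map_one]; rfl
  have h2 : ∀ m : M, m + m = 0 := fun m => by
    rw [← two_smul (ZMod 2) m, show (2 : ZMod 2) = 0 by decide, zero_smul]
  set z := r * r with hzdef
  have hzs : z * s = s * z := by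
    have e : r⁻¹ * r⁻¹ = r * r := by
      rw [← mul_inv_rev]; exact inv_eq_of_mul_eq_one_right hr4
    calc z * s = r⁻¹ * (r⁻¹ * s) := by rw [hzdef, ← e]; group
      _ = r⁻¹ * (s * r) := by rw [hsr]
      _ = r⁻¹ * s * r := by group
      _ = s * r * r := by rw [hsr]
      _ = s * z := by rw [hzdef]; group
  have hza : z * a = a⁻¹ * z := by
    calc z * a = r * (r * a) := by rw [hzdef]; group
      _ = r * b * r := by rw [hra]; group
      _ = a⁻¹ * z := by rw [hrb, hzdef]; group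
  have hzb : z * b = b⁻¹ * z := by
    have e : r * a⁻¹ = b⁻¹ * r := by
      rw [eq_inv_mul_iff_mul_eq, ← mul_assoc, mul_inv_eq_iff_eq_mul]
      exact hra.symm
    calc z * b = r * (r * b) := by rw [hzdef]; group
      _ = r * a⁻¹ * r := by rw [hrb]; group
      _ = b⁻¹ * z := by rw [e, hzdef]; group
  have hinv : ∀ (g : S) (m : M), ρ g m = m → ρ g⁻¹ m = m := fun g m hgm => by
    conv_lhs => rw [← hgm]
    rw [← hm, inv_mul_cancel, h1]
  -- a vector fixed by `b`, `s`, `z`
  obtain ⟨m0, hm0, hbm0⟩ := hU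
  have hUs : ∀ g : S, g * b = b⁻¹ * g → ∀ m, ρ b m = m → ρ b (ρ g m) = ρ g m := by
    intro g hg m hbm
    have e : b * g = g * b⁻¹ := by
      rw [eq_mul_inv_iff_mul_eq, mul_assoc, hg, mul_inv_cancel_left]
    rw [← hm, e, hm, hinv b m hbm]
  obtain ⟨m1, hm1, hbm1, hsm1⟩ : ∃ m, m ≠ 0 ∧ ρ b m = m ∧ ρ s m = m := by
    by_cases h : ρ s m0 = m0
    · exact ⟨m0, hm0, hbm0, h⟩
    · refine ⟨m0 + ρ s m0, fun e => h ?_, by rw [map_add, hbm0, hUs s hsb m0 hbm0], ?_⟩
      · rw [← add_zero (ρ s m0), ← h2 m0, add_comm m0 m0, ← add_assoc, add_comm (ρ s m0), e, zero_add]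
      · rw [map_add, ← hm, hs2, h1, add_comm]
  obtain ⟨u, hu, hbu, hsu, hzu⟩ : ∃ m, m ≠ 0 ∧ ρ b m = m ∧ ρ s m = m ∧ ρ z m = m := by
    by_cases h : ρ z m1 = m1
    · exact ⟨m1, hm1, hbm1, hsm1, h⟩
    · refine ⟨m1 + ρ z m1, fun e => h ?_, by rw [map_add, hbm1, hUs z hzb m1 hbm1], ?_, ?_⟩
      · rw [← add_zero (ρ z m1), ← h2 m1, add_comm m1 m1, ← add_assoc, add_comm (ρ z m1), e, zero_add]
      · rw [map_add, hsm1, ← hm, ← hzs, hm, hsm1]
      · rw [map_add, ← hm, hzdef, hr4, h1, add_comm]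
  set w := ρ a u with hwdef
  have hbw : ρ b w = w := by rw [hwdef, ← hm, ← hab, hm, hbu]
  have hsw : ρ s w = w := by rw [hwdef, ← hm, hsa, hm, hsu]
  have hsum : ρ a w = u + w := by
    have e : ρ a (u + w + ρ a w) = u + w + ρ a w := by
      rw [map_add, map_add, ← hwdef]
      have : ρ a (ρ a w) = u := by rw [hwdef, ← hm, ← hm, ha, h1]
      rw [this]; abel
    have eb : ρ b (u + w + ρ a w) = u + w + ρ a w := by
      rw [map_add, map_add, hbu, hbw, ← hm b a w, ← hab, hm a b w, hbw]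
    have h0 := hfix _ e eb
    rwa [add_eq_zero_iff_eq_neg, neg_eq_of_add_eq_zero_left (h2 _), eq_comm] at h0
  have hzw : ρ z w = u + w := by
    rw [hwdef, ← hm, hza, hm, hzu]
    have e : a⁻¹ = a * a := inv_eq_of_mul_eq_one_left ha
    rw [e, hm, ← hwdef, hsum]
  -- the coordinates
  let L : C4 → M := fun v => v.1.1 • u + v.1.2 • w + (v.2.1 • ρ r u + v.2.2 • ρ r w)
  have Ladd : ∀ v v', L (v + v') = L v + L v' := fun v v' => by
    simp only [L, Prod.fst_add, Prod.snd_add, add_smul]; abel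
  have hru : ρ a (ρ r u) = ρ r u ∧ ρ a (ρ r w) = ρ r w := by
    have e : a * r = r * b⁻¹ := by
      rw [eq_mul_inv_iff_mul_eq, mul_assoc, hrb, mul_inv_cancel_left]
    constructor <;> rw [← hm, e, hm, hinv b _ (by assumption)]
  have hbr : ρ b (ρ r u) = ρ r w ∧ ρ b (ρ r w) = ρ r u + ρ r w := by
    constructor <;> rw [← hm, ← hra, hm]
    rw [hsum, map_add]
  have hsr' : ρ s (ρ r u) = ρ r u ∧ ρ s (ρ r w) = ρ r u + ρ r w := by
    have e : s * r = r * (z * s) := by
      rw [hsr, hzdef, inv_mul_eq_iff_eq_mul]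
      calc s = (r * r * (r * r)) * s := by rw [hr4, one_mul]
        _ = r * (r * (r * r * s)) := by group
    constructor <;> rw [← hm, e, hm, hm]
    · rw [hsu, hzu]
    · rw [hsw, hzw, map_add]
  have hrr : ρ r (ρ r u) = u ∧ ρ r (ρ r w) = u + w := ⟨by rw [← hm]; exact hzu, by rw [← hm]; exact hzw⟩
  have hzr : ρ z (ρ r u) = ρ r u ∧ ρ z (ρ r w) = ρ r u + ρ r w := by
    have e : z * r = r * z := by rw [hzdef, mul_assoc]
    constructor <;> rw [← hm, e, hm]
    · rw [hzu]
    · rw [hzw, map_add]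
  have hLa : ∀ v, ρ a (L v) = L ((v.1.2, v.1.1 + v.1.2), v.2) := fun v => by
    simp only [L, map_add, map_smul, hsum, ← hwdef, hru, smul_add, add_smul]; abel
  have hLb : ∀ v, ρ b (L v) = L (v.1, v.2.2, v.2.1 + v.2.2) := fun v => by
    simp only [L, map_add, map_smul, hbu, hbw, hbr, smul_add, add_smul]; abel
  have hLz : ∀ v, ρ z (L v) = L (zc v) := fun v => by
    simp only [L, zc, map_add, map_smul, hzu, hzw, hzr, smul_add, add_smul]; abel
  have hLs : ∀ v, ρ s (L v) = L (sc v) := fun v => by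
    simp only [L, sc, map_add, map_smul, hsu, hsw, hsr', smul_add, add_smul]; abel
  have hLr : ∀ v, ρ r (L v) = L ((v.2.1 + v.2.2, v.2.2), v.1) := fun v => by
    simp only [L, map_add, map_smul, hrr, smul_add, add_smul]; abel
  have hLt : ∀ v, ρ (r * s) (L v) = L (tc v) := fun v => by
    rw [hm, hLs, hLr]
    simp only [sc, tc]
    congr 3
    rw [add_assoc, show v.2.2 + v.2.2 = 0 from (by decide : ∀ x : ZMod 2, x + x = 0) _, add_zero]
  let N : Submodule (ZMod 2) M :=
    { carrier := Set.range L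
      add_mem' := by rintro _ _ ⟨v, rfl⟩ ⟨v', rfl⟩; exact ⟨v + v', Ladd v v'⟩
      zero_mem' := ⟨0, by simp [L]⟩
      smul_mem' := by
        rintro c _ ⟨v, rfl⟩
        rcases zmod2_two c with rfl | rfl
        · exact ⟨0, by simp [L]⟩
        · exact ⟨v, by simp⟩ }
  have hNinv : ∀ g : S, ∀ m ∈ N, ρ g m ∈ N := by
    have hg : ∀ g ∈ closure ({a, b, r, s} : Set S), ∀ m ∈ N, ρ g m ∈ N := by
      intro g hg
      induction hg using closure_induction_left with
      | one => intro m hm'; rw [h1]; exact hm'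
      | mul_left x hx y _ ih =>
        intro m hm'
        obtain ⟨v, hv⟩ := ih m hm'
        rw [hm, ← hv]
        simp only [Set.mem_insert_iff, Set.mem_singleton_iff] at hx
        rcases hx with rfl | rfl | rfl | rfl
        exacts [⟨_, (hLa v).symm⟩, ⟨_, (hLb v).symm⟩, ⟨_, (hLr v).symm⟩, ⟨_, (hLs v).symm⟩]
      | inv_mul_cancel x hx y _ ih =>
        intro m hm'
        obtain ⟨v, hv⟩ := ih m hm'
        have hfin : ∀ n : ℕ, ρ (x ^ n) (L v) ∈ N := by
          intro n
          induction n with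
          | zero => rw [pow_zero, h1]; exact ⟨v, rfl⟩
          | succ n ih =>
            obtain ⟨v', hv'⟩ := ih
            rw [pow_succ', hm, ← hv']
            simp only [Set.mem_insert_iff, Set.mem_singleton_iff] at hx
            rcases hx with rfl | rfl | rfl | rfl
            exacts [⟨_, (hLa v').symm⟩, ⟨_, (hLb v').symm⟩, ⟨_, (hLr v').symm⟩, ⟨_, (hLs v').symm⟩]
        rw [hm, ← hv, show x⁻¹ = x ^ (orderOf x - 1) from inv_eq_of_mul_eq_one_right (by
          rw [← pow_succ', Nat.sub_add_cancel (orderOf_pos x), pow_orderOf_eq_one])]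
        exact hfin _
    exact fun g => hg g (hgen ▸ mem_top g)
  have hNtop : N = ⊤ := (hirr N hNinv).resolve_left fun e => hu (by
    have : u ∈ N := ⟨((1, 0), 0, 0), by simp [L]⟩
    rwa [e, Submodule.mem_bot] at this)
  have hinj : Function.Injective L := by
    have hind : ∀ i j : ZMod 2, i • u + j • w = 0 → i = 0 ∧ j = 0 := by
      intro i j e
      have hw0 : w ≠ 0 := fun e' => hu (by
        rw [← h1 u, ← inv_mul_cancel a, hm, ← hwdef, e', map_zero])
      rcases zmod2_two i with rfl | rfl <;> rcases zmod2_two j with rfl | rfl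
      · exact ⟨rfl, rfl⟩
      · simp at e; exact absurd e hw0
      · simp at e; exact absurd e hu
      · exfalso
        simp only [one_smul] at e
        rw [add_eq_zero_iff_eq_neg, neg_eq_of_add_eq_zero_left (h2 _)] at e
        exact hu (hfix u (by rw [← hwdef]; exact e.symm) hbu)
    intro v v' e
    have e0 : L (v + v') = 0 := by rw [Ladd, e, h2]
    have hP : ∀ x y : C4, x + y = 0 → x = y := by decide
    apply hP
    generalize v + v' = d at e0
    obtain ⟨⟨i, j⟩, k, l⟩ := d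
    have e1 : i • u + j • w = k • ρ r u + l • ρ r w := by
      simp only [L] at e0
      rwa [add_eq_zero_iff_eq_neg, neg_eq_of_add_eq_zero_left (h2 _)] at e0
    have ha' : ρ a (i • u + j • w) = i • u + j • w := by
      rw [e1, map_add, map_smul, map_smul, hru.1, hru.2]
    have hb' : ρ b (i • u + j • w) = i • u + j • w := by rw [map_add, map_smul, map_smul, hbu, hbw]
    have h0 := hfix _ ha' hb'
    obtain ⟨rfl, rfl⟩ := hind i j h0
    rw [h0] at e1
    have e2 : k • u + l • w = 0 := by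
      have := congrArg (ρ r⁻¹) e1.symm
      simpa [map_add, map_smul, ← hm, h1] using this
    obtain ⟨rfl, rfl⟩ := hind k l e2
    rfl
  have hbij : Function.Bijective L := ⟨hinj, fun m => (hNtop ▸ Submodule.mem_top : m ∈ N)⟩
  refine ⟨by rw [← Nat.card_eq_of_bijective L hbij]; simp [Nat.card_eq_fintype_card], ?_⟩
  let e := Equiv.ofBijective L hbij
  have hcount : ∀ (g : S) (gc : C4 → C4), (∀ v, ρ g (L v) = L (gc v)) →
      Nat.card {m : M // ρ z m = m ∧ ρ g m = m} =
        (Finset.univ.filter fun v : C4 => zc v = v ∧ gc v = v).card := by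
    intro g gc hg
    rw [← Fintype.card_subtype, ← Nat.card_eq_fintype_card]
    refine (Nat.card_congr (e.subtypeEquiv fun v => ?_)).symm
    show zc v = v ∧ gc v = v ↔ ρ z (L v) = L v ∧ ρ g (L v) = L v
    rw [hLz, hg, hinj.eq_iff, hinj.eq_iff]
  have hfour : ∀ g : S, g ∈ X → g * g = 1 → g * z = z * g →
      ∃ K : Subgroup S, K ≤ X ∧ (K : Set S) = {1, z, g, g * z} := by
    intro g hgX hg2 hgz
    have hzz : z * z = 1 := hr4
    refine ⟨{ carrier := {1, z, g, g * z}, one_mem' := by simp, mul_mem' := ?_, inv_mem' := ?_ }, ?_, rfl⟩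
    · have e1 : z * (g * z) = g := by rw [← mul_assoc, ← hgz, mul_assoc, hzz, mul_one]
      have e2 : g * (g * z) = z := by rw [← mul_assoc, hg2, one_mul]
      have e3 : g * z * z = g := by rw [mul_assoc, hzz, mul_one]
      have e4 : g * z * g = z := by rw [hgz, mul_assoc, hg2, mul_one]
      have e5 : g * z * (g * z) = 1 := by rw [← mul_assoc, e4, hzz]
      intro x y hx hy
      simp only [Set.mem_insert_iff, Set.mem_singleton_iff] at hx hy ⊢
      rcases hx with rfl | rfl | rfl | rfl <;> rcases hy with rfl | rfl | rfl | rfl <;>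
        simp [hzz, hg2, ← hgz, e1, e2, e3, e4, e5]
    · intro x hx
      have hx2 : x * x = 1 := by
        simp only [Set.mem_insert_iff, Set.mem_singleton_iff] at hx
        rcases hx with rfl | rfl | rfl | rfl
        exacts [one_mul 1, hzz, hg2, by rw [mul_assoc, ← mul_assoc z, ← hgz, mul_assoc g, hzz, mul_one, hg2]]
      show x⁻¹ ∈ _
      rw [inv_eq_of_mul_eq_one_right hx2]
      exact hx
    · intro x hx
      have hzX : z ∈ X := mul_mem hr hr
      rcases hx with rfl | rfl | rfl | rfl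
      exacts [one_mem X, hzX, hgX, mul_mem hgX hzX]
  have hts : r * s * (r * s) = 1 := by rw [← mul_assoc, mul_assoc r s r, hsr, mul_inv_cancel_left, hs2]
  have htz : r * s * z = z * (r * s) := by rw [mul_assoc, ← hzs, hzdef]; group
  obtain ⟨K, hKX, hK⟩ := hfour (r * s) (mul_mem hr hs) hts htz
  have hKexp : ∀ x ∈ K, x ^ 2 = 1 := by
    intro x hx
    have : x ∈ ({1, z, r * s, r * s * z} : Set S) := hK ▸ hx
    rw [pow_two]
    simp only [Set.mem_insert_iff, Set.mem_singleton_iff] at this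
    rcases this with rfl | rfl | rfl | rfl
    exacts [one_mul 1, hr4, hts, by rw [mul_assoc, ← mul_assoc z, ← htz, mul_assoc _ z z, hr4, mul_one, hts]]
  have hfixset : ∀ (B : Subgroup S) (g : S), (B : Set S) = {1, z, g, g * z} → ∀ m,
      ((∀ x ∈ B, ρ x m = m) ↔ ρ z m = m ∧ ρ g m = m) := by
    intro B g hB m
    have hmem : ∀ x, x ∈ B ↔ x ∈ ({1, z, g, g * z} : Set S) := fun x => by rw [← hB]; rfl
    refine ⟨fun h => ⟨h z ((hmem z).2 (by simp)), h g ((hmem g).2 (by simp))⟩, fun ⟨h3, h4⟩ x hx => ?_⟩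
    rcases (hmem x).1 hx with rfl | rfl | rfl | rfl
    exacts [h1 m, h3, h4, by rw [hm, h3, h4]]
  refine ⟨K, ⟨hKX, ?_, hKexp, ?_⟩, ?_⟩
  · rw [← hcard, ← hK]; rfl
  · rw [Nat.card_congr (Equiv.subtypeEquivRight (hfixset K _ hK)), hcount _ tc hLt]
    exact count_good
  rintro B ⟨hBX, hB4, hBexp, hBfix⟩
  have hBsq : ∀ x ∈ B, x * x = 1 := fun x hx => by rw [← pow_two]; exact hBexp x hx
  have hdich : (B : Set S) ⊆ {1, z, s, s * z} ∨ (B : Set S) ⊆ {1, z, r * s, r * s * z} := by
    by_contra hcon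
    simp only [not_or, Set.not_subset] at hcon
    obtain ⟨⟨x, hx, hx'⟩, y, hy, hy'⟩ := hcon
    rcases hpairs x (hBX hx) y (hBX hy) (hBsq x hx) (hBsq y hy) (hBsq _ (mul_mem hx hy)) with ⟨h, -⟩ | ⟨-, h⟩
    exacts [hx' h, hy' h]
  have hle4 : ∀ g : S, Nat.card ({1, z, g, g * z} : Set S) ≤ 4 := fun g => by
    rw [Nat.card_coe_set_eq]
    refine (Set.ncard_insert_le _ _).trans ?_
    refine Nat.succ_le_succ ((Set.ncard_insert_le _ _).trans ?_)
    exact Nat.succ_le_succ ((Set.ncard_insert_le _ _).trans (by simp))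
  have heq : ∀ g : S, (B : Set S) ⊆ {1, z, g, g * z} → (B : Set S) = {1, z, g, g * z} := fun g hg =>
    Set.eq_of_subset_of_ncard_le hg (by
      rw [← Nat.card_coe_set_eq, ← Nat.card_coe_set_eq]
      exact (hle4 g).trans (show 4 ≤ Nat.card B by rw [hB4])) (Set.toFinite _)
  rcases hdich with h | h
  · exfalso
    rw [Nat.card_congr (Equiv.subtypeEquivRight (hfixset B _ (heq s h))), hcount _ sc hLs] at hBfix
    exact count_bad hBfix
  · exact SetLike.coe_injective ((heq _ h).trans hK.symm)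


/-- Let S be a finite group with a normal elementary abelian subgroup A of order 9 that is self-centralizing (C_S(A) = A), and a dihedral subgroup X of order 8 with S = AX. Let M be a finite-dimensional module for S over the field with two elements that is faithful and irreducible. Then M has 16 elements, and X contains exactly one subgroup B of order 4 and exponent 2 whose fixed points on M form a subspace with exactly 2 elements (equivalently, M is free of rank one over the group algebra of B). -/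
theorem result {S : Type*} [Group S] [Finite S]
    (A : Subgroup S) [A.Normal] (hA : Cfsg.IsElementaryAbelian 3 A) (hA9 : Nat.card ↥A = 9)
    (hAC : Subgroup.centralizer (A : Set S) = A) (X : Subgroup S) (hX : Nonempty (↥X ≃* DihedralGroup 4)) (hAX : A ⊔ X = ⊤)
    {M : Type*} [AddCommGroup M] [Module (ZMod 2) M] [Finite M] (ρ : Representation (ZMod 2) S M)
    (hfaith : Function.Injective ρ)
    (hirr : ∀ N : Submodule (ZMod 2) M, (∀ s : S, ∀ m ∈ N, ρ s m ∈ N) → N = ⊥ ∨ N = ⊤) (hM : Nontrivial M) :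
    Nat.card M = 16 ∧
      ∃! B : Subgroup S, B ≤ X ∧ Nat.card ↥B = 4 ∧ (∀ b ∈ B, b ^ 2 = 1) ∧
        Nat.card {m : M // ∀ b ∈ B, ρ b m = m} = 2 := by
  classical
  obtain ⟨e⟩ := hX
  set r : S := (e.symm (DihedralGroup.r 1) : S) with hrdef
  set s : S := (e.symm (DihedralGroup.sr 0) : S) with hsdef
  have hrX : r ∈ X := (e.symm _).2
  have hsX : s ∈ X := (e.symm _).2
  have hco : ∀ x y : DihedralGroup 4, (e.symm x : S) * e.symm y = e.symm (x * y) := fun x y => by
    rw [map_mul]; rfl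
  have hone : ((e.symm 1 : X) : S) = 1 := by rw [map_one]; rfl
  have hinvc : ∀ x : DihedralGroup 4, (e.symm x : S)⁻¹ = e.symm x⁻¹ := fun x => by rw [map_inv]; rfl
  have hr4 : r * r * (r * r) = 1 := by
    rw [hrdef, hco, hco, ← hone]
    exact congrArg (fun d => ((e.symm d : X) : S)) (by decide)
  have hs2 : s * s = 1 := by
    rw [hsdef, hco, ← hone]
    exact congrArg (fun d => ((e.symm d : X) : S)) (by decide)
  have hsr : s * r = r⁻¹ * s := by
    rw [hrdef, hsdef, hinvc, hco, hco]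
    exact congrArg (fun d => ((e.symm d : X) : S)) (by decide)
  have hinjX : ∀ x y : DihedralGroup 4, (e.symm x : S) = e.symm y → x = y := fun x y h =>
    e.symm.injective (Subtype.ext h)
  -- conjugation on `A`
  have hAexp : ∀ x ∈ A, x * x * x = 1 := fun x hx => by
    rw [← hA.2 x hx, pow_succ, pow_two]
  have hAcomm : ∀ x ∈ A, ∀ y ∈ A, x * y = y * x := fun x hx y hy =>
    congrArg Subtype.val (hA.1.is_comm.comm (⟨x, hx⟩ : A) ⟨y, hy⟩)
  have hfaithX : ∀ x ∈ X, (∀ v ∈ A, x * v = v * x) → x = 1 := by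
    intro x hx hcom
    have hxA : x ∈ A := hAC ▸ Subgroup.mem_centralizer_iff.2 (fun v hv => (hcom v hv).symm)
    have h3 : orderOf x ∣ 3 := orderOf_dvd_of_pow_eq_one (hA.2 x hxA)
    have h8 : orderOf (⟨x, hx⟩ : X) ∣ 8 := by
      have := orderOf_dvd_natCard (⟨x, hx⟩ : X)
      rwa [Nat.card_congr e.toEquiv, DihedralGroup.nat_card] at this
    rw [Subgroup.orderOf_mk] at h8
    exact orderOf_eq_one_iff.1 (Nat.eq_one_of_dvd_coprimes (by norm_num : Nat.Coprime 3 8) h3 h8)
  let cA : S → A → A := fun x v => ⟨x * v * x⁻¹, ‹A.Normal›.conj_mem _ v.2 x⟩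
  have hz2 : r * r ≠ 1 := by
    rw [hrdef, hco, ← hone]
    exact fun h => absurd (hinjX _ _ h) (by decide)
  -- the eigenvectors
  have hsplit : ∀ g : S, g * g = 1 → ∀ v ∈ A, ∃ p ∈ A, ∃ m ∈ A, g * p * g⁻¹ = p ∧ g * m * g⁻¹ = m⁻¹ ∧ v = p * m := by
    intro g hg v hv
    set w := g * v * g⁻¹ with hwdef
    have hw : w ∈ A := ‹A.Normal›.conj_mem _ hv g
    have hgw : g * w * g⁻¹ = v := by
      rw [hwdef, show g * (g * v * g⁻¹) * g⁻¹ = (g * g) * v * (g * g)⁻¹ by group, hg]
      group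
    have hvw := hAcomm v hv w hw
    have hcw : ∀ n : ℕ, g * (v * w) ^ n * g⁻¹ = (v * w) ^ n := fun n => by
      rw [← conj_pow, show g * (v * w) * g⁻¹ = (g * v * g⁻¹) * (g * w * g⁻¹) by group, ← hwdef, hgw, hvw]
    refine ⟨(v * w) ^ 2, pow_mem (mul_mem hv hw) _, (v * w⁻¹) ^ 2, pow_mem (mul_mem hv (inv_mem hw)) _,
      hcw 2, ?_, ?_⟩
    · rw [← conj_pow, show g * (v * w⁻¹) * g⁻¹ = (g * v * g⁻¹) * (g * w * g⁻¹)⁻¹ by group, ← hwdef, hgw,
        ← inv_pow, mul_inv_rev, inv_inv]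
    · have c1 : Commute v w := hvw
      rw [c1.mul_pow, (c1.inv_right).mul_pow, inv_pow,
        show v ^ 2 * w ^ 2 * (v ^ 2 * (w ^ 2)⁻¹) = v ^ 2 * (w ^ 2 * v ^ 2) * (w ^ 2)⁻¹ by group,
        ((c1.pow_pow 2 2).symm).eq, show v ^ 2 * (v ^ 2 * w ^ 2) * (w ^ 2)⁻¹ = (v * v * v) * v by
          rw [pow_two v]; group, hAexp v hv, one_mul]
  have hzinv : ∀ v ∈ A, r * r * v * (r * r)⁻¹ = v⁻¹ := by
    set z := r * r with hzdef
    intro v hv
    obtain ⟨p, hp, m, hm, hzp, hzm, rfl⟩ := hsplit z hr4 v hv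
    suffices hp1 : p = 1 by rw [hp1, one_mul]; exact hzm
    by_contra hp1
    -- `z` fixes `p`
    have hzX : z ∈ X := mul_mem hrX hrX
    obtain ⟨v0, hv0, hv01⟩ : ∃ v0 ∈ A, z * v0 * z⁻¹ ≠ v0 := by
      by_contra! hall
      exact hz2 (hfaithX z hzX fun v hv => mul_inv_eq_iff_eq_mul.1 (hall v hv))
    obtain ⟨p0, hp0, m0, hm0, hzp0, hzm0, hv0eq⟩ := hsplit z hr4 v0 hv0
    have hm01 : m0 ≠ 1 := fun h => hv01 (by rw [hv0eq, h, mul_one]; exact hzp0)
    have hminv : m0⁻¹ ≠ m0 := fun h => hm01 (by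
      have h' : m0 * m0 = 1 := by rw [← inv_eq_iff_mul_eq_one]; exact h
      have h'' := hAexp m0 hm0
      rwa [h', one_mul] at h'')
    -- lines
    have hline : ∀ q ∈ A, q ≠ 1 → ∀ n ∈ A, n ∉ zpowers q → ∀ v ∈ A, ∃ i j : ℤ, v = q ^ i * n ^ j := by
      intro q hq hq1 n hn hnq v hv
      have hle : zpowers q ⊔ zpowers n ≤ A := sup_le (zpowers_le.2 hq) (zpowers_le.2 hn)
      have hqo : Nat.card (zpowers q) = 3 := by
        rw [Nat.card_zpowers]
        exact orderOf_eq_prime (p := 3) (hA.2 q hq) hq1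
      have htop : zpowers q ⊔ zpowers n = A := by
        refine eq_of_le_of_card_ge hle ?_
        have hd := card_dvd_of_le hle
        rw [hA9] at hd ⊢
        have hd3 : 3 ∣ Nat.card ↥(zpowers q ⊔ zpowers n) := hqo ▸ card_dvd_of_le le_sup_left
        have hne : Nat.card ↥(zpowers q ⊔ zpowers n) ≠ 3 := fun h3 => hnq (by
          have h := eq_of_le_of_card_ge (le_sup_left : zpowers q ≤ zpowers q ⊔ zpowers n) (by omega)
          rw [h]; exact mem_sup_right (mem_zpowers n))
        have := Nat.le_of_dvd (by norm_num) hd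
        rcases (Nat.dvd_prime_pow Nat.prime_three).1 (show _ ∣ 3 ^ 2 from hd) with ⟨k, hk, hk'⟩
        interval_cases k <;> omega
      have hv' : v ∈ zpowers q ⊔ zpowers n := htop.symm ▸ hv
      have hnn : zpowers n ≤ normalizer (zpowers q : Set S) := by
        refine zpowers_le.2 (centralizer_le_normalizer _ (mem_centralizer_iff.2 fun y hy => ?_))
        exact hAcomm y (zpowers_le.2 hq hy) n hn
      have : v ∈ ((zpowers q ⊔ zpowers n : Subgroup S) : Set S) := hv'
      rw [coe_mul_of_right_le_normalizer_left _ _ hnn] at this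
      obtain ⟨_, ⟨i, rfl⟩, _, ⟨j, rfl⟩, rfl⟩ := Set.mem_mul.1 this
      exact ⟨i, j, rfl⟩
    have hm0p : m0 ∉ zpowers p := by
      rintro ⟨i, hi⟩
      refine hminv ?_
      rw [← hzm0, ← hi]
      show z * p ^ i * z⁻¹ = p ^ i
      rw [← conj_zpow, hzp]
    have hfixline : ∀ v ∈ A, z * v * z⁻¹ = v → ∃ i : ℤ, v = p ^ i := by
      intro v hv hzv
      obtain ⟨i, j, rfl⟩ := hline p hp hp1 m0 hm0 hm0p v hv
      refine ⟨i, ?_⟩
      rw [show z * (p ^ i * m0 ^ j) * z⁻¹ = (z * p ^ i * z⁻¹) * (z * m0 ^ j * z⁻¹) by group,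
        ← conj_zpow, hzp, ← conj_zpow, hzm0, inv_zpow] at hzv
      have h' := mul_left_cancel hzv
      rw [inv_eq_iff_mul_eq_one] at h'
      have h3 : m0 ^ j * m0 ^ j * m0 ^ j = 1 := hAexp _ (zpow_mem hm0 j)
      rw [h', one_mul] at h3
      rw [h3, mul_one]
    have hinvline : ∀ v ∈ A, z * v * z⁻¹ = v⁻¹ → ∃ j : ℤ, v = m0 ^ j := by
      intro v hv hzv
      obtain ⟨i, j, rfl⟩ := hline p hp hp1 m0 hm0 hm0p v hv
      refine ⟨j, ?_⟩
      rw [show z * (p ^ i * m0 ^ j) * z⁻¹ = (z * p ^ i * z⁻¹) * (z * m0 ^ j * z⁻¹) by group,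
        ← conj_zpow, hzp, ← conj_zpow, hzm0, inv_zpow, mul_inv_rev,
        hAcomm (m0 ^ j)⁻¹ (inv_mem (zpow_mem hm0 j)) (p ^ i)⁻¹ (inv_mem (zpow_mem hp i))] at hzv
      have h' := mul_right_cancel hzv
      have h'' : p ^ i * p ^ i = 1 := inv_eq_iff_mul_eq_one.1 h'.symm
      have h3 : p ^ i * p ^ i * p ^ i = 1 := hAexp _ (zpow_mem hp i)
      rw [h'', one_mul] at h3
      rw [h3, one_mul]
    -- `r` preserves both lines, so its square acts trivially
    have hrz : r * z = z * r := by rw [hzdef, mul_assoc]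
    have hrA : ∀ v ∈ A, r * v * r⁻¹ ∈ A := fun v hv => ‹A.Normal›.conj_mem _ hv r
    have hconjr : ∀ v : S, z * (r * v * r⁻¹) * z⁻¹ = r * (z * v * z⁻¹) * r⁻¹ := fun v => by
      rw [show z * (r * v * r⁻¹) * z⁻¹ = (z * r) * v * (z * r)⁻¹ by group, ← hrz]; group
    obtain ⟨i, hi⟩ := hfixline _ (hrA p hp) (by rw [hconjr, hzp])
    obtain ⟨j, hj⟩ := hinvline _ (hrA m0 hm0) (by rw [hconjr, hzm0]; group)
    have hsq : ∀ (q : S) (i : ℤ), q ∈ A → q ≠ 1 → r * q * r⁻¹ = q ^ i → z * q * z⁻¹ = q := by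
      intro q i hq hq1 hi
      have e : z * q * z⁻¹ = q ^ (i * i) := by
        rw [hzdef, show r * r * q * (r * r)⁻¹ = r * (r * q * r⁻¹) * r⁻¹ by group, hi, ← conj_zpow, hi,
          ← zpow_mul]
      rw [e]
      have h3 : orderOf q = 3 := orderOf_eq_prime (p := 3) (hA.2 q hq) hq1
      conv_rhs => rw [← zpow_one q]
      rw [zpow_eq_zpow_iff_modEq, h3]
      have hi0 : i % 3 ≠ 0 := by
        intro h0
        have : q ^ i = 1 := by rw [← zpow_mod_orderOf, h3]; simp [h0]
        rw [this] at hi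
        exact hq1 (conj_eq_one_iff.1 hi)
      have : i % 3 = 1 ∨ i % 3 = 2 := by omega
      show i * i % (3 : ℕ) = 1 % (3 : ℕ)
      rcases this with h | h <;> · push_cast; rw [Int.mul_emod, h]; norm_num
    exact hminv (hzm0.symm.trans (hsq m0 j hm0 hm01 hj))
  obtain ⟨a, haA, ha1, hsa⟩ : ∃ a ∈ A, a ≠ 1 ∧ s * a * s⁻¹ = a := by
    by_contra! hno
    have hinvs : ∀ v ∈ A, s * v * s⁻¹ = v⁻¹ := by
      intro v hv
      obtain ⟨p, hp, m, hm, hsp, hsm, rfl⟩ := hsplit s hs2 v hv
      have hp1 : p = 1 := not_not.1 fun h => hno p hp h hsp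
      rw [hp1, one_mul]; exact hsm
    have hzs : s * (r * r) = 1 := hfaithX _ (mul_mem hsX (mul_mem hrX hrX)) fun v hv => by
      apply mul_inv_eq_iff_eq_mul.1
      rw [show s * (r * r) * v * (s * (r * r))⁻¹ = s * (r * r * v * (r * r)⁻¹) * s⁻¹ by group,
        hzinv v hv, show s * v⁻¹ * s⁻¹ = (s * v * s⁻¹)⁻¹ by group, hinvs v hv, inv_inv]
    rw [hsdef, hrdef, hco, hco, ← hone] at hzs
    exact absurd (hinjX _ _ hzs) (by decide)
  set b := r * a * r⁻¹ with hbdef
  have hbA : b ∈ A := ‹A.Normal›.conj_mem _ haA r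
  have hsb : s * b * s⁻¹ = b⁻¹ := by
    rw [hbdef, show s * (r * a * r⁻¹) * s⁻¹ = (s * r) * a * (s * r)⁻¹ by group, hsr,
      show r⁻¹ * s * a * (r⁻¹ * s)⁻¹ = r⁻¹ * (s * a * s⁻¹) * r by group, hsa]
    rw [show r⁻¹ * a * r = r * ((r * r)⁻¹ * a * (r * r)) * r⁻¹ by group,
      show (r * r)⁻¹ = r * r from inv_eq_of_mul_eq_one_right hr4]
    nth_rewrite 2 [show r * r = (r * r)⁻¹ from (inv_eq_of_mul_eq_one_right hr4).symm]
    rw [hzinv a haA]
    group
  have hrb : r * b * r⁻¹ = a⁻¹ := by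
    rw [hbdef, show r * (r * a * r⁻¹) * r⁻¹ = r * r * a * (r * r)⁻¹ by group, hzinv a haA]
  have hba : b ∉ zpowers a := by
    rintro ⟨i, hi⟩
    have h1 : s * b * s⁻¹ = b := by rw [← hi]; show s * a ^ i * s⁻¹ = a ^ i; rw [← conj_zpow, hsa]
    rw [hsb, inv_eq_iff_mul_eq_one] at h1
    have h2 := hAexp b hbA
    rw [h1, one_mul, hbdef, conj_eq_one_iff] at h2
    exact ha1 h2
  -- generation
  have hgen0 : closure ({a, b, r, s} : Set S) = ⊤ := by
    set H := closure ({a, b, r, s} : Set S) with hH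
    have hAH : A ≤ H := by
      have h1 : zpowers a ⊔ zpowers b ≤ H := sup_le
        (zpowers_le.2 (subset_closure (by simp))) (zpowers_le.2 (subset_closure (by simp)))
      refine le_trans (le_of_eq ?_) h1
      have hle : zpowers a ⊔ zpowers b ≤ A := sup_le (zpowers_le.2 haA) (zpowers_le.2 hbA)
      refine (eq_of_le_of_card_ge hle ?_).symm
      have hd := card_dvd_of_le hle
      rw [hA9] at hd ⊢
      have ha3 : Nat.card (zpowers a) = 3 := by
        rw [Nat.card_zpowers]; exact orderOf_eq_prime (p := 3) (hA.2 a haA) ha1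
      have hd3 : 3 ∣ Nat.card ↥(zpowers a ⊔ zpowers b) := ha3 ▸ card_dvd_of_le le_sup_left
      have hne : Nat.card ↥(zpowers a ⊔ zpowers b) ≠ 3 := fun h3 => hba (by
        have h := eq_of_le_of_card_ge (le_sup_left : zpowers a ≤ zpowers a ⊔ zpowers b) (by omega)
        rw [h]; exact mem_sup_right (mem_zpowers b))
      rcases (Nat.dvd_prime_pow Nat.prime_three).1 (show _ ∣ 3 ^ 2 from hd) with ⟨k, hk, hk'⟩
      interval_cases k <;> omega
    have hXH : X ≤ H := by
      intro x hx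
      have hr' : r ∈ H := subset_closure (by simp)
      have hs' : s ∈ H := subset_closure (by simp)
      obtain ⟨d, hd⟩ := e.symm.surjective ⟨x, hx⟩
      have hxd : x = (e.symm d : S) := by rw [hd]
      rw [hxd]
      have key : ∀ d : DihedralGroup 4, ∃ n : Fin 4, d = DihedralGroup.r 1 ^ (n : ℕ) ∨
          d = DihedralGroup.r 1 ^ (n : ℕ) * DihedralGroup.sr 0 := by decide
      obtain ⟨n, rfl | rfl⟩ := key d
      · rw [map_pow, SubgroupClass.coe_pow]; exact pow_mem hr' _
      · rw [map_mul, map_pow, Subgroup.coe_mul, SubgroupClass.coe_pow]; exact mul_mem (pow_mem hr' _) hs'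
    rw [eq_top_iff, ← hAX]
    exact sup_le hAH hXH
  have hm : ∀ (g h : S) (m : M), ρ (g * h) m = ρ g (ρ h m) := fun g h m => by rw [map_mul]; rfl
  have h1 : ∀ m : M, ρ 1 m = m := fun m => by rw [map_one]; rfl
  have hfix : ∀ m, ρ a m = m → ρ b m = m → m = 0 := by
    intro m hma hmb
    by_contra hm0
    let N : Submodule (ZMod 2) M :=
      { carrier := {x | ρ a x = x ∧ ρ b x = x}
        add_mem' := fun {x y} hx hy => ⟨by rw [map_add, hx.1, hy.1], by rw [map_add, hx.2, hy.2]⟩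
        zero_mem' := ⟨map_zero _, map_zero _⟩
        smul_mem' := fun c x hx => ⟨by rw [map_smul, hx.1], by rw [map_smul, hx.2]⟩ }
    have hNA : ∀ x ∈ N, ∀ v ∈ closure ({a, b} : Set S), ρ v x = x := by
      intro x hx v hv
      induction hv using closure_induction with
      | mem v hv =>
        simp only [Set.mem_insert_iff, Set.mem_singleton_iff] at hv
        rcases hv with rfl | rfl
        exacts [hx.1, hx.2]
      | one => exact h1 x
      | mul v w _ _ h2 h3 => rw [hm, h3, h2]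
      | inv v _ h2 => conv_lhs => rw [← h2]
                      rw [← hm, inv_mul_cancel, h1]
    have hNinv : ∀ g : S, ∀ x ∈ N, ρ g x ∈ N := by
      intro g x hx
      have hA' : A ≤ closure ({a, b} : Set S) := by
        intro v hv
        have hle : zpowers a ⊔ zpowers b ≤ closure ({a, b} : Set S) := sup_le
          (zpowers_le.2 (subset_closure (by simp))) (zpowers_le.2 (subset_closure (by simp)))
        apply hle
        have hle2 : zpowers a ⊔ zpowers b ≤ A := sup_le (zpowers_le.2 haA) (zpowers_le.2 hbA)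
        suffices zpowers a ⊔ zpowers b = A by rw [this]; exact hv
        refine eq_of_le_of_card_ge hle2 ?_
        have hd := card_dvd_of_le hle2
        rw [hA9] at hd ⊢
        have ha3 : Nat.card (zpowers a) = 3 := by
          rw [Nat.card_zpowers]; exact orderOf_eq_prime (p := 3) (hA.2 a haA) ha1
        have hd3 : 3 ∣ Nat.card ↥(zpowers a ⊔ zpowers b) := ha3 ▸ card_dvd_of_le le_sup_left
        have hne : Nat.card ↥(zpowers a ⊔ zpowers b) ≠ 3 := fun h3 => hba (by
          have h := eq_of_le_of_card_ge (le_sup_left : zpowers a ≤ zpowers a ⊔ zpowers b) (by omega)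
          rw [h]; exact mem_sup_right (mem_zpowers b))
        rcases (Nat.dvd_prime_pow Nat.prime_three).1 (show _ ∣ 3 ^ 2 from hd) with ⟨k, hk, hk'⟩
        interval_cases k <;> omega
      have key : ∀ v ∈ A, ρ v (ρ g x) = ρ g x := fun v hv => by
        rw [← hm, show v * g = g * (g⁻¹ * v * g⁻¹⁻¹) by group, hm,
          hNA x hx _ (hA' (‹A.Normal›.conj_mem v hv g⁻¹))]
      exact ⟨key a haA, key b hbA⟩
    rcases hirr N hNinv with h | h
    · have : m ∈ N := ⟨hma, hmb⟩
      rw [h, Submodule.mem_bot] at this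
      exact hm0 this
    · refine ha1 (hfaith ?_)
      rw [map_one]
      ext x
      exact (h ▸ Submodule.mem_top : x ∈ N).1
  have hrd : ∀ d, r * (e.symm d : S) = (e.symm (DihedralGroup.r 1 * d) : S) := fun d => hco _ d
  have hpairs : ∀ k : ZMod 4, ∀ x ∈ X, ∀ y ∈ X, x * x = 1 → y * y = 1 → x * y * (x * y) = 1 →
      (x ∈ ({1, r * r, (e.symm (DihedralGroup.sr k) : S), (e.symm (DihedralGroup.sr k) : S) * (r * r)} : Set S) ∧
        y ∈ ({1, r * r, (e.symm (DihedralGroup.sr k) : S), (e.symm (DihedralGroup.sr k) : S) * (r * r)} : Set S)) ∨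
      (x ∈ ({1, r * r, r * (e.symm (DihedralGroup.sr k) : S), r * (e.symm (DihedralGroup.sr k) : S) * (r * r)} : Set S) ∧
        y ∈ ({1, r * r, r * (e.symm (DihedralGroup.sr k) : S), r * (e.symm (DihedralGroup.sr k) : S) * (r * r)} : Set S)) := by
    intro k x hx y hy hx2 hy2 hxy
    have conv : ∀ u : S, ∀ hu : u ∈ X, ∀ d : DihedralGroup 4, e ⟨u, hu⟩ = d → u = (e.symm d : S) := by
      intro u hu d hd
      rw [← hd, MulEquiv.symm_apply_apply]
    have tr : ∀ u : S, ∀ hu : u ∈ X, u * u = 1 → e ⟨u, hu⟩ * e ⟨u, hu⟩ = 1 := fun u hu h => by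
      rw [← map_mul, ← map_one e]; exact congrArg e (Subtype.ext h)
    have hr2 : r * r = (e.symm (DihedralGroup.r 2) : S) := by rw [hrdef, hco]; rfl
    rcases d8_pairs k (e ⟨x, hx⟩) (e ⟨y, hy⟩) (tr x hx hx2) (tr y hy hy2)
      (by rw [← map_mul]; exact tr _ (mul_mem hx hy) hxy) with ⟨h1', h2'⟩ | ⟨h1', h2'⟩
    · left
      constructor
      · rcases h1' with h | h | h | h <;> rw [conv x hx _ h] <;>
          simp only [Set.mem_insert_iff, Set.mem_singleton_iff, hr2, hrd, hco, hone, eq_self_iff_true, true_or, or_true]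
      · rcases h2' with h | h | h | h <;> rw [conv y hy _ h] <;>
          simp only [Set.mem_insert_iff, Set.mem_singleton_iff, hr2, hrd, hco, hone, eq_self_iff_true, true_or, or_true]
    · right
      constructor
      · rcases h1' with h | h | h | h <;> rw [conv x hx _ h] <;>
          simp only [Set.mem_insert_iff, Set.mem_singleton_iff, hr2, hrd, hco, hone, eq_self_iff_true, true_or, or_true]
      · rcases h2' with h | h | h | h <;> rw [conv y hy _ h] <;>
          simp only [Set.mem_insert_iff, Set.mem_singleton_iff, hr2, hrd, hco, hone, eq_self_iff_true, true_or, or_true]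
  have hcardK : ∀ k : ZMod 4, Nat.card ({1, r * r, r * (e.symm (DihedralGroup.sr k) : S),
      r * (e.symm (DihedralGroup.sr k) : S) * (r * r)} : Set S) = 4 := by
    intro k
    let f : DihedralGroup 4 → S := fun d => (e.symm d : S)
    have hr2 : r * r = f (DihedralGroup.r 2) := by rw [hrdef, hco]; rfl
    have himg : ({1, r * r, r * (e.symm (DihedralGroup.sr k) : S),
        r * (e.symm (DihedralGroup.sr k) : S) * (r * r)} : Set S) =
        f '' (({1, DihedralGroup.r 2, DihedralGroup.r 1 * DihedralGroup.sr k,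
          DihedralGroup.r 1 * DihedralGroup.sr k * DihedralGroup.r 2} : Finset (DihedralGroup 4)) :
          Set (DihedralGroup 4)) := by
      simp only [Finset.coe_insert, Finset.coe_singleton, Set.image_insert_eq, Set.image_singleton,
        hr2, f, hrd, hco, hone]
    have hdec : ∀ k : ZMod 4, ({1, DihedralGroup.r 2, DihedralGroup.r 1 * DihedralGroup.sr k,
        DihedralGroup.r 1 * DihedralGroup.sr k * DihedralGroup.r 2} : Finset (DihedralGroup 4)).card = 4 := by
      decide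
    rw [himg, Nat.card_image_of_injective (fun x y h => hinjX x y h)]
    exact (Nat.card_eq_finsetCard _).trans (hdec k)
  by_cases hU : ∃ m, m ≠ 0 ∧ ρ b m = m
  · exact core ρ hirr a b r s (hAcomm a haA b hbA) (hAexp a haA) (hAexp b hbA)
      (mul_inv_eq_iff_eq_mul.1 hsa) (mul_inv_eq_iff_eq_mul.1 hsb) (mul_inv_eq_iff_eq_mul.1 rfl)
      (mul_inv_eq_iff_eq_mul.1 hrb) hr4 hs2 hsr hrX hsX hgen0 hfix hU (hcardK 0) (hpairs 0)
  push Not at hU
  -- the other orbit of lines
  have hab := hAcomm a haA b hbA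
  have hrs : r * s = (e.symm (DihedralGroup.sr 3) : S) := by rw [hrdef, hsdef, hco]; rfl
  have hs1 : s * (a * b) * s⁻¹ = a * b⁻¹ := by
    rw [show s * (a * b) * s⁻¹ = (s * a * s⁻¹) * (s * b * s⁻¹) by group, hsa, hsb]
  have hsa' : r * s * (a * b) = a * b * (r * s) := by
    apply mul_inv_eq_iff_eq_mul.1
    rw [show r * s * (a * b) * (r * s)⁻¹ = r * (s * (a * b) * s⁻¹) * r⁻¹ by group, hs1,
      show r * (a * b⁻¹) * r⁻¹ = (r * a * r⁻¹) * (r * b * r⁻¹)⁻¹ by group, hrb, inv_inv, ← hbdef, hab]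
  have hca : MulAut.conj r a = b := rfl
  have hcb : MulAut.conj r b = a⁻¹ := hrb
  have hb' : r * (a * b) * r⁻¹ = b * a⁻¹ := by
    show MulAut.conj r (a * b) = _
    rw [map_mul, hca, hcb]
  have hrb' : r * (b * a⁻¹) * r⁻¹ = (a * b)⁻¹ := by
    show MulAut.conj r (b * a⁻¹) = _
    rw [map_mul, map_inv, hca, hcb, hab]
    exact (mul_inv_rev b a).symm
  have hsb' : r * s * (b * a⁻¹) * (r * s)⁻¹ = (b * a⁻¹)⁻¹ := by
    have h1 : MulAut.conj s a = a := hsa
    have h2 : MulAut.conj s b = b⁻¹ := hsb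
    show MulAut.conj (r * s) (b * a⁻¹) = _
    rw [map_mul MulAut.conj, MulAut.mul_apply]
    simp only [map_mul, map_inv, h1, h2, hca, hcb, inv_inv, mul_inv_rev]
  have hb'A : b * a⁻¹ ∈ A := mul_mem hbA (inv_mem haA)
  have ha'A : a * b ∈ A := mul_mem haA hbA
  have hgen1 : closure ({a * b, b * a⁻¹, r, r * s} : Set S) = ⊤ := by
    rw [eq_top_iff, ← hgen0, closure_le]
    set H := closure ({a * b, b * a⁻¹, r, r * s} : Set S)
    have m1 : a * b ∈ H := subset_closure (by simp)
    have m2 : b * a⁻¹ ∈ H := subset_closure (by simp)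
    have m3 : r ∈ H := subset_closure (by simp)
    have m4 : r * s ∈ H := subset_closure (by simp)
    have hb2 : (a * b) * (b * a⁻¹) = b * b := by
      rw [← mul_assoc, mul_assoc a b b, hAcomm a haA (b * b) (mul_mem hbA hbA), mul_inv_cancel_right]
    have mb : b ∈ H := by
      have : b = (b * b)⁻¹ := eq_inv_of_mul_eq_one_left (by rw [← mul_assoc, hAexp b hbA])
      rw [this, ← hb2]
      exact inv_mem (mul_mem m1 m2)
    have mah : a ∈ H := by
      rw [show a = a * b * b⁻¹ by group]; exact mul_mem m1 (inv_mem mb)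
    have msh : s ∈ H := by
      rw [show s = r⁻¹ * (r * s) by group]; exact mul_mem (inv_mem m3) m4
    rintro x (rfl | rfl | rfl | rfl)
    exacts [mah, mb, m3, msh]
  have hfix' : ∀ m, ρ (a * b) m = m → ρ (b * a⁻¹) m = m → m = 0 := by
    intro m hm1 hm2
    have hb2 : (a * b) * (b * a⁻¹) = b * b := by
      rw [← mul_assoc, mul_assoc a b b, hAcomm a haA (b * b) (mul_mem hbA hbA), mul_inv_cancel_right]
    have e1 : ρ (b * b) m = m := by rw [← hb2, hm, hm2, hm1]
    have hbm : ρ b m = m := by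
      conv_rhs => rw [← h1 m, ← hAexp b hbA, mul_assoc, hm, e1]
    refine hfix m ?_ hbm
    have e2 : ρ (a * b) m = ρ a m := by rw [hm, hbm]
    rw [← e2, hm1]
  have hU' : ∃ m, m ≠ 0 ∧ ρ (b * a⁻¹) m = m := by
    by_contra! hno
    obtain ⟨m, hm0⟩ := exists_ne (0 : M)
    have h2 : ∀ x : M, x + x = 0 := fun x => by
      rw [← two_smul (ZMod 2) x, show (2 : ZMod 2) = 0 by decide, zero_smul]
    -- every orbit sum vanishes
    have key : ∀ c ∈ A, (∀ x, ρ c x = x → x = 0) → ∀ x, x + ρ c x + ρ (c * c) x = 0 := by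
      intro c hc hcf x
      apply hcf
      rw [map_add, map_add, ← hm, ← hm, ← mul_assoc, hAexp c hc, h1]
      abel
    have hr' : ∀ c c' : S, r * c * r⁻¹ = c' → (∀ x, ρ c' x = x → x = 0) → ∀ x, ρ c x = x → x = 0 := by
      intro c c' hcc hf x hx
      have e : ρ c' (ρ r x) = ρ r x := by
        rw [← hm, ← hcc, inv_mul_cancel_right, hm, hx]
      have := hf _ e
      rw [← h1 x, ← inv_mul_cancel r, hm, this, map_zero]
    have fb : ∀ x, ρ b x = x → x = 0 := fun x hx => not_not.1 fun h0 => hU x h0 hx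
    have fa : ∀ x, ρ a x = x → x = 0 := hr' a b rfl fb
    have fd : ∀ x, ρ (b * a⁻¹) x = x → x = 0 := fun x hx => not_not.1 fun h0 => hno x h0 hx
    have fc : ∀ x, ρ (a * b) x = x → x = 0 := hr' _ _ hb' fd
    have fd' : ∀ x, ρ (a * (b * b)) x = x → x = 0 := by
      intro x hx
      apply fd
      have e : (b * a⁻¹) * (a * (b * b)) = 1 := by
        rw [mul_assoc, inv_mul_cancel_left, ← mul_assoc, hAexp b hbA]
      conv_lhs => rw [← hx]
      rw [← hm, e, h1]
    have s1 := key a haA fa m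
    have s2 := key b hbA fb m
    have s3 := key (a * b) ha'A fc m
    have s4 := key (a * (b * b)) (mul_mem haA (mul_mem hbA hbA)) fd' m
    have c1 := hAcomm a haA b hbA
    have e3 : a * b * (a * b) = a * a * (b * b) := by
      rw [show a * b * (a * b) = a * (b * a) * b by group, ← c1]; group
    have e4 : a * (b * b) * (a * (b * b)) = a * a * b := by
      rw [show a * (b * b) * (a * (b * b)) = a * ((b * b) * a) * (b * b) by group,
        ← hAcomm a haA (b * b) (mul_mem hbA hbA),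
        show a * (a * (b * b)) * (b * b) = a * a * ((b * b * b) * b) by group, hAexp b hbA, one_mul]
    rw [e3] at s3
    rw [e4] at s4
    -- the total over `A` is fixed by `A`
    set T := m + ρ a m + ρ (a * a) m + (ρ b m + ρ (a * b) m + ρ (a * a * b) m) +
      (ρ (b * b) m + ρ (a * (b * b)) m + ρ (a * a * (b * b)) m) with hT
    have hTm : T = m := by
      have htot : T + (m + m + m) = (m + ρ a m + ρ (a * a) m) + (m + ρ b m + ρ (b * b) m) +
          (m + ρ (a * b) m + ρ (a * a * (b * b)) m) + (m + ρ (a * (b * b)) m + ρ (a * a * b) m) := by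
        rw [hT]; abel
      rw [s1, s2, s3, s4, h2 m, zero_add, add_zero, add_zero, add_zero] at htot
      rw [add_eq_zero_iff_eq_neg, neg_eq_of_add_eq_zero_left (h2 m)] at htot
      exact htot
    have hTa : ρ a T = T := by
      simp only [hT, map_add, ← hm, ← mul_assoc, hAexp a haA, one_mul, h1]; abel
    rw [hTm] at hTa
    exact hm0 (fa m hTa)
  have hres := core (X := X) ρ hirr (a * b) (b * a⁻¹) r (r * s) (hAcomm _ ha'A _ hb'A) (hAexp _ ha'A)
    (hAexp _ hb'A) hsa' (mul_inv_eq_iff_eq_mul.1 hsb') (mul_inv_eq_iff_eq_mul.1 hb')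
    (mul_inv_eq_iff_eq_mul.1 hrb') hr4
    (by rw [← mul_assoc, mul_assoc r s r, hsr, mul_inv_cancel_left, hs2])
    (by rw [mul_assoc, hsr, mul_inv_cancel_left, inv_mul_cancel_left])
    hrX (mul_mem hrX hsX) hgen1 hfix' hU' (by rw [hrs]; exact hcardK 3) (by rw [hrs]; exact hpairs 3)
  exact hres

end Cfsg.Agent.S4407
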