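import Cfsg.Statements.S4408
import Cfsg.Agent.FGS82.EigenFamily
import Cfsg.Agent.Lib.Fitting.Minimal

set_option autoImplicit false
open Cfsg

namespace Cfsg.Agent.S4408

/-- Let S be a finite solvable group whose Fitting subgroup F(S) has odd order, and let I be an elementary abelian 2-subgroup of S of order 2ⁿ with n ≥ 1. Then F(S) contains subgroups A₁, …, Aₙ of prime order, each normalized by I, pairwise commuting and generating a subgroup A of order |A₁|⋯|Aₙ| (their internal direct product), such that no non-identity element of I centralizes A. -/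
theorem result {S : Type*} [Group S] [Finite S]
    [Group.IsSolvable S] (hF : Odd (Nat.card ↥(Cfsg.fittingSubgroup S)))
    (I : Subgroup S) (hI : Cfsg.IsElementaryAbelian 2 I) (n : ℕ) (hn : 1 ≤ n) (hIn : Nat.card ↥I = 2 ^ n) :
    ∃ f : Fin n → Subgroup S, (∀ i, (Nat.card ↥(f i)).Prime) ∧ (∀ i, f i ≤ Cfsg.fittingSubgroup S) ∧
      (∀ i, I ≤ Subgroup.normalizer ((f i) : Set S)) ∧ (∀ i j, i ≠ j → ∀ a ∈ f i, ∀ b ∈ f j, a * b = b * a) ∧
      Nat.card ↥(⨆ i, f i) = ∏ i, Nat.card ↥(f i) ∧ I ⊓ Subgroup.centralizer ((⨆ i, f i : Subgroup S) : Set S) = ⊥ := by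
  haveI := hI.1
  have hI2 : ∀ s ∈ I, s * s = 1 := fun s hs => by rw [← pow_two]; exact hI.2 s hs
  have hfaith : I ⊓ Subgroup.centralizer (Cfsg.fittingSubgroup S : Set S) = ⊥ := by
    rw [eq_bot_iff]
    intro s hs
    obtain ⟨hsI, hsC⟩ := Subgroup.mem_inf.1 hs
    have hsF : s ∈ Cfsg.fittingSubgroup S := Fitting.centralizer_fitting_le hsC
    rw [Subgroup.mem_bot]
    by_contra hne
    have h2 : orderOf s = 2 := orderOf_eq_prime (hI.2 s hsI) hne
    have := hF.of_dvd_nat ((Cfsg.fittingSubgroup S).orderOf_dvd_natCard hsF)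
    rw [h2] at this
    exact absurd this (by decide)
  obtain ⟨f, h1, h2, h3, h4, h5, h6, -⟩ := FGS82.exists_family I inferInstance hI2 n I
    (Cfsg.fittingSubgroup S) le_rfl Fitting.fitting_isNilpotent hF
    (fun u _ => by rw [Subgroup.normalizer_eq_top]; exact Subgroup.mem_top u) hIn hfaith
  exact ⟨f, h1, h2, h3, h4, h5, h6⟩

end Cfsg.Agent.S4408
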