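import Cfsg.Statements.S4410
import Cfsg.Agent.Lib.Fitting.Minimal
import Cfsg.Agent.Lib.Thompson.Cores

set_option autoImplicit false
open Cfsg

namespace Cfsg.Agent.S4410

theorem restr_aux {V : Type*} [AddCommGroup V] [Module (ZMod 2) V] [Finite V]
    (U : Submodule (ZMod 2) V) (g : V ≃ₗ[ZMod 2] V) (hg : ∀ w, g w - w ∈ U)
    (hfix : ∀ w ∈ U, g w = w) (hodd : Odd (orderOf g)) : g = 1 := by
  refine LinearEquiv.ext fun w => ?_
  have hk : ∀ k : ℕ, (g ^ k) w = w + k • (g w - w) := by
    intro k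
    induction k with
    | zero => simp
    | succ k ih =>
      rw [pow_succ', LinearEquiv.mul_apply, ih, map_add, map_nsmul, hfix _ (hg w), succ_nsmul]
      abel
  have h := hk (orderOf g)
  rw [pow_orderOf_eq_one, LinearEquiv.coe_one, id_eq, left_eq_add] at h
  obtain ⟨m, hm⟩ := hodd
  have h2 : (2 : ℕ) • (g w - w) = 0 := by
    rw [← Nat.cast_smul_eq_nsmul (ZMod 2), show ((2 : ℕ) : ZMod 2) = 0 from rfl, zero_smul]
  rw [hm, add_nsmul, one_nsmul, mul_comm, mul_nsmul', h2, smul_zero, zero_add, sub_eq_zero] at h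
  exact h

/-- Let V be a finite-dimensional vector space over the field with two elements and S a solvable group of linear automorphisms of V with O₂(S) = 1. If P ∈ S has order 4 and (P − 1)³ = 0 on V, then the image of (P − 1)² has at least 4 elements; equivalently, in the decomposition of V into indecomposable modules for the cyclic group generated by P, at least two summands have dimension 3. -/
theorem result
    {V : Type*} [AddCommGroup V] [Module (ZMod 2) V] [Finite V]
    (S : Subgroup (V ≃ₗ[ZMod 2] V)) (hS : Group.IsSolvable ↥S) (hO2 : Cfsg.pCore 2 ↥S = ⊥)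
    (P : V ≃ₗ[ZMod 2] V) (hPS : P ∈ S) (hP4 : orderOf P = 4)
    (hcub : ((P : V →ₗ[ZMod 2] V) - LinearMap.id) ^ 3 = 0) :
    4 ≤ Nat.card ↥(LinearMap.range (((P : V →ₗ[ZMod 2] V) - LinearMap.id) ^ 2)) := by
  classical
  set L := LinearMap.range (((P : V →ₗ[ZMod 2] V) - LinearMap.id) ^ 2)
  by_contra hlt
  push Not at hlt
  have htwo : ∀ a : V, a + a = 0 := fun a => by
    rw [← two_nsmul, ← Nat.cast_smul_eq_nsmul (ZMod 2), show ((2 : ℕ) : ZMod 2) = 0 from rfl, zero_smul]
  set t : V ≃ₗ[ZMod 2] V := P * P with htdef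
  have hsub : ∀ a : V, ∀ b : V, a - b = a + b := fun a b => by
    rw [sub_eq_iff_eq_add, add_assoc, htwo, add_zero]
  have htL : ∀ w, t w - w ∈ L := fun w => ⟨w, by
    rw [pow_two, Module.End.mul_apply]
    simp only [LinearMap.sub_apply, LinearMap.id_apply, LinearEquiv.coe_coe, map_sub, htdef,
      LinearEquiv.mul_apply]
    rw [hsub (P (P w)) (P w), hsub (P w) w, hsub (P (P w)) w, hsub]
    rw [show P (P w) + P w + (P w + w) = P (P w) + (P w + P w) + w by abel, htwo, add_zero]⟩
  have ht1 : t ≠ 1 := fun h => by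
    have := orderOf_dvd_of_pow_eq_one (show P ^ 2 = 1 by rw [pow_two]; exact h)
    rw [hP4] at this; norm_num at this
  obtain ⟨w₀, hw₀⟩ : ∃ w, t w ≠ w := by
    by_contra h
    push Not at h
    exact ht1 (LinearEquiv.ext h)
  set v := t w₀ - w₀
  have hv : v ≠ 0 := sub_ne_zero.2 hw₀
  have hLv : ∀ a ∈ L, a = 0 ∨ a = v := by
    intro a ha
    by_contra hne
    push Not at hne
    have hmem : a + v ∈ L := add_mem ha (htL w₀)
    have h4 : ({⟨0, zero_mem L⟩, ⟨v, htL w₀⟩, ⟨a, ha⟩, ⟨a + v, hmem⟩} : Finset L).card = 4 := by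
      have h1 : a + v ≠ 0 := fun h => hne.2 (by rw [← sub_eq_zero, hsub]; exact h)
      have h2 : a + v ≠ v := fun h => hne.1 (by simpa using h)
      have h3 : a + v ≠ a := fun h => hv (by simpa using h)
      rw [Finset.card_insert_of_notMem (by simp [hv.symm, hne.1.symm, h1.symm]),
        Finset.card_insert_of_notMem (by simp [hne.2.symm, h2.symm]),
        Finset.card_insert_of_notMem (by simp [h3.symm]), Finset.card_singleton]
    haveI := Fintype.ofFinite L
    have := Finset.card_le_univ ({⟨0, zero_mem L⟩, ⟨v, htL w₀⟩, ⟨a, ha⟩, ⟨a + v, hmem⟩} : Finset L)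
    rw [h4, ← Nat.card_eq_fintype_card] at this
    omega
  -- the Fitting subgroup
  haveI := hS
  haveI : Finite (V ≃ₗ[ZMod 2] V) := Finite.of_injective (fun e => (e : V → V)) DFunLike.coe_injective
  haveI : Fact (Nat.Prime 2) := ⟨Nat.prime_two⟩
  set F := Cfsg.fittingSubgroup S
  haveI hFn : Group.IsNilpotent F := Fitting.fitting_isNilpotent
  have hsyl : ∀ (q : ℕ) [Fact q.Prime] (Q : Sylow q F), ((Q : Subgroup F).map F.subtype).Normal := by
    intro q _ Q
    haveI : (Q : Subgroup F).Normal :=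
      Sylow.normal_of_normalizerCondition normalizerCondition_of_isNilpotent Q
    haveI : (Q : Subgroup F).Characteristic := Sylow.characteristic_of_normal Q inferInstance
    exact ConjAct.normal_of_characteristic_of_normal
  have hFodd : Odd (Nat.card F) := by
    by_contra hev
    have h2 : 2 ∣ Nat.card F := even_iff_two_dvd.1 (Nat.not_odd_iff_even.1 hev)
    let Q : Sylow 2 F := Classical.arbitrary _
    have hle := Thompson.le_pCore (hsyl 2 Q) (Q.isPGroup'.map _)
    rw [hO2, le_bot_iff, Subgroup.map_eq_bot_iff_of_injective _ F.subtype_injective] at hle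
    have := Q.dvd_card_of_dvd_card h2
    rw [hle, Subgroup.card_bot] at this
    norm_num at this
  let P' : S := ⟨P, hPS⟩
  set t' : S := P' * P'
  have htt : t' * t' = 1 := by
    apply Subtype.ext
    show P * P * (P * P) = 1
    rw [← pow_two, ← pow_two, ← pow_mul, show 2 * 2 = 4 from rfl, ← hP4, pow_orderOf_eq_one]
  have hti : t'⁻¹ = t' := inv_eq_of_mul_eq_one_right htt
  have ht'1 : t' ≠ 1 := fun h => ht1 (congrArg Subtype.val h)
  obtain ⟨g, hg, hgt⟩ : ∃ g ∈ F, t' * g * t'⁻¹ ≠ g := by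
    by_contra h
    push Not at h
    have hc : t' ∈ Subgroup.centralizer (F : Set S) :=
      Subgroup.mem_centralizer_iff.2 fun y hy => (mul_inv_eq_iff_eq_mul.1 (h y hy)).symm
    have hm := F.orderOf_dvd_natCard (Fitting.centralizer_fitting_le hc)
    rw [orderOf_eq_prime (p := 2) (by rw [pow_two, htt]) ht'1] at hm
    obtain ⟨m, hm'⟩ := hFodd
    omega
  set x₀ := g⁻¹ * (t' * g * t'⁻¹)
  have hFnorm : F.Normal := inferInstance
  have hx₀ : x₀ ∈ F := mul_mem (inv_mem hg) (hFnorm.conj_mem g hg t')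
  have hx₀1 : x₀ ≠ 1 := fun h => hgt (inv_mul_eq_one.1 h).symm
  have hx₀i : t' * x₀ * t'⁻¹ = x₀⁻¹ := by
    have h' : ∀ w, t' * (t' * w) = w := fun w => by rw [← mul_assoc, htt, one_mul]
    simp only [x₀, hti, mul_inv_rev, inv_inv, mul_assoc, h', htt, mul_one]
  -- inverted elements move vectors into a plane
  have hplane : ∀ x ∈ F, t' * x * t'⁻¹ = x⁻¹ → ∀ w : V,
      (x : V ≃ₗ[ZMod 2] V) w - w ∈ Submodule.span (ZMod 2) ({v, (x : V ≃ₗ[ZMod 2] V) v} : Set V) := by
    intro x hx hinv w
    set U := Submodule.span (ZMod 2) ({v, (x : V ≃ₗ[ZMod 2] V) v} : Set V)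
    have hx2 : x * x = x * t' * x⁻¹ * t' := by
      have h1 : x⁻¹ * t' = t' * x := by rw [← hinv, inv_mul_cancel_right]
      rw [mul_assoc (x * t'), h1, ← mul_assoc, mul_assoc x t' t', htt, mul_one]
    have hv1 : v ∈ U := Submodule.subset_span (by simp)
    have hv2 : (x : V ≃ₗ[ZMod 2] V) v ∈ U := Submodule.subset_span (by simp)
    have hsq : ∀ z : V, ((x * x : S) : V ≃ₗ[ZMod 2] V) z - z ∈ U := by
      intro z
      set z' := t z
      set y := (x : V ≃ₗ[ZMod 2] V).symm z'
      have hval : ((x * x : S) : V ≃ₗ[ZMod 2] V) z = (x : V ≃ₗ[ZMod 2] V) (t y) := by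
        rw [hx2]; rfl
      rw [hval, show (x : V ≃ₗ[ZMod 2] V) (t y) - z =
        (x : V ≃ₗ[ZMod 2] V) (t y - y) + (t z - z) by
          rw [map_sub, show (x : V ≃ₗ[ZMod 2] V) y = z' from LinearEquiv.apply_symm_apply _ _]; abel]
      refine add_mem ?_ ?_
      · rcases hLv _ (htL y) with h | h <;> rw [h]
        · rw [map_zero]; exact zero_mem U
        · exact hv2
      · rcases hLv _ (htL z) with h | h <;> rw [h]
        · exact zero_mem U
        · exact hv1
    have hpow : ∀ k : ℕ, ∀ z : V, (((x * x) ^ k : S) : V ≃ₗ[ZMod 2] V) z - z ∈ U := by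
      intro k
      induction k with
      | zero => intro z; simp
      | succ k ih =>
        intro z
        rw [pow_succ', Subgroup.coe_mul, LinearEquiv.mul_apply]
        have := add_mem (hsq ((((x * x) ^ k : S) : V ≃ₗ[ZMod 2] V) z)) (ih z)
        rwa [sub_add_sub_cancel] at this
    obtain ⟨m, hm⟩ := hFodd.of_dvd_nat (F.orderOf_dvd_natCard hx)
    have hxm : (x * x) ^ (m + 1) = x := by
      rw [← pow_two, ← pow_mul, show 2 * (m + 1) = orderOf x + 1 by omega, pow_succ,
        pow_orderOf_eq_one, one_mul]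
    have := hpow (m + 1) w
    rwa [hxm] at this
  -- restriction to an invariant subspace
  have hcardGL : ∀ U : Submodule (ZMod 2) V, Nat.card (U ≃ₗ[ZMod 2] U) =
      ∏ i : Fin (Module.finrank (ZMod 2) U), (2 ^ Module.finrank (ZMod 2) U - 2 ^ (i : ℕ)) := by
    intro U
    let b := Module.finBasis (ZMod 2) U
    let e : (U ≃ₗ[ZMod 2] U) ≃ GL (Fin (Module.finrank (ZMod 2) U)) (ZMod 2) :=
      (LinearMap.GeneralLinearGroup.generalLinearEquiv (ZMod 2) U).symm.toEquiv.trans
        (Units.mapEquiv (LinearMap.toMatrixAlgEquiv b).toMulEquiv).toEquiv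
    rw [Nat.card_congr e, Matrix.card_GL_field]
    simp
  have hrest : ∀ (U : Submodule (ZMod 2) V) (Y : Subgroup S),
      (∀ y ∈ Y, ∀ w, (y : V ≃ₗ[ZMod 2] V) w - w ∈ U) → Odd (Nat.card Y) →
      Nat.card Y ∣ Nat.card (U ≃ₗ[ZMod 2] U) := by
    intro U Y hY hodd
    have hin : ∀ y ∈ Y, ∀ u ∈ U, (y : V ≃ₗ[ZMod 2] V) u ∈ U := fun y hy u hu => by
      have := add_mem (hY y hy u) hu
      rwa [sub_add_cancel] at this
    let ψ : Y →* (U ≃ₗ[ZMod 2] U) :=
      { toFun := fun y => LinearEquiv.ofLinearMap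
          (((y : S) : V ≃ₗ[ZMod 2] V).toLinearMap.restrict (hin y y.2))
          ((((y : S)⁻¹ : S) : V ≃ₗ[ZMod 2] V).toLinearMap.restrict (hin _ (inv_mem y.2)))
          (by
            ext u
            show ((y : S) : V ≃ₗ[ZMod 2] V) ((((y : S)⁻¹ : S) : V ≃ₗ[ZMod 2] V) (u : V)) = u
            rw [← LinearEquiv.mul_apply, ← Subgroup.coe_mul, mul_inv_cancel]; rfl)
          (by
            ext u
            show (((y : S)⁻¹ : S) : V ≃ₗ[ZMod 2] V) (((y : S) : V ≃ₗ[ZMod 2] V) (u : V)) = u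
            rw [← LinearEquiv.mul_apply, ← Subgroup.coe_mul, inv_mul_cancel]; rfl)
        map_one' := by ext u; rfl
        map_mul' := fun a b => by ext u; rfl }
    refine Subgroup.card_dvd_of_injective ψ ((injective_iff_map_eq_one ψ).2 fun y hy => ?_)
    refine Subtype.ext (Subtype.ext (restr_aux U _ (hY y y.2) (fun u hu => ?_) ?_))
    · exact congrArg Subtype.val (DFunLike.congr_fun hy ⟨u, hu⟩)
    · rw [Subgroup.orderOf_coe, Subgroup.orderOf_coe]
      exact hodd.of_dvd_nat (orderOf_dvd_natCard y)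
  have hclosed : ∀ (U : Submodule (ZMod 2) V) (s : Set S),
      (∀ y ∈ s, ∀ w, (y : V ≃ₗ[ZMod 2] V) w - w ∈ U) →
      ∀ y ∈ Subgroup.closure s, ∀ w, (y : V ≃ₗ[ZMod 2] V) w - w ∈ U := by
    intro U s hs y hy
    induction hy using Subgroup.closure_induction with
    | mem a ha => exact hs a ha
    | one => intro w; simp
    | mul a b _ _ ha hb =>
      intro w
      rw [Subgroup.coe_mul, LinearEquiv.mul_apply]
      have := add_mem (ha ((b : V ≃ₗ[ZMod 2] V) w)) (hb w)
      rwa [sub_add_sub_cancel] at this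
    | inv a _ ha =>
      intro w
      have h := neg_mem (ha (((a⁻¹ : S) : V ≃ₗ[ZMod 2] V) w))
      rw [← LinearEquiv.mul_apply, ← Subgroup.coe_mul, mul_inv_cancel, neg_sub] at h
      exact h
  -- inverted elements of prime order have order three
  have horder : ∀ x ∈ F, t' * x * t'⁻¹ = x⁻¹ → (orderOf x).Prime → orderOf x = 3 := by
    intro x hx hinv hp
    set U := Submodule.span (ZMod 2) ({v, (x : V ≃ₗ[ZMod 2] V) v} : Set V)
    have hd : Module.finrank (ZMod 2) U ≤ 2 :=
      (finrank_span_le_card _).trans (by rw [Set.toFinset_insert, Set.toFinset_singleton]; exact Finset.card_le_two)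
    have hxodd := hFodd.of_dvd_nat (F.orderOf_dvd_natCard hx)
    have h := hrest U (Subgroup.zpowers x) (fun y hy => hclosed U {x}
        (fun z hz => by rw [Set.mem_singleton_iff.1 hz]; exact hplane x hx hinv) y
        (by rwa [← Subgroup.zpowers_eq_closure])) (by rwa [Nat.card_zpowers])
    rw [Nat.card_zpowers, hcardGL] at h
    have h6 : orderOf x ∣ 6 := by
      generalize Module.finrank (ZMod 2) U = d at hd h
      interval_cases d <;> simp [Fin.prod_univ_succ] at h <;> first | exact h.trans (by norm_num) | (rw [h]; norm_num)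
    have := Nat.le_of_dvd (by norm_num) h6
    obtain ⟨m, hm⟩ := hxodd
    interval_cases hh : orderOf x <;> first | rfl | omega | (norm_num at hp)
  -- any two of them generate the same subgroup
  haveI : Fact (Nat.Prime 3) := ⟨Nat.prime_three⟩
  have huniq : ∀ x ∈ F, ∀ y ∈ F, t' * x * t'⁻¹ = x⁻¹ → t' * y * t'⁻¹ = y⁻¹ →
      orderOf x = 3 → orderOf y = 3 → y ∈ Subgroup.zpowers x := by
    intro x hx y hy hxi hyi hx3 hy3
    set U := Submodule.span (ZMod 2) ({v, (x : V ≃ₗ[ZMod 2] V) v, (y : V ≃ₗ[ZMod 2] V) v} : Set V)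
    have hd : Module.finrank (ZMod 2) U ≤ 3 := (finrank_span_le_card _).trans (by
      rw [Set.toFinset_insert, Set.toFinset_insert, Set.toFinset_singleton]; exact Finset.card_le_three)
    set Y := Subgroup.closure ({x, y} : Set S)
    have hYU : ∀ z ∈ Y, ∀ w, (z : V ≃ₗ[ZMod 2] V) w - w ∈ U := hclosed U _ (by
      rintro z (rfl | rfl)
      · exact fun w => Submodule.span_mono
          (Set.insert_subset_insert (Set.singleton_subset_iff.2 (by simp))) (hplane z hx hxi w)
      · exact fun w => Submodule.span_mono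
          (Set.insert_subset_insert (Set.singleton_subset_iff.2 (by simp))) (hplane z hy hyi w))
    let Q : Sylow 3 F := Classical.arbitrary _
    haveI : (Q : Subgroup F).Normal :=
      Sylow.normal_of_normalizerCondition normalizerCondition_of_isNilpotent Q
    haveI : Subsingleton (Sylow 3 F) := Sylow.unique_of_normal Q inferInstance |>.instSubsingleton
    have hmem : ∀ z ∈ F, orderOf z = 3 → z ∈ (Q : Subgroup F).map F.subtype := by
      intro z hz hz3
      have hp : IsPGroup 3 (Subgroup.zpowers (⟨z, hz⟩ : F)) :=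
        IsPGroup.of_card (n := 1) (by rw [Nat.card_zpowers, Subgroup.orderOf_mk, hz3, pow_one])
      obtain ⟨Q', hQ'⟩ := hp.exists_le_sylow
      rw [Subsingleton.elim Q' Q] at hQ'
      exact ⟨⟨z, hz⟩, hQ' (Subgroup.mem_zpowers _), rfl⟩
    have hY3 : IsPGroup 3 Y := (Q.isPGroup'.map F.subtype).to_le ((Subgroup.closure_le _).2 (by
      rintro z (rfl | rfl)
      · exact hmem z hx hx3
      · exact hmem z hy hy3))
    obtain ⟨k, hk⟩ := IsPGroup.iff_card.1 hY3
    have h := hrest U Y hYU (by rw [hk]; exact Odd.pow (by decide))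
    rw [hcardGL, hk] at h
    have hk1 : k ≤ 1 := by
      by_contra hk2
      have h9 : (9 : ℕ) ∣ 3 ^ k :=
        (by norm_num : (9 : ℕ) = 3 ^ 2) ▸ Nat.pow_dvd_pow 3 (by omega)
      replace h := h9.trans h
      generalize Module.finrank (ZMod 2) U = d at hd h
      interval_cases d <;> simp [Fin.prod_univ_succ] at h <;> omega
    have heq : Subgroup.zpowers x = Y := Subgroup.eq_of_le_of_card_ge
      (Subgroup.zpowers_le.2 (Subgroup.subset_closure (by simp))) (by
        rw [hk, Nat.card_zpowers, hx3]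
        calc 3 ^ k ≤ 3 ^ 1 := Nat.pow_le_pow_right (by norm_num) hk1
          _ = 3 := by norm_num)
    rw [heq]; exact Subgroup.subset_closure (by simp)
  obtain ⟨r, hr, hrd⟩ := Nat.exists_prime_and_dvd
    (fun h => hx₀1 (orderOf_eq_one_iff.1 h) : orderOf x₀ ≠ 1)
  set x := x₀ ^ (orderOf x₀ / r)
  have hxF : x ∈ F := pow_mem hx₀ _
  have hxi : t' * x * t'⁻¹ = x⁻¹ := by rw [← conj_pow, hx₀i, inv_pow]
  have hx3 : orderOf x = 3 := horder x hxF hxi (by
    rw [orderOf_pow_orderOf_div (orderOf_pos x₀).ne' hrd]; exact hr)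
  set y := P' * x * P'⁻¹
  have hyi : t' * y * t'⁻¹ = y⁻¹ := by
    rw [show t' * y * t'⁻¹ = P' * (t' * x * t'⁻¹) * P'⁻¹ by
      simp only [y, t']; group, hxi]
    simp only [y]; group
  have hy3 : orderOf y = 3 := by
    rw [show y = MulAut.conj P' x from rfl, MulEquiv.orderOf_eq]; exact hx3
  obtain ⟨i, hi⟩ := Subgroup.mem_zpowers_iff.1
    (huniq x hxF y (hFnorm.conj_mem x hxF P') hxi hyi hx3 hy3)
  have hcases : y = x ∨ y = x⁻¹ := by
    have h3 : x ^ (3 : ℤ) = 1 := by
      rw [show (3 : ℤ) = ((3 : ℕ) : ℤ) from rfl, zpow_natCast, ← hx3, pow_orderOf_eq_one]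
    have hy1 : y ≠ 1 := fun h => by rw [h, orderOf_one] at hy3; norm_num at hy3
    have hi' : x ^ (i % 3) = y := by
      rw [← hi]
      conv_rhs => rw [← Int.mul_ediv_add_emod i 3, zpow_add, zpow_mul, h3, one_zpow, one_mul]
    rcases (show i % 3 = 0 ∨ i % 3 = 1 ∨ i % 3 = 2 by omega) with h | h | h <;> rw [h] at hi'
    · exact absurd (by simpa using hi'.symm) hy1
    · left; simpa using hi'.symm
    · right
      rw [← hi', eq_inv_iff_mul_eq_one, ← zpow_add_one]
      exact h3
  have hfix : t' * x * t'⁻¹ = x := by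
    have e : t' * x * t'⁻¹ = P' * y * P'⁻¹ := by simp only [y, t']; group
    rw [e]
    rcases hcases with h | h
    · rw [h]; exact h
    · rw [h, show P' * x⁻¹ * P'⁻¹ = y⁻¹ by simp only [y]; group, h, inv_inv]
  rw [hxi] at hfix
  have h2 : x ^ 2 = 1 := by
    rw [pow_two]; nth_rw 1 [← hfix]; exact inv_mul_cancel x
  have := orderOf_dvd_of_pow_eq_one h2
  rw [hx3] at this
  norm_num at this

end Cfsg.Agent.S4410
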