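import Cfsg.Statements.S4413
import Cfsg.Agent.FGS82.ExtraMinus

set_option autoImplicit false
open Cfsg

namespace Cfsg.Agent.S4413

/-- Let P be an extraspecial 2-group of order 32 with no elementary abelian subgroup of order 8 (the central product of a dihedral and a quaternion group of order 8). Then the inner automorphism group of P has order 16 and the outer automorphism group Aut(P)/Inn(P) is isomorphic to the symmetric group of degree 5; in particular Aut(P) has order 1920. -/
theorem result {P : Type*} [Group P] [Finite P]
    (hex : Cfsg.IsExtraspecial 2 P) (h32 : Nat.card P = 32)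
    (hminus : ∀ A : Subgroup P, Cfsg.IsElementaryAbelian 2 A → Nat.card ↥A ≤ 4)
    [(MulAut.conj : P →* MulAut P).range.Normal] :
    Nat.card ↥(MulAut.conj : P →* MulAut P).range = 16 ∧ Nat.card (MulAut P) = 1920 ∧
      Nonempty ((MulAut P ⧸ (MulAut.conj : P →* MulAut P).range) ≃* Equiv.Perm (Fin 5)) := by
  obtain ⟨z, D⟩ := FGS82.exists_qdata hex
  obtain ⟨e⟩ := FGS82.Minus.equiv_model D h32 hminus
  set I := (MulAut.conj : P →* MulAut P).range
  have hI : Nat.card I = 16 := by
    have hk : (MulAut.conj : P →* MulAut P).ker = Subgroup.center P := by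
      ext g
      rw [MonoidHom.mem_ker, Subgroup.mem_center_iff]
      refine ⟨fun h x => ?_, fun h => MulEquiv.ext fun x => ?_⟩
      · have := DFunLike.congr_fun h x
        simp only [MulAut.conj_apply, MulAut.one_apply] at this
        exact (mul_inv_eq_iff_eq_mul.1 this).symm
      · simp [← h x]
    have h := Subgroup.card_eq_card_quotient_mul_card_subgroup
      (MulAut.conj : P →* MulAut P).ker
    rw [Nat.card_congr (QuotientGroup.quotientKerEquivRange (MulAut.conj : P →* MulAut P)).toEquiv,
      h32, hk, hex.2] at h
    change 32 = Nat.card I * 2 at h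
    omega
  let c := (MulAut.congr e).toMonoidHom
  let π : MulAut P →* Equiv.Perm (Fin 5) := FGS82.Minus.act.comp c
  have hπ : Function.Surjective π :=
    FGS82.Minus.act_surjective.comp (MulAut.congr e).surjective
  have hle : I ≤ π.ker := by
    rintro _ ⟨g, rfl⟩
    rw [MonoidHom.mem_ker]
    show FGS82.Minus.act (MulAut.congr e (MulAut.conj g)) = 1
    rw [show MulAut.congr e (MulAut.conj g) = MulAut.conj (e g) from
      MulEquiv.ext fun x => by simp [MulAut.congr]]
    exact FGS82.Minus.act_conj (e g)
  have hcard : Nat.card π.ker ≤ 16 := by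
    refine le_trans (Nat.card_le_card_of_injective
      (fun φ : π.ker => (⟨c φ.1, φ.2⟩ : FGS82.Minus.act.ker)) ?_) FGS82.Minus.card_ker_act_le
    intro a b h
    exact Subtype.ext ((MulAut.congr e).injective (congrArg Subtype.val h))
  have hker : I = π.ker := Subgroup.eq_of_le_of_card_ge hle (by omega)
  let q := (QuotientGroup.quotientMulEquivOfEq hker).trans
    (QuotientGroup.quotientKerEquivOfSurjective π hπ)
  refine ⟨hI, ?_, ⟨q⟩⟩
  rw [Subgroup.card_eq_card_quotient_mul_card_subgroup I, Nat.card_congr q.toEquiv, hI,
    Nat.card_eq_fintype_card, Fintype.card_perm, Fintype.card_fin]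
  rfl

end Cfsg.Agent.S4413
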