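import Cfsg.Agent.Lib.Coprime.LinAct
import Cfsg.Agent.FGS76.Unipotent
import Mathlib.LinearAlgebra.TensorProduct.Basis
import Mathlib.RingTheory.TensorProduct.Maps
import Mathlib.RepresentationTheory.Basic

/-!
Fixed points of a Sylow `2`-subgroup on a module in characteristic two on which an abelian normal
subgroup of odd order has no fixed points.
-/

set_option autoImplicit false
set_option linter.unusedSectionVars false

namespace Cfsg.Agent.TwoPointFixed

open Subgroup
open scoped TensorProduct commutatorElement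

/-- Vectors of `k ⊗ E` fixed by an operator commuting with scalars are spanned by fixed vectors
of `E`. -/
theorem fixed_le_span {F k E ι : Type*} [Field F] [Field k] [Algebra F k] [AddCommGroup E]
    [Module F E] (T : ι → Module.End F E) (v : k ⊗[F] E)
    (hv : ∀ i, (T i).baseChange k v = v) :
    v ∈ Submodule.span k ((fun e : E => (1 : k) ⊗ₜ[F] e) '' {e | ∀ i, T i e = e}) := by
  classical
  set b := Module.Free.chooseBasis F k
  set e := TensorProduct.equivFinsuppOfBasisLeft (N := E) b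
  have hcoord : ∀ (i : ι) (x : k ⊗[F] E) (j), e ((T i).baseChange k x) j = T i (e x j) := by
    intro i x j
    induction x using TensorProduct.induction_on with
    | zero => simp
    | tmul a y => simp [e, TensorProduct.equivFinsuppOfBasisLeft_apply_tmul_apply]
    | add x y hx hy => simp [map_add, hx, hy]
  have hfix : ∀ j, ∀ i, T i (e v j) = e v j := fun j i => by rw [← hcoord, hv i]
  have hrep : v = (e v).sum fun j y => b j ⊗ₜ[F] y := by
    conv_lhs => rw [← e.symm_apply_apply v]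
    rw [← LinearEquiv.coe_toLinearMap, TensorProduct.equivFinsuppOfBasisLeft_symm,
      Finsupp.lsum_apply]
    rfl
  rw [hrep]
  rw [Finsupp.sum]
  refine Submodule.sum_mem _ fun j _ => ?_
  rw [show b j ⊗ₜ[F] e v j = b j • ((1 : k) ⊗ₜ[F] e v j) by
    rw [TensorProduct.smul_tmul', smul_eq_mul, mul_one]]
  exact Submodule.smul_mem _ _ (Submodule.subset_span ⟨e v j, hfix j, rfl⟩)

section Weights

variable {S : Type*} [Group S] [Finite S] {k : Type*} [Field k] {V : Type*} [AddCommGroup V]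
  [Module k V] (π : S →* Module.End k V) (A : Subgroup S) [A.Normal]

/-- Conjugated character. -/
noncomputable def tw (g : S) (χ : A →* k) : A →* k :=
  χ.comp (MulAut.conjNormal g⁻¹ : MulAut A).toMonoidHom

theorem tw_one (χ : A →* k) : tw A 1 χ = χ := MonoidHom.ext fun a => by simp [tw]

theorem tw_mul (g h : S) (χ : A →* k) : tw A (g * h) χ = tw A g (tw A h χ) := by
  refine MonoidHom.ext fun a => ?_
  simp only [tw, MonoidHom.comp_apply, MulEquiv.coe_toMonoidHom]
  refine congrArg χ (Subtype.ext ?_)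
  simp [mul_assoc]

/-- Vectors of weight `χ`. -/
def wsp (χ : A →* k) : Submodule k V where
  carrier := {v | ∀ a : A, π (a : S) v = χ a • v}
  zero_mem' := fun a => by simp
  add_mem' := fun {x y} hx hy a => by rw [map_add, hx a, hy a, smul_add]
  smul_mem' := fun c x hx a => by rw [map_smul, hx a, smul_comm]

variable [Fintype A]

/-- Projection onto a weight space, up to the scalar `|A|`. -/
noncomputable def proj (χ : A →* k) : Module.End k V :=
  ∑ a : A, χ a⁻¹ • π (a : S)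

theorem proj_apply (χ : A →* k) (v : V) : proj π A χ v = ∑ a : A, χ a⁻¹ • π (a : S) v := by
  simp [proj, LinearMap.sum_apply]

theorem proj_equivariant (g : S) (χ : A →* k) (v : V) :
    proj π A (tw A g χ) (π g v) = π g (proj π A χ v) := by
  rw [proj_apply, proj_apply, map_sum]
  refine Fintype.sum_equiv (MulAut.conjNormal g⁻¹ : MulAut A).toEquiv _ _ fun a => ?_
  rw [map_smul, ← LinAct.rho_mul, ← LinAct.rho_mul]
  congr 1
  · simp [tw]
  · have : (a : S) * g = g * ((MulAut.conjNormal g⁻¹ : MulAut A) a : A) := by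
      simp [mul_assoc]
    rw [this]
    rfl

theorem map_wsp {g : S} {χ : A →* k} {v : V} (hv : v ∈ wsp π A χ) :
    π g v ∈ wsp π A (tw A g χ) := fun a => by
  rw [← LinAct.rho_mul, show (a : S) * g = g * ((MulAut.conjNormal g⁻¹ : MulAut A) a : A) by
    simp [mul_assoc], LinAct.rho_mul, hv, map_smul]
  rfl

/-- The core counting argument. -/
theorem two_fixed (hA : ∀ a ∈ A, ∀ b ∈ A, a * b = b * a) [IsAlgClosed k] [FiniteDimensional k V]
    [CharP k 2] [Nontrivial V] (hAodd : (Nat.card A : k) ≠ 0)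
    (hfix : ∀ v : V, (∀ a ∈ A, π a v = v) → v = 0) {P : Subgroup S} (hP : IsPGroup 2 P)
    {x : S} {q : ℕ} (hq : q.Prime) (hq2 : q ≠ 2) (hxq : x ^ q = 1)
    (hxA : A ≤ closure (Set.range fun a : A => ⁅(a : S), x⁆))
    (W : Submodule k V) (hW : ∀ v, v ∈ W ↔ ∀ s ∈ P, π s v = v) :
    2 ≤ Module.finrank k W ∧ (Module.finrank k W = 2 → ∃ v ∈ W, π x v ∉ W) := by
  classical
  haveI := Fact.mk hq
  obtain ⟨χ, v₀, -, hv₀, hχ⟩ := LinAct.exists_weight π A hA ⊤ top_ne_bot fun _ _ _ _ => trivial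
  -- no weight is fixed by `x`
  have hnofix : ∀ ψ : A →* k, wsp π A ψ ≠ ⊥ → tw A x ψ ≠ ψ := by
    intro ψ hψ hfx
    obtain ⟨v, hv, hv0⟩ := (Submodule.ne_bot_iff _).mp hψ
    refine hv0 (hfix v fun a ha => ?_)
    let K : Subgroup S :=
      { carrier := {g | π g v = v}
        one_mem' := LinAct.rho_one π v
        mul_mem' := fun {g h} hg hh => by
          show π (g * h) v = v
          rw [LinAct.rho_mul, show π h v = v from hh]; exact hg
        inv_mem' := fun {g} hg => by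
          show π g⁻¹ v = v
          conv_lhs => rw [← show π g v = v from hg]
          exact LinAct.rho_inv_apply π g v }
    refine (hxA.trans ((closure_le K).mpr ?_)) ha
    rintro _ ⟨b, rfl⟩
    show π ⁅(b : S), x⁆ v = v
    have h1 : ⁅(b : S), x⁆ = ((b * (MulAut.conjNormal x : MulAut A) b⁻¹ : A) : S) := by
      simp [commutatorElement_def, mul_assoc]
    rw [h1, hv, map_mul]
    have h2 : ψ ((MulAut.conjNormal x : MulAut A) b⁻¹) = ψ b⁻¹ := by
      have h3 := DFunLike.congr_fun hfx ((MulAut.conjNormal x : MulAut A) b⁻¹)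
      rw [← h3]
      show ψ ((MulAut.conjNormal x⁻¹ : MulAut A) ((MulAut.conjNormal x : MulAut A) b⁻¹)) = ψ b⁻¹
      exact congrArg ψ (Subtype.ext (by simp [mul_assoc]))
    rw [h2, ← map_mul, mul_inv_cancel, map_one, one_smul]
  -- orbits
  let orb : (A →* k) → Set (A →* k) := fun ψ => Set.range fun s : P => tw A (s : S) ψ
  have horb : ∀ ψ θ, θ ∈ orb ψ → orb θ = orb ψ := by
    rintro ψ _ ⟨s, rfl⟩
    ext θ
    constructor
    · rintro ⟨t, rfl⟩
      exact ⟨t * s, by show tw A ((t : S) * s) ψ = _; rw [tw_mul]⟩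
    · rintro ⟨t, rfl⟩
      exact ⟨t * s⁻¹, by
        show tw A ((t : S) * (s : S)⁻¹) (tw A (s : S) ψ) = _
        rw [← tw_mul, inv_mul_cancel_right]⟩
  have hself : ∀ ψ, ψ ∈ orb ψ := fun ψ => ⟨1, tw_one A ψ⟩
  have hwne : ∀ (g : S) ψ, wsp π A ψ ≠ ⊥ → wsp π A (tw A g ψ) ≠ ⊥ := by
    intro g ψ h
    obtain ⟨v, hv, hv0⟩ := (Submodule.ne_bot_iff _).mp h
    exact (Submodule.ne_bot_iff _).mpr ⟨π g v, map_wsp π A hv, fun h0 => hv0 (by
      rw [← LinAct.rho_inv_apply π g v, h0, map_zero])⟩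
  have horbne : ∀ ψ, wsp π A ψ ≠ ⊥ → ∀ θ ∈ orb ψ, wsp π A θ ≠ ⊥ := by
    rintro ψ h _ ⟨s, rfl⟩
    exact hwne _ _ h
  -- `x` moves every orbit
  have hmove : ∀ ψ, wsp π A ψ ≠ ⊥ → ¬ ∀ θ ∈ orb ψ, tw A x θ ∈ orb ψ := by
    intro ψ hψ hinv
    let O := orb ψ
    haveI : Finite O := (Set.finite_range _).to_subtype
    let f : Equiv.Perm O := Equiv.ofBijective (fun θ : O => ⟨tw A x θ, hinv θ θ.2⟩)
      (Finite.injective_iff_bijective.mp fun a b h => by
        have h' : tw A x a.1 = tw A x b.1 := congrArg Subtype.val h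
        have h2 := congrArg (tw A x⁻¹) h'
        rw [← tw_mul, ← tw_mul, inv_mul_cancel, tw_one, tw_one] at h2
        exact Subtype.ext h2)
    have hf : ∀ n : ℕ, ∀ θ : O, ((f ^ n) θ).1 = tw A (x ^ n) θ.1 := by
      intro n θ
      induction n with
      | zero => rw [pow_zero, pow_zero, tw_one]; rfl
      | succ n ih =>
        rw [pow_succ', Equiv.Perm.mul_apply, pow_succ', tw_mul, ← ih]
        rfl
    have hfq : f ^ q = 1 := Equiv.ext fun θ => Subtype.ext (by rw [hf, hxq, tw_one]; rfl)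
    have hG : IsPGroup q (zpowers f) := fun a => ⟨1, Subtype.ext (by
      obtain ⟨j, hj⟩ := mem_zpowers_iff.mp a.2
      rw [pow_one, Subgroup.coe_pow, ← hj, ← zpow_natCast, ← zpow_mul, mul_comm, zpow_mul,
        zpow_natCast, hfq, one_zpow, OneMemClass.coe_one])⟩
    have hmod := hG.card_modEq_card_fixedPoints O
    have hnone : MulAction.fixedPoints (zpowers f) O = ∅ := by
      refine Set.eq_empty_of_forall_notMem fun θ hθ => hnofix θ.1 (horbne ψ hψ θ.1 θ.2) ?_
      exact congrArg Subtype.val (hθ ⟨f, mem_zpowers f⟩)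
    have h0 : Nat.card (MulAction.fixedPoints (zpowers f) O) = 0 := by rw [hnone]; simp
    rw [h0] at hmod
    have hqd : q ∣ Nat.card O := Nat.modEq_zero_iff_dvd.mp hmod
    obtain ⟨m, hm⟩ : ∃ m, Nat.card O = 2 ^ m := by
      obtain ⟨n, hn⟩ := hP.exists_card_eq
      let Q : Subgroup P :=
        { carrier := {s | tw A (s : S) ψ = ψ}
          one_mem' := tw_one A ψ
          mul_mem' := fun {a b} ha hb => by
            show tw A ((a : S) * b) ψ = ψ
            rw [tw_mul, show tw A (b : S) ψ = ψ from hb]; exact ha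
          inv_mem' := fun {a} ha => by
            show tw A (a : S)⁻¹ ψ = ψ
            conv_lhs => rw [← show tw A (a : S) ψ = ψ from ha]
            rw [← tw_mul, inv_mul_cancel, tw_one] }
      have hcard : Nat.card O = Q.index := by
        rw [index_eq_card]
        symm
        refine Nat.card_eq_of_bijective (Quotient.lift (fun s : P => (⟨tw A (s : S) ψ, s, rfl⟩ : O))
          fun a b hab => ?_) ⟨?_, ?_⟩
        · have h1 : tw A ((a : S)⁻¹ * b) ψ = ψ := QuotientGroup.leftRel_apply.mp hab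
          refine Subtype.ext ?_
          calc tw A (a : S) ψ = tw A (a : S) (tw A ((a : S)⁻¹ * b) ψ) := by rw [h1]
            _ = tw A (b : S) ψ := by rw [← tw_mul, mul_inv_cancel_left]
        · rintro ⟨a⟩ ⟨b⟩ h
          refine QuotientGroup.eq.mpr ?_
          have h' : tw A (a : S) ψ = tw A (b : S) ψ := congrArg Subtype.val h
          show tw A ((a : S)⁻¹ * b) ψ = ψ
          rw [tw_mul, ← h', ← tw_mul, inv_mul_cancel, tw_one]
        · rintro ⟨_, s, rfl⟩
          exact ⟨QuotientGroup.mk s, rfl⟩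
      obtain ⟨m, -, hm⟩ := (Nat.dvd_prime_pow Nat.prime_two).mp (hn ▸ Q.index_dvd_card)
      exact ⟨m, hcard.trans hm⟩
    rw [hm] at hqd
    exact hq2 ((Nat.prime_dvd_prime_iff_eq hq Nat.prime_two).mp (hq.dvd_of_dvd_pow hqd))
  -- a fixed vector supported on an orbit
  have hvec : ∀ ψ, wsp π A ψ ≠ ⊥ → ∃ v ∈ W, (∀ θ ∈ orb ψ, proj π A θ v ≠ 0) ∧
      ∀ θ ∉ orb ψ, proj π A θ v = 0 := by
    intro ψ hψ
    set U : Submodule k V := ⨆ θ : orb ψ, wsp π A θ.1 with hU
    have hUinv : ∀ s : P, ∀ u ∈ U, π (s : S) u ∈ U := by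
      intro s u hu
      refine (Submodule.map_le_iff_le_comap.mp ?_ : U ≤ U.comap (π (s : S))) hu
      rw [hU, Submodule.map_iSup]
      refine iSup_le fun θ => ?_
      rintro _ ⟨w, hw, rfl⟩
      obtain ⟨t, ht⟩ := θ.2
      refine Submodule.mem_iSup_of_mem (⟨tw A (s : S) θ.1, s * t, ?_⟩ : orb ψ) (map_wsp π A hw)
      show tw A ((s : S) * t) ψ = _
      rw [tw_mul, ← ht]
    let r : P →* Module.End k U :=
      { toFun := fun s => (π (s : S)).restrict (hUinv s)
        map_one' := LinearMap.ext fun u => Subtype.ext (LinAct.rho_one π _)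
        map_mul' := fun s t => LinearMap.ext fun u => Subtype.ext (LinAct.rho_mul π _ _ _) }
    let r' : P →* (U ≃ₗ[k] U) :=
      (LinearMap.GeneralLinearGroup.generalLinearEquiv k U).toMonoidHom.comp r.toHomUnits
    obtain ⟨u₀, hu₀, hu₀0⟩ := (Submodule.ne_bot_iff _).mp hψ
    obtain ⟨w, hw0, hw⟩ := FGS76.Unipotent.exists_fixed_vector (p := 2) hP r' ⊤
      (v := (⟨u₀, Submodule.mem_iSup_of_mem ⟨ψ, hself ψ⟩ hu₀⟩ : U))
      fun h => hu₀0 (congrArg Subtype.val h)
    have hwW : (w : V) ∈ W := (hW _).mpr fun s hs => congrArg Subtype.val (hw ⟨s, hs⟩ (mem_top _))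
    have hout : ∀ θ ∉ orb ψ, proj π A θ (w : V) = 0 := by
      intro θ hθ
      refine (iSup_le (fun φ : orb ψ => fun u hu => ?_) : U ≤ LinearMap.ker (proj π A θ)) w.2
      rw [LinearMap.mem_ker, proj_apply]
      exact (LinAct.proj_weight π θ φ.1 hu).2 fun h => hθ (h ▸ φ.2)
    refine ⟨w, hwW, ?_, hout⟩
    haveI : Fintype (orb ψ) := Fintype.ofFinite _
    have hsum : ∀ u ∈ U, ∑ θ : orb ψ, proj π A θ.1 u = (Nat.card A : k) • u := by
      intro u hu
      refine (iSup_le (fun φ : orb ψ => fun u hu => ?_) :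
        U ≤ LinearMap.ker ((∑ θ : orb ψ, proj π A θ.1) - (Nat.card A : k) • 1)) hu |> fun h => by
          simpa [LinearMap.sum_apply, sub_eq_zero] using h
      rw [LinearMap.mem_ker]
      simp only [LinearMap.sub_apply, LinearMap.sum_apply, LinearMap.smul_apply,
        Module.End.one_apply, sub_eq_zero]
      rw [Finset.sum_eq_single φ, proj_apply]
      · exact (LinAct.proj_weight π φ.1 φ.1 hu).1 rfl
      · intro θ _ hne
        rw [proj_apply]
        exact (LinAct.proj_weight π θ.1 φ.1 hu).2 fun h => hne (Subtype.ext h)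
      · exact fun h => absurd (Finset.mem_univ _) h
    intro θ hθ hθ0
    refine hw0 (Subtype.ext ((smul_eq_zero.mp ((hsum w w.2).symm.trans ?_)).resolve_left hAodd))
    refine Finset.sum_eq_zero fun φ _ => ?_
    obtain ⟨t, ht⟩ : φ.1 ∈ orb θ := by rw [horb ψ θ hθ]; exact φ.2
    rw [← ht, ← show π (t : S) (w : V) = w from (hW _).mp hwW t t.2, proj_equivariant, hθ0,
      map_zero]
  have hψ₀ : wsp π A χ ≠ ⊥ := (Submodule.ne_bot_iff _).mpr ⟨v₀, hχ, hv₀⟩
  obtain ⟨v₁, hv₁W, hv₁, hv₁'⟩ := hvec χ hψ₀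
  obtain ⟨θ, hθ, hθx⟩ := by simpa only [not_forall, exists_prop] using hmove χ hψ₀
  set χ₂ := tw A x θ
  have hψ₂ : wsp π A χ₂ ≠ ⊥ := hwne _ _ (horbne χ hψ₀ θ hθ)
  obtain ⟨v₂, hv₂W, hv₂, hv₂'⟩ := hvec χ₂ hψ₂
  have hdisj : ∀ φ, φ ∈ orb χ → φ ∉ orb χ₂ := fun φ h1 h2 =>
    hθx (by rw [← horb χ φ h1, horb χ₂ φ h2]; exact hself χ₂)
  have hli : LinearIndependent k ![(⟨v₁, hv₁W⟩ : W), ⟨v₂, hv₂W⟩] := by
    refine LinearIndependent.pair_iff.mpr fun a b hab => ?_
    have hab' : a • v₁ + b • v₂ = 0 := congrArg Subtype.val hab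
    have ha := congrArg (proj π A χ) hab'
    have hb := congrArg (proj π A χ₂) hab'
    rw [map_add, map_smul, map_smul, map_zero, hv₂' χ (hdisj χ (hself χ)), smul_zero, add_zero]
      at ha
    rw [map_add, map_smul, map_smul, map_zero, hv₁' χ₂ hθx, smul_zero, zero_add] at hb
    exact ⟨(smul_eq_zero.mp ha).resolve_right (hv₁ χ (hself χ)),
      (smul_eq_zero.mp hb).resolve_right (hv₂ χ₂ (hself χ₂))⟩
  have h2 : 2 ≤ Module.finrank k W := by simpa using hli.fintype_card_le_finrank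
  refine ⟨h2, fun hd => ?_⟩
  by_contra hinv
  push Not at hinv
  have hspan : Submodule.span k (Set.range ![(⟨v₁, hv₁W⟩ : W), ⟨v₂, hv₂W⟩]) = ⊤ :=
    hli.span_eq_top_of_card_eq_finrank (by simp [hd])
  have hWspan : ∀ v ∈ W, ∃ a b : k, a • v₁ + b • v₂ = v := by
    intro v hv
    have h1 : (⟨v, hv⟩ : W) ∈ Submodule.span k ({⟨v₁, hv₁W⟩, ⟨v₂, hv₂W⟩} : Set W) := by
      rw [← Matrix.range_cons_cons_empty, hspan]; trivial
    obtain ⟨a, b, h⟩ := Submodule.mem_span_pair.mp h1
    exact ⟨a, b, congrArg Subtype.val h⟩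
  -- the support of `π x v₁` is the second orbit, that of `π x v₂` the first
  have hsupp : ∀ (v : V) (φ : A →* k), proj π A (tw A x φ) (π x v) ≠ 0 ↔ proj π A φ v ≠ 0 :=
    fun v φ => by
      rw [proj_equivariant]
      exact ⟨fun h h0 => h (by rw [h0, map_zero]), fun h h0 => h (by
        rw [← LinAct.rho_inv_apply π x (proj π A φ v), h0, map_zero])⟩
  have hcardO : ∀ ψ, (orb ψ).Finite := fun ψ => Set.finite_range _
  -- support of a fixed vector
  have hsupW : ∀ v ∈ W, {φ | proj π A φ v ≠ 0} = ∅ ∨ {φ | proj π A φ v ≠ 0} = orb χ ∨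
      {φ | proj π A φ v ≠ 0} = orb χ₂ ∨ {φ | proj π A φ v ≠ 0} = orb χ ∪ orb χ₂ := by
    intro v hv
    obtain ⟨a, b, rfl⟩ := hWspan v hv
    have key : ∀ φ, proj π A φ (a • v₁ + b • v₂) ≠ 0 ↔
        (φ ∈ orb χ ∧ a ≠ 0) ∨ (φ ∈ orb χ₂ ∧ b ≠ 0) := by
      intro φ
      rw [map_add, map_smul, map_smul]
      by_cases h1 : φ ∈ orb χ
      · rw [hv₂' φ (hdisj φ h1), smul_zero, add_zero, smul_ne_zero_iff]
        exact ⟨fun h => Or.inl ⟨h1, h.1⟩, fun h => ⟨(h.resolve_right fun h' =>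
          hdisj φ h1 h'.1).2, hv₁ φ h1⟩⟩
      · rw [hv₁' φ h1, smul_zero, zero_add, smul_ne_zero_iff]
        refine ⟨fun h => Or.inr ⟨by_contra fun h2 => h.2 (hv₂' φ h2), h.1⟩, fun h => ?_⟩
        obtain ⟨h2, hb⟩ := h.resolve_left fun h' => h1 h'.1
        exact ⟨hb, hv₂ φ h2⟩
    by_cases ha : a = 0 <;> by_cases hb : b = 0
    · exact Or.inl (by ext φ; rw [Set.mem_setOf_eq, key]; simp [ha, hb])
    · exact Or.inr (Or.inr (Or.inl (by ext φ; rw [Set.mem_setOf_eq, key]; simp [ha, hb])))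
    · exact Or.inr (Or.inl (by ext φ; rw [Set.mem_setOf_eq, key]; simp [ha, hb]))
    · exact Or.inr (Or.inr (Or.inr (by ext φ; rw [Set.mem_setOf_eq, key]; simp [ha, hb])))
  have htwinj : Function.Injective (tw A x : (A →* k) → (A →* k)) := fun a b h => by
    have h2 := congrArg (tw A x⁻¹) h
    rwa [← tw_mul, ← tw_mul, inv_mul_cancel, tw_one, tw_one] at h2
  have himg : ∀ (ψ : A →* k) (v : V), (∀ φ, φ ∈ orb ψ ↔ proj π A φ v ≠ 0) →
      {φ | proj π A φ (π x v) ≠ 0} = tw A x '' orb ψ := by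
    intro ψ v hv
    ext φ
    have hφ : φ = tw A x (tw A x⁻¹ φ) := by rw [← tw_mul, mul_inv_cancel, tw_one]
    constructor
    · intro h
      rw [Set.mem_setOf_eq, hφ, hsupp, ← hv] at h
      exact ⟨_, h, hφ.symm⟩
    · rintro ⟨φ', h, rfl⟩
      exact (hsupp v φ').mpr ((hv φ').mp h)
  have hs₁ : ∀ φ, φ ∈ orb χ ↔ proj π A φ v₁ ≠ 0 :=
    fun φ => ⟨hv₁ φ, fun h => by_contra fun h1 => h (hv₁' φ h1)⟩
  have hs₂ : ∀ φ, φ ∈ orb χ₂ ↔ proj π A φ v₂ ≠ 0 :=
    fun φ => ⟨hv₂ φ, fun h => by_contra fun h1 => h (hv₂' φ h1)⟩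
  have hne₁ : tw A x '' orb χ ≠ orb χ := fun h =>
    hmove χ hψ₀ fun θ hθ => h ▸ Set.mem_image_of_mem _ hθ
  have hne₂ : tw A x '' orb χ₂ ≠ orb χ₂ := fun h =>
    hmove χ₂ hψ₂ fun θ hθ => h ▸ Set.mem_image_of_mem _ hθ
  have hcard : ∀ s : Set (A →* k), (tw A x '' s).ncard = s.ncard := fun s =>
    Set.ncard_image_of_injective _ htwinj
  have hpos : ∀ ψ, 0 < (orb ψ).ncard := fun ψ => (Set.ncard_pos (hcardO ψ)).mpr ⟨ψ, hself ψ⟩
  have hunion : (orb χ ∪ orb χ₂).ncard = (orb χ).ncard + (orb χ₂).ncard :=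
    Set.ncard_union_eq (Set.disjoint_left.mpr hdisj) (hcardO χ) (hcardO χ₂)
  have e₁ : tw A x '' orb χ = orb χ₂ := by
    rcases hsupW _ (hinv v₁ hv₁W) with h | h | h | h <;> rw [himg χ v₁ hs₁] at h
    · exact absurd h (Set.Nonempty.image _ ⟨χ, hself χ⟩).ne_empty
    · exact absurd h hne₁
    · exact h
    · have := hcard (orb χ); rw [h, hunion] at this; have := hpos χ₂; omega
  have e₂ : tw A x '' orb χ₂ = orb χ := by
    rcases hsupW _ (hinv v₂ hv₂W) with h | h | h | h <;> rw [himg χ₂ v₂ hs₂] at h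
    · exact absurd h (Set.Nonempty.image _ ⟨χ₂, hself χ₂⟩).ne_empty
    · exact h
    · exact absurd h hne₂
    · have := hcard (orb χ₂); rw [h, hunion] at this; have := hpos χ; omega
  have heven : ∀ n : ℕ, tw A (x ^ (2 * n)) '' orb χ = orb χ := by
    intro n
    induction n with
    | zero => simp [tw_one]
    | succ n ih =>
      rw [show x ^ (2 * (n + 1)) = x * (x * x ^ (2 * n)) by
        rw [← pow_succ', ← pow_succ', show 2 * (n + 1) = 2 * n + 1 + 1 by ring]]
      simp only [tw_mul]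
      rw [show (fun φ => tw A x (tw A x (tw A (x ^ (2 * n)) φ))) =
        tw A x ∘ tw A x ∘ tw A (x ^ (2 * n)) from rfl, Set.image_comp, Set.image_comp, ih, e₁, e₂]
  obtain ⟨n, hn⟩ := hq.odd_of_ne_two hq2
  have h := heven (n + 1)
  rw [show 2 * (n + 1) = q + 1 by omega, pow_succ, hxq, one_mul] at h
  exact hne₁ h

end Weights

/-- The group-theoretic statement. -/
theorem fixed_points {S : Type*} [Group S] [Finite S] {p q : ℕ} [hp : Fact p.Prime]
    [hq : Fact q.Prime] (hp2 : p ≠ 2) (hq2 : q ≠ 2) (A P B : Subgroup S) [A.Normal]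
    (hA : IsMulCommutative A) (hAp : IsPGroup p A) (hA1 : A ≠ ⊥) (hP : IsPGroup 2 P)
    (hB : Nat.card B = q) (hAB : ⁅A, B⁆ = A) {E : Type*} [AddCommGroup E] [Module (ZMod 2) E]
    [Finite E] (ρ : Representation (ZMod 2) S E)
    (hirr : ∀ N : Submodule (ZMod 2) E, (∀ s : S, ∀ m ∈ N, ρ s m ∈ N) → N = ⊥ ∨ N = ⊤)
    (hfaith : ∀ x ∈ A, ρ x = 1 → x = 1) :
    8 ≤ Nat.card {v : E // ∀ s ∈ P, ρ s v = v} ∨
      (Nat.card {v : E // ∀ s ∈ P, ρ s v = v} = 4 ∧
        ∃ x ∈ B, ∃ v : E, (∀ s ∈ P, ρ s v = v) ∧ ¬ ∀ s ∈ P, ρ s (ρ x v) = ρ x v) := by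
  classical
  haveI : Fintype A := Fintype.ofFinite A
  -- no fixed vectors
  let F₀ : Submodule (ZMod 2) E :=
    { carrier := {v | ∀ a ∈ A, ρ a v = v}
      zero_mem' := fun a _ => map_zero _
      add_mem' := fun {x y} hx hy a ha => by rw [map_add, hx a ha, hy a ha]
      smul_mem' := fun c x hx a ha => by rw [map_smul, hx a ha] }
  have hF₀ : F₀ = ⊥ := by
    refine (hirr F₀ fun s m hm a ha => ?_).resolve_right fun h => hA1 ?_
    · rw [← LinAct.rho_mul, show a * s = s * (s⁻¹ * a * s) by group, LinAct.rho_mul,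
        hm _ ((inferInstance : A.Normal).conj_mem' a ha s)]
    · exact (eq_bot_iff_forall A).mpr fun a ha => hfaith a ha
        (LinearMap.ext fun v => (show v ∈ F₀ from h ▸ trivial) a ha)
  let k := AlgebraicClosure (ZMod 2)
  let π : S →* Module.End k (k ⊗[ZMod 2] E) :=
    (Module.End.baseChangeHom (ZMod 2) k E).toRingHom.toMonoidHom.comp ρ
  have hπ : ∀ s, π s = (ρ s).baseChange k := fun s => rfl
  have hπfix : ∀ v : k ⊗[ZMod 2] E, (∀ a ∈ A, π a v = v) → v = 0 := by
    intro v hv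
    have h1 := fixed_le_span (fun a : A => ρ (a : S)) v fun a => hv a a.2
    have h2 : {e : E | ∀ a : A, ρ (a : S) e = e} ⊆ {0} := fun e he =>
      (Submodule.mem_bot (ZMod 2)).mp (hF₀ ▸ (fun a ha => he ⟨a, ha⟩ : e ∈ F₀))
    have h3 := Submodule.span_mono (R := k) (Set.image_mono h2) h1
    simpa using h3
  obtain ⟨x, hx⟩ := (isCyclic_of_prime_card hB).exists_generator
  have hxq : (x : S) ^ q = 1 := by
    have h := pow_card_eq_one' (x := x)
    rw [hB] at h
    exact congrArg Subtype.val h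
  have hcomm : ∀ a ∈ A, ∀ b ∈ A, a * b = b * a := fun a ha b hb =>
    congrArg Subtype.val (mul_comm' (⟨a, ha⟩ : A) ⟨b, hb⟩)
  have hgen : A ≤ closure (Set.range fun a : A => ⁅(a : S), (x : S)⁆) := by
    set K := closure (Set.range fun a : A => ⁅(a : S), (x : S)⁆)
    have key : ∀ (n : ℕ) (a : A), ⁅(a : S), (x : S) ^ n⁆ ∈ K := by
      intro n
      induction n with
      | zero => intro a; rw [pow_zero, commutatorElement_one_right]; exact one_mem _
      | succ n ih =>
        intro a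
        have hb : (x : S) ^ n * a * ((x : S) ^ n)⁻¹ ∈ A :=
          (inferInstance : A.Normal).conj_mem _ a.2 _
        rw [pow_succ, commutatorElement_mul_right_eq_mul_conj, mul_assoc _ ((x : S) ^ n),
          mul_assoc]
        refine mul_mem (ih a) (subset_closure ⟨(⟨_, hb⟩ : A), ?_⟩)
        have hxn : Commute ((x : S) ^ n) (x : S) := (Commute.refl _).pow_left n
        show ⁅(x : S) ^ n * a * ((x : S) ^ n)⁻¹, (x : S)⁆ = _
        have h := map_commutatorElement (MulAut.conj ((x : S) ^ n)) (a : S) (x : S)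
        rw [MulAut.conj_apply, MulAut.conj_apply, MulAut.conj_apply,
          show (x : S) ^ n * x * ((x : S) ^ n)⁻¹ = x by rw [hxn.eq, mul_inv_cancel_right]] at h
        exact h.symm
    refine hAB.ge.trans (commutator_le.mpr fun a ha b hb => ?_)
    obtain ⟨n, hn⟩ := (mem_powers_iff_mem_zpowers (x := x)).mpr (hx ⟨b, hb⟩)
    rw [show b = (x : S) ^ n from (congrArg Subtype.val hn).symm]
    exact key n ⟨a, ha⟩
  let W : Submodule k (k ⊗[ZMod 2] E) :=
    { carrier := {v | ∀ s ∈ P, π s v = v}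
      zero_mem' := fun s _ => map_zero _
      add_mem' := fun {a b} ha hb s hs => by rw [map_add, ha s hs, hb s hs]
      smul_mem' := fun c a ha s hs => by rw [map_smul, ha s hs] }
  let E₀ : Submodule (ZMod 2) E :=
    { carrier := {v | ∀ s ∈ P, ρ s v = v}
      zero_mem' := fun s _ => map_zero _
      add_mem' := fun {a b} ha hb s hs => by rw [map_add, ha s hs, hb s hs]
      smul_mem' := fun c a ha s hs => by rw [map_smul, ha s hs] }
  haveI : Nontrivial E := by
    by_contra hnt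
    rw [not_nontrivial_iff_subsingleton] at hnt
    exact hA1 ((eq_bot_iff_forall A).mpr fun a ha => hfaith a ha
      (LinearMap.ext fun v => Subsingleton.elim _ _))
  haveI : Nontrivial (k ⊗[ZMod 2] E) :=
    (TensorProduct.comm (ZMod 2) E k).toEquiv.symm.nontrivial
  have hAodd : (Nat.card A : k) ≠ 0 := by
    obtain ⟨n, hn⟩ := hAp.exists_card_eq
    rw [hn, Nat.cast_pow]
    refine pow_ne_zero _ fun h => hp2 ?_
    exact (Nat.prime_dvd_prime_iff_eq Nat.prime_two hp.out).mp ((CharP.cast_eq_zero_iff k 2 p).mp h) |>.symm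
  haveI : CharP k 2 := charP_of_injective_algebraMap (algebraMap (ZMod 2) k).injective 2
  obtain ⟨hd2, hd⟩ := two_fixed π A hcomm hAodd hπfix hP hq.out hq2 hxq hgen W fun v => Iff.rfl
  have hWspan : W ≤ Submodule.span k ((fun e : E => (1 : k) ⊗ₜ[ZMod 2] e) '' (E₀ : Set E)) := by
    intro v hv
    refine Submodule.span_mono (Set.image_mono (s := {e | ∀ s : P, ρ (s : S) e = e}) fun e he s hs => he ⟨s, hs⟩)
      (fixed_le_span (fun s : P => ρ (s : S)) v fun s => hv s s.2)
  set b := Module.finBasis (ZMod 2) E₀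
  have hle : Module.finrank k W ≤ Module.finrank (ZMod 2) E₀ := by
    refine (Submodule.finrank_mono (hWspan.trans ?_)).trans
      ((finrank_range_le_card (R := k) fun i => (1 : k) ⊗ₜ[ZMod 2] (b i : E)).trans
        (by rw [Fintype.card_fin]))
    rw [Submodule.span_le]
    rintro _ ⟨e, he, rfl⟩
    show (1 : k) ⊗ₜ[ZMod 2] e ∈ _
    rw [show e = ((∑ i, b.repr ⟨e, he⟩ i • b i : E₀) : E) by rw [b.sum_repr],
      Submodule.coe_sum, TensorProduct.tmul_sum]
    refine Submodule.sum_mem _ fun i _ => ?_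
    rw [Submodule.coe_smul, TensorProduct.tmul_smul, ← algebraMap_smul k (b.repr ⟨e, he⟩ i)]
    exact Submodule.smul_mem _ _ (Submodule.subset_span ⟨i, rfl⟩)
  have hcard : Nat.card {v : E // ∀ s ∈ P, ρ s v = v} = 2 ^ Module.finrank (ZMod 2) E₀ := by
    rw [show Nat.card {v : E // ∀ s ∈ P, ρ s v = v} = Nat.card E₀ from rfl,
      Module.natCard_eq_pow_finrank (K := ZMod 2), Nat.card_zmod]
  rcases lt_or_ge 2 (Module.finrank (ZMod 2) E₀) with h | h
  · left
    rw [hcard]
    exact Nat.pow_le_pow_right (n := 2) (by norm_num) (show 3 ≤ _ from h)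
  · right
    have he : Module.finrank (ZMod 2) E₀ = 2 := le_antisymm h (hd2.trans hle)
    refine ⟨by rw [hcard, he]; norm_num, (x : S), x.2, ?_⟩
    by_contra hcon
    push Not at hcon
    obtain ⟨v, hv, hxv⟩ := hd (le_antisymm (hle.trans he.le) hd2)
    refine hxv fun s hs => ?_
    have hsp := hWspan hv
    clear hv hxv
    induction hsp using Submodule.span_induction with
    | mem w hw =>
      obtain ⟨e, he, rfl⟩ := hw
      rw [hπ, hπ, LinearMap.baseChange_tmul, LinearMap.baseChange_tmul, hcon e he s hs]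
    | zero => simp
    | add a b _ _ ha hb => rw [map_add, map_add, ha, hb]
    | smul c a _ ha => rw [map_smul, map_smul, ha]

end Cfsg.Agent.TwoPointFixed
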