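import Cfsg.Statements.S4416
import Cfsg.Agent.FGS82.ExtraTwo

set_option autoImplicit false
open Cfsg

namespace Cfsg.Agent.S4416

/-- Classification of extraspecial 2-groups in intrinsic form. An extraspecial 2-group has order 2^(2m+1) for some m ≥ 1, and the number of its elements squaring to the identity is either 2^(2m) + 2^m or 2^(2m) − 2^m; two extraspecial 2-groups of the same order with the same number of such elements are isomorphic. (The two cases are the central products of m dihedral groups of order 8, and of m − 1 dihedral groups with one quaternion group.) -/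
theorem result (E : Type*) [Group E] [Finite E] (hE : Cfsg.IsExtraspecial 2 E) :
    (∃ m : ℕ, 1 ≤ m ∧ Nat.card E = 2 ^ (2 * m + 1) ∧
      (Nat.card {x : E // x ^ 2 = 1} = 2 ^ (2 * m) + 2 ^ m ∨ Nat.card {x : E // x ^ 2 = 1} = 2 ^ (2 * m) - 2 ^ m)) ∧
    ∀ (E' : Type*) [Group E'] [Finite E'], Cfsg.IsExtraspecial 2 E' → Nat.card E' = Nat.card E →
      Nat.card {x : E' // x ^ 2 = 1} = Nat.card {x : E // x ^ 2 = 1} → Nonempty (E ≃* E') := by
  obtain ⟨z, D⟩ := FGS82.exists_qdata hE
  have hn : ∀ (H : Type _) [Group H], Nat.card {x : H // x ^ 2 = 1} = FGS82.nsq H := fun H _ =>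
    Nat.card_congr (Equiv.subtypeEquivRight fun x => by rw [pow_two])
  refine ⟨?_, fun E' _ _ hE' hcard hns => ?_⟩
  · obtain ⟨m, hm, hc⟩ := FGS82.counts _ D le_rfl
    refine ⟨m, ?_, hm, ?_⟩
    · rcases Nat.eq_zero_or_pos m with rfl | h
      · exfalso
        have h2 : Nat.card E = 2 := by simpa using hm
        have htop : Subgroup.center E = ⊤ := Subgroup.eq_top_of_card_eq _ (by rw [hE.2, h2])
        have hbot : commutator E = ⊥ := by
          rw [commutator_def, eq_bot_iff, Subgroup.commutator_le]
          intro a _ b _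
          rw [Subgroup.mem_bot, commutatorElement_eq_one_iff_mul_comm]
          exact (Subgroup.mem_center_iff.1 (htop ▸ Subgroup.mem_top a) b).symm
        have := hE.1.2.2
        rw [hbot] at this
        have h1 := hE.2
        rw [← this, Subgroup.card_bot] at h1
        omega
      · exact h
    · rw [hn]
      rcases hc with h | h
      · left; exact_mod_cast h
      · right
        have hle : 2 ^ m ≤ 2 ^ (2 * m) := Nat.pow_le_pow_right (by norm_num) (by omega)
        rw [← Nat.cast_inj (R := ℤ), Nat.cast_sub hle]
        exact_mod_cast h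
  · obtain ⟨z', D'⟩ := FGS82.exists_qdata hE'
    obtain ⟨e, -⟩ := FGS82.determined _ D D' le_rfl hcard (by
      have h' : Nat.card {x : E' // x ^ 2 = 1} = FGS82.nsq E' :=
        Nat.card_congr (Equiv.subtypeEquivRight fun x => by rw [pow_two])
      rw [← h', hns, hn])
    exact ⟨e⟩

end Cfsg.Agent.S4416
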