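import Cfsg.Statements.S4417
import Cfsg.Agent.FGS82.LinearDerivedLength

set_option autoImplicit false
open Cfsg

namespace Cfsg.Agent.S4417

/-- Let F be a field with q elements, p a prime not dividing q, and e the multiplicative order of q modulo p; assume e ≤ n. Then every p-subgroup of GL_n(F) has derived length at most ⌊log₂(n/e)⌋ + 1: that term of its derived series is trivial (n/e is the integer quotient). -/
theorem result {F : Type*} [Field F] [Fintype F] (q : ℕ) (hF : Fintype.card F = q) (p : ℕ) [Fact p.Prime] (hpq : ¬ p ∣ q) (n e : ℕ) (he : e = orderOf (q : ZMod p)) (hen : e ≤ n) (P : Subgroup (GL (Fin n) F)) (hP : IsPGroup p P) : derivedSeries ↥P (Nat.log 2 (n / e) + 1) = ⊥ := by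
  have hp : (p : F) ≠ 0 := by
    intro h
    obtain ⟨r, hr⟩ := CharP.exists F
    haveI := hr
    obtain ⟨m, hrp, hm⟩ := FiniteField.card F r
    rw [CharP.cast_eq_zero_iff F r] at h
    refine hpq ?_
    rw [← hF, hm, ← (Nat.prime_dvd_prime_iff_eq hrp Fact.out).1 h]
    exact dvd_pow_self r m.ne_zero
  let θ : GL (Fin n) F →* ((Fin n → F) ≃ₗ[F] (Fin n → F)) :=
    (LinearMap.GeneralLinearGroup.generalLinearEquiv F (Fin n → F)).toMonoidHom.comp
      Matrix.GeneralLinearGroup.toLin.toMonoidHom
  have hθ : Function.Injective θ :=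
    (LinearMap.GeneralLinearGroup.generalLinearEquiv F (Fin n → F)).injective.comp
      Matrix.GeneralLinearGroup.toLin.injective
  have h := FGS82.LinDL.main (p := p) hp (e := e) (by rw [he, hF]) n (θ.comp P.subtype)
    (Module.finrank_fin_fun F) hP
  rw [eq_bot_iff]
  intro g hg
  rw [Subgroup.mem_bot]
  refine Subtype.ext (hθ ?_)
  rw [Subgroup.coe_one, map_one]
  exact LinearEquiv.ext fun v => h g hg v

end Cfsg.Agent.S4417
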