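import Cfsg.Statements.S4419
import Cfsg.Agent.Lib.Transfer.Frobenius
import Cfsg.Agent.Lib.Coprime.Action
import Cfsg.Agent.Lib.Thompson.Cores
import Cfsg.Agent.Lib.PGroup.Basic
import Cfsg.Agent.OddLocal43.MetacyclicAction

set_option autoImplicit false
open Cfsg

namespace Cfsg.Agent.S4419

open Subgroup in
theorem aut_eq_one_of_card {p : ℕ} [Fact p.Prime] {W : Type*} [Group W] [Finite W]
    (hW : Nat.card W ∣ p ^ 2) {q : ℕ} (hq : q.Prime) (hqp : q ≠ p) (hd : ¬ q ∣ p ^ 2 - 1)
    (φ : MulAut W) {k : ℕ} (hφ : φ ^ q ^ k = 1) (w : W) : φ w = w := by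
  have hp := (Fact.out : p.Prime)
  haveI := Fact.mk hq
  have hQ : IsPGroup q (Subgroup.zpowers φ) := by
    obtain ⟨j, -, hj⟩ := (Nat.dvd_prime_pow hq).1 (orderOf_dvd_of_pow_eq_one hφ)
    exact IsPGroup.of_card (n := j) (by rw [Nat.card_zpowers, hj])
  let C : Subgroup W :=
    { carrier := {x | φ x = x}
      one_mem' := map_one φ
      mul_mem' := fun {a b} (ha : φ a = a) (hb : φ b = b) => by
        show φ (a * b) = a * b
        rw [map_mul, ha, hb]
      inv_mem' := fun {a} (ha : φ a = a) => by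
        show φ a⁻¹ = a⁻¹
        rw [map_inv, ha] }
  have hfix : MulAction.fixedPoints (Subgroup.zpowers φ) W = (C : Set W) := by
    ext x
    constructor
    · exact fun hx => hx ⟨φ, Subgroup.mem_zpowers φ⟩
    · rintro hx ⟨ψ, hψ⟩
      have : φ ∈ MulAction.stabilizer (MulAut W) x := hx
      exact (Subgroup.zpowers_le.mpr this) hψ
  have hmod := hQ.card_modEq_card_fixedPoints W
  rw [hfix] at hmod
  obtain ⟨n, hn2, hn⟩ := (Nat.dvd_prime_pow hp).1 hW
  obtain ⟨j, hjn, hj⟩ : ∃ j ≤ n, Nat.card C = p ^ j :=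
    (Nat.dvd_prime_pow hp).1 (hn ▸ Subgroup.card_subgroup_dvd_card C)
  have hC : Nat.card (C : Set W) = p ^ j := hj
  rw [hC, hn] at hmod
  have hdvd : q ∣ p ^ n - p ^ j :=
    (Nat.modEq_iff_dvd' (Nat.pow_le_pow_right hp.pos hjn)).1 hmod.symm
  rcases Nat.eq_or_lt_of_le hjn with hjn' | hjn'
  · have htop : C = ⊤ := Subgroup.eq_top_of_card_eq C (by rw [hj, hjn', hn])
    exact (htop ▸ Subgroup.mem_top w : w ∈ C)
  · exfalso
    have hsplit : p ^ n - p ^ j = p ^ j * (p ^ (n - j) - 1) := by
      rw [Nat.mul_sub, ← pow_add, Nat.add_sub_cancel' hjn'.le, mul_one]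
    rw [hsplit] at hdvd
    rcases hq.dvd_mul.1 hdvd with h1 | h1
    · exact hqp ((Nat.prime_dvd_prime_iff_eq hq hp).1 (hq.dvd_of_dvd_pow h1))
    · have : n - j = 1 ∨ n - j = 2 := by omega
      rcases this with h | h <;> rw [h] at h1
      · exact hd (h1.trans (by simpa using Nat.pow_sub_one_dvd_pow_sub_one p (one_dvd 2)))
      · exact hd h1

theorem mem_centralizer_of_metacyclic {p : ℕ} [Fact p.Prime] {G : Type*} [Group G] [Finite G]
    {Q : Subgroup G} (hQm : Cfsg.IsMetacyclic Q) (hQ : IsPGroup p Q) {q : ℕ} (hq : q.Prime)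
    (hqp : q ≠ p) (hd : ¬ q ∣ p ^ 2 - 1) {x : G} {k : ℕ} (hx : orderOf x = q ^ k)
    (hxN : x ∈ Subgroup.normalizer (Q : Set G)) : x ∈ Subgroup.centralizer (Q : Set G) := by
  have hp := (Fact.out : p.Prime)
  let π := QuotientGroup.mk' (frattini Q)
  have hW : Nat.card (Q ⧸ frattini Q) ∣ p ^ 2 := by
    obtain ⟨a, b, hab, -⟩ := Cfsg.Agent.OddLocal43.exists_generators_of_isMetacyclic hQm
    have hc := Cfsg.Agent.PGroup.quotient_frattini_commute hQ
    haveI : (Subgroup.zpowers (π b)).Normal := ⟨fun n hn g => by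
      rwa [(hc g n).eq, mul_inv_cancel_right]⟩
    have htop : Subgroup.zpowers (π a) ⊔ Subgroup.zpowers (π b) = ⊤ := by
      rw [Subgroup.zpowers_eq_closure, Subgroup.zpowers_eq_closure, ← Subgroup.closure_union]
      have := congrArg (Subgroup.map π) hab
      rw [MonoidHom.map_closure, ← MonoidHom.range_eq_map,
        MonoidHom.range_eq_top.2 (QuotientGroup.mk'_surjective _), Set.image_pair] at this
      exact this
    have hord : ∀ z, orderOf (π z) ∣ p := fun z =>
      orderOf_dvd_of_pow_eq_one (Cfsg.Agent.PGroup.quotient_frattini_pow hQ _)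
    calc Nat.card (Q ⧸ frattini Q) = Nat.card (⊤ : Subgroup (Q ⧸ frattini Q)) := Subgroup.card_top.symm
      _ ∣ Nat.card (Subgroup.zpowers (π a)) * Nat.card (Subgroup.zpowers (π b)) := by
          rw [← htop]
          exact Cfsg.Agent.Thompson.card_sup_dvd_mul _ _
      _ ∣ p * p := by
          rw [Nat.card_zpowers, Nat.card_zpowers]
          exact mul_dvd_mul (hord a) (hord b)
      _ = p ^ 2 := (pow_two p).symm
  let φ : MulAut Q := Subgroup.normalizerMonoidHom Q ⟨x, hxN⟩
  have hchar : (frattini Q).map φ.toMonoidHom = frattini Q :=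
    Subgroup.characteristic_iff_map_eq.1 inferInstance φ
  let ψ : MulAut (Q ⧸ frattini Q) := QuotientGroup.congr (frattini Q) (frattini Q) φ hchar
  have hψ : ∀ (n : ℕ) (z : Q), (ψ ^ n) (π z) = π ((φ ^ n) z) := by
    intro n
    induction n with
    | zero => intro z; rfl
    | succ n ih => intro z; rw [pow_succ, pow_succ, MulAut.mul_apply, MulAut.mul_apply]; exact ih (φ z)
  have hφk : φ ^ q ^ k = 1 := by
    show Subgroup.normalizerMonoidHom Q ⟨x, hxN⟩ ^ q ^ k = 1
    rw [← map_pow]
    have : (⟨x, hxN⟩ : Subgroup.normalizer (Q : Set G)) ^ q ^ k = 1 :=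
      Subtype.ext (by rw [SubmonoidClass.coe_pow, ← hx]; exact pow_orderOf_eq_one x)
    rw [this, map_one]
  have hψk : ψ ^ q ^ k = 1 := MulEquiv.ext fun w => by
    obtain ⟨z, rfl⟩ := QuotientGroup.mk'_surjective _ w
    rw [hψ, hφk]; rfl
  have hfix : ∀ z : Q, π (φ z) = π z := fun z => by
    have := hψ 1 z
    rw [pow_one, pow_one] at this
    rw [← this]
    exact aut_eq_one_of_card hW hq hqp hd ψ hψk (π z)
  refine Cfsg.Agent.Coprime.le_centralizer_of_frattini (Subgroup.zpowers x) Q
    (Subgroup.zpowers_le.2 hxN) ?_ ?_ (Subgroup.mem_zpowers x)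
  · rw [Nat.card_zpowers, hx]
    obtain ⟨n, hn⟩ := IsPGroup.iff_card.1 (hQ.to_subgroup (frattini Q))
    rw [hn]
    exact Nat.Coprime.pow _ _ ((Nat.coprime_primes hq hp).2 hqp)
  · intro a ha z hz
    obtain ⟨m, rfl⟩ := (Submonoid.mem_powers_iff _ _).1 ((mem_powers_iff_mem_zpowers).2 ha)
    have h1 : π ((φ ^ m) ⟨z, hz⟩) = π ⟨z, hz⟩ := by
      clear ha
      induction m with
      | zero => rfl
      | succ m ih => rw [pow_succ', MulAut.mul_apply, hfix, ih]
    have h2 : ((φ ^ m) ⟨z, hz⟩) * (⟨z, hz⟩ : Q)⁻¹ ∈ frattini Q := by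
      rw [← QuotientGroup.eq_one_iff]
      show π _ = 1
      rw [map_mul, map_inv, h1, mul_inv_cancel]
    refine ⟨_, h2, ?_⟩
    have h3 : ((φ ^ m) ⟨z, hz⟩ : Q).1 = x ^ m * z * (x ^ m)⁻¹ := by
      show ((Subgroup.normalizerMonoidHom Q ⟨x, hxN⟩ ^ m) ⟨z, hz⟩).1 = _
      rw [← map_pow]
      rfl
    show ((φ ^ m) ⟨z, hz⟩ : Q).1 * z⁻¹ = _
    rw [h3]


/-- Let p be a prime and G a finite group whose Sylow p-subgroups are metacyclic (a cyclic normal subgroup with cyclic quotient). Then G has a normal p-complement if and only if the order of G/O_{p′,p}(G) is coprime to p² − 1. -/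
theorem result {G : Type*} [Group G] [Finite G] (p : ℕ) [Fact p.Prime] (S : Sylow p G) (hS : Cfsg.IsMetacyclic ↥(S : Subgroup G)) : Cfsg.HasNormalPComplement p G ↔ Nat.Coprime (Nat.card (G ⧸ Cfsg.pPrimePCore p G)) (p ^ 2 - 1) := by
  classical
  have hp := (Fact.out : p.Prime)
  haveI : (pPrimeCore p G).Normal := Cfsg.Agent.Thompson.instPPrimeCoreNormal
  have hcard : Nat.card (G ⧸ Cfsg.pPrimePCore p G) = (pPrimePCore p G).index := rfl
  rw [hcard]
  constructor
  · intro h
    have hle : pResidual p G ≤ pPrimeCore p G := by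
      refine Cfsg.Agent.Thompson.le_pPrimeCore Cfsg.Agent.Transfer.pResidual_normal ?_
      rw [Nat.coprime_comm, hp.coprime_iff_not_dvd]
      intro hd
      haveI := Fintype.ofFinite G
      obtain ⟨x, hx⟩ := exists_prime_orderOf_dvd_card' (G := pResidual p G) p hd
      have := (Cfsg.Agent.Transfer.mem_pResidual_iff_coprime h).1 x.2
      rw [Subgroup.orderOf_coe, hx] at this
      exact hp.one_lt.ne' ((Nat.coprime_self p).1 this)
    have hPG : IsPGroup p (G ⧸ pPrimeCore p G) :=
      Cfsg.Agent.Transfer.isPGroup_quotient_of_pResidual_le hle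
    have htop : pPrimePCore p G = ⊤ := by
      unfold pPrimePCore
      rw [Cfsg.Agent.Thompson.pCore_eq_top_iff.2 hPG, Subgroup.comap_top]
    rw [htop, Subgroup.index_top]
    exact Nat.coprime_one_left _
  · intro hcop
    haveI hN : (pPrimePCore p G).Normal := by
      unfold pPrimePCore
      haveI : (pCore p (G ⧸ pPrimeCore p G)).Normal := Cfsg.Agent.Thompson.instPCoreNormal
      infer_instance
    refine Cfsg.Agent.Transfer.hasNormalPComplement_of_normalizer_centralizer S ?_
    intro Q hQS _ g hgN hgp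
    have key : ∀ q : ℕ, q.Prime → q ≠ p → ∀ x : G, ∀ k : ℕ, orderOf x = q ^ k →
        x ∈ Subgroup.normalizer (Q : Set G) → x ∈ Subgroup.centralizer (Q : Set G) := by
      intro q hq hqp x k hxk hxN
      by_cases hxO : x ∈ pPrimeCore p G
      · rw [Subgroup.mem_centralizer_iff]
        intro y hy
        have h1 : y * x * y⁻¹ * x⁻¹ ∈ pPrimeCore p G :=
          mul_mem (Subgroup.Normal.conj_mem inferInstance x hxO y) (inv_mem hxO)
        have h2 : y * x * y⁻¹ * x⁻¹ ∈ Q := by
          have := (Subgroup.mem_normalizer_iff.1 hxN y⁻¹).1 (Q.inv_mem hy)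
          simpa [mul_assoc] using Q.mul_mem hy this
        have h3 := (Cfsg.Agent.Thompson.inf_eq_bot_of_isPGroup_of_coprime (S.2.to_le hQS)
          (Cfsg.Agent.Thompson.card_pPrimeCore_coprime (p := p) (G := G))).le ⟨h2, h1⟩
        rw [Subgroup.mem_bot, mul_inv_eq_one, mul_inv_eq_iff_eq_mul] at h3
        exact h3
      · by_cases hqd : q ∣ (pPrimePCore p G).index
        · refine mem_centralizer_of_metacyclic
            (Cfsg.Agent.OddLocal43.isMetacyclic_of_le hQS hS) (S.2.to_le hQS) hq hqp ?_ hxk hxN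
          intro hd
          have := Nat.dvd_gcd hqd hd
          rw [hcop.gcd_eq_one, Nat.dvd_one] at this
          exact hq.one_lt.ne' this
        · exfalso
          have hxM : x ∈ pPrimePCore p G := by
            rw [← QuotientGroup.eq_one_iff, ← orderOf_eq_one_iff]
            obtain ⟨j, -, hj⟩ := (Nat.dvd_prime_pow hq).1
              (hxk ▸ orderOf_map_dvd (QuotientGroup.mk' (pPrimePCore p G)) x)
            have hd : q ^ j ∣ (pPrimePCore p G).index := by
              rw [← hj, Subgroup.index_eq_card]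
              exact orderOf_dvd_natCard _
            cases j with
            | zero => simpa using hj
            | succ j => exact absurd ((dvd_pow_self q (Nat.succ_ne_zero j)).trans hd) hqd
          have hxm : QuotientGroup.mk' (pPrimeCore p G) x ∈ pCore p (G ⧸ pPrimeCore p G) := hxM
          have hone : QuotientGroup.mk' (pPrimeCore p G) x = 1 := by
            refine Cfsg.Agent.Transfer.eq_one_of_coprime_of_mem Cfsg.Agent.Thompson.isPGroup_pCore hxm ?_
            exact Nat.Coprime.coprime_dvd_left (orderOf_map_dvd _ x)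
              (by rw [hxk]; exact Nat.Coprime.pow_left k ((Nat.coprime_primes hq hp).2 hqp))
          exact hxO ((QuotientGroup.eq_one_iff x).1 hone)
    have htop : ((Subgroup.centralizer (Q : Set G)).subgroupOf (Subgroup.zpowers g)) = ⊤ := by
      refine Cfsg.Agent.Transfer.eq_top_of_prime_pow_orderOf_mem fun q hq x ⟨k, hk⟩ => ?_
      rw [Subgroup.mem_subgroupOf]
      rw [← Subgroup.orderOf_coe] at hk
      rcases Nat.eq_zero_or_pos k with rfl | hk0
      · rw [pow_zero, orderOf_eq_one_iff] at hk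
        rw [hk]; exact one_mem _
      refine key q hq ?_ x k hk ((Subgroup.zpowers_le.2 hgN) x.2)
      rintro rfl
      have hd : orderOf (x : G) ∣ orderOf g := orderOf_dvd_of_mem_zpowers x.2
      have hone := (Nat.Coprime.coprime_dvd_left hd hgp)
      rw [hk, Nat.coprime_pow_left_iff hk0] at hone
      exact hq.one_lt.ne' ((Nat.coprime_self q).1 hone)
    exact Subgroup.subgroupOf_eq_top.1 htop (Subgroup.mem_zpowers g)

end Cfsg.Agent.S4419
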