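import Cfsg.Statements.S4420
-- import your own Cfsg.Agent.* helpers here

set_option autoImplicit false
open Cfsg

namespace Cfsg.Agent.S4420

/-- Structure of groups in which every element outside some proper subgroup has square 1. Let H be a finite group with a proper subgroup A such that every element outside A has square 1. Then H has an abelian normal subgroup B of index 2 such that every element outside B is an involution inverting every element of B; and if H is not an elementary abelian 2-group, B is the only abelian normal subgroup of index 2 with this property. -/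
theorem result {H : Type*} [Group H] [Finite H] (A : Subgroup H) (hA : A ≠ ⊤) (hD : ∀ x : H, x ∉ A → x ^ 2 = 1) :
    ∃ B : Subgroup H, B.Normal ∧ IsMulCommutative ↥B ∧ B.index = 2 ∧
      (∀ x : H, x ∉ B → x ^ 2 = 1 ∧ ∀ b ∈ B, x * b * x⁻¹ = b⁻¹) ∧
      (¬ (IsMulCommutative H ∧ ∀ x : H, x ^ 2 = 1) →
        ∀ B' : Subgroup H, B'.Normal → IsMulCommutative ↥B' → B'.index = 2 →
          (∀ x : H, x ∉ B' → x ^ 2 = 1 ∧ ∀ b ∈ B', x * b * x⁻¹ = b⁻¹) → B' = B) := by
  classical
  obtain ⟨t, ht⟩ : ∃ t, t ∉ A := by
    by_contra h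
    push Not at h
    exact hA ((Subgroup.eq_top_iff' A).2 h)
  have inv_self : ∀ x : H, x ^ 2 = 1 → x⁻¹ = x := fun x hx =>
    inv_eq_of_mul_eq_one_right (by rw [← pow_two, hx])
  have hinv : ∀ x, x ∉ A → ∀ a ∈ A, x * a * x⁻¹ = a⁻¹ := by
    intro x hx a ha
    have hxa : x * a ∉ A := fun h => hx (by simpa using A.mul_mem h (A.inv_mem ha))
    have h2 := hD _ hxa
    have hx2 := inv_self x (hD x hx)
    rw [hx2]
    rw [pow_two] at h2
    exact eq_inv_of_mul_eq_one_left (by rw [← h2]; group)
  have hAcomm : ∀ a ∈ A, ∀ b ∈ A, a * b = b * a := by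
    intro a ha b hb
    have h1 := hinv t ht a ha
    have h2 := hinv t ht b hb
    have h3 := hinv t ht (a * b) (A.mul_mem ha hb)
    have : t * (a * b) * t⁻¹ = (t * a * t⁻¹) * (t * b * t⁻¹) := by group
    rw [h1, h2, h3] at this
    have h4 := congrArg (·⁻¹) this
    simpa [mul_inv_rev] using h4
  have exists_B : ∃ B : Subgroup H, B.Normal ∧ IsMulCommutative ↥B ∧ B.index = 2 ∧
      (∀ x : H, x ∉ B → x ^ 2 = 1 ∧ ∀ b ∈ B, x * b * x⁻¹ = b⁻¹) := by
    by_cases h2 : ∀ s, s ∉ A → t⁻¹ * s ∈ A
    · have hidx : A.index = 2 := by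
        rw [Subgroup.index_eq_two_iff']
        refine ⟨t, fun g => ?_⟩
        rw [xor_iff_or_and_not_and]
        constructor
        · by_cases hg : g ∈ A
          · exact Or.inr hg
          · left
            have : t⁻¹ * g ∈ A := h2 g hg
            rwa [inv_self t (hD t ht)] at this
        · rintro ⟨h, hg⟩
          exact ht (by simpa using A.mul_mem h (A.inv_mem hg))
      exact ⟨A, Subgroup.normal_of_index_eq_two hidx, ⟨⟨fun a b => Subtype.ext (hAcomm _ a.2 _ b.2)⟩⟩,
        hidx, fun x hx => ⟨hD x hx, hinv x hx⟩⟩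
    · push Not at h2
      obtain ⟨s, hs, hts⟩ := h2
      have hA2 : ∀ a ∈ A, a ^ 2 = 1 := by
        intro a ha
        have h1 := hinv _ hts a ha
        have h3 : t⁻¹ * s * a * (t⁻¹ * s)⁻¹ = a := by
          have e : t⁻¹ * s * a * (t⁻¹ * s)⁻¹ = t⁻¹ * (s * a * s⁻¹) * t := by group
          rw [e, hinv s hs a ha]
          have := hinv t ht a ha
          rw [← this]; group
        rw [h3] at h1
        rw [pow_two]
        nth_rewrite 2 [h1]
        exact mul_inv_cancel a
      have hall : ∀ x : H, x ^ 2 = 1 := fun x => by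
        by_cases hx : x ∈ A
        · exact hA2 x hx
        · exact hD x hx
      have hc : ∀ x y : H, x * y = y * x := by
        intro x y
        have := inv_self _ (hall (x * y))
        rw [mul_inv_rev, inv_self x (hall x), inv_self y (hall y)] at this
        exact this.symm
      obtain ⟨M, hM, hAM⟩ := (eq_top_or_exists_le_coatom A).resolve_left hA
      obtain ⟨x, hx⟩ : ∃ x, x ∉ M := by
        by_contra h
        push Not at h
        exact hM.1 ((Subgroup.eq_top_iff' M).2 h)
      let N : Subgroup H :=
        { carrier := {g | g ∈ M ∨ g * x ∈ M}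
          mul_mem' := by
            rintro a b (ha | ha) (hb | hb)
            · exact Or.inl (M.mul_mem ha hb)
            · exact Or.inr (by rw [mul_assoc]; exact M.mul_mem ha hb)
            · refine Or.inr ?_
              rw [mul_assoc, hc b x, ← mul_assoc]; exact M.mul_mem ha hb
            · refine Or.inl ?_
              have h5 := M.mul_mem ha hb
              rwa [mul_assoc a x, ← mul_assoc x b, hc x b, mul_assoc b x, ← pow_two, hall x, mul_one] at h5
          one_mem' := Or.inl M.one_mem
          inv_mem' := by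
            intro a ha
            rwa [inv_self a (hall a)] }
      have hN : N = ⊤ := hM.2 N (lt_of_le_of_ne (fun g hg => Or.inl hg) (fun h => hx (by
        rw [h]
        exact Or.inr (by rw [← pow_two, hall x]; exact M.one_mem))))
      have hidx : M.index = 2 := by
        rw [Subgroup.index_eq_two_iff]
        refine ⟨x, fun g => ?_⟩
        rw [xor_iff_or_and_not_and]
        refine ⟨?_, ?_⟩
        · have hg : g ∈ N := hN ▸ Subgroup.mem_top g
          exact hg.symm
        · rintro ⟨h, hg⟩
          exact hx (by simpa using M.mul_mem (M.inv_mem hg) h)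
      exact ⟨M, Subgroup.normal_of_index_eq_two hidx, ⟨⟨fun a b => Subtype.ext (hc _ _)⟩⟩, hidx,
        fun g _ => ⟨hall g, fun b _ => by rw [inv_self b (hall b), hc g b, mul_inv_cancel_right]⟩⟩
  obtain ⟨B, hBn, hBc, hBi, hBinv⟩ := exists_B
  refine ⟨B, hBn, hBc, hBi, hBinv, fun hne B' _ hB'c hB'i hB'inv => ?_⟩
  by_contra hBB
  have hnle : ¬ B' ≤ B := by
    intro hle
    refine hBB (le_antisymm hle ?_)
    rw [← Subgroup.relIndex_eq_one]
    have := Subgroup.relIndex_mul_index hle
    rw [hBi, hB'i] at this
    omega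
  obtain ⟨u, hu', hu⟩ := SetLike.not_le_iff_exists.1 hnle
  have hB2 : ∀ b ∈ B, b ^ 2 = 1 := by
    intro b hb
    by_cases hb' : b ∈ B'
    · have h1 := (hBinv u hu).2 b hb
      have h2 : u * b = b * u := congrArg Subtype.val (hB'c.is_comm.comm ⟨u, hu'⟩ ⟨b, hb'⟩)
      rw [h2, mul_inv_cancel_right] at h1
      rw [pow_two]
      nth_rewrite 2 [h1]
      exact mul_inv_cancel b
    · exact (hB'inv b hb').1
  have hall : ∀ x : H, x ^ 2 = 1 := fun x => by
    by_cases hx : x ∈ B
    · exact hB2 x hx
    · exact (hBinv x hx).1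
  refine hne ⟨⟨⟨fun x y => ?_⟩⟩, hall⟩
  have := inv_self _ (hall (x * y))
  rw [mul_inv_rev, inv_self x (hall x), inv_self y (hall y)] at this
  exact this.symm

end Cfsg.Agent.S4420
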