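import Cfsg.Statements.S4421
-- import your own Cfsg.Agent.* helpers here

set_option autoImplicit false
open Cfsg

namespace Cfsg.Agent.S4421

/-- A factorization of a normalizer from two-step control of fusion. Let `G` be a finite group and `A ≤ S ≤ H` subgroups of `G` such that: (i) `S` controls the `G`-fusion of `A` in the sense that every `G`-conjugate of `A` lying in `S` is an `S`-conjugate of `A`; (ii) `H` controls the `G`-fusion of `S` in the same sense; (iii) every conjugate of `S` by an element of the normalizer of `A` lies in `H`. Then `N_G(A) = N_H(A) · (N_G(S) ∩ N_G(A))`: every element of the normalizer of `A` is a product of an element of `H` normalizing `A` and an element normalizing both `S` and `A`. -/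
theorem result {G : Type*} [Group G] [Finite G] (A S H : Subgroup G)
    (hAS : A ≤ S) (hSH : S ≤ H)
    (h1 : ∀ g : G, A.map (MulAut.conj g).toMonoidHom ≤ S → ∃ s ∈ S, A.map (MulAut.conj g).toMonoidHom = A.map (MulAut.conj s).toMonoidHom)
    (h2 : ∀ g : G, S.map (MulAut.conj g).toMonoidHom ≤ H → ∃ y ∈ H, S.map (MulAut.conj g).toMonoidHom = S.map (MulAut.conj y).toMonoidHom)
    (h3 : ∀ x ∈ Subgroup.normalizer (A : Set G), S.map (MulAut.conj x).toMonoidHom ≤ H) :
    ∀ x ∈ Subgroup.normalizer (A : Set G), ∃ y ∈ H ⊓ Subgroup.normalizer (A : Set G),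
      ∃ z ∈ Subgroup.normalizer (S : Set G) ⊓ Subgroup.normalizer (A : Set G), x = y * z := by
  intro x hx
  have hmm : ∀ (K : Subgroup G) (a b : G), (K.map (MulAut.conj b).toMonoidHom).map (MulAut.conj a).toMonoidHom =
      K.map (MulAut.conj (a * b)).toMonoidHom := fun K a b => by
    rw [Subgroup.map_map]; congr 1; ext g; simp [mul_assoc]
  have hm1 : ∀ K : Subgroup G, K.map (MulAut.conj (1 : G)).toMonoidHom = K := fun K => by
    ext g; simp
  have hnorm : ∀ (K : Subgroup G) (g : G), g ∈ Subgroup.normalizer (K : Set G) ↔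
      K.map (MulAut.conj g).toMonoidHom = K := fun K g => by
    rw [Subgroup.mem_normalizer_iff]
    constructor
    · intro h
      ext y
      simp only [Subgroup.mem_map, MulEquiv.coe_toMonoidHom, MulAut.conj_apply]
      refine ⟨?_, fun hy => ⟨g⁻¹ * y * g, (h _).2 (by group; exact hy), by group⟩⟩
      rintro ⟨z, hz, rfl⟩
      exact (h z).1 hz
    · intro h y
      constructor
      · intro hy
        rw [← h]
        exact ⟨y, hy, rfl⟩
      · intro hy
        rw [← h] at hy
        obtain ⟨z, hz, hzy⟩ := hy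
        simp only [MulEquiv.coe_toMonoidHom, MulAut.conj_apply, mul_left_inj, mul_right_inj] at hzy
        exact hzy ▸ hz
  obtain ⟨y, hy, hyS⟩ := h2 x (h3 x hx)
  have hxA : A.map (MulAut.conj x).toMonoidHom = A := (hnorm A x).1 hx
  have hz0 : S.map (MulAut.conj (y⁻¹ * x)).toMonoidHom = S := by
    rw [← hmm, hyS, hmm, inv_mul_cancel, hm1]
  obtain ⟨s, hs, hsA⟩ := h1 (y⁻¹ * x) (le_of_le_of_eq (Subgroup.map_mono hAS) hz0)
  have hsS : S.map (MulAut.conj s⁻¹).toMonoidHom = S :=
    (hnorm S s⁻¹).1 (Subgroup.le_normalizer (S.inv_mem hs))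
  have hzA : A.map (MulAut.conj (s⁻¹ * (y⁻¹ * x))).toMonoidHom = A := by
    rw [← hmm, hsA, hmm, inv_mul_cancel, hm1]
  have hzAm := (hnorm A _).2 hzA
  refine ⟨y * s, ⟨H.mul_mem hy (hSH hs), ?_⟩, s⁻¹ * (y⁻¹ * x),
    ⟨(hnorm S _).2 (by rw [← hmm, hz0, hsS]), hzAm⟩, by group⟩
  have : y * s = x * (s⁻¹ * (y⁻¹ * x))⁻¹ := by group
  rw [this]
  exact Subgroup.mul_mem _ hx (Subgroup.inv_mem _ hzAm)

end Cfsg.Agent.S4421
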