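import Cfsg.Statements.S4422
-- import your own Cfsg.Agent.* helpers here

set_option autoImplicit false
open Cfsg

namespace Cfsg.Agent.S4422

/-- Primitive divisors of `q^e - 1` are congruent to 1 modulo `e`. Let `q ≥ 2` and `e ≥ 1` be natural numbers and let `m` be a divisor of `q^e - 1` that is coprime to `q^i - 1` for every `1 ≤ i < e` (so `m` divides the primitive part of `q^e - 1`, the largest such divisor). Then `m ≡ 1 (mod e)`. -/
theorem result (q e m : ℕ) (hq : 2 ≤ q) (he : 1 ≤ e)
    (hm : m ∣ q ^ e - 1) (hcop : ∀ i : ℕ, 1 ≤ i → i < e → Nat.Coprime m (q ^ i - 1)) :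
    m % e = 1 % e := by
  have hpos : ∀ i, 1 ≤ i → 1 ≤ q ^ i - 1 := fun i hi => by
    have : q ^ 1 ≤ q ^ i := Nat.pow_le_pow_right (by omega) hi
    rw [pow_one] at this
    omega
  have key : ∀ l : ℕ, l.Prime → l ∣ m → l % e = 1 % e := by
    intro l hl hlm
    haveI := Fact.mk hl
    have cast_iff : ∀ i, l ∣ q ^ i - 1 ↔ (q : ZMod l) ^ i = 1 := fun i => by
      rw [← ZMod.natCast_eq_zero_iff, Nat.cast_sub (Nat.one_le_pow _ _ (by omega)), Nat.cast_pow,
        Nat.cast_one, sub_eq_zero]
    have hqe := (cast_iff e).1 (hlm.trans hm)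
    have hq0 : (q : ZMod l) ≠ 0 := by
      intro h; rw [h, zero_pow (by omega)] at hqe; exact zero_ne_one hqe
    have hord : orderOf (q : ZMod l) = e := by
      rw [orderOf_eq_iff (by omega)]
      refine ⟨hqe, fun i hi hi0 h => ?_⟩
      have h1 := Nat.dvd_gcd hlm ((cast_iff i).2 h)
      rw [(hcop i hi0 hi).gcd_eq_one, Nat.dvd_one] at h1
      exact hl.one_lt.ne' h1
    have hd : e ∣ l - 1 := hord ▸ orderOf_dvd_of_pow_eq_one (ZMod.pow_card_sub_one_eq_one hq0)
    obtain ⟨c, hc⟩ := hd
    have : l = e * c + 1 := by have := hl.one_lt; omega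
    rw [this, Nat.mul_add_mod]
  have hm0 : m ≠ 0 := by
    rintro rfl; have := hpos e he; rw [Nat.zero_dvd] at hm; omega
  have main : ∀ k : ℕ, k ≠ 0 → (∀ l : ℕ, l.Prime → l ∣ k → l % e = 1 % e) → k % e = 1 % e := by
    intro k
    induction k using induction_on_primes with
    | zero => intro h; exact absurd rfl h
    | one => intros; rfl
    | prime_mul l k hl ih =>
      intro hne h
      rw [Nat.mul_mod, h l hl (dvd_mul_right _ _),
        ih (right_ne_zero_of_mul hne) (fun r hr hrk => h r hr (hrk.mul_left l)), ← Nat.mul_mod]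
  exact main m hm0 key

end Cfsg.Agent.S4422
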