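import Cfsg.Statements.S4425
import Cfsg.Agent.BlkChar.Coeff

set_option autoImplicit false
open Cfsg

namespace Cfsg.Agent.S4425

/-- Let χ be an irreducible character of the finite group G, p a prime, p^a the p-part of the order of G and p^b the p-part of the degree χ(1). Let χ̃ be the class function equal to p^a · χ on p-regular elements and zero on p-singular elements. Then p^(−b) · χ̃ is a generalized character of G, while p^(−(b+1)) · χ̃ is not. -/
theorem result {G : Type*} [Group G] [Finite G] (p : ℕ) [Fact p.Prime] (χ : Cfsg.IrrCharacter G) : Cfsg.IsGeneralizedCharacter G (fun x : G => if p ∣ orderOf x then (0 : ℂ) else ((p ^ ((Nat.card G).factorization p - (Cfsg.charDegree (χ : G → ℂ)).factorization p) : ℕ) : ℂ) * (χ : G → ℂ) x) ∧ ¬ Cfsg.IsGeneralizedCharacter G (fun x : G => if p ∣ orderOf x then (0 : ℂ) else ((p ^ (Nat.card G).factorization p : ℕ) : ℂ) / ((p ^ ((Cfsg.charDegree (χ : G → ℂ)).factorization p + 1) : ℕ) : ℂ) * (χ : G → ℂ) x) := by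
  classical
  haveI := Fintype.ofFinite G
  have hp : p.Prime := Fact.out
  refine ⟨BlkChar.isGeneralized_regScale χ, fun hgen => ?_⟩
  obtain ⟨k, hk⟩ := BlkChar.exists_degree_eq_of_vanishes hgen (fun g hg => if_pos hg)
  set b := (charDegree (χ : G → ℂ)).factorization p
  have h0 : ((p ^ (Nat.card G).factorization p : ℕ) : ℂ) ≠ 0 :=
    Nat.cast_ne_zero.mpr (pow_ne_zero _ hp.ne_zero)
  have h1 : ((p ^ (b + 1) : ℕ) : ℂ) ≠ 0 := Nat.cast_ne_zero.mpr (pow_ne_zero _ hp.ne_zero)
  rw [if_neg (by simp [hp.ne_one]), BlocksCore.irr_one_eq] at hk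
  have h2 : ((charDegree (χ : G → ℂ) : ℤ)) = ((p ^ (b + 1) : ℕ) : ℤ) * k := by
    have h3 : (charDegree (χ : G → ℂ) : ℂ) = ((p ^ (b + 1) : ℕ) : ℂ) * (k : ℂ) := by
      field_simp at hk
      exact hk
    exact_mod_cast h3
  exact Nat.pow_succ_factorization_not_dvd (BlocksCore.charDegree_pos χ).ne' hp
    (Int.natCast_dvd_natCast.mp ⟨k, h2⟩)

end Cfsg.Agent.S4425
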