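import Cfsg.Statements.S4430
import Cfsg.Agent.BlkChar.Coeff

set_option autoImplicit false
open Cfsg

namespace Cfsg.Agent.S4430

/-- Let H be a subgroup of the finite group G, b a block of H whose induced block B₀ in G is defined (relative to a maximal ideal M of the algebraic integers containing p), and ξ ∈ b. For a block B of G let n_B be the value at 1 of the B-part of the induced character ξ^G (a natural number: the sum over χ ∈ B of the multiplicity of χ in ξ^G times χ(1)). Then for B = B₀ the exact power of p dividing n_B equals the exact power of p dividing ξ^G(1), while for every other block B either n_B = 0 or n_B is divisible by a strictly higher power of p than ξ^G(1). -/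
theorem result {G : Type*} [Group G] [Fintype G] (p : ℕ) [Fact p.Prime] (M : Ideal Cfsg.AlgInt) (hM : Cfsg.IsPModular p M) (H : Subgroup G) [Fintype H] (b : Set (Cfsg.IrrCharacter H)) (B₀ : Set (Cfsg.IrrCharacter G)) (hind : Cfsg.IsInducedBlock M H b B₀) (ξ : Cfsg.IrrCharacter H) (hξ : ξ ∈ b) : (∃ n : ℕ, Cfsg.blockPart B₀ (Cfsg.indFun H (ξ : H → ℂ)) 1 = (n : ℂ) ∧ n ≠ 0 ∧ n.factorization p = (Cfsg.charDegree (Cfsg.indFun H (ξ : H → ℂ))).factorization p) ∧ ∀ B : Set (Cfsg.IrrCharacter G), Cfsg.IsPBlock M B → B ≠ B₀ → ∃ n : ℕ, Cfsg.blockPart B (Cfsg.indFun H (ξ : H → ℂ)) 1 = (n : ℂ) ∧ (n = 0 ∨ (Cfsg.charDegree (Cfsg.indFun H (ξ : H → ℂ))).factorization p < n.factorization p) := by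
  classical
  have := BlocksCore.isPrime hM
  have hind' := hind
  obtain ⟨-, hB₀, -⟩ := hind
  obtain ⟨χ₀, hχ₀⟩ := BlocksCore.isPBlock_nonempty hB₀
  have hchar : IsCharacter G (indFun H (ξ : H → ℂ)) :=
    CharInd.isCharacter_indFun H (CharCore.irr_isCharacter ξ)
  set D := charDegree (indFun H (ξ : H → ℂ)) with hD
  have hval : indFun H (ξ : H → ℂ) 1 = ((H.index * charDegree (ξ : H → ℂ) : ℕ) : ℂ) := by
    rw [CharInd.indFun_apply_one, BlocksCore.irr_one_eq]; push_cast; ring
  have hDe : D = H.index * charDegree (ξ : H → ℂ) := by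
    rw [hD, charDegree, hval, Complex.natCast_re, Nat.floor_natCast]
  have hD0 : D ≠ 0 := hDe ▸ mul_ne_zero Subgroup.index_ne_zero_of_finite (BlocksCore.charDegree_pos ξ).ne'
  have hnat : ∀ B : Set (IrrCharacter G), ∃ n : ℕ, blockPart B (indFun H (ξ : H → ℂ)) 1 = (n : ℂ) := by
    intro B
    rw [blockPart, finsum_mem_def, finsum_eq_sum_of_fintype]
    refine ⟨∑ χ : IrrCharacter G, if χ ∈ B then
      (CharCore.IsCharacter.exists_classInner_irr_eq_natCast hchar χ).choose *
        charDegree (χ : G → ℂ) else 0, ?_⟩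
    rw [Nat.cast_sum]
    refine Finset.sum_congr rfl fun χ _ => ?_
    by_cases hχ : χ ∈ B
    · rw [Set.indicator_of_mem hχ, if_pos hχ, Nat.cast_mul, ← BlocksCore.irr_one_eq,
        ← (CharCore.IsCharacter.exists_classInner_irr_eq_natCast hchar χ).choose_spec]
      congr 2
      exact Subsingleton.elim _ _
    · simp [hχ]
  have key : ∀ B : Set (IrrCharacter G), IsPBlock M B → ∀ n : ℕ,
      blockPart B (indFun H (ξ : H → ℂ)) 1 = (n : ℂ) →
      ∃ r : ℂ, MemLocalRing M r ∧ MemLocalIdeal M (r - B.indicator 1 χ₀) ∧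
        (n : ℂ) * ((1 : ℕ) : ℂ) = (D : ℂ) * r := by
    intro B hB n hn
    refine ⟨BlocksCore.omega (ξ : H → ℂ) (BlocksDefect.res H (blockCoeff B)),
      BlocksCore.omega_memLocalRing _ (BlocksDefect.isIntClassFun_res H
        (BlocksCore.isIntClassFun_blockCoeff hM hB)), ?_, ?_⟩
    · have h := BlocksDefect.omega_induced hM ⟨(BlocksDefect.isPBlock_of_induced hind').1, hB₀,
        hind'.2.2⟩ hξ hχ₀ (BlocksCore.isIntClassFun_blockCoeff hM hB)
      rwa [BlocksCore.omega_blockCoeff] at h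
    · rw [Nat.cast_one, mul_one, ← hn, BlkChar.blockPart_indFun_one, hval, hDe]
  refine ⟨?_, fun B hB hne => ?_⟩
  · obtain ⟨n, hn⟩ := hnat B₀
    obtain ⟨r, hr, hr1, he⟩ := key B₀ hB₀ n hn
    have hu : ¬ MemLocalIdeal M r := fun h => by
      have := BlocksCore.memLocalIdeal_sub h hr1
      rw [Set.indicator_of_mem hχ₀, Pi.one_apply, sub_sub_cancel] at this
      exact BlocksCore.not_memLocalIdeal_one this
    exact ⟨n, hn, (BlkChar.nat_valuation_of_eq hM hD0 (Nat.Prime.not_dvd_one Fact.out) hr he).1.mp hu⟩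
  · obtain ⟨n, hn⟩ := hnat B
    obtain ⟨r, hr, hr1, he⟩ := key B hB n hn
    have hm : χ₀ ∉ B := fun h => hne (BlocksCore.isPBlock_eq_of_mem hB hB₀ h hχ₀)
    rw [Set.indicator_of_notMem hm, sub_zero] at hr1
    obtain ⟨h1, h2⟩ := BlkChar.nat_valuation_of_eq hM hD0 (Nat.Prime.not_dvd_one Fact.out) hr he
    refine ⟨n, hn, ?_⟩
    rcases h2 with h2 | h2
    · exact Or.inl h2
    · by_cases hn0 : n = 0
      · exact Or.inl hn0
      · exact Or.inr (lt_of_le_of_ne h2 fun e => h1.mpr ⟨hn0, e.symm⟩ hr1)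

end Cfsg.Agent.S4430
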