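import Cfsg.Statements.S4431
import Cfsg.Agent.BlkChar.Coeff

set_option autoImplicit false
open Cfsg

namespace Cfsg.Agent.S4431

/-- Let H be a subgroup of the finite group G and b a block of H whose induced block B₀ in G is defined (relative to a maximal ideal M of the algebraic integers containing p). Let χ be an irreducible character of G, ψ ∈ b, and let η be the class function on H equal to p^a · χ on the p-regular elements of H and zero elsewhere, p^a being the p-part of the order of H. Then (a) if χ ∉ B₀, the number [η, ψ]/ψ(1) lies in the local ideal at M; (b) if χ ∈ B₀ has height zero, it does not. -/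
theorem result {G : Type*} [Group G] [Fintype G] (p : ℕ) [Fact p.Prime] (M : Ideal Cfsg.AlgInt) (hM : Cfsg.IsPModular p M) (H : Subgroup G) [Fintype H] (b : Set (Cfsg.IrrCharacter H)) (B₀ : Set (Cfsg.IrrCharacter G)) (hind : Cfsg.IsInducedBlock M H b B₀) (χ : Cfsg.IrrCharacter G) (ψ : Cfsg.IrrCharacter H) (hψ : ψ ∈ b) : (χ ∉ B₀ → Cfsg.MemLocalIdeal M (Cfsg.classInner (fun h : H => if p ∣ orderOf h then (0 : ℂ) else ((p ^ (Nat.card H).factorization p : ℕ) : ℂ) * (χ : G → ℂ) h) (ψ : H → ℂ) / (ψ : H → ℂ) 1)) ∧ (χ ∈ B₀ → Cfsg.blockHeight p B₀ (χ : G → ℂ) = 0 → ¬ Cfsg.MemLocalIdeal M (Cfsg.classInner (fun h : H => if p ∣ orderOf h then (0 : ℂ) else ((p ^ (Nat.card H).factorization p : ℕ) : ℂ) * (χ : G → ℂ) h) (ψ : H → ℂ) / (ψ : H → ℂ) 1)) := by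
  classical
  have := BlocksCore.isPrime hM
  have hp : p.Prime := Fact.out
  obtain ⟨η, hη⟩ := BlocksCore.isPBlock_nonempty hind.2.1
  set s := ordCompl[p] (Nat.card H) with hs
  have hs' : ¬ p ∣ s := Nat.not_dvd_ordCompl hp Nat.card_pos.ne'
  have hs0 : (s : ℂ) ≠ 0 := Nat.cast_ne_zero.mpr fun h => hs' (h ▸ dvd_zero p)
  set X := classInner (fun h : H => if p ∣ orderOf h then (0 : ℂ)
    else ((p ^ (Nat.card H).factorization p : ℕ) : ℂ) * (χ : G → ℂ) h) (ψ : H → ℂ) / (ψ : H → ℂ) 1
    with hX
  have hXs : X * (s : ℂ) = BlocksCore.omega (ψ : H → ℂ)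
      (BlocksDefect.res H (BlocksDefect.regInv p (χ : G → ℂ))) := by
    have hH : (Nat.card H : ℂ) = ((p ^ (Nat.card H).factorization p : ℕ) : ℂ) * (s : ℂ) := by
      rw [hs, ← Nat.cast_mul, Nat.ordProj_mul_ordCompl_eq_self]
    have hpa : ((p ^ (Nat.card H).factorization p : ℕ) : ℂ) ≠ 0 :=
      Nat.cast_ne_zero.mpr (pow_ne_zero _ hp.ne_zero)
    rw [hX, BlocksCore.omega_eq_sum, classInner, hH, div_mul_eq_mul_div, Finset.mul_sum,
      Finset.sum_mul]
    congr 1
    refine Fintype.sum_equiv (Equiv.inv H) _ _ fun x => ?_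
    simp only [BlocksDefect.res, BlocksDefect.regInv, Equiv.inv_apply, InvMemClass.coe_inv,
      orderOf_inv, inv_inv, BlocksCore.conj_irr, Subgroup.orderOf_coe]
    split_ifs
    · simp
    · field_simp
  have hiff : MemLocalIdeal M X ↔
      MemLocalIdeal M (BlocksDefect.regPair p (η : G → ℂ) χ) := by
    have h := BlocksDefect.omega_induced hM hind hψ hη (BlocksDefect.isIntClassFun_regInv (p := p) χ)
    rw [← hXs] at h
    constructor
    · intro hm
      have := BlocksCore.memLocalIdeal_sub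
        (BlocksCore.memLocalIdeal_mul_right hm (BlocksCore.memLocalRing_natCast s)) h
      rwa [sub_sub_cancel] at this
    · intro hm
      have h2 : MemLocalIdeal M (X * (s : ℂ)) := by
        have := BlocksCore.memLocalIdeal_add h hm
        unfold BlocksDefect.regPair at this
        rwa [sub_add_cancel] at this
      have := BlocksCore.memLocalIdeal_mul_right h2 (BlocksCore.memLocalRing_natCast_inv hM hs')
      rwa [mul_inv_cancel_right₀ hs0] at this
  rw [hiff]
  refine ⟨fun hn => ?_, fun h h0 => (BlocksDefect.regPair_unit_iff hM hind.2.1 hη h).mpr h0⟩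
  by_contra hu
  exact hn ((BlocksDefect.regPair_unit_iff_mem hM hind.2.1 hη).mp hu).1

end Cfsg.Agent.S4431
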