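import Cfsg.Statements.S4435
import Cfsg.Agent.Lib.BlocksDefect.FongReynolds

set_option autoImplicit false
open Cfsg Cfsg.Agent.BlocksDefect Cfsg.Agent.BlocksCore

namespace Cfsg.Agent.S4435

/-- Let N be a normal subgroup of the finite group G, b a block of N (relative to a maximal ideal M of the algebraic integers containing p), and T the stabilizer of b in G (the elements g such that conjugating any member of b by g gives a member of b); N ≤ T. Say that a block of T (or of G) covers b when some member has a constituent in b on restriction to N. Then: (i) every block B′ of T covering b induces a block B of G, B covers b, every ψ ∈ B′ induces to an irreducible character of G, and B consists exactly of the characters induced from members of B′; (ii) distinct blocks of T covering b induce distinct blocks of G; (iii) every block of G covering b is induced by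 some block of T covering b. -/
theorem result {G : Type*} [Group G] [Fintype G] (p : ℕ) [Fact p.Prime] (M : Ideal Cfsg.AlgInt) (hM : Cfsg.IsPModular p M) (N : Subgroup G) [hN : N.Normal] [Fintype N] (b : Set (Cfsg.IrrCharacter N)) (hb : Cfsg.IsPBlock M b) (T : Subgroup G) [Fintype T] (hT : ∀ g : G, g ∈ T ↔ ∀ θ ∈ b, ∀ θ' : Cfsg.IrrCharacter N, (∀ n : N, (θ' : N → ℂ) n = (θ : N → ℂ) ⟨g * n * g⁻¹, hN.conj_mem n n.2 g⟩) → θ' ∈ b) (hNT : N ≤ T) : (∀ B' : Set (Cfsg.IrrCharacter T), Cfsg.IsPBlock M B' → (∃ ψ ∈ B', ∃ θ ∈ b, Cfsg.classInner (fun n : N => (ψ : T → ℂ) ⟨(n : G), hNT n.2⟩) (θ : N → ℂ) ≠ 0) → ∃ B : Set (Cfsg.IrrCharacter G), Cfsg.IsInducedBlock M T B' B ∧ (∃ χ ∈ B, ∃ θ ∈ b, Cfsg.classInner (fun n : N => (χ : G → ℂ) n) (θ : N → ℂ) ≠ 0) ∧ (∀ ψ ∈ B', Cfsg.IsIrrCharacter G (Cfsg.indFun T (ψ : T → ℂ))) ∧ ∀ χ : Cfsg.IrrCharacter G, χ ∈ B ↔ ∃ ψ ∈ B', (χ : G →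 ℂ) = Cfsg.indFun T (ψ : T → ℂ)) ∧ (∀ B'₁ B'₂ : Set (Cfsg.IrrCharacter T), Cfsg.IsPBlock M B'₁ → Cfsg.IsPBlock M B'₂ → (∃ ψ ∈ B'₁, ∃ θ ∈ b, Cfsg.classInner (fun n : N => (ψ : T → ℂ) ⟨(n : G), hNT n.2⟩) (θ : N → ℂ) ≠ 0) → (∃ ψ ∈ B'₂, ∃ θ ∈ b, Cfsg.classInner (fun n : N => (ψ : T → ℂ) ⟨(n : G), hNT n.2⟩) (θ : N → ℂ) ≠ 0) → ∀ B : Set (Cfsg.IrrCharacter G), Cfsg.IsInducedBlock M T B'₁ B → Cfsg.IsInducedBlock M T B'₂ B → B'₁ = B'₂) ∧ (∀ B : Set (Cfsg.IrrCharacter G), Cfsg.IsPBlock M B → (∃ χ ∈ B, ∃ θ ∈ b, Cfsg.classInner (fun n : N => (χ : G → ℂ) n) (θ : N → ℂ) ≠ 0) → ∃ B' : Set (Cfsg.IrrCharacter T), Cfsg.IsPBlock M B' ∧ (∃ ψ ∈ B', ∃ θ ∈ b, Cfsg.classInner (fun n : N => (ψ : T → ℂ) ⟨(n : G), hNT n.2⟩) (θ : N → ℂ) ≠ 0) ∧ Cfsg.IsInducedBlock M T B' B) := by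
  have := isPrime hM
  have hS := isBlockStab_of_pointwise hT
  refine ⟨fun B' hB' hcov => ?_, fun B₁ B₂ hB₁ hB₂ hc₁ hc₂ B hi₁ hi₂ => ?_, fun B hB hcov => ?_⟩
  · obtain ⟨ψ₀, hψ₀B, hψ₀⟩ := hcov
    have hind : IsInducedBlock M T B' (blockOf M (indIrr hNT hb hS hψ₀ : G → ℂ)) := by
      rw [isPBlock_eq_blockOf hB' hψ₀B]
      exact isInducedBlock_blockOf hNT hM hb hS hψ₀
    refine ⟨_, hind, ⟨_, mem_blockOf_self _, exists_constituent_indIrr hNT hb hS hψ₀⟩,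
      fun ψ hψ => isIrrCharacter_indFun hNT hb hS (liesOver_of_sameBlock hNT hM hb hS
        (sameBlock_of_mem hB' hψ₀B hψ) hψ₀), mem_induced_iff hNT hM hb hS hind hψ₀B hψ₀⟩
  · obtain ⟨ψ₁, hψ₁B, hψ₁⟩ := hc₁
    obtain ⟨ψ₂, hψ₂B, hψ₂⟩ := hc₂
    have h := sameBlock_of_ind hNT hM hb hS hψ₁ hψ₂ (sameBlock_of_mem hi₁.2.1
      (indIrr_mem_of_induced hNT hb hS hi₁ hψ₁B hψ₁) (indIrr_mem_of_induced hNT hb hS hi₂ hψ₂B hψ₂))
    rw [isPBlock_eq_blockOf hB₁ hψ₁B, isPBlock_eq_blockOf hB₂ hψ₂B, blockOf_eq_of_sameBlock h]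
  · obtain ⟨χ, hχ, θ, hθ, hne⟩ := hcov
    obtain ⟨ψ, hψ, rfl⟩ := exists_indIrr_of_constituent hNT hb hS hθ hne
    refine ⟨blockOf M (ψ : T → ℂ), isPBlock_blockOf ψ, ⟨ψ, mem_blockOf_self ψ, hψ⟩, ?_⟩
    rw [isPBlock_eq_blockOf hB hχ]
    exact isInducedBlock_blockOf hNT hM hb hS hψ

end Cfsg.Agent.S4435
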