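import Cfsg.Statements.S4442
import Cfsg.Agent.Lib.BlocksCore.CyclicTwistShape

set_option autoImplicit false
open Cfsg Cfsg.Agent.BlocksCore

namespace Cfsg.Agent.S4442

/-- Blocks of defect one. Let p be an odd prime and G a finite group whose Sylow p-subgroup P has order p; let C = C_G(P) and N = N_G(P), and fix a maximal ideal M of the algebraic integers containing p. Let B be a block of G with defect group P, b a block of C inducing B, and θ the member of b having P in its kernel (there is exactly one). Let T be the stabilizer of θ in N (the elements g ∈ N with θ(g c g⁻¹) = θ(c) for all c ∈ C) and e the index of C in T. Then e divides p − 1 and B contains exactly e + (p − 1)/e irreducible characters. Moreover B is the disjoint union of a set X of e characters and a set Y of (p − 1)/e characters such that, with f the index of C in N: every χ ∈ X has χ(1) ≡ ±(f/e)·θ(1) (mod p), there is one sign ε with ψ(1) ≡ ε f θ(1) (mod p) for all ψ ∈ Y, and all members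 of Y agree on the p-regular elements of G. -/
theorem result {G : Type*} [Group G] [Finite G] (p : ℕ) [Fact p.Prime] (M : Ideal Cfsg.AlgInt) (hM : Cfsg.IsPModular p M) (hodd : p ≠ 2) (P : Sylow p G) (hP : Nat.card P = p) (B : Set (Cfsg.IrrCharacter G)) (hB : Cfsg.IsPBlock M B) (hBP : Cfsg.IsDefectGroup p M B P) (b : Set (Cfsg.IrrCharacter (Subgroup.centralizer ((P : Subgroup G) : Set G)))) (hind : Cfsg.IsInducedBlock M (Subgroup.centralizer ((P : Subgroup G) : Set G)) b B) (θ : Cfsg.IrrCharacter (Subgroup.centralizer ((P : Subgroup G) : Set G))) (hθ : θ ∈ b) (hθP : ∀ x : Subgroup.centralizer ((P : Subgroup G) : Set G), (x : G) ∈ (P : Subgroup G) → (θ : Subgroup.centralizer ((P : Subgroup G) : Set G) → ℂ) x = (θ : Subgroup.centralizer ((P : Subgroup G) : Set G) → ℂ) 1) (T : Subgroup G) (hT : ∀ g : G, g ∈ T ↔ (g ∈ Subgroup.normalizer ((P : Subgroup G) : Set G) ∧ ∀ c c' : Subgroup.centralizer ((P : Subgroup G) : Set G), (c' : G) = g * c * g⁻¹ → (θ : Subgroup.centralizer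 ((P : Subgroup G) : Set G) → ℂ) c' = (θ : Subgroup.centralizer ((P : Subgroup G) : Set G) → ℂ) c)) (e f : ℕ) (he : (Subgroup.centralizer ((P : Subgroup G) : Set G)).relIndex T = e) (hf : (Subgroup.centralizer ((P : Subgroup G) : Set G)).relIndex (Subgroup.normalizer ((P : Subgroup G) : Set G)) = f) : e ∣ p - 1 ∧ Nat.card B = e + (p - 1) / e ∧ ∃ X Y : Set (Cfsg.IrrCharacter G), B = X ∪ Y ∧ Disjoint X Y ∧ Nat.card X = e ∧ Nat.card Y = (p - 1) / e ∧ (∀ χ ∈ X, (Cfsg.charDegree (χ : G → ℂ) : ℤ) ≡ ((f / e * Cfsg.charDegree (θ : Subgroup.centralizer ((P : Subgroup G) : Set G) → ℂ) : ℕ) : ℤ) [ZMOD p] ∨ (Cfsg.charDegree (χ : G → ℂ) : ℤ) ≡ -((f / e * Cfsg.charDegree (θ : Subgroup.centralizer ((P : Subgroup G) : Set G) → ℂ) : ℕ) : ℤ) [ZMOD p]) ∧ (∃ ε : ℤ, (ε = 1 ∨ ε = -1) ∧ ∀ ψ ∈ Y, (Cfsg.charDegree (ψ : G → ℂ) : ℤ) ≡ ε * ((f * Cfsg.charDegree (θ : Subgroup.centralizer ((P : Subgroup G) : Set G) → ℂ) : ℕ) : ℤ) [ZMOD p]) ∧ ∀ ψ ∈ Y, ∀ ψ' ∈ Y, ∀ g : G, ¬ p ∣ orderOf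 g → (ψ : G → ℂ) g = (ψ' : G → ℂ) g := by
  classical
  haveI := Fintype.ofFinite G
  have hp : p.Prime := Fact.out
  haveI := BlocksCore.isPrime hM
  obtain ⟨s, hC, hθ', hT', hzP, hidx⟩ := CyclicTwist.exists_twist P hP θ hθP T hT
  let t : CyclicTwist.Twist s := ⟨_, hC, θ, hθ', T, hT'⟩
  haveI := Fintype.ofFinite t.Orb
  have hind' : IsInducedBlock M t.C (t.blk M) B := by
    have hb : b = t.blk M := BlocksCore.isPBlock_eq_blockOf hind.1 hθ
    exact hb ▸ hind
  have hBP' : IsDefectGroup p M B (Subgroup.zpowers s.z) := hzP ▸ hBP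
  have he' : Nat.card t.auto = e := t.relIndex_eq.symm.trans he
  have hr : Fintype.card t.Orb * e = p - 1 := by
    rw [← he', ← Nat.card_eq_fintype_card]
    exact t.card_orb_mul
  have hepos : 0 < e := he' ▸ Nat.card_pos
  have hq : t.T.relIndex (Subgroup.normalizer ((Subgroup.zpowers s.z : Subgroup G) : Set G)) * e
      = f := by
    rw [← hzP, ← hf, ← he, mul_comm]
    exact Subgroup.relIndex_mul_relIndex _ t.T _ t.C_le_T (hzP ▸ t.T_le_normalizer)
  set q := t.T.relIndex (Subgroup.normalizer ((Subgroup.zpowers s.z : Subgroup G) : Set G)) with hqd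
  have hfe : f / e = q := by rw [← hq, Nat.mul_div_cancel _ hepos]
  obtain ⟨F, c, ε, hε, hFi, hFB, hvf, hcx, hcard⟩ := t.exists_shape hM hind' hBP' hidx
  rw [he'] at hcard
  have hr' : (p - 1) / e = Fintype.card t.Orb := by rw [← hr, Nat.mul_div_cancel _ hepos]
  have hYB : Set.range F ⊆ B := by rintro x ⟨i, rfl⟩; exact hFB i
  have hYcard : Nat.card (Set.range F) = Fintype.card t.Orb := by
    rw [← Nat.card_eq_fintype_card]
    exact (Nat.card_congr (Equiv.ofInjective F hFi)).symm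
  have hd : ∀ χ ∈ B, (charDegree (χ : G → ℂ) : ℤ) ≡
      ((q * charDegree (θ : Subgroup.centralizer ((P : Subgroup G) : Set G) → ℂ) : ℕ) : ℤ) *
        ((e : ℤ) * ∑ o, t.vecO χ o) [ZMOD p] := fun χ hχ => by
    rw [← he']
    exact t.charDegree_modEq hM hind' hBP' hχ
  refine ⟨⟨_, by rw [mul_comm] at hr; exact hr.symm⟩, by rw [hcard, hr'], B \ Set.range F,
    Set.range F, (Set.diff_union_of_subset hYB).symm, Set.disjoint_sdiff_left, ?_,
    by rw [hYcard, hr'], fun χ hχ => ?_, ⟨ε, hε, fun ψ hψ => ?_⟩, fun ψ hψ ψ' hψ' g hg => ?_⟩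
  · haveI : Finite (IrrCharacter G) := BlocksCore.finite_irr
    have h1 := Set.ncard_sdiff_add_ncard_of_subset hYB
    simp only [← Nat.card_coe_set_eq] at h1
    rw [hYcard, hcard] at h1
    omega
  · obtain ⟨hc1, hc2⟩ := hcx χ hχ.1 fun i hi => hχ.2 ⟨i, hi⟩
    have h := hd χ hχ.1
    rw [Finset.sum_congr rfl fun i _ => hc2 i, Finset.sum_const, Finset.card_univ,
      nsmul_eq_mul] at h
    have h2 : ((q * charDegree (θ : Subgroup.centralizer ((P : Subgroup G) : Set G) → ℂ) : ℕ) : ℤ) *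
        ((e : ℤ) * ((Fintype.card t.Orb : ℤ) * c χ)) ≡
        -(((f / e * charDegree (θ : Subgroup.centralizer ((P : Subgroup G) : Set G) → ℂ) : ℕ) : ℤ) *
          c χ) [ZMOD p] := by
      rw [hfe, ← mul_assoc (e : ℤ), ← Nat.cast_mul e, mul_comm e, hr, Nat.cast_sub hp.one_le,
        Int.modEq_iff_dvd]
      generalize ((q * charDegree (θ : Subgroup.centralizer ((P : Subgroup G) : Set G) → ℂ) : ℕ) : ℤ) = d
      exact ⟨-(d * c χ), by push_cast; ring⟩
    have h3 := h.trans h2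
    rcases hc1 with h4 | h4 <;> rw [h4] at h3
    · right; simpa using h3
    · left; simpa using h3
  · obtain ⟨i, rfl⟩ := hψ
    have h := hd (F i) (hFB i)
    simp only [hvf, Finset.sum_ite_eq', Finset.mem_univ, if_true] at h
    rw [show ε * ((f * charDegree (θ : Subgroup.centralizer ((P : Subgroup G) : Set G) → ℂ) : ℕ) : ℤ)
      = ((q * charDegree (θ : Subgroup.centralizer ((P : Subgroup G) : Set G) → ℂ) : ℕ) : ℤ) *
        ((e : ℤ) * ε) by rw [← hq]; push_cast; ring]
    exact h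
  · obtain ⟨i, rfl⟩ := hψ
    obtain ⟨j, rfl⟩ := hψ'
    have h1 := t.sum_regular_eq_zero hM hind' hBP' hidx hFi hFB hvf hcx hg i
    have h2 := t.sum_regular_eq_zero hM hind' hBP' hidx hFi hFB hvf hcx hg j
    have hε0 : (ε : ℂ) ≠ 0 := by rcases hε with rfl | rfl <;> norm_num
    exact mul_left_cancel₀ hε0 (add_left_cancel (h1.trans h2.symm))

end Cfsg.Agent.S4442
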