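import Cfsg.Statements.S4446
import Cfsg.Agent.BlkChar.CyclicAction

set_option autoImplicit false
open Cfsg
open scoped ComplexConjugate

namespace Cfsg.Agent.S4446

open BlkChar

/-- Values of canonical extensions on a generating coset under a coprime cyclic action. -/
theorem result {Γ : Type*} [Group Γ] [Fintype Γ] (G S : Subgroup Γ) [Fintype G] (hnorm : ∀ s ∈ S, ∀ g ∈ G, s * g * s⁻¹ ∈ G) (hcop : (Nat.card G).Coprime (Nat.card S)) (htop : G ⊔ S = ⊤) (hcyc : IsCyclic S) (C : Subgroup Γ) [Fintype C] (hC : C = G ⊓ Subgroup.centralizer (S : Set Γ)) (hCG : C ≤ G) : (∀ (χ : Cfsg.IrrCharacter G) (χh : Cfsg.IrrCharacter Γ), (∀ s ∈ S, ∀ g g' : G, (g' : Γ) = s * g * s⁻¹ → (χ : G → ℂ) g' = (χ : G → ℂ) g) → (∀ g : G, (χh : Γ → ℂ) g = (χ : G → ℂ) g) → (Cfsg.detOrder (χh : Γ → ℂ)).Coprime (Nat.card S) → (∃! βε : Cfsg.IrrCharacter C × ℤ, (βε.2 = 1 ∨ βε.2 = -1) ∧ ∀ c : C, ∀ s : Γ, Subgroup.zpowers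 s = S → (χh : Γ → ℂ) ((c : Γ) * s) = (βε.2 : ℂ) * (βε.1 : C → ℂ) c) ∧ ∀ β : Cfsg.IrrCharacter C, ∀ ε : ℤ, (ε = 1 ∨ ε = -1) → (∀ c : C, ∀ s : Γ, Subgroup.zpowers s = S → (χh : Γ → ℂ) ((c : Γ) * s) = (ε : ℂ) * (β : C → ℂ) c) → Cfsg.classInner (fun c : C => (χ : G → ℂ) ⟨c, hCG c.2⟩) (β : C → ℂ) ≠ 0) ∧ (∀ (χ χ' : Cfsg.IrrCharacter G) (χh χh' : Cfsg.IrrCharacter Γ), (∀ s ∈ S, ∀ g g' : G, (g' : Γ) = s * g * s⁻¹ → (χ : G → ℂ) g' = (χ : G → ℂ) g) → (∀ s ∈ S, ∀ g g' : G, (g' : Γ) = s * g * s⁻¹ → (χ' : G → ℂ) g' = (χ' : G → ℂ) g) → (∀ g : G, (χh : Γ → ℂ) g = (χ : G → ℂ) g) → (∀ g : G, (χh' : Γ → ℂ) g = (χ' : G → ℂ) g) → (Cfsg.detOrder (χh : Γ → ℂ)).Coprime (Nat.card S) → (Cfsg.detOrder (χh' : Γ → ℂ)).Coprime (Nat.card S) → ∀ β : Cfsg.IrrCharacter C, ∀ ε ε' : ℤ, (ε = 1 ∨ ε = -1) → (ε' = 1 ∨ ε' = -1) → (∀ c : C, ∀ s : Γ, Subgroup.zpowers s = S → (χh : Γ → ℂ) ((c : Γ) * s) = (ε : ℂ) * (β : C → ℂ)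 c) → (∀ c : C, ∀ s : Γ, Subgroup.zpowers s = S → (χh' : Γ → ℂ) ((c : Γ) * s) = (ε' : ℂ) * (β : C → ℂ) c) → χ = χ') ∧ (∀ β : Cfsg.IrrCharacter C, ∃ (χ : Cfsg.IrrCharacter G) (χh : Cfsg.IrrCharacter Γ) (ε : ℤ), (∀ s ∈ S, ∀ g g' : G, (g' : Γ) = s * g * s⁻¹ → (χ : G → ℂ) g' = (χ : G → ℂ) g) ∧ (∀ g : G, (χh : Γ → ℂ) g = (χ : G → ℂ) g) ∧ (Cfsg.detOrder (χh : Γ → ℂ)).Coprime (Nat.card S) ∧ (ε = 1 ∨ ε = -1) ∧ ∀ c : C, ∀ s : Γ, Subgroup.zpowers s = S → (χh : Γ → ℂ) ((c : Γ) * s) = (ε : ℂ) * (β : C → ℂ) c) := by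
  classical
  haveI hGn : G.Normal := by
    rw [← Subgroup.normalizer_eq_top_iff, eq_top_iff, ← htop]
    refine sup_le Subgroup.le_normalizer fun s hs => ?_
    rw [Subgroup.mem_normalizer_iff]
    refine fun g => ⟨fun hg => hnorm s hs g hg, fun hg => ?_⟩
    have := hnorm s⁻¹ (S.inv_mem hs) _ hg
    rwa [show s⁻¹ * (s * g * s⁻¹) * s⁻¹⁻¹ = g by group] at this
  obtain ⟨s₀, hs₀⟩ := S.isCyclic_iff_exists_zpowers_eq_top.mp hcyc
  have hSab : ∀ a ∈ S, ∀ b ∈ S, a * b = b * a := by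
    intro a ha b hb
    haveI := hcyc
    letI : CommGroup S := IsCyclic.commGroup
    exact congrArg Subtype.val (mul_comm (⟨a, ha⟩ : S) ⟨b, hb⟩)
  have hCS : ∀ c ∈ C, ∀ x ∈ S, c * x = x * c := fun c hc x hx =>
    ((Subgroup.mem_centralizer_iff.mp ((hC ▸ hc : c ∈ G ⊓ Subgroup.centralizer (S : Set Γ)).2)) x hx).symm
  have hs₀S : s₀ ∈ S := hs₀ ▸ Subgroup.mem_zpowers s₀
  have hC₀ : C = G ⊓ Subgroup.centralizer ({s₀} : Set Γ) := by
    rw [hC, ← hs₀, Subgroup.zpowers_eq_closure, Subgroup.centralizer_closure]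
  have hcop₀ : (Nat.card G).Coprime (orderOf s₀) := by
    rw [← Nat.card_zpowers, hs₀]; exact hcop
  have hres : ∀ (χ : IrrCharacter G) (χh : IrrCharacter Γ),
      (∀ g : G, (χh : Γ → ℂ) g = (χ : G → ℂ) g) → IsIrrCharacter G (fun g : G => (χh : Γ → ℂ) g) :=
    fun χ χh h => by rw [show (fun g : G => (χh : Γ → ℂ) g) = (χ : G → ℂ) from funext h]; exact χ.2
  have hall : ∀ (χh : IrrCharacter Γ) (_ : IsIrrCharacter G (fun g : G => (χh : Γ → ℂ) g))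
      (_ : (detOrder (χh : Γ → ℂ)).Coprime (Nat.card S)),
      ∃ (β₀ : IrrCharacter C) (ε : ℤ), (ε = 1 ∨ ε = -1) ∧ ∀ c : C, ∀ s : Γ,
        Subgroup.zpowers s = S → (χh : Γ → ℂ) ((c : Γ) * s) = (ε : ℂ) * (β₀ : C → ℂ) c := by
    intro χh h1 h2
    obtain ⟨β₀, ε, hε, hv⟩ :=
      exists_value G S hcop htop C hCG hCS hSab χh.2 h1 h2 ⟨s₀, hs₀S⟩ hC₀
    refine ⟨β₀, ε, hε, fun c s hs => ?_⟩
    have hsS : s ∈ S := hs ▸ Subgroup.mem_zpowers s
    obtain ⟨k, hk⟩ : s ∈ Submonoid.powers s₀ := by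
      rw [mem_powers_iff_mem_zpowers, hs₀]; exact hsS
    simp only at hk
    have hcard : ∀ t : Γ, Subgroup.zpowers t = S → orderOf t = Nat.card S := fun t ht => by
      rw [← Nat.card_zpowers, ht]
    have hkc : k.Coprime (Nat.card S) := by
      have h3 : orderOf (s₀ ^ k) = orderOf s₀ := by rw [hk, hcard s hs, hcard s₀ hs₀]
      rw [orderOf_pow] at h3
      have h4 : Nat.gcd (orderOf s₀) k = 1 := by
        rcases Nat.div_eq_self.mp h3 with h5 | h5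
        · exact absurd h5 (orderOf_pos s₀).ne'
        · exact h5
      rw [← hcard s₀ hs₀]
      exact Nat.Coprime.symm h4
    rw [← hv c, ← apply_pow G S hcop htop C hCG hCS χh.2 h1 h2 c ⟨s₀, hs₀S⟩ hkc]
    simp [← hk]
  refine ⟨fun χ χh _ hext hdet => ?_, fun χ χ' χh χh' _ _ he he' hd hd' β ε ε' hε hε' hv hv' => ?_,
    fun β => ?_⟩
  · obtain ⟨β₀, ε₀, hε₀, hv₀⟩ := hall χh (hres χ χh hext) hdet
    refine ⟨⟨(β₀, ε₀), ⟨hε₀, hv₀⟩, fun p hp => ?_⟩, fun β ε hε hv hz => ?_⟩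
    · obtain ⟨h1, h2⟩ := sign_unique C hp.1 hε₀
        fun c => (hp.2 c s₀ hs₀).symm.trans (hv₀ c s₀ hs₀)
      exact Prod.ext h1 h2
    · have hc := isCharacter_mult S C hCS hSab (CharCore.IsIrrCharacter.isCharacter χh.2)
        (CharCore.irr_isCharacter β)
      have h1 : mult S C (χh : Γ → ℂ) (β : C → ℂ) 1 = 0 := by
        rw [mult_one, ← hz]
        exact congrArg (fun f => classInner f (β : C → ℂ)) (funext fun c => hext ⟨c, hCG c.2⟩)
      haveI := Fintype.ofFinite S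
      have h2 := CharCore.IsCharacter.norm_apply_le hc (⟨s₀, hs₀S⟩ : S)
      rw [h1, norm_zero, norm_le_zero_iff] at h2
      have h3 : mult S C (χh : Γ → ℂ) (β : C → ℂ) ⟨s₀, hs₀S⟩ = (ε : ℂ) := by
        unfold mult
        rw [show fnAt C (χh : Γ → ℂ) s₀ = (ε : ℂ) • (β : C → ℂ) from funext fun c => hv c s₀ hs₀,
          CharCore.classInner_smul_left, CharCore.classInner_irr_self, mul_one]
      rw [h3] at h2
      rcases hε with rfl | rfl <;> simp at h2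
  · by_contra hne
    have h0 : classInner (fun g : G => (χh : Γ → ℂ) g) (fun g : G => (χh' : Γ → ℂ) g) = 0 := by
      rw [show (fun g : G => (χh : Γ → ℂ) g) = (χ : G → ℂ) from funext he,
        show (fun g : G => (χh' : Γ → ℂ) g) = (χ' : G → ℂ) from funext he']
      exact CharCore.classInner_irr_of_ne hne
    have h1 := fnAt_orth G C s₀ hC₀ hcop₀ χh.2 χh'.2 h0
    rw [show fnAt C (χh : Γ → ℂ) s₀ = (ε : ℂ) • (β : C → ℂ) from funext fun c => hv c s₀ hs₀,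
      show fnAt C (χh' : Γ → ℂ) s₀ = (ε' : ℂ) • (β : C → ℂ) from funext fun c => hv' c s₀ hs₀,
      CharCore.classInner_smul_left, CharCore.classInner_smul_right,
      CharCore.classInner_irr_self] at h1
    rcases hε with rfl | rfl <;> rcases hε' with rfl | rfl <;> simp at h1
  · by_contra hcon
    have hzero : ∀ ψ : IrrCharacter Γ, classInner (fnAt C (ψ : Γ → ℂ) s₀) (β : C → ℂ) = 0 := by
      intro ψ
      by_cases hred : IsIrrCharacter G (fun g : G => (ψ : Γ → ℂ) g)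
      · let χ : IrrCharacter G := ⟨_, hred⟩
        have hinv : ∀ s ∈ S, ∀ g g' : G, (g' : Γ) = s * g * s⁻¹ → (χ : G → ℂ) g' = (χ : G → ℂ) g := by
          intro s _ g g' e
          show (ψ : Γ → ℂ) (g' : Γ) = (ψ : Γ → ℂ) (g : Γ)
          rw [e]; exact CharCore.irr_isClassFunction ψ _ _
        obtain ⟨f, ⟨hf1, hf2, hf3⟩, -⟩ := exists_canonical G S hcop htop χ hinv
        have hfr := hres χ ⟨f, hf1⟩ hf2
        obtain ⟨β₀, ε, hε, hv⟩ := hall ⟨f, hf1⟩ hfr hf3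
        have hne : β₀ ≠ β := fun h => hcon ⟨χ, ⟨f, hf1⟩, ε, hinv, hf2, hf3, hε, h ▸ hv⟩
        have hnz : classInner (fun g : G => (ψ : Γ → ℂ) g) (fun g : G => f g) ≠ 0 := by
          rw [show (fun g : G => f g) = (χ : G → ℂ) from funext hf2]
          show classInner (χ : G → ℂ) (χ : G → ℂ) ≠ 0
          rw [CharCore.classInner_irr_self]; exact one_ne_zero
        obtain ⟨b, -, hb, hψ, -⟩ := CharDeep.Ext.exists_gallagher hf1 hfr ψ.2 hnz
        rw [show fnAt C (ψ : Γ → ℂ) s₀ = (b s₀ * (ε : ℂ)) • (β₀ : C → ℂ) from funext fun c => by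
          show (ψ : Γ → ℂ) ((c : Γ) * s₀) = _
          rw [hψ, Pi.mul_apply, hb ⟨c, hCG c.2⟩ s₀, show f ((c : Γ) * s₀) = _ from hv c s₀ hs₀, Pi.smul_apply, smul_eq_mul, mul_assoc],
          CharCore.classInner_smul_left, CharCore.classInner_irr_of_ne hne, mul_zero]
      · have hq : IsCyclic (Γ ⧸ G) := by
          haveI := hcyc
          refine isCyclic_of_surjective ((QuotientGroup.mk' G).comp S.subtype) ?_
          intro q
          obtain ⟨y, rfl⟩ := QuotientGroup.mk'_surjective G q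
          have hy : y ∈ G ⊔ S := htop ▸ Subgroup.mem_top y
          obtain ⟨g, hg, s, hs, rfl⟩ := Subgroup.mem_sup_of_normal_left.mp hy
          refine ⟨⟨s, hs⟩, ?_⟩
          simp [(QuotientGroup.eq_one_iff g).mpr hg]
        have hv := vanish_of_reducible G s₀ (by rw [hs₀, htop]) ψ.2 hred hq
        rw [show fnAt C (ψ : Γ → ℂ) s₀ = 0 from funext fun c => hv ⟨c, hCG c.2⟩]
        simp [classInner]
    have h1 : ∑ ψ : IrrCharacter Γ,
        classInner (fnAt C (ψ : Γ → ℂ) s₀) (β : C → ℂ) * conj ((ψ : Γ → ℂ) s₀) = 0 :=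
      Finset.sum_eq_zero fun ψ _ => by rw [hzero ψ, zero_mul]
    have h2 : ∑ ψ : IrrCharacter Γ,
        classInner (fnAt C (ψ : Γ → ℂ) s₀) (β : C → ℂ) * conj ((ψ : Γ → ℂ) s₀) =
        (Nat.card C : ℂ)⁻¹ * ((Nat.card (Subgroup.centralizer ({s₀} : Set Γ)) : ℂ) *
          conj ((β : C → ℂ) 1)) := by
      simp only [CharCore.classInner_def, mul_assoc, ← Finset.mul_sum, Finset.sum_mul, fnAt]
      congr 1
      rw [Finset.sum_comm, Finset.sum_eq_single (1 : C)]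
      · have h := CharCore.sum_apply_mul_conj (G := Γ) s₀ s₀
        rw [if_pos (IsConj.refl _)] at h
        rw [← h, Finset.sum_mul]
        exact Finset.sum_congr rfl fun ψ _ => by simp; ring
      · intro c _ hc
        have h := CharCore.sum_apply_mul_conj (G := Γ) ((c : Γ) * s₀) s₀
        rw [if_neg fun hj => hc (Subtype.ext (eq_one_of_isConj G C s₀ hC₀ hcop₀ hj))] at h
        calc _ = conj ((β : C → ℂ) c) *
              ∑ ψ : IrrCharacter Γ, (ψ : Γ → ℂ) ((c : Γ) * s₀) * conj ((ψ : Γ → ℂ) s₀) := by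
                rw [Finset.mul_sum]; exact Finset.sum_congr rfl fun ψ _ => by ring
          _ = 0 := by rw [h, mul_zero]
      · simp
    rw [h1] at h2
    obtain ⟨d, hd0, hd1, -⟩ := exists_degree' β
    rw [hd1, map_natCast] at h2
    revert h2
    simp [Nat.card_pos.ne', hd0.ne']

end Cfsg.Agent.S4446
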