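import Cfsg.Statements.S4447
import Cfsg.Agent.Lib.Coprime.FixedPoint
import Cfsg.Agent.Lib.CharClifford.Clifford
import Cfsg.Agent.Lib.CharCore.ConjAut

set_option autoImplicit false
open Cfsg

namespace Cfsg.Agent.S4447

/-- Inside a finite group Γ let S normalise G and also normalise a normal subgroup N of G, with the order of S coprime to the index of N in G and S or G/N solvable. Then for every S-invariant irreducible character χ of G, the restriction of χ to N has an S-invariant irreducible constituent. -/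
theorem result {Γ : Type*} [Group Γ] [Fintype Γ] (G S N : Subgroup Γ) [Fintype G] [Fintype N] (hnorm : ∀ s ∈ S, ∀ g ∈ G, s * g * s⁻¹ ∈ G) (hNG : N ≤ G) [hNn : (N.subgroupOf G).Normal] (hNS : ∀ s ∈ S, ∀ n ∈ N, s * n * s⁻¹ ∈ N) (hcop : (N.relIndex G).Coprime (Nat.card S)) (hsolv : Group.IsSolvable S ∨ Group.IsSolvable (G ⧸ N.subgroupOf G)) (χ : Cfsg.IrrCharacter G) (hinv : (∀ s ∈ S, ∀ g g' : G, (g' : Γ) = s * g * s⁻¹ → (χ : G → ℂ) g' = (χ : G → ℂ) g)) : ∃ θ : Cfsg.IrrCharacter N, Cfsg.classInner (fun n : N => (χ : G → ℂ) ⟨n, hNG n.2⟩) (θ : N → ℂ) ≠ 0 ∧ (∀ s ∈ S, ∀ g g' : N, (g' : Γ) = s * g * s⁻¹ → (θ : N → ℂ) g' = (θ : N → ℂ) g) := by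
  classical
  obtain ⟨χ, hχ⟩ := χ
  replace hinv : ∀ s ∈ S, ∀ g g' : G, (g' : Γ) = s * g * s⁻¹ → χ g' = χ g := hinv
  show ∃ θ : Cfsg.IrrCharacter N, Cfsg.classInner (fun n : N => χ ⟨n, hNG n.2⟩) (θ : N → ℂ) ≠ 0 ∧ _
  set N' := N.subgroupOf G with hN'
  haveI := Fintype.ofFinite N'
  let e : N' ≃* N := Subgroup.subgroupOfEquivOfLe hNG
  have hχcl := CharCore.IsCharacter.isClassFunction (CharCore.IsIrrCharacter.isCharacter hχ)
  let F : Γ → ℂ := Cfsg.extendByZero G χ
  let R : Subgroup Γ := Subgroup.normalizer (N : Set Γ) ⊓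
    { carrier := {t | ∀ x, F (t * x * t⁻¹) = F x}
      one_mem' := fun x => by simp
      mul_mem' := fun {a b} ha hb x => by
        rw [← hb x, ← ha (b * x * b⁻¹)]; simp [mul_assoc]
      inv_mem' := fun {a} ha x => by
        rw [← ha (a⁻¹ * x * a⁻¹⁻¹)]; simp [mul_assoc] }
  have hGn : G ≤ Subgroup.normalizer (N : Set Γ) :=
    Coprime.le_normalizer_of_conj_mem fun g hg x hx =>
      Subgroup.mem_subgroupOf.mp
        (hNn.conj_mem ⟨x, hNG hx⟩ (Subgroup.mem_subgroupOf.mpr hx) ⟨g, hg⟩)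
  have hGR : G ≤ R := fun g hg => ⟨hGn hg, fun x => CharInd.extendByZero_conj_mem hχcl ⟨g, hg⟩ x⟩
  have hSR : S ≤ R := fun s hs => ⟨Coprime.le_normalizer_of_conj_mem hNS hs, fun x => by
    show Cfsg.extendByZero G χ (s * x * s⁻¹) = Cfsg.extendByZero G χ x
    by_cases hx : x ∈ G
    · rw [CharInd.extendByZero_mem _ hx, CharInd.extendByZero_mem _ (hnorm s hs x hx)]
      exact hinv s hs ⟨x, hx⟩ _ rfl
    · rw [CharInd.extendByZero_notMem _ hx, CharInd.extendByZero_notMem]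
      intro h
      apply hx
      simpa [mul_assoc] using hnorm s⁻¹ (inv_mem hs) _ h⟩
  let X := {θ : Cfsg.IrrCharacter N //
    Cfsg.classInner (fun n : N => χ ⟨n, hNG n.2⟩) (θ : N → ℂ) ≠ 0}
  let cj : R → (N ≃* N) := fun t =>
    { toFun := fun n => ⟨(t : Γ) * n * (t : Γ)⁻¹, (Subgroup.mem_normalizer_iff.mp t.2.1 n).mp n.2⟩
      invFun := fun n => ⟨(t : Γ)⁻¹ * n * (t : Γ),
        (Subgroup.mem_normalizer_iff.mp t.2.1 _).mpr (by simp [mul_assoc])⟩
      left_inv := fun n => Subtype.ext (show _ = (n : Γ) by simp [mul_assoc])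
      right_inv := fun n => Subtype.ext (show _ = (n : Γ) by simp [mul_assoc])
      map_mul' := fun a b => Subtype.ext (by simp [mul_assoc]) }
  have hpres : ∀ (t : R) (θ : Cfsg.IrrCharacter N),
      Cfsg.classInner (fun n : N => χ ⟨n, hNG n.2⟩) (fun n => (θ : N → ℂ) (cj t n)) =
        Cfsg.classInner (fun n : N => χ ⟨n, hNG n.2⟩) (θ : N → ℂ) := by
    intro t θ
    unfold Cfsg.classInner
    congr 1
    refine Fintype.sum_equiv (cj t).toEquiv _ _ fun n => congrArg₂ (· * ·) ?_ rfl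
    have h := t.2.2 (n : Γ)
    simp only [F] at h
    rw [CharInd.extendByZero_mem _ (hNG n.2),
      CharInd.extendByZero_mem _ (hNG (cj t n).2 : (t : Γ) * n * (t : Γ)⁻¹ ∈ G)] at h
    exact h.symm
  letI : MulAction R X :=
    { smul := fun t θ => ⟨⟨fun n => (θ.1 : N → ℂ) (cj t⁻¹ n),
        CharCore.isIrrCharacter_comp_surjective θ.1.2 (cj t⁻¹).toMonoidHom (cj t⁻¹).surjective⟩,
        by show Cfsg.classInner _ (fun n => (θ.1 : N → ℂ) (cj t⁻¹ n)) ≠ 0
           rw [hpres]; exact θ.2⟩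
      one_smul := fun θ => Subtype.ext (Subtype.ext (funext fun n => by
        show (θ.1 : N → ℂ) (cj 1⁻¹ n) = _
        exact congrArg _ (Subtype.ext (by simp [cj]))))
      mul_smul := fun a b θ => Subtype.ext (Subtype.ext (funext fun n => by
        show (θ.1 : N → ℂ) (cj (a * b)⁻¹ n) = (θ.1 : N → ℂ) (cj b⁻¹ (cj a⁻¹ n))
        exact congrArg _ (Subtype.ext (by simp [cj, mul_assoc])))) }
  have hsmul : ∀ (t : R) (θ : X) (n : N),
      ((t • θ).1 : N → ℂ) n = (θ.1 : N → ℂ) (cj t⁻¹ n) := fun _ _ _ => rfl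
  have hker : N' ≤ (((MulAction.toPermHom R X).comp (Subgroup.inclusion hGR))).ker := fun g hg => by
    refine MonoidHom.mem_ker.mpr (Equiv.ext fun θ => Subtype.ext (Subtype.ext (funext fun n => ?_)))
    show (θ.1 : N → ℂ) (cj _ n) = (θ.1 : N → ℂ) n
    have h := CharCore.irr_isClassFunction θ.1 n ⟨(g : Γ)⁻¹, inv_mem (Subgroup.mem_subgroupOf.mp hg)⟩
    exact (congrArg _ (Subtype.ext (by simp [cj]))).trans h
  letI : MulAction (G ⧸ N') X := MulAction.compHom X
    (QuotientGroup.lift N' ((MulAction.toPermHom R X).comp (Subgroup.inclusion hGR)) hker)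
  letI : MulAction S X := MulAction.compHom X (Subgroup.inclusion hSR)
  let cs : S → G →* G := fun s => (CharCore.conjAut G S hnorm s).toMonoidHom
  have hcs : ∀ s, N' ≤ N'.comap (cs s) := fun s g hg =>
    Subgroup.mem_subgroupOf.mpr (hNS s s.2 _ (Subgroup.mem_subgroupOf.mp hg))
  let qs : S → (G ⧸ N' →* G ⧸ N') := fun s => QuotientGroup.map N' N' (cs s) (hcs s)
  have hqs : ∀ s (g : G), qs s (g : G ⧸ N') = ((CharCore.conjAut G S hnorm s g : G) : G ⧸ N') :=
    fun _ _ => rfl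
  let φ : S →* MulAut (G ⧸ N') :=
    { toFun := fun s =>
        { toFun := qs s
          invFun := qs s⁻¹
          left_inv := fun q => by
            obtain ⟨g, rfl⟩ := QuotientGroup.mk_surjective q
            rw [hqs, hqs, map_inv, MulAut.inv_apply_self]
          right_inv := fun q => by
            obtain ⟨g, rfl⟩ := QuotientGroup.mk_surjective q
            rw [hqs, hqs, map_inv, MulAut.apply_inv_self]
          map_mul' := map_mul _ }
      map_one' := MulEquiv.ext fun q => by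
        obtain ⟨g, rfl⟩ := QuotientGroup.mk_surjective q
        simp only [MulEquiv.coe_mk, Equiv.coe_fn_mk, MulAut.one_apply]
        rw [hqs, map_one, MulAut.one_apply]
      map_mul' := fun a b => MulEquiv.ext fun q => by
        obtain ⟨g, rfl⟩ := QuotientGroup.mk_surjective q
        simp only [MulEquiv.coe_mk, Equiv.coe_fn_mk, MulAut.mul_apply]
        rw [hqs, hqs, hqs, map_mul, MulAut.mul_apply] }
  obtain ⟨θ₀, hθ₀⟩ : ∃ θ : Cfsg.IrrCharacter N,
      Cfsg.classInner (fun n : N => χ ⟨n, hNG n.2⟩) (θ : N → ℂ) ≠ 0 :=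
    CharClifford.exists_constituent
      (CharCore.isCharacter_comp (CharCore.IsIrrCharacter.isCharacter hχ) (Subgroup.inclusion hNG))
      (CharCore.irr_apply_one_ne_zero (⟨χ, hχ⟩ : Cfsg.IrrCharacter G))
  have hgq : ∀ (g : G) (θ : X), (g : G ⧸ N') • θ = (Subgroup.inclusion hGR g) • θ := fun _ _ => rfl
  have htr : MulAction.IsPretransitive (G ⧸ N') X := by
    refine ⟨fun a b => ?_⟩
    have hpull : ∀ θ : X, Cfsg.classInner (fun n : N' => χ (n : G))
        (fun n : N' => (θ.1 : N → ℂ) (e n)) ≠ 0 := fun θ h0 => θ.2 (by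
      refine Eq.trans ?_ h0
      unfold Cfsg.classInner
      rw [Nat.card_congr e.toEquiv]
      congr 1
      exact (Fintype.sum_equiv e.toEquiv _ _ fun x => rfl).symm)
    obtain ⟨x, hx⟩ := CharClifford.exists_conjFun_eq_of_constituents N' hχ
      (CharCore.isIrrCharacter_comp_surjective a.1.2 e.toMonoidHom e.surjective)
      (CharCore.isIrrCharacter_comp_surjective b.1.2 e.toMonoidHom e.surjective) (hpull a) (hpull b)
    refine ⟨((x⁻¹ : G) : G ⧸ N'), ?_⟩
    rw [hgq]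
    refine Subtype.ext (Subtype.ext (funext fun n => ?_))
    obtain ⟨n, rfl⟩ := e.surjective n
    rw [hsmul]
    refine Eq.trans ?_ (congrFun hx n).symm
    exact congrArg (a.1 : N → ℂ) (Subtype.ext (by simp only [cj, e, inv_inv, InvMemClass.coe_inv, map_inv]; simp [Subgroup.subgroupOfEquivOfLe]))
  obtain ⟨θ, hθ⟩ := Coprime.exists_fixed_of_transitive φ (X := X) (fun s q θ => by
    obtain ⟨g, rfl⟩ := QuotientGroup.mk_surjective q
    show Subgroup.inclusion hSR s • (g : G ⧸ N') • θ = _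
    rw [show φ s (g : G ⧸ N') = ((CharCore.conjAut G S hnorm s g : G) : G ⧸ N') from rfl, hgq, hgq]
    show _ = _ • Subgroup.inclusion hSR s • θ
    rw [← mul_smul, ← mul_smul]
    congr 1
    exact Subtype.ext (by simp [CharCore.coe_conjAut, mul_assoc])) htr ⟨θ₀, hθ₀⟩ hcop.symm hsolv
  refine ⟨θ.1, θ.2, fun s hs g g' hg' => ?_⟩
  have h := congrFun (congrArg (fun x : X => (x.1 : N → ℂ)) (hθ ⟨s, hs⟩)) g'
  refine h.symm.trans ?_
  show (θ.1 : N → ℂ) (cj _ g') = _
  exact congrArg _ (Subtype.ext (by simp [cj, hg', mul_assoc]))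

end Cfsg.Agent.S4447
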