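import Cfsg.Statements.S4451
import Cfsg.Agent.BlkChar.CyclicAction
import Cfsg.Agent.BlkChar.IntCongr

set_option autoImplicit false
open Cfsg
open scoped ComplexConjugate

namespace Cfsg.Agent.S4451

open BlkChar

/-- Restriction of canonical extensions under a coprime cyclic action with constant fixed points. -/
theorem result {Γ : Type*} [Group Γ] [Fintype Γ] (G S : Subgroup Γ) [Fintype G] (hnorm : ∀ s ∈ S, ∀ g ∈ G, s * g * s⁻¹ ∈ G) (hcop : (Nat.card G).Coprime (Nat.card S)) (htop : G ⊔ S = ⊤) (hcyc : IsCyclic S) (C : Subgroup Γ) [Fintype C] (hC : C = G ⊓ Subgroup.centralizer (S : Set Γ)) (hCG : C ≤ G) (hfpf : ∀ x ∈ S, x ≠ 1 → G ⊓ Subgroup.centralizer ({x} : Set Γ) = C) (χ : Cfsg.IrrCharacter G) (hinv : (∀ s ∈ S, ∀ g g' : G, (g' : Γ) = s * g * s⁻¹ → (χ : G → ℂ) g' = (χ : G → ℂ) g)) (χh : Cfsg.IrrCharacter Γ) (hext : (∀ g : G, (χh : Γ → ℂ) g = (χ : G → ℂ) g)) (hdet : (Cfsg.detOrder (χh : Γ → ℂ)).Coprime (Nat.card S)) (β : Cfsg.IrrCharacter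 C) (ε₀ : ℤ) (hε₀ : ε₀ = 1 ∨ ε₀ = -1) (hβ : ∀ c : C, ∀ s : Γ, Subgroup.zpowers s = S → (χh : Γ → ℂ) ((c : Γ) * s) = (ε₀ : ℂ) * (β : C → ℂ) c) : ∃ ε : ℤ, (ε = 1 ∨ ε = -1) ∧ (∃ μ : S → ℂ, Cfsg.IsCharacter S μ ∧ μ 1 = 1 ∧ (∀ x : S, μ x * μ x = 1) ∧ ∀ c : C, ∀ x : S, x ≠ 1 → (χh : Γ → ℂ) ((c : Γ) * x) = (ε : ℂ) * (β : C → ℂ) c * μ x) ∧ (∃ ϑ : C → ℂ, Cfsg.IsCharacter C ϑ ∧ (fun c : C => (χ : G → ℂ) ⟨c, hCG c.2⟩) = fun c => (Nat.card S : ℂ) * ϑ c + (ε : ℂ) * (β : C → ℂ) c) ∧ (Nat.card S : ℤ) ∣ (Cfsg.charDegree (χ : G → ℂ) : ℤ) - ε * (Cfsg.charDegree (β : C → ℂ) : ℤ) := by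
  classical
  haveI hGn : G.Normal := by
    rw [← Subgroup.normalizer_eq_top_iff, eq_top_iff, ← htop]
    refine sup_le Subgroup.le_normalizer fun s hs => ?_
    rw [Subgroup.mem_normalizer_iff]
    refine fun g => ⟨fun hg => hnorm s hs g hg, fun hg => ?_⟩
    have := hnorm s⁻¹ (S.inv_mem hs) _ hg
    rwa [show s⁻¹ * (s * g * s⁻¹) * s⁻¹⁻¹ = g by group] at this
  obtain ⟨s₀, hs₀⟩ := S.isCyclic_iff_exists_zpowers_eq_top.mp hcyc
  haveI := hcyc
  letI : CommGroup S := IsCyclic.commGroup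
  haveI := Fintype.ofFinite S
  have hSab : ∀ a ∈ S, ∀ b ∈ S, a * b = b * a := fun a ha b hb =>
    congrArg Subtype.val (mul_comm (⟨a, ha⟩ : S) ⟨b, hb⟩)
  have hCS : ∀ c ∈ C, ∀ x ∈ S, c * x = x * c := fun c hc x hx =>
    ((Subgroup.mem_centralizer_iff.mp ((hC ▸ hc : c ∈ G ⊓ Subgroup.centralizer (S : Set Γ)).2)) x hx).symm
  let y : S := ⟨s₀, hs₀ ▸ Subgroup.mem_zpowers s₀⟩
  have hy : ∀ x : S, x ∈ Subgroup.zpowers y := by
    intro x
    obtain ⟨k, hk⟩ := Subgroup.mem_zpowers_iff.mp (hs₀.symm ▸ x.2 : (x : Γ) ∈ Subgroup.zpowers s₀)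
    exact Subgroup.mem_zpowers_iff.mpr ⟨k, Subtype.ext (by simpa using hk)⟩
  have hres : IsIrrCharacter G (fun g : G => (χh : Γ → ℂ) g) := by
    rw [show (fun g : G => (χh : Γ → ℂ) g) = (χ : G → ℂ) from funext hext]; exact χ.2
  have hval : ∀ x : S, ∃ (γ : IrrCharacter C) (e : ℤ), (e = 1 ∨ e = -1) ∧
      (x ≠ 1 → ∀ c : C, (χh : Γ → ℂ) ((c : Γ) * x) = (e : ℂ) * (γ : C → ℂ) c) := by
    intro x
    by_cases hx : x = 1
    · exact ⟨β, 1, Or.inl rfl, fun h => absurd hx h⟩
    · obtain ⟨γ, e, he, hv⟩ := exists_value G S hcop htop C hCG hCS hSab χh.2 hres hdet x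
        (hfpf x x.2 (fun h => hx (Subtype.ext h))).symm
      exact ⟨γ, e, he, fun _ => hv⟩
  choose bx ex hex hv using hval
  let m : IrrCharacter C → S → ℂ := fun γ => mult S C (χh : Γ → ℂ) (γ : C → ℂ)
  have hmc : ∀ γ, IsCharacter S (m γ) := fun γ =>
    isCharacter_mult S C hCS hSab (CharCore.IsIrrCharacter.isCharacter χh.2) (CharCore.irr_isCharacter γ)
  have hm : ∀ γ (x : S), x ≠ 1 → m γ x = ((if bx x = γ then ex x else 0 : ℤ) : ℂ) := by
    intro γ x hx
    show classInner (fnAt C (χh : Γ → ℂ) (x : Γ)) (γ : C → ℂ) = _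
    rw [show fnAt C (χh : Γ → ℂ) (x : Γ) = (ex x : ℂ) • (bx x : C → ℂ) from funext fun c => hv x hx c,
      CharCore.classInner_smul_left]
    split_ifs with h
    · rw [h, CharCore.classInner_irr_self, mul_one]
    · rw [CharCore.classInner_irr_of_ne h, mul_zero, Int.cast_zero]
  have hroot : ∀ (x : S) (q : ℕ), x ^ q ≠ 1 → x ≠ 1 := by
    rintro x q h rfl; exact h (one_pow q)
  have step : ∀ (x : S) (q : ℕ), q.Prime → x ^ q ≠ 1 →
      bx (x ^ q) = bx x ∧ (q ≠ 2 → ex (x ^ q) = ex x) := by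
    intro x q hq hxq
    have hd := int_value_pow_prime (hmc (bx x)) x hq (hm (bx x) x (hroot x q hxq)) (hm (bx x) _ hxq)
    rw [if_pos rfl] at hd
    by_cases hb : bx (x ^ q) = bx x
    · refine ⟨hb, fun hq2 => ?_⟩
      rw [if_pos hb] at hd
      have h2 : 2 ≤ q := hq.two_le
      by_contra hne
      rcases hex x with h | h <;> rcases hex (x ^ q) with h' | h' <;> rw [h, h'] at hne hd
      · exact hne rfl
      · have := Int.le_of_dvd (by norm_num) hd; omega
      · rw [← Int.dvd_neg] at hd; have := Int.le_of_dvd (by norm_num) hd; omega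
      · exact hne rfl
    · exfalso
      rw [if_neg hb, sub_zero] at hd
      have h2 : (2 : ℤ) ≤ q := by exact_mod_cast hq.two_le
      rcases hex x with h | h <;> rw [h] at hd
      · have := Int.le_of_dvd one_pos hd; omega
      · rw [Int.dvd_neg] at hd; have := Int.le_of_dvd one_pos hd; omega
  have step2 : ∀ x : S, (x ^ 2) ^ 2 ≠ 1 → ex ((x ^ 2) ^ 2) = ex (x ^ 2) := by
    intro x hx
    have h1 := hroot _ _ hx
    have h0 := hroot _ _ h1
    have e1 := (step x 2 Nat.prime_two h1).1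
    have e2 := ((step (x ^ 2) 2 Nat.prime_two hx).1).trans e1
    have ha := hm (bx x) x h0
    have hb := hm (bx x) _ h1
    have hc := hm (bx x) _ hx
    rw [if_pos rfl] at ha
    rw [if_pos e1] at hb
    rw [if_pos e2] at hc
    exact (int_value_pow_two (hmc (bx x)) x ha hb hc (hex _) (hex _) (hex _)).symm
  obtain ⟨ε₂, hε₂, hε₂0, hε₂1⟩ : ∃ ε₂ : ℤ, (ε₂ = 1 ∨ ε₂ = -1) ∧ (y ^ 2 = 1 → ε₂ = ε₀) ∧
      (y ^ 2 ≠ 1 → ex (y ^ 2) = ε₂) := by
    by_cases h : y ^ 2 = 1
    · exact ⟨ε₀, hε₀, fun _ => rfl, fun h' => absurd h h'⟩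
    · exact ⟨_, hex _, fun h' => absurd h' h, fun _ => rfl⟩
  have key : ∀ k : ℕ, y ^ k ≠ 1 → bx (y ^ k) = β ∧ ex (y ^ k) = if Even k then ε₂ else ε₀ := by
    intro k
    induction k using Nat.strong_induction_on with
    | _ k ih =>
      intro hk
      rcases Nat.lt_or_ge k 2 with h | h
      · interval_cases k
        · exact absurd (pow_zero y) hk
        · have hy1 : y ≠ 1 := by rwa [pow_one] at hk
          obtain ⟨h1, h2⟩ := sign_unique C (hex y) hε₀
            fun c => (hv y hy1 c).symm.trans (hβ c s₀ hs₀)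
          rw [pow_one, if_neg (by decide)]
          exact ⟨h1, h2⟩
      · have viaOdd : ∀ i q : ℕ, k = i * q → q.Prime → q ≠ 2 →
            bx (y ^ k) = β ∧ ex (y ^ k) = if Even k then ε₂ else ε₀ := by
          intro i q hiq hq hq2
          have hk' : (y ^ i) ^ q ≠ 1 := by rwa [← pow_mul, ← hiq]
          have hi : i < k := by
            rw [hiq]
            exact lt_mul_of_one_lt_right (Nat.pos_of_ne_zero fun h0 => by subst h0; simp at hiq; omega)
              hq.one_lt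
          obtain ⟨h1, h2⟩ := ih i hi (hroot _ _ hk')
          obtain ⟨h3, h4⟩ := step (y ^ i) q hq hk'
          rw [hiq, pow_mul]
          refine ⟨h3.trans h1, (h4 hq2).trans (h2.trans ?_)⟩
          have : Even (i * q) ↔ Even i := by
            rw [Nat.even_mul]
            exact or_iff_left (Nat.not_even_iff_odd.mpr (hq.odd_of_ne_two hq2))
          simp only [this]
        by_cases he : Even k
        · obtain ⟨j, rfl⟩ := he
          rw [if_pos ⟨j, rfl⟩]
          by_cases hj : Even j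
          · obtain ⟨i, rfl⟩ := hj
            have e : y ^ (i + i + (i + i)) = ((y ^ i) ^ 2) ^ 2 := by rw [← pow_mul, ← pow_mul]; ring_nf
            rw [e] at hk ⊢
            have e' : (y ^ i) ^ 2 = y ^ (i + i) := by rw [← pow_mul]; ring_nf
            obtain ⟨h1, h2⟩ := ih (i + i) (by omega) (e' ▸ hroot _ _ hk)
            rw [← e', if_pos ⟨i, rfl⟩] at *
            exact ⟨((step _ 2 Nat.prime_two hk).1).trans h1, (step2 _ hk).trans h2⟩
          · by_cases hj1 : j = 1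
            · subst hj1
              rw [show (1 + 1 : ℕ) = 2 from rfl] at hk ⊢
              have hk1 : y ≠ 1 := hroot _ _ hk
              have hb := (step y 2 Nat.prime_two hk).1
              have h1 := (ih 1 (by omega) (by rwa [pow_one])).1
              rw [pow_one] at h1
              exact ⟨hb.trans h1, hε₂1 hk⟩
            · have hq := Nat.minFac_prime hj1
              obtain ⟨i, hi⟩ := Nat.minFac_dvd j
              have := viaOdd (2 * i) j.minFac (by nth_rw 1 2 [hi]; ring) hq fun h2 => hj (by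
                rw [hi, h2]; exact even_two_mul i)
              rwa [if_pos ⟨j, rfl⟩] at this
        · obtain ⟨i, hi⟩ := Nat.minFac_dvd k
          exact viaOdd i k.minFac (hi.trans (mul_comm _ _)) (Nat.minFac_prime (by omega)) fun h2 =>
            he (by rw [hi, h2]; exact even_two_mul i)
  have hn : orderOf y = Nat.card S := orderOf_eq_card_of_forall_mem_zpowers hy
  have hη : ((ε₀ : ℂ) * ε₂) ^ Nat.card S = 1 := by
    rcases Nat.even_or_odd (Nat.card S) with ⟨j, hj⟩ | hodd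
    · rw [hj, pow_add, ← mul_pow]
      rcases hε₀ with rfl | rfl <;> rcases hε₂ with rfl | rfl <;> simp
    · have : ε₂ = ε₀ := by
        by_cases h : y ^ 2 = 1
        · exact hε₂0 h
        · have hy1 := hroot y 2 h
          have e : y ^ (Nat.card S + 1) = y := by rw [pow_succ, pow_card_eq_one', one_mul]
          obtain ⟨-, h1⟩ := key _ (e.symm ▸ hy1)
          obtain ⟨-, h2⟩ := key 1 (by rwa [pow_one])
          rw [e, if_pos (by exact hodd.add_one)] at h1
          rw [pow_one, if_neg (by decide)] at h2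
          exact h1.symm.trans h2
      rw [this]
      rcases hε₀ with rfl | rfl <;> simp
  have hη0 : ((ε₀ : ℂ) * ε₂) ≠ 0 := fun h => by
    rw [h, zero_pow Nat.card_pos.ne'] at hη; exact zero_ne_one hη
  let l : S →* ℂˣ := monoidHomOfForallMemZpowers hy (g' := Units.mk0 _ hη0) (by
    rw [hn]; exact orderOf_dvd_of_pow_eq_one (Units.ext (by simpa using hη)))
  have hl : ∀ k : ℕ, ((l (y ^ k) : ℂˣ) : ℂ) = ((ε₀ : ℂ) * ε₂) ^ k := fun k => by
    simp [l, map_pow]
  have hpw : ∀ x : S, ∃ k : ℕ, y ^ k = x := fun x => by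
    have := mem_powers_iff_mem_zpowers.mpr (hy x); exact this
  have hx : ∀ x : S, x ≠ 1 → bx x = β ∧ (ex x : ℂ) = (ε₂ : ℂ) * ((l x : ℂˣ) : ℂ) := by
    intro x hx1
    obtain ⟨k, rfl⟩ := hpw x
    obtain ⟨h1, h2⟩ := key k hx1
    refine ⟨h1, ?_⟩
    rw [h2, hl]
    split_ifs with hk
    · obtain ⟨j, rfl⟩ := hk
      rw [pow_add, ← mul_pow]
      rcases hε₀ with rfl | rfl <;> rcases hε₂ with rfl | rfl <;> simp
    · obtain ⟨j, rfl⟩ := Nat.not_even_iff_odd.mp hk
      rw [pow_succ, pow_mul]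
      rcases hε₀ with rfl | rfl <;> rcases hε₂ with rfl | rfl <;> simp
  have hC0 : (fun c : C => (χ : G → ℂ) ⟨c, hCG c.2⟩) = fun c : C => (χh : Γ → ℂ) c :=
    funext fun c => (hext ⟨c, hCG c.2⟩).symm
  have hB : ∃ ϑ : C → ℂ, IsCharacter C ϑ ∧ (fun c : C => (χ : G → ℂ) ⟨c, hCG c.2⟩) =
      fun c => (Nat.card S : ℂ) * ϑ c + (ε₂ : ℂ) * (β : C → ℂ) c := by
    by_cases hy1 : y = 1
    · refine ⟨0, CharCore.isCharacter_zero, ?_⟩
      rw [hC0, hε₂0 (by rw [hy1, one_pow])]
      funext c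
      have h := hβ c s₀ hs₀
      rw [show s₀ = 1 from congrArg Subtype.val hy1, mul_one] at h
      simpa using h
    · obtain ⟨d, hd⟩ := CommGroup.exists_apply_ne_one_of_hasEnoughRootsOfUnity S ℂ hy1
      let lam : IrrCharacter S := ⟨_, CharCore.isIrrCharacter_hom (l * d)⟩
      let mu : IrrCharacter S := ⟨_, CharCore.isIrrCharacter_hom l⟩
      have hne : mu ≠ lam := fun h => by
        have h1 := congrFun (congrArg Subtype.val h) y
        simp only [mu, lam, MonoidHom.mul_apply, Units.val_mul] at h1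
        exact hd (Units.ext (mul_left_cancel₀ (l y).ne_zero (h1.symm.trans (mul_one _).symm)))
      choose t ht using fun γ => CharCore.IsCharacter.exists_classInner_irr_eq_natCast (hmc γ) lam
      have hD : ∀ γ, m γ 1 = (Nat.card S : ℂ) * t γ + if γ = β then (ε₂ : ℂ) else 0 := by
        intro γ
        set c0 : ℂ := if γ = β then (ε₂ : ℂ) else 0 with hc0
        have h : classInner (m γ - c0 • (mu : S → ℂ)) (lam : S → ℂ) = t γ := by
          rw [CharCore.classInner_sub_left, CharCore.classInner_smul_left,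
            CharCore.classInner_irr_of_ne hne, mul_zero, sub_zero, ht γ]
        rw [CharCore.classInner_def, Finset.sum_eq_single (1 : S)] at h
        · simp only [Pi.sub_apply, Pi.smul_apply, smul_eq_mul, mu, lam, map_one, Units.val_one,
            mul_one] at h
          rw [← h]
          field_simp
          ring
        · intro x _ hx1
          obtain ⟨h1, h2⟩ := hx x hx1
          rw [Pi.sub_apply, hm γ x hx1, Pi.smul_apply, smul_eq_mul, hc0]
          by_cases hγ : γ = β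
          · subst hγ; rw [if_pos h1, if_pos rfl, h2, sub_self, zero_mul]
          · rw [if_neg fun hb => hγ (hb.symm.trans h1), if_neg hγ]; simp
        · simp
      refine ⟨∑ γ, (t γ : ℂ) • (γ : C → ℂ), CharCore.isCharacter_sum_irr t, ?_⟩
      rw [hC0]
      funext c
      have hcl : IsClassFunction C (fun c : C => (χh : Γ → ℂ) c) :=
        CharCore.IsCharacter.isClassFunction
          (CharCore.isCharacter_restrict (CharCore.irr_isCharacter χh) C)
      have h := congrFun (CharCore.eq_sum_classInner hcl) c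
      rw [h]
      simp only [Finset.sum_apply, Pi.smul_apply, smul_eq_mul, ← mult_one S C]
      change ∑ γ : IrrCharacter C, m γ 1 * (γ : C → ℂ) c = _
      simp only [hD, add_mul, Finset.sum_add_distrib, mul_assoc, ← Finset.mul_sum, ite_mul, zero_mul,
        Finset.sum_ite_eq', Finset.mem_univ, if_true]
  refine ⟨ε₂, hε₂, ⟨fun x => ((l x : ℂˣ) : ℂ), CharCore.IsIrrCharacter.isCharacter
    (CharCore.isIrrCharacter_hom l), by simp, fun x => ?_, fun c x hx1 => ?_⟩, hB, ?_⟩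
  · obtain ⟨k, rfl⟩ := hpw x
    show ((l (y ^ k) : ℂˣ) : ℂ) * ((l (y ^ k) : ℂˣ) : ℂ) = 1
    rw [hl, ← mul_pow]
    rcases hε₀ with rfl | rfl <;> rcases hε₂ with rfl | rfl <;> simp
  · obtain ⟨h1, h2⟩ := hx x hx1
    rw [hv x hx1 c, h1, h2]; ring
  · obtain ⟨ϑ, hϑ, hϑe⟩ := hB
    obtain ⟨k, hk⟩ := CharCore.IsCharacter.exists_degree hϑ
    obtain ⟨a, -, ha, had⟩ := exists_degree' χ
    obtain ⟨b, -, hb, hbd⟩ := exists_degree' β
    refine ⟨k, ?_⟩
    have h := congrFun hϑe 1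
    rw [show (⟨((1 : C) : Γ), hCG (1 : C).2⟩ : G) = 1 from Subtype.ext rfl, ha, hb, hk] at h
    rw [had, hbd, sub_eq_iff_eq_add]
    exact_mod_cast h

end Cfsg.Agent.S4451
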