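import Cfsg.Statements.S4452
import Cfsg.Agent.BlkChar.CoprimeDegree

set_option autoImplicit false
open Cfsg

namespace Cfsg.Agent.S4452

open BlkChar

/-- Counting characters of degree prime to the order of a solvable coprime complement. -/
theorem result {G : Type*} [Group G] [Finite G] (K H : Subgroup G) [K.Normal] (hKH : K ⊔ H = ⊤) (hcop : (Nat.card K).Coprime (Nat.card H)) (hsolv : Group.IsSolvable H) : Nat.card {χ : Cfsg.IrrCharacter G // (Cfsg.charDegree (χ : G → ℂ)).Coprime (Nat.card H)} = Nat.card {η : Cfsg.IrrCharacter (Subgroup.normalizer (H : Set G)) // (Cfsg.charDegree (η : Subgroup.normalizer (H : Set G) → ℂ)).Coprime (Nat.card H)} := by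
  classical
  haveI := hsolv
  haveI := Fintype.ofFinite G
  set N := Subgroup.normalizer (H : Set G) with hN
  let K' := K.subgroupOf N
  let H' := H.subgroupOf N
  have hHN : H ≤ N := Subgroup.le_normalizer
  let eH : H' ≃* H := Subgroup.subgroupOfEquivOfLe hHN
  let ι : K' →* K :=
    { toFun := fun x => ⟨((x : N) : G), x.2⟩, map_one' := rfl, map_mul' := fun _ _ => rfl }
  have hι : Function.Injective ι := fun a b h =>
    Subtype.ext (Subtype.ext (congrArg (fun z : K => (z : G)) h))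
  have hcK : Nat.card K' ∣ Nat.card K := Subgroup.card_dvd_of_injective ι hι
  have hcH : Nat.card H' = Nat.card H := Nat.card_congr eH.toEquiv
  have hcop' : (Nat.card K').Coprime (Nat.card H') := by
    rw [hcH]; exact hcop.coprime_dvd_left hcK
  have hKH' : K' ⊔ H' = ⊤ := by
    rw [eq_top_iff]
    intro n _
    obtain ⟨k, hk, h, hh, e⟩ := Subgroup.mem_sup_of_normal_left.mp
      (hKH ▸ Subgroup.mem_top (n : G) : (n : G) ∈ K ⊔ H)
    have hkN : k ∈ N := by
      rw [eq_mul_inv_of_mul_eq e]; exact N.mul_mem n.2 (N.inv_mem (hHN hh))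
    rw [show n = (⟨k, hkN⟩ : N) * ⟨h, hHN hh⟩ from Subtype.ext e.symm]
    exact Subgroup.mul_mem_sup (show (⟨k, hkN⟩ : N) ∈ K' from hk)
      (show (⟨h, hHN hh⟩ : N) ∈ H' from hh)
  have hcomm : ∀ k : G, k ∈ K → k ∈ N → ∀ s ∈ H, s * k * s⁻¹ = k := by
    intro k hk hkN s hs
    have h1 : k⁻¹ * (s * k * s⁻¹) ∈ K :=
      K.mul_mem (K.inv_mem hk) (Subgroup.Normal.conj_mem inferInstance k hk s)
    have h2 : k⁻¹ * (s * k * s⁻¹) ∈ H := by
      rw [show k⁻¹ * (s * k * s⁻¹) = (k⁻¹ * s * k) * s⁻¹ by group]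
      refine H.mul_mem ?_ (H.inv_mem hs)
      have := (Subgroup.mem_normalizer_iff.mp (N.inv_mem hkN) s).mp hs
      rwa [inv_inv] at this
    have h3 : k⁻¹ * (s * k * s⁻¹) = 1 :=
      Subgroup.mem_bot.mp ((Subgroup.inf_eq_bot_of_coprime hcop) ▸ ⟨h1, h2⟩)
    exact (inv_mul_eq_one.mp h3).symm
  rw [card_coprime_degree K H hKH hcop, ← hcH, card_coprime_degree K' H' hKH' hcop']
  congr 1
  · have h1 : ∀ θ : IrrCharacter K', ∀ s ∈ H', ∀ g g' : K', (g' : N) = s * g * s⁻¹ →
        (θ : K' → ℂ) g' = (θ : K' → ℂ) g := by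
      intro θ s hs g g' he
      have hgg : g' = g := Subtype.ext (Subtype.ext (by
        rw [he, Subgroup.coe_mul, Subgroup.coe_mul, Subgroup.coe_inv]
        exact hcomm _ g.2 (g : N).2 _ hs))
      rw [hgg]
    rw [Nat.card_congr (Equiv.subtypeUnivEquiv h1)]
    have hn : ∀ s ∈ H, ∀ g ∈ K, s * g * s⁻¹ ∈ K := fun s _ g hg =>
      Subgroup.Normal.conj_mem inferInstance g hg s
    refine (Nat.card_congr (Equiv.subtypeEquivRight fun θ => (CharCore.isInvFun_conjAut hn _).symm)).trans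
      (card_inv_irr_eq_card_irr_fixed _ H K (CharCore.conjAut K H hn) K' ι hι (fun g => ?_) rfl hcop)
    constructor
    · rintro ⟨x, rfl⟩ s
      exact Subtype.ext (hcomm _ x.2 (x : N).2 s s.2)
    · intro h
      refine ⟨⟨⟨(g : G), ?_⟩, g.2⟩, Subtype.ext rfl⟩
      refine Subgroup.centralizer_le_normalizer _ (Subgroup.mem_centralizer_iff.mpr fun s hs => ?_)
      exact mul_inv_eq_iff_eq_mul.mp (congrArg (fun z : K => (z : G)) (h ⟨s, hs⟩))
  · exact Nat.card_congr (MulEquiv.monoidHomCongrLeftEquiv eH.symm)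

end Cfsg.Agent.S4452
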