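import Cfsg.Statements.S4453
import Cfsg.Agent.BlkChar.OddCorr.Main

set_option autoImplicit false
open Cfsg

namespace Cfsg.Agent.S4453

/-- Inside a finite group Γ let S normalise the solvable subgroup G of odd order with the orders of G and S coprime, let C = G ⊓ C(S), and let L ≤ K be S-invariant normal subgroups of G with K/L abelian, G = KC and H = LC (so C ≤ H ≤ G). Then for each S-invariant irreducible character χ of G there is exactly one S-invariant irreducible character ψ of H whose multiplicity in the restriction of χ to H is odd, and χ ↦ ψ is a bijection from the S-invariant irreducible characters of G onto those of H (distinct χ give distinct ψ, and every S-invariant ψ arises). -/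
theorem result {Γ : Type*} [Group Γ] [Fintype Γ] (G S : Subgroup Γ) [Fintype G] (hnorm : ∀ s ∈ S, ∀ g ∈ G, s * g * s⁻¹ ∈ G) (hcop : (Nat.card G).Coprime (Nat.card S)) (hGsolv : Group.IsSolvable G) (hodd : Odd (Nat.card G)) (C : Subgroup Γ) [Fintype C] (hC : C = G ⊓ Subgroup.centralizer (S : Set Γ)) (hCG : C ≤ G) (K L H : Subgroup Γ) [Fintype H] (hLK : L ≤ K) (hKG : K ≤ G) (hKn : ∀ g ∈ G, ∀ k ∈ K, g * k * g⁻¹ ∈ K) (hLn : ∀ g ∈ G, ∀ l ∈ L, g * l * g⁻¹ ∈ L) (hKS : ∀ s ∈ S, ∀ k ∈ K, s * k * s⁻¹ ∈ K) (hLS : ∀ s ∈ S, ∀ l ∈ L, s * l * s⁻¹ ∈ L) (hab : ∀ a ∈ K, ∀ b ∈ K, a * b * a⁻¹ * b⁻¹ ∈ L) (hGKC : K ⊔ C = G) (hH : H = L ⊔ C) (hHG : H ≤ G) : (∀ χ : Cfsg.IrrCharacter G, (∀ s ∈ S, ∀ g g' : G, (g' : Γ) = s * g * s⁻¹ → (χ : G → ℂ) g' = (χ : G → ℂ) g) → ∃! ψ : Cfsg.IrrCharacter H, (∀ s ∈ S, ∀ g g' : H, (g' : Γ) = s * g * s⁻¹ → (ψ : H → ℂ) g' = (ψ : H →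 ℂ) g) ∧ ∃ m : ℕ, Cfsg.classInner (fun h : H => (χ : G → ℂ) ⟨h, hHG h.2⟩) (ψ : H → ℂ) = (m : ℂ) ∧ Odd m) ∧ (∀ χ χ' : Cfsg.IrrCharacter G, (∀ s ∈ S, ∀ g g' : G, (g' : Γ) = s * g * s⁻¹ → (χ : G → ℂ) g' = (χ : G → ℂ) g) → (∀ s ∈ S, ∀ g g' : G, (g' : Γ) = s * g * s⁻¹ → (χ' : G → ℂ) g' = (χ' : G → ℂ) g) → ∀ ψ : Cfsg.IrrCharacter H, (∀ s ∈ S, ∀ g g' : H, (g' : Γ) = s * g * s⁻¹ → (ψ : H → ℂ) g' = (ψ : H → ℂ) g) → ∀ m m' : ℕ, Cfsg.classInner (fun h : H => (χ : G → ℂ) ⟨h, hHG h.2⟩) (ψ : H → ℂ) = (m : ℂ) → Odd m → Cfsg.classInner (fun h : H => (χ' : G → ℂ) ⟨h, hHG h.2⟩) (ψ : H → ℂ) = (m' : ℂ) → Odd m' → χ = χ') ∧ (∀ ψ : Cfsg.IrrCharacter H, (∀ s ∈ S, ∀ g g' : H, (g' : Γ) = s * g * s⁻¹ → (ψ : H → ℂ) g' = (ψ : H → ℂ) g) → ∃ χ : Cfsg.IrrCharacter G, (∀ s ∈ S, ∀ g g' : G, (g' : Γ) = s * g * s⁻¹ → (χ : G → ℂ) g' = (χ : G → ℂ) g) ∧ ∃ m : ℕ, Cfsg.classInner (fun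 h : H => (χ : G → ℂ) ⟨h, hHG h.2⟩) (ψ : H → ℂ) = (m : ℂ) ∧ Odd m) := by
  classical
  let act : S →* MulAut G := CharCore.conjAut G S hnorm
  set K' := K.subgroupOf G with hK'
  set L' := L.subgroupOf G with hL'
  set C' := C.subgroupOf G with hC'
  set H' := H.subgroupOf G with hH'
  haveI : K'.Normal := ⟨fun x hx g => hKn g g.2 x hx⟩
  haveI : L'.Normal := ⟨fun x hx g => hLn g g.2 x hx⟩
  letI := Fintype.ofFinite H'
  let e : H' ≃* H := Subgroup.subgroupOfEquivOfLe hHG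
  have hLG : L ≤ G := hLK.trans hKG
  have hCS : ∀ c ∈ C, ∀ s ∈ S, s * c * s⁻¹ = c := by
    intro c hc s hs
    rw [hC] at hc
    rw [Subgroup.mem_centralizer_iff.mp hc.2 s hs, mul_inv_cancel_right]
  have hHS : ∀ s ∈ S, ∀ x ∈ H, s * x * s⁻¹ ∈ H := by
    intro s hs x hx
    have hle : H.map (MulAut.conj s).toMonoidHom ≤ H := by
      rw [hH, Subgroup.map_sup]
      refine sup_le_sup ?_ ?_
      · rintro _ ⟨y, hy, rfl⟩; exact hLS s hs y hy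
      · rintro _ ⟨y, hy, rfl⟩
        show s * y * s⁻¹ ∈ C
        rw [hCS y hy s hs]; exact hy
    exact hle ⟨x, hx, rfl⟩
  obtain ⟨h1, h2, h3⟩ := BlkChar.OddCorr.odd_corr act K' L' C' H' (fun x hx => hLK hx)
    (fun a c hc => Subtype.ext (hCS c hc a a.2))
    (fun g hg => by
      show (g : Γ) ∈ C
      rw [hC]
      refine ⟨g.2, Subgroup.mem_centralizer_iff.mpr fun s hs => ?_⟩
      exact mul_inv_eq_iff_eq_mul.mp (congrArg Subtype.val (hg ⟨s, hs⟩)))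
    (by rw [hH', hL', hC', hH]; exact (Subgroup.subgroupOf_sup hLG hCG))
    (by rw [hK', hC', ← Subgroup.subgroupOf_sup hKG hCG, hGKC, Subgroup.subgroupOf_self])
    (fun a x hx => hKS a a.2 x hx) (fun a x hx => hLS a a.2 x hx) (fun a x hx => hHS a a.2 x hx)
    (fun x hx y hy => hab x hx y hy) hcop.symm hodd hGsolv
  have hmult : ∀ (χ : Cfsg.IrrCharacter G) (ψ : Cfsg.IrrCharacter H),
      Cfsg.classInner (fun h : H' => (χ : G → ℂ) h) (BlkChar.OddCorr.irrComp e ψ) =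
        Cfsg.classInner (fun h : H => (χ : G → ℂ) ⟨h, hHG h.2⟩) (ψ : H → ℂ) := fun χ ψ =>
    BlkChar.OddCorr.classInner_comp_equiv e (fun h : H => (χ : G → ℂ) ⟨h, hHG h.2⟩) (ψ : H → ℂ)
  have hinvG : ∀ χ : Cfsg.IrrCharacter G,
      (∀ s ∈ S, ∀ g g' : G, (g' : Γ) = s * g * s⁻¹ → (χ : G → ℂ) g' = (χ : G → ℂ) g) ↔
        ∀ (a : S) g, (χ : G → ℂ) (act a g) = (χ : G → ℂ) g := fun χ =>
    (CharCore.isInvFun_conjAut hnorm (χ : G → ℂ)).symm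
  have hinvH : ∀ ψ : Cfsg.IrrCharacter H,
      (∀ s ∈ S, ∀ g g' : H, (g' : Γ) = s * g * s⁻¹ → (ψ : H → ℂ) g' = (ψ : H → ℂ) g) ↔
        ∀ (a : S) (h : H'), (BlkChar.OddCorr.irrComp e ψ : H' → ℂ)
          ⟨act a h, hHS a a.2 h h.2⟩ = (BlkChar.OddCorr.irrComp e ψ : H' → ℂ) h := fun ψ =>
    ⟨fun hi a h => hi a a.2 (e h) (e ⟨act a h, hHS a a.2 h h.2⟩) rfl, fun hi s hs g g' he => by
      have h0 := hi ⟨s, hs⟩ (e.symm g)
      rw [BlkChar.OddCorr.irrComp_apply, BlkChar.OddCorr.irrComp_apply, e.apply_symm_apply] at h0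
      exact (congrArg (ψ : H → ℂ) (Subtype.ext he)).trans h0⟩
  have hsurj : ∀ η : Cfsg.IrrCharacter H', BlkChar.OddCorr.irrComp e
      (BlkChar.OddCorr.irrComp e.symm η) = η := fun η => Subtype.ext (funext fun x => by
    rw [BlkChar.OddCorr.irrComp_apply, BlkChar.OddCorr.irrComp_apply, e.symm_apply_apply])
  refine ⟨fun χ hχ => ?_, fun χ χ' hχ hχ' ψ hψ m m' hm hmo hm' hmo' => ?_, fun ψ hψ => ?_⟩
  · obtain ⟨η, ⟨hη, m, hm, hmo⟩, hu⟩ := h1 χ ((hinvG χ).mp hχ)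
    refine ⟨BlkChar.OddCorr.irrComp e.symm η, ⟨(hinvH _).mpr (by rw [hsurj]; exact hη), m,
      by rw [← hmult, hsurj]; exact hm, hmo⟩, ?_⟩
    rintro ψ ⟨hψ, k, hk, hko⟩
    rw [← hu (BlkChar.OddCorr.irrComp e ψ) ⟨(hinvH ψ).mp hψ, k, (hmult χ ψ).trans hk, hko⟩]
    exact Subtype.ext (funext fun x => by
      rw [BlkChar.OddCorr.irrComp_apply, BlkChar.OddCorr.irrComp_apply, e.apply_symm_apply])
  · exact h2 χ χ' ((hinvG χ).mp hχ) ((hinvG χ').mp hχ') _ ((hinvH ψ).mp hψ)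
      ⟨m, (hmult χ ψ).trans hm, hmo⟩ ⟨m', (hmult χ' ψ).trans hm', hmo'⟩
  · obtain ⟨χ, hχ, m, hm, hmo⟩ := h3 _ ((hinvH ψ).mp hψ)
    exact ⟨χ, (hinvG χ).mpr hχ, m, (hmult χ ψ).symm.trans hm, hmo⟩

end Cfsg.Agent.S4453
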