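import Cfsg.Statements.S4454
import Cfsg.Agent.BlkChar.FullyRamified

set_option autoImplicit false
open Cfsg

namespace Cfsg.Agent.S4454

/-- Fully ramified sections under a cyclic Frobenius action. -/
theorem result {Γ : Type*} [Group Γ] [Fintype Γ] (G N : Subgroup Γ) [hG : G.Normal] [hN : N.Normal] [Fintype G] [Fintype N] (hNG : N ≤ G) (hGlt : G ≠ ⊤) (hNlt : N ≠ G) (hcyc : IsCyclic (Γ ⧸ G)) (hfrob : ∀ x : Γ, x ∉ G → ∀ g : Γ, g ∈ G → x * g * x⁻¹ * g⁻¹ ∈ N → g ∈ N) (θ : Cfsg.IrrCharacter N) (hinv : ∀ (x : Γ) (n : N), (θ : N → ℂ) ⟨x * n * x⁻¹, hN.conj_mem n n.2 x⟩ = (θ : N → ℂ) n) (χ : Cfsg.IrrCharacter G) (e : ℕ) (hram : Cfsg.indFun (N.subgroupOf G) (fun n : N.subgroupOf G => (θ : N → ℂ) ⟨(n : G), n.2⟩) = fun g => (e : ℂ) * (χ : G → ℂ) g) : (G.index : ℤ) ∣ (e : ℤ) - 1 ∨ (G.index : ℤ) ∣ (e : ℤ) + 1 := by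
  classical
  let M := N.subgroupOf G
  haveI := Fintype.ofFinite M
  let eM : M ≃* N := Subgroup.subgroupOfEquivOfLe hNG
  set φ : M → ℂ := fun n : M => (θ : N → ℂ) ⟨((n : G) : Γ), n.2⟩ with hφ
  have hφi : IsIrrCharacter M φ :=
    CharCore.isIrrCharacter_comp_surjective θ.2 eM.toMonoidHom eM.surjective
  have hinv' : CharDeep.Ext.Inv M φ := fun g m => (congrArg _ (Subtype.ext rfl)).trans
    (hinv (g : Γ) ⟨((m : G) : Γ), m.2⟩)
  change indFun M φ = _ at hram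
  have he2 : (M.index : ℂ) = (e : ℂ) * e := by
    have h1 := CharDeep.Ext.classInner_indFun_self M hinv' hφi
    rw [hram, show (fun g : G => (e : ℂ) * (χ : G → ℂ) g) = (e : ℂ) • (χ : G → ℂ) from rfl,
      CharCore.classInner_smul_left, CharCore.classInner_smul_right, CharCore.classInner_irr_self,
      mul_one, map_natCast] at h1
    exact h1.symm
  have he : (e : ℂ) ≠ 0 := fun h => by
    rw [h, zero_mul, Nat.cast_eq_zero] at he2
    exact Subgroup.FiniteIndex.index_ne_zero he2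
  refine BlkChar.index_dvd_pm_one G N hNG hfrob hGlt hNlt hcyc θ hinv χ e (fun n => ?_) (fun g hg => ?_)
  · have h1 := congrFun hram ((⟨⟨(n : Γ), hNG n.2⟩, n.2⟩ : M) : G)
    rw [CharDeep.Ext.indFun_coe M hinv', he2, mul_assoc] at h1
    exact (mul_left_cancel₀ he h1).symm
  · have h1 := congrFun hram g
    rw [CharDeep.Ext.indFun_notMem M φ (fun h => hg h)] at h1
    exact (mul_eq_zero.mp h1.symm).resolve_left he

end Cfsg.Agent.S4454
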