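import Cfsg.Statements.S4457
import Cfsg.Agent.CharDeep.Deg.TwoDegMain
-- import your own Cfsg.Agent.* helpers here

set_option autoImplicit false
open Cfsg

namespace Cfsg.Agent.S4457

/-- Let G be a finite group whose irreducible character degrees are exactly 1 and m (m ≠ 1). Then either G has an abelian normal subgroup of index m, or m is a power of a prime p and G is the direct product of a p-group and an abelian group: there are normal subgroups P and A with P a p-group, A abelian, P ⊓ A = 1 and P ⊔ A = G. -/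
theorem result {G : Type*} [Group G] [Finite G] (m : ℕ) (hcd : ∀ χ : Cfsg.IrrCharacter G, Cfsg.charDegree (χ : G → ℂ) = 1 ∨ Cfsg.charDegree (χ : G → ℂ) = m) (hm : ∃ χ : Cfsg.IrrCharacter G, Cfsg.charDegree (χ : G → ℂ) = m) (hm1 : m ≠ 1) : (∃ A : Subgroup G, A.Normal ∧ (∀ a ∈ A, ∀ b ∈ A, a * b = b * a) ∧ A.index = m) ∨ ∃ p e : ℕ, p.Prime ∧ m = p ^ e ∧ ∃ P A : Subgroup G, P.Normal ∧ A.Normal ∧ IsPGroup p P ∧ (∀ a ∈ A, ∀ b ∈ A, a * b = b * a) ∧ P ⊓ A = ⊥ ∧ P ⊔ A = ⊤ := by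
  classical
  have := Fintype.ofFinite G
  rcases CharDeep.Deg.two_degree_structure hcd hm hm1 with
    ⟨A, hAn, hab, hAi, -⟩ | ⟨p, e, B, hp, hme, hBn, hBc, hpB, k, hk⟩
  · exact Or.inl ⟨A, hAn, hab, hAi⟩
  haveI := Fact.mk hp
  obtain ⟨P⟩ := (Sylow.nonempty : Nonempty (Sylow p G))
  have hPi : ¬ p ∣ (P : Subgroup G).index :=
    P.not_dvd_index' (fun h => Subgroup.index_ne_zero_of_finite h)
  have hsup : (P : Subgroup G) ⊔ B = ⊤ := by
    rw [← Subgroup.index_eq_one]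
    have h1 : ((P : Subgroup G) ⊔ B).index ∣ p ^ k := hk ▸ Subgroup.index_dvd_of_le le_sup_right
    obtain ⟨i, -, hi⟩ := (Nat.dvd_prime_pow hp).mp h1
    rcases Nat.eq_zero_or_pos i with h0 | h0
    · rw [hi, h0, pow_zero]
    · exact absurd ((hi ▸ dvd_pow_self p h0.ne').trans (Subgroup.index_dvd_of_le le_sup_left)) hPi
  have hPn : (P : Subgroup G).Normal := by
    refine ⟨fun y hy g => ?_⟩
    have hg : g ∈ (P : Subgroup G) ⊔ B := hsup ▸ Subgroup.mem_top g
    obtain ⟨q, hq, b, hb, rfl⟩ := Subgroup.mem_sup_of_normal_right.mp hg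
    rw [mul_inv_rev, show q * b * y * (b⁻¹ * q⁻¹) = q * (b * y) * b⁻¹ * q⁻¹ by group,
      ← Subgroup.mem_center_iff.mp (hBc hb) y]
    simpa [mul_assoc] using
      (P : Subgroup G).mul_mem ((P : Subgroup G).mul_mem hq hy) ((P : Subgroup G).inv_mem hq)
  refine Or.inr ⟨p, e, hp, hme, P, B, hPn, hBn, P.isPGroup', ?_, ?_, hsup⟩
  · exact fun a _ b hb => Subgroup.mem_center_iff.mp (hBc hb) a
  · obtain ⟨i, hi⟩ := IsPGroup.iff_card.mp P.isPGroup'
    exact (Subgroup.disjoint_of_coprime_natCard (by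
      rw [hi]; exact Nat.Coprime.pow_left i (hp.coprime_iff_not_dvd.mpr hpB))).eq_bot

end Cfsg.Agent.S4457
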