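import Cfsg.Statements.S4459
import Cfsg.Agent.CharDeep.Deg.DegreeP
-- import your own Cfsg.Agent.* helpers here

set_option autoImplicit false
open Cfsg

namespace Cfsg.Agent.S4459

/-- Let G be a non-abelian finite group and p a prime. Then the irreducible character degrees of G are exactly 1 and p if and only if either G has an abelian normal subgroup of index p or the centre of G has index p³. -/
theorem result {G : Type*} [Group G] [Finite G] (hG : ∃ a b : G, a * b ≠ b * a) (p : ℕ) (hp : p.Prime) : ((∀ χ : Cfsg.IrrCharacter G, Cfsg.charDegree (χ : G → ℂ) = 1 ∨ Cfsg.charDegree (χ : G → ℂ) = p) ∧ ∃ χ : Cfsg.IrrCharacter G, Cfsg.charDegree (χ : G → ℂ) = p) ↔ ((∃ A : Subgroup G, A.Normal ∧ (∀ a ∈ A, ∀ b ∈ A, a * b = b * a) ∧ A.index = p) ∨ (Subgroup.center G).index = p ^ 3) := by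
  classical
  have := Fintype.ofFinite G
  haveI := Fact.mk hp
  constructor
  · rintro ⟨hcd, hm⟩
    rcases CharDeep.Deg.two_degree_structure hcd hm hp.ne_one with
      ⟨A, hAn, hab, hAi, -⟩ | ⟨q, e, B, hq, hqe, hBn, hBc, -, k, hk⟩
    · exact Or.inl ⟨A, hAn, hab, hAi⟩
    by_cases hno : ∃ A : Subgroup G, A.Normal ∧ (∀ a ∈ A, ∀ b ∈ A, a * b = b * a) ∧ A.index = p
    · exact Or.inl hno
    haveI := Fact.mk hq
    haveI : Group.IsNilpotent (G ⧸ B) :=
      (IsPGroup.of_card (n := k) (by rw [← Subgroup.index_eq_card, hk]) :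
        IsPGroup q (G ⧸ B)).isNilpotent
    haveI : Group.IsNilpotent G :=
      isNilpotent_of_ker_le_center (QuotientGroup.mk' B) (by rwa [QuotientGroup.ker_mk'])
    exact Or.inr (CharDeep.Deg.index_center_eq hcd hG
      fun A h1 h2 h3 => hno ⟨A, h1, h2, h3⟩)
  · intro h
    have hcd : ∀ χ : Cfsg.IrrCharacter G, Cfsg.charDegree (χ : G → ℂ) = 1 ∨
        Cfsg.charDegree (χ : G → ℂ) = p := by
      intro χ
      rcases h with ⟨A, hAn, hab, hAi⟩ | hZ
      · exact (Nat.dvd_prime hp).mp (hAi ▸ CharDeep.Deg.degree_dvd_index χ A hab)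
      · have h1 := CharDeep.Deg.degree_dvd_index χ (Subgroup.center G)
          (fun a ha b _ => (Subgroup.mem_center_iff.mp ha b).symm)
        have h2 := CharDeep.Deg.degree_sq_le_index_center χ
        rw [hZ] at h1 h2
        obtain ⟨i, -, hi⟩ := (Nat.dvd_prime_pow hp).mp h1
        rw [hi, ← pow_mul] at h2
        have h3 := (Nat.pow_le_pow_iff_right hp.one_lt).mp h2
        rcases (show i = 0 ∨ i = 1 by omega) with h0 | h0
        · exact Or.inl (by rw [hi, h0, pow_zero])
        · exact Or.inr (by rw [hi, h0, pow_one])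
    refine ⟨hcd, ?_⟩
    by_contra! hno
    obtain ⟨a, b, hab⟩ := hG
    exact hab (CharDeep.Deg.commute_of_degree_one
      (fun χ => (hcd χ).resolve_right (hno χ)) a b)

end Cfsg.Agent.S4459
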