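import Cfsg.Statements.S4465
import Cfsg.Agent.BlkChar.LargePrimes

set_option autoImplicit false
open Cfsg

namespace Cfsg.Agent.S4465

/-- Abelian Hall subgroups of linear groups for primes exceeding the degree plus one. -/
theorem result {G : Type*} [Group G] [Finite G] (χ : G → ℂ) (hχ : Cfsg.IsCharacter G χ) (hfaith : ∀ g : G, χ g = χ 1 → g = 1) (n : ℕ) (hn : Cfsg.charDegree χ = n) : ∃ A : Subgroup G, (∀ x ∈ A, ∀ y ∈ A, x * y = y * x) ∧ (∀ q : ℕ, q.Prime → q ∣ Nat.card A → n + 1 < q) ∧ ∀ q : ℕ, q.Prime → q ∣ A.index → q ≤ n + 1 := by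
  haveI := Fintype.ofFinite G
  obtain ⟨d, hd⟩ := CharCore.IsCharacter.exists_degree hχ
  rw [BlkChar.charDegree_of_eq hd] at hn
  subst hn
  obtain ⟨A, h1, h2, h3⟩ := BlkChar.hasLargeHall d _ G χ hχ hfaith hd rfl
  exact ⟨A, h1, h2, fun q hq hd' => le_of_not_gt fun h => h3 q hq h hd'⟩

end Cfsg.Agent.S4465
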