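import Cfsg.Statements.S4469
import Cfsg.Agent.BlkChar.JordanBound

set_option autoImplicit false
open Cfsg

namespace Cfsg.Agent.S4469

/-- Jordan's theorem with an explicit bound. -/
theorem result {G : Type*} [Group G] [Finite G] (χ : G → ℂ) (hχ : Cfsg.IsCharacter G χ) (hfaith : ∀ g : G, χ g = χ 1 → g = 1) (n : ℕ) (hn : Cfsg.charDegree χ = n) : ∃ A : Subgroup G, A.Normal ∧ (∀ x ∈ A, ∀ y ∈ A, x * y = y * x) ∧ A.index ≤ Nat.factorial n * 12 ^ (n * (Nat.primeCounting (n + 1) + 1)) := by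
  classical
  haveI := Fintype.ofFinite G
  obtain ⟨d, hd⟩ := CharCore.IsCharacter.exists_degree hχ
  rw [BlkChar.charDegree_of_eq hd] at hn
  subst hn
  obtain ⟨N, ρ, hρ, -, hN⟩ := BlkChar.exists_faithful_model χ hχ hfaith
  obtain ⟨R, u, hu, hinj, hR⟩ := BlkChar.exists_unitary_model ρ hρ
  have h0 := @BlkChar.abelian_normal_uniform_bound G _ _ R inferInstance inferInstance inferInstance u
  obtain ⟨A, h1, h2, h3⟩ := h0 hu hinj
  haveI := h1
  rw [hR, ← hN, BlkChar.charDegree_of_eq hd] at h3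
  refine ⟨A, h1, h2, ?_⟩
  obtain ⟨H, hH1, -, hH3⟩ := BlkChar.hasLargeHall d _ G χ hχ hfaith hd rfl
  rw [pow_mul]
  refine BlkChar.index_le_of_local A H d (12 ^ d) (fun p hp hpn => ?_) (h3 H hH1) hH3
  haveI := Fact.mk hp
  obtain ⟨P⟩ : Nonempty (Sylow p G) := inferInstance
  obtain ⟨B, hB1, hB2, hB3⟩ := PGroup.exists_selfCentralizing_normal_abelian P.2
  haveI := hB1
  have hBc : ∀ x ∈ B, ∀ y ∈ B, x * y = y * x := fun x hx y hy =>
    congrArg Subtype.val (hB2.is_comm.comm (⟨x, hx⟩ : B) ⟨y, hy⟩)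
  haveI := Fintype.ofFinite (P : Subgroup G)
  have hdvd := BlkChar.index_dvd_factorial (CharCore.isCharacter_restrict hχ (P : Subgroup G))
    (fun g hg => Subtype.ext (hfaith (g : G) (hg.trans (congrArg χ (OneMemClass.coe_one _)))))
    ((congrArg χ (OneMemClass.coe_one _)).trans hd) B hBc hB3
  obtain ⟨b, hb⟩ := P.2.index B
  rw [hb] at hdvd
  have hb' : B.index ≤ p ^ d.factorial.factorization p := hb ▸ Nat.pow_le_pow_right hp.pos
    ((hp.pow_dvd_iff_le_factorization (Nat.factorial_ne_zero d)).mp hdvd)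
  set B' := B.map (P : Subgroup G).subtype with hB'
  have hB'c : ∀ x ∈ B', ∀ y ∈ B', x * y = y * x := by
    rintro _ ⟨a, ha, rfl⟩ _ ⟨c, hc, rfl⟩
    rw [← map_mul, hBc a ha c hc, map_mul]
  have hBP : B' ≤ (P : Subgroup G) := Subgroup.map_subtype_le _
  have hrel : B'.relIndex (P : Subgroup G) = B.index := by
    rw [hB', Subgroup.relIndex, Subgroup.subgroupOf,
      Subgroup.comap_map_eq_self_of_injective (P : Subgroup G).subtype_injective]
  have hle : A.relIndex (P : Subgroup G) ≤ p ^ d.factorial.factorization p * 12 ^ d := by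
    have e1 : A.relIndex (P : Subgroup G) ≤ A.relIndex B' * B'.relIndex (P : Subgroup G) := by
      rw [← Subgroup.inf_relIndex_right A B', Subgroup.relIndex_mul_relIndex _ _ _ inf_le_right hBP]
      exact Nat.le_of_dvd (Nat.pos_of_ne_zero ((((A ⊓ B').subgroupOf (P : Subgroup G))).index_ne_zero_of_finite))
        (Subgroup.relIndex_dvd_of_le_left _ inf_le_left)
    refine e1.trans ?_
    rw [hrel, mul_comm]
    exact Nat.mul_le_mul hb' (h3 B' hB'c)
  refine le_trans ?_ hle
  have hpos : A.relIndex (P : Subgroup G) ≠ 0 := (A.subgroupOf (P : Subgroup G)).index_ne_zero_of_finite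
  refine Nat.le_of_dvd (Nat.pos_of_ne_zero hpos) ?_
  obtain ⟨k, hk⟩ := IsPGroup.iff_card.mp (P.2.to_subgroup (A.subgroupOf (P : Subgroup G)))
  have hkA : p ^ k ∣ Nat.card A := hk ▸ Subgroup.card_dvd_of_injective
    ({ toFun := fun x => ⟨((x : (P : Subgroup G)) : G), x.2⟩, map_one' := rfl,
       map_mul' := fun _ _ => rfl } : A.subgroupOf (P : Subgroup G) →* A)
    (fun a b h => Subtype.ext (Subtype.ext (congrArg (fun z : A => (z : G)) h)))
  have hk' : k ≤ (Nat.card A).factorization p :=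
    (hp.pow_dvd_iff_le_factorization Nat.card_pos.ne').mp hkA
  have hcard := (A.subgroupOf (P : Subgroup G)).card_mul_index
  rw [hk, P.card_eq_multiplicity, ← A.card_mul_index,
    Nat.factorization_mul Nat.card_pos.ne' Subgroup.FiniteIndex.index_ne_zero, Finsupp.add_apply,
    pow_add] at hcard
  refine Nat.dvd_of_mul_dvd_mul_left (pow_pos hp.pos k) ?_
  rw [show A.relIndex (P : Subgroup G) = (A.subgroupOf (P : Subgroup G)).index from rfl, hcard]
  exact mul_dvd_mul_right (pow_dvd_pow p hk') _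

end Cfsg.Agent.S4469
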