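import Cfsg.Statements.S4470
import Cfsg.Agent.BlkChar.Jordan

set_option autoImplicit false
open Cfsg

namespace Cfsg.Agent.S4470

/-- Let the finite group G have a faithful character of degree n. Then G has an abelian normal subgroup A such that every abelian subgroup H of G satisfies [H : H ⊓ A] ≤ 12^n. -/
theorem result {G : Type*} [Group G] [Finite G] (χ : G → ℂ) (hχ : Cfsg.IsCharacter G χ) (hfaith : ∀ g : G, χ g = χ 1 → g = 1) (n : ℕ) (hn : Cfsg.charDegree χ = n) : ∃ A : Subgroup G, A.Normal ∧ (∀ x ∈ A, ∀ y ∈ A, x * y = y * x) ∧ ∀ H : Subgroup G, (∀ x ∈ H, ∀ y ∈ H, x * y = y * x) → (A.subgroupOf H).index ≤ 12 ^ n := by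
  classical
  haveI := Fintype.ofFinite G
  obtain ⟨N, ρ, hρ, -, hN⟩ := BlkChar.exists_faithful_model χ hχ hfaith
  obtain ⟨R, u, hu, hinj, hR⟩ := BlkChar.exists_unitary_model ρ hρ
  have h0 := @BlkChar.abelian_normal_uniform_bound G _ _ R inferInstance inferInstance inferInstance u
  obtain ⟨A, h1, h2, h3⟩ := h0 hu hinj
  refine ⟨A, h1, h2, fun H hH => (h3 H hH).trans_eq ?_⟩
  rw [hR, ← hN, hn]

end Cfsg.Agent.S4470
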