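import Cfsg.Statements.S4474
import Cfsg.Agent.Lib.CharInd.RealForm
import Cfsg.Agent.S4475
import Cfsg.Agent.S0158
import Cfsg.Agent.Lib.CharCore.Basic

set_option autoImplicit false
open Cfsg

namespace Cfsg.Agent.S4474

open scoped ComplexConjugate

/-- Let χ be an irreducible character of the finite group G. Then the Frobenius–Schur indicator of χ (the average over s ∈ G of χ(s²)) equals 1 if and only if χ is afforded by a real representation: there is a representation of G on a real coordinate space whose trace function, viewed in ℂ, is χ. -/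
theorem result {G : Type*} [Group G] [Fintype G] (χ : Cfsg.IrrCharacter G) : ((Nat.card G : ℂ)⁻¹ * ∑ s : G, (χ : G → ℂ) (s * s)) = 1 ↔ ∃ (n : ℕ) (ρ : Representation ℝ G (Fin n → ℝ)), ∀ g : G, ((LinearMap.trace ℝ (Fin n → ℝ) (ρ g) : ℝ) : ℂ) = (χ : G → ℂ) g := by
  obtain ⟨χ, hχ⟩ := χ
  constructor
  · intro hν
    obtain ⟨n, ρ, hirr, rfl⟩ := hχ
    haveI := hirr
    have hreal : ∀ g, (ρ.character g).im = 0 := by
      intro g
      by_contra h
      have h0 := (Cfsg.Agent.S0158.result ρ).2.mpr ⟨g, h⟩
      exact zero_ne_one (h0.symm.trans hν)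
    obtain ⟨⟨M, hM0, hM⟩, hsym⟩ := Cfsg.Agent.S4475.result n ρ hirr hreal
    have hMT : M.transpose = M := by
      have h := hsym M hM
      rw [show (Nat.card G : ℂ)⁻¹ * ∑ s : G, ρ.character (s * s) = 1 from hν, one_smul] at h
      exact h
    obtain ⟨W, ε, hW0, hW, hu, -, -, -⟩ :=
      CharInd.exists_invariant_form_indicator ρ fun g => Complex.conj_eq_iff_im.mpr (hreal g)
    obtain ⟨c, hc⟩ := CharInd.exists_smul_of_commute_irreducible ρ (W * M) fun g => by
      set A := LinearMap.toMatrix' (ρ g) with hA
      calc A * (W * M) = A * W * (A.transpose * M * A) := by rw [hM g, Matrix.mul_assoc]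
        _ = A * W * A.transpose * M * A := by simp only [Matrix.mul_assoc]
        _ = W * M * A := by rw [hW g]
    have hMc : M = c • W⁻¹ := by
      rw [← Matrix.one_mul M, ← Matrix.nonsing_inv_mul W hu, Matrix.mul_assoc, hc, Matrix.mul_smul,
        Matrix.mul_one]
    have hc0 : c ≠ 0 := fun h => hM0 (by rw [hMc, h, zero_smul])
    have huM : IsUnit M.det := by
      rw [hMc, Matrix.det_smul]
      exact ((isUnit_iff_ne_zero.2 hc0).pow _).mul (Matrix.isUnit_nonsing_inv_det W hu)
    exact CharInd.exists_real_form_of_symmetric ρ M huM hMT hM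
  · rintro ⟨n, σ, hσ⟩
    classical
    replace hσ : ∀ g : G, ((LinearMap.trace ℝ (Fin n → ℝ) (σ g) : ℝ) : ℂ) = χ g := hσ
    let A : G →* Matrix (Fin n) (Fin n) ℝ :=
      (LinearMap.toMatrixAlgEquiv' (R := ℝ) (n := Fin n)).toMonoidHom.comp σ
    let B : G →* Matrix (Fin n) (Fin n) ℂ := (Complex.ofRealHom.mapMatrix).toMonoidHom.comp A
    let ρ : Representation ℂ G (Fin n → ℂ) :=
      (Matrix.toLinAlgEquiv' (R := ℂ) (n := Fin n)).toMonoidHom.comp B
    have hmat : ∀ g, LinearMap.toMatrix' (ρ g) = (A g).map Complex.ofRealHom := fun g => by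
      exact LinearMap.toMatrix'_toLin' _
    have hchar : ρ.character = χ := by
      funext g
      rw [← hσ g, Representation.character,
        LinearMap.trace_eq_matrix_trace ℂ (Pi.basisFun ℂ (Fin n)),
        LinearMap.trace_eq_matrix_trace ℝ (Pi.basisFun ℝ (Fin n)),
        LinearMap.toMatrix_eq_toMatrix', LinearMap.toMatrix_eq_toMatrix', hmat]
      simp [Matrix.trace, A]
    have hirr : ρ.IsIrreducible := by
      rw [CharCore.isIrreducible_iff, hchar]
      exact CharCore.classInner_irr_self ⟨χ, hχ⟩
    have hreal : ∀ g, (ρ.character g).im = 0 := fun g => by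
      rw [hchar]
      show (χ g).im = 0
      rw [← hσ g, Complex.ofReal_im]
    obtain ⟨-, hsym⟩ := Cfsg.Agent.S4475.result n ρ hirr hreal
    let S : Matrix (Fin n) (Fin n) ℝ := ∑ h : G, (A h).transpose * A h
    have hST : S.transpose = S := by
      simp [S, Matrix.transpose_sum, Matrix.transpose_mul]
    have hSinv : ∀ g, (A g).transpose * S * A g = S := by
      intro g
      simp only [S, Finset.mul_sum, Finset.sum_mul]
      refine Fintype.sum_equiv (Equiv.mulRight g) _ _ fun h => ?_
      simp [Matrix.transpose_mul, Matrix.mul_assoc]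
    set T := S.map Complex.ofRealHom with hT
    have hTinv : ∀ g, (LinearMap.toMatrix' (ρ g)).transpose * T * LinearMap.toMatrix' (ρ g) = T := by
      intro g
      rw [hmat, hT, ← Matrix.transpose_map, ← Matrix.map_mul, ← Matrix.map_mul, hSinv g]
    have h := hsym T hTinv
    rw [show T.transpose = T by rw [hT, ← Matrix.transpose_map, hST], hchar] at h
    obtain ⟨i⟩ : Nonempty (Fin n) := by
      by_contra hne
      rw [not_nonempty_iff] at hne
      apply CharCore.irr_apply_one_ne_zero (⟨χ, hχ⟩ : Cfsg.IrrCharacter G)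
      show χ 1 = 0
      rw [← hchar, Representation.char_one, Module.finrank_fin_fun]
      exact_mod_cast ((Fintype.card_fin n).symm.trans Fintype.card_eq_zero)
    have hii : T i i ≠ 0 := by
      simp only [hT, Matrix.map_apply, S, Matrix.sum_apply, Matrix.mul_apply,
        Matrix.transpose_apply, Complex.ofRealHom_eq_coe, Complex.ofReal_ne_zero]
      refine (lt_of_lt_of_le ?_ (Finset.single_le_sum (f := fun h : G => ∑ j, A h j i * A h j i)
        (fun h _ => Finset.sum_nonneg fun j _ => mul_self_nonneg _) (Finset.mem_univ 1))).ne'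
      simp [Matrix.one_apply]
    have h' := congrFun (congrFun h i) i
    rw [Matrix.smul_apply, smul_eq_mul] at h'
    exact mul_right_cancel₀ hii (h'.symm.trans (one_mul _).symm)

end Cfsg.Agent.S4474
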