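import Cfsg.Statements.S4476
import Cfsg.Agent.S0158
import Cfsg.Agent.S0159
import Cfsg.Agent.Lib.CharInd.Classes
import Cfsg.Agent.Lib.CharCore.Complete
import Cfsg.Agent.Lib.CharClifford.Central
import Mathlib.Algebra.Order.Chebyshev

set_option autoImplicit false
open Cfsg

namespace Cfsg.Agent.S4476

open scoped ComplexConjugate
open Cfsg.Agent.CharCore

/-- Let G be a finite group of even order g with exactly t involutions, and put α = (g − 1)/t (a rational number). Then (a) some non-identity element x of G has at most α² conjugates; and (b) some non-principal real-valued irreducible character of G has degree at most α. -/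
theorem result {G : Type*} [Group G] [Fintype G] (heven : Even (Nat.card G)) (t : ℕ) (ht : Nat.card {x : G // orderOf x = 2} = t) : (∃ x : G, x ≠ 1 ∧ ((Subgroup.centralizer ({x} : Set G)).index : ℚ) ≤ (((Nat.card G : ℚ) - 1) / t) ^ 2) ∧ ∃ χ : Cfsg.IrrCharacter G, (χ : G → ℂ) ≠ (fun _ => 1) ∧ (∀ g : G, ((χ : G → ℂ) g).im = 0) ∧ (Cfsg.charDegree (χ : G → ℂ) : ℚ) ≤ ((Nat.card G : ℚ) - 1) / t := by
  classical
  haveI : Fact (Nat.Prime 2) := ⟨Nat.prime_two⟩
  obtain ⟨z, hz⟩ := exists_prime_orderOf_dvd_card' 2 heven.two_dvd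
  have ht0 : 0 < t := by
    rw [← ht]
    haveI : Nonempty {x : G // orderOf x = 2} := ⟨⟨z, hz⟩⟩
    exact Nat.card_pos
  have hg2 : 2 ≤ Nat.card G := Nat.le_of_dvd Nat.card_pos heven.two_dvd
  choose d hd0 _ hd using fun χ : IrrCharacter G => CharClifford.exists_degree_dvd_card χ.2
  let one : IrrCharacter G := ⟨1, isIrrCharacter_one⟩
  let ν : IrrCharacter G → ℂ := fun χ => (Nat.card G : ℂ)⁻¹ * ∑ s : G, (χ : G → ℂ) (s * s)
  have hν : ∀ χ, (ν χ = 0 ∨ ν χ = 1 ∨ ν χ = -1) ∧
      ((∃ g, ((χ : G → ℂ) g).im ≠ 0) → ν χ = 0) := by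
    rintro ⟨χ, n, ρ, hρ, rfl⟩
    haveI := hρ
    exact ⟨(Cfsg.Agent.S0158.result ρ).1, (Cfsg.Agent.S0158.result ρ).2.2⟩
  let R : Finset (IrrCharacter G) := (Finset.univ.erase one).filter fun χ => ∀ g, ((χ : G → ℂ) g).im = 0
  -- `t ≤ ∑ χ(1)` over the real nonprincipal characters
  have hsumR : t ≤ ∑ χ ∈ R, d χ := by
    have hcount := Cfsg.Agent.S0159.result (G := G)
    rw [finsum_irr] at hcount
    have hs : Nat.card {s : G // s * s = 1} = t + 1 := by
      rw [← ht, Nat.card_eq_fintype_card, Nat.card_eq_fintype_card, Fintype.card_subtype,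
        Fintype.card_subtype, show (Finset.univ.filter fun s : G => s * s = 1) =
          insert 1 (Finset.univ.filter fun s : G => orderOf s = 2) from ?_,
        Finset.card_insert_of_notMem (by simp)]
      ext s
      simp only [Finset.mem_filter, Finset.mem_univ, true_and, Finset.mem_insert,
        orderOf_eq_prime_iff, sq]
      constructor
      · intro h; by_cases h1 : s = 1
        · exact Or.inl h1
        · exact Or.inr ⟨h, h1⟩
      · rintro (rfl | h)
        · simp
        · exact h.1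
    have h1 : ν one * (one.1 : G → ℂ) 1 = 1 := by
      show ((Nat.card G : ℂ)⁻¹ * ∑ _s : G, (1 : ℂ)) * 1 = 1
      rw [Finset.sum_const, Finset.card_univ, nsmul_eq_mul, mul_one, mul_one,
        Fintype.card_eq_nat_card, inv_mul_cancel₀ (Nat.cast_ne_zero.mpr Nat.card_pos.ne')]
    rw [hs, ← Finset.add_sum_erase _ _ (Finset.mem_univ one), Nat.cast_add, Nat.cast_one] at hcount
    have h2 : ((t : ℕ) : ℂ) = ∑ χ ∈ Finset.univ.erase one, ν χ * (χ : G → ℂ) 1 := by
      linear_combination hcount + h1
    have h3 : (t : ℂ) = ∑ χ ∈ R, ν χ * (d χ : ℂ) := by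
      rw [h2, Finset.sum_filter]
      refine Finset.sum_congr rfl fun χ _ => ?_
      split_ifs with h
      · rw [hd χ]
      · push Not at h
        rw [(hν χ).2 h, zero_mul]
    have h4 : ‖(t : ℂ)‖ ≤ ∑ χ ∈ R, (d χ : ℝ) := by
      rw [h3]
      refine (norm_sum_le _ _).trans (Finset.sum_le_sum fun χ _ => ?_)
      rw [norm_mul, Complex.norm_natCast]
      rcases (hν χ).1 with h | h | h <;> simp [h]
    rw [Complex.norm_natCast] at h4
    exact_mod_cast h4
  have hsq : ∑ χ ∈ Finset.univ.erase one, d χ ^ 2 + 1 = Nat.card G := by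
    have h := sum_degree_sq (G := G)
    rw [← Finset.add_sum_erase _ _ (Finset.mem_univ one)] at h
    simp only [hd] at h
    have h1 : d one = 1 := by
      have := hd one
      simp only [one, Pi.one_apply] at this
      exact_mod_cast this.symm
    rw [h1] at h
    rw [add_comm]
    exact_mod_cast h
  have hsqR : ∑ χ ∈ R, d χ ^ 2 + 1 ≤ Nat.card G := by
    rw [← hsq]
    exact Nat.add_le_add_right (Finset.sum_le_sum_of_subset (Finset.filter_subset _ _)) 1
  have hα : ((Nat.card G : ℚ) - 1) = ((Nat.card G - 1 : ℕ) : ℚ) := by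
    rw [Nat.cast_sub (by omega)]; norm_num
  constructor
  · -- a small class
    by_contra hno
    push Not at hno
    have hbig : ∀ x : G, x ≠ 1 →
        (Nat.card G - 1) ^ 2 < (Subgroup.centralizer ({x} : Set G)).index * t ^ 2 := by
      intro x hx
      have h := hno x hx
      rw [hα, div_pow, div_lt_iff₀ (by positivity)] at h
      exact_mod_cast h
    haveI := Fintype.ofFinite (ConjClasses G)
    have hP : ∀ g : G, ConjClasses.mk g ≠ ConjClasses.mk 1 ↔ g ≠ 1 := fun g => by
      rw [Ne, ConjClasses.mk_eq_mk_iff_isConj, isConj_one_left]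
    have hcc := CharInd.sum_card_centralizer_eq (G := G) fun C => C ≠ ConjClasses.mk 1
    simp only [hP] at hcc
    rw [← Finset.sum_filter, ← Nat.cast_sum, ← Nat.cast_mul, Nat.cast_inj] at hcc
    set k' := Nat.card {C : ConjClasses G // C ≠ ConjClasses.mk 1} with hk'
    have hk : k' + 1 = Fintype.card (IrrCharacter G) := by
      rw [← Nat.card_eq_fintype_card, card_irr, hk', Nat.card_eq_fintype_card,
        Nat.card_eq_fintype_card, Fintype.card_subtype_compl, Fintype.card_subtype_eq]
      have : 0 < Fintype.card (ConjClasses G) := Fintype.card_pos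
      omega
    have hCS : t ^ 2 ≤ k' * (Nat.card G - 1) := by
      have h1 := sq_sum_le_card_mul_sum_sq (s := Finset.univ.erase one) (f := fun χ => d χ)
      rw [Finset.card_erase_of_mem (Finset.mem_univ _), Finset.card_univ, ← hk,
        Nat.add_sub_cancel] at h1
      have h2 : t ≤ ∑ χ ∈ Finset.univ.erase one, d χ :=
        hsumR.trans (Finset.sum_le_sum_of_subset (Finset.filter_subset _ _))
      calc t ^ 2 ≤ (∑ χ ∈ Finset.univ.erase one, d χ) ^ 2 := Nat.pow_le_pow_left h2 2
        _ ≤ k' * ∑ χ ∈ Finset.univ.erase one, d χ ^ 2 := h1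
        _ = k' * (Nat.card G - 1) := by rw [← hsq, Nat.add_sub_cancel]
    set S := Finset.univ.filter fun g : G => g ≠ 1 with hS
    have hScard : S.card = Nat.card G - 1 := by
      rw [hS, Finset.filter_ne', Finset.card_erase_of_mem (Finset.mem_univ _), Finset.card_univ,
        Nat.card_eq_fintype_card]
    have hlt : ∑ g ∈ S, (Nat.card G - 1) ^ 2 * Nat.card (Subgroup.centralizer ({g} : Set G)) <
        ∑ _g ∈ S, t ^ 2 * Nat.card G := by
      refine Finset.sum_lt_sum_of_nonempty ?_ fun g hg => ?_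
      · rw [← Finset.card_pos, hScard]; omega
      · conv_rhs => rw [← Subgroup.index_mul_card (Subgroup.centralizer ({g} : Set G)), ← mul_assoc,
          mul_comm (t ^ 2)]
        exact Nat.mul_lt_mul_of_pos_right (hbig g (Finset.mem_filter.mp hg).2) Nat.card_pos
    rw [← Finset.mul_sum, hcc, Finset.sum_const, smul_eq_mul, hScard] at hlt
    have h5 : (Nat.card G - 1) * (t ^ 2 * Nat.card G) ≤
        (Nat.card G - 1) ^ 2 * (Nat.card G * k') := by
      calc (Nat.card G - 1) * (t ^ 2 * Nat.card G)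
          ≤ (Nat.card G - 1) * (k' * (Nat.card G - 1) * Nat.card G) :=
            Nat.mul_le_mul_left _ (Nat.mul_le_mul_right _ hCS)
        _ = (Nat.card G - 1) ^ 2 * (Nat.card G * k') := by ring
    omega
  · have hne : R.Nonempty := by
      by_contra h
      rw [Finset.not_nonempty_iff_eq_empty] at h
      rw [h, Finset.sum_empty] at hsumR
      omega
    obtain ⟨χ, hχ, hmin⟩ := Finset.exists_min_image R d hne
    obtain ⟨hχ1, hχr⟩ := Finset.mem_filter.mp hχ
    refine ⟨χ, fun h => Finset.ne_of_mem_erase hχ1 (Subtype.ext h), hχr, ?_⟩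
    have hdeg : Cfsg.charDegree (χ : G → ℂ) = d χ := by
      rw [Cfsg.charDegree, hd χ, Complex.natCast_re, Nat.floor_natCast]
    have hmain : d χ * t ≤ Nat.card G - 1 :=
      calc d χ * t ≤ d χ * ∑ ψ ∈ R, d ψ := Nat.mul_le_mul_left _ hsumR
        _ ≤ ∑ ψ ∈ R, d ψ ^ 2 := by
          rw [Finset.mul_sum]
          exact Finset.sum_le_sum fun ψ hψ => by
            rw [pow_two]; exact Nat.mul_le_mul_right _ (hmin ψ hψ)
        _ ≤ Nat.card G - 1 := by omega
    rw [hdeg, hα, le_div_iff₀ (by exact_mod_cast ht0)]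
    exact_mod_cast hmain

end Cfsg.Agent.S4476
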