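import Cfsg.Statements.S4478
import Cfsg.Agent.Lib.CharInd.BilinearForm
import Cfsg.Agent.Lib.BlocksCore.DefectZero
import Cfsg.Agent.Blocks88.Modular
import Cfsg.Agent.Lib.BlocksDefect.Basic
import Cfsg.Agent.BlkChar.PResidualChar

set_option autoImplicit false
open Cfsg
open scoped ComplexConjugate Matrix

namespace Cfsg.Agent.S4478

/-- A character with non-zero indicator is real valued. -/
theorem real_of_indicator_ne_zero {G : Type*} [Group G] [Fintype G] {n : ℕ}
    (ρ : Representation ℂ G (Fin n → ℂ)) [ρ.IsIrreducible]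
    (h : ∑ s : G, ρ.character (s * s) ≠ 0) (g : G) : conj (ρ.character g) = ρ.character g := by
  classical
  set A : G → Matrix (Fin n) (Fin n) ℂ := fun g => LinearMap.toMatrix' (ρ g) with hA
  let M : Fin n → Fin n → Matrix (Fin n) (Fin n) ℂ := fun k l =>
    Matrix.of fun i j => ∑ g : G, A g i k * A g j l
  have hχ : ∀ g, ρ.character g = ∑ i, A g i i := by
    intro g
    rw [Representation.character, LinearMap.trace_eq_matrix_trace ℂ (Pi.basisFun ℂ (Fin n)),
      LinearMap.toMatrix_eq_toMatrix']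
    rfl
  have hMinv : ∀ k l g, A g * M k l * (A g)ᵀ = M k l := by
    intro k l g
    ext i j
    simp only [M, Matrix.mul_apply, Matrix.transpose_apply, Matrix.of_apply, Finset.mul_sum,
      Finset.sum_mul]
    rw [Finset.sum_congr rfl fun x _ => Finset.sum_comm, Finset.sum_comm]
    refine Fintype.sum_equiv (Equiv.mulLeft g) _ _ fun h => ?_
    simp only [Equiv.coe_mulLeft, hA, CharInd.toMatrix'_rep_mul, Matrix.mul_apply, Finset.sum_mul,
      Finset.mul_sum]
    exact Finset.sum_congr rfl fun a _ => Finset.sum_congr rfl fun b _ => by ring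
  obtain ⟨k, l, hW0⟩ : ∃ k l, M k l ≠ 0 := by
    by_contra hall
    push Not at hall
    apply h
    calc ∑ s : G, ρ.character (s * s) = ∑ i, ∑ j, M j i i j := by
          simp only [M, Matrix.of_apply, hχ, hA, CharInd.toMatrix'_rep_mul, Matrix.mul_apply]
          rw [Finset.sum_comm]
          exact Finset.sum_congr rfl fun a _ => Finset.sum_comm
      _ = 0 := by simp [hall]
  have hu := CharInd.isUnit_det_of_invariant ρ hW0 (hMinv k l)
  set W := M k l
  have hgi : ∀ x : G, A x⁻¹ * A x = 1 := fun x => by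
    simp only [hA]
    rw [← CharInd.toMatrix'_rep_mul, inv_mul_cancel, map_one, Module.End.one_eq_id,
      LinearMap.toMatrix'_id]
  have h1 : A g⁻¹ = W * (A g)ᵀ * W⁻¹ := by
    have h2 : W * (A g)ᵀ = A g⁻¹ * W := by
      have h4 : A g * W * (A g)ᵀ = W := hMinv k l g
      conv_rhs => rw [← h4, ← Matrix.mul_assoc, ← Matrix.mul_assoc, hgi, Matrix.one_mul]
    rw [h2, Matrix.mul_assoc, Matrix.mul_nonsing_inv _ hu, Matrix.mul_one]
  have h3 : Matrix.trace (A g⁻¹) = Matrix.trace (A g) := by
    rw [h1, Matrix.trace_mul_cycle, Matrix.nonsing_inv_mul _ hu, Matrix.one_mul,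
      Matrix.trace_transpose]
  rw [← CharCore.character_inv ρ g, hχ, hχ]
  exact h3

/-- A character of 2-defect zero with mixed defect zero conditions forces one class of involutions. -/
theorem result {G : Type*} [Group G] [Fintype G] (heven : Even (Nat.card G)) (χ : Cfsg.IrrCharacter G) (h2 : 2 ^ (Nat.card G).factorization 2 ∣ Cfsg.charDegree (χ : G → ℂ)) (hp : ∀ p : ℕ, p.Prime → p ≠ 2 → (∃ g : G, orderOf g = 2 * p) → p ^ (Nat.card G).factorization p ∣ Cfsg.charDegree (χ : G → ℂ)) : (∀ s t : G, orderOf s = 2 → orderOf t = 2 → IsConj s t) ∧ (∀ s : G, orderOf s = 2 → Nat.card (Subgroup.centralizer ({s} : Set G)) = Cfsg.charDegree (χ : G → ℂ) ∧ (Nat.card (Subgroup.centralizer ({s} : Set G))).Coprime (Subgroup.centralizer ({s} : Set G)).index) ∧ (Nat.card G : ℂ)⁻¹ * ∑ g : G, (χ : G → ℂ) (g * g) = 1 := by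
  classical
  haveI := Fact.mk Nat.prime_two
  obtain ⟨x, hx0, hx1, hxd⟩ := BlkChar.exists_degree' χ
  have hxG : x ∣ Nat.card G := hxd ▸ BlocksCore.charDegree_dvd_card χ
  rw [hxd] at h2 hp ⊢
  have hG0 : Nat.card G ≠ 0 := Nat.card_pos.ne'
  have hvanish : ∀ p : ℕ, p.Prime → p ^ (Nat.card G).factorization p ∣ x →
      ∀ g : G, p ∣ orderOf g → (χ : G → ℂ) g = 0 := by
    intro p hpp hpx g hg
    obtain ⟨M, hM⟩ := Blocks88.exists_isPModular hpp
    refine BlocksCore.eq_zero_of_blockOf_eq_singleton hM χ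
      (BlocksCore.blockOf_eq_singleton_of_not_dvd hM χ ?_) hg
    rw [hxd]
    intro hd
    obtain ⟨q, hq⟩ := hd
    have h1 := Nat.div_mul_cancel hxG
    rw [hq] at h1
    obtain ⟨r, hr⟩ := hpx
    refine Nat.pow_succ_factorization_not_dvd hG0 hpp ⟨q * r, ?_⟩
    rw [pow_succ]
    calc Nat.card G = p * q * x := h1.symm
      _ = p * q * (p ^ (Nat.card G).factorization p * r) := congrArg _ hr
      _ = _ := by ring
  set I := Finset.univ.filter fun g : G => orderOf g = 2 with hI
  have hterm : ∀ g : G, (χ : G → ℂ) (g * g) =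
      (if ¬ 2 ∣ orderOf g then (χ : G → ℂ) (g * g) else 0) + (if g ∈ I then (x : ℂ) else 0) := by
    intro g
    by_cases hev : 2 ∣ orderOf g
    · rw [if_neg (not_not.mpr hev), zero_add]
      by_cases hgI : g ∈ I
      · rw [if_pos hgI, ← sq, ← (Finset.mem_filter.mp hgI).2, pow_orderOf_eq_one, hx1]
      · rw [if_neg hgI]
        obtain ⟨m, hm⟩ := hev
        have hm1 : m ≠ 1 := fun h => hgI (Finset.mem_filter.mpr ⟨Finset.mem_univ g, by rw [hm, h]⟩)
        have hg2 : orderOf (g * g) = m := by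
          rw [← sq, orderOf_pow' _ two_ne_zero, hm, Nat.gcd_mul_right_left,
            Nat.mul_div_cancel_left _ two_pos]
        by_cases hm2 : 2 ∣ m
        · exact hvanish 2 Nat.prime_two h2 _ (hg2.symm ▸ hm2)
        · have hq := Nat.minFac_prime hm1
          have hq2 : m.minFac ≠ 2 := fun h => hm2 (h ▸ Nat.minFac_dvd m)
          refine hvanish _ hq (hp _ hq hq2 ⟨g ^ (orderOf g / (2 * m.minFac)), ?_⟩) _
            (hg2.symm ▸ Nat.minFac_dvd m)
          exact orderOf_pow_orderOf_div (orderOf_pos g).ne' (hm ▸ Nat.mul_dvd_mul_left 2 (Nat.minFac_dvd m))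
    · rw [if_pos hev, if_neg fun h => hev (by rw [(Finset.mem_filter.mp h).2]), add_zero]
  have hodd : ∑ g : G, (if ¬ 2 ∣ orderOf g then (χ : G → ℂ) (g * g) else 0) =
      ∑ g : G, (χ : G → ℂ) g := by
    rw [← Finset.sum_filter]
    rw [← Finset.sum_subset (s₁ := Finset.univ.filter fun g : G => ¬ 2 ∣ orderOf g)
      (Finset.subset_univ _) (fun g _ hg => hvanish 2 Nat.prime_two h2 g (not_not.mp fun h => hg (Finset.mem_filter.mpr ⟨Finset.mem_univ g, h⟩)))]
    refine Finset.sum_nbij' (fun g => g * g) (fun g => g ^ ((orderOf g + 1) / 2)) ?_ ?_ ?_ ?_ ?_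
    · intro g hg
      simp only [Finset.mem_filter, Finset.mem_univ, true_and] at hg ⊢
      show ¬ 2 ∣ orderOf (g * g)
      rw [← sq]
      exact fun h => hg (h.trans (orderOf_pow_dvd 2))
    · intro g hg
      simp only [Finset.mem_filter, Finset.mem_univ, true_and] at hg ⊢
      exact fun h => hg (h.trans (orderOf_pow_dvd _))
    · intro g hg
      simp only [Finset.mem_filter, Finset.mem_univ, true_and] at hg
      have hg' : ¬ 2 ∣ orderOf g := hg
      have ho : orderOf (g * g) = orderOf g := by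
        rw [← sq, orderOf_pow' _ two_ne_zero,
          Nat.Coprime.gcd_eq_one ((Nat.prime_two.coprime_iff_not_dvd.mpr hg').symm), Nat.div_one]
      show (g * g) ^ ((orderOf (g * g) + 1) / 2) = g
      rw [ho, ← sq, ← pow_mul, Nat.mul_div_cancel' (by omega), pow_succ, pow_orderOf_eq_one, one_mul]
    · intro g hg
      simp only [Finset.mem_filter, Finset.mem_univ, true_and] at hg
      have hg' : ¬ 2 ∣ orderOf g := hg
      show g ^ ((orderOf g + 1) / 2) * g ^ ((orderOf g + 1) / 2) = g
      rw [← pow_add, ← two_mul, Nat.mul_div_cancel' (by omega), pow_succ, pow_orderOf_eq_one, one_mul]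
    · intro g _; rfl
  have htriv : ∑ g : G, (χ : G → ℂ) g = 0 := by
    have hne : χ ≠ ⟨1, CharCore.isIrrCharacter_one⟩ := by
      intro h
      have hx' : x = 1 := by
        have h1 : (χ : G → ℂ) 1 = 1 := by rw [h]; rfl
        rw [hx1] at h1
        exact_mod_cast h1
      rw [hx', Nat.dvd_one] at h2
      have h3 := Nat.prime_two.factorization_pos_of_dvd hG0 (even_iff_two_dvd.mp heven)
      exact (Nat.one_lt_pow h3.ne' (by norm_num)).ne' h2
    have h1 := CharCore.classInner_irr_of_ne hne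
    rw [CharCore.classInner_def] at h1
    simpa [Nat.card_pos.ne'] using h1
  have hsum : ∑ g : G, (χ : G → ℂ) (g * g) = ((x * I.card : ℕ) : ℂ) := by
    rw [Finset.sum_congr rfl fun g _ => hterm g, Finset.sum_add_distrib, hodd, htriv, zero_add,
      Finset.sum_ite_mem, Finset.univ_inter, Finset.sum_const, nsmul_eq_mul, Nat.cast_mul, mul_comm]
  obtain ⟨s₀, hs₀⟩ := exists_prime_orderOf_dvd_card' (G := G) 2 (even_iff_two_dvd.mp heven)
  have hI0 : 0 < I.card := Finset.card_pos.mpr ⟨s₀, Finset.mem_filter.mpr ⟨Finset.mem_univ _, hs₀⟩⟩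
  -- the indicator is one
  obtain ⟨m, ρ, hρ, hρχ⟩ := χ.2
  haveI := hρ
  have hne0 : ∑ s : G, ρ.character (s * s) ≠ 0 := by
    rw [hρχ, hsum]
    exact_mod_cast (Nat.mul_pos hx0 hI0).ne'
  obtain ⟨W, ε, -, -, -, hε, -, hind⟩ := CharInd.exists_invariant_form_indicator ρ
    (real_of_indicator_ne_zero ρ hne0)
  rw [hρχ, hsum] at hind
  have hε1 : ε = 1 := by
    rcases hε with h | h
    · exact h
    · exfalso
      rw [h, inv_mul_eq_iff_eq_mul₀ (Nat.cast_ne_zero.mpr hG0), mul_neg, mul_one,
        eq_neg_iff_add_eq_zero] at hind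
      have : x * I.card + Nat.card G = 0 := by exact_mod_cast hind
      omega
  rw [hε1] at hind
  have htotal : x * I.card = Nat.card G := by
    rw [inv_mul_eq_iff_eq_mul₀ (Nat.cast_ne_zero.mpr hG0), mul_one] at hind
    exact_mod_cast hind
  -- centralizer orders divide the degree
  have hdvd : ∀ s : G, orderOf s = 2 → ∀ p : ℕ, p.Prime →
      p ∣ Nat.card (Subgroup.centralizer ({s} : Set G)) → p ^ (Nat.card G).factorization p ∣ x := by
    intro s hs p hpp hpd
    by_cases hp2 : p = 2
    · rw [hp2]; exact h2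
    · haveI := Fact.mk hpp
      obtain ⟨c, hc⟩ := exists_prime_orderOf_dvd_card' p hpd
      refine hp p hpp hp2 ⟨s * (c : G), ?_⟩
      have hcomm : Commute s (c : G) := (Subgroup.mem_centralizer_singleton_iff.mp c.2).symm
      rw [hcomm.orderOf_mul_eq_mul_orderOf_of_coprime]
      · rw [hs, Subgroup.orderOf_coe, hc]
      · rw [hs, Subgroup.orderOf_coe, hc]
        exact (Nat.coprime_primes Nat.prime_two hpp).mpr (Ne.symm hp2)
  have hCx : ∀ s : G, orderOf s = 2 → Nat.card (Subgroup.centralizer ({s} : Set G)) ∣ x := by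
    intro s hs
    rw [Nat.dvd_iff_prime_pow_dvd_dvd]
    intro p k hpp hk
    rcases Nat.eq_zero_or_pos k with rfl | hk0
    · simp
    refine ((Nat.pow_dvd_pow_iff_le_right hpp.one_lt).mpr ?_).trans
      (hdvd s hs p hpp ((dvd_pow_self p hk0.ne').trans hk))
    exact (hpp.pow_dvd_iff_le_factorization hG0).mp (hk.trans (Subgroup.card_subgroup_dvd_card _))
  -- class of an involution
  have hclass : ∀ s : G, (Finset.univ.filter fun g : G => IsConj s g).card *
      Nat.card (Subgroup.centralizer ({s} : Set G)) = Nat.card G := by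
    intro s
    rw [mul_comm]
    have h := (Subgroup.centralizer ({s} : Set G)).card_mul_index
    have h' : (Finset.univ.filter fun g : G => IsConj s g).card =
        (Subgroup.centralizer ({s} : Set G)).index := by
      rw [← Fintype.card_subtype, ← Nat.card_eq_fintype_card]
      exact BlocksDefect.natCard_isConj s
    rw [h']; exact h
  have hsub : ∀ s : G, orderOf s = 2 → (Finset.univ.filter fun g : G => IsConj s g) ⊆ I := by
    intro s hs g hg
    obtain ⟨c, hc⟩ := isConj_iff.mp (Finset.mem_filter.mp hg).2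
    refine Finset.mem_filter.mpr ⟨Finset.mem_univ g, ?_⟩
    rw [← hc, ← MulAut.conj_apply, MulEquiv.orderOf_eq, hs]
  have heq : ∀ s : G, orderOf s = 2 → (Finset.univ.filter fun g : G => IsConj s g) = I ∧
      Nat.card (Subgroup.centralizer ({s} : Set G)) = x := by
    intro s hs
    have h1 := hclass s
    have h2' : Nat.card (Subgroup.centralizer ({s} : Set G)) ≤ x := Nat.le_of_dvd hx0 (hCx s hs)
    have h3 := Finset.card_le_card (hsub s hs)
    have hc0 : 0 < Nat.card (Subgroup.centralizer ({s} : Set G)) := Nat.card_pos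
    have h4 : I.card ≤ (Finset.univ.filter fun g : G => IsConj s g).card := by nlinarith
    refine ⟨Finset.eq_of_subset_of_card_le (hsub s hs) h4, ?_⟩
    have h5 : (Finset.univ.filter fun g : G => IsConj s g).card = I.card := le_antisymm h3 h4
    rw [h5, ← htotal, mul_comm x] at h1
    exact Nat.eq_of_mul_eq_mul_left hI0 h1
  refine ⟨fun s t hs ht => ?_, fun s hs => ⟨(heq s hs).2, ?_⟩, ?_⟩
  · have h1 : t ∈ I := Finset.mem_filter.mpr ⟨Finset.mem_univ t, ht⟩
    rw [← (heq s hs).1] at h1
    exact (Finset.mem_filter.mp h1).2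
  · refine Nat.coprime_of_dvd fun p hpp hp1 hp2 => ?_
    have h1 : p ^ ((Nat.card G).factorization p + 1) ∣ Nat.card G := by
      rw [pow_succ, ← (Subgroup.centralizer ({s} : Set G)).card_mul_index]
      refine Nat.mul_dvd_mul ?_ hp2
      rw [(Subgroup.centralizer ({s} : Set G)).card_mul_index, (heq s hs).2]
      exact hdvd s hs p hpp hp1
    exact Nat.pow_succ_factorization_not_dvd hG0 hpp h1
  · rw [hsum, htotal, inv_mul_cancel₀ (Nat.cast_ne_zero.mpr hG0)]

end Cfsg.Agent.S4478
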