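import Cfsg.Statements.S4480
import Cfsg.Agent.Lib.BlocksCore.KleinOrderShape

set_option autoImplicit false
open Cfsg

namespace Cfsg.Agent.S4480

/-- Same setting as the Klein-four order formula: G of order 4·g₀ (g₀ odd) with no normal 2-complement, P a Sylow 2-subgroup, J an involution of P, M over 2, principal 2-block {1, χ₁, χ₂, χ₃} with χ_i(J) = ε_i = ±1. Suppose ε₁ε₂ε₃ = −1 and ε₃ = −1, and put q = x₃ = χ₃(1). Then there is a natural number m with 4·c(J) = m·c(P)·(q + 1), and the order of G equals (m³·c(P)/4)·(q³ − q)/2, that is 8·#G = m³·c(P)·(q³ − q). -/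
theorem result {G : Type*} [Group G] [Finite G] (M : Ideal Cfsg.AlgInt) (hM : Cfsg.IsPModular 2 M) (g₀ : ℕ) (hg₀ : Odd g₀) (hG : Nat.card G = 4 * g₀) (hnc : ¬ ∃ N : Subgroup G, N.Normal ∧ Nat.card N = g₀) (P : Sylow 2 G) (J : G) (hJ : J ∈ (P : Subgroup G)) (hJ2 : orderOf J = 2) (χ₁ χ₂ χ₃ : Cfsg.IrrCharacter G) (ε₁ ε₂ ε₃ : ℤ) (hB : Cfsg.principalBlock M G = {χ : Cfsg.IrrCharacter G | (χ : G → ℂ) = (fun _ => 1) ∨ χ = χ₁ ∨ χ = χ₂ ∨ χ = χ₃}) (hdist : (χ₁ : G → ℂ) ≠ (fun _ => 1) ∧ (χ₂ : G → ℂ) ≠ (fun _ => 1) ∧ (χ₃ : G → ℂ) ≠ (fun _ => 1) ∧ χ₁ ≠ χ₂ ∧ χ₁ ≠ χ₃ ∧ χ₂ ≠ χ₃) (hε : (ε₁ = 1 ∨ ε₁ = -1) ∧ (ε₂ = 1 ∨ ε₂ = -1) ∧ (ε₃ = 1 ∨ ε₃ = -1)) (hval : (χ₁ : G → ℂ) J = ε₁ ∧ (χ₂ : G → ℂ) J = ε₂ ∧ (χ₃ : G → ℂ) J = ε₃) (hprod : ε₁ * ε₂ * ε₃ = -1) (hε₃ : ε₃ = -1) : ∃ m : ℕ, 4 * Nat.card (Subgroup.centralizer ({J} : Set G)) = m * Nat.card (Subgroup.centralizer ((P : Subgroup G) : Set G)) * (Cfsg.charDegree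 (χ₃ : G → ℂ) + 1) ∧ 8 * Nat.card G = m ^ 3 * Nat.card (Subgroup.centralizer ((P : Subgroup G) : Set G)) * (Cfsg.charDegree (χ₃ : G → ℂ) ^ 3 - Cfsg.charDegree (χ₃ : G → ℂ)) := by
  have := Fintype.ofFinite G
  haveI : Fact (Nat.Prime 2) := ⟨Nat.prime_two⟩
  obtain ⟨hP, hexp, hone⟩ := BlocksCore.KleinOrder.setup P g₀ hg₀ hG hnc
  have hrel := BlocksCore.KleinOrder.degree_relation hM P hP hexp hJ hJ2 hB hdist hval
  have hord := BlocksCore.KleinOrder.order_rat hM P hP hexp hone hJ hJ2 hB hdist hε hval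
  have hx1 := BlocksCore.charDegree_pos χ₁
  have hx2 := BlocksCore.charDegree_pos χ₂
  have hx3 := BlocksCore.charDegree_pos χ₃
  obtain ⟨he1, he2⟩ : ε₁ = 1 ∧ ε₂ = 1 := by
    obtain ⟨h1, h2, -⟩ := hε
    rcases h1 with rfl | rfl <;> rcases h2 with rfl | rfl <;> subst hε₃ <;> omega
  have heq := BlocksCore.KleinOrder.degree_eq hM P hP hexp hone hJ hJ2 hB hdist hε hval he1 he2 hε₃
  have hJP : Subgroup.centralizer ((P : Subgroup G) : Set G) ≤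
      Subgroup.centralizer ({J} : Set G) :=
    Subgroup.centralizer_le (Set.singleton_subset_iff.mpr hJ)
  obtain ⟨e, he⟩ := Subgroup.card_dvd_of_le hJP
  have hint : IsIntegral ℤ (Cfsg.centralChar (χ₁ : G → ℂ) J) := BlocksCore.isIntegral_centralChar χ₁ J
  have hidx := Subgroup.index_mul_card (Subgroup.centralizer ({J} : Set G))
  rw [Cfsg.centralChar, hval.1, he1, Int.cast_one, mul_one, BlocksCore.irr_one_eq] at hint
  obtain ⟨n, hn⟩ : Cfsg.charDegree (χ₁ : G → ℂ) ∣ (Subgroup.centralizer ({J} : Set G)).index := by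
    exact CharClifford.dvd_of_mul_isIntegral hint (mul_div_cancel₀ _ (Nat.cast_ne_zero.mpr hx1.ne')).symm
  subst he1 he2 hε₃
  set x := Cfsg.charDegree (χ₁ : G → ℂ)
  set q := Cfsg.charDegree (χ₃ : G → ℂ)
  set d := Nat.card (Subgroup.centralizer ((P : Subgroup G) : Set G))
  set c := Nat.card (Subgroup.centralizer ({J} : Set G))
  have hd : 0 < d := Nat.card_pos
  have hc : 0 < c := Nat.card_pos
  rw [← heq] at hrel hord
  have hq : q = 2 * x + 1 := by omega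
  have hkey : n * (x + 1) ^ 2 = 4 * e ^ 2 * q := by
    have hx0 : (x : ℚ) ≠ 0 := Nat.cast_ne_zero.mpr hx1.ne'
    have hq0 : (q : ℚ) ≠ 0 := Nat.cast_ne_zero.mpr hx3.ne'
    have hc' : (c : ℚ) = d * e := by exact_mod_cast he
    have hG' : (Nat.card G : ℚ) = x * n * c := by rw [← hidx, hn]; push_cast; ring
    have hq' : (q : ℚ) = 2 * x + 1 := by exact_mod_cast hq
    have hde : (d : ℚ) * e ≠ 0 := by rw [← hc']; exact Nat.cast_ne_zero.mpr hc.ne'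
    push_cast at hord
    field_simp at hord
    rw [hG', hc', hq'] at hord
    have : (n : ℚ) * (x + 1) ^ 2 = 4 * e ^ 2 * q := by
      rw [hq']
      refine mul_left_cancel₀ (mul_ne_zero (mul_ne_zero (pow_ne_zero 2 hx0) (pow_ne_zero 2
        (Nat.cast_ne_zero.mpr hd.ne' : (d : ℚ) ≠ 0))) hde) ?_
      linear_combination (x : ℚ) * hord / 2
    exact_mod_cast this
  have hcop : Nat.Coprime (x + 1) q := by
    rw [hq]
    have e1 : Nat.gcd (x + 1) (2 * x + 1) ∣ 1 := by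
      have h1 := (Nat.gcd_dvd_left (x + 1) (2 * x + 1)).mul_left 2
      have h2 := Nat.gcd_dvd_right (x + 1) (2 * x + 1)
      have h3 := Nat.dvd_sub h1 h2
      rwa [show 2 * (x + 1) - (2 * x + 1) = 1 by omega] at h3
    exact Nat.dvd_one.mp e1
  obtain ⟨m, hm⟩ : x + 1 ∣ 2 * e := by
    rw [← Nat.pow_dvd_pow_iff two_ne_zero]
    refine (Nat.Coprime.pow_left 2 hcop).dvd_of_dvd_mul_right ⟨n, ?_⟩
    rw [mul_comm ((x + 1) ^ 2), hkey]
    ring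
  refine ⟨m, ?_, ?_⟩
  · calc 4 * c = 2 * d * (2 * e) := by rw [he]; ring
      _ = _ := by rw [hm, hq]; ring
  · have hnm : n = m ^ 2 * q := by
      refine Nat.eq_of_mul_eq_mul_right (m := (x + 1) ^ 2) (by positivity) ?_
      rw [hkey, show 4 * e ^ 2 = (2 * e) ^ 2 by ring, hm]
      ring
    rw [← hidx, hn, hnm, he, hq, show (2 * x + 1) ^ 3 - (2 * x + 1) =
      (2 * x + 1) * (2 * x) * (2 * (x + 1)) from Nat.sub_eq_of_eq_add (by ring),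
      show 8 * (x * (m ^ 2 * (2 * x + 1)) * (d * e)) = 4 * (2 * e) * (x * m ^ 2 * (2 * x + 1) * d) by ring,
      hm]
    ring

end Cfsg.Agent.S4480
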