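import Cfsg.Statements.S4483
import Cfsg.Agent.BlkChar.Coeff
import Cfsg.Agent.BC84.PrincipalTwo

set_option autoImplicit false
open Cfsg

namespace Cfsg.Agent.S4483

/-- Let G be a finite group of order 2^n·g₀ with g₀ odd, and M a maximal ideal of the algebraic integers containing 2. Every real-valued irreducible character of G of odd degree lies in the principal 2-block; consequently G has at most 2^(2n) real-valued irreducible characters of odd degree. -/
theorem result {G : Type*} [Group G] [Finite G] (M : Ideal Cfsg.AlgInt) (hM : Cfsg.IsPModular 2 M) : (∀ χ : Cfsg.IrrCharacter G, (∀ g : G, ((χ : G → ℂ) g).im = 0) → Odd (Cfsg.charDegree (χ : G → ℂ)) → χ ∈ Cfsg.principalBlock M G) ∧ Nat.card {χ : Cfsg.IrrCharacter G // (∀ g : G, ((χ : G → ℂ) g).im = 0) ∧ Odd (Cfsg.charDegree (χ : G → ℂ))} ≤ 2 ^ (2 * (Nat.card G).factorization 2) := by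
  classical
  haveI := Fintype.ofFinite G
  haveI : Fact (Nat.Prime 2) := ⟨Nat.prime_two⟩
  have hmem : ∀ χ : IrrCharacter G, (∀ g : G, ((χ : G → ℂ) g).im = 0) →
      Odd (charDegree (χ : G → ℂ)) → χ ∈ principalBlock M G := by
    intro χ hreal hodd
    refine BC84.mem_principalBlock_of_odd hM χ hodd fun v _ => ?_
    have := BlocksCore.isPrime hM
    rw [CharCore.irr_apply_inv, Complex.conj_eq_iff_im.mpr (hreal v), sub_self, mul_zero]
    exact BlocksCore.memLocalIdeal_zero
  refine ⟨hmem, ?_⟩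
  have hB : IsPBlock M (principalBlock M G) :=
    ⟨⟨fun _ => 1, CharCore.isIrrCharacter_one⟩, rfl⟩
  have h4 := BlkChar.four_mul_card_le hM hB
  have hd : 2 ^ (2 * blockDefect 2 (principalBlock M G)) ≤ 2 ^ (2 * (Nat.card G).factorization 2) :=
    Nat.pow_le_pow_right Nat.two_pos (Nat.mul_le_mul_left 2 (Nat.sub_le _ _))
  have hle : Nat.card {χ : IrrCharacter G // (∀ g : G, ((χ : G → ℂ) g).im = 0) ∧
      Odd (charDegree (χ : G → ℂ))} ≤ Nat.card (principalBlock M G) :=
    Nat.card_le_card_of_injective (fun χ => ⟨χ.1, hmem χ.1 χ.2.1 χ.2.2⟩)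
      (fun a b hab => Subtype.ext (congrArg (fun z => z.1) hab))
  have hpos : 1 ≤ 2 ^ (2 * (Nat.card G).factorization 2) := Nat.one_le_two_pow
  omega

end Cfsg.Agent.S4483
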