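import Cfsg.Statements.S4488
import Cfsg.Agent.BlkChar.RationalBound

set_option autoImplicit false
open Cfsg

namespace Cfsg.Agent.S4488

/-- The Sylow bound for faithful p-rational characters. -/
theorem result {G : Type*} [Group G] [Finite G] (p : ℕ) (hp : p.Prime) (χ : G → ℂ) (hχ : Cfsg.IsCharacter G χ) (hfaith : ∀ g : G, χ g = χ 1 → g = 1) (hrat : (∃ r : ℕ, 0 < r ∧ ¬ p ∣ r ∧ ∀ g : G, χ g ∈ IntermediateField.adjoin ℚ ({Complex.exp (2 * Real.pi * Complex.I / r)} : Set ℂ))) (n : ℕ) (hn : Cfsg.charDegree χ = n) : (Nat.card G).factorization p ≤ ∑ i ∈ Finset.range (n + 1), n / ((p - 1) * p ^ i) := by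
  haveI := Fact.mk hp
  haveI := Fintype.ofFinite G
  obtain ⟨d, hd⟩ := CharCore.IsCharacter.exists_degree hχ
  rw [BlkChar.charDegree_of_eq hd] at hn
  subst hn
  obtain ⟨r, hr, hpr, hrat⟩ := hrat
  obtain ⟨P⟩ : Nonempty (Sylow p G) := inferInstance
  haveI := Fintype.ofFinite (P : Subgroup G)
  have hint : ∀ g : (P : Subgroup G), ∃ a : ℤ, χ (g : G) = a := fun g => by
    obtain ⟨e, he⟩ := P.2 g
    refine BlkChar.exists_int_of_pRational hp hχ hr hpr hrat ⟨e, ?_⟩
    rw [← SubmonoidClass.coe_pow, he, OneMemClass.coe_one]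
  have h := BlkChar.factorization_card_le_schur hp P.2 (CharCore.isCharacter_restrict hχ _) hint
    (fun g hg => Subtype.ext (hfaith (g : G) (hg.trans (congrArg χ (OneMemClass.coe_one _)))))
    ((congrArg χ (OneMemClass.coe_one _)).trans hd)
  rwa [P.card_eq_multiplicity, hp.factorization_pow, Finsupp.single_eq_same] at h

end Cfsg.Agent.S4488
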