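import Cfsg.Statements.S4489
import Cfsg.Agent.BlkChar.FieldBound

set_option autoImplicit false
open Cfsg

namespace Cfsg.Agent.S4489

/-- The order of a p-group bounded by the degree and field of values of a faithful irreducible character. -/
theorem result {P : Type*} [Group P] [Finite P] (p a : ℕ) (hp : p.Prime) (ha : 0 < a) (hP : Nat.card P = p ^ a) (χ : Cfsg.IrrCharacter P) (hfaith : ∀ g : P, (χ : P → ℂ) g = (χ : P → ℂ) 1 → g = 1) (f t : ℕ) (hf : Cfsg.charDegree (χ : P → ℂ) = f) (hfield : Module.finrank ℚ (IntermediateField.adjoin ℚ (Set.range (χ : P → ℂ))) = (p - 1) * p ^ t) : (p - 1) * a ≤ (f - 1) + (p - 1) * (t + 1) * f := by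
  haveI := Fact.mk hp
  haveI := Fintype.ofFinite P
  obtain ⟨d, hd0, hd1, hdd⟩ := BlkChar.exists_degree' χ
  rw [hdd] at hf
  subst hf
  have hPp : IsPGroup p P := IsPGroup.of_card hP
  obtain ⟨A, hA1, hA2, hA3⟩ := PGroup.exists_selfCentralizing_normal_abelian hPp
  haveI := hA1
  have hAc : ∀ x ∈ A, ∀ y ∈ A, x * y = y * x := fun x hx y hy =>
    congrArg Subtype.val (hA2.is_comm.comm (⟨x, hx⟩ : A) ⟨y, hy⟩)
  have h1 := BlkChar.index_dvd_factorial (CharCore.irr_isCharacter χ) hfaith hd1 A hAc hA3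
  obtain ⟨u, hu⟩ := hPp.index A
  rw [hu] at h1
  have hu' : u ≤ d.factorial.factorization p :=
    (hp.pow_dvd_iff_le_factorization d.factorial_ne_zero).mp h1
  have h2 : (p - 1) * u ≤ d - 1 := by
    have h3 := sub_one_mul_padicValNat_factorial_lt_of_ne_zero (p := p) hd0.ne'
    rw [← Nat.factorization_def _ hp] at h3
    exact le_trans (Nat.mul_le_mul_left _ hu') (Nat.le_sub_one_of_lt h3)
  have h4 := BlkChar.card_abelian_le hp hPp (CharCore.irr_isCharacter χ) hfaith hd1 hfield.le A hAc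
  have h5 := A.card_mul_index
  rw [hu, hP] at h5
  have h6 : p ^ a ≤ p ^ ((t + 1) * d + u) := by
    rw [← h5, pow_add]; exact Nat.mul_le_mul_right _ h4
  have h7 := Nat.mul_le_mul_left (p - 1) ((Nat.pow_le_pow_iff_right hp.one_lt).mp h6)
  rw [mul_add, ← mul_assoc] at h7
  omega

end Cfsg.Agent.S4489
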