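import Cfsg.Statements.S4490
import Cfsg.Agent.BlkChar.Coeff
import Cfsg.Agent.BC84.PrincipalTwo

set_option autoImplicit false
open Cfsg

namespace Cfsg.Agent.S4490

/-- Let G be a finite group and M a maximal ideal of the algebraic integers containing 2. Every 2-block B of G whose defect groups are the Sylow 2-subgroups of G (a block of full defect) and which is not the principal block is different from its complex-conjugate block, the block formed by the complex conjugates of the members of B. -/
theorem result {G : Type*} [Group G] [Finite G] (M : Ideal Cfsg.AlgInt) (hM : Cfsg.IsPModular 2 M) (B : Set (Cfsg.IrrCharacter G)) (hB : Cfsg.IsPBlock M B) (P : Sylow 2 G) (hfull : Cfsg.IsDefectGroup 2 M B (P : Subgroup G)) (hnp : B ≠ Cfsg.principalBlock M G) : {ψ : Cfsg.IrrCharacter G | ∃ χ ∈ B, (ψ : G → ℂ) = fun g => (starRingEnd ℂ) ((χ : G → ℂ) g)} ≠ B := by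
  classical
  haveI := Fintype.ofFinite G
  haveI : Fact (Nat.Prime 2) := ⟨Nat.prime_two⟩
  have := BlocksCore.isPrime hM
  intro heq
  obtain ⟨χ, hχ, h0⟩ := BlocksDefect.exists_height_zero hM hB
  have hd := BlocksDefect.defectGroup_natCard hM hB hfull
  rw [P.card_eq_multiplicity] at hd
  have ha := Nat.pow_right_injective le_rfl hd
  have hb := BlkChar.factorization_eq_sInf hχ h0
  have hle := BlkChar.factorization_degree_le (p := 2) χ
  have hodd : Odd (charDegree (χ : G → ℂ)) := by
    rw [← Nat.not_even_iff_odd, even_iff_two_dvd]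
    intro hdvd
    have h1 := Nat.prime_two.factorization_pos_of_dvd (BlocksCore.charDegree_pos χ).ne' hdvd
    rw [blockDefect, ← hb] at ha
    omega
  have hprin := BC84.mem_principalBlock_of_odd hM χ hodd fun v _ => by
    have hχ' : (⟨_, CharCore.isIrrCharacter_star χ.2⟩ : IrrCharacter G) ∈ B := by
      rw [← heq]
      exact ⟨χ, hχ, rfl⟩
    have h := BlocksCore.memLocalIdeal_mul_left (BlocksCore.memLocalRing_natCast (M := M) (charDegree (χ : G → ℂ)))
      (BlocksCore.sameBlock_of_mem hB hχ' hχ v)
    convert h using 1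
    have h1 : (charDegree (χ : G → ℂ) : ℂ) ≠ 0 :=
      Nat.cast_ne_zero.mpr (BlocksCore.charDegree_pos χ).ne'
    simp only [centralChar, ← CharCore.irr_apply_inv]
    rw [inv_one, BlocksCore.irr_one_eq]
    field_simp
  refine hnp (BlocksCore.isPBlock_eq_of_mem hB ?_ hχ hprin)
  exact ⟨⟨fun _ => 1, CharCore.isIrrCharacter_one⟩, rfl⟩

end Cfsg.Agent.S4490
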