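import Cfsg.Statements.S4493
import Cfsg.Agent.CharDeep.Deg.ItoSolvable
-- import your own Cfsg.Agent.* helpers here

set_option autoImplicit false
open Cfsg

namespace Cfsg.Agent.S4493

/-- Let G be a finite solvable group and p a prime. Then G has a normal abelian Sylow p-subgroup if and only if no irreducible character degree of G is divisible by p. -/
theorem result {G : Type*} [Group G] [Finite G] (hsolv : Group.IsSolvable G) (p : ℕ) (hp : p.Prime) : (∃ P : Subgroup G, P.Normal ∧ (∀ x ∈ P, ∀ y ∈ P, x * y = y * x) ∧ IsPGroup p P ∧ ¬ p ∣ P.index) ↔ ∀ χ : Cfsg.IrrCharacter G, ¬ p ∣ Cfsg.charDegree (χ : G → ℂ) := by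
  haveI := Fact.mk hp
  constructor
  · rintro ⟨P, hPn, hab, -, hPi⟩ χ hdvd
    exact hPi (hdvd.trans (CharDeep.Deg.degree_dvd_index χ P hab))
  · intro h
    exact CharDeep.Deg.exists_abelian_sylow_aux p (Nat.card G) le_rfl hsolv h

end Cfsg.Agent.S4493
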