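import Cfsg.Statements.S4496
import Cfsg.Agent.CharDeep.Deg.SelfCentPrime
-- import your own Cfsg.Agent.* helpers here

set_option autoImplicit false
open Cfsg

namespace Cfsg.Agent.S4496

/-- Let the finite group G contain an element x of prime order p with C_G(x) = ⟨x⟩. Then: (a) every normal subgroup of order divisible by p contains the commutator subgroup; (b) every normal subgroup S of order prime to p has order dividing the number of subgroups of order p of G and congruent to 1 modulo p, and in G/S the image of x again has prime order p and commutes only with its own powers. -/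
theorem result {G : Type*} [Group G] [Finite G] (p : ℕ) (hp : p.Prime) (x : G) (hx : orderOf x = p) (hC : Subgroup.centralizer ({x} : Set G) = Subgroup.zpowers x) (S : Subgroup G) [S.Normal] : (p ∣ Nat.card S → commutator G ≤ S) ∧ (¬ p ∣ Nat.card S → Nat.card S ∣ Nat.card {H : Subgroup G // Nat.card H = p} ∧ Nat.card S % p = 1 ∧ orderOf (QuotientGroup.mk x : G ⧸ S) = p ∧ Subgroup.centralizer ({(QuotientGroup.mk x : G ⧸ S)} : Set (G ⧸ S)) = Subgroup.zpowers (QuotientGroup.mk x : G ⧸ S)) := by
  haveI := Fact.mk hp
  refine ⟨CharDeep.Deg.commutator_le_of_dvd hx hC S, fun hp' => ⟨?_, ?_, ?_, ?_⟩⟩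
  · exact CharDeep.Deg.card_dvd_card_sylow hx hC S hp'
  · exact (CharDeep.Deg.coset_fixed hx hC S hp' 1 (by simp)).2 S.one_mem
  · have hd : orderOf (QuotientGroup.mk' S x) ∣ p := hx ▸ orderOf_map_dvd _ x
    rcases (Nat.dvd_prime hp).mp hd with h | h
    · exfalso
      rw [orderOf_eq_one_iff, QuotientGroup.mk'_apply, QuotientGroup.eq_one_iff] at h
      exact hp' (hx ▸ Subgroup.orderOf_dvd_natCard _ h)
    · exact h
  · refine le_antisymm (fun y hy => ?_) ?_
    · obtain ⟨g, rfl⟩ := QuotientGroup.mk'_surjective S y
      refine (CharDeep.Deg.coset_fixed hx hC S hp' g ?_).1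
      rw [Subgroup.mem_centralizer_singleton_iff] at hy
      change QuotientGroup.mk' S g * QuotientGroup.mk' S x =
        QuotientGroup.mk' S x * QuotientGroup.mk' S g at hy
      rw [map_mul, map_mul, map_inv, ← hy, mul_inv_cancel_right]
    · exact Subgroup.zpowers_le.mpr (Subgroup.mem_centralizer_singleton_iff.mpr rfl)

end Cfsg.Agent.S4496
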