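import Cfsg.Statements.S4509
import Mathlib.GroupTheory.Transfer
import Mathlib.GroupTheory.PGroup
import Mathlib.GroupTheory.Sylow

set_option autoImplicit false
set_option linter.all false
open Cfsg

namespace Cfsg.Agent.S4509

open Subgroup
open scoped commutatorElement

variable {G : Type*} [Group G] [Finite G]

theorem sylow_eq {p : ℕ} [hp : Fact p.Prime] {x : G} (hx : orderOf x = p)
    (hC : centralizer ({x} : Set G) = zpowers x) :
    ∃ P : Sylow p G, (P : Subgroup G) = zpowers x := by
  have hcx : Nat.card (zpowers x) = p := by rw [Nat.card_zpowers, hx]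
  obtain ⟨P, hP⟩ := IsPGroup.exists_le_sylow (IsPGroup.of_card (p := p) (n := 1) (by rw [hcx, pow_one] : Nat.card (zpowers x) = p ^ 1))
  refine ⟨P, le_antisymm ?_ hP⟩
  have hxP : x ∈ (P : Subgroup G) := hP (mem_zpowers x)
  haveI : Nontrivial (P : Subgroup G) :=
    ⟨⟨x, hxP⟩, 1, fun h => hp.out.one_lt.ne' (by rw [← hx, show x = 1 from congrArg Subtype.val h, orderOf_one])⟩
  haveI := P.isPGroup'.center_nontrivial
  obtain ⟨⟨z, hz⟩, hz1⟩ := exists_ne (1 : center (P : Subgroup G))
  have hzC : (z : G) ∈ zpowers x := hC ▸ mem_centralizer_singleton_iff.2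
    (congrArg Subtype.val (mem_center_iff.1 hz ⟨x, hxP⟩)).symm
  have hz1' : (z : G) ≠ 1 := fun h => hz1 (Subtype.ext (Subtype.ext h))
  have heq : zpowers (z : G) = zpowers x := by
    refine eq_of_le_of_card_ge (zpowers_le.2 hzC) ?_
    rw [hcx, Nat.card_zpowers]
    have := orderOf_dvd_natCard (⟨z, hzC⟩ : zpowers x)
    rw [hcx, Subgroup.orderOf_mk] at this
    rcases (Nat.dvd_prime hp.out).1 this with h | h
    · exact absurd (orderOf_eq_one_iff.1 h) hz1'
    · exact h.ge
  intro y hy
  rw [← hC, mem_centralizer_singleton_iff]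
  obtain ⟨k, hk⟩ := mem_zpowers_iff.1 (heq.symm ▸ mem_zpowers x : x ∈ zpowers (z : G))
  have hyz : Commute y (z : G) := congrArg Subtype.val (mem_center_iff.1 hz ⟨y, hy⟩)
  rw [← hk]
  exact (hyz.zpow_right k).eq

theorem zpowers_eq_of_mem {p : ℕ} (hp : p.Prime) {x y : G} (hx : orderOf x = p)
    (hy : y ∈ zpowers x) (hy1 : y ≠ 1) : zpowers y = zpowers x := by
  refine eq_of_le_of_card_ge (zpowers_le.2 hy) ?_
  rw [Nat.card_zpowers, Nat.card_zpowers, hx]
  have := orderOf_dvd_natCard (⟨y, hy⟩ : zpowers x)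
  rw [Nat.card_zpowers, hx, Subgroup.orderOf_mk] at this
  rcases (Nat.dvd_prime hp).1 this with h | h
  · exact absurd (orderOf_eq_one_iff.1 h) hy1
  · exact h.ge

theorem centralizer_of_mem {p : ℕ} (hp : p.Prime) {x y : G} (hx : orderOf x = p)
    (hC : centralizer ({x} : Set G) = zpowers x) (hy : y ∈ zpowers x) (hy1 : y ≠ 1) :
    centralizer ({y} : Set G) = zpowers x := by
  refine le_antisymm (fun g hg => ?_) fun g hg => ?_
  · rw [← hC, mem_centralizer_singleton_iff]
    obtain ⟨k, hk⟩ := mem_zpowers_iff.1 ((zpowers_eq_of_mem hp hx hy hy1).symm ▸ mem_zpowers x)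
    rw [← hk]
    exact (Commute.zpow_right (mem_centralizer_singleton_iff.1 hg : Commute g y) k).eq
  · rw [mem_centralizer_singleton_iff]
    obtain ⟨a, rfl⟩ := mem_zpowers_iff.1 hg
    obtain ⟨b, rfl⟩ := mem_zpowers_iff.1 hy
    exact (Commute.zpow_zpow_self x a b).eq

theorem count_eq_index {p : ℕ} [hp : Fact p.Prime] {x : G} (P : Sylow p G) (hP : (P : Subgroup G) = zpowers x)
    (hx : orderOf x = p) :
    Nat.card {H : Subgroup G // Nat.card H = p} = (normalizer (zpowers x : Set G)).index := by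
  have hPc : Nat.card (P : Subgroup G) = p := by rw [hP, Nat.card_zpowers, hx]
  let e : Sylow p G ≃ {H : Subgroup G // Nat.card H = p} :=
    { toFun := fun Q => ⟨Q, by rw [show Nat.card (Q : Subgroup G) = Nat.card (P : Subgroup G) from
        Nat.card_congr (Q.equiv P).toEquiv, hPc]⟩
      invFun := fun H => Sylow.ofCard H.1 (by rw [H.2, ← P.card_eq_multiplicity, hPc])
      left_inv := fun Q => Sylow.ext rfl
      right_inv := fun H => Subtype.ext rfl }
  rw [← Nat.card_congr e, Sylow.card_eq_index_normalizer P, show ((P : Set G)) = ((P : Subgroup G) : Set G) from rfl, hP]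

theorem comm_mem {p : ℕ} (hp : p.Prime) {x : G} (hx : orderOf x = p)
    (hC : centralizer ({x} : Set G) = zpowers x) {a b : G}
    (ha : a ∈ normalizer (zpowers x : Set G)) (hb : b ∈ normalizer (zpowers x : Set G)) :
    ⁅a, b⁆ ∈ zpowers x := by
  obtain ⟨i, hi⟩ := mem_zpowers_iff.1 ((mem_normalizer_iff.1 ha x).1 (mem_zpowers x))
  obtain ⟨j, hj⟩ := mem_zpowers_iff.1 ((mem_normalizer_iff.1 hb x).1 (mem_zpowers x))
  rw [← hC, mem_centralizer_singleton_iff]
  have h1 : a * b * x * (a * b)⁻¹ = x ^ (i * j) := by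
    rw [show a * b * x * (a * b)⁻¹ = a * (b * x * b⁻¹) * a⁻¹ by group, ← hj, ← conj_zpow, ← hi, ← zpow_mul]
  have h2 : b * a * x * (b * a)⁻¹ = x ^ (i * j) := by
    rw [show b * a * x * (b * a)⁻¹ = b * (a * x * a⁻¹) * b⁻¹ by group, ← hi, ← conj_zpow, ← hj, ← zpow_mul,
      mul_comm]
  have h3 : (b * a)⁻¹ * (a * b) * x = x * ((b * a)⁻¹ * (a * b)) := by
    have := h1.trans h2.symm
    calc (b * a)⁻¹ * (a * b) * x = (b * a)⁻¹ * (a * b * x * (a * b)⁻¹) * (a * b) := by group
      _ = (b * a)⁻¹ * (b * a * x * (b * a)⁻¹) * (a * b) := by rw [this]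
      _ = x * ((b * a)⁻¹ * (a * b)) := by group
  obtain ⟨k, hk⟩ := mem_zpowers_iff.1 ((mem_normalizer_iff.1 (mul_mem hb ha) x).1 (mem_zpowers x))
  have h4 : ⁅a, b⁆ = (b * a) * ((b * a)⁻¹ * (a * b)) * (b * a)⁻¹ := by rw [commutatorElement_def]; group
  have hz : (b * a)⁻¹ * (a * b) ∈ zpowers x := hC ▸ mem_centralizer_singleton_iff.2 h3
  obtain ⟨l, hl⟩ := mem_zpowers_iff.1 hz
  rw [h4, ← hl, ← conj_zpow, ← hk, ← zpow_mul]
  exact (Commute.self_zpow x _).symm.eq

/-- The case of a self-normalizing `zpowers x`. -/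
theorem self_norm_case {p : ℕ} [hp : Fact p.Prime] {x : G} (hx : orderOf x = p)
    (hC : centralizer ({x} : Set G) = zpowers x) (hN : normalizer (zpowers x : Set G) = zpowers x) :
    Nat.card (commutator G) = Nat.card {H : Subgroup G // Nat.card H = p} ∧ (commutator G).index = p := by
  obtain ⟨P, hP⟩ := sylow_eq hx hC
  have hle : normalizer (P : Set G) ≤ centralizer ((P : Subgroup G) : Set G) := by
    rw [show ((P : Set G)) = ((P : Subgroup G) : Set G) from rfl, hP, hN]
    intro g hg h hh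
    obtain ⟨a, rfl⟩ := mem_zpowers_iff.1 hg
    obtain ⟨b, rfl⟩ := mem_zpowers_iff.1 hh
    exact (Commute.zpow_zpow_self x b a).eq
  set K := (MonoidHom.transferSylow P hle).ker with hK
  have hcompl : IsComplement' K (P : Subgroup G) := MonoidHom.ker_transferSylow_isComplement' P hle
  have hKi : K.index = p := by rw [hcompl.symm.index_eq_card, hP, Nat.card_zpowers, hx]
  have hKc : Nat.card K = Nat.card {H : Subgroup G // Nat.card H = p} := by
    rw [count_eq_index P hP hx, hN]
    have h1 := K.card_mul_index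
    have h2 := (zpowers x).card_mul_index
    rw [Nat.card_zpowers, hx] at h2
    rw [hKi, ← h2, mul_comm p] at h1
    exact Nat.eq_of_mul_eq_mul_right hp.out.pos h1
  have hcle : commutator G ≤ K := by
    rw [_root_.commutator_def, commutator_le]
    intro a _ b _
    rw [← QuotientGroup.eq_one_iff (N := K)]
    haveI : IsCyclic (G ⧸ K) := isCyclic_of_prime_card (p := p) (by rw [← Subgroup.index_eq_card]; exact hKi)
    show QuotientGroup.mk' K ⁅a, b⁆ = 1
    rw [map_commutatorElement, commutatorElement_eq_one_iff_mul_comm]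
    letI := IsCyclic.commGroup (α := G ⧸ K)
    exact mul_comm _ _
  have hKle : K ≤ commutator G := by
    let φ : K → K := fun k => ⟨⁅x, (k : G)⁆, by
      rw [commutatorElement_def]
      exact mul_mem ((inferInstance : K.Normal).conj_mem k k.2 x) (inv_mem k.2)⟩
    have hinj : Function.Injective φ := by
      intro a b hab
      have h : ⁅x, (a : G)⁆ = ⁅x, (b : G)⁆ := congrArg Subtype.val hab
      have h2 : (a : G)⁻¹ * b ∈ zpowers x := by
        rw [← hC, mem_centralizer_singleton_iff]
        rw [commutatorElement_def, commutatorElement_def, mul_assoc, mul_assoc, mul_assoc, mul_assoc] at h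
        have h1 : ((a:G) * (x⁻¹ * (a:G)⁻¹))⁻¹ = ((b:G) * (x⁻¹ * (b:G)⁻¹))⁻¹ := by rw [mul_left_cancel h]
        calc (a:G)⁻¹ * b * x = (a:G)⁻¹ * ((b:G) * (x⁻¹ * (b:G)⁻¹))⁻¹ * b := by group
          _ = (a:G)⁻¹ * ((a:G) * (x⁻¹ * (a:G)⁻¹))⁻¹ * b := by rw [h1]
          _ = x * ((a:G)⁻¹ * b) := by group
      have h3 : (a : G)⁻¹ * b ∈ K ⊓ (P : Subgroup G) := ⟨K.mul_mem (K.inv_mem a.2) b.2, hP ▸ h2⟩
      rw [disjoint_iff.1 hcompl.disjoint, mem_bot, inv_mul_eq_one] at h3
      exact Subtype.ext h3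
    intro k hk
    obtain ⟨k', hk'⟩ := (Finite.injective_iff_surjective.1 hinj) ⟨k, hk⟩
    have h4 : ⁅x, (k' : G)⁆ = k := congrArg Subtype.val hk'
    rw [← h4]
    exact commutator_mem_commutator (mem_top _) (mem_top _)
  rw [le_antisymm hcle hKle]
  exact ⟨hKc, hKi⟩

theorem count_classes {p : ℕ} [hp : Fact p.Prime] {x : G} (hx : orderOf x = p)
    (hC : centralizer ({x} : Set G) = zpowers x) :
    Nat.card {C : ConjClasses G // ∃ g ∈ C.carrier, orderOf g = p} * (zpowers x).relIndex (normalizer (zpowers x : Set G))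
      = p - 1 := by
  obtain ⟨P, hP⟩ := sylow_eq hx hC
  set N := normalizer (zpowers x : Set G) with hNdef
  let Y := {y : zpowers x // y ≠ 1}
  have hord : ∀ y : Y, orderOf ((y : zpowers x) : G) = p := fun y => by
    rw [← Nat.card_zpowers, zpowers_eq_of_mem hp.out hx y.1.2 (fun h => y.2 (Subtype.ext h)), Nat.card_zpowers, hx]
  let π : Y → {C : ConjClasses G // ∃ g ∈ C.carrier, orderOf g = p} := fun y =>
    ⟨ConjClasses.mk ((y : zpowers x) : G), _, ConjClasses.mem_carrier_mk, hord y⟩
  have hsurj : Function.Surjective π := by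
    rintro ⟨C, g, hg, hgo⟩
    obtain ⟨Q, hQ⟩ := IsPGroup.exists_le_sylow (IsPGroup.of_card (p := p) (n := 1) (by rw [Nat.card_zpowers, hgo, pow_one] : Nat.card (zpowers g) = p ^ 1))
    obtain ⟨c, hc⟩ := MulAction.exists_smul_eq G Q P
    have hcg : c * g * c⁻¹ ∈ zpowers x := by
      rw [← hP, ← hc]
      exact Subgroup.smul_mem_pointwise_smul g (MulAut.conj c) _ (hQ (mem_zpowers g))
    refine ⟨⟨⟨_, hcg⟩, fun h => ?_⟩, Subtype.ext ?_⟩
    · have h1 : c * g * c⁻¹ = 1 := congrArg Subtype.val h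
      rw [conj_eq_one_iff] at h1
      rw [h1, orderOf_one] at hgo; exact hp.out.one_lt.ne hgo
    · exact ((ConjClasses.mk_eq_mk_iff_isConj.2 (isConj_iff.2 ⟨c⁻¹, by group⟩)).trans
        (ConjClasses.mem_carrier_iff_mk_eq.1 hg))
  have hfib : ∀ C, Nat.card {y : Y // π y = C} = (zpowers x).relIndex N := by
    intro C
    obtain ⟨y₀, rfl⟩ := hsurj C
    rw [Subgroup.relIndex, Subgroup.index_eq_card]
    set g₀ : G := ((y₀ : zpowers x) : G) with hg₀
    have hcent : centralizer ({g₀} : Set G) = zpowers x :=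
      centralizer_of_mem hp.out hx hC y₀.1.2 (fun h => y₀.2 (Subtype.ext h))
    have hmem : ∀ n : N, (n : G) * g₀ * (n : G)⁻¹ ∈ zpowers x := fun n =>
      (mem_normalizer_iff.1 n.2 _).1 y₀.1.2
    let F : N → {y : Y // π y = π y₀} := fun n =>
      ⟨⟨⟨_, hmem n⟩, fun h => y₀.2 (Subtype.ext (conj_eq_one_iff.1 (congrArg Subtype.val h)))⟩,
        Subtype.ext (ConjClasses.mk_eq_mk_iff_isConj.2 (isConj_iff.2 ⟨(n : G)⁻¹, by show _ = g₀; group⟩))⟩
    have hFs : Function.Surjective F := by
      rintro ⟨y, hy⟩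
      obtain ⟨c, hc⟩ := isConj_iff.1 (ConjClasses.mk_eq_mk_iff_isConj.1 (congrArg Subtype.val hy).symm)
      have hcN : c ∈ N := by
        rw [hNdef]
        apply Subgroup.mem_normalizer_fintype
        intro h hh
        obtain ⟨k, rfl⟩ := mem_zpowers_iff.1
          ((zpowers_eq_of_mem hp.out hx y₀.1.2 (fun h => y₀.2 (Subtype.ext h))).symm ▸ hh)
        rw [← conj_zpow, hc]
        exact zpow_mem y.1.2 k
      exact ⟨⟨c, hcN⟩, Subtype.ext (Subtype.ext (Subtype.ext hc))⟩
    have hFe : ∀ a b : N, F a = F b ↔ a⁻¹ * b ∈ (zpowers x).subgroupOf N := by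
      intro a b
      rw [mem_subgroupOf, ← hcent, mem_centralizer_singleton_iff]
      constructor
      · intro h
        have h' : (a : G) * g₀ * (a : G)⁻¹ = (b : G) * g₀ * (b : G)⁻¹ :=
          congrArg (fun t => ((t.1.1 : zpowers x) : G)) h
        push_cast
        calc (a:G)⁻¹ * b * g₀ = (a:G)⁻¹ * ((b:G) * g₀ * (b:G)⁻¹) * b := by group
          _ = (a:G)⁻¹ * ((a:G) * g₀ * (a:G)⁻¹) * b := by rw [h']
          _ = g₀ * ((a:G)⁻¹ * b) := by group
      · intro h
        push_cast at h
        refine Subtype.ext (Subtype.ext (Subtype.ext ?_))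
        show (a : G) * g₀ * (a : G)⁻¹ = (b : G) * g₀ * (b : G)⁻¹
        calc (a : G) * g₀ * (a : G)⁻¹ = (a:G) * (g₀ * ((a:G)⁻¹ * b)) * (b:G)⁻¹ := by group
          _ = (a:G) * ((a:G)⁻¹ * b * g₀) * (b:G)⁻¹ := by rw [h]
          _ = (b : G) * g₀ * (b : G)⁻¹ := by group
    refine (Nat.card_congr (Equiv.ofBijective (Quotient.lift F ?_) ⟨?_, ?_⟩)).symm
    · intro a b hab
      exact (hFe a b).2 (QuotientGroup.leftRel_apply.1 hab)
    · intro u v
      induction u using Quotient.inductionOn with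
      | _ a =>
      induction v using Quotient.inductionOn with
      | _ b => exact fun h => Quotient.sound (QuotientGroup.leftRel_apply.2 ((hFe a b).1 h))
    · intro y
      obtain ⟨n, hn⟩ := hFs y
      exact ⟨Quotient.mk _ n, hn⟩
  haveI : Fintype {C : ConjClasses G // ∃ g ∈ C.carrier, orderOf g = p} := Fintype.ofFinite _
  have hY : Nat.card Y = p - 1 := by
    classical
    haveI : Fintype (zpowers x) := Fintype.ofFinite _
    rw [Nat.card_eq_fintype_card, Fintype.card_subtype_compl, Fintype.card_subtype_eq,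
      ← Nat.card_eq_fintype_card, Nat.card_zpowers, hx]
  rw [← hY, ← Nat.card_congr (Equiv.sigmaFiberEquiv π), Nat.card_sigma]
  simp only [hfib, Finset.sum_const, Finset.card_univ, smul_eq_mul, ← Nat.card_eq_fintype_card]


/-- Let the finite group G contain an element x of prime order p with C_G(x) = ⟨x⟩; let t be the number of conjugacy classes of elements of order p and 1 + n·p the number of subgroups of order p. Then G has a normal subgroup of order 1 + n·p if and only if either t = p − 1, or t < p − 1 and G″ ≠ G′. Moreover, if t = p − 1 then G′ has order 1 + n·p and G/G′ is cyclic of order p; and if t < p − 1 and G″ ≠ G′ then G″ has order 1 + n·p and G′ has order p·(1 + n·p). -/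
theorem result {G : Type*} [Group G] [Finite G] (p : ℕ) (hp : p.Prime) (x : G) (hx : orderOf x = p) (hC : Subgroup.centralizer ({x} : Set G) = Subgroup.zpowers x) (t : ℕ) (ht : Nat.card {C : ConjClasses G // ∃ g ∈ C.carrier, orderOf g = p} = t) (n : ℕ) (hn : Nat.card {H : Subgroup G // Nat.card H = p} = 1 + n * p) : ((∃ S : Subgroup G, S.Normal ∧ Nat.card S = 1 + n * p) ↔ (t = p - 1 ∨ (t < p - 1 ∧ derivedSeries G 2 ≠ derivedSeries G 1))) ∧ (t = p - 1 → Nat.card (commutator G) = 1 + n * p ∧ IsCyclic (G ⧸ commutator G) ∧ (commutator G).index = p) ∧ (t < p - 1 → derivedSeries G 2 ≠ derivedSeries G 1 → Nat.card (derivedSeries G 2) = 1 + n * p ∧ Nat.card (commutator G) = p * (1 + n * p)) := by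
  haveI : Fact p.Prime := ⟨hp⟩
  obtain ⟨P, hP⟩ := sylow_eq hx hC
  set N := Subgroup.normalizer (Subgroup.zpowers x : Set G) with hNdef
  have hidx : 1 + n * p = N.index := by rw [← hn, count_eq_index P hP hx]
  have hte := count_classes (p := p) hx hC
  rw [ht, ← hNdef] at hte
  set e := (Subgroup.zpowers x).relIndex N with he
  have hpN : Subgroup.zpowers x ≤ N := Subgroup.le_normalizer
  have hsn : t = p - 1 ↔ N = Subgroup.zpowers x := by
    constructor
    · intro h
      rw [h] at hte
      have h1 : e = 1 := Nat.eq_of_mul_eq_mul_left (by have := hp.two_le; omega : 0 < p - 1) (by rw [mul_one]; exact hte)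
      exact le_antisymm (Subgroup.relIndex_eq_one.1 h1) hpN
    · intro h
      have : e = 1 := Subgroup.relIndex_eq_one.2 h.le
      rw [this, mul_one] at hte; exact hte
  have hcase1 : t = p - 1 → Nat.card (commutator G) = 1 + n * p ∧ IsCyclic (G ⧸ commutator G) ∧
      (commutator G).index = p := by
    intro h
    obtain ⟨h1, h2⟩ := self_norm_case hx hC (hsn.1 h)
    exact ⟨h1.trans hn, isCyclic_of_prime_card (p := p) (by rw [← Subgroup.index_eq_card]; exact h2), h2⟩
  -- a generator of `zpowers x` is a commutator when the normaliser is bigger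
  have hxG : N ≠ Subgroup.zpowers x → x ∈ commutator G := by
    intro hne
    obtain ⟨m, hm, hmx⟩ : ∃ m ∈ N, m ∉ Subgroup.zpowers x := by
      by_contra h; push Not at h
      exact hne (le_antisymm h hpN)
    have hne1 : ⁅m, x⁆ ≠ 1 := fun h => hmx (hC ▸ Subgroup.mem_centralizer_singleton_iff.2
      (commutatorElement_eq_one_iff_mul_comm.1 h))
    have hmem := comm_mem hp hx hC hm (hpN (Subgroup.mem_zpowers x))
    have := zpowers_eq_of_mem hp hx hmem hne1
    exact (Subgroup.zpowers_le.2 (Subgroup.commutator_mem_commutator (Subgroup.mem_top m) (Subgroup.mem_top x)) :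
      Subgroup.zpowers ⁅m, x⁆ ≤ commutator G) (this.symm ▸ Subgroup.mem_zpowers x)
  have hcase2 : t < p - 1 → derivedSeries G 2 ≠ derivedSeries G 1 →
      Nat.card (derivedSeries G 2) = 1 + n * p ∧ Nat.card (commutator G) = p * (1 + n * p) := by
    intro h hD
    have hne : N ≠ Subgroup.zpowers x := fun hh => h.ne (hsn.2 hh)
    have hxD := hxG hne
    set D := commutator G with hDdef
    have h1 : derivedSeries G 1 = D := derivedSeries_one G
    have h2 : derivedSeries G 2 = ⁅D, D⁆ := by rw [derivedSeries_succ, h1]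
    rw [h1, h2] at hD
    rw [h2]
    set E := ⁅D, D⁆ with hE
    have hxE : x ∉ E := by
      intro hxE
      apply hD
      refine le_antisymm (Subgroup.commutator_le_left _ _) ?_
      have htop : N ⊔ E = ⊤ := by
        have hPE : (P : Subgroup G) ≤ E := by rw [hP, Subgroup.zpowers_le]; exact hxE
        have := Sylow.normalizer_sup_eq_top (P.subtype hPE)
        rwa [Sylow.coe_subtype, Subgroup.map_subgroupOf_eq_of_le hPE, hP] at this
      rw [hDdef, _root_.commutator_def, Subgroup.commutator_le]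
      intro a _ b _
      obtain ⟨a', ha', u, hu, rfl⟩ := Subgroup.mem_sup_of_normal_right.1 (htop.symm ▸ Subgroup.mem_top a : a ∈ N ⊔ E)
      obtain ⟨b', hb', v, hv, rfl⟩ := Subgroup.mem_sup_of_normal_right.1 (htop.symm ▸ Subgroup.mem_top b : b ∈ N ⊔ E)
      rw [← QuotientGroup.eq_one_iff (N := E)]
      show QuotientGroup.mk' E _ = 1
      rw [map_commutatorElement, map_mul, map_mul]
      simp only [QuotientGroup.mk'_apply, (QuotientGroup.eq_one_iff u).2 hu, (QuotientGroup.eq_one_iff v).2 hv, mul_one]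
      rw [← QuotientGroup.mk'_apply, ← QuotientGroup.mk'_apply, ← map_commutatorElement, QuotientGroup.mk'_apply,
        QuotientGroup.eq_one_iff]
      exact (Subgroup.zpowers_le.2 hxE) (comm_mem hp hx hC ha' hb')
    let x' : D := ⟨x, hxD⟩
    have hx' : orderOf x' = p := by rw [Subgroup.orderOf_mk]; exact hx
    have hmap : ∀ g : D, g ∈ Subgroup.zpowers x' ↔ (g : G) ∈ Subgroup.zpowers x := fun g => by
      simp only [Subgroup.mem_zpowers_iff, Subtype.ext_iff]
      constructor <;> rintro ⟨k, hk⟩ <;> exact ⟨k, by simpa [x'] using hk⟩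
    have hC' : Subgroup.centralizer ({x'} : Set D) = Subgroup.zpowers x' := by
      ext g
      rw [hmap, ← hC, Subgroup.mem_centralizer_singleton_iff, Subgroup.mem_centralizer_singleton_iff, Subtype.ext_iff]
      rfl
    have hN' : Subgroup.normalizer (Subgroup.zpowers x' : Set D) = Subgroup.zpowers x' := by
      refine le_antisymm (fun g hg => ?_) Subgroup.le_normalizer
      have h3 : ⁅(g : G), x⁆ ∈ Subgroup.zpowers x := by
        have := (hmap _).1 ((Subgroup.mem_normalizer_iff.1 hg x').1 (Subgroup.mem_zpowers x'))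
        rw [commutatorElement_def]
        exact mul_mem (by simpa [x'] using this) (inv_mem (Subgroup.mem_zpowers x))
      by_contra hg'
      have h4 : ⁅(g : G), x⁆ ≠ 1 := fun h => hg' ((hmap g).2 (hC ▸ Subgroup.mem_centralizer_singleton_iff.2
        (commutatorElement_eq_one_iff_mul_comm.1 h)))
      have h5 := zpowers_eq_of_mem hp hx h3 h4
      exact hxE ((Subgroup.zpowers_le.2 (Subgroup.commutator_mem_commutator g.2 hxD) :
        Subgroup.zpowers ⁅(g : G), x⁆ ≤ E) (h5.symm ▸ Subgroup.mem_zpowers x))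
    obtain ⟨e1, e2⟩ := self_norm_case hx' hC' hN'
    have hall : ∀ H : Subgroup G, Nat.card H = p → H ≤ D := by
      intro H hH
      obtain ⟨c, hc⟩ := MulAction.exists_smul_eq G P (Sylow.ofCard H (by
        rw [hH, ← P.card_eq_multiplicity, hP, Nat.card_zpowers, hx]) : Sylow p G)
      intro g hg
      have hg' : g ∈ ((c • P : Sylow p G) : Subgroup G) := by rw [hc]; exact hg
      obtain ⟨q, hq, rfl⟩ : ∃ q ∈ (P : Subgroup G), MulAut.conj c • q = g := Subgroup.mem_smul_pointwise_iff_exists _ _ _ |>.1 hg'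
      exact (inferInstance : D.Normal).conj_mem q ((Subgroup.zpowers_le.2 hxD) (hP ▸ hq)) c
    let eqv : {H : Subgroup D // Nat.card H = p} ≃ {H : Subgroup G // Nat.card H = p} :=
      { toFun := fun H => ⟨H.1.map D.subtype, by rw [Subgroup.card_subtype]; exact H.2⟩
        invFun := fun H => ⟨H.1.subgroupOf D, by rw [Nat.card_congr (Subgroup.subgroupOfEquivOfLe (hall _ H.2)).toEquiv]; exact H.2⟩
        left_inv := fun H => Subtype.ext (Subgroup.comap_map_eq_self_of_injective (Subgroup.subtype_injective D) _)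
        right_inv := fun H => Subtype.ext (Subgroup.map_subgroupOf_eq_of_le (hall _ H.2)) }
    have hEc : Nat.card E = Nat.card (commutator D) := by
      have : (commutator D).map D.subtype = E := by
        rw [_root_.commutator_def, Subgroup.map_commutator, ← MonoidHom.range_eq_map, Subgroup.range_subtype]
      rw [← this, Subgroup.card_subtype]
    refine ⟨by rw [hEc, e1, Nat.card_congr eqv, hn], ?_⟩
    rw [← (commutator D).card_mul_index, e2, e1, Nat.card_congr eqv, hn, mul_comm]
  refine ⟨⟨?_, ?_⟩, hcase1, hcase2⟩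
  · rintro ⟨S, hS, hScard⟩
    by_cases hsame : N = Subgroup.zpowers x
    · exact Or.inl (hsn.2 hsame)
    have hlt : t < p - 1 := by
      have hle : t ≤ p - 1 := by
        rcases Nat.eq_zero_or_pos e with h0 | h0
        · rw [h0, mul_zero] at hte; have := hp.two_le; omega
        · calc t = t * 1 := (mul_one t).symm
            _ ≤ t * e := Nat.mul_le_mul_left t h0
            _ = p - 1 := hte
      exact lt_of_le_of_ne hle fun h => hsame (hsn.1 h)
    refine Or.inr ⟨hlt, fun hEq => ?_⟩
    have hdisj : S ⊓ Subgroup.zpowers x = ⊥ := by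
      apply Subgroup.inf_eq_bot_of_coprime
      rw [hScard, Nat.card_zpowers, hx, Nat.coprime_comm, hp.coprime_iff_not_dvd]
      intro h
      have : p ∣ 1 := by
        have := Nat.dvd_sub h (Dvd.intro_left n rfl : p ∣ n * p)
        simpa using this
      exact hp.one_lt.ne' (Nat.dvd_one.1 this)
    have hSN : S ⊓ N = ⊥ := by
      rw [eq_bot_iff]
      rintro m ⟨hmS, hmN⟩
      have h1 : ⁅m, x⁆ ∈ S ⊓ Subgroup.zpowers x :=
        ⟨(Subgroup.commutator_le_left S ⊤) (Subgroup.commutator_mem_commutator hmS (Subgroup.mem_top x)),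
          comm_mem hp hx hC hmN (hpN (Subgroup.mem_zpowers x))⟩
      rw [hdisj, Subgroup.mem_bot, commutatorElement_eq_one_iff_mul_comm, ← Subgroup.mem_centralizer_singleton_iff, hC] at h1
      rw [← hdisj]
      exact ⟨hmS, h1⟩
    have hcompl : Subgroup.IsComplement' S N := Subgroup.isComplement'_of_card_mul_and_disjoint
      (by rw [hScard, hidx, mul_comm]; exact N.card_mul_index) (disjoint_iff.2 hSN)
    have hSP : commutator G ≤ S ⊔ Subgroup.zpowers x := by
      rw [_root_.commutator_def, Subgroup.commutator_le]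
      intro a _ b _
      obtain ⟨u, hu, a', ha', rfl⟩ := Subgroup.mem_sup_of_normal_left.1 (hcompl.sup_eq_top.symm ▸ Subgroup.mem_top a : a ∈ S ⊔ N)
      obtain ⟨v, hv, b', hb', rfl⟩ := Subgroup.mem_sup_of_normal_left.1 (hcompl.sup_eq_top.symm ▸ Subgroup.mem_top b : b ∈ S ⊔ N)
      have h1 : QuotientGroup.mk' S ⁅u * a', v * b'⁆ = QuotientGroup.mk' S ⁅a', b'⁆ := by
        simp only [map_commutatorElement, map_mul, QuotientGroup.mk'_apply, (QuotientGroup.eq_one_iff u).2 hu,
          (QuotientGroup.eq_one_iff v).2 hv, one_mul]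
      have h2 := QuotientGroup.eq.1 h1.symm
      have h3 : ⁅u * a', v * b'⁆ = ⁅a', b'⁆ * (⁅a', b'⁆⁻¹ * ⁅u * a', v * b'⁆) := by group
      rw [h3]
      exact mul_mem (Subgroup.mem_sup_right (comm_mem hp hx hC ha' hb')) (Subgroup.mem_sup_left h2)
    have hxS : x ∈ derivedSeries G 2 := by rw [hEq, derivedSeries_one]; exact hxG hsame
    have hle2 : derivedSeries G 2 ≤ S := by
      rw [derivedSeries_succ, derivedSeries_one]
      refine (Subgroup.commutator_mono hSP hSP).trans ?_
      rw [Subgroup.commutator_le]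
      intro a ha b hb
      obtain ⟨u, hu, a', ha', rfl⟩ := Subgroup.mem_sup_of_normal_left.1 ha
      obtain ⟨v, hv, b', hb', rfl⟩ := Subgroup.mem_sup_of_normal_left.1 hb
      rw [← QuotientGroup.eq_one_iff (N := S)]
      show QuotientGroup.mk' S _ = 1
      simp only [map_commutatorElement, map_mul, QuotientGroup.mk'_apply, (QuotientGroup.eq_one_iff u).2 hu,
        (QuotientGroup.eq_one_iff v).2 hv, one_mul]
      rw [commutatorElement_eq_one_iff_mul_comm, ← QuotientGroup.mk_mul, ← QuotientGroup.mk_mul]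
      obtain ⟨i, rfl⟩ := Subgroup.mem_zpowers_iff.1 ha'
      obtain ⟨j, rfl⟩ := Subgroup.mem_zpowers_iff.1 hb'
      rw [(Commute.zpow_zpow_self x i j).eq]
    have hx1 : x ∈ S ⊓ Subgroup.zpowers x := ⟨hle2 hxS, Subgroup.mem_zpowers x⟩
    rw [hdisj, Subgroup.mem_bot] at hx1
    rw [hx1, orderOf_one] at hx
    exact hp.one_lt.ne hx
  · rintro (h | ⟨h, h'⟩)
    · exact ⟨commutator G, inferInstance, (hcase1 h).1⟩
    · exact ⟨derivedSeries G 2, inferInstance, (hcase2 h h').1⟩

end Cfsg.Agent.S4509
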