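import Cfsg.Statements.S4495
import Cfsg.Agent.S4496
import Cfsg.Agent.S4509
import Cfsg.Agent.CharDeep.Deg.SelfCentPrime

set_option autoImplicit false
open Cfsg

namespace Cfsg.Agent.S4495

/-- Let the finite group G contain an element x of prime order p with C_G(x) = ⟨x⟩, and let t be the number of conjugacy classes of elements of order p. If t ≠ p − 1 then the commutator subgroup has index at most (p − 1)/t; if t = p − 1 it has index exactly p. -/
theorem result {G : Type*} [Group G] [Finite G] (p : ℕ) (hp : p.Prime) (x : G) (hx : orderOf x = p) (hC : Subgroup.centralizer ({x} : Set G) = Subgroup.zpowers x) (t : ℕ) (ht : Nat.card {C : ConjClasses G // ∃ g ∈ C.carrier, orderOf g = p} = t) : (t ≠ p - 1 → (commutator G).index * t ≤ p - 1) ∧ (t = p - 1 → (commutator G).index = p) := by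
  haveI := Fact.mk hp
  obtain ⟨P, hP⟩ := S4509.sylow_eq hx hC
  set N := Subgroup.normalizer (Subgroup.zpowers x : Set G) with hN
  have hte := S4509.count_classes (p := p) hx hC
  rw [ht, ← hN] at hte
  set e := (Subgroup.zpowers x).relIndex N with he
  have hPN : Subgroup.zpowers x ≤ N := Subgroup.le_normalizer
  have hp2 := hp.two_le
  have he1 : t = p - 1 ↔ e = 1 := by
    constructor
    · intro h
      rw [h] at hte
      exact Nat.eq_of_mul_eq_mul_left (by omega : 0 < p - 1) (by rw [mul_one]; exact hte)
    · intro h; rw [h, mul_one] at hte; exact hte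
  refine ⟨fun hne => ?_, fun h => (S4509.self_norm_case hx hC
    (le_antisymm (Subgroup.relIndex_eq_one.mp (he1.mp h)) hPN)).2⟩
  have hdvd : p ∣ Nat.card (commutator G) := by
    by_contra hnd
    obtain ⟨-, -, hord, hcent⟩ := (Cfsg.Agent.S4496.result p hp x hx hC (commutator G)).2 hnd
    have htop : Subgroup.zpowers (QuotientGroup.mk x : G ⧸ commutator G) = ⊤ := by
      rw [← hcent, eq_top_iff]
      intro y _
      exact Subgroup.mem_centralizer_singleton_iff.mpr (mul_comm (G := Abelianization G) y _)
    have hidx : (commutator G).index = p := by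
      rw [Subgroup.index_eq_card, ← Subgroup.card_top, ← htop, Nat.card_zpowers, hord]
    have hd : e ∣ 1 := by
      have hinf := CharDeep.Deg.inf_normalizer_eq_bot hx hC (commutator G) hnd
      have hle : Nat.card N ∣ p := by
        rw [← hidx, Subgroup.index_eq_card]
        refine Subgroup.card_dvd_of_injective
          ((QuotientGroup.mk' (commutator G)).comp N.subtype) ?_
        rw [injective_iff_map_eq_one]
        intro n hn
        have h1 : (n : G) ∈ commutator G := (QuotientGroup.eq_one_iff _).mp hn
        exact Subtype.ext (Subgroup.mem_bot.mp (hinf ▸ ⟨h1, n.2⟩))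
      have h2 : p * e = Nat.card N := by
        rw [he, ← hx, ← Nat.card_zpowers x,
          ← Nat.card_congr (Subgroup.subgroupOfEquivOfLe hPN).toEquiv]
        exact Subgroup.card_mul_index _
      rw [← h2] at hle
      exact Nat.dvd_of_mul_dvd_mul_left hp.pos (by rwa [mul_one])
    exact hne (he1.mpr (Nat.dvd_one.mp hd))
  have hPc : Subgroup.zpowers x ≤ commutator G := by
    obtain ⟨y, hy⟩ := exists_prime_orderOf_dvd_card' p hdvd
    obtain ⟨g, hg⟩ := CharDeep.Deg.exists_conj_zpowers hx hC
      (H := Subgroup.zpowers (y : G)) (by rw [Nat.card_zpowers, Subgroup.orderOf_coe, hy])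
    intro z hz
    have h1 : g⁻¹ * z * g ∈ Subgroup.zpowers (y : G) := (hg _).mpr (by simpa [mul_assoc] using hz)
    have h2 := (inferInstance : (commutator G).Normal).conj_mem _
      (Subgroup.zpowers_le.mpr y.2 h1) g
    simpa [mul_assoc] using h2
  have hsup : N ⊔ commutator G = ⊤ := by
    have h := Sylow.normalizer_sup_eq_top' P (N := commutator G) (hP ▸ hPc)
    rw [show ((P : Set G)) = ((P : Subgroup G) : Set G) from rfl, hP] at h
    exact h
  have hd : (commutator G).index ∣ e := by
    rw [← Subgroup.relIndex_top_right (commutator G), ← hsup, Subgroup.relIndex_sup_right]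
    exact Subgroup.relIndex_dvd_of_le_left N hPc
  have he0 : 0 < e := Nat.pos_of_ne_zero fun h => by rw [h, mul_zero] at hte; omega
  calc (commutator G).index * t ≤ e * t := Nat.mul_le_mul_right t (Nat.le_of_dvd he0 hd)
    _ = p - 1 := by rw [mul_comm]; exact hte

end Cfsg.Agent.S4495
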