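import Cfsg.Statements.S4498
import Cfsg.Agent.Lib.BlocksCore.WeakOrth
import Cfsg.Agent.Lib.CharCore.Complete

set_option autoImplicit false
open Cfsg

namespace Cfsg.Agent.S4498

/-- Let p and q be distinct primes dividing the order of the finite group G, and suppose G has no element of order p·q. Fix maximal ideals M_p over p and M_q over q of the algebraic integers. Then the principal p-block and the principal q-block of G have a non-principal irreducible character in common. -/
theorem result {G : Type*} [Group G] [Finite G] (p q : ℕ) [Fact p.Prime] [Fact q.Prime] (hpq : p ≠ q) (hp : p ∣ Nat.card G) (hq : q ∣ Nat.card G) (hno : ∀ g : G, orderOf g ≠ p * q) (Mp Mq : Ideal Cfsg.AlgInt) (hMp : Cfsg.IsPModular p Mp) (hMq : Cfsg.IsPModular q Mq) : ∃ χ : Cfsg.IrrCharacter G, (χ : G → ℂ) ≠ (fun _ => 1) ∧ χ ∈ Cfsg.principalBlock Mp G ∧ χ ∈ Cfsg.principalBlock Mq G := by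
  classical
  haveI := Fintype.ofFinite G
  have hp' : p.Prime := Fact.out
  have hq' : q.Prime := Fact.out
  have := BlocksCore.isPrime hMp
  obtain ⟨x, hx⟩ := exists_prime_orderOf_dvd_card' p hp
  obtain ⟨y, hy⟩ := exists_prime_orderOf_dvd_card' q hq
  let e : IrrCharacter G := ⟨fun _ => 1, CharCore.isIrrCharacter_one⟩
  have hBp : IsPBlock Mp (principalBlock Mp G) := ⟨e, rfl⟩
  have hBq : IsPBlock Mq (principalBlock Mq G) := ⟨e, rfl⟩
  by_contra hcon
  push Not at hcon
  let a : IrrCharacter G → ℂ := fun χ =>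
    if χ ∈ principalBlock Mp G then (starRingEnd ℂ) ((χ : G → ℂ) x) else 0
  let b : IrrCharacter G → ℂ := fun χ =>
    if χ ∈ principalBlock Mq G then (starRingEnd ℂ) ((χ : G → ℂ) y) else 0
  have hval : ∀ (r : ℕ) (Mr : Ideal AlgInt), IsPModular r Mr → ∀ (z g : G), r ∣ orderOf z →
      ¬ r ∣ orderOf g → (∑ χ : IrrCharacter G, (if χ ∈ principalBlock Mr G then
        (starRingEnd ℂ) ((χ : G → ℂ) z) else 0) • (χ : G → ℂ)) g = 0 := by
    intro r Mr hMr z g hz hg
    have h := BlocksCore.weakOrth hMr (B := principalBlock Mr G) ⟨e, rfl⟩ hg hz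
    rw [finsum_mem_def, finsum_eq_sum_of_fintype] at h
    refine Eq.trans ?_ h
    rw [Finset.sum_apply]
    refine Finset.sum_congr rfl fun χ _ => ?_
    by_cases hχ : χ ∈ principalBlock Mr G
    · simp [hχ, mul_comm]
    · simp [hχ]
  have hzero : classInner (∑ χ : IrrCharacter G, a χ • (χ : G → ℂ))
      (∑ χ : IrrCharacter G, b χ • (χ : G → ℂ)) = 0 := by
    rw [classInner, Finset.sum_eq_zero, mul_zero]
    intro g _
    by_cases hg : p ∣ orderOf g
    · by_cases hg' : q ∣ orderOf g
      · obtain ⟨k, hk⟩ := ((Nat.coprime_primes hp' hq').mpr hpq).mul_dvd_of_dvd_of_dvd hg hg'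
        refine absurd ?_ (hno (g ^ k))
        have hk0 : k ≠ 0 := fun h => (orderOf_pos g).ne' (by rw [hk, h, mul_zero])
        rw [orderOf_pow' g hk0, hk, Nat.gcd_mul_left_left, Nat.mul_div_cancel _ (Nat.pos_of_ne_zero hk0)]
      · rw [hval q Mq hMq y g (by rw [hy]) hg']; simp
    · rw [hval p Mp hMp x g (by rw [hx]) hg]; simp
  have h1 : ∀ Mr : Ideal AlgInt, Mr.IsPrime → e ∈ principalBlock Mr G := fun Mr _ =>
    BlocksCore.sameBlock_refl _
  rw [CharCore.classInner_sum_sum, Finset.sum_eq_single e] at hzero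
  · have hq1 := h1 Mq (BlocksCore.isPrime hMq)
    have hp1 := h1 Mp this
    simp only [a, b, if_pos hp1, if_pos hq1, e, map_one, mul_one, one_ne_zero] at hzero
  · intro χ _ hne
    simp only [a, b]
    split_ifs with h2 h3
    · exact absurd h3 (hcon χ (fun h => hne (Subtype.ext h)) h2)
    all_goals simp
  · simp

end Cfsg.Agent.S4498
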