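import Cfsg.Statements.S4502
import Cfsg.Agent.Lib.BlocksCore.CyclicTwistLocal
import Cfsg.Agent.Blocks88.Modular

set_option autoImplicit false
open Cfsg Cfsg.Agent Cfsg.Agent.BlocksCore

namespace Cfsg.Agent.S4502

/-- Let G be a finite group whose order is divisible by the prime p exactly once, and let P be a Sylow p-subgroup. Then the number of irreducible characters of G of degree not divisible by p equals the number of conjugacy classes of the normalizer of P. -/
theorem result {G : Type*} [Group G] [Finite G] (p : ℕ) [Fact p.Prime] (hdiv : p ∣ Nat.card G) (hsq : ¬ p ^ 2 ∣ Nat.card G) (P : Sylow p G) : Nat.card {χ : Cfsg.IrrCharacter G // ¬ p ∣ Cfsg.charDegree (χ : G → ℂ)} = Nat.card (ConjClasses (Subgroup.normalizer ((P : Subgroup G) : Set G))) := by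
  classical
  haveI := Fintype.ofFinite G
  have hp : p.Prime := Fact.out
  have hn0 : Nat.card G ≠ 0 := Nat.card_pos.ne'
  have ha : (Nat.card G).factorization p = 1 := by
    have h1 := (hp.pow_dvd_iff_le_factorization hn0).not.mp hsq
    have h2 := (hp.pow_dvd_iff_le_factorization hn0 (k := 1)).mp (by rwa [pow_one])
    omega
  have hP : Nat.card P = p := by rw [P.card_eq_multiplicity, ha, pow_one]
  haveI : IsCyclic (P : Subgroup G) := isCyclic_of_prime_card hP
  obtain ⟨⟨z, hzP⟩, hgen⟩ := IsCyclic.exists_generator (α := (P : Subgroup G))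
  have hz : orderOf z = p := by
    rw [← Subgroup.orderOf_mk z hzP, orderOf_eq_card_of_forall_mem_zpowers hgen, hP]
  have hzP' : Subgroup.zpowers z = (P : Subgroup G) :=
    Subgroup.eq_of_le_of_card_ge (Subgroup.zpowers_le.mpr hzP)
      (by rw [Nat.card_zpowers, hz, hP])
  have hidx : ¬ p ∣ (Subgroup.zpowers z).index := hzP' ▸ P.not_dvd_index
  obtain ⟨s, hs⟩ := CyclicCount.exists_setup hz hidx
  subst hs
  rw [← hzP']
  set NN := Subgroup.normalizer ((Subgroup.zpowers s.z : Subgroup G) : Set G) with hNN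
  haveI := Fintype.ofFinite NN
  obtain ⟨M, hM⟩ := Blocks88.exists_isPModular hp
  haveI := BlocksCore.isPrime hM
  haveI : Finite (IrrCharacter G) := BlocksCore.finite_irr
  haveI : Finite (IrrCharacter NN) := BlocksCore.finite_irr
  have hPp : IsPGroup p (Subgroup.zpowers s.z) :=
    IsPGroup.of_card (n := 1) (by rw [Nat.card_zpowers, s.orderOf_z, pow_one])
  have hzN : s.z ∈ NN := Subgroup.le_normalizer (Subgroup.mem_zpowers s.z)
  have hle : Subgroup.zpowers s.z ≤ NN := Subgroup.zpowers_le.mpr hzN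
  -- the Sylow subgroup inside the normalizer
  have hsub : ∀ z' : NN, (z' : G) = s.z →
      Subgroup.zpowers z' = (Subgroup.zpowers s.z).subgroupOf NN := by
    intro z' hz'
    refine Subgroup.map_injective NN.subtype_injective ?_
    rw [MonoidHom.map_zpowers, Subgroup.map_subgroupOf_eq_of_le hle, Subgroup.coe_subtype, hz']
  have hidxN : ∀ z' : NN, (z' : G) = s.z → ¬ p ∣ (Subgroup.zpowers z').index := by
    intro z' hz' h
    rw [hsub z' hz'] at h
    exact hidx (h.trans (Subgroup.relIndex_dvd_index_of_le hle))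
  have haN : (Nat.card NN).factorization p = 1 := by
    have h1 := Subgroup.card_mul_index (Subgroup.zpowers (⟨s.z, hzN⟩ : NN))
    rw [← h1, Nat.card_zpowers, Subgroup.orderOf_mk, s.orderOf_z,
      Nat.factorization_mul hp.ne_zero Subgroup.index_ne_zero_of_finite, Finsupp.add_apply,
      hp.factorization_self, Nat.factorization_eq_zero_of_not_dvd (hidxN ⟨s.z, hzN⟩ rfl)]
  have hpN : ∀ ξ : IrrCharacter NN, ¬ p ∣ charDegree (ξ : NN → ℂ) := by
    refine CyclicTwist.not_dvd_charDegree_of_normal ⟨⟨s.z, hzN⟩, ?_, hidxN _ rfl⟩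
    rw [hsub _ rfl]
    exact Subgroup.normal_in_normalizer
  -- blocks of the normalizer
  have hlocal : ∀ b : Set (IrrCharacter NN), IsPBlock M b →
      IsDefectGroup p M b ((Subgroup.zpowers s.z).subgroupOf NN) := by
    intro b hb
    obtain ⟨ξ, hξ⟩ := BlocksCore.isPBlock_nonempty hb
    obtain ⟨s', hs'⟩ := CyclicCount.exists_setup (z := (⟨s.z, hzN⟩ : NN))
      (by rw [Subgroup.orderOf_mk, s.orderOf_z]) (hidxN _ rfl)
    have h := CyclicTwist.isDefectGroup_zpowers hM s' (hs' ▸ hidxN _ rfl) hb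
      (by rw [CyclicTwist.blockDefect_of_not_dvd hξ (hpN ξ), haN])
    rwa [hs', hsub _ rfl] at h
  let SG := {B : Set (IrrCharacter G) // IsPBlock M B ∧ blockDefect p B = 1}
  let SN := {b : Set (IrrCharacter NN) // IsPBlock M b}
  haveI : Finite (Set (IrrCharacter G)) := inferInstance
  haveI : Fintype SG := Fintype.ofFinite SG
  haveI : Fintype SN := Fintype.ofFinite SN
  have hex : ∀ b : SN, ∃ B : Set (IrrCharacter G), IsPBlock M B ∧
      IsDefectGroup p M B (Subgroup.zpowers s.z) ∧ IsInducedBlock M NN b.1 B := fun b =>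
    BlocksCore.exists_induced_defectGroup hM hPp b.2 (hlocal b.1 b.2)
  choose Φ hΦ1 hΦ2 hΦ3 using hex
  have hΦd : ∀ b, blockDefect p (Φ b) = 1 := fun b => by
    have h := BlocksDefect.defectGroup_natCard hM (hΦ1 b) (hΦ2 b)
    rw [Nat.card_zpowers, s.orderOf_z] at h
    exact Nat.pow_right_injective hp.two_le (h.symm.trans (pow_one p).symm)
  let F : SN → SG := fun b => ⟨Φ b, hΦ1 b, hΦd b⟩
  have hF : Function.Bijective F := by
    refine ⟨fun b₁ b₂ h => Subtype.ext (BlocksCore.inducing_normalizer_unique hM hPp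
      (hlocal _ b₁.2) (hlocal _ b₂.2) (hΦ3 b₁) ?_), fun B => ?_⟩
    · have : Φ b₁ = Φ b₂ := congrArg Subtype.val h
      rw [this]; exact hΦ3 b₂
    · obtain ⟨b, hb, -, hind⟩ := BlocksCore.exists_inducing_normalizer hM hPp B.2.1
        (CyclicTwist.isDefectGroup_zpowers hM s hidx B.2.1 B.2.2)
      exact ⟨⟨b, hb⟩, Subtype.ext (CyclicTwist.induced_unique hM (hΦ3 ⟨b, hb⟩) hind)⟩
  have hcard : ∀ b : SN, Nat.card b.1 = Nat.card (F b).1 := by
    intro b
    obtain ⟨t, ht⟩ := CyclicTwist.exists_twist_of_setup hM s (hΦ1 b) (hΦ2 b)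
    obtain ⟨s', t', hz', hauto, hloc⟩ := t.exists_local hM ht
    obtain ⟨b', hb'⟩ := BlocksCore.inducedBlockDefined hM
      (IsPGroup.of_card (n := 1) (by rw [Nat.card_zpowers, s'.orderOf_z, pow_one]) :
        IsPGroup p (Subgroup.zpowers s'.z))
      (Subgroup.zpowers_le.mpr t'.z_mem)
      (by rw [BlocksCore.centralizer_zpowers, t'.hC])
      t'.C_le_normalizer t'.isPBlock_blk
    have hbb : b' = b.1 := BlocksCore.inducing_normalizer_unique hM hPp
      (hlocal _ hb'.2.1) (hlocal _ b.2) (hloc b' hb') (hΦ3 b)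
    subst hbb
    have hBP' : IsDefectGroup p M b.1 (Subgroup.zpowers s'.z) := by
      rw [hsub _ hz']; exact hlocal _ b.2
    rw [t'.card_eq hM hb' hBP' (hidxN _ hz')]
    show _ = Nat.card (Φ b)
    rw [t.card_eq hM ht (hΦ2 b) hidx, hauto]
    congr 1
    have h1 := t'.card_orb_mul
    have h2 := t.card_orb_mul
    rw [hauto] at h1
    exact Nat.eq_of_mul_eq_mul_right Nat.card_pos (h1.trans h2.symm)
  have hG : Nat.card {χ : IrrCharacter G // ¬ p ∣ charDegree (χ : G → ℂ)} =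
      ∑ B : SG, Nat.card B.1 := by
    rw [← Nat.card_sigma]
    refine (Nat.card_congr (Equiv.ofBijective
      (fun x : Σ B : SG, B.1 => (⟨x.2.1, ?_⟩ : {χ : IrrCharacter G // ¬ p ∣ charDegree (χ : G → ℂ)})) ⟨?_, ?_⟩)).symm
    · have hD := CyclicTwist.isDefectGroup_zpowers hM s hidx x.1.2.1 x.1.2.2
      obtain ⟨t, ht⟩ := CyclicTwist.exists_twist_of_setup hM s x.1.2.1 hD
      exact t.not_dvd_charDegree hM ht hD hidx x.2.2
    · rintro ⟨B₁, χ₁⟩ ⟨B₂, χ₂⟩ h
      have h' : χ₁.1 = χ₂.1 := congrArg Subtype.val h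
      obtain rfl : B₁ = B₂ := Subtype.ext
        (BlocksCore.isPBlock_eq_of_mem B₁.2.1 B₂.2.1 χ₁.2 (h' ▸ χ₂.2))
      exact congrArg (Sigma.mk B₁) (Subtype.ext h')
    · rintro ⟨χ, hχ⟩
      exact ⟨⟨⟨_, BlocksCore.isPBlock_blockOf χ,
        (CyclicTwist.blockDefect_of_not_dvd (BlocksCore.mem_blockOf_self χ) hχ).trans ha⟩,
        ⟨χ, BlocksCore.mem_blockOf_self χ⟩⟩, rfl⟩
  have hN : Nat.card (IrrCharacter NN) = ∑ b : SN, Nat.card b.1 := by
    rw [← Nat.card_sigma]
    refine (Nat.card_congr (Equiv.ofBijective (fun x : Σ b : SN, b.1 => x.2.1) ⟨?_, ?_⟩)).symm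
    · rintro ⟨B₁, χ₁⟩ ⟨B₂, χ₂⟩ h
      obtain rfl : B₁ = B₂ := Subtype.ext
        (BlocksCore.isPBlock_eq_of_mem B₁.2 B₂.2 χ₁.2 ((show χ₁.1 = χ₂.1 from h) ▸ χ₂.2))
      exact congrArg (Sigma.mk B₁) (Subtype.ext h)
    · exact fun χ => ⟨⟨⟨_, BlocksCore.isPBlock_blockOf χ⟩, ⟨χ, BlocksCore.mem_blockOf_self χ⟩⟩, rfl⟩
  rw [← CharCore.card_irr, hG, hN]
  exact (Fintype.sum_equiv (Equiv.ofBijective F hF) _ _ fun b => hcard b).symm

end Cfsg.Agent.S4502
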