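import Cfsg.Statements.S4505
import Cfsg.Agent.BlkChar.Coeff

set_option autoImplicit false
open Cfsg

namespace Cfsg.Agent.S4505

/-- Let G be a finite group, p a prime and M a maximal ideal of the algebraic integers containing p. For every σ, the number of p-blocks of defect exactly σ is at most the number of conjugacy classes of p-regular elements whose centralizer has order divisible by p^σ but not by p^(σ+1). -/
theorem result {G : Type*} [Group G] [Finite G] (p : ℕ) [Fact p.Prime] (M : Ideal Cfsg.AlgInt) (hM : Cfsg.IsPModular p M) (σ : ℕ) : Nat.card {B : Set (Cfsg.IrrCharacter G) // Cfsg.IsPBlock M B ∧ Cfsg.blockDefect p B = σ} ≤ Nat.card {C : ConjClasses G // ∃ g : G, ConjClasses.mk g = C ∧ ¬ p ∣ orderOf g ∧ (Nat.card (Subgroup.centralizer ({g} : Set G))).factorization p = σ} := by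
  classical
  haveI := Fintype.ofFinite G
  have := BlocksCore.isPrime hM
  let ι := {B : Set (IrrCharacter G) // IsPBlock M B ∧ blockDefect p B = σ}
  let κ := {C : ConjClasses G // ∃ g : G, ConjClasses.mk g = C ∧ ¬ p ∣ orderOf g ∧
    (Nat.card (Subgroup.centralizer ({g} : Set G))).factorization p = σ}
  haveI : Fintype ι := Fintype.ofFinite ι
  haveI : Fintype κ := Fintype.ofFinite κ
  let R := BlocksCore.localRing M
  let I := BlocksCore.localIdeal M
  haveI : Nontrivial (R ⧸ I) := Ideal.Quotient.nontrivial_iff.mpr fun h =>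
    BlocksCore.not_memLocalIdeal_one (show (1 : R) ∈ I by rw [h]; trivial)
  let v : ι → κ → R ⧸ I := fun B C => Ideal.Quotient.mk I
    ⟨blockCoeff B.1 C.1.out, (BlocksCore.isIntClassFun_blockCoeff hM B.2.1).2 _⟩
  have hv : LinearIndependent (R ⧸ I) v := by
    rw [Fintype.linearIndependent_iff]
    intro lam hlam B'
    choose l hl using fun B => Ideal.Quotient.mk_surjective (lam B)
    set a : G → ℂ := ∑ B : ι, (l B : ℂ) • blockCoeff B.1 with ha
    have haI : BlocksCore.IsIntClassFun M a := by
      rw [ha]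
      refine Finset.sum_induction _ (BlocksCore.IsIntClassFun M)
        (fun _ _ => BlocksCore.isIntClassFun_add) BlocksCore.isIntClassFun_zero fun B _ => ?_
      exact BlocksCore.isIntClassFun_smul (BlocksCore.isIntClassFun_blockCoeff hM B.2.1) (l B).2
    obtain ⟨χ, hχ⟩ := BlocksCore.isPBlock_nonempty B'.2.1
    have homega : BlocksCore.omega (χ : G → ℂ) a = (l B' : ℂ) := by
      rw [ha, BlocksCore.omega_sum, Finset.sum_eq_single B']
      · rw [BlocksCore.omega_smul, BlocksCore.omega_blockCoeff, Set.indicator_of_mem hχ]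
        simp
      · intro B _ hne
        rw [BlocksCore.omega_smul, BlocksCore.omega_blockCoeff, Set.indicator_of_notMem, mul_zero]
        exact fun h => hne (Subtype.ext (BlocksCore.isPBlock_eq_of_mem B.2.1 B'.2.1 h hχ))
      · simp
    rw [← hl B', Ideal.Quotient.eq_zero_iff_mem]
    show MemLocalIdeal M (l B' : ℂ)
    by_contra hu
    rw [← homega] at hu
    obtain ⟨g, hag, hcg⟩ := BlocksDefect.exists_unit_class hM χ haI hu
    obtain ⟨B, hBg⟩ : ∃ B : ι, ¬ MemLocalIdeal M (blockCoeff B.1 g) := by
      by_contra h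
      push Not at h
      apply hag
      rw [ha, Finset.sum_apply]
      exact BlocksCore.memLocalIdeal_sum fun B _ =>
        BlocksCore.memLocalIdeal_mul_left (l B).2 (h B)
    have hreg : ¬ p ∣ orderOf g := fun h => hBg (by
      rw [BlocksCore.blockCoeff_eq_zero_of_dvd_orderOf hM B.2.1 h]
      exact BlocksCore.memLocalIdeal_zero)
    obtain ⟨Q, hQ⟩ := BlocksDefect.exists_isSylowCent p g
    obtain ⟨D, hD⟩ := BlocksDefect.exists_isDefectGroup hM B.2.1
    obtain ⟨D', hD'⟩ := BlocksDefect.exists_isDefectGroup hM B'.2.1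
    have h1 := (BlocksDefect.subConj_defectGroup_of_coeff hM B.2.1 hD
      (BlocksDefect.IsSylowCent.isPGroup hQ) (BlocksDefect.IsSylowCent.mem_centralizer hQ) hBg).card_dvd
    have h2 := (BlocksDefect.defectGroup_subConj_of_centralChar hM B'.2.1 hD' hχ hQ hcg).card_dvd
    rw [BlocksDefect.IsSylowCent.natCard hQ, BlocksDefect.defectGroup_natCard hM B.2.1 hD,
      B.2.2, Nat.pow_dvd_pow_iff_le_right (Fact.out : p.Prime).one_lt] at h1
    rw [BlocksDefect.IsSylowCent.natCard hQ, BlocksDefect.defectGroup_natCard hM B'.2.1 hD',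
      B'.2.2, Nat.pow_dvd_pow_iff_le_right (Fact.out : p.Prime).one_lt] at h2
    let C : κ := ⟨ConjClasses.mk g, g, rfl, hreg, le_antisymm h1 h2⟩
    have h3 : ∑ B : ι, lam B * v B C = 0 := by
      simpa [Finset.sum_apply] using congrFun hlam C
    apply hag
    have hout : IsConj g C.1.out := ConjClasses.mk_eq_mk_iff_isConj.mp
      (Quotient.out_eq C.1).symm
    rw [← BlocksDefect.classFun_eq_of_isConj haI.1 hout]
    simp only [v, ← hl, ← map_mul, ← map_sum, Ideal.Quotient.eq_zero_iff_mem] at h3
    have h4 : MemLocalIdeal M ((∑ B : ι, l B *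
        (⟨blockCoeff B.1 C.1.out, (BlocksCore.isIntClassFun_blockCoeff hM B.2.1).2 _⟩ : R) : R) : ℂ) := h3
    convert h4 using 1
    simp [ha, Finset.sum_apply]
  have h := hv.fintype_card_le_finrank
  rw [Module.finrank_pi] at h
  rw [Nat.card_eq_fintype_card, Nat.card_eq_fintype_card]
  exact h

end Cfsg.Agent.S4505
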