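import Cfsg.Statements.S4507
import Cfsg.Agent.Lib.BlocksCore.CyclicTwistGalois
import Cfsg.Agent.BlkChar.PConjugate

set_option autoImplicit false
open Cfsg Cfsg.Agent Cfsg.Agent.BlocksCore

namespace Cfsg.Agent.S4507

/-- Let G be a finite group whose order g is divisible by the prime p exactly once, g′ = g/p, and fix a maximal ideal M of the algebraic integers containing p. Call two irreducible characters p-conjugate when a field automorphism of ℂ fixing the g′-th roots of unity carries one to the other. Let B be a p-block of positive defect (its defect group is a Sylow p-subgroup). Then B contains a subset Y (the exceptional family) such that: Y is a full p-conjugacy class (its members are pairwise p-conjugate and every p-conjugate of a member of Y lies in Y); every member of B outside Y is p-conjugate only to itself; the size t of Y divides p − 1 and B has exactly t + (p − 1)/t members; and there are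 signs δ_χ = ±1 (χ ∈ B) such that for every p-regular element x and every θ ∈ Y, Σ_{χ ∈ B ∖ Y} δ_χ χ(x) + δ_θ θ(x) = 0. -/
theorem result {G : Type*} [Group G] [Finite G] (p : ℕ) [Fact p.Prime] (M : Ideal Cfsg.AlgInt) (hM : Cfsg.IsPModular p M) (hdiv : p ∣ Nat.card G) (hsq : ¬ p ^ 2 ∣ Nat.card G) (B : Set (Cfsg.IrrCharacter G)) (hB : Cfsg.IsPBlock M B) (hd : 0 < Cfsg.blockDefect p B) : ∃ Y : Set (Cfsg.IrrCharacter G), Y ⊆ B ∧ Y.Nonempty ∧ (∀ θ ∈ Y, ∀ ψ : Cfsg.IrrCharacter G, (∃ σ : ℂ ≃+* ℂ, σ (Complex.exp (2 * Real.pi * Complex.I / ((Nat.card G / p ^ (Nat.card G).factorization p) : ℕ))) = Complex.exp (2 * Real.pi * Complex.I / ((Nat.card G / p ^ (Nat.card G).factorization p) : ℕ)) ∧ (ψ : G → ℂ) = fun g => σ ((θ : G → ℂ) g)) ↔ ψ ∈ Y) ∧ (∀ χ ∈ B, χ ∉ Y → ∀ ψ : Cfsg.IrrCharacter G, (∃ σ : ℂ ≃+* ℂ, σ (Complex.exp (2 * Real.pi * Complex.I / ((Nat.card G / p ^ (Nat.card G).factorization p) : ℕ))) = Complex.exp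 (2 * Real.pi * Complex.I / ((Nat.card G / p ^ (Nat.card G).factorization p) : ℕ)) ∧ (ψ : G → ℂ) = fun g => σ ((χ : G → ℂ) g)) → ψ = χ) ∧ Nat.card Y ∣ p - 1 ∧ Nat.card B = Nat.card Y + (p - 1) / Nat.card Y ∧ ∃ δ : Cfsg.IrrCharacter G → ℤ, (∀ χ ∈ B, δ χ = 1 ∨ δ χ = -1) ∧ ∀ x : G, ¬ p ∣ orderOf x → ∀ θ ∈ Y, (∑ᶠ χ ∈ B \ Y, (δ χ : ℂ) * (χ : G → ℂ) x) + (δ θ : ℂ) * (θ : G → ℂ) x = 0 := by
  classical
  haveI := Fintype.ofFinite G
  haveI := BlocksCore.isPrime hM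
  have hp : p.Prime := Fact.out
  have hn0 : Nat.card G ≠ 0 := Nat.card_pos.ne'
  have ha : (Nat.card G).factorization p = 1 := by
    have h1 := (hp.pow_dvd_iff_le_factorization hn0).not.mp hsq
    have h2 := (hp.pow_dvd_iff_le_factorization hn0 (k := 1)).mp (by rwa [pow_one])
    omega
  have hd1 : blockDefect p B = 1 := by
    have : blockDefect p B ≤ (Nat.card G).factorization p := Nat.sub_le _ _
    omega
  obtain ⟨s, t, hind, hBP, hidx⟩ := CyclicTwist.exists_twist_block hM hB hd1 ha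
  haveI := Fintype.ofFinite t.Orb
  obtain ⟨F, c, ε, hε, hFi, hFB, hvf, hcx, hcard⟩ := t.exists_shape hM hind hBP hidx
  have hg' : Nat.card G / p ≠ 0 := by
    rw [Ne, Nat.div_eq_zero_iff]
    push Not
    exact ⟨hp.ne_zero, Nat.le_of_dvd Nat.card_pos hdiv⟩
  simp only [ha, pow_one]
  set ζ := Complex.exp (2 * Real.pi * Complex.I / ((Nat.card G / p : ℕ) : ℂ)) with hζd
  have hζ : IsPrimitiveRoot ζ (Nat.card G / p) := Complex.isPrimitiveRoot_exp _ hg'
  have hfix : ∀ σ : ℂ →+* ℂ, σ ζ = ζ → ∀ μ : ℂ, μ ^ (Nat.card G / p) = 1 → σ μ = μ := by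
    intro σ h μ hμ
    haveI : NeZero (Nat.card G / p) := ⟨hg'⟩
    obtain ⟨i, -, rfl⟩ := hζ.eq_pow_of_pow_eq_one hμ
    rw [map_pow, h]
  -- conjugates stay in the block with moved vectors
  have hmove : ∀ (σ : ℂ ≃+* ℂ), σ ζ = ζ → ∀ (j : (ZMod p)ˣ),
      (∀ x : ZMod p, σ (ZMod.stdAddChar x : ℂ) = ZMod.stdAddChar ((j : ZMod p) * x)) →
      ∀ χ ψ : IrrCharacter G, χ ∈ B → (ψ : G → ℂ) = (fun g => σ ((χ : G → ℂ) g)) →
      (∀ g : G, ¬ p ∣ orderOf g → (ψ : G → ℂ) g = (χ : G → ℂ) g) ∧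
        (∀ o, t.vecO ψ ((j : t.Orb) * o) = t.vecO χ o) ∧ ψ ∈ B := by
    intro σ hσ j hj χ ψ hχ hψ
    have hv : ∀ o, t.vecO ψ ((j : t.Orb) * o) = t.vecO χ o := by
      intro o
      obtain ⟨r, rfl⟩ := QuotientGroup.mk_surjective o
      rw [← QuotientGroup.mk_mul, ← t.vec_eq_vecO, ← t.vec_eq_vecO, Units.val_mul]
      exact t.vec_map ha (hfix σ.toRingHom hσ) (σ := σ.toRingHom) hj hψ _
    refine ⟨fun g hg => ?_, hv, ?_⟩
    · rw [hψ]
      exact CyclicTwist.Twist.map_regular ha (hfix σ.toRingHom hσ) χ hg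
    · by_contra hn
      obtain ⟨o, ho⟩ := t.exists_vecO_ne_zero hM hind hBP hidx hχ
      exact ho ((hv o).symm.trans (t.vecO_of_notMem hM hind hn _))
  -- the images of the exceptional family
  have himg : ∀ (σ : ℂ ≃+* ℂ), σ ζ = ζ → ∀ (j : (ZMod p)ˣ),
      (∀ x : ZMod p, σ (ZMod.stdAddChar x : ℂ) = ZMod.stdAddChar ((j : ZMod p) * x)) →
      ∀ (i : t.Orb) (ψ : IrrCharacter G), (ψ : G → ℂ) = (fun g => σ ((F i : G → ℂ) g)) →
      ψ = F ((j : t.Orb) * i) := by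
    intro σ hσ j hj i ψ hψ
    obtain ⟨h1, h2, h3⟩ := hmove σ hσ j hj (F i) ψ (hFB i) hψ
    refine t.eq_of_vecO_eq hM hind hBP hidx h3 (hFB _) (fun g hg => ?_) fun o => ?_
    · rw [h1 g hg]
      have e1 := t.sum_regular_eq_zero hM hind hBP hidx hFi hFB hvf hcx hg i
      have e2 := t.sum_regular_eq_zero hM hind hBP hidx hFi hFB hvf hcx hg ((j : t.Orb) * i)
      have hε0 : (ε : ℂ) ≠ 0 := by rcases hε with rfl | rfl <;> norm_num
      exact mul_left_cancel₀ hε0 (add_left_cancel (e1.trans e2.symm))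
    · obtain ⟨o', rfl⟩ : ∃ o', (j : t.Orb) * o' = o := ⟨(j : t.Orb)⁻¹ * o, mul_inv_cancel_left _ _⟩
      rw [h2, hvf, hvf]
      simp only [mul_right_inj]
  have hexp : ∀ σ : ℂ ≃+* ℂ, ∃ j : (ZMod p)ˣ, ∀ x : ZMod p,
      σ (ZMod.stdAddChar x : ℂ) = ZMod.stdAddChar ((j : ZMod p) * x) := fun σ =>
    CyclicTwist.Twist.exists_exponent σ.toRingHom
  have hYB : Set.range F ⊆ B := by rintro x ⟨i, rfl⟩; exact hFB i
  refine ⟨Set.range F, hYB, Set.range_nonempty F, fun θ hθ ψ => ⟨?_, ?_⟩, ?_, ?_, ?_,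
    fun χ => if χ ∈ Set.range F then ε else if χ ∈ B then c χ else 1, fun χ hχ => ?_,
    fun x hx θ hθ => ?_⟩
  · rintro ⟨σ, hσ, hψ⟩
    obtain ⟨i, rfl⟩ := hθ
    obtain ⟨j, hj⟩ := hexp σ
    exact ⟨_, (himg σ hσ j hj i ψ hψ).symm⟩
  · rintro ⟨i', rfl⟩
    obtain ⟨i, rfl⟩ := hθ
    obtain ⟨j, hj⟩ := QuotientGroup.mk_surjective (i' * i⁻¹)
    have hcop : (Nat.card G / p).Coprime p := by
      have h := Nat.not_dvd_ordCompl hp hn0
      rw [ha, pow_one] at h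
      exact (hp.coprime_iff_not_dvd.mpr h).symm
    obtain ⟨m, hm1, hm2⟩ := Nat.chineseRemainder hcop 1 ((j : (ZMod p)ˣ) : ZMod p).val
    have hmn : m.Coprime (Nat.card G) := by
      rw [← Nat.div_mul_cancel hdiv]
      refine Nat.Coprime.mul_right (Nat.coprime_of_mul_modEq_one 1 (by rwa [mul_one])) ?_
      exact (hm2.gcd_eq.trans (ZMod.val_coe_unit_coprime j) : Nat.gcd m p = 1)
    obtain ⟨σ, hσ⟩ := BlkChar.PConj.exists_ringEquiv_pow hn0 hmn
    have hσζ : σ ζ = ζ := by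
      rw [hσ ζ (by rw [← Nat.div_mul_cancel hdiv, pow_mul, hζ.pow_eq_one, one_pow]),
        pow_eq_pow_mod _ hζ.pow_eq_one, hm1, ← pow_eq_pow_mod _ hζ.pow_eq_one, pow_one]
    have hj' : ∀ x : ZMod p, σ (ZMod.stdAddChar x : ℂ) = ZMod.stdAddChar ((j : ZMod p) * x) := by
      intro x
      rw [hσ _ (by rw [← AddChar.map_nsmul_eq_pow, nsmul_eq_mul,
        (ZMod.natCast_eq_zero_iff _ _).mpr hdiv, zero_mul, AddChar.map_zero_eq_one]),
        ← AddChar.map_nsmul_eq_pow, nsmul_eq_mul, (ZMod.natCast_eq_natCast_iff _ _ _).mpr hm2,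
        ZMod.natCast_zmod_val]
    refine ⟨σ, hσζ, ?_⟩
    let ψ : IrrCharacter G := ⟨_, OddChar.isIrrCharacter_map σ.toRingHom (F i).2⟩
    have h := himg σ hσζ j hj' i ψ rfl
    rw [hj, inv_mul_cancel_right] at h
    rw [← h]
    rfl
  · rintro χ hχ hχY ψ ⟨σ, hσ, hψ⟩
    obtain ⟨j, hj⟩ := hexp σ
    obtain ⟨h1, h2, h3⟩ := hmove σ hσ j hj χ ψ hχ hψ
    obtain ⟨-, hc⟩ := hcx χ hχ fun i hi => hχY ⟨i, hi⟩
    refine t.eq_of_vecO_eq hM hind hBP hidx h3 hχ h1 fun o => ?_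
    obtain ⟨o', rfl⟩ : ∃ o', (j : t.Orb) * o' = o := ⟨(j : t.Orb)⁻¹ * o, mul_inv_cancel_left _ _⟩
    rw [h2, hc, hc]
  all_goals
    have hY : Nat.card (Set.range F) = Nat.card t.Orb :=
      (Nat.card_congr (Equiv.ofInjective F hFi)).symm
  · rw [hY, ← t.card_orb_mul]
    exact dvd_mul_right _ _
  · rw [hY, hcard, ← t.card_orb_mul, Nat.mul_div_cancel_left _ Nat.card_pos,
      Nat.card_eq_fintype_card (α := t.Orb), add_comm]
  · dsimp only
    rw [if_pos hχ]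
    split_ifs with h
    · exact hε
    · exact (hcx χ hχ fun i hi => h ⟨i, hi⟩).1
  · obtain ⟨i, rfl⟩ := hθ
    dsimp only
    rw [if_pos (Set.mem_range_self i), ← t.sum_regular_eq_zero hM hind hBP hidx hFi hFB hvf hcx hx i]
    congr 1
    rw [finsum_mem_eq_finite_toFinset_sum _ (Set.toFinite _)]
    refine Finset.sum_congr (by ext; simp) fun χ hχ => ?_
    simp only [Finset.mem_sdiff, Finset.mem_filter, Finset.mem_univ, true_and, Finset.mem_image,
      not_exists] at hχ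
    rw [if_neg (fun ⟨k, hk⟩ => hχ.2 k hk), if_pos hχ.1]

end Cfsg.Agent.S4507
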