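import Cfsg.Statements.S4508
import Cfsg.Agent.S4509
import Cfsg.Agent.Lib.CharCore.Complete
import Cfsg.Agent.Lib.CharCore.Linear
import Cfsg.Agent.Lib.CharCore.Eigen
import Cfsg.Agent.Lib.CharClifford.Central
import Cfsg.Agent.Lib.CharClifford.Galois
import Mathlib.RingTheory.RootsOfUnity.PrimitiveRoots
import Mathlib.RingTheory.RootsOfUnity.Complex
import Mathlib.GroupTheory.SpecificGroups.Cyclic
import Mathlib.LinearAlgebra.Determinant

set_option autoImplicit false
open Cfsg

namespace Cfsg.Agent.S4508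

open scoped ComplexConjugate
open Cfsg.Agent.CharCore

/-- Let the finite group G contain an element x of prime order p with C_G(x) = ⟨x⟩, and let t be the number of conjugacy classes of elements of order p. If G has an irreducible character of degree p − 1, then t is even or the commutator subgroup has even index. -/
theorem result {G : Type*} [Group G] [Finite G] (p : ℕ) (hp : p.Prime) (x : G) (hx : orderOf x = p) (hC : Subgroup.centralizer ({x} : Set G) = Subgroup.zpowers x) (t : ℕ) (ht : Nat.card {C : ConjClasses G // ∃ g ∈ C.carrier, orderOf g = p} = t) (χ : Cfsg.IrrCharacter G) (hχ : Cfsg.charDegree (χ : G → ℂ) + 1 = p) : Even t ∨ Even (commutator G).index := by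
  classical
  haveI := Fact.mk hp
  haveI := Fintype.ofFinite G
  obtain ⟨P₀, hP₀⟩ := S4509.sylow_eq hx hC
  set P := Subgroup.zpowers x with hPdef
  set N := Subgroup.normalizer (P : Set G) with hN
  have hte := S4509.count_classes (p := p) hx hC
  rw [ht, ← hPdef, ← hN] at hte
  set e := P.relIndex N with he
  have hPN : P ≤ N := Subgroup.le_normalizer
  have hp2 := hp.two_le
  rcases Nat.even_or_odd t with htev | htodd
  · exact Or.inl htev
  refine Or.inr ?_
  by_cases hp' : p = 2
  · subst hp'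
    have ht1 : t = 1 ∧ e = 1 := mul_eq_one.mp hte
    obtain ⟨-, h⟩ := S4509.self_norm_case hx hC
      (le_antisymm (Subgroup.relIndex_eq_one.mp ht1.2) hPN)
    rw [h]
    exact even_two
  have hpodd : Even (p - 1) := hp.even_sub_one hp'
  have heev : Even e := by
    rw [← hte, Nat.even_mul] at hpodd
    exact hpodd.resolve_left (Nat.not_even_iff_odd.mpr htodd)
  have he0 : 0 < e := Nat.pos_of_ne_zero fun h => by rw [h, mul_zero] at hte; omega
  have he2 : 2 ≤ e := by obtain ⟨r, hr⟩ := heev; omega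
  have hPcard : Nat.card P = p := by rw [hPdef, Nat.card_zpowers, hx]
  have hNcard : Nat.card N = p * e := by
    rw [he, ← hPcard, ← Nat.card_congr (Subgroup.subgroupOfEquivOfLe hPN).toEquiv]
    exact (Subgroup.card_mul_index _).symm
  obtain ⟨k, ρ, hρ, hρχ⟩ := χ.2
  have hk : (χ : G → ℂ) 1 = (k : ℂ) := by
    rw [← hρχ, Representation.char_one, Module.finrank_fin_fun]
  have hdeg : k + 1 = p := by
    rw [Cfsg.charDegree, hk, Complex.natCast_re, Nat.floor_natCast] at hχ
    exact hχ
  have hcl := irr_isClassFunction χ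
  -- multiplicities on `P`
  haveI : Fintype P := Fintype.ofFinite _
  have hres := isCharacter_restrict (irr_isCharacter χ) P
  obtain ⟨m, hm⟩ := IsCharacter.exists_sum hres
  set l := m ⟨1, isIrrCharacter_one⟩ with hl
  have hlin : ∀ η : IrrCharacter P, (η : P → ℂ) 1 = 1 := fun η => by
    obtain ⟨d, hd0, hd, hη⟩ := CharClifford.exists_degree_dvd_index_center η.2
    have hc : Subgroup.center P = ⊤ := eq_top_iff.mpr fun a _ =>
      Subgroup.mem_center_iff.mpr fun b => mul_comm' b a
    rw [hc, Subgroup.index_top, Nat.dvd_one] at hd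
    rw [hη, hd, Nat.cast_one]
  have hsum : ∑ η, m η = k := by
    have h := congrFun hm 1
    simp only [Finset.sum_apply, Pi.smul_apply, smul_eq_mul, hlin, mul_one, OneMemClass.coe_one,
      hk] at h
    exact_mod_cast h.symm
  have hpne : (Nat.card P : ℂ) ≠ 0 := Nat.cast_ne_zero.mpr Nat.card_pos.ne'
  have htriv : ∑ y : P, (χ : G → ℂ) y = (p : ℂ) * l := by
    have h := classInner_sum_all (fun η => (m η : ℂ)) ⟨1, isIrrCharacter_one⟩
    rw [← hm, classInner_def, inv_mul_eq_iff_eq_mul₀ hpne, hPcard] at h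
    simpa using h
  have hnorm : ∑ y : P, (χ : G → ℂ) y * conj ((χ : G → ℂ) y) = (p : ℂ) * (∑ η, m η ^ 2 : ℕ) := by
    have h := classInner_sum_sum (fun η : IrrCharacter P => (m η : ℂ)) (fun η => (m η : ℂ))
    rw [← hm, classInner_def, inv_mul_eq_iff_eq_mul₀ hpne, hPcard] at h
    rw [h]
    simp [pow_two]
  -- the upper bound from the norm of `χ`
  let F : G → ℝ := fun g => Complex.normSq ((χ : G → ℂ) g)
  let T : Finset P := Finset.univ.erase 1
  have hconjP : ∀ (c : G) (y y' : P), y ≠ 1 → c * (y : G) * c⁻¹ = y' → c ∈ N := by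
    intro c y y' hy hc
    have hy' : (y : G) ≠ 1 := fun h => hy (Subtype.ext h)
    rw [hN]
    apply Subgroup.mem_normalizer_fintype
    intro h hh
    obtain ⟨j, rfl⟩ := Subgroup.mem_zpowers_iff.mp (show h ∈ Subgroup.zpowers (y : G) by
      rw [S4509.zpowers_eq_of_mem hp hx y.2 hy']; exact hh)
    rw [← conj_zpow, hc]
    exact zpow_mem y'.2 j
  have hfiber : ∀ z : G, z ≠ 1 →
      ((Finset.univ ×ˢ T).filter fun q : G × P => q.1 * (q.2 : G) * q.1⁻¹ = z).card ≤ Nat.card N := by
    intro z hz
    set Q := (Finset.univ ×ˢ T).filter fun q : G × P => q.1 * (q.2 : G) * q.1⁻¹ = z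
    rcases Q.eq_empty_or_nonempty with h | ⟨q₀, hq₀⟩
    · simp [h]
    rw [← Nat.card_eq_finsetCard]
    have key : ∀ q ∈ Q, q₀.1⁻¹ * q.1 ∈ N := by
      intro q hq
      simp only [Q, Finset.mem_filter, Finset.mem_product, T, Finset.mem_erase] at hq hq₀
      refine hconjP _ q.2 q₀.2 hq.1.2.1 ?_
      rw [show q₀.1⁻¹ * q.1 * (q.2 : G) * (q₀.1⁻¹ * q.1)⁻¹ =
        q₀.1⁻¹ * (q.1 * (q.2 : G) * q.1⁻¹) * q₀.1 by group, hq.2, ← hq₀.2]
      group
    refine Nat.card_le_card_of_injective (fun q : Q => (⟨q₀.1⁻¹ * q.1.1, key q.1 q.2⟩ : N))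
      fun a b hab => ?_
    have h1 : a.1.1 = b.1.1 := mul_left_cancel (congrArg Subtype.val hab :)
    have ha := (Finset.mem_filter.mp a.2).2
    have hb := (Finset.mem_filter.mp b.2).2
    rw [h1, ← hb] at ha
    exact Subtype.ext (Prod.ext h1 (Subtype.ext (mul_left_cancel (mul_right_cancel ha))))
  have hFsum : ∑ g : G, F g = (Nat.card G : ℝ) := by
    have h := classInner_irr_self χ
    rw [classInner_def, inv_mul_eq_iff_eq_mul₀ (Nat.cast_ne_zero.mpr Nat.card_pos.ne'), mul_one] at h
    simp only [Complex.mul_conj] at h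
    exact_mod_cast h
  have hUB : ∑ y ∈ T, F y < (p * e : ℕ) := by
    have h1 : ∑ q ∈ Finset.univ ×ˢ T, F (q.1 * (q.2 : G) * q.1⁻¹) =
        (Nat.card G : ℝ) * ∑ y ∈ T, F y := by
      rw [Finset.sum_product]
      simp only [F, fun (g : G) (y : G) => hcl y g, Finset.sum_const, Finset.card_univ,
        Fintype.card_eq_nat_card, nsmul_eq_mul]
    rw [← Finset.sum_fiberwise_of_maps_to (t := Finset.univ.erase (1 : G))
      (g := fun q : G × P => q.1 * (q.2 : G) * q.1⁻¹) (fun q hq => by
        simp only [Finset.mem_product, T, Finset.mem_erase] at hq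
        simp only [Finset.mem_erase, Finset.mem_univ, and_true, ne_eq, conj_eq_one_iff]
        exact fun h => hq.2.1 (Subtype.ext h))] at h1
    have h2 : (Nat.card G : ℝ) * ∑ y ∈ T, F y ≤ (Nat.card N : ℝ) * ∑ z ∈ Finset.univ.erase 1, F z := by
      rw [← h1, Finset.mul_sum]
      refine Finset.sum_le_sum fun z hz => ?_
      rw [Finset.sum_congr rfl (fun q hq => by rw [(Finset.mem_filter.mp hq).2]), Finset.sum_const,
        nsmul_eq_mul]
      exact mul_le_mul_of_nonneg_right
        (Nat.cast_le.mpr (hfiber z (Finset.ne_of_mem_erase hz))) (Complex.normSq_nonneg _)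
    have hF1 : 0 < F 1 := Complex.normSq_pos.mpr (irr_apply_one_ne_zero χ)
    have h3 : ∑ z ∈ Finset.univ.erase (1 : G), F z < (Nat.card G : ℝ) := by
      rw [← hFsum, ← Finset.add_sum_erase Finset.univ F (Finset.mem_univ 1)]
      linarith
    have hG0 : (0 : ℝ) < Nat.card G := Nat.cast_pos.mpr Nat.card_pos
    have hN0 : (0 : ℝ) < Nat.card N := Nat.cast_pos.mpr Nat.card_pos
    rw [← hNcard]
    by_contra hle
    push Not at hle
    have : (Nat.card G : ℝ) * Nat.card N ≤ Nat.card G * ∑ y ∈ T, F y :=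
      mul_le_mul_of_nonneg_left hle hG0.le
    nlinarith [mul_lt_mul_of_pos_left h3 hN0]
  have hTF : ∑ y ∈ T, F y = (p : ℝ) * ((∑ η, m η ^ 2 : ℕ) : ℝ) - (k : ℝ) ^ 2 := by
    simp only [Complex.mul_conj, ← Complex.ofReal_sum] at hnorm
    have h : ∑ y : P, F y = (p : ℝ) * ((∑ η, m η ^ 2 : ℕ) : ℝ) := by exact_mod_cast hnorm
    rw [← Finset.add_sum_erase Finset.univ (fun y : P => F y) (Finset.mem_univ 1)] at h
    have h1 : F ((1 : P) : G) = (k : ℝ) ^ 2 := by
      simp only [F, OneMemClass.coe_one, hk, Complex.normSq_natCast, pow_two]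
    linarith
  have hll : l * l < e + l := by
    have hsq : l * l + (k - l) ≤ ∑ η, m η ^ 2 := by
      rw [← hsum, ← Finset.add_sum_erase _ _ (Finset.mem_univ (⟨1, isIrrCharacter_one⟩ : IrrCharacter P)),
        ← Finset.add_sum_erase _ (fun η => m η ^ 2) (Finset.mem_univ (⟨1, isIrrCharacter_one⟩ : IrrCharacter P)),
        ← hl, Nat.add_sub_cancel_left, ← pow_two]
      exact Nat.add_le_add_left (Finset.sum_le_sum fun η _ => Nat.le_self_pow two_ne_zero _) _
    have hlk : l ≤ k := by
      rw [← hsum, hl]; exact Finset.single_le_sum (fun _ _ => Nat.zero_le _) (Finset.mem_univ _)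
    have h1 : (p : ℝ) * ((l : ℝ) * l + ((k : ℝ) - l)) - (k : ℝ) ^ 2 < (p : ℝ) * e := by
      have hc := (Nat.cast_le (α := ℝ)).mpr hsq
      rw [Nat.cast_add, Nat.cast_mul, Nat.cast_sub hlk] at hc
      rw [hTF, Nat.cast_mul] at hUB
      have := mul_le_mul_of_nonneg_left hc (Nat.cast_nonneg p : (0 : ℝ) ≤ p)
      linarith
    have hp' : (p : ℝ) = (k : ℝ) + 1 := by rw [← hdeg]; push_cast; ring
    have : ((l * l : ℕ) : ℝ) < ((e + l : ℕ) : ℝ) := by
      push_cast
      rw [hp'] at h1
      nlinarith [Nat.cast_nonneg (α := ℝ) k]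
    exact_mod_cast this
  -- `e` divides `l`
  have hel : e ∣ l := by
    let C : Finset (ConjClasses G) := T.image fun y : P => ConjClasses.mk (y : G)
    have hfib : ∀ y₀ ∈ T,
        (T.filter fun y : P => ConjClasses.mk (y : G) = ConjClasses.mk (y₀ : G)).card = e := by
      intro y₀ hy₀
      haveI : Fintype N := Fintype.ofFinite _
      have hy₀1 : y₀ ≠ 1 := Finset.ne_of_mem_erase hy₀
      set U := T.filter fun y : P => ConjClasses.mk (y : G) = ConjClasses.mk (y₀ : G)
      let f : N → P := fun n => ⟨(n : G) * y₀ * (n : G)⁻¹, (Subgroup.mem_normalizer_iff.mp n.2 _).mp y₀.2⟩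
      have hmaps : ∀ n ∈ (Finset.univ : Finset N), f n ∈ U := fun n _ => by
        refine Finset.mem_filter.mpr ⟨Finset.mem_erase.mpr ⟨fun h => hy₀1 ?_, Finset.mem_univ _⟩, ?_⟩
        · exact Subtype.ext (conj_eq_one_iff.mp (congrArg Subtype.val h))
        · exact (ConjClasses.mk_eq_mk_iff_isConj.mpr (isConj_iff.mpr ⟨(n : G), rfl⟩)).symm
      have hcnt : ∀ y ∈ U, (Finset.univ.filter fun n : N => f n = y).card = p := by
        intro y hy
        obtain ⟨c, hc⟩ := isConj_iff.mp
          (ConjClasses.mk_eq_mk_iff_isConj.mp (Finset.mem_filter.mp hy).2).symm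
        have hcN : c ∈ N := hconjP c y₀ y hy₀1 hc
        have hcent := S4509.centralizer_of_mem hp hx hC y₀.2 (fun h => hy₀1 (Subtype.ext h))
        rw [← Nat.card_eq_finsetCard, ← hPcard]
        refine Nat.card_congr
          { toFun := fun n => ⟨c⁻¹ * (n.1 : G), by
              have h1 : (n.1 : G) * y₀ * (n.1 : G)⁻¹ = c * y₀ * c⁻¹ := by
                rw [hc]; exact congrArg Subtype.val (Finset.mem_filter.mp n.2).2
              refine hcent.le (Subgroup.mem_centralizer_singleton_iff.mpr ?_)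
              calc c⁻¹ * (n.1 : G) * y₀ = c⁻¹ * ((n.1 : G) * y₀ * (n.1 : G)⁻¹) * n.1 := by group
                _ = (y₀ : G) * (c⁻¹ * n.1) := by rw [h1]; group⟩
            invFun := fun z => ⟨⟨c * z, mul_mem hcN (hPN z.2)⟩, Finset.mem_filter.mpr
              ⟨Finset.mem_univ _, Subtype.ext (by
                have hz : (z : G) * y₀ = y₀ * z := congrArg Subtype.val (mul_comm' z y₀)
                show c * (z : G) * y₀ * (c * (z : G))⁻¹ = y
                rw [mul_assoc c, hz, ← hc]; group)⟩⟩
            left_inv := fun n => Subtype.ext (Subtype.ext (by simp))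
            right_inv := fun z => Subtype.ext (by simp) }
      have hcount := Finset.card_eq_sum_card_fiberwise (f := f) (t := U) (s := Finset.univ) hmaps
      rw [Finset.sum_congr rfl hcnt, Finset.sum_const, smul_eq_mul, Finset.card_univ,
        ← Nat.card_eq_fintype_card, hNcard, mul_comm] at hcount
      exact (Nat.eq_of_mul_eq_mul_right hp.pos hcount).symm
    let I : ℂ := ∑ Cl ∈ C, (χ : G → ℂ) (Quotient.out Cl)
    have hI : IsIntegral ℤ I :=
      IsIntegral.sum _ fun _ _ => IsCharacter.isIntegral (irr_isCharacter χ) _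
    have hTsum : ∑ y ∈ T, (χ : G → ℂ) y = (e : ℂ) * I := by
      rw [← Finset.sum_fiberwise_of_maps_to (t := C) (g := fun y : P => ConjClasses.mk (y : G))
        (fun y hy => Finset.mem_image_of_mem _ hy), Finset.mul_sum]
      refine Finset.sum_congr rfl fun Cl hCl => ?_
      obtain ⟨y₀, hy₀, rfl⟩ := Finset.mem_image.mp hCl
      rw [Finset.sum_congr rfl (g := fun _ => (χ : G → ℂ) (Quotient.out (ConjClasses.mk (y₀ : G))))
        (fun y hy => ?_), Finset.sum_const, hfib y₀ hy₀, nsmul_eq_mul]
      obtain ⟨c, hc⟩ := isConj_iff.mp (ConjClasses.mk_eq_mk_iff_isConj.mp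
        ((Finset.mem_filter.mp hy).2.trans (Quotient.out_eq _).symm))
      rw [← hc, hcl]
    rw [← Finset.add_sum_erase _ _ (Finset.mem_univ (1 : P)), OneMemClass.coe_one, hk, hTsum] at htriv
    have he0' : (e : ℂ) ≠ 0 := Nat.cast_ne_zero.mpr he0.ne'
    have hIval : I = ((((p : ℚ) * l - k) / e : ℚ) : ℂ) := by
      push_cast
      rw [eq_div_iff he0']
      linear_combination htriv
    rw [hIval] at hI
    obtain ⟨z, hz⟩ := CharClifford.exists_int_of_isIntegral_rat hI
    rw [div_eq_iff (Nat.cast_ne_zero.mpr he0.ne' : (e : ℚ) ≠ 0)] at hz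
    have hz' : (p : ℤ) * l - k = z * e := by exact_mod_cast hz
    have hkte : k = t * e := by omega
    have hdvd : (e : ℤ) ∣ (p : ℤ) * l :=
      ⟨z + t, by have : (k : ℤ) = (t : ℤ) * e := by exact_mod_cast hkte
                 linear_combination hz' + this⟩
    have hcop : Nat.Coprime e p := by
      refine (hp.coprime_iff_not_dvd.mpr fun h => ?_).symm
      have := Nat.le_of_dvd he0 h
      have : e ≤ t * e := Nat.le_mul_of_pos_left e htodd.pos
      omega
    exact hcop.dvd_of_dvd_mul_left (by exact_mod_cast hdvd : e ∣ p * l)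
  have hl0 : l = 0 := by
    by_contra h
    have h1 := Nat.le_of_dvd (Nat.pos_of_ne_zero h) hel
    nlinarith
  -- `P` has no fixed vectors
  have hzero : ∑ z : P, ρ (z : G) = 0 := by
    haveI : Invertible (Nat.card P : ℂ) := invertibleOfNonzero hpne
    haveI : Invertible (Fintype.card P : ℂ) := by rw [Fintype.card_eq_nat_card]; infer_instance
    let σ : Representation ℂ P (Fin k → ℂ) := ρ.comp P.subtype
    have hproj := Representation.isProj_averageMap σ
    have hfr : Module.finrank ℂ σ.invariants = 0 := by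
      have h := σ.card_inv_mul_sum_char_eq_finrank
      have h2 : ∀ z : P, σ.character z = (χ : G → ℂ) z := fun z => congrFun hρχ (z : G)
      simp only [h2, htriv, hl0, Nat.cast_zero, mul_zero] at h
      exact_mod_cast h.symm
    have hbot : σ.invariants = ⊥ := Submodule.finrank_eq_zero.mp hfr
    have hav : σ.averageMap = 0 := LinearMap.ext fun v => by
      have h := hproj.map_mem v
      rw [hbot, Submodule.mem_bot] at h
      exact h
    have h := hav
    simp only [Representation.averageMap, GroupAlgebra.average, map_smul, map_sum,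
      Representation.asAlgebraHom_single, one_smul, MonoidAlgebra.of_apply] at h
    exact (smul_eq_zero.mp h).resolve_left (Invertible.ne_zero _)
  -- `χ` vanishes on `N` outside `P`
  have hvan : ∀ g ∈ N, g ∉ P → (χ : G → ℂ) g = 0 := by
    intro g hg hgP
    let f : P →* P :=
      { toFun := fun y => y * (⟨g * (y : G) * g⁻¹, (Subgroup.mem_normalizer_iff.mp hg _).mp y.2⟩ : P)⁻¹
        map_one' := Subtype.ext (by simp)
        map_mul' := fun a b => by
          rw [show (⟨g * ((a * b : P) : G) * g⁻¹, _⟩ : P) =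
            (⟨g * (a : G) * g⁻¹, (Subgroup.mem_normalizer_iff.mp hg _).mp a.2⟩ : P) *
            ⟨g * (b : G) * g⁻¹, (Subgroup.mem_normalizer_iff.mp hg _).mp b.2⟩ from
            Subtype.ext (by simp [mul_assoc])]
          letI := IsCyclic.commGroup (α := P)
          rw [mul_inv]
          exact mul_mul_mul_comm _ _ _ _ }
    have hinj : Function.Injective f := by
      rw [injective_iff_map_eq_one]
      intro y hy
      by_contra hy1
      have h1 : (y : G) = g * (y : G) * g⁻¹ := by
        have := congrArg Subtype.val (mul_inv_eq_one.mp hy)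
        exact this
      apply hgP
      rw [hPdef, ← S4509.centralizer_of_mem hp hx hC y.2 (fun h => hy1 (Subtype.ext h)),
        Subgroup.mem_centralizer_singleton_iff]
      exact mul_inv_eq_iff_eq_mul.mp h1.symm
    have hsurj := Finite.injective_iff_surjective.mp hinj
    have hall : ∀ z : P, (χ : G → ℂ) ((z : G) * g) = (χ : G → ℂ) g := fun z => by
      obtain ⟨y, rfl⟩ := hsurj z
      have he : ((f y : P) : G) * g = (y : G) * g * (y : G)⁻¹ := by
        show (y : G) * (g * (y : G) * g⁻¹)⁻¹ * g = _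
        group
      rw [he, hcl]
    have h1 : ∑ z : P, (χ : G → ℂ) ((z : G) * g) = 0 := by
      simp only [← hρχ, Representation.character, map_mul, ← map_sum, ← Finset.sum_mul, hzero,
        zero_mul, map_zero]
    rw [Finset.sum_congr rfl (fun z _ => hall z), Finset.sum_const, Finset.card_univ,
      nsmul_eq_mul] at h1
    exact (mul_eq_zero.mp h1).resolve_left (Nat.cast_ne_zero.mpr Fintype.card_ne_zero)
  -- a two-element acting on `P`
  haveI : Fact (Nat.Prime 2) := ⟨Nat.prime_two⟩
  let S : Sylow 2 N := default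
  obtain ⟨s, hs⟩ := IsPGroup.iff_card.mp S.isPGroup'
  have hs0 : s ≠ 0 := by
    intro h
    have h2 : 2 ∣ Nat.card N := by rw [hNcard]; exact heev.two_dvd.mul_left p
    have h3 := S.dvd_card_of_dvd_card h2
    rw [hs, h, pow_zero, Nat.dvd_one] at h3
    exact absurd h3 (by norm_num)
  have hSP : ∀ a : (S : Subgroup N), ((a : N) : G) ∈ P → a = 1 := by
    intro a ha
    have h1 : orderOf a ∣ p := by
      rw [← hPcard, ← Subgroup.orderOf_coe, ← Subgroup.orderOf_coe]
      exact Subgroup.orderOf_dvd_natCard _ ha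
    have h2 : orderOf a ∣ 2 ^ s := hs ▸ orderOf_dvd_natCard a
    have hc : Nat.Coprime p (2 ^ s) :=
      Nat.Coprime.pow_right _ ((Nat.coprime_primes hp Nat.prime_two).mpr hp')
    exact orderOf_eq_one_iff.mp (Nat.eq_one_of_dvd_coprimes hc h1 h2)
  let act : (S : Subgroup N) →* MulAut P := P.normalizerMonoidHom.comp (S : Subgroup N).subtype
  have hact : Function.Injective act := by
    rw [injective_iff_map_eq_one]
    intro a ha
    refine hSP a ?_
    have h1 := congrArg Subtype.val (DFunLike.congr_fun ha ⟨x, Subgroup.mem_zpowers x⟩)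
    change ((a : N) : G) * x * ((a : N) : G)⁻¹ = x at h1
    refine hC.le (Subgroup.mem_centralizer_singleton_iff.mpr ?_)
    exact mul_inv_eq_iff_eq_mul.mp h1
  haveI : Fact (Nat.card P).Prime := ⟨hPcard ▸ hp⟩
  haveI : IsCyclic (MulAut P) := isCyclic_of_injective
    (IsCyclic.mulAutMulEquiv P).toMonoidHom (IsCyclic.mulAutMulEquiv P).injective
  haveI : IsCyclic (S : Subgroup N) := isCyclic_of_injective act hact
  obtain ⟨gen, hgen⟩ := IsCyclic.exists_ofOrder_eq_natCard (α := (S : Subgroup N))
  set a : G := ((gen : N) : G) with ha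
  set q := 2 ^ s with hq
  have hao : orderOf a = q := by
    rw [ha, Subgroup.orderOf_coe, Subgroup.orderOf_coe, hgen, hs]
  have hq0 : 0 < q := pow_pos two_pos s
  have hakzero : ∀ j, j ≠ 0 → j < q → (χ : G → ℂ) (a ^ j) = 0 := by
    intro j hj0 hjq
    refine hvan _ ((gen : N) ^ j).2 fun hmem => ?_
    have h1 : gen ^ j = 1 := hSP (gen ^ j) hmem
    have := Nat.le_of_dvd (Nat.pos_of_ne_zero hj0) (orderOf_dvd_of_pow_eq_one h1)
    rw [hgen, hs] at this
    omega
  obtain ⟨b, ω, hω, -, hb, hpow⟩ := exists_eigenvalues ρ a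
  rw [hao] at hω
  have hqe : q ∣ e := by
    refine (Nat.Coprime.pow_left s ((Nat.coprime_primes Nat.prime_two hp).mpr (Ne.symm hp'))).dvd_of_dvd_mul_left ?_
    rw [← hNcard]
    have := (S : Subgroup N).card_subgroup_dvd_card
    rw [hs] at this
    exact this
  obtain ⟨t', ht'⟩ : q ∣ k := dvd_trans hqe ⟨t, by rw [mul_comm]; omega⟩
  have ht'odd : Odd t' := by
    obtain ⟨c, hc⟩ := hqe
    have hcodd : Odd c := by
      rw [← Nat.not_even_iff_odd]
      rintro ⟨c', hc'⟩
      have hd : 2 ^ (s + 1) ∣ Nat.card N := ⟨p * c', by rw [hNcard, hc, hc', hq, pow_succ]; ring⟩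
      have := (Nat.Prime.pow_dvd_iff_le_factorization Nat.prime_two Nat.card_pos.ne').mp hd
      have hval := S.card_eq_multiplicity
      rw [hs] at hval
      have := Nat.pow_right_injective (le_refl 2) hval
      omega
    have : t' = c * t := Nat.eq_of_mul_eq_mul_left hq0 (by rw [← ht', ← mul_assoc, ← hc]; rw [mul_comm]; omega)
    rw [this]
    exact hcodd.mul htodd
  obtain ⟨ζ, hζ⟩ : ∃ ζ : ℂ, IsPrimitiveRoot ζ q := ⟨_, Complex.isPrimitiveRoot_exp q hq0.ne'⟩
  haveI : NeZero q := ⟨hq0.ne'⟩
  choose j hjlt hj using fun i => hζ.eq_pow_of_pow_eq_one (hω i)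
  have hcnt : ∀ r : ℕ, r < q → (Finset.univ.filter fun i => j i = r).card = t' := by
    intro r hr
    have key : ∀ i, ∑ c ∈ Finset.range q, (ω i / ζ ^ r) ^ c = if j i = r then (q : ℂ) else 0 := by
      intro i
      split_ifs with h
      · rw [← hj i, h, div_self (pow_ne_zero _ (hζ.ne_zero hq0.ne'))]
        simp
      · have hne : ω i / ζ ^ r ≠ 1 := fun hh => h (hζ.pow_inj (hjlt i) hr
          (by rw [hj i]; exact (div_eq_one_iff_eq (pow_ne_zero _ (hζ.ne_zero hq0.ne'))).mp hh))
        rw [geom_sum_eq hne, div_pow, hω i, ← pow_mul, mul_comm r q, pow_mul, hζ.pow_eq_one,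
          one_pow, div_one, sub_self, zero_div]
    have h1 : ∑ i, ∑ c ∈ Finset.range q, (ω i / ζ ^ r) ^ c = (k : ℂ) := by
      rw [Finset.sum_comm, Finset.sum_eq_single 0]
      · simp
      · intro c hc hc0
        simp only [div_pow, ← Finset.sum_div, ← hpow]
        rw [hρχ, hakzero c hc0 (Finset.mem_range.mp hc), zero_div]
      · intro h; exact absurd (Finset.mem_range.mpr hq0) h
    simp only [key] at h1
    rw [← Finset.sum_filter, Finset.sum_const, nsmul_eq_mul] at h1
    have h2 : (Finset.univ.filter fun i => j i = r).card * q = k := by exact_mod_cast h1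
    exact Nat.eq_of_mul_eq_mul_right hq0 (by rw [h2, ht', mul_comm])
  have hdet : LinearMap.det (ρ a) = -1 := by
    have hdiag : LinearMap.toMatrix b b (ρ a) = Matrix.diagonal ω := by
      ext i i'
      rw [LinearMap.toMatrix_apply, hb, map_smul, Finsupp.smul_apply, b.repr_self]
      by_cases hii : i = i'
      · subst hii; simp
      · simp [Finsupp.single_eq_of_ne hii, Matrix.diagonal_apply_ne _ hii]
    rw [← LinearMap.det_toMatrix b, hdiag, Matrix.det_diagonal,
      ← Finset.prod_fiberwise_of_maps_to (t := Finset.range q) (g := j)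
        (fun i _ => Finset.mem_range.mpr (hjlt i))]
    rw [Finset.prod_congr rfl (g := fun r => ζ ^ (r * t')) (fun r hr => by
      rw [Finset.prod_congr rfl (g := fun _ => ζ ^ r) (fun i hi => by
        rw [← hj i, (Finset.mem_filter.mp hi).2]), Finset.prod_const,
        hcnt r (Finset.mem_range.mp hr), ← pow_mul]), Finset.prod_pow_eq_pow_sum, ← Finset.sum_mul]
    obtain ⟨s', rfl⟩ := Nat.exists_eq_succ_of_ne_zero hs0
    have hsumid : ∑ r ∈ Finset.range q, r = 2 ^ s' * (q - 1) := by
      rw [Finset.sum_range_id, hq, pow_succ, mul_right_comm, Nat.mul_div_cancel _ two_pos]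
    have hhalf : ζ ^ 2 ^ s' = -1 := by
      have h2 := hζ.pow hq0 (show q = 2 ^ s' * 2 by rw [hq, pow_succ])
      exact h2.eq_neg_one_of_two_right
    rw [hsumid, mul_assoc, pow_mul, hhalf]
    refine Odd.neg_one_pow (Odd.mul ?_ ht'odd)
    rw [hq, pow_succ]
    refine ⟨2 ^ s' - 1, ?_⟩
    have := Nat.one_le_two_pow (n := s')
    omega
  let f : G →* ℂˣ := ((LinearMap.det).comp ρ).toHomUnits
  have hmem : a ^ (commutator G).index ∈ f.ker :=
    Abelianization.commutator_subset_ker f ((commutator G).pow_index_mem a)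
  rw [MonoidHom.mem_ker, map_pow] at hmem
  have hfa : ((f a : ℂˣ) : ℂ) = -1 := hdet
  have h1 := congrArg (fun u : ℂˣ => (u : ℂ)) hmem
  simp only [Units.val_pow_eq_pow_val, Units.val_one, hfa] at h1
  exact (neg_one_pow_eq_one_iff_even (by norm_num)).mp h1

end Cfsg.Agent.S4508
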