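import Cfsg.Statements.S4510
import Cfsg.Agent.Lib.BlocksDefect.Pairing
import Cfsg.Agent.Lib.BlocksDefect.Basic
import Cfsg.Agent.Lib.BlocksCore.WeakOrth

set_option autoImplicit false
open Cfsg

namespace Cfsg.Agent.S4510

open Cfsg.Agent.BlocksCore

/-- Let G be a finite group, p a prime, M a maximal ideal of the algebraic integers containing p, and call the defect of a conjugacy class the exponent of p in the order of the centralizer of its elements. Two irreducible characters lying in p-blocks of defect exactly d lie in the same block if and only if their central characters (class size times χ(x)/χ(1)) agree modulo the local ideal at M at every p-regular element x whose class has defect exactly d. -/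
theorem result {G : Type*} [Group G] [Finite G] (p : ℕ) [Fact p.Prime] (M : Ideal Cfsg.AlgInt) (hM : Cfsg.IsPModular p M) (d : ℕ) (χ ψ : Cfsg.IrrCharacter G) (hχ : Cfsg.blockDefect p (Cfsg.blockOf M (χ : G → ℂ)) = d) (hψ : Cfsg.blockDefect p (Cfsg.blockOf M (ψ : G → ℂ)) = d) : Cfsg.SameBlock M (χ : G → ℂ) (ψ : G → ℂ) ↔ ∀ x : G, ¬ p ∣ orderOf x → (Nat.card (Subgroup.centralizer ({x} : Set G))).factorization p = d → Cfsg.MemLocalIdeal M (Cfsg.centralChar (χ : G → ℂ) x - Cfsg.centralChar (ψ : G → ℂ) x) := by
  classical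
  haveI := isPrime hM
  have := Fintype.ofFinite G
  refine ⟨fun h x _ _ => h x, fun h => ?_⟩
  set B := Cfsg.blockOf M (χ : G → ℂ) with hBdef
  have hB : Cfsg.IsPBlock M B := isPBlock_blockOf χ
  have hlow : ∀ (φ : Cfsg.IrrCharacter G) (g : G), Cfsg.blockDefect p (Cfsg.blockOf M (φ : G → ℂ)) = d →
      (Nat.card (Subgroup.centralizer ({g} : Set G))).factorization p < d →
      Cfsg.MemLocalIdeal M (Cfsg.centralChar (φ : G → ℂ) g) := by
    intro φ g hφ hlt
    by_contra hu
    obtain ⟨D, hD⟩ := BlocksDefect.exists_isDefectGroup hM (isPBlock_blockOf (M := M) φ)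
    obtain ⟨Q, hQ⟩ := BlocksDefect.exists_isSylowCent p g
    have hdvd := (BlocksDefect.defectGroup_subConj_of_centralChar hM (isPBlock_blockOf (M := M) φ) hD
      (mem_blockOf_self φ) hQ hu).card_dvd
    rw [BlocksDefect.defectGroup_natCard hM (isPBlock_blockOf (M := M) φ) hD, hφ, hQ.natCard] at hdvd
    exact absurd ((Nat.pow_dvd_pow_iff_le_right hM.1.one_lt).mp hdvd) (not_le.mpr hlt)
  have hup : ∀ g : G, ¬ Cfsg.MemLocalIdeal M (Cfsg.blockCoeff B g) →
      (Nat.card (Subgroup.centralizer ({g} : Set G))).factorization p ≤ d := by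
    intro g hg
    obtain ⟨D, hD⟩ := BlocksDefect.exists_isDefectGroup hM hB
    obtain ⟨Q, hQ⟩ := BlocksDefect.exists_isSylowCent p g
    have hdvd := (BlocksDefect.subConj_defectGroup_of_coeff hM hB hD hQ.isPGroup hQ.mem_centralizer hg).card_dvd
    rw [BlocksDefect.defectGroup_natCard hM hB hD, hBdef, hχ, hQ.natCard] at hdvd
    exact (Nat.pow_dvd_pow_iff_le_right hM.1.one_lt).mp hdvd
  by_contra hne
  have : Finite (ConjClasses G) := Quotient.finite _
  have := Fintype.ofFinite (ConjClasses G)
  have hmem : Cfsg.MemLocalIdeal M (omega (χ : G → ℂ) (Cfsg.blockCoeff B) -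
      omega (ψ : G → ℂ) (Cfsg.blockCoeff B)) := by
    rw [BlocksDefect.omega_eq_sum_classes χ (isClassFunction_blockCoeff B),
      BlocksDefect.omega_eq_sum_classes ψ (isClassFunction_blockCoeff B), ← Finset.sum_sub_distrib]
    refine memLocalIdeal_sum fun C _ => ?_
    rw [← mul_sub]
    set g := Quotient.out C
    by_cases hc : Cfsg.MemLocalIdeal M (Cfsg.blockCoeff B g)
    · exact memLocalIdeal_mul_right hc ((localRing M).sub_mem (centralChar_memLocalRing χ g)
        (centralChar_memLocalRing ψ g))
    · refine memLocalIdeal_mul_left ((isIntClassFun_blockCoeff hM hB).2 g) ?_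
      rcases (hup g hc).lt_or_eq with hlt | heq
      · exact memLocalIdeal_sub (hlow χ g hχ hlt) (hlow ψ g hψ hlt)
      · refine h g (fun hd => hc ?_) heq
        rw [blockCoeff_eq_zero_of_dvd_orderOf hM hB hd]
        exact memLocalIdeal_zero
  rw [omega_blockCoeff, omega_blockCoeff, Set.indicator_of_mem (mem_blockOf_self χ),
    Set.indicator_of_notMem (show ψ ∉ B from hne), sub_zero] at hmem
  exact not_memLocalIdeal_one hmem

end Cfsg.Agent.S4510
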