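import Cfsg.Statements.S4513
import Cfsg.Agent.BC84.DefectTwo
-- import your own Cfsg.Agent.* helpers here

set_option autoImplicit false
open Cfsg
open scoped ComplexConjugate

namespace Cfsg.Agent.S4513

/-- Blocks of defect one for p = 2. Let M be a maximal ideal of the algebraic integers containing 2, B a 2-block of the finite group G whose defect group is the subgroup generated by an involution x, C = C_G(x), b a block of C inducing B and θ a member of b taking the same value at x as at 1 (there is exactly one). Then B consists of exactly two irreducible characters, which agree on every element of odd order, and they can be labelled χ₁, χ₂ with signs ε₁, ε₂ = ±1, ε₁ε₂ = −1, such that χᵢ(x y) = εᵢ θ(y) for every element y of C of odd order. -/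
theorem result {G : Type*} [Group G] [Finite G] (M : Ideal Cfsg.AlgInt) (hM : Cfsg.IsPModular 2 M) (x : G) (hx : orderOf x = 2)
    (B : Set (Cfsg.IrrCharacter G)) (hB : Cfsg.IsPBlock M B) (hBD : Cfsg.IsDefectGroup 2 M B (Subgroup.zpowers x))
    (b : Set (Cfsg.IrrCharacter ↥(Subgroup.centralizer ({x} : Set G)))) (hb : Cfsg.IsInducedBlock M (Subgroup.centralizer ({x} : Set G)) b B)
    (θ : Cfsg.IrrCharacter ↥(Subgroup.centralizer ({x} : Set G))) (hθ : θ ∈ b)
    (hθx : ∀ z : ↥(Subgroup.centralizer ({x} : Set G)), (z : G) = x → (θ : ↥(Subgroup.centralizer ({x} : Set G)) → ℂ) z = (θ : ↥(Subgroup.centralizer ({x} : Set G)) → ℂ) 1) :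
    Nat.card B = 2 ∧ (∀ χ ∈ B, ∀ ψ ∈ B, ∀ g : G, ¬ 2 ∣ orderOf g → (χ : G → ℂ) g = (ψ : G → ℂ) g) ∧
      ∃ χ₁ ∈ B, ∃ χ₂ ∈ B, χ₁ ≠ χ₂ ∧ ∃ ε₁ ε₂ : ℤ, (ε₁ = 1 ∨ ε₁ = -1) ∧ (ε₂ = 1 ∨ ε₂ = -1) ∧ ε₁ * ε₂ = -1 ∧
        ∀ y : ↥(Subgroup.centralizer ({x} : Set G)), ¬ 2 ∣ orderOf y →
          (χ₁ : G → ℂ) (x * y) = (ε₁ : ℂ) * (θ : ↥(Subgroup.centralizer ({x} : Set G)) → ℂ) y ∧ (χ₂ : G → ℂ) (x * y) = (ε₂ : ℂ) * (θ : ↥(Subgroup.centralizer ({x} : Set G)) → ℂ) y := by
  classical
  have h2 : Fact (Nat.Prime 2) := ⟨Nat.prime_two⟩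
  have := BlocksCore.isPrime hM
  have := Fintype.ofFinite G
  obtain ⟨C, hC⟩ : ∃ C, C = Subgroup.centralizer ({x} : Set G) := ⟨_, rfl⟩
  revert b hb θ hθ hθx
  rw [← hC]
  intro b hb θ hθ hθx
  have hmem : ∀ {g : G}, g ∈ C → g * x = x * g := fun h => by
    rw [hC] at h; exact Subgroup.mem_centralizer_singleton_iff.mp h
  have := Fintype.ofFinite C
  have hxC : x ∈ C := hC ▸ Subgroup.mem_centralizer_singleton_iff.mpr rfl
  set xC : C := ⟨x, hxC⟩ with hxCdef
  have hxcen : xC ∈ Subgroup.center C := Subgroup.mem_center_iff.mpr fun c =>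
    Subtype.ext (hmem c.2)
  have hdB := BC84.blockDefect_eq_one hM hB hBD (by rw [Nat.card_zpowers, hx])
  obtain ⟨hcardB, hBval⟩ := BC84.card_eq_two_of_defect_one hM hB hdB
  -- the defect of `b`
  set Z := Subgroup.zpowers xC with hZ
  have hZn : Z.Normal := ⟨fun a ha c => by
    have hac : a ∈ Subgroup.center C := (Subgroup.zpowers_le.mpr hxcen) ha
    rw [Subgroup.mem_center_iff.mp hac c, mul_inv_cancel_right]; exact ha⟩
  have hxC2 : orderOf xC = 2 := by rw [hxCdef, Subgroup.orderOf_mk, hx]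
  have hZp : IsPGroup 2 Z := IsPGroup.of_card (n := 1) (by rw [pow_one, hZ, Nat.card_zpowers, hxC2])
  obtain ⟨Db, hDb⟩ := BlocksDefect.exists_isDefectGroup hM hb.1
  have hdb : Cfsg.blockDefect 2 b = 1 := by
    refine BC84.blockDefect_eq_one hM hb.1 hDb ?_
    obtain ⟨E, hE, hEle⟩ := BlocksDefect.exists_defectGroup_ge hM hb hDb
    have h1 : Nat.card E = 2 := by
      rw [BlocksDefect.defectGroup_natCard hM hB hE, hdB, pow_one]
    have h2 : Nat.card Db ≤ 2 := by
      rw [← h1, Nat.card_congr (Db.equivMapOfInjective C.subtype (Subgroup.subtype_injective C)).toEquiv]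
      exact Nat.le_of_dvd Nat.card_pos (Subgroup.card_dvd_of_le hEle)
    have h3 : 2 ≤ Nat.card Db := by
      have := Nat.le_of_dvd Nat.card_pos (Subgroup.card_dvd_of_le (BlocksDefect.le_defectGroup Z hM hZp hb.1 hDb))
      rwa [hZ, Nat.card_zpowers, hxC2] at this
    omega
  obtain ⟨hcardb, hbval⟩ := BC84.card_eq_two_of_defect_one hM hb.1 hdb
  have hθx' : (θ : C → ℂ) xC = (θ : C → ℂ) 1 := hθx xC rfl
  -- the coefficient of a member of `B` on the section of `x`
  have hmain : ∀ χ ∈ B, ∃ ε : ℤ, (ε = 1 ∨ ε = -1) ∧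
      ∀ y : C, ¬ 2 ∣ orderOf y → (χ : G → ℂ) (x * y) = (ε : ℂ) * (θ : C → ℂ) y := by
    intro χ hχ
    set φ : C → ℂ := fun c => (χ : G → ℂ) c with hφ
    have hφc : Cfsg.IsCharacter C φ := CharCore.isCharacter_restrict (CharCore.irr_isCharacter χ) C
    choose k hk using fun η : Cfsg.IrrCharacter C => CharCore.IsCharacter.exists_classInner_irr_eq_natCast hφc η
    set s : Cfsg.IrrCharacter C → ℂ := fun η => BlocksDefect.cval η xC with hs
    have hexp : ∀ c : C, (χ : G → ℂ) (x * c) = ∑ η : Cfsg.IrrCharacter C, (k η : ℂ) * s η * (η : C → ℂ) c := by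
      intro c
      have h1 := congrFun (CharCore.IsCharacter.eq_sum_classInner hφc) (c * xC)
      simp only [Finset.sum_apply, Pi.smul_apply, smul_eq_mul, hk, hφ] at h1
      rw [show x * (c : G) = ((c * xC : C) : G) from (hmem c.2).symm, h1]
      refine Finset.sum_congr rfl fun η _ => ?_
      rw [BlocksDefect.apply_mul_of_center η hxcen]
      simp only [hφ] at hk
      rw [hk η]
      simp only [hs]
      ring
    set n : ℤ := ∑ η : Cfsg.IrrCharacter C, if η ∈ b then (if η = θ then (k η : ℤ) else -(k η : ℤ)) else 0 with hn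
    have hsing : 2 ∣ orderOf xC := hxC2 ▸ dvd_rfl
    have hsb : ∀ η ∈ b, s η = if η = θ then 1 else -1 := by
      intro η hη
      simp only [hs, BlocksDefect.cval]
      have h1 : ((η : C → ℂ) 1) ≠ 0 := BlocksCore.irr_one_ne_zero η
      split_ifs with h
      · subst h; rw [hθx', div_self h1]
      · have e1 := (hbval η hη θ hθ).2.2 h xC hsing
        have e2 := (hbval η hη θ hθ).2.1 1 (by simp)
        rw [e1, hθx', ← e2, neg_div, div_self h1]
    -- parity
    have hodd : ¬ (2 : ℤ) ∣ n := by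
      have h0 : Cfsg.blockHeight 2 B (χ : G → ℂ) = 0 := BC84.blockHeight_eq_zero_of_defect_one hM hB hdB hχ
      have hu := (BlocksDefect.regPair_unit_iff hM hB hχ hχ).mpr h0
      have hu' : ¬ Cfsg.MemLocalIdeal M (BlocksCore.omega (θ : C → ℂ) (BlocksDefect.res C (BlocksDefect.regInv 2 (χ : G → ℂ)))) := fun hc =>
        hu (by
          have h1 := BlocksCore.memLocalIdeal_sub hc
            (BlocksDefect.omega_induced hM hb hθ hχ (BlocksDefect.isIntClassFun_regInv (p := 2) χ))
          simpa [BlocksDefect.regPair] using h1)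
      rw [BlocksDefect.regPair_res_eq_sum] at hu'
      intro hdvd
      refine hu' ?_
      have hrp : ∀ η : Cfsg.IrrCharacter C, BlocksDefect.regPair 2 (θ : C → ℂ) η =
          if η ∈ b then BlocksDefect.regPair 2 (θ : C → ℂ) θ else 0 := by
        intro η
        split_ifs with hη
        · have h1 := BC85.prj_eq_regPair (p := 2) θ η
          have h2 := BC85.prj_eq_regPair (p := 2) θ θ
          rw [(hbval θ hθ η hη).1] at h1
          rw [(hbval θ hθ θ hθ).1] at h2
          have hne : (Nat.card C : ℂ) ≠ 0 := Nat.cast_ne_zero.mpr Nat.card_pos.ne'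
          have h3 := h1.symm.trans h2
          rw [div_left_inj' hne] at h3
          exact mul_left_cancel₀ (BlocksCore.irr_one_ne_zero θ) h3
        · refine BlocksDefect.regPair_eq_zero hM fun h => hη ?_
          rw [BlocksCore.isPBlock_eq_blockOf hb.1 hθ]; exact h
      rw [Finset.sum_congr rfl fun (η : Cfsg.IrrCharacter C) _ => show Cfsg.classInner φ (η : C → ℂ) * BlocksDefect.regPair 2 (θ : C → ℂ) η =
          (((if η ∈ b then (k η : ℤ) else 0) : ℤ) : ℂ) * BlocksDefect.regPair 2 (θ : C → ℂ) θ by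
            rw [hk, hrp]; split_ifs <;> simp, ← Finset.sum_mul, ← Int.cast_sum]
      refine BlocksCore.memLocalIdeal_mul_right ((BlocksCore.memLocalIdeal_intCast_iff hM _).mpr ?_)
        (BlocksDefect.regPair_memLocalRing θ θ)
      have hd : (2 : ℤ) ∣ n - ∑ η : Cfsg.IrrCharacter C, (if η ∈ b then (k η : ℤ) else 0) := by
        rw [hn, ← Finset.sum_sub_distrib]
        refine Finset.dvd_sum fun η _ => ?_
        split_ifs <;> omega
      have := dvd_sub hdvd hd
      rw [sub_sub_cancel] at this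
      exact_mod_cast this
    -- the section function
    set R : Finset C := Finset.univ.filter (fun y => ¬ 2 ∣ orderOf y) with hR
    set r : C → ℂ := fun y => ∑ η : Cfsg.IrrCharacter C, (if η ∈ b then 0 else (k η : ℂ) * s η * (η : C → ℂ) y) with hr
    have hsplit : ∀ y ∈ R, (χ : G → ℂ) (x * y) = (n : ℂ) * (θ : C → ℂ) y + r y := by
      intro y hy
      have hyr := (Finset.mem_filter.mp hy).2
      rw [hexp, hn, Int.cast_sum, Finset.sum_mul, hr, ← Finset.sum_add_distrib]
      refine Finset.sum_congr rfl fun η _ => ?_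
      by_cases hη : η ∈ b
      · rw [if_pos hη, if_pos hη, (hbval η hη θ hθ).2.1 y hyr, hsb η hη]
        split_ifs <;> push_cast <;> ring
      · rw [if_neg hη, if_neg hη]; simp
    have horth : ∑ y ∈ R, (θ : C → ℂ) y * conj (r y) = 0 := by
      simp only [hr, map_sum, Finset.mul_sum]
      rw [Finset.sum_comm]
      refine Finset.sum_eq_zero fun η _ => ?_
      by_cases hη : η ∈ b
      · simp [hη]
      · have h0 := BC85.prj_eq_zero_of_notMem (p := 2) hM hb.1 hθ hη
        rw [BC85.prj_def, Cfsg.classInner, mul_eq_zero] at h0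
        have h1 := h0.resolve_left (inv_ne_zero (Nat.cast_ne_zero.mpr Nat.card_pos.ne'))
        rw [show (0 : ℂ) = conj ((k η : ℂ) * s η) * ∑ y ∈ R, (θ : C → ℂ) y * conj ((η : C → ℂ) y) from ?_]
        · rw [Finset.mul_sum]
          refine Finset.sum_congr rfl fun y _ => ?_
          rw [if_neg hη, map_mul]; ring
        · rw [hR, Finset.sum_filter]
          refine (mul_eq_zero_of_right _ ((Finset.sum_congr rfl fun y _ => ?_).trans h1)).symm
          by_cases h : 2 ∣ orderOf y <;> simp only [Cfsg.pRegularPart, Cfsg.IsPRegular, h, not_true_eq_false,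
            not_false_eq_true, if_true, if_false] <;> simp
    have hnormθ : ∑ y ∈ R, Complex.normSq ((θ : C → ℂ) y) = (Nat.card C : ℝ) / 2 := by
      have h1 := (hbval θ hθ θ hθ).1
      rw [BC85.prj_def, Cfsg.classInner, inv_mul_eq_iff_eq_mul₀ (Nat.cast_ne_zero.mpr Nat.card_pos.ne')] at h1
      apply Complex.ofReal_injective
      push_cast
      rw [hR, Finset.sum_filter, show ((Nat.card C : ℂ) / 2) = (Nat.card C : ℂ) * (1 / 2) by ring, ← h1]
      refine Finset.sum_congr rfl fun y _ => ?_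
      by_cases h : 2 ∣ orderOf y <;> simp only [Cfsg.pRegularPart, Cfsg.IsPRegular, h, not_true_eq_false,
        not_false_eq_true, if_true, if_false] <;> simp [Complex.mul_conj]
    have hnormsum : ∑ y ∈ R, Complex.normSq ((χ : G → ℂ) (x * y)) =
        (n : ℝ) ^ 2 * ((Nat.card C : ℝ) / 2) + ∑ y ∈ R, Complex.normSq (r y) := by
      rw [Finset.sum_congr rfl fun (y : C) hy => show Complex.normSq ((χ : G → ℂ) (x * y)) =
        (n : ℝ) ^ 2 * Complex.normSq ((θ : C → ℂ) y) + Complex.normSq (r y) +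
          2 * (n : ℝ) * ((θ : C → ℂ) y * conj (r y)).re from ?_]
      · rw [Finset.sum_add_distrib, Finset.sum_add_distrib, ← Finset.mul_sum, ← Finset.mul_sum,
          ← Complex.re_sum, horth, hnormθ, Complex.zero_re, mul_zero, add_zero]
      · rw [hsplit y hy, Complex.normSq_add, Complex.normSq_mul, Complex.normSq_intCast,
          show ((n : ℂ) * (θ : C → ℂ) y * conj (r y)) = ((n : ℝ) : ℂ) * ((θ : C → ℂ) y * conj (r y)) by
            push_cast; ring, Complex.re_ofReal_mul]
        ring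
    have hbound : ∑ y ∈ R, Complex.normSq ((χ : G → ℂ) (x * y)) ≤ (Nat.card C : ℝ) / 2 := by
      have h1 := (hBval χ hχ χ hχ).1
      rw [BC85.prj_def, Cfsg.classInner, inv_mul_eq_iff_eq_mul₀ (Nat.cast_ne_zero.mpr Nat.card_pos.ne')] at h1
      have h2 := CharCore.classInner_irr_self χ
      rw [Cfsg.classInner, inv_mul_eq_iff_eq_mul₀ (Nat.cast_ne_zero.mpr Nat.card_pos.ne'), mul_one] at h2
      set S : Finset G := Finset.univ.filter (fun g => 2 ∣ orderOf g) with hS
      have hSum : ∑ g ∈ S, Complex.normSq ((χ : G → ℂ) g) = (Nat.card G : ℝ) / 2 := by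
        apply Complex.ofReal_injective
        push_cast
        rw [hS, Finset.sum_filter]
        have h3 := congrArg₂ (· - ·) h2 h1
        simp only [← Finset.sum_sub_distrib] at h3
        rw [show ((Nat.card G : ℂ) / 2) = (Nat.card G : ℂ) - (Nat.card G : ℂ) * (1 / 2) by ring, ← h3]
        refine Finset.sum_congr rfl fun g _ => ?_
        by_cases h : 2 ∣ orderOf g <;> simp only [Cfsg.pRegularPart, Cfsg.IsPRegular, h, not_true_eq_false,
          not_false_eq_true, if_true, if_false] <;> simp [Complex.mul_conj]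
      let Φ : (G ⧸ C) × C → G := fun qy => qy.1.out * (x * qy.2) * qy.1.out⁻¹
      have hpp : ∀ y : C, ¬ 2 ∣ orderOf y → Cfsg.IsPPart 2 (x * (y : G)) x := fun y hy =>
        ⟨(y : G), rfl, (hmem y.2).symm, ⟨1, by rw [hx, pow_one]⟩,
          by rwa [Subgroup.orderOf_coe]⟩
      have hinj : Set.InjOn Φ ↑((Finset.univ : Finset (G ⧸ C)) ×ˢ R) := by
        rintro ⟨q, y⟩ hy ⟨q', y'⟩ hy' he
        simp only [Finset.coe_product, Set.mem_prod, Finset.mem_coe, hR, Finset.mem_filter] at hy hy'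
        have e1 : Cfsg.IsPPart 2 (Φ (q, y)) (q.out * x * q.out⁻¹) := BlocksCore.isPPart_conj (hpp y hy.2.2) q.out
        have e2 : Cfsg.IsPPart 2 (Φ (q', y')) (q'.out * x * q'.out⁻¹) := BlocksCore.isPPart_conj (hpp y' hy'.2.2) q'.out
        rw [← he] at e2
        have e3 := BlocksCore.isPPart_unique Nat.prime_two e1 e2
        have hq : q = q' := by
          rw [← QuotientGroup.out_eq' q, ← QuotientGroup.out_eq' q', QuotientGroup.eq]
          have hh : ∀ g : G, g * x = x * g → g ∈ C := fun g h => by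
            rw [hC]; exact Subgroup.mem_centralizer_singleton_iff.mpr h
          refine hh _ ?_
          calc q.out⁻¹ * q'.out * x = q.out⁻¹ * (q'.out * x * q'.out⁻¹) * q'.out := by group
            _ = q.out⁻¹ * (q.out * x * q.out⁻¹) * q'.out := by rw [e3]
            _ = x * (q.out⁻¹ * q'.out) := by group
        subst hq
        have e4 : x * (y : G) = x * (y' : G) := mul_left_cancel (mul_right_cancel he)
        rw [Subtype.ext (mul_left_cancel e4)]
      have hmaps : ((Finset.univ : Finset (G ⧸ C)) ×ˢ R).image Φ ⊆ S := by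
        intro g hg
        obtain ⟨⟨q, y⟩, hy, rfl⟩ := Finset.mem_image.mp hg
        have hy' := (Finset.mem_filter.mp (Finset.mem_product.mp hy).2).2
        refine Finset.mem_filter.mpr ⟨Finset.mem_univ _, ?_⟩
        have e : orderOf (Φ (q, y)) = orderOf (x * (y : G)) := (MulAut.conj q.out).orderOf_eq _
        rw [e, (show Commute x (y : G) from (hmem y.2).symm).orderOf_mul_eq_mul_orderOf_of_coprime
          (by rw [hx, Subgroup.orderOf_coe]; exact Nat.prime_two.coprime_iff_not_dvd.mpr hy'), hx]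
        exact dvd_mul_right 2 _
      have h4 : (C.index : ℝ) * ∑ y ∈ R, Complex.normSq ((χ : G → ℂ) (x * y)) ≤ (Nat.card G : ℝ) / 2 := by
        rw [← hSum]
        refine le_trans (le_of_eq ?_) (Finset.sum_le_sum_of_subset_of_nonneg hmaps fun g _ _ => Complex.normSq_nonneg _)
        rw [Finset.sum_image hinj, Finset.sum_product]
        rw [Finset.sum_congr rfl fun q _ => Finset.sum_congr rfl fun y _ =>
          show Complex.normSq ((χ : G → ℂ) (Φ (q, y))) = Complex.normSq ((χ : G → ℂ) (x * y)) by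
            rw [CharCore.irr_isClassFunction χ (x * (y : G)) q.out], Finset.sum_const, nsmul_eq_mul,
          Finset.card_univ, Subgroup.index_eq_card, Nat.card_eq_fintype_card]
      have h5 : (Nat.card G : ℝ) = (C.index : ℝ) * Nat.card C := by
        rw [← Nat.cast_mul, Subgroup.index_mul_card]
      have h6 : (0 : ℝ) < C.index := by exact_mod_cast Nat.pos_of_ne_zero Subgroup.index_ne_zero_of_finite
      rw [h5] at h4
      nlinarith
    have hrn : ∀ y ∈ R, Complex.normSq (r y) ≥ 0 := fun y _ => Complex.normSq_nonneg _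
    have hn2 : n ^ 2 = 1 := by
      have h1 : (n : ℝ) ^ 2 ≤ 1 := by
        have hC0 : (0 : ℝ) < Nat.card C := by exact_mod_cast Nat.card_pos
        nlinarith [Finset.sum_nonneg hrn]
      have h2 : n ^ 2 ≤ 1 := by exact_mod_cast h1
      have h3 : n ≠ 0 := fun h => hodd (h ▸ dvd_zero 2)
      nlinarith [mul_self_pos.mpr h3]
    refine ⟨n, sq_eq_one_iff.mp hn2, fun y hy => ?_⟩
    have h1 : (n : ℝ) ^ 2 = 1 := by exact_mod_cast hn2
    have hr0 : ∑ y ∈ R, Complex.normSq (r y) = 0 := le_antisymm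
      (by rw [h1, one_mul] at hnormsum; linarith) (Finset.sum_nonneg hrn)
    have hyR : y ∈ R := Finset.mem_filter.mpr ⟨Finset.mem_univ _, hy⟩
    rw [hsplit y hyR, Complex.normSq_eq_zero.mp ((Finset.sum_eq_zero_iff_of_nonneg hrn).mp hr0 y hyR), add_zero]
  refine ⟨hcardB, fun χ hχ ψ hψ g hg => (hBval χ hχ ψ hψ).2.1 g hg, ?_⟩
  obtain ⟨⟨χ₁, h₁⟩, ⟨χ₂, h₂⟩, hne, -⟩ := Nat.card_eq_two_iff.mp hcardB
  have hne' : χ₁ ≠ χ₂ := fun h => hne (Subtype.ext h)
  obtain ⟨ε₁, hε₁, hv₁⟩ := hmain χ₁ h₁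
  obtain ⟨ε₂, hε₂, hv₂⟩ := hmain χ₂ h₂
  refine ⟨χ₁, h₁, χ₂, h₂, hne', ε₁, ε₂, hε₁, hε₂, ?_, fun y hy => ⟨hv₁ y hy, hv₂ y hy⟩⟩
  have e1 := hv₁ 1 (by simp)
  have e2 := hv₂ 1 (by simp)
  rw [Subgroup.coe_one, mul_one] at e1 e2
  have e3 := (hBval χ₁ h₁ χ₂ h₂).2.2 hne' x (hx ▸ dvd_rfl)
  rw [e1, e2, ← neg_mul] at e3
  have e4 : ε₁ = -ε₂ := by exact_mod_cast mul_right_cancel₀ (BlocksCore.irr_one_ne_zero θ) e3
  rcases hε₂ with h | h <;> subst h <;> subst e4 <;> norm_num


end Cfsg.Agent.S4513
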