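import Cfsg.Statements.S4517
import Cfsg.Agent.BC84.PrincipalTwo
import Cfsg.Agent.Lib.CharClifford.Central

set_option autoImplicit false
open Cfsg

namespace Cfsg.Agent.S4517

/-- Let G be a finite group, M a maximal ideal of the algebraic integers containing 2, and k a natural number coprime to the order of G with g ^ k = g⁻¹ for every element g of odd order (so that g ↦ g ^ k induces a field automorphism of the character values inverting the roots of unity of odd order). If B is a 2-block of full defect (its defect equals the exponent of 2 in the order of G) that is stable under χ ↦ χ ∘ (· ^ k), then B is the principal 2-block. -/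
theorem result {G : Type*} [Group G] [Finite G] (M : Ideal Cfsg.AlgInt) (hM : Cfsg.IsPModular 2 M) (k : ℕ) (hk : Nat.Coprime k (Nat.card G)) (hk₂ : ∀ g : G, Odd (orderOf g) → g ^ k = g⁻¹) (B : Set (Cfsg.IrrCharacter G)) (hB : Cfsg.IsPBlock M B) (hdef : Cfsg.blockDefect 2 B = (Nat.card G).factorization 2) (hstab : ∀ χ ∈ B, ∃ ψ ∈ B, ∀ g : G, (ψ : G → ℂ) g = (χ : G → ℂ) (g ^ k)) : B = Cfsg.principalBlock M G := by
  classical
  have := Fintype.ofFinite G
  have := BlocksCore.isPrime hM
  obtain ⟨χ₁, hχ₁⟩ := BlocksCore.isPBlock_nonempty hB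
  obtain ⟨χ, hχ, hodd⟩ : ∃ χ ∈ B, Odd (Cfsg.charDegree (χ : G → ℂ)) := by
    have hne : ((fun χ : Cfsg.IrrCharacter G => (Cfsg.charDegree (χ : G → ℂ)).factorization 2) '' B).Nonempty :=
      ⟨_, χ₁, hχ₁, rfl⟩
    obtain ⟨χ, hχ, hmin⟩ := Nat.sInf_mem hne
    refine ⟨χ, hχ, Nat.not_even_iff_odd.mp fun he => ?_⟩
    have hpos : 1 ≤ (Cfsg.charDegree (χ : G → ℂ)).factorization 2 :=
      Nat.Prime.factorization_pos_of_dvd Nat.prime_two (BlocksCore.charDegree_pos χ).ne' (even_iff_two_dvd.mp he)
    unfold Cfsg.blockDefect at hdef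
    simp only [] at hmin
    rw [← hmin] at hdef
    obtain ⟨d, hd0, hdvd, hd⟩ := CharClifford.exists_degree_dvd_card χ.2
    have hdeg : Cfsg.charDegree (χ : G → ℂ) = d := by
      have := BlocksCore.irr_one_eq χ
      rw [hd] at this
      exact_mod_cast this.symm
    have h2 : (Cfsg.charDegree (χ : G → ℂ)).factorization 2 ≤ (Nat.card G).factorization 2 := by
      rw [hdeg]
      exact (Nat.factorization_le_iff_dvd hd0.ne' Nat.card_pos.ne').mpr hdvd 2
    omega
  have hB' := BlocksCore.isPBlock_eq_blockOf hB hχ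
  rw [hB']
  refine BlocksCore.blockOf_eq_of_sameBlock ((BC84.mem_principalBlock_iff χ).mp
    (BC84.mem_principalBlock_of_odd hM χ hodd fun v hv => ?_))
  obtain ⟨ψ, hψ, hψv⟩ := hstab χ hχ
  have h := BlocksCore.sameBlock_of_mem hB hψ hχ v
  have h1 : (ψ : G → ℂ) 1 = (χ : G → ℂ) 1 := by rw [hψv, one_pow]
  unfold Cfsg.centralChar at h
  rw [h1, hψv v, hk₂ v hv] at h
  have := BlocksCore.memLocalIdeal_mul_right h
    (BlocksCore.memLocalRing_of_isIntegral (BlocksCore.isIntegral_irr χ 1))
  rw [← sub_div, div_mul_cancel₀ _ (BlocksCore.irr_one_ne_zero χ), ← mul_sub] at this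
  exact this

end Cfsg.Agent.S4517
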