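import Cfsg.Statements.S4518
import Cfsg.Agent.Lib.CharClifford.Clifford
import Cfsg.Agent.BC84.Galois
-- import your own Cfsg.Agent.* helpers here

set_option autoImplicit false
open Cfsg

namespace Cfsg.Agent.S4518

/-- Let N be a normal subgroup of the finite group G whose index is not divisible by the prime p, and let k be coprime to the order of G with k ^ (p ^ e) ≡ 1 modulo the order of G for some e (so g ↦ g ^ k induces a field automorphism of p-power order on character values). If an irreducible character χ of G satisfies χ (g ^ k) = χ g for all g, then every irreducible constituent θ of the restriction of χ to N satisfies θ (n ^ k) = θ n for all n. -/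
theorem result {G : Type*} [Group G] [Fintype G] (p : ℕ) [Fact p.Prime] (N : Subgroup G) [N.Normal] [Fintype N] (hidx : ¬ p ∣ N.index) (k e : ℕ) (hk : Nat.Coprime k (Nat.card G)) (hke : k ^ (p ^ e) ≡ 1 [MOD Nat.card G]) (χ : Cfsg.IrrCharacter G) (hχ : ∀ g : G, (χ : G → ℂ) (g ^ k) = (χ : G → ℂ) g) (θ : Cfsg.IrrCharacter N) (hθ : Cfsg.classInner (fun n : N => (χ : G → ℂ) n) (θ : N → ℂ) ≠ 0) : ∀ n : N, (θ : N → ℂ) (n ^ k) = (θ : N → ℂ) n := by
  classical
  have hkN : k.Coprime (Nat.card N) := Nat.Coprime.coprime_dvd_right (Subgroup.card_subgroup_dvd_card N) hk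
  let θ' : Cfsg.IrrCharacter N := BC84.galIrr hkN θ
  have hθ' : Cfsg.classInner (fun n : N => (χ : G → ℂ) n) (θ' : N → ℂ) ≠ 0 := by
    have e : Cfsg.classInner (fun n : N => (χ : G → ℂ) n) (θ' : N → ℂ) =
        Cfsg.classInner (fun n : N => (χ : G → ℂ) n) (θ : N → ℂ) := by
      rw [Cfsg.classInner, Cfsg.classInner]
      congr 1
      exact Fintype.sum_bijective _ (CharClifford.bijective_pow_of_coprime hkN) _ _ fun n => by
        rw [BC84.galIrr_apply, Subgroup.coe_pow, hχ]
    rwa [e]
  obtain ⟨t, ht⟩ := CharClifford.exists_conjFun_eq_of_constituents N χ.2 θ.2 θ'.2 hθ hθ'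
  let f : (N → ℂ) → (N → ℂ) := CharClifford.conjFun N t
  have hiter : ∀ i : ℕ, f^[i] (θ : N → ℂ) = fun n => (θ : N → ℂ) (n ^ k ^ i) := by
    intro i
    induction i with
    | zero => simp
    | succ i ih =>
      rw [Function.iterate_succ_apply', ih]
      funext n
      have h1 : (θ : N → ℂ) ((n ^ k ^ i) ^ k) = CharClifford.conjFun N t (θ : N → ℂ) (n ^ k ^ i) :=
        congrFun ht (n ^ k ^ i)
      rw [← pow_mul, ← pow_succ, CharClifford.conjFun_apply] at h1
      rw [h1]
      exact congrArg (θ : N → ℂ) (Subtype.ext conj_pow)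
  have hconj : ∀ i : ℕ, f^[i] (θ : N → ℂ) = CharClifford.conjFun N (t ^ i) (θ : N → ℂ) := by
    intro i
    induction i with
    | zero => simp
    | succ i ih =>
      rw [Function.iterate_succ_apply', ih]
      show CharClifford.conjFun N t _ = _
      rw [CharClifford.conjFun_conjFun, pow_succ]
  have h1 : Function.IsPeriodicPt f (p ^ e) (θ : N → ℂ) := by
    show f^[p ^ e] _ = _
    rw [hiter]
    funext n
    refine congrArg (θ : N → ℂ) ((pow_eq_pow_iff_modEq.mpr ?_).trans (pow_one n))
    exact hke.of_dvd ((orderOf_dvd_natCard n).trans (Subgroup.card_subgroup_dvd_card N))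
  have h2 : Function.IsPeriodicPt f N.index (θ : N → ℂ) := by
    show f^[N.index] _ = _
    rw [hconj]
    exact CharClifford.conjFun_of_mem N (CharCore.irr_isClassFunction θ) (N.pow_index_mem t)
  have hg := h1.gcd h2
  rw [Nat.Coprime.pow_left e ((Fact.out : p.Prime).coprime_iff_not_dvd.mpr hidx)] at hg
  have h3 : f (θ : N → ℂ) = θ := hg
  intro n
  exact (congrFun ht n).trans (congrFun h3 n)


end Cfsg.Agent.S4518
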