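import Cfsg.Statements.S4520
import Cfsg.Agent.BC84.Covering

set_option autoImplicit false
open Cfsg

namespace Cfsg.Agent.S4520

/-- Let N be a normal subgroup of odd index in the finite group G, M a maximal ideal of the algebraic integers containing 2, and k coprime to the order of G with k ^ (2 ^ e) ≡ 1 modulo the order of G for some e and g ^ k = g⁻¹ for every element g of odd order. Let θ be an irreducible character of N and χ an irreducible character of G over θ, both unchanged by composing with g ↦ g ^ k. Then χ lies in the principal 2-block of G if and only if θ lies in the principal 2-block of N. -/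
theorem result {G : Type*} [Group G] [Fintype G] (M : Ideal Cfsg.AlgInt) (hM : Cfsg.IsPModular 2 M) (N : Subgroup G) [N.Normal] [Fintype N] (hidx : Odd N.index) (k e : ℕ) (hk : Nat.Coprime k (Nat.card G)) (hke : k ^ (2 ^ e) ≡ 1 [MOD Nat.card G]) (hk₂ : ∀ g : G, Odd (orderOf g) → g ^ k = g⁻¹) (θ : Cfsg.IrrCharacter N) (hθ : ∀ n : N, (θ : N → ℂ) (n ^ k) = (θ : N → ℂ) n) (χ : Cfsg.IrrCharacter G) (hχ : ∀ g : G, (χ : G → ℂ) (g ^ k) = (χ : G → ℂ) g) (hover : Cfsg.classInner (fun n : N => (χ : G → ℂ) n) (θ : N → ℂ) ≠ 0) : χ ∈ Cfsg.principalBlock M G ↔ θ ∈ Cfsg.principalBlock M N := by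
  classical
  have := BlocksCore.isPrime hM
  refine ⟨fun hmem => BC84.mem_principalBlock_of_constituent hM χ θ hover hmem, fun hmem => ?_⟩
  rw [BC84.mem_principalBlock_iff]
  refine BC84.sameBlock_of_fixed_classes hM (s := e) hk (fun g => ?_) χ (BC84.oneChar G) (fun g => ?_) (fun g => ?_) ?_
  · rw [pow_eq_pow_iff_modEq.mpr ((hke).of_dvd (orderOf_dvd_natCard g)), pow_one]
  · unfold Cfsg.centralChar
    rw [BC84.centralizer_pow_of_coprime hk, hχ, sub_self]
    exact BlocksCore.memLocalIdeal_zero
  · rw [BC84.centralChar_one, BC84.centralChar_one, BC84.centralizer_pow_of_coprime hk, sub_self]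
    exact BlocksCore.memLocalIdeal_zero
  intro g hg
  have hgN : g ∈ N := by
    rw [← QuotientGroup.eq_one_iff (N := N)]
    set w : G ⧸ N := (g : G ⧸ N) with hw
    by_contra hw1
    have hidx' : Odd (Nat.card (G ⧸ N)) := by rw [← Subgroup.index_eq_card]; exact hidx
    have hwodd : Odd (orderOf w) := hidx'.of_dvd_nat (orderOf_dvd_natCard w)
    obtain ⟨j, -, -, -, hj, hjodd, -, -, -⟩ := BC84.exists_exponents G
    have h1 : g ^ (j * 2 ^ (Nat.card G).factorization 2) = g ^ 2 ^ (Nat.card G).factorization 2 :=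
      pow_eq_pow_iff_modEq.mpr (hj g)
    have h2 := congrArg (QuotientGroup.mk' N) h1
    simp only [map_pow, QuotientGroup.mk'_apply, ← hw] at h2
    have h3 : w ^ j = w := by
      have hc : (Nat.card (G ⧸ N)).Coprime (2 ^ (Nat.card G).factorization 2) :=
        ((Nat.coprime_two_left.mpr hidx').pow_left _).symm
      apply (powCoprime hc).injective
      show (w ^ j) ^ 2 ^ (Nat.card G).factorization 2 = w ^ 2 ^ (Nat.card G).factorization 2
      rw [← pow_mul, h2]
    have h4 : w ^ k = w⁻¹ := by
      have := congrArg (QuotientGroup.mk' N) (hk₂ _ (hjodd g))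
      simp only [map_pow, map_inv, QuotientGroup.mk'_apply, ← hw, h3] at this
      exact this
    have hreal : IsConj w w⁻¹ := by
      rw [← h4]
      exact (QuotientGroup.mk' N).map_isConj hg
    haveI : Fintype (G ⧸ N) := Fintype.ofFinite _
    have h5 := (BC84.two_dvd_index_of_real hwodd hw1 hreal).trans (Subgroup.index_dvd_card _)
    exact (Nat.not_even_iff_odd.mpr hidx') (even_iff_two_dvd.mpr h5)
  have hsupp : ∀ x ∉ N, BlocksCore.classInd g x = 0 := fun x hx =>
    BlocksCore.classInd_apply_of_not_isConj fun hc => by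
      obtain ⟨c, rfl⟩ := isConj_iff.mp hc
      exact hx ((inferInstance : N.Normal).conj_mem g hgN c)
  have hone : Cfsg.classInner (fun n : N => ((BC84.oneChar G : Cfsg.IrrCharacter G) : G → ℂ) n)
      ((BC84.oneChar N : Cfsg.IrrCharacter N) : N → ℂ) ≠ 0 := by
    show Cfsg.classInner ((BC84.oneChar N : Cfsg.IrrCharacter N) : N → ℂ) ((BC84.oneChar N : Cfsg.IrrCharacter N) : N → ℂ) ≠ 0
    rw [CharCore.classInner_irr_self]; exact one_ne_zero
  have hA := BlocksCore.isClassFunction_classInd g
  rw [← BlocksCore.omega_classInd (BlocksCore.irr_class χ), ← BlocksCore.omega_classInd (BlocksCore.irr_class (BC84.oneChar G)),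
    BC84.omega_eq_omega_constituent χ θ hover hA hsupp, BC84.omega_eq_omega_constituent (BC84.oneChar G) (BC84.oneChar N) hone hA hsupp]
  exact BlocksCore.omega_sub_memLocalIdeal ((BC84.mem_principalBlock_iff θ).mp hmem)
    ⟨BC84.isClassFunction_restrict hA, fun n => (BlocksCore.isIntClassFun_classInd g).2 n⟩

end Cfsg.Agent.S4520
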