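import Cfsg.Statements.S4521
import Cfsg.Agent.BC84.Covering
import Cfsg.Agent.Lib.BlocksDefect.Covering

set_option autoImplicit false
open Cfsg

namespace Cfsg.Agent.S4521

open Cfsg.Agent.BlocksCore
open scoped ComplexConjugate

variable {G : Type*} [Group G] [Fintype G]

theorem normal_of_commute (U V : Subgroup G) (hcomm : ∀ u ∈ U, ∀ v ∈ V, u * v = v * u)
    (hgen : U ⊔ V = ⊤) : U.Normal := by
  rw [← Subgroup.normalizer_eq_top_iff, eq_top_iff, ← hgen]
  refine sup_le Subgroup.le_normalizer fun v hv => Subgroup.centralizer_le_normalizer _ ?_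
  exact Subgroup.mem_centralizer_iff.mpr fun u hu => hcomm u hu v hv

theorem exists_mul (U V : Subgroup G) (hcomm : ∀ u ∈ U, ∀ v ∈ V, u * v = v * u) (hgen : U ⊔ V = ⊤)
    (g : G) : ∃ u ∈ U, ∃ v ∈ V, g = u * v := by
  haveI := normal_of_commute U V hcomm hgen
  have hg : g ∈ U ⊔ V := by rw [hgen]; exact Subgroup.mem_top g
  obtain ⟨u, hu, v, hv, h⟩ := Subgroup.mem_sup_of_normal_left.mp hg
  exact ⟨u, hu, v, hv, h.symm⟩

/-- The class in the whole group of an element of a factor is its class in the factor. -/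
theorem centralChar_factor (U V : Subgroup G) [Fintype U] (hcomm : ∀ u ∈ U, ∀ v ∈ V, u * v = v * u)
    (hgen : U ⊔ V = ⊤) (χ : Cfsg.IrrCharacter G) (ψ : Cfsg.IrrCharacter U)
    (h : Cfsg.classInner (fun u : U => (χ : G → ℂ) u) (ψ : U → ℂ) ≠ 0) (u : U) :
    Cfsg.centralChar (χ : G → ℂ) (u : G) = Cfsg.centralChar (ψ : U → ℂ) u := by
  classical
  haveI := normal_of_commute U V hcomm hgen
  rw [← omega_classInd (irr_class χ), ← omega_classInd (irr_class ψ),
    BlocksDefect.omega_eq_of_constituent h (isClassFunction_classInd _) (fun x hx => ?_)]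
  · congr 1
    funext x
    have hiff : IsConj (u : G) (x : G) ↔ IsConj u x := by
      constructor
      · intro hc
        obtain ⟨w, hw⟩ := isConj_iff.mp hc
        obtain ⟨a, ha, b, hb, rfl⟩ := exists_mul U V hcomm hgen w
        refine isConj_iff.mpr ⟨⟨a, ha⟩, Subtype.ext ?_⟩
        rw [← hw]
        show a * (u : G) * a⁻¹ = _
        rw [mul_inv_rev, show a * b * (u : G) * (b⁻¹ * a⁻¹) = a * (b * u * b⁻¹) * a⁻¹ by group,
          ← hcomm u u.2 b hb, mul_inv_cancel_right]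
      · exact fun hc => U.subtype.map_isConj hc
    show classInd (u : G) (x : G) = classInd u x
    by_cases hx : IsConj u x
    · rw [classInd_apply_of_isConj hx, classInd_apply_of_isConj (hiff.mpr hx)]
    · rw [classInd_apply_of_not_isConj hx, classInd_apply_of_not_isConj (mt hiff.mp hx)]
  · exact classInd_apply_of_not_isConj fun hc => hx (by
      obtain ⟨w, hw⟩ := isConj_iff.mp hc
      rw [← hw]
      exact Subgroup.Normal.conj_mem inferInstance _ u.2 w)

theorem index_centralizer_mul (p : ℕ) [Fact p.Prime] (U V : Subgroup G)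
    (hcomm : ∀ u ∈ U, ∀ v ∈ V, u * v = v * u) (hgen : U ⊔ V = ⊤) (hZ : IsPGroup p ↥(U ⊓ V))
    {u v : G} (hu : u ∈ U) (hv : v ∈ V) (hur : ¬ p ∣ orderOf u) :
    (Subgroup.centralizer ({u * v} : Set G)).index =
      (Subgroup.centralizer ({u} : Set G)).index * (Subgroup.centralizer ({v} : Set G)).index := by
  haveI := normal_of_commute U V hcomm hgen
  have hint : Subgroup.centralizer ({u * v} : Set G) =
      Subgroup.centralizer ({u} : Set G) ⊓ Subgroup.centralizer ({v} : Set G) := by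
    ext x
    simp only [Subgroup.mem_inf, Subgroup.mem_centralizer_singleton_iff]
    refine ⟨fun hx => ?_, fun ⟨h1, h2⟩ => by
      rw [← mul_assoc, h1, mul_assoc, h2, ← mul_assoc]⟩
    obtain ⟨a, ha, b, hb, rfl⟩ := exists_mul U V hcomm hgen x
    have hau : (a * b) * u * (a * b)⁻¹ = a * u * a⁻¹ := by
      rw [show (a * b) * u * (a * b)⁻¹ = a * (b * u * b⁻¹) * a⁻¹ by group, ← hcomm u hu b hb,
        mul_inv_cancel_right]
    have hbv : (a * b) * v * (a * b)⁻¹ = b * v * b⁻¹ := by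
      rw [show (a * b) * v * (a * b)⁻¹ = a * (b * v * b⁻¹) * a⁻¹ by group,
        hcomm a ha _ (mul_mem (mul_mem hb hv) (inv_mem hb)), mul_inv_cancel_right]
    have hsum : (a * u * a⁻¹) * (b * v * b⁻¹) = u * v := by
      rw [← hau, ← hbv]
      calc a * b * u * (a * b)⁻¹ * (a * b * v * (a * b)⁻¹)
          = (a * b) * (u * v) * (a * b)⁻¹ := by group
        _ = u * v := by rw [hx, mul_inv_cancel_right]
    set z := u⁻¹ * (a * u * a⁻¹) with hz
    have hzU : z ∈ U := mul_mem (inv_mem hu) (mul_mem (mul_mem ha hu) (inv_mem ha))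
    have hzV : z ∈ V := by
      have : z = v * (b * v * b⁻¹)⁻¹ := by
        rw [eq_mul_inv_iff_mul_eq, hz, mul_assoc, hsum, inv_mul_cancel_left]
      rw [this]
      exact mul_mem hv (inv_mem (mul_mem (mul_mem hb hv) (inv_mem hb)))
    have hz1 : z = 1 := by
      obtain ⟨k, hk⟩ := IsPGroup.iff_orderOf.mp hZ ⟨z, hzU, hzV⟩
      replace hk : orderOf z = p ^ k := by rwa [← Subgroup.orderOf_coe] at hk
      refine BlocksDefect.eq_one_of_mul_pRegular (g := u) (u := z) (Fact.out : p.Prime) hk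
        (hcomm u hu z hzV) hur ?_
      rw [hz, mul_inv_cancel_left]
      rwa [show orderOf (a * u * a⁻¹) = orderOf u from (MulAut.conj a).orderOf_eq u]
    have h1 : a * u * a⁻¹ = u := (inv_mul_eq_one.mp hz1).symm
    refine ⟨?_, ?_⟩
    · exact mul_inv_eq_iff_eq_mul.mp (hau.trans h1)
    · have h2 : b * v * b⁻¹ = v := by
        rw [h1] at hsum
        exact mul_left_cancel hsum
      exact mul_inv_eq_iff_eq_mul.mp (hbv.trans h2)
  rw [hint]
  set A := Subgroup.centralizer ({u} : Set G)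
  set B := Subgroup.centralizer ({v} : Set G)
  have hVA : V ≤ A := fun b hb => Subgroup.mem_centralizer_singleton_iff.mpr (hcomm u hu b hb).symm
  have hUB : U ≤ B := fun a ha => Subgroup.mem_centralizer_singleton_iff.mpr (hcomm a ha v hv)
  refine (Subgroup.index_inf_le (H := A) (K := B)).antisymm ?_
  rw [← Subgroup.relIndex_mul_index (inf_le_left : A ⊓ B ≤ A), mul_comm]
  refine Nat.mul_le_mul_right _ ?_
  rw [Subgroup.inf_relIndex_left]
  -- `A` is transitive on the cosets of `B`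
  refine Nat.card_le_card_of_surjective (fun q : A ⧸ B.subgroupOf A =>
    Quotient.liftOn' q (fun x => ((x : G) : G ⧸ B)) (fun x y hxy => ?_)) ?_
  · rw [QuotientGroup.leftRel_apply] at hxy
    exact QuotientGroup.eq.mpr hxy
  · intro q
    obtain ⟨g, rfl⟩ := QuotientGroup.mk_surjective q
    obtain ⟨a, ha, b, hb, rfl⟩ := exists_mul U V hcomm hgen g
    refine ⟨QuotientGroup.mk ⟨b, hVA hb⟩, ?_⟩
    show ((b : G) : G ⧸ B) = ((a * b : G) : G ⧸ B)
    rw [QuotientGroup.eq, hcomm a ha b hb, inv_mul_cancel_left]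
    exact hUB ha

theorem char_mul (U V : Subgroup G) (hcomm : ∀ u ∈ U, ∀ v ∈ V, u * v = v * u) (hgen : U ⊔ V = ⊤)
    (χ : Cfsg.IrrCharacter G) {u v : G} (hu : u ∈ U) (hv : v ∈ V) :
    (χ : G → ℂ) (u * v) * (χ : G → ℂ) 1 = (χ : G → ℂ) u * (χ : G → ℂ) v := by
  have h := sum_char_conj_mul χ u v
  have hterm : ∀ x : G, (χ : G → ℂ) (x⁻¹ * u * x * v) = (χ : G → ℂ) (u * v) := by
    intro x
    obtain ⟨a, ha, b, hb, rfl⟩ := exists_mul U V hcomm hgen x
    have e : (a * b)⁻¹ * u * (a * b) = a⁻¹ * u * a := by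
      rw [show (a * b)⁻¹ * u * (a * b) = b⁻¹ * (a⁻¹ * u * a) * b by group, mul_assoc,
        hcomm _ (mul_mem (mul_mem (inv_mem ha) hu) ha) b hb, inv_mul_cancel_left]
    rw [e, mul_assoc (a⁻¹ * u) a v, hcomm a ha v hv]
    conv_rhs => rw [← irr_class χ (u * v) a⁻¹]
    rw [inv_inv]
    congr 1
    group
  simp only [hterm, Finset.sum_const, Finset.card_univ, nsmul_eq_mul,
    ← Nat.card_eq_fintype_card] at h
  have h1 := irr_one_ne_zero χ
  have hG : (Nat.card G : ℂ) ≠ 0 := Nat.cast_ne_zero.mpr Nat.card_pos.ne'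
  field_simp at h
  linear_combination h


/-- Let the finite group G be generated by subgroups U₁ and U₂ that commute elementwise and whose intersection is a p-group, and let M be a maximal ideal of the algebraic integers containing the prime p. If the irreducible character χ of G has the irreducible constituents ψ₁ on U₁ and ψ₂ on U₂, then χ lies in the principal block of G if and only if ψ₁ and ψ₂ lie in the principal blocks of U₁ and U₂. -/
theorem result {G : Type*} [Group G] [Fintype G] (p : ℕ) [Fact p.Prime] (M : Ideal Cfsg.AlgInt) (hM : Cfsg.IsPModular p M) (U₁ U₂ : Subgroup G) [Fintype U₁] [Fintype U₂] (hcomm : ∀ u ∈ U₁, ∀ v ∈ U₂, u * v = v * u) (hgen : U₁ ⊔ U₂ = ⊤) (hZ : IsPGroup p ↥(U₁ ⊓ U₂)) (χ : Cfsg.IrrCharacter G) (ψ₁ : Cfsg.IrrCharacter U₁) (ψ₂ : Cfsg.IrrCharacter U₂) (h₁ : Cfsg.classInner (fun u : U₁ => (χ : G → ℂ) u) (ψ₁ : U₁ → ℂ) ≠ 0) (h₂ : Cfsg.classInner (fun u : U₂ => (χ : G → ℂ) u) (ψ₂ : U₂ → ℂ) ≠ 0) : χ ∈ Cfsg.principalBlock M G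 ↔ (ψ₁ ∈ Cfsg.principalBlock M U₁ ∧ ψ₂ ∈ Cfsg.principalBlock M U₂) := by
  classical
  haveI := isPrime hM
  haveI hn₁ := normal_of_commute U₁ U₂ hcomm hgen
  have hcomm' : ∀ u ∈ U₂, ∀ v ∈ U₁, u * v = v * u := fun u hu v hv => (hcomm v hv u hu).symm
  have hgen' : U₂ ⊔ U₁ = ⊤ := by rwa [sup_comm]
  haveI hn₂ := normal_of_commute U₂ U₁ hcomm' hgen'
  refine ⟨fun h => ⟨BC84.mem_principalBlock_of_constituent hM χ ψ₁ h₁ h,
    BC84.mem_principalBlock_of_constituent hM χ ψ₂ h₂ h⟩, fun hψ => ?_⟩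
  have hone : ∀ g : G, Cfsg.centralChar (fun _ : G => (1 : ℂ)) g =
      ((Subgroup.centralizer ({g} : Set G)).index : ℂ) := fun g => BC84.centralChar_one g
  have hreg : ∀ g : G, ¬ p ∣ orderOf g →
      Cfsg.MemLocalIdeal M (Cfsg.centralChar ((BC84.oneChar G : Cfsg.IrrCharacter G) : G → ℂ) g -
        Cfsg.centralChar (χ : G → ℂ) g) := by
    intro g hg
    obtain ⟨u₀, hu₀, v₀, hv₀, hguv⟩ := exists_mul U₁ U₂ hcomm hgen g
    obtain ⟨e, he1, he2⟩ : ∃ e : ℕ, g ^ e = g ∧ ¬ p ∣ orderOf (u₀ ^ e) := by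
      have hcop : (orderOf g).Coprime (p ^ (orderOf u₀).factorization p) :=
        Nat.Coprime.pow_right _ ((Nat.Prime.coprime_iff_not_dvd Fact.out).mpr hg).symm
      obtain ⟨e, he1, he2⟩ := Nat.chineseRemainder hcop 1 0
      refine ⟨e, ?_, fun hd => ?_⟩
      · conv_rhs => rw [← pow_one g]
        exact pow_eq_pow_iff_modEq.mpr he1
      · have h1 : (u₀ ^ e) ^ (orderOf u₀ / p ^ (orderOf u₀).factorization p) = 1 := by
          rw [← pow_mul, ← orderOf_dvd_iff_pow_eq_one]
          conv_lhs => rw [← Nat.ordProj_mul_ordCompl_eq_self (orderOf u₀) p]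
          exact Nat.mul_dvd_mul_right (Nat.modEq_zero_iff_dvd.mp he2) _
        exact Nat.not_dvd_ordCompl (Fact.out : p.Prime) (orderOf_pos u₀).ne'
          (hd.trans (orderOf_dvd_iff_pow_eq_one.mpr h1))
    have hg' : g = u₀ ^ e * v₀ ^ e := by
      rw [← (show Commute u₀ v₀ from hcomm u₀ hu₀ v₀ hv₀).mul_pow, ← hguv, he1]
    set u := u₀ ^ e
    set v := v₀ ^ e
    have hu : u ∈ U₁ := pow_mem hu₀ e
    have hv : v ∈ U₂ := pow_mem hv₀ e
    have hidx := index_centralizer_mul p U₁ U₂ hcomm hgen hZ hu hv he2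
    have hχ1 := irr_one_ne_zero χ
    have hval : Cfsg.centralChar (χ : G → ℂ) g =
        Cfsg.centralChar (χ : G → ℂ) u * Cfsg.centralChar (χ : G → ℂ) v := by
      unfold Cfsg.centralChar
      rw [hg', hidx]
      have h := char_mul U₁ U₂ hcomm hgen χ hu hv
      field_simp
      push_cast
      linear_combination ((Subgroup.centralizer ({u} : Set G)).index : ℂ) *
        ((Subgroup.centralizer ({v} : Set G)).index : ℂ) * h
    have hval1 : Cfsg.centralChar ((BC84.oneChar G : Cfsg.IrrCharacter G) : G → ℂ) g =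
        Cfsg.centralChar ((BC84.oneChar G : Cfsg.IrrCharacter G) : G → ℂ) u *
          Cfsg.centralChar ((BC84.oneChar G : Cfsg.IrrCharacter G) : G → ℂ) v := by
      simp only [BC84.oneChar, hone, hg', hidx, Nat.cast_mul]
    have hu' := hψ.1 (⟨u, hu⟩ : U₁)
    have hv' := hψ.2 (⟨v, hv⟩ : U₂)
    rw [← centralChar_factor U₁ U₂ hcomm hgen χ ψ₁ h₁] at hu'
    rw [← centralChar_factor U₂ U₁ hcomm' hgen' χ ψ₂ h₂] at hv'
    rw [show Cfsg.centralChar (fun _ : U₁ => (1 : ℂ)) ⟨u, hu⟩ =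
      Cfsg.centralChar ((BC84.oneChar U₁ : Cfsg.IrrCharacter U₁) : U₁ → ℂ) ⟨u, hu⟩ from rfl,
      ← centralChar_factor U₁ U₂ hcomm hgen (BC84.oneChar G) (BC84.oneChar U₁)
        (by show Cfsg.classInner ((BC84.oneChar U₁ : Cfsg.IrrCharacter U₁) : U₁ → ℂ) _ ≠ 0
            rw [CharCore.classInner_irr_self]; exact one_ne_zero)] at hu'
    rw [show Cfsg.centralChar (fun _ : U₂ => (1 : ℂ)) ⟨v, hv⟩ =
      Cfsg.centralChar ((BC84.oneChar U₂ : Cfsg.IrrCharacter U₂) : U₂ → ℂ) ⟨v, hv⟩ from rfl,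
      ← centralChar_factor U₂ U₁ hcomm' hgen' (BC84.oneChar G) (BC84.oneChar U₂)
        (by show Cfsg.classInner ((BC84.oneChar U₂ : Cfsg.IrrCharacter U₂) : U₂ → ℂ) _ ≠ 0
            rw [CharCore.classInner_irr_self]; exact one_ne_zero)] at hv'
    rw [hval, hval1]
    have := memLocalIdeal_add
      (memLocalIdeal_mul_right hu' (centralChar_memLocalRing (M := M) (BC84.oneChar G) v))
      (memLocalIdeal_mul_left (centralChar_memLocalRing (M := M) χ u) hv')
    convert this using 1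
    ring
  -- a block is determined by the central characters at regular elements
  rw [BC84.mem_principalBlock_iff]
  by_contra hne
  set B := Cfsg.blockOf M (χ : G → ℂ) with hBdef
  have hB : Cfsg.IsPBlock M B := isPBlock_blockOf χ
  have : Finite (ConjClasses G) := Quotient.finite _
  have := Fintype.ofFinite (ConjClasses G)
  have hmem : Cfsg.MemLocalIdeal M (omega ((BC84.oneChar G : Cfsg.IrrCharacter G) : G → ℂ)
      (Cfsg.blockCoeff B) - omega (χ : G → ℂ) (Cfsg.blockCoeff B)) := by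
    rw [BlocksDefect.omega_eq_sum_classes χ (isClassFunction_blockCoeff B),
      BlocksDefect.omega_eq_sum_classes (BC84.oneChar G) (isClassFunction_blockCoeff B),
      ← Finset.sum_sub_distrib]
    refine memLocalIdeal_sum fun C _ => ?_
    rw [← mul_sub]
    by_cases hC : p ∣ orderOf (Quotient.out C)
    · rw [blockCoeff_eq_zero_of_dvd_orderOf hM hB hC, zero_mul]
      exact memLocalIdeal_zero
    · exact memLocalIdeal_mul_left ((isIntClassFun_blockCoeff hM hB).2 _) (hreg _ hC)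
  rw [omega_blockCoeff, omega_blockCoeff, Set.indicator_of_mem (mem_blockOf_self χ),
    Set.indicator_of_notMem (show BC84.oneChar G ∉ B from hne), zero_sub] at hmem
  exact not_memLocalIdeal_one (M := M) (by simpa using memLocalIdeal_neg hmem)

end Cfsg.Agent.S4521
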