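import Cfsg.Statements.S4529
import Cfsg.Agent.BC84.Tame.Main
import Cfsg.Agent.BC85.Star.NilpotentMain
-- import your own Cfsg.Agent.* helpers here

set_option autoImplicit false
open Cfsg

namespace Cfsg.Agent.S4529

/-- Let B be a 2-block of the finite group G (relative to a maximal ideal M of the algebraic integers containing 2) whose defect group D is semidihedral (quasi-dihedral) of order 2 ^ n, n ≥ 4. Then the number of irreducible characters in B is 2 ^ (n - 2) + 3 or 2 ^ (n - 2) + 4, its 2-regular rank l is between 1 and 3, with l = 3 forcing 2 ^ (n - 2) + 4 characters and l = 1 forcing 2 ^ (n - 2) + 3; exactly four members have height zero, exactly 2 ^ (n - 2) - 1 have height one, and every other member has height n - 2. -/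
theorem result {G : Type*} [Group G] [Finite G] (M : Ideal Cfsg.AlgInt) (hM : Cfsg.IsPModular 2 M) (B : Set (Cfsg.IrrCharacter G)) (hB : Cfsg.IsPBlock M B) (D : Subgroup G) (hD : Cfsg.IsDefectGroup 2 M B D) (n : ℕ) (hn : 4 ≤ n) (hcard : Nat.card D = 2 ^ n) (hsd : Cfsg.IsQuasiDihedral D) : (Nat.card B = 2 ^ (n - 2) + 3 ∨ Nat.card B = 2 ^ (n - 2) + 4) ∧ 1 ≤ Cfsg.blockRank 2 B ∧ Cfsg.blockRank 2 B ≤ 3 ∧ (Cfsg.blockRank 2 B = 3 → Nat.card B = 2 ^ (n - 2) + 4) ∧ (Cfsg.blockRank 2 B = 1 → Nat.card B = 2 ^ (n - 2) + 3) ∧ Nat.card {χ : Cfsg.IrrCharacter G // χ ∈ B ∧ Cfsg.blockHeight 2 B (χ : G → ℂ) = 0} = 4 ∧ Nat.card {χ : Cfsg.IrrCharacter G // χ ∈ B ∧ Cfsg.blockHeight 2 B (χ : G → ℂ) = 1} = 2 ^ (n - 2) - 1 ∧ ∀ χ ∈ B, Cfsg.blockHeight 2 B (χ : G → ℂ) = 0 ∨ Cfsg.blockHeight 2 B (χ : G → ℂ) = 1 ∨ Cfsg.blockHeight 2 B (χ : G → ℂ) = n - 2 := by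
  classical
  haveI := Fintype.ofFinite G
  haveI : Fact (Nat.Prime 2) := ⟨Nat.prime_two⟩
  haveI := BlocksCore.isPrime hM
  haveI : Finite (IrrCharacter G) := BlocksCore.finite_irr
  haveI := Fintype.ofFinite B
  obtain ⟨e, hmax⟩ := BC85.Star.exists_maximal_of_defect hM hB hD
  obtain ⟨r, y, S, h4, hy, hyr, hyy, hxx⟩ := BC84.Tame.exists_semi hn hcard hsd
  haveI := S.neZero
  have hxx' : ((S.rot 1 * ⟨y, hy⟩ : D) : G) * ((S.rot 1 * ⟨y, hy⟩ : D) : G) = r ^ 2 ^ (n - 2) := by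
    rw [Subgroup.coe_mul, S.rot_one]; exact hxx
  obtain ⟨hk, hlz, hl3, h3, h1'⟩ := BC84.Tame.semi_invariants hM hmax S ⟨y, hy⟩ hyr hyy hxx'
  obtain ⟨h1, h2, -, h4', h5, h6⟩ := BC84.Tame.numbers_of hM hmax S hk
  rw [Nat.card_eq_fintype_card]
  refine ⟨by omega, BC84.Tame.one_le_blockRank hM hmax, hl3, fun hl => ?_, fun hl => ?_, h4', h6 h4, h5 (n - 2) rfl⟩
  · have := (h3 hl).1; omega
  · have := h1' hl; omega


end Cfsg.Agent.S4529
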