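import Cfsg.Statements.S4531
import Cfsg.Agent.BC84.Tame.Solvable
import Cfsg.Agent.BC85.Star.NilpotentMain
-- import your own Cfsg.Agent.* helpers here

set_option autoImplicit false
open Cfsg

namespace Cfsg.Agent.S4531

/-- Let the finite group G have a 2-block B (relative to a maximal ideal M of the algebraic integers containing 2) of 2-regular rank three (three irreducible Brauer characters) whose defect group D is dihedral of order 2 ^ n with n ≥ 3 or semidihedral. Then the centre of G has odd order and G is not solvable. -/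
theorem result {G : Type*} [Group G] [Finite G] (M : Ideal Cfsg.AlgInt) (hM : Cfsg.IsPModular 2 M) (B : Set (Cfsg.IrrCharacter G)) (hB : Cfsg.IsPBlock M B) (D : Subgroup G) (hD : Cfsg.IsDefectGroup 2 M B D) (hD' : (∃ n : ℕ, 3 ≤ n ∧ Nonempty (D ≃* DihedralGroup (2 ^ (n - 1)))) ∨ Cfsg.IsQuasiDihedral D) (hl : Cfsg.blockRank 2 B = 3) : Odd (Nat.card (Subgroup.center G)) ∧ ¬ Group.IsSolvable G := by
  classical
  haveI := Fintype.ofFinite G
  haveI : Fact (Nat.Prime 2) := ⟨Nat.prime_two⟩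
  haveI := BlocksCore.isPrime hM
  haveI : Finite (IrrCharacter G) := BlocksCore.finite_irr
  haveI := Fintype.ofFinite B
  obtain ⟨e, hmax⟩ := BC85.Star.exists_maximal_of_defect hM hB hD
  rcases hD' with ⟨n, hn, hdih⟩ | hsd
  · obtain ⟨r, Sd⟩ := BC84.Dihedral.exists_dihData hn hdih
    obtain ⟨hcard, -⟩ := BC84.Dihedral.invariants hM hmax Sd
    have S := BC84.Tame.tameData_of_dihedral Sd
    obtain ⟨y, hy, hyr⟩ := S.exists_refl
    obtain ⟨⟨c, hc⟩, ⟨c', hc'⟩⟩ := BC84.Tame.fused_of_three S hM hmax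
      (by rw [Nat.card_eq_fintype_card]; exact hcard) hl (y := ⟨y, hy⟩) hyr
    have hhalf : ∀ (v : D) (d : ZMod (2 * 2 ^ (n - 2))), (v : G) ∉ Subgroup.zpowers r →
        BC84.Tame.Fused hM hmax (S.rot d) v → (S.rot d : G) = r ^ 2 ^ (n - 2) := by
      intro v d hv hf
      have ho := hf.orderOf_eq hM hmax
      refine S.eq_of_sq (S.rot_mem d) ?_ fun q => hv ?_
      · have hvv := (Sd.flip v v.2 hv).1
        rw [← pow_two, ← orderOf_dvd_iff_pow_eq_one, ho, orderOf_dvd_iff_pow_eq_one, pow_two, hvv]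
      · rw [q, orderOf_one] at ho
        rw [orderOf_eq_one_iff.mp ho.symm]
        exact one_mem _
    have hxr : ((S.rot 1 * ⟨y, hy⟩ : D) : G) ∉ Subgroup.zpowers r := fun hm => hyr (by
      have h2 := Subgroup.mul_mem _ (inv_mem (S.rot_mem 1)) hm
      rwa [Subgroup.coe_mul, inv_mul_cancel_left] at h2)
    have e1 := hhalf _ _ hyr hc
    have e2 := hhalf _ _ hxr hc'
    obtain ⟨g, hg, -⟩ := hc
    obtain ⟨g', hg', -⟩ := hc'
    rw [e1] at hg
    rw [e2, Subgroup.coe_mul, S.rot_one] at hg'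
    refine ⟨BC84.Tame.odd_center S hM hB hD hyr hg,
      BC84.Tame.not_solvable S (g := g) (g' := g') (b := ((2 ^ (n - 2) / 2 : ℕ) : ZMod (2 * 2 ^ (n - 2))))
        (b' := ((2 ^ (n - 2) / 2 : ℕ) : ZMod (2 * 2 ^ (n - 2)))) hy hyr ?_ ?_⟩
    · rw [mul_comm (2 : ZMod (2 * 2 ^ (n - 2))), S.half_mul_two, S.rot_half]; exact hg
    · rw [mul_comm (2 : ZMod (2 * 2 ^ (n - 2))), S.half_mul_two, S.rot_half]; exact hg'
  · obtain ⟨n, hn, hcard⟩ : ∃ n, 4 ≤ n ∧ Nat.card D = 2 ^ n := by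
      obtain ⟨m, hm, hc, -⟩ := hsd
      exact ⟨m + 1, by omega, hc⟩
    obtain ⟨r, y, S, h4, hy, hyr, hyy, hxx⟩ := BC84.Tame.exists_semi hn hcard hsd
    haveI := S.neZero
    have hxx' : ((S.rot 1 * ⟨y, hy⟩ : D) : G) * ((S.rot 1 * ⟨y, hy⟩ : D) : G) = r ^ 2 ^ (n - 2) := by
      rw [Subgroup.coe_mul, S.rot_one]; exact hxx
    obtain ⟨-, -, -, h3, -⟩ := BC84.Tame.semi_invariants hM hmax S ⟨y, hy⟩ hyr hyy hxx'
    obtain ⟨-, ⟨g, hg, -⟩, c, hc, ⟨g', hg', -⟩⟩ := h3 hl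
    obtain ⟨b', rfl⟩ := BC84.Tame.even_rot_of_order h4 hc
    rw [S.rot_half] at hg
    rw [Subgroup.coe_mul, S.rot_one] at hg'
    refine ⟨BC84.Tame.odd_center S hM hB hD hyr hg,
      BC84.Tame.not_solvable S (g := g) (g' := g') (b := ((2 ^ (n - 2) / 2 : ℕ) : ZMod (2 * 2 ^ (n - 2)))) (b' := b')
        hy hyr ?_ hg'⟩
    rw [mul_comm (2 : ZMod (2 * 2 ^ (n - 2))), S.half_mul_two, S.rot_half]; exact hg


end Cfsg.Agent.S4531
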