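import Cfsg.Statements.S4534
import Cfsg.Agent.Bead29.Defect
import Cfsg.Agent.S0924

set_option autoImplicit false
open Cfsg

namespace Cfsg.Agent.S4534

/-- Let B be a p-block of a finite symmetric group (relative to a maximal ideal M of the algebraic integers containing p) with a nontrivial defect group D all of whose sections have p-rank at most s. Then the p-regular rank of B is less than p ^ s. -/
theorem result (n : ℕ) (p : ℕ) [Fact p.Prime] (M : Ideal Cfsg.AlgInt) (hM : Cfsg.IsPModular p M) (B : Set (Cfsg.IrrCharacter (Equiv.Perm (Fin n)))) (hB : Cfsg.IsPBlock M B) (D : Subgroup (Equiv.Perm (Fin n))) (hD : Cfsg.IsDefectGroup p M B D) (hD1 : D ≠ ⊥) (s : ℕ) (hs : Cfsg.SectionalPRankLE p s D) : Cfsg.blockRank p B < p ^ s := by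
  classical
  have hp := (Fact.out : p.Prime)
  have := Cfsg.Agent.BlocksCore.isPrime hM
  obtain ⟨χ, rfl⟩ := id hB
  have hχ : χ ∈ Cfsg.blockOf M (χ : Equiv.Perm (Fin n) → ℂ) :=
    Cfsg.Agent.BlocksCore.mem_blockOf_self χ
  have hN : p * n + n ≤ p * n + n := le_rfl
  have hN2 : n + n ≤ p * n + n := by
    have := Nat.le_mul_of_pos_left n hp.pos
    omega
  obtain ⟨b, hb, eb⟩ := Cfsg.Agent.Bead29.exists_chr_eq hN2 χ
  obtain ⟨w, σ, hw, hsupp, hord, hne⟩ := Cfsg.Agent.Bead29.exists_pElement (p := p) hN2 hb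
  have hrank := Cfsg.Agent.Bead29.blockRank_le hM hB hχ hN hb eb hw
  have hDp := Cfsg.Agent.BlocksDefect.isPGroup_of_isDefectGroup hD
  have hmoved := Cfsg.Agent.Bead29.p_le_moved hDp hD1
  have hs1 : 1 ≤ s := Cfsg.Agent.Bead29.le_of_moved hM hB hD (k := 1) (by rw [mul_one]; exact hmoved) hs
  rcases Nat.eq_zero_or_pos w with rfl | hwpos
  · rw [Cfsg.Agent.Bead29.pp_zero_right] at hrank
    exact lt_of_le_of_lt hrank (Nat.one_lt_pow (by omega) hp.one_lt)
  have hpart : Cfsg.IsPPart p σ σ := by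
    obtain h | h := (Nat.dvd_prime hp).mp hord
    · exact ⟨1, mul_one _, Commute.one_right _, ⟨0, by rw [h, pow_zero]⟩, by simp [hp.one_lt.ne']⟩
    · exact ⟨1, mul_one _, Commute.one_right _, ⟨1, by rw [h, pow_one]⟩, by simp [hp.one_lt.ne']⟩
  obtain ⟨D', hD', hσD'⟩ : ∃ D' : Subgroup (Equiv.Perm (Fin n)),
      Cfsg.IsDefectGroup p M (Cfsg.blockOf M (χ : Equiv.Perm (Fin n) → ℂ)) D' ∧ σ ∈ D' := by
    by_contra h
    push Not at h
    exact hne (by rw [← eb]; exact Cfsg.Agent.S0924.result p M hM χ σ σ hpart h)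
  obtain ⟨g, hg⟩ := Cfsg.Agent.BlocksDefect.isConj_defectGroup hM hB hD' hD
  have hσD : g * σ * g⁻¹ ∈ D := hg ▸ Subgroup.mem_map_of_mem _ hσD'
  have hle : p * w ≤ Nat.card ↥(Cfsg.Agent.Bead29.moved D) := by
    rw [← hsupp, ← Equiv.Perm.sum_cycleType, ← Equiv.Perm.cycleType_conj (τ := g),
      Equiv.Perm.sum_cycleType, ← Nat.card_eq_finsetCard]
    exact Nat.card_le_card_of_injective
      (fun x => (⟨x.1, ⟨g * σ * g⁻¹, hσD, Equiv.Perm.mem_support.mp x.2⟩⟩ :
        ↥(Cfsg.Agent.Bead29.moved D)))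
      fun a c e => Subtype.ext (congrArg (fun z : ↥(Cfsg.Agent.Bead29.moved D) => (z : Fin n)) e)
  have hws := Cfsg.Agent.Bead29.le_of_moved hM hB hD hle hs
  calc Cfsg.blockRank p _ ≤ Cfsg.Agent.Bead29.pp (p - 1) w := hrank
    _ < p ^ w := Cfsg.Agent.Bead29.pp_lt_pow hp.two_le hwpos
    _ ≤ p ^ s := Nat.pow_le_pow_right hp.pos hws

end Cfsg.Agent.S4534
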