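import Cfsg.Statements.S4535
import Cfsg.Agent.Bead29.Alt
import Cfsg.Agent.S0924

set_option autoImplicit false
open Cfsg

namespace Cfsg.Agent.S4535

/-- Let B be a p-block of a finite alternating group (relative to a maximal ideal M of the algebraic integers containing p) with a nontrivial defect group D all of whose sections have p-rank at most s. Then the p-regular rank of B is less than p ^ s. -/
theorem result (n : ℕ) (p : ℕ) [Fact p.Prime] (M : Ideal Cfsg.AlgInt) (hM : Cfsg.IsPModular p M) (B : Set (Cfsg.IrrCharacter (alternatingGroup (Fin n)))) (hB : Cfsg.IsPBlock M B) (D : Subgroup (alternatingGroup (Fin n))) (hD : Cfsg.IsDefectGroup p M B D) (hD1 : D ≠ ⊥) (s : ℕ) (hs : Cfsg.SectionalPRankLE p s D) : Cfsg.blockRank p B < p ^ s := by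
  classical
  have hp := (Fact.out : p.Prime)
  have := Cfsg.Agent.BlocksCore.isPrime hM
  have hAD := Cfsg.Agent.BlocksDefect.isPGroup_of_isDefectGroup hD
  -- the alternating group is nontrivial
  obtain ⟨k0, hk0⟩ := IsPGroup.iff_card.mp hAD
  have hk00 : k0 ≠ 0 := fun h => hD1 ((Subgroup.card_eq_one (H := D)).mp (by rw [hk0, h, pow_zero]))
  have hn : 2 ≤ n := by
    by_contra hn
    have : Subsingleton (Fin n) := Fin.subsingleton_iff_le_one.mpr (by omega)
    exact hD1 (Subsingleton.elim _ _)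
  obtain ⟨θ0, hθ0⟩ := Cfsg.Agent.BlocksCore.isPBlock_nonempty hB
  obtain ⟨χ, hχθ⟩ := Cfsg.Agent.CharCore.exists_over (N := alternatingGroup (Fin n)) θ0
  set C := Cfsg.blockOf M (χ : Equiv.Perm (Fin n) → ℂ) with hCdef
  have hC : Cfsg.IsPBlock M C := Cfsg.Agent.BlocksCore.isPBlock_blockOf χ
  have hχ : χ ∈ C := Cfsg.Agent.BlocksCore.mem_blockOf_self χ
  set Q : Subgroup (Equiv.Perm (Fin n)) := D.map (alternatingGroup (Fin n)).subtype with hQ
  have hQsub : Q.subgroupOf (alternatingGroup (Fin n)) = D := by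
    rw [hQ]
    exact Subgroup.comap_map_eq_self_of_injective (Subgroup.subtype_injective _) D
  obtain ⟨P, hP, hPQ⟩ := Cfsg.Agent.BlocksDefect.exists_defectGroup_inf_eq hM hB
    (Subgroup.map_subtype_le D) (Q := Q) (by rw [hQsub]; exact hD) hC ⟨χ, hχ, θ0, hθ0, hχθ⟩
  have hQP : Q ≤ P := hPQ ▸ inf_le_left
  have hPp := Cfsg.Agent.BlocksDefect.isPGroup_of_isDefectGroup hP
  have hP1 : P ≠ ⊥ := fun h => hD1 (by
    rw [h, le_bot_iff, hQ, Subgroup.map_eq_bot_iff_of_injective _ (Subgroup.subtype_injective _)]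
      at hQP
    exact hQP)
  have hmoved := Cfsg.Agent.Bead29.p_le_moved hPp hP1
  -- the weight
  set N := p * (2 * n + 1) with hNdef
  have hN : n + n ≤ N := by
    have := Nat.le_mul_of_pos_left (2 * n + 1) hp.pos
    omega
  have hNw : p * n + n ≤ N := by
    have h1 : p * (2 * n + 1) = p * n + (p * n + p) := by ring
    have := Nat.le_mul_of_pos_left n hp.pos
    omega
  obtain ⟨b, hb, eb⟩ := Cfsg.Agent.Bead29.exists_chr_eq hN χ
  obtain ⟨w, σ, hw, hsupp, hord, hne⟩ := Cfsg.Agent.Bead29.exists_pElement (p := p) hN hb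
  have hrank := Cfsg.Agent.Bead29.blockRank_alt_le hM hn hB hC ⟨χ, hχ, θ0, hθ0, hχθ⟩ hN
    ⟨2 * n + 1, hNdef⟩ hNw hχ hb eb hw
  have hpart : Cfsg.IsPPart p σ σ := by
    obtain h | h := (Nat.dvd_prime hp).mp hord
    · exact ⟨1, mul_one _, Commute.one_right _, ⟨0, by rw [h, pow_zero]⟩, by simp [hp.one_lt.ne']⟩
    · exact ⟨1, mul_one _, Commute.one_right _, ⟨1, by rw [h, pow_one]⟩, by simp [hp.one_lt.ne']⟩
  obtain ⟨D', hD', hσD'⟩ : ∃ D' : Subgroup (Equiv.Perm (Fin n)),
      Cfsg.IsDefectGroup p M C D' ∧ σ ∈ D' := by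
    by_contra h
    push Not at h
    exact hne (by rw [← eb]; exact Cfsg.Agent.S0924.result p M hM χ σ σ hpart h)
  obtain ⟨g, hg⟩ := Cfsg.Agent.BlocksDefect.isConj_defectGroup hM hC hD' hP
  have hσP : g * σ * g⁻¹ ∈ P := hg ▸ Subgroup.mem_map_of_mem _ hσD'
  have hsupp_le : ∀ τ ∈ P, τ.support.card ≤ Nat.card ↥(Cfsg.Agent.Bead29.moved P) := fun τ hτ => by
    rw [← Nat.card_eq_finsetCard]
    exact Nat.card_le_card_of_injective
      (fun x => (⟨x.1, ⟨τ, hτ, Equiv.Perm.mem_support.mp x.2⟩⟩ :
        ↥(Cfsg.Agent.Bead29.moved P)))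
      fun a c e => Subtype.ext (congrArg (fun z : ↥(Cfsg.Agent.Bead29.moved P) => (z : Fin n)) e)
  have hle : p * w ≤ Nat.card ↥(Cfsg.Agent.Bead29.moved P) := by
    rw [← hsupp, ← Equiv.Perm.sum_cycleType, ← Equiv.Perm.cycleType_conj (τ := g),
      Equiv.Perm.sum_cycleType]
    exact hsupp_le _ hσP
  rcases hp.eq_two_or_odd with rfl | hodd
  · -- p = 2
    have h4 : 4 ≤ Nat.card ↥(Cfsg.Agent.Bead29.moved P) := by
      obtain ⟨d, hd⟩ := exists_prime_orderOf_dvd_card' 2 (G := D) (hk0 ▸ dvd_pow_self 2 hk00)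
      set τ : Equiv.Perm (Fin n) := ((d : alternatingGroup (Fin n)) : Equiv.Perm (Fin n)) with hτ
      have hτP : τ ∈ P := hQP ⟨_, d.2, rfl⟩
      have hτo : orderOf τ = 2 := by rw [hτ, Subgroup.orderOf_coe, Subgroup.orderOf_coe, hd]
      obtain ⟨j, hj⟩ := Equiv.Perm.cycleType_prime_order (σ := τ) (by rw [hτo]; exact hp)
      have heven : Equiv.Perm.sign τ = 1 :=
        Equiv.Perm.mem_alternatingGroup.mp (d : alternatingGroup (Fin n)).2
      have h2 : 4 ≤ τ.support.card := by
        rw [← Equiv.Perm.sum_cycleType, hj, Multiset.sum_replicate, smul_eq_mul, hτo]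
        rcases Nat.eq_zero_or_pos j with rfl | hjp
        · rw [Equiv.Perm.sign_of_cycleType, hj, Multiset.sum_replicate, Multiset.card_replicate,
            hτo] at heven
          exact absurd heven (by decide)
        · omega
      exact h2.trans (hsupp_le τ hτP)
    obtain ⟨hs1, hs2⟩ : 2 * 1 ≤ s ∧ 2 * (w / 2) ≤ s :=
      ⟨Cfsg.Agent.Bead29.le_of_moved_two hM hC hP hPQ hs (k := 1) (by omega),
        Cfsg.Agent.Bead29.le_of_moved_two hM hC hP hPQ hs (k := w / 2) (by omega)⟩
    rcases Nat.lt_or_ge w 3 with hw3 | hw3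
    · refine lt_of_lt_of_le (lt_of_le_of_lt hrank ?_) (Nat.pow_le_pow_right two_pos hs1)
      rw [show 2 - 1 = 1 from rfl, Cfsg.Agent.Bead29.pp_one]
      rcases w with _ | _ | _ | w
      · have := Cfsg.Agent.Bead29.saCount_two_even 0
        simp [Cfsg.Agent.Bead29.partCount_zero] at this ⊢
        omega
      · have := Cfsg.Agent.Bead29.saCount_two_odd 0
        simp at this
        simp [Cfsg.Agent.Bead29.partCount_one, this]
      · have := Cfsg.Agent.Bead29.saCount_two_even 1
        simp [Cfsg.Agent.Bead29.partCount_one] at this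
        simp [Cfsg.Agent.Bead29.partCount_two]
        omega
      · omega
    · exact lt_of_lt_of_le (lt_of_le_of_lt hrank (Cfsg.Agent.Bead29.lt_two w hw3))
        (Nat.pow_le_pow_right two_pos hs2)
  · -- p odd
    obtain ⟨h, rfl⟩ : ∃ h, p = 2 * h + 1 := ⟨p / 2, by omega⟩
    have hh : 1 ≤ h := by have := hp.two_le; omega
    have hne2 : 2 * h + 1 ≠ 2 := by omega
    rw [show 2 * h + 1 - 1 = 2 * h from rfl] at hrank
    have hs1 : 1 ≤ s := Cfsg.Agent.Bead29.le_of_moved_odd hne2 hM hC hP hPQ hs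
      (by rw [mul_one]; exact hmoved)
    rcases Nat.lt_or_ge (Nat.card ↥(Cfsg.Agent.Bead29.moved P)) ((2 * h + 1) * 2) with hsmall | hbig
    · have hcardP : Nat.card P ≤ 2 * h + 1 := by
        let S : Set (Fin n) := Cfsg.Agent.Bead29.moved P
        have hinv : ∀ d ∈ P, ∀ x, d x ∈ S ↔ x ∈ S := by
          intro d hd x
          constructor
          · rintro ⟨e, he, hex⟩
            by_contra hx
            exact hex (by
              have h1 : d x = x := by by_contra h'; exact hx ⟨d, hd, h'⟩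
              rw [h1]; by_contra h'; exact hx ⟨e, he, h'⟩)
          · intro hx
            by_contra h'
            have h1 : d (d x) = d x := by by_contra h''; exact h' ⟨d, hd, h''⟩
            have h2 : d x = x := d.injective h1
            exact h' (by rw [h2]; exact hx)
        let φ : P →* Equiv.Perm S :=
          { toFun := fun d => Equiv.Perm.subtypePerm (d : Equiv.Perm (Fin n)) (hinv d d.2)
            map_one' := by ext x; simp
            map_mul' := fun a b => by ext x; rfl }
        have hφ : Function.Injective φ := by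
          intro a b e
          refine Subtype.ext (Equiv.ext fun x => ?_)
          by_cases hx : x ∈ S
          · have e' := congrArg (fun f : Equiv.Perm S => ((f ⟨x, hx⟩ : S) : Fin n)) e
            simpa [φ] using e'
          · have ha : (a : Equiv.Perm (Fin n)) x = x := by
              by_contra h'; exact hx ⟨a, a.2, h'⟩
            have hb : (b : Equiv.Perm (Fin n)) x = x := by
              by_contra h'; exact hx ⟨b, b.2, h'⟩
            rw [ha, hb]
        have hdvd := Subgroup.card_dvd_of_injective φ hφ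
        rw [Nat.card_perm] at hdvd
        obtain ⟨r, hr⟩ := IsPGroup.iff_card.mp hPp
        rw [hr] at hdvd ⊢
        have hr1 : r ≤ 1 := by
          refine le_trans ((hp.pow_dvd_factorial_iff (b := 2) ?_).mp hdvd) ?_
          · refine Nat.log_lt_of_lt_pow (lt_of_lt_of_le hp.pos hmoved).ne' ?_
            calc Nat.card S < (2 * h + 1) * 2 := hsmall
              _ ≤ (2 * h + 1) ^ 2 := by rw [pow_two]; exact Nat.mul_le_mul_left _ (by omega)
          · rw [show Finset.Ico 1 2 = {1} from rfl, Finset.sum_singleton, pow_one]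
            exact Nat.lt_succ_iff.mp ((Nat.div_lt_iff_lt_mul (by omega)).mpr (by rw [mul_comm]; exact hsmall))
        calc (2 * h + 1) ^ r ≤ (2 * h + 1) ^ 1 := Nat.pow_le_pow_right (by omega) hr1
          _ = 2 * h + 1 := pow_one _
      have hcardD : Nat.card D = 2 * h + 1 := by
        have h1 : Nat.card D ≤ Nat.card P := by
          calc Nat.card D = Nat.card Q := Nat.card_congr (Subgroup.equivMapOfInjective D _
                (alternatingGroup (Fin n)).subtype_injective).toEquiv
            _ ≤ Nat.card P := Nat.le_of_dvd Nat.card_pos (Subgroup.card_dvd_of_le hQP)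
        have h2 : (2 * h + 1) ^ 1 ≤ (2 * h + 1) ^ k0 :=
          Nat.pow_le_pow_right (by omega) (Nat.one_le_iff_ne_zero.mpr hk00)
        rw [pow_one] at h2
        omega
      have hl := Cfsg.Agent.Bead29.blockRank_le_of_cyclic hM hB hD hD1
        (isCyclic_of_prime_card hcardD)
      calc Cfsg.blockRank (2 * h + 1) B ≤ 2 * h + 1 - 1 := hl
        _ < (2 * h + 1) ^ 1 := by rw [pow_one]; omega
        _ ≤ (2 * h + 1) ^ s := Nat.pow_le_pow_right (by omega) hs1
    · rcases Nat.lt_or_ge w 3 with hw3 | hw3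
      · exact lt_of_lt_of_le
          (lt_of_le_of_lt hrank (Cfsg.Agent.Bead29.lt_odd_small h w hh (by omega)))
          (Nat.pow_le_pow_right (by omega)
            (Cfsg.Agent.Bead29.le_of_moved_odd hne2 hM hC hP hPQ hs hbig))
      · exact lt_of_lt_of_le
          (lt_of_le_of_lt hrank (Cfsg.Agent.Bead29.lt_odd_big h w hh hw3))
          (Nat.pow_le_pow_right (by omega)
            (Cfsg.Agent.Bead29.le_of_moved_odd hne2 hM hC hP hPQ hs hle))

end Cfsg.Agent.S4535
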