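import Cfsg.Statements.S4538
import Cfsg.Agent.SLDefect.Radical
import Cfsg.Agent.SLDefect.Steinberg

set_option autoImplicit false
open Cfsg

namespace Cfsg.Agent.S4538

/-- Let F be a finite field of characteristic p and n ≥ 2. Relative to a maximal ideal M of the algebraic integers containing p, the group SL(n, F) has exactly one p-block of defect zero, and every other p-block has full defect (its defect equals the exponent of p in the order of the group, so its defect groups are Sylow p-subgroups). -/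
theorem result {F : Type*} [Field F] [Fintype F] (n : ℕ) (hn : 2 ≤ n) (p : ℕ) [Fact p.Prime] [CharP F p] (M : Ideal Cfsg.AlgInt) (hM : Cfsg.IsPModular p M) : Nat.card {B : Set (Cfsg.IrrCharacter (Matrix.SpecialLinearGroup (Fin n) F)) // Cfsg.IsPBlock M B ∧ Cfsg.blockDefect p B = 0} = 1 ∧ ∀ B : Set (Cfsg.IrrCharacter (Matrix.SpecialLinearGroup (Fin n) F)), Cfsg.IsPBlock M B → Cfsg.blockDefect p B = 0 ∨ Cfsg.blockDefect p B = (Nat.card (Matrix.SpecialLinearGroup (Fin n) F)).factorization p := by
  classical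
  haveI : NeZero n := ⟨by omega⟩
  haveI : Fintype (Matrix.SpecialLinearGroup (Fin n) F) := Fintype.ofFinite _
  have := Cfsg.Agent.BlocksCore.isPrime hM
  have hp : p.Prime := Fact.out
  have key : ∀ χ : Cfsg.IrrCharacter (Matrix.SpecialLinearGroup (Fin n) F),
      SLDefect.DZ p χ ↔ (Nat.card (Matrix.SpecialLinearGroup (Fin n) F)).factorization p ≤
        (Cfsg.charDegree χ.1).factorization p := by
    intro χ
    have hd := BlocksCore.charDegree_dvd_card χ
    have hne : Nat.card (Matrix.SpecialLinearGroup (Fin n) F) / Cfsg.charDegree χ.1 ≠ 0 :=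
      (Nat.div_pos (Nat.le_of_dvd Nat.card_pos hd) (BlocksCore.charDegree_pos χ)).ne'
    rw [SLDefect.DZ, hp.dvd_iff_one_le_factorization hne, Nat.factorization_div hd, Finsupp.tsub_apply]
    omega
  refine ⟨?_, fun B hB => SLDefect.defect_zero_or_full hM hB⟩
  obtain ⟨χ, hχ⟩ := SLDefect.exists_DZ (F := F) (p := p) hn
  have hs := BlocksCore.blockOf_eq_singleton_of_not_dvd hM χ hχ
  rw [Nat.card_eq_one_iff_exists]
  refine ⟨⟨{χ}, hs ▸ BlocksCore.isPBlock_blockOf χ, ?_⟩, ?_⟩
  · have := (key χ).1 hχ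
    rw [Cfsg.blockDefect, Set.image_singleton, csInf_singleton]
    omega
  · rintro ⟨B, hB, hB0⟩
    refine Subtype.ext ?_
    show B = {χ}
    obtain ⟨φ, hφ, hmin⟩ := Nat.sInf_mem ((BlocksCore.isPBlock_nonempty hB).image
      (fun ψ : Cfsg.IrrCharacter (Matrix.SpecialLinearGroup (Fin n) F) =>
        (Cfsg.charDegree ψ.1).factorization p))
    rw [Cfsg.blockDefect] at hB0
    simp only at hmin
    have hφz : SLDefect.DZ p φ := (key φ).2 (by omega)
    rw [BlocksCore.isPBlock_eq_blockOf hB hφ, ← hs, SLDefect.eq_of_DZ hn hM hφz hχ]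

end Cfsg.Agent.S4538
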