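import Cfsg.Statements.S4540
import Cfsg.Agent.BC84.MajorTwo
-- import your own Cfsg.Agent.* helpers here

set_option autoImplicit false
open Cfsg

namespace Cfsg.Agent.S4540

/-- Let B be a 2-block of the finite group G (relative to a maximal ideal M of the algebraic integers containing 2) of defect d with defect group D. Let z be an element of D commuting with every element of D, and let b be a block of the centralizer C of z with defect group D that induces B (a major subsection (z, b)). If b has 2-regular rank at most three, then 3·k(B) ≤ 3·k₀(B) + 2·Σ 2 ^ h(χ), where k(B) is the number of members of B, k₀(B) the number of members of height zero, and the sum runs over the members χ of B of positive height h(χ); this bound is at most 3·2 ^ d, so in particular B contains at most 2 ^ d irreducible characters. -/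
theorem result {G : Type*} [Group G] [Finite G] (M : Ideal Cfsg.AlgInt) (hM : Cfsg.IsPModular 2 M) (B : Set (Cfsg.IrrCharacter G)) (hB : Cfsg.IsPBlock M B) (D : Subgroup G) (hD : Cfsg.IsDefectGroup 2 M B D) (z : G) (hzD : z ∈ D) (hzc : ∀ d ∈ D, d * z = z * d) (b : Set (Cfsg.IrrCharacter ↥(Subgroup.centralizer ({z} : Set G)))) (hb : Cfsg.IsInducedBlock M (Subgroup.centralizer ({z} : Set G)) b B) (hbD : Cfsg.IsDefectGroup 2 M b (D.subgroupOf (Subgroup.centralizer ({z} : Set G)))) (hl : Cfsg.blockRank 2 b ≤ 3) : 3 * Nat.card B ≤ 3 * Nat.card {χ : Cfsg.IrrCharacter G // χ ∈ B ∧ Cfsg.blockHeight 2 B (χ : G → ℂ) = 0} + 2 * (∑ᶠ χ ∈ {χ : Cfsg.IrrCharacter G | χ ∈ B ∧ 1 ≤ Cfsg.blockHeight 2 B (χ : G → ℂ)}, 2 ^ Cfsg.blockHeight 2 B (χ : G → ℂ)) ∧ 3 * Nat.card {χ : Cfsg.IrrCharacter G // χ ∈ B ∧ Cfsg.blockHeight 2 B (χ : G → ℂ) = 0} + 2 * (∑ᶠ χ ∈ {χ : Cfsg.IrrCharacter G | χ ∈ B ∧ 1 ≤ Cfsg.blockHeight 2 B (χ : G → ℂ)}, 2 ^ Cfsg.blockHeight 2 B (χ : G → ℂ)) ≤ 3 * 2 ^ Cfsg.blockDefect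 2 B := by
  classical
  have := Fact.mk Nat.prime_two
  have := Fintype.ofFinite G
  have := BlocksCore.finite_irr (G := G)
  have := Fintype.ofFinite B
  obtain ⟨j, -, hj⟩ := (Nat.dvd_prime_pow Nat.prime_two).mp
    (show orderOf z ∣ 2 ^ Cfsg.blockDefect 2 B by
      rw [← BlocksDefect.defectGroup_natCard hM hB hD, ← Subgroup.orderOf_mk z hzD]
      exact orderOf_dvd_natCard _)
  have hDC : D ≤ Subgroup.centralizer ({z} : Set G) := fun d hd =>
    Subgroup.mem_centralizer_singleton_iff.mpr (hzc d hd)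
  have hd := BC84.defect_eq hM hB hD hb.1 hDC hbD
  have h := BC84.major_bound hM hj hb hd (Or.inl hl)
  rw [BC84.sum_ite_eq_counts hM] at h
  refine ⟨?_, by exact_mod_cast h⟩
  have h2 : (3 * Nat.card B : ℤ) ≤ ∑ χ : B, (if Cfsg.blockHeight 2 B ((χ : Cfsg.IrrCharacter G) : G → ℂ) = 0 then 3
      else 2 * (2 : ℤ) ^ Cfsg.blockHeight 2 B ((χ : Cfsg.IrrCharacter G) : G → ℂ)) := by
    rw [Nat.card_eq_fintype_card, ← Finset.card_univ, mul_comm, Finset.card_eq_sum_ones, Nat.cast_sum, Finset.sum_mul]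
    refine Finset.sum_le_sum fun χ _ => ?_
    split_ifs with h0
    · norm_num
    · have := pow_le_pow_right₀ (show (1 : ℤ) ≤ 2 by norm_num) (Nat.pos_of_ne_zero h0)
      norm_num at this ⊢
      linarith
  rw [BC84.sum_ite_eq_counts hM] at h2
  exact_mod_cast h2


end Cfsg.Agent.S4540
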