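import Cfsg.Statements.S4541
import Cfsg.Agent.BC84.TwoContr
-- import your own Cfsg.Agent.* helpers here

set_option autoImplicit false
open Cfsg

namespace Cfsg.Agent.S4541

/-- Let B be a 2-block of the finite group G (relative to a maximal ideal M of the algebraic integers containing 2), u a 2-element, and b a block of the centralizer of u inducing B (a subsection (u, b)), of defect q and 2-regular rank l; write s for the integer square root of l and k₀(B) for the number of members of B of height zero. If s is odd then k₀(B) ≤ s·2 ^ q, and otherwise (s + 1)·k₀(B) ≤ l·2 ^ q; in particular k₀(B) ≤ 2 ^ q when l ≤ 3. -/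
theorem result {G : Type*} [Group G] [Finite G] (M : Ideal Cfsg.AlgInt) (hM : Cfsg.IsPModular 2 M) (B : Set (Cfsg.IrrCharacter G)) (hB : Cfsg.IsPBlock M B) (u : G) (hu : ∃ j : ℕ, orderOf u = 2 ^ j) (b : Set (Cfsg.IrrCharacter ↥(Subgroup.centralizer ({u} : Set G)))) (hb : Cfsg.IsInducedBlock M (Subgroup.centralizer ({u} : Set G)) b B) : (Odd (Nat.sqrt (Cfsg.blockRank 2 b)) → Nat.card {χ : Cfsg.IrrCharacter G // χ ∈ B ∧ Cfsg.blockHeight 2 B (χ : G → ℂ) = 0} ≤ Nat.sqrt (Cfsg.blockRank 2 b) * 2 ^ Cfsg.blockDefect 2 b) ∧ (¬ Odd (Nat.sqrt (Cfsg.blockRank 2 b)) → (Nat.sqrt (Cfsg.blockRank 2 b) + 1) * Nat.card {χ : Cfsg.IrrCharacter G // χ ∈ B ∧ Cfsg.blockHeight 2 B (χ : G → ℂ) = 0} ≤ Cfsg.blockRank 2 b * 2 ^ Cfsg.blockDefect 2 b) ∧ (Cfsg.blockRank 2 b ≤ 3 → Nat.card {χ : Cfsg.IrrCharacter G // χ ∈ B ∧ Cfsg.blockHeight 2 B (χ : G → ℂ) = 0} ≤ 2 ^ Cfsg.blockDefect 2 b) := by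
  classical
  have := Fact.mk Nat.prime_two
  obtain ⟨j, hj⟩ := hu
  have := Fintype.ofFinite G
  have := BlocksCore.finite_irr (G := G)
  have := Fintype.ofFinite B
  obtain ⟨t, ht0, ht, hsum⟩ := BC84.weights hM hj hb
  set k₀ := Nat.card {χ : Cfsg.IrrCharacter G // χ ∈ B ∧ Cfsg.blockHeight 2 B (χ : G → ℂ) = 0} with hk₀
  set l := Cfsg.blockRank 2 b with hl
  set q := Cfsg.blockDefect 2 b with hq
  set H : Finset B := Finset.univ.filter (fun χ : B => Cfsg.blockHeight 2 B ((χ : Cfsg.IrrCharacter G) : G → ℂ) = 0) with hH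
  have hHc : (H.card : ℤ) = (k₀ : ℤ) := by
    rw [hk₀, Nat.card_congr (Equiv.subtypeSubtypeEquivSubtypeInter (fun χ : Cfsg.IrrCharacter G => χ ∈ B)
      (fun χ : Cfsg.IrrCharacter G => Cfsg.blockHeight 2 B (χ : G → ℂ) = 0)).symm, Nat.card_eq_fintype_card,
      Fintype.card_subtype]
  have hle : ∑ χ ∈ H, t χ ≤ 2 ^ q * (l : ℤ) :=
    hsum ▸ Finset.sum_le_sum_of_subset_of_nonneg (Finset.filter_subset _ _) fun χ _ _ => ht0 χ
  set s := Nat.sqrt l with hs
  have hs1 : s * s ≤ l := Nat.sqrt_le l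
  have hs2 : l < (s + 1) * (s + 1) := Nat.lt_succ_sqrt l
  have hQ : (1 : ℤ) ≤ 2 ^ q := one_le_pow₀ (by norm_num)
  have hA : Odd s → k₀ ≤ s * 2 ^ q := by
    intro hodd
    by_contra hc
    push Not at hc
    have hc' : (s : ℤ) * 2 ^ q < k₀ := by exact_mod_cast hc
    have hbig : ∀ χ ∈ H, (s : ℤ) + 2 ≤ t χ := by
      intro χ hχ
      obtain ⟨h1, h2⟩ := ht χ (Finset.mem_filter.mp hχ).2
      obtain ⟨r, hr⟩ := hodd
      have h3 : (s : ℤ) < t χ := lt_of_mul_lt_mul_left (by linarith) (by positivity : (0 : ℤ) ≤ 2 ^ q)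
      omega
    have h4 : ((s : ℤ) + 2) * k₀ ≤ 2 ^ q * l := by
      refine le_trans ?_ hle
      rw [← hHc]
      simpa [mul_comm] using Finset.card_nsmul_le_sum H t _ hbig
    have h5 : (l : ℤ) ≤ (s : ℤ) * s + 2 * s := by
      have : (l : ℤ) < ((s : ℤ) + 1) * ((s : ℤ) + 1) := by exact_mod_cast hs2
      linarith
    nlinarith
  have hB : ¬ Odd s → (s + 1) * k₀ ≤ l * 2 ^ q := by
    intro heven
    by_contra hc
    push Not at hc
    have hc' : (l : ℤ) * 2 ^ q < ((s : ℤ) + 1) * k₀ := by exact_mod_cast hc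
    obtain ⟨χ, hχ, hsmall⟩ : ∃ χ ∈ H, t χ < (s : ℤ) + 1 := by
      by_contra hn
      push Not at hn
      have h4 := Finset.card_nsmul_le_sum H t _ hn
      rw [nsmul_eq_mul, hHc] at h4
      linarith
    obtain ⟨h1, h2⟩ := ht χ (Finset.mem_filter.mp hχ).2
    rw [Nat.not_odd_iff_even] at heven
    obtain ⟨r, hr⟩ := heven
    have h3 : t χ ≤ (s : ℤ) - 1 := by omega
    have h6 : (s : ℤ) * s ≤ l := by exact_mod_cast hs1
    have e1 : (k₀ : ℤ) ≤ 2 ^ q * ((s : ℤ) - 1) :=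
      h2.trans (mul_le_mul_of_nonneg_left h3 (by positivity))
    have e2 := mul_le_mul_of_nonneg_left e1 (show (0 : ℤ) ≤ (s : ℤ) + 1 by positivity)
    have e3 := mul_le_mul_of_nonneg_left h6 (show (0 : ℤ) ≤ 2 ^ q by positivity)
    linarith
  refine ⟨hA, hB, fun hl3 => ?_⟩
  rcases Nat.eq_zero_or_pos l with h0 | hpos
  · have : s = 0 := by rw [hs, h0, Nat.sqrt_zero]
    have h7 := hB (by rw [this]; decide)
    rw [this, h0] at h7
    simp only [zero_add, one_mul, zero_mul] at h7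
    exact h7.trans (Nat.zero_le _)
  · have hs' : s = 1 := by
      rcases Nat.lt_or_ge s 2 with h | h
      · have : s ≠ 0 := fun h0 => by rw [h0] at hs2; omega
        omega
      · nlinarith
    have h7 := hA (by rw [hs']; decide)
    rwa [hs', one_mul] at h7


end Cfsg.Agent.S4541
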