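import Cfsg.Statements.S4549
import Cfsg.Agent.BC84.TwoGaloisBlock
import Cfsg.Agent.BC84.Constituent
import Cfsg.Agent.BC84.Tate

set_option autoImplicit false
open Cfsg

namespace Cfsg.Agent.S4549

/-- Let G be a finite group and M a maximal ideal of the algebraic integers containing 2. Let k be a natural number with g ^ k = g ^ 3 for every 2-element g and g ^ k = g for every element g of odd order (such k exist); an irreducible character χ is unchanged by g ↦ g ^ k exactly when it is fixed by the field automorphism that cubes the 2-power roots of unity and fixes the roots of unity of odd order. Then G has a normal 2-complement if and only if every member χ of the principal 2-block of odd degree with χ (g ^ k) = χ g for all g has degree one. -/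
theorem result {G : Type*} [Group G] [Finite G] (M : Ideal Cfsg.AlgInt) (hM : Cfsg.IsPModular 2 M) (k : ℕ) (hk₁ : ∀ g : G, (∃ j : ℕ, orderOf g = 2 ^ j) → g ^ k = g ^ 3) (hk₂ : ∀ g : G, Odd (orderOf g) → g ^ k = g) : Cfsg.HasNormalPComplement 2 G ↔ ∀ χ ∈ Cfsg.principalBlock M G, Odd (Cfsg.charDegree (χ : G → ℂ)) → (∀ g : G, (χ : G → ℂ) (g ^ k) = (χ : G → ℂ) g) → Cfsg.charDegree (χ : G → ℂ) = 1 := by
  classical
  have := Fintype.ofFinite G
  have := BlocksCore.isPrime hM
  have hk := BC84.coprime_of_cube hk₁ hk₂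
  set s := (Nat.card G).factorization 2 with hs
  have hper : ∀ g : G, g ^ k ^ 2 ^ s = g := BC84.pow_pow_of_cube hk₁ hk₂
  obtain ⟨nn, hn⟩ : ∃ n, 2 ^ s = n + 1 := ⟨2 ^ s - 1, (Nat.sub_add_cancel Nat.one_le_two_pow).symm⟩
  constructor
  · rintro ⟨P, N, hN, hc⟩ χ hχ hodd -
    have := Fintype.ofFinite N
    have hcard : ¬ 2 ∣ Nat.card N := by
      rw [← hc.index_eq_card]; exact P.not_dvd_index
    have hker := BC84.apply_eq_degree_of_mem_principalBlock hM N hcard χ hχ
    obtain ⟨ψ, -, hψ, hψval⟩ := CharCore.IsCharacter.exists_quotient (CharCore.irr_isCharacter χ) N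
      (fun x hx => hker ⟨x, hx⟩)
    obtain ⟨d, -, hdvd, hd⟩ := CharClifford.exists_degree_dvd_card (hψ χ.2)
    have hdeg : Cfsg.charDegree (χ : G → ℂ) = d := by
      have h1 := hψval 1
      rw [map_one, hd] at h1
      have h2 := BlocksCore.irr_one_eq χ
      exact_mod_cast h2.symm.trans (h1.trans rfl)
    have hcardQ : Nat.card (G ⧸ N) = 2 ^ s := by
      rw [← Subgroup.index_eq_card, hc.symm.index_eq_card, P.card_eq_multiplicity]
    rw [hcardQ] at hdvd
    obtain ⟨i, -, rfl⟩ := (Nat.dvd_prime_pow Nat.prime_two).mp hdvd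
    rw [hdeg] at hodd ⊢
    rcases Nat.eq_zero_or_pos i with rfl | hi
    · simp
    · exact absurd ((Nat.even_pow).mpr ⟨even_two, hi.ne'⟩) (Nat.not_even_iff_odd.mpr hodd)
  intro hlin
  obtain ⟨P⟩ : Nonempty (Sylow 2 G) := inferInstance
  refine BC84.hasNormalPComplement_of_extend P fun lam hlam => ?_
  have hHN : ∀ h ∈ (P : Subgroup G), ¬ 2 ∣ orderOf h → h ∈ (⊥ : Subgroup G) := by
    intro h hh hreg
    obtain ⟨j, hj⟩ := P.2 ⟨h, hh⟩
    exact Subgroup.mem_bot.mpr (orderOf_eq_one_iff.mp (Nat.eq_one_of_dvd_coprimes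
      (Nat.Coprime.pow_left _ (Nat.prime_two.coprime_iff_not_dvd.mpr hreg))
      (orderOf_dvd_of_pow_eq_one (show h ^ 2 ^ j = 1 from congrArg Subtype.val hj)) dvd_rfl))
  have := Fintype.ofFinite (⊥ : Subgroup G)
  let η : ↥(P : Subgroup G) → ℂ := fun x => (lam x : ℂ)
  have hηirr : Cfsg.IsIrrCharacter (P : Subgroup G) η := CharCore.isIrrCharacter_hom lam
  have h1deg : ¬ 2 ∣ Cfsg.charDegree ((BC84.oneChar (⊥ : Subgroup G)) : (⊥ : Subgroup G) → ℂ) := by
    simp [Cfsg.charDegree, BC84.oneChar]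
  have hS := BC84.principalPart_indFun_not_mem hM ⊥ (P : Subgroup G) bot_le hHN P.not_dvd_index
    (BC84.oneChar _) ((BC84.mem_principalBlock_iff _).mpr (BlocksCore.sameBlock_refl _)) h1deg η (by
      rintro ⟨n, hn⟩
      rw [Subgroup.mem_bot] at hn
      subst hn
      show (lam 1 : ℂ) = 1
      simp)
  let d : Cfsg.IrrCharacter G → ℂ := fun χ => (Cfsg.principalBlock M G).indicator 1 χ *
    (Cfsg.classInner (Cfsg.indFun (P : Subgroup G) η) (χ : G → ℂ) * (χ : G → ℂ) 1)
  have hm : ∀ χ : Cfsg.IrrCharacter G, ∃ m : ℕ, Cfsg.classInner (Cfsg.indFun (P : Subgroup G) η) (χ : G → ℂ) = m :=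
    fun χ => CharCore.IsCharacter.exists_classInner_irr_eq_natCast
      (CharInd.isCharacter_indFun _ (CharCore.IsIrrCharacter.isCharacter hηirr)) χ
  have hd : ∀ χ, Cfsg.MemLocalRing M (d χ) := fun χ => by
    obtain ⟨m, hm⟩ := hm χ
    simp only [d, hm, Set.indicator_apply, Pi.one_apply, BlocksCore.irr_one_eq]
    split_ifs
    · rw [one_mul, ← Nat.cast_mul]; exact BlocksCore.memLocalRing_natCast _
    · rw [zero_mul]; exact (BlocksCore.localRing M).zero_mem
  have hηk : ∀ x : (P : Subgroup G), η (x ^ k) = η x := fun x => by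
    obtain ⟨j, hj⟩ := P.2 x
    obtain ⟨i, -, hi⟩ := (Nat.dvd_prime_pow Nat.prime_two).mp (orderOf_dvd_of_pow_eq_one hj)
    have h3 : x ^ k = x ^ 3 := Subtype.ext (hk₁ (x : G) ⟨i, by rw [← hi, Subgroup.orderOf_coe]⟩)
    show (lam (x ^ k) : ℂ) = (lam x : ℂ)
    rw [h3, map_pow, show lam x ^ 3 = lam x ^ 2 * lam x from pow_succ _ 2, hlam, one_mul]
  have hinv : ∀ χ, d (BC84.galIrr hk χ) = d χ := fun χ => by
    have e1 : (Cfsg.principalBlock M G).indicator (1 : Cfsg.IrrCharacter G → ℂ) (BC84.galIrr hk χ) =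
        (Cfsg.principalBlock M G).indicator 1 χ := by
      simp only [Set.indicator_apply, BC84.galIrr_mem_principalBlock_iff hk (fun g => hn ▸ hper g), Pi.one_apply]
    have e2 : Cfsg.classInner (Cfsg.indFun (P : Subgroup G) η) ((BC84.galIrr hk χ : Cfsg.IrrCharacter G) : G → ℂ) =
        Cfsg.classInner (Cfsg.indFun (P : Subgroup G) η) (χ : G → ℂ) := by
      rw [CharInd.classInner_indFun_left _ _ (CharCore.irr_isClassFunction _),
        CharInd.classInner_indFun_left _ _ (CharCore.irr_isClassFunction _), Cfsg.classInner, Cfsg.classInner]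
      congr 1
      exact Fintype.sum_bijective (fun x : (P : Subgroup G) => x ^ k)
        (CharClifford.bijective_pow_of_coprime (Nat.Coprime.coprime_dvd_right (Subgroup.card_subgroup_dvd_card _) hk))
        _ _ fun x => by rw [hηk]; rfl
    simp only [d, e1, e2, BC84.galIrr_apply, one_pow]
  obtain ⟨χ, hfix, hne⟩ := BC84.exists_fixed_not_mem hM hk hper d hd hinv hS
  obtain ⟨m, hm⟩ := hm χ
  simp only [d, hm] at hne
  have hχB : χ ∈ Cfsg.principalBlock M G := by
    by_contra h
    rw [Set.indicator_of_notMem h, zero_mul] at hne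
    exact hne BlocksCore.memLocalIdeal_zero
  rw [Set.indicator_of_mem hχB, Pi.one_apply, one_mul, BlocksCore.irr_one_eq, ← Nat.cast_mul,
    BlocksCore.memLocalIdeal_natCast_iff hM] at hne
  have hone := hlin χ hχB (Nat.odd_iff.mpr (Nat.two_dvd_ne_zero.mp fun hd => hne (dvd_mul_of_dvd_right hd m))) hfix
  have hχ1 : (χ : G → ℂ) 1 = 1 := by rw [BlocksCore.irr_one_eq, hone, Nat.cast_one]
  obtain ⟨f, hf⟩ := CharCore.IsCharacter.exists_hom_of_degree_one (CharCore.irr_isCharacter χ) hχ1
  refine ⟨f, fun x => Units.ext ?_⟩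
  have hne0 : Cfsg.classInner (⟨η, hηirr⟩ : Cfsg.IrrCharacter (P : Subgroup G)).1 (fun x : (P : Subgroup G) => (χ : G → ℂ) x) ≠ 0 := by
    show Cfsg.classInner η _ ≠ 0
    rw [← CharInd.classInner_indFun_left (P : Subgroup G) η (CharCore.irr_isClassFunction χ), hm]
    exact Nat.cast_ne_zero.mpr fun h0 => hne (by rw [h0, zero_mul]; exact dvd_zero 2)
  let χP : Cfsg.IrrCharacter (P : Subgroup G) := ⟨fun x => (χ : G → ℂ) x, by
    have := CharCore.isIrrCharacter_hom (f.comp (P : Subgroup G).subtype)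
    rw [hf]; exact this⟩
  have heq : (⟨η, hηirr⟩ : Cfsg.IrrCharacter (P : Subgroup G)) = χP := by
    by_contra hne1
    exact hne0 (CharCore.classInner_irr_of_ne hne1)
  have h4 := congrFun (congrArg Subtype.val heq) x
  simp only [χP, η] at h4
  show (f (x : G) : ℂ) = (lam x : ℂ)
  rw [h4, hf]

end Cfsg.Agent.S4549
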