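import Cfsg.Statements.S4550
import Cfsg.Agent.BC84.TwoGaloisBlock
import Mathlib.Algebra.BigOperators.Ring.Nat

set_option autoImplicit false
open Cfsg

namespace Cfsg.Agent.S4550

/-- Let G be a finite group of even order and M a maximal ideal of the algebraic integers containing 2. Let k be a natural number with g ^ k = g ^ 3 for every 2-element g and g ^ k = g for every element g of odd order (such k exist); an irreducible character χ is unchanged by g ↦ g ^ k exactly when it is fixed by the field automorphism that cubes the 2-power roots of unity and fixes the roots of unity of odd order. Then the number of members χ of the principal 2-block of odd degree with χ (g ^ k) = χ g for all g is even. -/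
theorem result {G : Type*} [Group G] [Finite G] (M : Ideal Cfsg.AlgInt) (hM : Cfsg.IsPModular 2 M) (hev : Even (Nat.card G)) (k : ℕ) (hk₁ : ∀ g : G, (∃ j : ℕ, orderOf g = 2 ^ j) → g ^ k = g ^ 3) (hk₂ : ∀ g : G, Odd (orderOf g) → g ^ k = g) : Even (Nat.card {χ : Cfsg.IrrCharacter G // χ ∈ Cfsg.principalBlock M G ∧ Odd (Cfsg.charDegree (χ : G → ℂ)) ∧ ∀ g : G, (χ : G → ℂ) (g ^ k) = (χ : G → ℂ) g}) := by
  classical
  have := Fintype.ofFinite G
  have := BlocksCore.isPrime hM
  have hk := BC84.coprime_of_cube hk₁ hk₂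
  set s := (Nat.card G).factorization 2 with hs
  have hper : ∀ g : G, g ^ k ^ 2 ^ s = g := BC84.pow_pow_of_cube hk₁ hk₂
  obtain ⟨n, hn⟩ : ∃ n, 2 ^ s = n + 1 := ⟨2 ^ s - 1, (Nat.sub_add_cancel Nat.one_le_two_pow).symm⟩
  set B := Cfsg.principalBlock M G with hBdef
  have hB : Cfsg.IsPBlock M B := BlocksCore.isPBlock_blockOf (BC84.oneChar G)
  let d : Cfsg.IrrCharacter G → ℂ := fun χ => if χ ∈ B then ((Cfsg.charDegree (χ : G → ℂ) ^ 2 : ℕ) : ℂ) else 0
  have hd : ∀ χ, Cfsg.MemLocalRing M (d χ) := fun χ => by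
    simp only [d]
    split_ifs
    · exact BlocksCore.memLocalRing_natCast _
    · exact (BlocksCore.localRing M).zero_mem
  have hinv : ∀ χ, d (BC84.galIrr hk χ) = d χ := fun χ => by
    simp only [d, BC84.charDegree_galIrr, hBdef, BC84.galIrr_mem_principalBlock_iff hk (fun g => hn ▸ hper g)]
  have hsum : Cfsg.MemLocalIdeal M (∑ χ, d χ) := by
    have h := BlocksCore.blockCoeff_eq_sum B (1 : G)
    have hmem := BlocksCore.memLocalIdeal_mul_right
      ((BlocksCore.memLocalIdeal_natCast_iff hM (Nat.card G)).mpr (even_iff_two_dvd.mp hev))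
      ((BlocksCore.isIntClassFun_blockCoeff hM hB).2 1)
    rw [h, ← mul_assoc, mul_inv_cancel₀ (Nat.cast_ne_zero.mpr Nat.card_pos.ne'), one_mul] at hmem
    convert hmem using 2 with χ
    simp only [d, inv_one, BlocksCore.irr_one_eq, Set.indicator_apply, Pi.one_apply, Nat.cast_pow]
    split_ifs <;> ring
  have h := BC84.sum_congr_fixed hM (BC84.galIrr hk) (BC84.iterate_galIrr_eq_id hk hper) d hd
    (fun χ => by rw [hinv, sub_self]; exact BlocksCore.memLocalIdeal_zero)
  have h2 := BlocksCore.memLocalIdeal_sub hsum h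
  rw [sub_sub_cancel] at h2
  set S := (Finset.univ.filter (fun χ => BC84.galIrr hk χ = χ)).filter (· ∈ B) with hSdef
  have h3 : (∑ χ ∈ Finset.univ.filter (fun χ => BC84.galIrr hk χ = χ), d χ) =
      ((∑ χ ∈ S, Cfsg.charDegree (χ : G → ℂ) ^ 2 : ℕ) : ℂ) := by
    rw [hSdef, Nat.cast_sum, Finset.sum_filter (fun χ => χ ∈ B)]
  rw [h3, BlocksCore.memLocalIdeal_natCast_iff hM, ← even_iff_two_dvd] at h2
  have h4 : Even (S.filter (fun χ : Cfsg.IrrCharacter G => Odd (Cfsg.charDegree (χ : G → ℂ) ^ 2))).card :=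
    (Finset.even_sum_iff_even_card_odd _).mp h2
  rw [hSdef] at h4
  have e : ∀ χ : Cfsg.IrrCharacter G, BC84.galIrr hk χ = χ ↔ ∀ g : G, (χ : G → ℂ) (g ^ k) = (χ : G → ℂ) g :=
    fun χ => ⟨fun h g => congrFun (congrArg Subtype.val h) g, fun h => Subtype.ext (funext h)⟩
  rw [Nat.card_eq_fintype_card, Fintype.card_subtype]
  convert h4 using 2
  ext χ
  simp only [Finset.mem_filter, Finset.mem_univ, true_and, e, Nat.odd_pow_iff two_ne_zero, hBdef]
  tauto

end Cfsg.Agent.S4550
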