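import Cfsg.Statements.S4551
import Cfsg.Agent.BC84.Isomorphic
-- import your own Cfsg.Agent.* helpers here

set_option autoImplicit false
open Cfsg

namespace Cfsg.Agent.S4551

/-- Let N be a normal subgroup of the finite group G of index prime to p, P a Sylow p-subgroup of G with G = N·C_G(P), and M a maximal ideal of the algebraic integers containing p. Then restriction to N is a bijection from the principal p-block of G onto the principal p-block of N: every member of the principal block of G restricts to a member of the principal block of N, and every member of the principal block of N is the restriction of exactly one member of the principal block of G. -/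
theorem result {G : Type*} [Group G] [Finite G] (p : ℕ) [Fact p.Prime] (M : Ideal Cfsg.AlgInt) (hM : Cfsg.IsPModular p M) (N : Subgroup G) [N.Normal] (hidx : ¬ p ∣ N.index) (P : Sylow p G) (hsup : N ⊔ Subgroup.centralizer ((P : Subgroup G) : Set G) = ⊤) : (∀ χ ∈ Cfsg.principalBlock M G, ∃ θ ∈ Cfsg.principalBlock M ↥N, ∀ n : N, (χ : G → ℂ) n = (θ : N → ℂ) n) ∧ ∀ θ ∈ Cfsg.principalBlock M ↥N, ∃! χ : Cfsg.IrrCharacter G, χ ∈ Cfsg.principalBlock M G ∧ ∀ n : N, (χ : G → ℂ) n = (θ : N → ℂ) n := by
  classical
  have := Fintype.ofFinite G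
  have := Fintype.ofFinite N
  constructor
  · intro χ hχ
    obtain ⟨θ, hθ⟩ := CharClifford.exists_constituent
      (CharCore.isCharacter_restrict (CharCore.irr_isCharacter χ) N) (BlocksCore.irr_one_ne_zero χ)
    have hB := BC84.mem_principalBlock_of_constituent hM χ θ hθ hχ
    obtain ⟨χ₀, h0, hres⟩ := BC84.exists_ext hM N hidx P hsup θ hB
    refine ⟨θ, hB, ?_⟩
    rw [BC84.eq_of_over hM N hidx P hsup θ h0 hres hχ hθ]
    exact hres
  · intro θ hθ
    obtain ⟨χ₀, h0, hres⟩ := BC84.exists_ext hM N hidx P hsup θ hθ
    refine ⟨χ₀, ⟨h0, hres⟩, ?_⟩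
    rintro χ ⟨hχ, hχres⟩
    refine BC84.eq_of_over hM N hidx P hsup θ h0 hres hχ ?_
    rw [funext hχres, CharCore.classInner_irr_self]
    exact one_ne_zero


end Cfsg.Agent.S4551
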