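import Cfsg.Statements.S4639
import Cfsg.Agent.BlkChar.FreeAbelian.Counts

set_option autoImplicit false
open Cfsg

namespace Cfsg.Agent.S4639

/-- Let B be a block of the finite group G relative to a maximal ideal M of the algebraic integers containing the prime p, with a nontrivial commutative defect group P. Let c be a block of C_G(P) inducing B, T the stabilizer of c in N_G(P) and e the index of C_G(P) in T. Suppose that T/C_G(P) is commutative (all commutators of elements of T lie in C_G(P)) and acts freely on the non-identity elements of P (an element of T fixing a non-identity element of P under conjugation lies in C_G(P)). Then B has at most e + (#P − 1)/e irreducible characters and p-regular rank at most e; equality holds in the first bound exactly when it holds in the second; and both equalities hold when e ≤ 3. -/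
theorem result {G : Type*} [Group G] [Finite G] (p : ℕ) [Fact p.Prime] (M : Ideal Cfsg.AlgInt) (hM : Cfsg.IsPModular p M) (B : Set (Cfsg.IrrCharacter G)) (hB : Cfsg.IsPBlock M B) (P : Subgroup G) (hPD : Cfsg.IsDefectGroup p M B P) (hP1 : P ≠ ⊥) (hPab : ∀ x ∈ P, ∀ y ∈ P, x * y = y * x) (c : Set (Cfsg.IrrCharacter (Subgroup.centralizer (P : Set G)))) (hc : Cfsg.IsInducedBlock M (Subgroup.centralizer (P : Set G)) c B) (T : Subgroup G) (hT : ∀ g : G, g ∈ T ↔ (g ∈ Subgroup.normalizer (P : Set G) ∧ Cfsg.StabilizesBlock (Subgroup.centralizer (P : Set G)) c g)) (e : ℕ) (he : (Subgroup.centralizer (P : Set G)).relIndex T = e) (hEab : ∀ g ∈ T, ∀ h ∈ T, g * h * g⁻¹ * h⁻¹ ∈ Subgroup.centralizer (P : Set G)) (hfree : ∀ g ∈ T, ∀ x ∈ P, x ≠ 1 → g * x * g⁻¹ = x → g ∈ Subgroup.centralizer (P : Set G)) : Nat.card B ≤ e + (Nat.card P - 1) / e ∧ Cfsg.blockRank p B ≤ e ∧ (Nat.card B = e + (Nat.card P - 1) / e ↔ Cfsg.blockRank p B = e) ∧ (e ≤ 3 → Nat.card B = e + (Nat.card P - 1) / e ∧ Cfsg.blockRank p B = e) := by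
  have := Fintype.ofFinite G
  have := BlocksCore.isPrime hM
  have hmax := BC85.isMaximal_of_induced hM hPD hPab hc
  obtain rfl : T = BC85.stabT P c := SetLike.ext fun g => (hT g).trans BC85.mem_stabT_iff.symm
  subst he
  obtain ⟨hle, hk, heq⟩ := BlkChar.FreeAbelian.Counts.card_bound hM hmax hPab hfree hB hP1
  set e := (Subgroup.centralizer (P : Set G)).relIndex (BC85.stabT P c)
  have he0 : 0 < e := Nat.pos_of_ne_zero Subgroup.index_ne_zero_of_finite
  have hdiv : Nat.card B = Cfsg.blockRank p B + (Nat.card P - 1) / e := by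
    have hd : e ∣ Nat.card P - 1 := (Nat.dvd_add_right (dvd_mul_right _ _)).mp (Dvd.intro _ hk)
    refine Nat.eq_of_mul_eq_mul_left he0 ?_
    rw [mul_add, Nat.mul_div_cancel' hd]
    exact hk
  refine ⟨by omega, hle, by omega, fun h3 => ?_⟩
  have := heq h3
  omega

end Cfsg.Agent.S4639
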