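import Cfsg.Statements.S4553
import Cfsg.Agent.BC84.ResidualExtension
-- import your own Cfsg.Agent.* helpers here

set_option autoImplicit false
open Cfsg

namespace Cfsg.Agent.S4553

/-- Let G be a finite group, p a prime, P a Sylow p-subgroup, N the p-residual of G (the subgroup generated by the elements of order prime to p, the smallest normal subgroup with G/N a p-group), and M a maximal ideal of the algebraic integers containing p; suppose G/N is cyclic and nontrivial. Let k be a natural number with g ^ k = g ^ (1 + p) for every p-element g and g ^ k = g for every element g of order prime to p (so that χ (g ^ k) is the image of χ g under the field automorphism that raises p-power roots of unity to the power 1 + p and fixes the roots of unity of order prime to p). Then the number of members χ of the principal block of G of degree prime to p with χ (g ^ k) = χ g for all g equals p times the number of members θ of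 the principal block of N of degree prime to p that are invariant under conjugation by P and satisfy θ (n ^ k) = θ n for all n. -/
theorem result {G : Type*} [Group G] [Finite G] (p : ℕ) [Fact p.Prime] (M : Ideal Cfsg.AlgInt) (hM : Cfsg.IsPModular p M) (P : Sylow p G) (N : Subgroup G) [hN : N.Normal] (hNres : N = Cfsg.pResidual p G) (hcyc : IsCyclic (G ⧸ N)) (hnt : N ≠ ⊤) (k : ℕ) (hk₁ : ∀ g : G, (∃ j : ℕ, orderOf g = p ^ j) → g ^ k = g ^ (1 + p)) (hk₂ : ∀ g : G, Nat.Coprime (orderOf g) p → g ^ k = g) : Nat.card {χ : Cfsg.IrrCharacter G // χ ∈ Cfsg.principalBlock M G ∧ ¬ p ∣ Cfsg.charDegree (χ : G → ℂ) ∧ ∀ g : G, (χ : G → ℂ) (g ^ k) = (χ : G → ℂ) g} = p * Nat.card {θ : Cfsg.IrrCharacter ↥N // θ ∈ Cfsg.principalBlock M ↥N ∧ ¬ p ∣ Cfsg.charDegree (θ : ↥N → ℂ) ∧ (∀ x ∈ (P : Subgroup G), ∀ n : ↥N, (θ : ↥N → ℂ) ⟨x * n * x⁻¹, hN.conj_mem n n.2 x⟩ = (θ : ↥N → ℂ) n) ∧ ∀ n : ↥N, (θ : ↥N → ℂ) (n ^ k) = (θ : ↥N → ℂ) n} := by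
  classical
  have := BlocksCore.isPrime hM
  have hpp : p.Prime := Fact.out
  have := Fintype.ofFinite G
  have := Fintype.ofFinite N
  have hq : IsPGroup p (G ⧸ N) := BC84.Residual.exists_index_eq hNres
  obtain ⟨a, ha⟩ := IsPGroup.iff_card.mp hq
  rw [← Subgroup.index_eq_card] at ha
  have ha0 : a ≠ 0 := fun h => hnt (Subgroup.index_eq_one.mp (by rw [ha, h, pow_zero]))
  have hreg : ∀ g : G, ¬ p ∣ orderOf g → g ∈ N := fun g => BC84.Residual.regular_mem hNres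
  have hk : k.Coprime (Nat.card G) := by
    refine Nat.coprime_of_dvd fun q hq' hqk hqG => ?_
    have := Fact.mk hq'
    obtain ⟨g, hg⟩ := exists_prime_orderOf_dvd_card' q hqG
    have h1 : g ^ k = 1 := orderOf_dvd_iff_pow_eq_one.mp (hg ▸ hqk)
    by_cases hqp : q = p
    · rw [hk₁ g ⟨1, by rw [hg, hqp, pow_one]⟩] at h1
      have := orderOf_dvd_of_pow_eq_one h1
      rw [hg, hqp, Nat.dvd_add_left dvd_rfl] at this
      exact hpp.one_lt.ne' (Nat.dvd_one.mp this)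
    · rw [hk₂ g (by rw [hg]; exact (Nat.coprime_primes hq' hpp).mpr hqp)] at h1
      rw [h1, orderOf_one] at hg
      exact hq'.ne_one hg.symm
  have hG : ∀ g : G, ∃ x ∈ (P : Subgroup G), x⁻¹ * g ∈ N := by
    intro g
    have htop : (P : Subgroup G) ⊔ N = ⊤ := by
      rw [← Subgroup.index_eq_one]
      refine Nat.eq_one_of_dvd_coprimes (a := (P : Subgroup G).index) (b := N.index) ?_
        (Subgroup.index_dvd_of_le le_sup_left) (Subgroup.index_dvd_of_le le_sup_right)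
      rw [ha]
      exact Nat.Coprime.pow_right a ((Nat.Prime.coprime_iff_not_dvd hpp).mpr P.not_dvd_index).symm
    obtain ⟨x, hx, n, hn, rfl⟩ := Subgroup.mem_sup_of_normal_right.mp (htop ▸ Subgroup.mem_top g : g ∈ (P : Subgroup G) ⊔ N)
    exact ⟨x, hx, by simpa using hn⟩
  set R := {θ : Cfsg.IrrCharacter ↥N // θ ∈ Cfsg.principalBlock M ↥N ∧ ¬ p ∣ Cfsg.charDegree (θ : ↥N → ℂ) ∧
    (∀ x ∈ (P : Subgroup G), ∀ n : ↥N, (θ : ↥N → ℂ) ⟨x * n * x⁻¹, hN.conj_mem n n.2 x⟩ = (θ : ↥N → ℂ) n) ∧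
      ∀ n : ↥N, (θ : ↥N → ℂ) (n ^ k) = (θ : ↥N → ℂ) n} with hR
  have hinv : ∀ (θ : R) (g : G) (n : N), (θ.1 : N → ℂ) ⟨g * n * g⁻¹, hN.conj_mem n n.2 g⟩ = (θ.1 : N → ℂ) n := by
    intro θ g n
    obtain ⟨x, hx, hm⟩ := hG g
    set m : N := ⟨x⁻¹ * g, hm⟩
    have h1 := θ.2.2.2.1 x hx (m * n * m⁻¹)
    rw [CharCore.irr_isClassFunction θ.1 n m] at h1
    rw [← h1]
    refine congrArg _ (Subtype.ext ?_)
    show g * n * g⁻¹ = x * (x⁻¹ * g * n * (x⁻¹ * g)⁻¹) * x⁻¹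
    group
  have hdeg : ∀ θ : R, (θ.1 : N → ℂ) 1 = (Cfsg.charDegree (θ.1 : N → ℂ) : ℂ) := fun θ => BlocksCore.irr_one_eq θ.1
  have hcopd : ∀ θ : R, (Cfsg.charDegree (θ.1 : N → ℂ)).Coprime N.index := fun θ => by
    rw [ha]; exact Nat.Coprime.pow_right a ((Nat.Prime.coprime_iff_not_dvd hpp).mpr θ.2.2.1).symm
  have hdo : ∀ θ : R, Nat.Coprime N.index (Cfsg.detOrder (θ.1 : N → ℂ) * Cfsg.charDegree (θ.1 : N → ℂ)) := by
    intro θ
    refine Nat.Coprime.mul_right ?_ (hcopd θ).symm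
    rw [ha, CharDeep.Ext.detOrder_eq]
    exact Nat.Coprime.pow_left a ((Nat.Prime.coprime_iff_not_dvd hpp).mpr (BC84.Residual.not_dvd_orderOf_hom hNres _))
  choose ext hext hextu using fun θ : R => CharDeep.Ext.exists_ext_detOrder N θ.1.2 (hinv θ) (hdeg θ) (hdo θ)
  have hfix : ∀ (θ : R) (g : G), ext θ (g ^ k) = ext θ g := by
    intro θ g
    have h1 : Cfsg.IsIrrCharacter G (fun g => ext θ (g ^ k)) := BC84.isIrrCharacter_comp_pow (hext θ).1 hk
    have h2 := hextu θ _ h1 (fun n => by rw [← θ.2.2.2.2 n, ← (hext θ).2.1, Subgroup.coe_pow]) (by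
      rw [CharDeep.Ext.detOrder_eq, BC84.Residual.detHom_comp_pow
        (CharCore.IsIrrCharacter.isCharacter (hext θ).1) (CharCore.IsIrrCharacter.isCharacter h1)]
      refine Nat.Coprime.coprime_dvd_right (orderOf_pow_dvd k) ?_
      rw [← CharDeep.Ext.detOrder_eq, (hext θ).2.2]
      exact (hdo θ).coprime_dvd_right (dvd_mul_right _ _))
    exact congrFun h2 g
  set Lam := {f : G →* ℂˣ // (∀ n : N, f n = 1) ∧ ∀ g, f g ^ p = 1} with hLam
  have hfk : ∀ f : G →* ℂˣ, (∀ n : N, f n = 1) → ((∀ g, f (g ^ k) = f g) ↔ ∀ g, f g ^ p = 1) := by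
    intro f hf
    have key : ∀ g, ∃ x : G, (∃ j : ℕ, orderOf x = p ^ j) ∧ f g = f x ∧ f (g ^ k) = f (x ^ k) := by
      intro g
      obtain ⟨y, hxy, hc, hxp, hy⟩ := BlocksDefect.pp_spec (p := p) g
      refine ⟨_, hxp, ?_, ?_⟩
      · conv_lhs => rw [← hxy]
        rw [map_mul, hf ⟨y, hreg y hy⟩, mul_one]
      · conv_lhs => rw [← hxy]
        rw [map_pow, map_pow, map_mul, hf ⟨y, hreg y hy⟩, mul_one]
    constructor
    · intro h g
      obtain ⟨x, hx, e1, -⟩ := key g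
      have h2 := h x
      rw [hk₁ x hx, map_pow, pow_add, pow_one, mul_eq_left] at h2
      rw [e1, h2]
    · intro h g
      obtain ⟨x, hx, e1, e2⟩ := key g
      rw [e2, hk₁ x hx, map_pow, pow_add, pow_one, h, mul_one, e1]
  have hmul : ∀ (f : Lam) (θ : R), Cfsg.IsIrrCharacter G (fun g => (f.1 g : ℂ) * ext θ g) :=
    fun f θ => CharCore.isIrrCharacter_hom_mul f.1 (hext θ).1
  set L := {χ : Cfsg.IrrCharacter G // χ ∈ Cfsg.principalBlock M G ∧ ¬ p ∣ Cfsg.charDegree (χ : G → ℂ) ∧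
    ∀ g : G, (χ : G → ℂ) (g ^ k) = (χ : G → ℂ) g} with hL
  have hres : ∀ (f : Lam) (θ : R) (n : N), (f.1 (n : G) : ℂ) * ext θ n = (θ.1 : N → ℂ) n := fun f θ n => by
    rw [f.2.1 n, Units.val_one, one_mul, (hext θ).2.1]
  let F : Lam × R → L := fun fθ => ⟨⟨_, hmul fθ.1 fθ.2⟩, by
    refine ⟨BC84.Residual.mem_principalBlock_of_over hM N hreg _ fθ.2.1 ?_ fθ.2.2.1, ?_, fun g => ?_⟩
    · rw [show (fun n : N => (fθ.1.1 (n : G) : ℂ) * ext fθ.2 n) = (fθ.2.1 : N → ℂ) from funext (hres fθ.1 fθ.2),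
        CharCore.classInner_irr_self]
      exact one_ne_zero
    · convert fθ.2.2.2.1 using 2
      unfold Cfsg.charDegree
      exact congrArg (fun z : ℂ => ⌊z.re⌋₊) (hres fθ.1 fθ.2 1)
    · show (fθ.1.1 (g ^ k) : ℂ) * ext fθ.2 (g ^ k) = _
      rw [(hfk _ fθ.1.2.1).mpr fθ.1.2.2 g, hfix]⟩
  have hinj : Function.Injective F := by
    rintro ⟨f, θ⟩ ⟨f', θ'⟩ h
    have h1 : ∀ g, (f.1 g : ℂ) * ext θ g = (f'.1 g : ℂ) * ext θ' g := fun g =>
      congrFun (congrArg (fun χ : L => ((χ.1 : Cfsg.IrrCharacter G) : G → ℂ)) h) g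
    have hθ : θ = θ' := Subtype.ext (Subtype.ext (funext fun n => by rw [← hres f θ n, ← hres f' θ' n, h1]))
    subst hθ
    refine Prod.ext (Subtype.ext ?_) rfl
    have hfc := CharCore.IsIrrCharacter.isCharacter (hext θ).1
    have hd1 : ext θ 1 = (Cfsg.charDegree (θ.1 : N → ℂ) : ℂ) := by
      rw [← hdeg θ]; exact (hext θ).2.1 1
    have h2 := congrArg CharDeep.Ext.detHom (funext h1)
    rw [CharDeep.Ext.detHom_hom_mul f.1 hfc hd1, CharDeep.Ext.detHom_hom_mul f'.1 hfc hd1, mul_right_cancel_iff] at h2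
    ext g
    refine congrArg Units.val ?_
    have h3 : f.1 g ^ Cfsg.charDegree (θ.1 : N → ℂ) = f'.1 g ^ Cfsg.charDegree (θ.1 : N → ℂ) := by
      simpa using congrArg (fun φ : G →* ℂˣ => φ g) h2
    have hcp : (Cfsg.charDegree (θ.1 : N → ℂ)).Coprime p :=
      ((Nat.Prime.coprime_iff_not_dvd hpp).mpr θ.2.2.1).symm
    have h4 := pow_gcd_eq_one.mpr ⟨(by rw [mul_pow, inv_pow, h3, mul_inv_cancel] :
      (f.1 g * (f'.1 g)⁻¹) ^ Cfsg.charDegree (θ.1 : N → ℂ) = 1)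
      , (by rw [mul_pow, inv_pow, f.2.2, f'.2.2, inv_one, one_mul] : (f.1 g * (f'.1 g)⁻¹) ^ p = 1)⟩
    rwa [hcp, pow_one, mul_inv_eq_one] at h4
  have hsurj : Function.Surjective F := by
    intro χ
    obtain ⟨hB, hdp, hσ⟩ := χ.2
    have hcop : (Cfsg.charDegree ((χ.1 : Cfsg.IrrCharacter G) : G → ℂ)).Coprime N.index := by
      rw [ha]; exact Nat.Coprime.pow_right a ((Nat.Prime.coprime_iff_not_dvd hpp).mpr hdp).symm
    let θ₀ : Cfsg.IrrCharacter N := ⟨_, BlkChar.isIrrCharacter_restrict_of_coprime N χ.1 hcop⟩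
    have hover : Cfsg.classInner (fun n : N => ((χ.1 : Cfsg.IrrCharacter G) : G → ℂ) n) (θ₀ : N → ℂ) ≠ 0 := by
      show Cfsg.classInner (θ₀ : N → ℂ) (θ₀ : N → ℂ) ≠ 0
      rw [CharCore.classInner_irr_self]; exact one_ne_zero
    let θ : R := ⟨θ₀, BC84.mem_principalBlock_of_constituent hM χ.1 θ₀ hover hB, hdp,
      fun x _ n => CharCore.irr_isClassFunction χ.1 (n : G) x, fun n => by
        show ((χ.1 : Cfsg.IrrCharacter G) : G → ℂ) ((n ^ k : N) : G) = _
        rw [Subgroup.coe_pow]; exact hσ _⟩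
    obtain ⟨f, hf, hfe⟩ := BC84.exists_linear_of_restrict_eq N ⟨ext θ, (hext θ).1⟩ χ.1 θ.1 (hext θ).2.1 (fun n => rfl)
    have hfσ : ∀ g, f (g ^ k) = f g := by
      have h1 : (fun g => (f (g ^ k) : ℂ) * ext θ g) = fun g => (f g : ℂ) * ext θ g := funext fun g => by
        have := hσ g
        rw [hfe, hfe] at this
        exact (congrArg (fun z => (f (g ^ k) : ℂ) * z) (hfix θ g).symm).trans this
      have hd1 : ext θ 1 = (Cfsg.charDegree (θ.1 : N → ℂ) : ℂ) := by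
        rw [← hdeg θ]; exact (hext θ).2.1 1
      have hfc := CharCore.IsIrrCharacter.isCharacter (hext θ).1
      have h2 := congrArg CharDeep.Ext.detHom h1
      rw [show (fun g => (f (g ^ k) : ℂ) * ext θ g) = (fun g => ((f ^ k) g : ℂ) * ext θ g) from funext fun g => by
        rw [map_pow]; rfl, CharDeep.Ext.detHom_hom_mul (f ^ k) hfc hd1, CharDeep.Ext.detHom_hom_mul f hfc hd1,
        mul_right_cancel_iff] at h2
      intro g
      have h3 : (f g ^ k) ^ Cfsg.charDegree (θ.1 : N → ℂ) = f g ^ Cfsg.charDegree (θ.1 : N → ℂ) := by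
        simpa using congrArg (fun φ : G →* ℂˣ => φ g) h2
      have h5 : (f g ^ k * (f g)⁻¹) ^ N.index = 1 := by
        rw [mul_pow, inv_pow, ← pow_mul, mul_comm k, pow_mul, ← map_pow f g N.index,
          hf ⟨g ^ N.index, Subgroup.pow_index_mem N g⟩, one_pow, inv_one, one_mul]
      have h4 := pow_gcd_eq_one.mpr ⟨(by rw [mul_pow, inv_pow, h3, mul_inv_cancel] :
        (f g ^ k * (f g)⁻¹) ^ Cfsg.charDegree (θ.1 : N → ℂ) = 1), h5⟩
      rw [hcopd θ, pow_one, mul_inv_eq_one] at h4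
      rw [map_pow, h4]
    exact ⟨⟨⟨f, hf, (hfk f hf).mp hfσ⟩, θ⟩, Subtype.ext (Subtype.ext (funext fun g => (hfe g).symm))⟩
  have hLamcard : Nat.card Lam = p := by
    obtain ⟨q₀, hq₀⟩ := hcyc.exists_generator
    obtain ⟨g₀, rfl⟩ := QuotientGroup.mk_surjective q₀
    have hord : p ∣ orderOf (g₀ : G ⧸ N) := by
      rw [orderOf_eq_card_of_forall_mem_zpowers hq₀, ← Subgroup.index_eq_card, ha]
      exact dvd_pow_self p ha0
    have : NeZero p := ⟨hpp.ne_zero⟩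
    rw [show p = Nat.card (rootsOfUnity p ℂ) by
      exact (HasEnoughRootsOfUnity.natCard_rootsOfUnity ℂ p).symm]
    refine Nat.card_congr (Equiv.ofBijective (fun f : Lam => (⟨f.1 g₀, f.2.2 g₀⟩ : rootsOfUnity p ℂ)) ⟨?_, ?_⟩)
    · intro f f' h
      refine Subtype.ext (MonoidHom.ext fun g => ?_)
      obtain ⟨j, hj⟩ := hq₀ (g : G ⧸ N)
      have hj' : (g₀ ^ j)⁻¹ * g ∈ N := QuotientGroup.eq.mp (by rw [QuotientGroup.mk_zpow]; exact hj)
      have e : f.1 g₀ = f'.1 g₀ := congrArg (fun z : rootsOfUnity p ℂ => (z : ℂˣ)) h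
      rw [show g = g₀ ^ j * ((g₀ ^ j)⁻¹ * g) by group, map_mul f.1 (g₀ ^ j), map_mul f'.1 (g₀ ^ j), f.2.1 ⟨_, hj'⟩, f'.2.1 ⟨_, hj'⟩,
        map_zpow, map_zpow, e]
    · intro z
      have hz : orderOf (z : ℂˣ) ∣ orderOf (g₀ : G ⧸ N) := (orderOf_dvd_of_pow_eq_one z.2).trans hord
      refine ⟨⟨(monoidHomOfForallMemZpowers hq₀ hz).comp (QuotientGroup.mk' N), fun n => ?_, fun g => ?_⟩,
        Subtype.ext (monoidHomOfForallMemZpowers_apply_gen hq₀ hz)⟩
      · show monoidHomOfForallMemZpowers hq₀ hz (QuotientGroup.mk (n : G)) = 1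
        rw [(QuotientGroup.eq_one_iff _).mpr n.2, map_one]
      · show monoidHomOfForallMemZpowers hq₀ hz (QuotientGroup.mk g) ^ p = 1
        obtain ⟨j, hj⟩ := hq₀ (g : G ⧸ N)
        rw [← hj, map_zpow, monoidHomOfForallMemZpowers_apply_gen hq₀ hz, ← zpow_natCast, ← zpow_mul, mul_comm,
          zpow_mul, zpow_natCast, z.2, one_zpow]
  show Nat.card L = p * Nat.card R
  rw [← Nat.card_eq_of_bijective F ⟨hinj, hsurj⟩, Nat.card_prod, hLamcard]


end Cfsg.Agent.S4553
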