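import Cfsg.Statements.S4558
import Cfsg.Agent.BC84.PrincipalTwo
import Cfsg.Agent.Blocks88.Modular
-- import your own Cfsg.Agent.* helpers here

set_option autoImplicit false
open Cfsg

namespace Cfsg.Agent.S4558

/-- Let χ be a character of the finite group G and g an element of p-power order for the prime p. If χ g = 0, then p divides the degree of χ. -/
theorem result {G : Type*} [Group G] [Finite G] (p : ℕ) [Fact p.Prime] (χ : G → ℂ) (hχ : Cfsg.IsCharacter G χ) (g : G) (hg : ∃ j : ℕ, orderOf g = p ^ j) (h0 : χ g = 0) : p ∣ Cfsg.charDegree χ := by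
  classical
  have := Fintype.ofFinite G
  have hpp := (Fact.out : p.Prime)
  obtain ⟨M, hM⟩ := Blocks88.exists_isPModular hpp
  have := BlocksCore.isPrime hM
  obtain ⟨j, hj⟩ := hg
  have h := BC84.congr_pow hM hχ (g := g) (j := 0) (a := j) (by
    rw [hj, Nat.ModEq, zero_mul, Nat.zero_mod, Nat.mod_self])
  rw [pow_zero, h0, sub_zero] at h
  obtain ⟨n, ρ, rfl⟩ := hχ
  have h1 : ρ.character 1 = (n : ℂ) := by simp
  rw [h1, BlocksCore.memLocalIdeal_natCast_iff hM] at h
  simp only [Cfsg.charDegree, h1]
  simpa using h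


end Cfsg.Agent.S4558
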