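import Cfsg.Statements.S4560
import Cfsg.Agent.BC84.AltCharacters
-- import your own Cfsg.Agent.* helpers here

set_option autoImplicit false
open Cfsg

namespace Cfsg.Agent.S4560

/-- For n ≥ 7 the alternating group on n letters has an irreducible character that vanishes at some 2-element and is the restriction of an irreducible character of the symmetric group, and an irreducible character that vanishes at some element of order 3 and is the restriction of an irreducible character of the symmetric group. -/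
theorem result (n : ℕ) (hn : 7 ≤ n) : (∃ χ : Cfsg.IrrCharacter (alternatingGroup (Fin n)), (∃ x : alternatingGroup (Fin n), (∃ j : ℕ, orderOf x = 2 ^ j) ∧ (χ : alternatingGroup (Fin n) → ℂ) x = 0) ∧ ∃ ψ : Cfsg.IrrCharacter (Equiv.Perm (Fin n)), ∀ x : alternatingGroup (Fin n), (ψ : Equiv.Perm (Fin n) → ℂ) x = (χ : alternatingGroup (Fin n) → ℂ) x) ∧ (∃ χ : Cfsg.IrrCharacter (alternatingGroup (Fin n)), (∃ y : alternatingGroup (Fin n), orderOf y = 3 ∧ (χ : alternatingGroup (Fin n) → ℂ) y = 0) ∧ ∃ ψ : Cfsg.IrrCharacter (Equiv.Perm (Fin n)), ∀ x : alternatingGroup (Fin n), (ψ : Equiv.Perm (Fin n) → ℂ) x = (χ : alternatingGroup (Fin n) → ℂ) x) := by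
  classical
  have hirr := BC84.AltChar.irr (n := n) (by omega)
  have mk : ∀ φ ∈ [BC84.AltChar.stdFun (n := n), BC84.AltChar.twoFun, BC84.AltChar.extFun],
      ∀ x : alternatingGroup (Fin n), φ (x : Equiv.Perm (Fin n)) = 0 →
      ∃ χ : Cfsg.IrrCharacter (alternatingGroup (Fin n)), (χ : alternatingGroup (Fin n) → ℂ) x = 0 ∧
        ∃ ψ : Cfsg.IrrCharacter (Equiv.Perm (Fin n)), ∀ x : alternatingGroup (Fin n),
          (ψ : Equiv.Perm (Fin n) → ℂ) x = (χ : alternatingGroup (Fin n) → ℂ) x :=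
    fun φ hφ x hx => ⟨⟨_, (hirr φ hφ).2⟩, hx, ⟨φ, (hirr φ hφ).1⟩, fun _ => rfl⟩
  refine ⟨?_, ?_⟩
  · have key : ∀ (m : Multiset ℕ) (f : ℕ) (φ : Equiv.Perm (Fin n) → ℂ),
        φ ∈ [BC84.AltChar.stdFun (n := n), BC84.AltChar.twoFun, BC84.AltChar.extFun] →
        (∀ a ∈ m, a ∣ 8 ∧ 2 ≤ a) → m.sum + f = n → Even (m.sum + m.card) →
        (∀ g : Equiv.Perm (Fin n), g.cycleType = m → BC84.AltChar.F g = f → φ g = 0) →
        ∃ χ : Cfsg.IrrCharacter (alternatingGroup (Fin n)),
          (∃ x : alternatingGroup (Fin n), (∃ j : ℕ, orderOf x = 2 ^ j) ∧ (χ : alternatingGroup (Fin n) → ℂ) x = 0) ∧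
          ∃ ψ : Cfsg.IrrCharacter (Equiv.Perm (Fin n)), ∀ x : alternatingGroup (Fin n),
            (ψ : Equiv.Perm (Fin n) → ℂ) x = (χ : alternatingGroup (Fin n) → ℂ) x := by
      intro m f φ hφ hm hs he hv
      obtain ⟨g, hg, ho, hF⟩ := BC84.AltChar.exists_element (n := n) m (fun a ha => (hm a ha).2) (by omega) he
      obtain ⟨χ, hχ, hψ⟩ := mk φ hφ g (hv _ hg (by omega))
      obtain ⟨j, -, hj⟩ := (Nat.dvd_prime_pow Nat.prime_two).mp
        (ho ▸ Multiset.lcm_dvd.mpr fun a ha => (hm a ha).1 : orderOf g ∣ 2 ^ 3)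
      exact ⟨χ, ⟨g, ⟨j, hj⟩, hχ⟩, hψ⟩
    rcases Nat.even_or_odd n with ⟨r, hr⟩ | ⟨k, hk⟩
    · -- even degree: cycles of length 4 and 8
      have hquad : ∀ k, 2 ≤ k → ∃ m : Multiset ℕ, (∀ a ∈ m, a ∣ 8 ∧ 2 ≤ a) ∧ m.sum = 4 * k ∧ Even m.card ∧ 2 ∉ m := by
        intro k hk2
        rcases Nat.even_or_odd k with hk' | ⟨l, hl⟩
        · refine ⟨Multiset.replicate k 4, fun a ha => ?_, by rw [Multiset.sum_replicate, smul_eq_mul, mul_comm],
            by simpa using hk', fun h => ?_⟩
          · rw [Multiset.eq_of_mem_replicate ha]; norm_num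
          · exact absurd (Multiset.eq_of_mem_replicate h) (by norm_num)
        · refine ⟨8 ::ₘ Multiset.replicate (k - 2) 4, fun a ha => ?_, ?_, ?_, fun h => ?_⟩
          · rcases Multiset.mem_cons.mp ha with rfl | h
            · norm_num
            · rw [Multiset.eq_of_mem_replicate h]; norm_num
          · rw [Multiset.sum_cons, Multiset.sum_replicate, smul_eq_mul]; omega
          · rw [Multiset.card_cons, Multiset.card_replicate, Nat.even_iff]; omega
          · rcases Multiset.mem_cons.mp h with h | h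
            · exact absurd h (by norm_num)
            · exact absurd (Multiset.eq_of_mem_replicate h) (by norm_num)
      rcases Nat.even_or_odd r with ⟨k, hk⟩ | ⟨k, hk⟩
      · obtain ⟨m, hm, hs, hc, h2⟩ := hquad k (by omega)
        refine key m 0 BC84.AltChar.twoFun (by simp) hm (by omega) ?_ (fun g hg hF => ?_)
        · rw [hs]; exact (((by decide : Even 4)).mul_right k).add hc
        · simp [BC84.AltChar.twoFun, hF, BC84.AltChar.T_eq_zero (hg ▸ h2)]
      · obtain ⟨m, hm, hs, hc, h2⟩ := hquad k (by omega)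
        refine key m 2 BC84.AltChar.extFun (by simp) hm (by omega) ?_ (fun g hg hF => ?_)
        · rw [hs]; exact (((by decide : Even 4)).mul_right k).add hc
        · simp [BC84.AltChar.extFun, hF, BC84.AltChar.T_eq_zero (hg ▸ h2)]; norm_num
    · rcases Nat.even_or_odd k with hk' | hk'
      · refine key (Multiset.replicate k 2) 1 BC84.AltChar.stdFun (by simp)
          (fun a ha => by rw [Multiset.eq_of_mem_replicate ha]; norm_num)
          (by rw [Multiset.sum_replicate, smul_eq_mul]; omega) ?_ (fun g _ hF => by simp [BC84.AltChar.stdFun, hF])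
        rw [Multiset.sum_replicate, Multiset.card_replicate, smul_eq_mul]
        exact ((show Even (k * 2) from ⟨k, by ring⟩)).add hk'
      · refine key (4 ::ₘ Multiset.replicate (k - 2) 2) 1 BC84.AltChar.stdFun (by simp) (fun a ha => ?_)
          (by rw [Multiset.sum_cons, Multiset.sum_replicate, smul_eq_mul]; omega) ?_ (fun g _ hF => by simp [BC84.AltChar.stdFun, hF])
        · rcases Multiset.mem_cons.mp ha with rfl | h
          · norm_num
          · rw [Multiset.eq_of_mem_replicate h]; norm_num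
        · obtain ⟨l, hl⟩ := hk'
          rw [Multiset.sum_cons, Multiset.sum_replicate, Multiset.card_cons, Multiset.card_replicate, smul_eq_mul, Nat.even_iff]
          omega
  · obtain ⟨k, f, hkf, hk1, φ, hφ, hv⟩ : ∃ k f : ℕ, 3 * k + f = n ∧ 1 ≤ k ∧ ∃ φ ∈ [BC84.AltChar.stdFun (n := n), BC84.AltChar.twoFun, BC84.AltChar.extFun],
        ∀ g : Equiv.Perm (Fin n), 2 ∉ g.cycleType → BC84.AltChar.F g = f → φ g = 0 := by
      rcases (show n % 3 = 0 ∨ n % 3 = 1 ∨ n % 3 = 2 by omega) with h | h | h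
      · exact ⟨n / 3, 0, by omega, by omega, BC84.AltChar.twoFun, by simp, fun g h2 hF => by
          simp [BC84.AltChar.twoFun, hF, BC84.AltChar.T_eq_zero h2]⟩
      · exact ⟨n / 3, 1, by omega, by omega, BC84.AltChar.stdFun, by simp, fun g h2 hF => by
          simp [BC84.AltChar.stdFun, hF]⟩
      · exact ⟨n / 3, 2, by omega, by omega, BC84.AltChar.extFun, by simp, fun g h2 hF => by
          simp [BC84.AltChar.extFun, hF, BC84.AltChar.T_eq_zero h2]; norm_num⟩
    obtain ⟨g, hg, ho, hF⟩ := BC84.AltChar.exists_element (n := n) (Multiset.replicate k 3)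
      (fun a ha => by rw [Multiset.eq_of_mem_replicate ha]; norm_num)
      (by rw [Multiset.sum_replicate, smul_eq_mul]; omega)
      (by rw [Multiset.sum_replicate, Multiset.card_replicate, smul_eq_mul]; exact ⟨2 * k, by ring⟩)
    rw [Multiset.sum_replicate, smul_eq_mul] at hF
    obtain ⟨χ, hχ, hψ⟩ := mk φ hφ g (hv _ (fun h => absurd (Multiset.eq_of_mem_replicate (hg ▸ h)) (by norm_num)) (by omega))
    have h3 : orderOf g ∣ 3 := ho ▸ Multiset.lcm_dvd.mpr fun a ha => (Multiset.eq_of_mem_replicate ha).dvd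
    rcases (Nat.dvd_prime Nat.prime_three).mp h3 with h | h
    · exfalso
      have h3' : 3 ∈ (g : Equiv.Perm (Fin n)).cycleType := hg ▸ Multiset.mem_replicate.mpr ⟨by omega, rfl⟩
      rw [orderOf_eq_one_iff.mp h] at h3'
      simp at h3'
    · exact ⟨χ, ⟨g, h, hχ⟩, hψ⟩


end Cfsg.Agent.S4560
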