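import Cfsg.Statements.S4561
import Cfsg.Agent.BlkChar.CentralType
import Cfsg.Agent.Lib.CharCore.Basic
import Cfsg.Agent.Lib.CharInd.Char
import Cfsg.Agent.BC86.Vanish

set_option autoImplicit false
universe u
open Cfsg

namespace Cfsg.Agent.S4561

open BlkChar.CentralType
open scoped ComplexConjugate

variable {G : Type u} [Group G] [Finite G] (S : Sys G)

omit [Finite G] in
theorem isUnit_rep (q : S.Q) : IsUnit (S.rep q) := by
  obtain ⟨w, hw, h⟩ := S.inv_rep q
  have hw0 : w ≠ 0 := fun h0 => by simp [h0, zero_pow S.sqfree.ne_zero] at hw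
  refine IsUnit.of_mul_eq_one (w⁻¹ • S.rep (S.inv q)) ?_
  rw [mul_smul_comm, h, smul_smul, inv_mul_cancel₀ hw0, one_smul]

/-- The group of central type attached to a system. -/
def grp : Subgroup (Matrix S.ι S.ι ℂ)ˣ where
  carrier := {u | ∃ q, ∃ z : ℂ, z ^ S.m = 1 ∧ (u : Matrix S.ι S.ι ℂ) = z • S.rep q}
  one_mem' := ⟨S.one, 1, one_pow _, by simp [S.rep_one]⟩
  mul_mem' := by
    rintro a b ⟨q, z, hz, ha⟩ ⟨q', z', hz', hb⟩
    obtain ⟨w, hw, h⟩ := S.mul_rep q q'
    refine ⟨S.mul q q', z * z' * w, by rw [mul_pow, mul_pow, hz, hz', hw, one_mul, one_mul], ?_⟩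
    rw [Units.val_mul, ha, hb, smul_mul_smul_comm, h, smul_smul]
  inv_mem' := by
    rintro a ⟨q, z, hz, ha⟩
    obtain ⟨w, hw, h⟩ := S.inv_rep q
    have hzw : z * w ≠ 0 := fun h0 => by
      have h1 : (z * w) ^ S.m = 1 := by rw [mul_pow, hz, hw, one_mul]
      simp [h0, zero_pow S.sqfree.ne_zero] at h1
    refine ⟨S.inv q, (z * w)⁻¹, by rw [inv_pow, mul_pow, hz, hw, one_mul, inv_one], ?_⟩
    refine Units.inv_eq_of_mul_eq_one_right ?_
    rw [ha, smul_mul_smul_comm, h, smul_smul, mul_comm z (z * w)⁻¹, mul_assoc,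
      inv_mul_cancel₀ hzw, one_smul]

theorem exists_group [NeZero S.m] :
    ∃ (H : Type u) (_ : Group H) (_ : Finite H) (χ : Cfsg.IrrCharacter H),
      (∀ h : H, (χ : H → ℂ) h = (χ : H → ℂ) 1 → h = 1) ∧
      (Cfsg.charDegree (χ : H → ℂ)) ^ 2 = (Subgroup.center H).index ∧
      (∃ f : G →* H ⧸ Subgroup.center H, Function.Injective f) ∧
      (∀ p : ℕ, p.Prime → ((p ∣ Nat.card H ↔ p ∣ Nat.card G) ∧
        (p ∣ Nat.card (Subgroup.center H) ↔ p ∣ Nat.card G))) ∧
      Squarefree (Nat.card (Subgroup.center H)) := by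
  classical
  haveI := S.nι
  haveI : Finite (rootsOfUnity S.m ℂ) :=
    Nat.finite_of_card_ne_zero (by rw [Complex.card_rootsOfUnity]; exact NeZero.ne _)
  haveI := Fintype.ofFinite (rootsOfUnity S.m ℂ)
  let H := ULift.{u} (grp S)
  let M : H →* Matrix S.ι S.ι ℂ :=
    (Units.coeHom _).comp ((grp S).subtype.comp MulEquiv.ulift.toMonoidHom)
  have hMinj : Function.Injective M := fun a b h =>
    ULift.ext _ _ (Subtype.ext (Units.ext h))
  have hz0 : ∀ z : rootsOfUnity S.m ℂ, ((z : ℂˣ) : ℂ) ^ S.m = 1 := fun z =>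
    (mem_rootsOfUnity' S.m (z : ℂˣ)).mp z.2
  have hunit : ∀ (q : S.Q) (z : rootsOfUnity S.m ℂ), IsUnit (((z : ℂˣ) : ℂ) • S.rep q) :=
    fun q z => (Units.isUnit (Units.map (algebraMap ℂ (Matrix S.ι S.ι ℂ)).toMonoidHom (z : ℂˣ))).mul
      (isUnit_rep S q) |> fun h => by simpa [Algebra.smul_def] using h
  let E : S.Q × rootsOfUnity S.m ℂ → H := fun x =>
    ⟨⟨(hunit x.1 x.2).unit, x.1, _, hz0 x.2, (hunit x.1 x.2).unit_spec⟩⟩
  have hME : ∀ x, M (E x) = ((x.2 : ℂˣ) : ℂ) • S.rep x.1 := fun x => (hunit x.1 x.2).unit_spec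
  have hEb : Function.Bijective E := by
    constructor
    · rintro ⟨q, z⟩ ⟨q', z'⟩ h
      have h1 := congrArg M h
      rw [hME, hME] at h1
      have h2 : S.rep q = (((z : ℂˣ) : ℂ)⁻¹ * ((z' : ℂˣ) : ℂ)) • S.rep q' := by
        rw [← smul_smul, ← h1, inv_smul_smul₀ (Units.ne_zero _)]
      obtain rfl := S.distinct _ _ _ h2
      have h3 := smul_left_injective ℂ (isUnit_rep S q).ne_zero h1
      exact Prod.ext rfl (Subtype.ext (Units.ext h3))
    · rintro ⟨⟨u, q, z, hz, hu⟩⟩
      let zu : ℂˣ := Units.mk0 z fun h0 => by simp [h0, zero_pow S.sqfree.ne_zero] at hz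
      refine ⟨(q, ⟨zu, (mem_rootsOfUnity' S.m zu).mpr hz⟩), hMinj ?_⟩
      rw [hME]
      exact hu.symm
  have hfinH : Finite H := Finite.of_surjective E hEb.2
  have := Fintype.ofFinite H
  have hcardH : Nat.card H = Fintype.card S.ι ^ 2 * S.m := by
    rw [← Nat.card_eq_of_bijective E hEb, Nat.card_prod, Complex.card_rootsOfUnity,
      Nat.card_eq_fintype_card, S.cardQ]
  let ρ : Representation ℂ H (S.ι → ℂ) :=
    (Matrix.toLinAlgEquiv' (R := ℂ) (n := S.ι)).toAlgHom.toRingHom.toMonoidHom.comp M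
  have hρ : ∀ h, ρ.character h = (M h).trace := fun h => Matrix.trace_toLin'_eq (M h)
  set n := Fintype.card S.ι with hn
  have hn0 : (n : ℂ) ≠ 0 := Nat.cast_ne_zero.mpr Fintype.card_ne_zero
  have hval : ∀ x, ρ.character (E x) = if x.1 = S.one then ((x.2 : ℂˣ) : ℂ) * n else 0 := by
    intro x
    rw [hρ, hME, Matrix.trace_smul, smul_eq_mul]
    split_ifs with h
    · rw [h, S.rep_one, Matrix.trace_one]
    · rw [S.trace_zero _ h, mul_zero]
  have hone : E (S.one, 1) = 1 := hMinj (by simp [hME, S.rep_one])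
  have hchar1 : ρ.character 1 = n := by rw [← hone, hval]; simp
  have hirr : Cfsg.IsIrrCharacter H ρ.character := by
    refine CharCore.isIrrCharacter_iff.mpr ⟨CharInd.isCharacter_of_rep ρ, ?_⟩
    have hsum : ∑ h : H, ρ.character h * conj (ρ.character h) = ((n ^ 2 * S.m : ℕ) : ℂ) := by
      rw [← Fintype.sum_bijective E hEb (fun x => ρ.character (E x) * conj (ρ.character (E x))) _
        fun x => rfl, Fintype.sum_prod_type, Finset.sum_eq_single S.one
        (fun q _ hq => by simp [hval, hq]) (by simp)]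
      simp only [hval, if_true]
      rw [Finset.sum_congr rfl fun (z : rootsOfUnity S.m ℂ) _ => show
        ((z : ℂˣ) : ℂ) * n * conj (((z : ℂˣ) : ℂ) * n) = (n : ℂ) ^ 2 by
          rw [Complex.mul_conj', norm_mul, Complex.norm_eq_one_of_pow_eq_one (hz0 z) S.sqfree.ne_zero,
            one_mul, Complex.norm_natCast]; norm_cast]
      rw [Finset.sum_const, Finset.card_univ, ← Nat.card_eq_fintype_card, Complex.card_rootsOfUnity]
      simp [mul_comm]
    rw [Cfsg.classInner, hsum, hcardH]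
    exact inv_mul_cancel₀ (Nat.cast_ne_zero.mpr
      (mul_ne_zero (pow_ne_zero _ Fintype.card_ne_zero) S.sqfree.ne_zero))
  let χ : Cfsg.IrrCharacter H := ⟨ρ.character, hirr⟩
  have hcen : ∀ x, E x ∈ Subgroup.center H ↔ x.1 = S.one := by
    intro x
    constructor
    · intro h
      by_contra hx
      have h1 := BC86.norm_apply_of_mem_center χ h
      change ‖ρ.character (E x)‖ = ‖ρ.character 1‖ at h1
      rw [hval, if_neg hx, hchar1, norm_zero] at h1
      exact hn0 (norm_eq_zero.mp h1.symm)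
    · intro h
      refine Subgroup.mem_center_iff.mpr fun g => hMinj ?_
      rw [map_mul, map_mul, hME, h, S.rep_one, mul_smul_comm, smul_mul_assoc, mul_one, one_mul]
  have hcardZ : Nat.card (Subgroup.center H) = S.m := by
    rw [← Complex.card_rootsOfUnity S.m]
    refine (Nat.card_eq_of_bijective (fun z => (⟨E (S.one, z), (hcen _).mpr rfl⟩ : Subgroup.center H))
      ⟨fun a b h => congrArg Prod.snd (hEb.1 (congrArg Subtype.val h)), fun h => ?_⟩).symm
    obtain ⟨⟨q, z⟩, hx⟩ := hEb.2 (h : H)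
    obtain rfl : q = S.one := (hcen (q, z)).mp (by rw [hx]; exact h.2)
    exact ⟨z, Subtype.ext hx⟩
  have hdeg : Cfsg.charDegree (χ : H → ℂ) = n := by
    show ⌊(ρ.character 1).re⌋₊ = n
    rw [hchar1, Complex.natCast_re, Nat.floor_natCast]
  refine ⟨H, inferInstance, hfinH, χ, ?_, ?_, ?_, ?_, hcardZ ▸ S.sqfree⟩
  · intro h
    obtain ⟨x, rfl⟩ := hEb.2 h
    intro hx
    change ρ.character (E x) = ρ.character 1 at hx
    rw [hval, hchar1] at hx
    split_ifs at hx with hq
    · obtain ⟨q, z⟩ := x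
      obtain rfl : q = S.one := hq
      obtain rfl : z = 1 := Subtype.ext (Units.ext (mul_right_cancel₀ hn0 (hx.trans (one_mul _).symm)))
      exact hone
    · exact absurd hx.symm hn0
  · have h1 := (Subgroup.center H).card_mul_index
    rw [hcardZ, hcardH, mul_comm (_ ^ 2) S.m] at h1
    rw [hdeg, Nat.eq_of_mul_eq_mul_left (Nat.pos_of_ne_zero S.sqfree.ne_zero) h1]
  · refine ⟨{ toFun := fun g => QuotientGroup.mk (E (S.φ g, 1)), map_one' := ?_, map_mul' := ?_ }, ?_⟩
    · rw [S.φ_one, hone]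
      rfl
    · intro g h
      rw [← QuotientGroup.mk_mul, QuotientGroup.eq]
      obtain ⟨w, hw, hmul⟩ := S.mul_rep (S.φ g) (S.φ h)
      let wu : ℂˣ := Units.mk0 w fun h0 => by simp [h0, zero_pow S.sqfree.ne_zero] at hw
      let wr : rootsOfUnity S.m ℂ := ⟨wu, (mem_rootsOfUnity' S.m wu).mpr hw⟩
      have h2 : E (S.φ g, 1) * E (S.φ h, 1) = E (S.φ (g * h), 1) * E (S.one, wr) := by
        refine hMinj ?_
        simp [hME, hmul, S.φ_mul, S.rep_one, wr, wu]
      rw [h2, inv_mul_cancel_left]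
      exact (hcen _).mpr rfl
    · rw [injective_iff_map_eq_one]
      intro g hg
      have h1 := (hcen _).mp ((QuotientGroup.eq_one_iff _).mp hg)
      exact S.φ_inj (h1.trans S.φ_one.symm)
  · intro p hp
    rw [hcardH, hcardZ, ← S.primes p hp]
    refine ⟨⟨fun h => ?_, fun h => h.trans (Dvd.intro_left _ rfl)⟩, Iff.rfl⟩
    exact (hp.dvd_mul.mp h).elim (fun h1 => S.primesι p hp (hp.dvd_of_dvd_pow h1)) id



/-- For every finite solvable group G there is a finite group H with a faithful irreducible character χ whose degree squared equals the index of the centre Z(H) (so χ is fully ramified over the centre), such that G is isomorphic to a subgroup of H/Z(H), the primes dividing the orders of H, of Z(H) and of G are the same, and the order of Z(H) is squarefree. -/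
theorem result {G : Type u} [Group G] [Finite G] (hsolv : Group.IsSolvable G) : ∃ (H : Type u) (_ : Group H) (_ : Finite H) (χ : Cfsg.IrrCharacter H), (∀ h : H, (χ : H → ℂ) h = (χ : H → ℂ) 1 → h = 1) ∧ (Cfsg.charDegree (χ : H → ℂ)) ^ 2 = (Subgroup.center H).index ∧ (∃ f : G →* H ⧸ Subgroup.center H, Function.Injective f) ∧ (∀ p : ℕ, p.Prime → ((p ∣ Nat.card H ↔ p ∣ Nat.card G) ∧ (p ∣ Nat.card (Subgroup.center H) ↔ p ∣ Nat.card G))) ∧ Squarefree (Nat.card (Subgroup.center H)) := by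
  obtain ⟨S⟩ := BlkChar.CentralType.exists_sys (Nat.card G) G hsolv le_rfl
  haveI : NeZero S.m := ⟨S.sqfree.ne_zero⟩
  exact exists_group S

end Cfsg.Agent.S4561
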