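import Cfsg.Statements.S4563
import Cfsg.Agent.BlkChar.FullyRamifiedCompl
import Cfsg.Agent.S0006

set_option autoImplicit false
open Cfsg

namespace Cfsg.Agent.S4563

open Cfsg.Agent
open scoped ComplexConjugate


/-- Let χ be an irreducible character of the finite group H that is fully ramified over the normal subgroup Z: the restriction of χ to Z is e times an irreducible character of Z with e ^ 2 equal to the index of Z. If K is a proper normal subgroup of H containing Z and χ is induced from a character of K, then H/K is solvable; in particular, if K is solvable then so is H. -/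
theorem result {H : Type*} [Group H] [Fintype H] (Z : Subgroup H) [Z.Normal] (χ : Cfsg.IrrCharacter H) (hfr : ∃ (θ : Cfsg.IrrCharacter ↥Z) (e : ℕ), e ^ 2 = Z.index ∧ ∀ z : ↥Z, (χ : H → ℂ) z = (e : ℂ) * (θ : ↥Z → ℂ) z) (K : Subgroup H) [K.Normal] [Fintype K] (hZK : Z ≤ K) (hK : K ≠ ⊤) (φ : ↥K → ℂ) (hφ : Cfsg.IsCharacter ↥K φ) (hind : Cfsg.indFun K φ = (χ : H → ℂ)) : Group.IsSolvable (H ⧸ K) ∧ (Group.IsSolvable ↥K → Group.IsSolvable H) := by
  classical
  obtain ⟨θ, e, he, hon⟩ := hfr
  have hnorm := CharCore.classInner_irr_self χ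
  rw [← hind, CharClifford.classInner_indFun_indFun,
    inv_mul_eq_one₀ (CharInd.natCard_subgroup_ne_zero K)] at hnorm
  have hnat : ∀ x : H, ∃ k : ℕ, Cfsg.classInner φ (CharClifford.conjFun K x φ) = k := fun x =>
    CharCore.IsCharacter.exists_classInner_eq_natCast hφ
      (CharCore.isCharacter_comp hφ (MulAut.conjNormal (H := K) x).toMonoidHom)
  choose k hk using hnat
  simp only [hk] at hnorm
  have hsum : ∑ x, k x = Nat.card K := by exact_mod_cast hnorm.symm
  obtain ⟨m, hm⟩ := CharCore.IsCharacter.exists_classInner_eq_natCast hφ hφ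
  set S := BlkChar.FRCompl.stab K φ with hS
  have hKS : K ≤ S := fun x hx =>
    CharClifford.conjFun_of_mem K (CharCore.IsCharacter.isClassFunction hφ) hx
  have hkS : ∀ x ∈ S, k x = m := by
    intro x hx
    have := hk x
    rw [show CharClifford.conjFun K x φ = φ from hx, hm] at this
    exact_mod_cast this.symm
  have hle : Nat.card S * m ≤ Nat.card K := by
    rw [← hsum]
    calc Nat.card S * m = ∑ x ∈ Finset.univ.filter (· ∈ S), k x := by
          rw [Finset.sum_congr rfl fun x hx => hkS x (Finset.mem_filter.mp hx).2, Finset.sum_const,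
            smul_eq_mul, Nat.card_eq_fintype_card, Fintype.card_subtype]
      _ ≤ _ := Finset.sum_le_sum_of_subset (Finset.subset_univ _)
  have hm0 : m ≠ 0 := by
    intro h0
    have h1 : φ = 0 := by
      rw [h0, Nat.cast_zero, Cfsg.classInner, mul_eq_zero] at hm
      have h2 := hm.resolve_left (inv_ne_zero (CharInd.natCard_subgroup_ne_zero K))
      funext x
      have h3 : ∑ y : K, Complex.normSq (φ y) = 0 := by
        rw [← Complex.ofReal_inj, Complex.ofReal_sum, Complex.ofReal_zero, ← h2]
        exact Finset.sum_congr rfl fun y _ => (Complex.mul_conj _).symm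
      exact Complex.normSq_eq_zero.mp ((Finset.sum_eq_zero_iff_of_nonneg
        fun w _ => Complex.normSq_nonneg _).mp h3 x (Finset.mem_univ _))
    apply CharCore.irr_apply_one_ne_zero χ
    rw [← hind, h1, CharInd.indFun_zero]
    rfl
  have hcle : Nat.card K ≤ Nat.card S := Subgroup.card_le_of_le hKS
  have hm1 : m = 1 := by
    have h : Nat.card K * m ≤ Nat.card K * 1 := by
      rw [mul_one]; exact (Nat.mul_le_mul_right m hcle).trans hle
    have := Nat.le_of_mul_le_mul_left h Nat.card_pos
    omega
  have hSK : S = K := by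
    refine (Subgroup.eq_of_le_of_card_ge hKS ?_).symm
    rw [hm1, mul_one] at hle
    exact hle
  have hφi : Cfsg.IsIrrCharacter K φ :=
    CharCore.isIrrCharacter_iff.mpr ⟨hφ, by rw [hm, hm1, Nat.cast_one]⟩
  have hsolv : Group.IsSolvable (H ⧸ K) := by
    refine Cfsg.Agent.S0006.result fun p hp => ?_
    haveI := Fact.mk hp
    refine BlkChar.FRCompl.exists_index_eq Z χ.2 θ.2 he hon K hZK (Or.inr ⟨⟨φ, hφi⟩, ?_, ?_⟩)
    · intro h0
      apply (one_ne_zero : (1 : ℂ) ≠ 0)
      rw [← CharCore.classInner_irr_self χ]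
      conv_lhs => arg 1; rw [← hind]
      rw [CharInd.classInner_indFun_left K φ (CharCore.irr_isClassFunction χ),
        ← CharCore.conj_classInner, h0, map_zero]
    · show ¬ p ∣ K.relIndex S
      rw [hSK, Subgroup.relIndex_self]
      exact hp.not_dvd_one
  exact ⟨hsolv, fun hKsolv => solvable_of_ker_le_range K.subtype (QuotientGroup.mk' K)
    (by rw [QuotientGroup.ker_mk', Subgroup.range_subtype])⟩

end Cfsg.Agent.S4563
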