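import Cfsg.Statements.S4564
import Cfsg.Agent.BlkChar.FullyRamifiedCompl

set_option autoImplicit false
open Cfsg

namespace Cfsg.Agent.S4564

/-- Let χ be an irreducible character of the finite group H that is fully ramified over the normal subgroup Z: the restriction of χ to Z is e times an irreducible character of Z with e ^ 2 equal to the index of Z. Let K be a normal subgroup of H containing Z and P a cyclic Sylow p-subgroup of H/K. Then P has a complement in H/K: a subgroup meeting P trivially whose product with P is the whole group. -/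
theorem result {H : Type*} [Group H] [Finite H] (Z : Subgroup H) [Z.Normal] (χ : Cfsg.IrrCharacter H) (hfr : ∃ (θ : Cfsg.IrrCharacter ↥Z) (e : ℕ), e ^ 2 = Z.index ∧ ∀ z : ↥Z, (χ : H → ℂ) z = (e : ℂ) * (θ : ↥Z → ℂ) z) (K : Subgroup H) [K.Normal] (hZK : Z ≤ K) (p : ℕ) [Fact p.Prime] (P : Sylow p (H ⧸ K)) (hcyc : IsCyclic P) : ∃ M : Subgroup (H ⧸ K), M.IsComplement' (P : Subgroup (H ⧸ K)) := by
  have := Fintype.ofFinite H
  have := Fintype.ofFinite K
  obtain ⟨θ, e, he, hon⟩ := hfr
  obtain ⟨M, hM⟩ := Cfsg.Agent.BlkChar.FRCompl.exists_index_eq Z χ.2 θ.2 he hon K hZK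
    (Or.inl fun S => by
      haveI := hcyc
      exact isCyclic_of_injective (S.equiv P).toMonoidHom (S.equiv P).injective)
  refine ⟨M, ?_⟩
  have hcard := M.card_mul_index
  rw [hM, ← P.card_eq_multiplicity] at hcard
  refine Subgroup.isComplement'_of_coprime hcard ?_
  have hMcard : Nat.card M = Nat.card (H ⧸ K) / p ^ (Nat.card (H ⧸ K)).factorization p := by
    rw [← P.card_eq_multiplicity, ← hcard, Nat.mul_div_cancel _ Nat.card_pos]
  rw [hMcard, P.card_eq_multiplicity]
  exact Nat.Coprime.pow_right _
    (((Fact.out : p.Prime).coprime_iff_not_dvd.mpr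
      (Nat.not_dvd_ordCompl Fact.out Nat.card_pos.ne')).symm)

end Cfsg.Agent.S4564
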