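import Cfsg.Statements.S4565
import Cfsg.Agent.CharB.CyclicExt
import Cfsg.Agent.CharDeep.Ext.Clifford

set_option autoImplicit false
open Cfsg

namespace Cfsg.Agent.S4565

open scoped ComplexConjugate
open Cfsg.Agent

/-- Let χ be an irreducible character of the finite group H that is fully ramified over the normal subgroup Z: the restriction of χ to Z is e times an irreducible character of Z with e ^ 2 equal to the index of Z. If Z ≠ H, then H/Z has no cyclic subgroup that is its own centralizer. -/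
theorem result {H : Type*} [Group H] [Finite H] (Z : Subgroup H) [Z.Normal] (χ : Cfsg.IrrCharacter H) (hfr : ∃ (θ : Cfsg.IrrCharacter ↥Z) (e : ℕ), e ^ 2 = Z.index ∧ ∀ z : ↥Z, (χ : H → ℂ) z = (e : ℂ) * (θ : ↥Z → ℂ) z) (hZ : Z ≠ ⊤) (C : Subgroup (H ⧸ Z)) (hC : IsCyclic C) : Subgroup.centralizer (C : Set (H ⧸ Z)) ≠ C := by
  classical
  intro hCC
  cases nonempty_fintype H
  obtain ⟨θ, e, he, hχθ⟩ := hfr
  have hcl := CharCore.irr_isClassFunction χ
  have he0 : (e : ℂ) ≠ 0 := by
    have h : e ≠ 0 := fun h0 => Subgroup.FiniteIndex.index_ne_zero (H := Z) (by simp [← he, h0])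
    exact_mod_cast h
  have hinv : CharDeep.Ext.Inv Z (θ : ↥Z → ℂ) := by
    intro g n
    have h := hcl (n : H) g
    rw [hχθ n, ← show ((⟨g * n * g⁻¹, ‹Z.Normal›.conj_mem _ n.2 g⟩ : Z) : H) = g * n * g⁻¹ from rfl,
      hχθ] at h
    exact mul_left_cancel₀ he0 h
  -- `χ` lives on `Z`
  have hsum : ∀ (f : H → ℂ), (∀ g : H, g ∉ Z → f g = 0) → ∑ g : H, f g = ∑ z : Z, f z := by
    intro f hf
    refine (Fintype.sum_of_injective ((↑) : Z → H) Subtype.coe_injective (fun z : Z => f z) f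
      (fun g hg => hf g fun hgZ => hg ⟨⟨g, hgZ⟩, rfl⟩) fun z => rfl).symm
  have hθ1 : ∑ z : Z, (θ : ↥Z → ℂ) z * conj ((θ : ↥Z → ℂ) z) = (Nat.card Z : ℂ) := by
    have h := CharCore.classInner_irr_self θ
    rw [CharCore.classInner_def, inv_mul_eq_one₀ (Nat.cast_ne_zero.mpr Nat.card_pos.ne')] at h
    exact h.symm
  have hoff : ∀ g : H, g ∉ Z → (χ : H → ℂ) g = 0 := by
    intro g hg
    have h := CharCore.classInner_irr_self χ
    rw [CharCore.classInner_def, inv_mul_eq_one₀ (Nat.cast_ne_zero.mpr Nat.card_pos.ne')] at h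
    have hre : ∀ w : H, (χ : H → ℂ) w * conj ((χ : H → ℂ) w) =
        ((Complex.normSq ((χ : H → ℂ) w) : ℝ) : ℂ) := fun w => Complex.mul_conj _
    have hZsum : ∑ w ∈ Finset.univ.filter (· ∈ Z), (χ : H → ℂ) w * conj ((χ : H → ℂ) w) =
        (Nat.card H : ℂ) := by
      rw [Finset.sum_subtype (p := (· ∈ Z)) _ (fun w => by simp),
        Finset.sum_congr rfl fun (z : Z) _ => show _ = (e : ℂ) ^ 2 *
          ((θ : ↥Z → ℂ) z * conj ((θ : ↥Z → ℂ) z)) by rw [hχθ, map_mul, map_natCast]; ring,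
        ← Finset.mul_sum, hθ1, ← Z.card_mul_index, ← he]
      push_cast
      ring
    rw [← Finset.sum_filter_add_sum_filter_not Finset.univ (· ∈ Z), hZsum] at h
    have h0 : ∑ w ∈ Finset.univ.filter (fun w => ¬ w ∈ Z), Complex.normSq ((χ : H → ℂ) w) = 0 := by
      rw [← Complex.ofReal_inj, Complex.ofReal_sum, Complex.ofReal_zero]
      rw [← Finset.sum_congr rfl fun w _ => hre w]
      linear_combination -h
    exact Complex.normSq_eq_zero.mp ((Finset.sum_eq_zero_iff_of_nonneg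
      fun w _ => Complex.normSq_nonneg _).mp h0 g (by simp [hg]))
  -- every other irreducible character avoids `θ`
  have hother : ∀ η : Cfsg.IrrCharacter H, η ≠ χ →
      Cfsg.classInner (fun z : Z => (η : H → ℂ) z) (θ : ↥Z → ℂ) = 0 := by
    intro η hη
    have h := CharCore.classInner_irr_of_ne hη
    rw [CharCore.classInner_def, hsum _ (fun g hg => by rw [hoff g hg, map_zero, mul_zero]),
      mul_eq_zero] at h
    have h' := h.resolve_left (inv_ne_zero (Nat.cast_ne_zero.mpr Nat.card_pos.ne'))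
    simp only [hχθ, map_mul, map_natCast, mul_left_comm _ (e : ℂ), ← Finset.mul_sum] at h'
    rw [CharCore.classInner_def, (mul_eq_zero.mp h').resolve_left he0, mul_zero]
  -- the preimage of `C`
  obtain ⟨c₀, hc₀⟩ := hC.exists_generator
  obtain ⟨x, hx⟩ := QuotientGroup.mk_surjective (c₀ : H ⧸ Z)
  have hxC : (x : H ⧸ Z) ∈ C := hx ▸ c₀.2
  have hgen : ∀ q ∈ C, ∃ k : ℤ, (x : H ⧸ Z) ^ k = q := by
    intro q hq
    obtain ⟨k, hk⟩ := Subgroup.mem_zpowers_iff.mp (hc₀ ⟨q, hq⟩)
    exact ⟨k, by simpa [hx] using congrArg Subtype.val hk⟩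
  have hxZ : x ∉ Z := by
    intro h
    have hbot : C = ⊥ := (Subgroup.eq_bot_iff_forall C).mpr fun q hq => by
      obtain ⟨k, hk⟩ := hgen q hq
      rw [← hk, (QuotientGroup.eq_one_iff x).mpr h, one_zpow]
    apply hZ
    have htop : (⊤ : Subgroup (H ⧸ Z)) = ⊥ :=
      le_antisymm (fun q _ => hbot ▸ hCC ▸ (Subgroup.mem_centralizer_iff.mpr fun c hc => by
        rw [hbot, SetLike.mem_coe, Subgroup.mem_bot] at hc; simp [hc])) bot_le
    rw [eq_top_iff]
    intro g _
    exact (QuotientGroup.eq_one_iff g).mp (Subgroup.mem_bot.mp (htop.le (Subgroup.mem_top _)))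
  set D := C.comap (QuotientGroup.mk' Z) with hD
  have hZD : Z ≤ D := fun z hz => by
    show (z : H ⧸ Z) ∈ C
    rw [(QuotientGroup.eq_one_iff z).mpr hz]; exact one_mem _
  haveI : (Z.subgroupOf D).Normal := inferInstance
  have hcyc : IsCyclic (D ⧸ Z.subgroupOf D) := by
    refine ⟨⟨((⟨x, hxC⟩ : D) : D ⧸ Z.subgroupOf D), fun q => ?_⟩⟩
    obtain ⟨d, rfl⟩ := QuotientGroup.mk_surjective q
    obtain ⟨k, hk⟩ := hgen _ (show ((d : H) : H ⧸ Z) ∈ C from d.2)
    refine ⟨k, ?_⟩
    show ((⟨x, hxC⟩ : D) : D ⧸ Z.subgroupOf D) ^ k = _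
    rw [← QuotientGroup.mk_zpow, QuotientGroup.eq]
    show ((((⟨x, hxC⟩ : D) ^ k)⁻¹ : D) : H) * (d : H) ∈ Z
    rw [Subgroup.coe_inv, ← QuotientGroup.eq, Subgroup.coe_zpow, QuotientGroup.mk_zpow]
    exact hk
  let ι : Z.subgroupOf D ≃* Z := Subgroup.subgroupOfEquivOfLe hZD
  have hθD : Cfsg.IsIrrCharacter (Z.subgroupOf D) (fun n => (θ : ↥Z → ℂ) (ι n)) :=
    CharCore.isIrrCharacter_comp_surjective θ.2 ι.toMonoidHom ι.surjective
  obtain ⟨ψ, hψ, hψθ⟩ := CharB.exists_extension_of_cyclic (Z.subgroupOf D) hcyc hθD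
    fun g n => hinv (g : H) (ι n)
  have hψN : Cfsg.IsIrrCharacter (Z.subgroupOf D) (fun n : Z.subgroupOf D => ψ n) :=
    (funext hψθ : (fun n : Z.subgroupOf D => ψ n) = _) ▸ hθD
  -- the class function on the coset `x Z`
  let φ : D → ℂ := fun d => if ((d : H) : H ⧸ Z) = x then ψ d else 0
  have hφc : ∀ d t : D, φ (t * d * t⁻¹) = φ d := by
    intro d t
    have h1 : ((t * d * t⁻¹ : D) : H) = (t : H) * d * (t : H)⁻¹ := rfl
    have hcomm : ((t : H) : H ⧸ Z) * ((d : H) : H ⧸ Z) = ((d : H) : H ⧸ Z) * ((t : H) : H ⧸ Z) := by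
      obtain ⟨i, hi⟩ := hgen _ (show ((t : H) : H ⧸ Z) ∈ C from t.2)
      obtain ⟨j, hj⟩ := hgen _ (show ((d : H) : H ⧸ Z) ∈ C from d.2)
      rw [← hi, ← hj, ← zpow_add, ← zpow_add, add_comm]
    have h2 : (((t * d * t⁻¹ : D) : H) : H ⧸ Z) = ((d : H) : H ⧸ Z) := by
      rw [h1, QuotientGroup.mk_mul, QuotientGroup.mk_mul, QuotientGroup.mk_inv, hcomm,
        mul_inv_cancel_right]
    simp only [φ, h2, CharCore.IsCharacter.isClassFunction
      (CharCore.IsIrrCharacter.isCharacter hψ) d t]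
  set F := Cfsg.indFun D φ with hF
  have hF0 : F = 0 := by
    refine CharCore.eq_zero_of_classInner_irr_eq_zero (CharInd.isClassFunction_indFun D φ) fun η => ?_
    rw [hF, CharInd.classInner_indFun_left D φ (CharCore.irr_isClassFunction η), CharCore.classInner_def]
    refine mul_eq_zero_of_right _ ?_
    by_cases hη : η = χ
    · refine Finset.sum_eq_zero fun d _ => ?_
      by_cases hd : ((d : H) : H ⧸ Z) = x
      · rw [hη, hoff _ fun h => hxZ ?_, map_zero, mul_zero]
        rwa [← QuotientGroup.eq_one_iff, ← hd, QuotientGroup.eq_one_iff]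
      · simp [φ, hd]
    set R : D → ℂ := fun d => (η : H → ℂ) d with hR
    have hRc : Cfsg.IsCharacter D R := CharCore.isCharacter_restrict (CharCore.irr_isCharacter η) D
    obtain ⟨m, hm⟩ := CharCore.IsCharacter.exists_sum hRc
    have hin : ∀ β : Cfsg.IrrCharacter D, m β ≠ 0 →
        Cfsg.classInner (fun n : Z.subgroupOf D => (β : D → ℂ) n)
          (fun n : Z.subgroupOf D => ψ n) = 0 := by
      have h1 : ∀ β : Cfsg.IrrCharacter D, ∃ k : ℕ, Cfsg.classInner
          (fun n : Z.subgroupOf D => (β : D → ℂ) n) (fun n : Z.subgroupOf D => ψ n) = k := fun β =>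
        CharCore.IsCharacter.exists_classInner_irr_eq_natCast
          (CharCore.isCharacter_restrict (CharCore.irr_isCharacter β) _) ⟨_, hψN⟩
      choose k hk using h1
      have h2 : ∑ β, (m β : ℂ) * (k β : ℂ) = 0 := by
        have h3 : Cfsg.classInner (fun n : Z.subgroupOf D => R n)
            (fun n : Z.subgroupOf D => ψ n) = 0 := by
          refine Eq.trans ?_ (hother η hη)
          rw [CharCore.classInner_def, CharCore.classInner_def, Nat.card_congr ι.toEquiv]
          congr 1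
          exact Fintype.sum_equiv ι.toEquiv _ _ fun n => by rw [hψθ]; rfl
        have h4 : (fun n : Z.subgroupOf D => R n) =
            ∑ β, (m β : ℂ) • (fun n : Z.subgroupOf D => (β : D → ℂ) n) := by
          funext n; simp [hm, Finset.sum_apply]
        rw [h4] at h3
        simpa [CharCore.classInner_sum_left, CharCore.classInner_smul_left, hk] using h3
      have h2' : ∑ β, m β * k β = 0 := by exact_mod_cast h2
      intro β hβ
      rw [hk β, (mul_eq_zero.mp (Finset.sum_eq_zero_iff.mp h2' β (Finset.mem_univ _))).resolve_left hβ,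
        Nat.cast_zero]
    have hcos : ∀ β : Cfsg.IrrCharacter D, m β ≠ 0 →
        ∑ n : Z.subgroupOf D, (β : D → ℂ) ((n : D) * ⟨x, hxC⟩) * conj (ψ ((n : D) * ⟨x, hxC⟩)) = 0 := by
      intro β hβ
      have h := congrFun (CharDeep.Ext.avg_mul_conj_eq_zero hψ β.2 (hin β hβ)) ⟨x, hxC⟩
      rw [CharDeep.Ext.avg_apply, Pi.zero_apply, mul_eq_zero] at h
      exact h.resolve_left (inv_ne_zero (CharDeep.Ext.natCard_ne _))
    have hconj : ∑ d : D, φ d * conj (R d) =
        conj (∑ n : Z.subgroupOf D, R ((n : D) * ⟨x, hxC⟩) * conj (ψ ((n : D) * ⟨x, hxC⟩))) := by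
      rw [map_sum]
      symm
      refine Fintype.sum_of_injective (fun n : Z.subgroupOf D => (n : D) * ⟨x, hxC⟩)
        (fun a b h => Subtype.ext (mul_right_cancel h)) _ _ (fun d hd => ?_) fun n => ?_
      · have : ¬ ((d : H) : H ⧸ Z) = x := fun h => hd ⟨⟨d * (⟨x, hxC⟩ : D)⁻¹, by
          show (d : H) * x⁻¹ ∈ Z
          rw [← QuotientGroup.eq_one_iff, QuotientGroup.mk_mul, QuotientGroup.mk_inv, h, mul_inv_cancel]⟩,
          by simp⟩
        simp [φ, this]
      · have hn : ((((n : D) * ⟨x, hxC⟩ : D) : H) : H ⧸ Z) = x := by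
          show (((n : D) : H) * x : H) = (x : H ⧸ Z)
          rw [QuotientGroup.mk_mul, (QuotientGroup.eq_one_iff (((n : D) : H))).mpr n.2, one_mul]
        simp only [φ, hn, if_true, map_mul, Complex.conj_conj]
        ring
    show ∑ d : D, φ d * conj (R d) = 0
    rw [hconj, map_eq_zero]
    simp only [hm, Finset.sum_apply, Pi.smul_apply, smul_eq_mul, Finset.sum_mul]
    rw [Finset.sum_comm]
    refine Finset.sum_eq_zero fun β _ => ?_
    by_cases hβ : m β = 0
    · simp [hβ]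
    · rw [Finset.sum_congr rfl fun n _ => mul_assoc _ _ _, ← Finset.mul_sum, hcos β hβ, mul_zero]
  have hψ0 : ∀ n : Z.subgroupOf D, ψ ((n : D) * ⟨x, hxC⟩) = 0 := by
    intro n
    set d : D := (n : D) * ⟨x, hxC⟩ with hd
    have hdx : ((d : H) : H ⧸ Z) = x := by
      show (((n : D) : H) * x : H) = (x : H ⧸ Z)
      rw [QuotientGroup.mk_mul, (QuotientGroup.eq_one_iff (((n : D) : H))).mpr n.2, one_mul]
    have h := congrFun hF0 (d : H)
    rw [hF, CharInd.indFun_apply, Pi.zero_apply, mul_eq_zero] at h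
    have h' := h.resolve_left (inv_ne_zero (CharInd.natCard_subgroup_ne_zero D))
    rw [← Fintype.sum_of_injective ((↑) : D → H) Subtype.coe_injective (fun _ : D => φ d) _
      (fun t ht => ?_) (fun t => ?_)] at h'
    · simpa [φ, hdx] using h'
    · by_cases hm : t⁻¹ * (d : H) * t ∈ D
      · rw [CharInd.extendByZero_mem _ hm]
        by_cases hm' : ((t⁻¹ * (d : H) * t : H) : H ⧸ Z) = x
        · refine absurd ⟨⟨t, ?_⟩, rfl⟩ ht
          show (t : H ⧸ Z) ∈ C
          rw [← hCC, Subgroup.mem_centralizer_iff]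
          intro q hq
          obtain ⟨k, rfl⟩ := hgen q hq
          rw [QuotientGroup.mk_mul, QuotientGroup.mk_mul, QuotientGroup.mk_inv, hdx,
            mul_assoc, inv_mul_eq_iff_eq_mul] at hm'
          exact (Commute.zpow_left (show Commute (x : H ⧸ Z) (t : H ⧸ Z) from hm') k)
        · simp only [φ]
          rw [if_neg hm']
      · exact CharInd.extendByZero_notMem _ hm
    · have hm : (t : H)⁻¹ * (d : H) * t ∈ D := mul_mem (mul_mem (inv_mem t.2) d.2) t.2
      rw [CharInd.extendByZero_mem _ hm]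
      refine (hφc d t⁻¹).symm.trans (congrArg φ (Subtype.ext ?_))
      simp
  have h := congrFun (CharDeep.Ext.avg_mul_conj_self hψ hψN) ⟨x, hxC⟩
  rw [CharDeep.Ext.avg_apply, Pi.one_apply, Finset.sum_eq_zero fun n _ => by rw [hψ0 n, zero_mul],
    mul_zero] at h
  exact zero_ne_one h

end Cfsg.Agent.S4565
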