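import Cfsg.Statements.S4566
import Cfsg.Agent.Lib.CharClifford.Central
import Cfsg.Agent.Lib.CharCore.Linear
-- import your own Cfsg.Agent.* helpers here

set_option autoImplicit false
open Cfsg
open scoped ComplexConjugate

namespace Cfsg.Agent.S4566

/-- Let N be a central subgroup of the finite group G, ψ a faithful irreducible (hence degree-one) character of N, and χ an irreducible character of G whose restriction to N contains ψ. If g ∈ G and some x ∈ G has commutator x⁻¹ g⁻¹ x g in N but different from 1, then χ g = 0. -/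
theorem result {G : Type*} [Group G] [Fintype G] (N : Subgroup G) [Fintype N] (hN : N ≤ Subgroup.center G) (ψ : Cfsg.IrrCharacter ↥N) (hfaith : ∀ n : ↥N, (ψ : ↥N → ℂ) n = (ψ : ↥N → ℂ) 1 → n = 1) (χ : Cfsg.IrrCharacter G) (hover : Cfsg.classInner (fun n : ↥N => (χ : G → ℂ) n) (ψ : ↥N → ℂ) ≠ 0) (g x : G) (hcomm : x⁻¹ * g⁻¹ * x * g ∈ N) (hne : x⁻¹ * g⁻¹ * x * g ≠ 1) : (χ : G → ℂ) g = 0 := by
  classical
  set z : G := x⁻¹ * g⁻¹ * x * g with hz
  have hzN : z⁻¹ ∈ N := inv_mem hcomm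
  obtain ⟨n, ρ, hρ, hρc⟩ := χ.2
  obtain ⟨c, hc⟩ := CharClifford.exists_scalar_of_mem_center ρ (hN hzN)
  obtain ⟨m, σ, hσ, hσc⟩ := ψ.2
  have hzc : (⟨z⁻¹, hzN⟩ : N) ∈ Subgroup.center N :=
    Subgroup.mem_center_iff.mpr fun y => Subtype.ext (Subgroup.mem_center_iff.mp (hN hzN) y)
  obtain ⟨d, hd⟩ := CharClifford.exists_scalar_of_mem_center σ hzc
  have hχz : ∀ y : G, (χ : G → ℂ) (y * z⁻¹) = c * (χ : G → ℂ) y := fun y => by
    rw [← hρc]
    simp only [Representation.character, map_mul, hc, mul_smul_comm, mul_one, map_smul, smul_eq_mul]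
  have hψz : ∀ y : N, (ψ : N → ℂ) (y * ⟨z⁻¹, hzN⟩) = d * (ψ : N → ℂ) y := fun y => by
    rw [← hσc]
    simp only [Representation.character, map_mul, hd, mul_smul_comm, mul_one, map_smul, smul_eq_mul]
  have hne1 : c ≠ 1 := by
    intro hc1
    have hsum : ∀ y : N, (χ : G → ℂ) (y * (⟨z⁻¹, hzN⟩ : N) : N) * conj ((ψ : N → ℂ) (y * ⟨z⁻¹, hzN⟩)) =
        conj d * ((χ : G → ℂ) y * conj ((ψ : N → ℂ) y)) := fun y => by
      rw [hψz, Subgroup.coe_mul, hχz, hc1, one_mul, map_mul]; ring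
    have h := (Fintype.sum_equiv (Equiv.mulRight (⟨z⁻¹, hzN⟩ : N)) (fun y : N => conj d * ((χ : G → ℂ) y * conj ((ψ : N → ℂ) y)))
      (fun y : N => (χ : G → ℂ) y * conj ((ψ : N → ℂ) y)) (fun y => (hsum y).symm))
    rw [← Finset.mul_sum] at h
    have hS : (∑ y : N, (χ : G → ℂ) y * conj ((ψ : N → ℂ) y)) ≠ 0 := fun h0 => hover (by
      rw [Cfsg.classInner, h0, mul_zero])
    have hd1 : conj d = 1 := mul_right_cancel₀ hS (h.trans (one_mul _).symm)
    have hd2 : d = 1 := by simpa using congrArg conj hd1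
    have h1 := hfaith ⟨z⁻¹, hzN⟩ (by simpa [hd2] using hψz 1)
    exact hne (inv_eq_one.mp (congrArg Subtype.val h1))
  have hconj : (χ : G → ℂ) (g * z⁻¹) = (χ : G → ℂ) g := by
    have e : g * z⁻¹ = x⁻¹ * g * (x⁻¹)⁻¹ := by rw [hz]; group
    rw [e]
    exact CharCore.IsCharacter.isClassFunction (CharCore.irr_isCharacter χ) g x⁻¹
  rw [hχz] at hconj
  exact (mul_left_eq_self₀.mp hconj).resolve_left hne1


end Cfsg.Agent.S4566
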