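import Cfsg.Statements.S4567
import Cfsg.Agent.Lib.CharInd.Classes
import Cfsg.Agent.Lib.CharCore.Linear
import Cfsg.Agent.Lib.CharClifford.Central
import Mathlib.Algebra.BigOperators.Group.Finset.Basic

set_option autoImplicit false
open Cfsg

namespace Cfsg.Agent.S4567

open scoped ComplexConjugate
open Cfsg.Agent.CharCore

/-- Let N be a central subgroup of the finite group G and ψ a faithful irreducible (hence degree-one) character of N. Call a coset g N special when every x ∈ G whose commutator x⁻¹ g⁻¹ x g lies in N actually commutes with g (this depends only on the coset). Then the number of irreducible characters of G whose restriction to N contains ψ equals the number of conjugacy classes of G/N consisting of special cosets. -/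
theorem result {G : Type*} [Group G] [Fintype G] (N : Subgroup G) [N.Normal] [Fintype N] (hN : N ≤ Subgroup.center G) (ψ : Cfsg.IrrCharacter ↥N) (hfaith : ∀ n : ↥N, (ψ : ↥N → ℂ) n = (ψ : ↥N → ℂ) 1 → n = 1) : Nat.card {χ : Cfsg.IrrCharacter G // Cfsg.classInner (fun n : ↥N => (χ : G → ℂ) n) (ψ : ↥N → ℂ) ≠ 0} = Nat.card {C : ConjClasses (G ⧸ N) // ∃ g : G, ConjClasses.mk (g : G ⧸ N) = C ∧ ∀ x : G, x⁻¹ * g⁻¹ * x * g ∈ N → x * g = g * x} := by
  classical
  let Sp : G → Prop := fun g => ∀ x : G, x⁻¹ * g⁻¹ * x * g ∈ N → x * g = g * x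
  have hcN : ∀ (n : G), n ∈ N → ∀ x : G, n * x = x * n := fun n hn x =>
    (Subgroup.mem_center_iff.mp (hN hn) x).symm
  -- being special is a class function of the coset
  have hSp : ∀ g h : G, IsConj (g : G ⧸ N) (h : G ⧸ N) → Sp g → Sp h := by
    intro g h hgh hg x hx
    obtain ⟨c, hc⟩ := isConj_iff.mp hgh
    obtain ⟨y, rfl⟩ := QuotientGroup.mk_surjective c
    obtain ⟨n, hn, rfl⟩ : ∃ n ∈ N, y * g * y⁻¹ * n = h :=
      ⟨(y * g * y⁻¹)⁻¹ * h, QuotientGroup.eq.mp (by simpa using hc), mul_inv_cancel_left _ _⟩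
    have e : x⁻¹ * (y * g * y⁻¹ * n)⁻¹ * x * (y * g * y⁻¹ * n)
        = x⁻¹ * (y * g * y⁻¹)⁻¹ * x * (y * g * y⁻¹) :=
      calc x⁻¹ * (y * g * y⁻¹ * n)⁻¹ * x * (y * g * y⁻¹ * n)
          = x⁻¹ * (n⁻¹ * ((y * g * y⁻¹)⁻¹ * x * (y * g * y⁻¹))) * n := by group
        _ = x⁻¹ * ((y * g * y⁻¹)⁻¹ * x * (y * g * y⁻¹) * n⁻¹) * n := by
          rw [hcN n⁻¹ (inv_mem hn)]
        _ = _ := by group
    rw [e] at hx
    have h1 : (y⁻¹ * x * y)⁻¹ * g⁻¹ * (y⁻¹ * x * y) * g ∈ N := by
      have h := (inferInstance : N.Normal).conj_mem _ hx y⁻¹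
      convert h using 1
      group
    have h2 := hg _ h1
    calc x * (y * g * y⁻¹ * n) = y * ((y⁻¹ * x * y) * g) * y⁻¹ * n := by group
      _ = y * (g * (y⁻¹ * x * y)) * y⁻¹ * n := by rw [h2]
      _ = y * g * y⁻¹ * (x * n) := by group
      _ = y * g * y⁻¹ * n * x := by rw [← hcN n hn x]; group
  -- `ψ` is a homomorphism
  obtain ⟨dψ, hdψ0, hdψ, hψ1⟩ := CharClifford.exists_degree_dvd_index_center ψ.2
  have hcenter : Subgroup.center N = ⊤ := eq_top_iff.mpr fun a _ =>
    Subgroup.mem_center_iff.mpr fun b => Subtype.ext (hcN b b.2 a)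
  rw [hcenter, Subgroup.index_top, Nat.dvd_one] at hdψ
  rw [hdψ, Nat.cast_one] at hψ1
  obtain ⟨f, hf⟩ := IsCharacter.exists_hom_of_degree_one (irr_isCharacter ψ) hψ1
  -- the scalar by which `n` acts
  choose d hd0 _ hd using fun χ : IrrCharacter G => CharClifford.exists_degree_dvd_card χ.2
  let lam : IrrCharacter G → N → ℂ := fun χ n => (χ : G → ℂ) n / (d χ : ℂ)
  have hd' : ∀ χ : IrrCharacter G, (d χ : ℂ) ≠ 0 := fun χ => Nat.cast_ne_zero.mpr (hd0 χ).ne'
  have hlam : ∀ (χ : IrrCharacter G) (n : N) g, (χ : G → ℂ) ((n : G) * g) = lam χ n * (χ : G → ℂ) g := by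
    intro χ n g
    obtain ⟨m, ρ, hρ, hχ⟩ := χ.2
    haveI := hρ
    obtain ⟨c, hc⟩ := CharClifford.exists_scalar_of_mem_center ρ (hN n.2)
    have h1 : ∀ x, (χ : G → ℂ) ((n : G) * x) = c * (χ : G → ℂ) x := fun x => by
      rw [← hχ]
      show LinearMap.trace ℂ _ (ρ ((n : G) * x)) = c * LinearMap.trace ℂ _ (ρ x)
      rw [map_mul, hc, smul_mul_assoc, one_mul, map_smul, smul_eq_mul]
    have h2 : lam χ n = c := by
      have := h1 1
      rw [mul_one, hd χ] at this
      simp only [lam]
      rw [this, mul_div_assoc, div_self (hd' χ), mul_one]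
    rw [h1, h2]
  have hsum : ∀ χ : IrrCharacter G, (Cfsg.classInner (fun n : N => lam χ n) (ψ : N → ℂ)) =
      if Cfsg.classInner (fun n : N => (χ : G → ℂ) n) (ψ : N → ℂ) ≠ 0 then 1 else 0 := by
    intro χ
    have hone : lam χ 1 = 1 := by simp [lam, hd χ, div_self (hd' χ)]
    have hmul : ∀ a b, lam χ (a * b) = lam χ a * lam χ b := fun a b => by
      show (χ : G → ℂ) ((a : G) * b) / _ = _
      rw [hlam, mul_div_assoc]
    let l : N →* ℂ := { toFun := lam χ, map_one' := hone, map_mul' := hmul }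
    have hirr : Cfsg.IsIrrCharacter N (fun n => lam χ n) := by
      simpa [l] using isIrrCharacter_hom l.toHomUnits
    have hres : (fun n : N => (χ : G → ℂ) n) = (d χ : ℂ) • fun n => lam χ n := by
      funext n
      simp only [lam, Pi.smul_apply, smul_eq_mul]
      rw [mul_div_cancel₀ _ (hd' χ)]
    rw [hres, classInner_smul_left]
    rcases eq_or_ne (⟨_, hirr⟩ : IrrCharacter N) ψ with h | h
    · have h1 : Cfsg.classInner (fun n : N => lam χ n) (ψ : N → ℂ) = 1 := by
        rw [← h]; exact classInner_irr_self ⟨_, hirr⟩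
      rw [h1, mul_one, if_pos (hd' χ)]
    · have h0 : Cfsg.classInner (fun n : N => lam χ n) (ψ : N → ℂ) = 0 :=
        classInner_irr_of_ne (χ := ⟨_, hirr⟩) h
      rw [h0, mul_zero, if_neg (not_not_intro rfl)]
  have hG : (Nat.card G : ℂ) ≠ 0 := Nat.cast_ne_zero.mpr Nat.card_pos.ne'
  have hNc : (Nat.card N : ℂ) ≠ 0 := Nat.cast_ne_zero.mpr Nat.card_pos.ne'
  -- the sum over the translations fixing a class
  have hD : ∀ g : G, ∑ n : N, (if IsConj ((n : G) * g) g then conj ((ψ : N → ℂ) n) else 0)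
      = if Sp g then 1 else 0 := by
    intro g
    have hmem : ∀ (n : N) (c : G), c * g * c⁻¹ = (n : G) * g → c⁻¹ * g⁻¹ * c * g = (n : G) := by
      intro n c hc
      have h1 : c * g = (n : G) * g * c := mul_inv_eq_iff_eq_mul.mp hc
      calc c⁻¹ * g⁻¹ * c * g = c⁻¹ * g⁻¹ * (c * g) := by group
        _ = c⁻¹ * g⁻¹ * ((n : G) * g * c) := by rw [h1]
        _ = c⁻¹ * (g⁻¹ * (g * (n : G))) * c := by rw [hcN n n.2 g]; group
        _ = c⁻¹ * c * (n : G) := by rw [inv_mul_cancel_left, mul_assoc, hcN n n.2 c, mul_assoc]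
        _ = (n : G) := by rw [inv_mul_cancel, one_mul]
    by_cases hg : Sp g
    · rw [if_pos hg, Finset.sum_eq_single 1 (fun n _ hn => if_neg fun hc => hn ?_)
        (fun h => absurd (Finset.mem_univ _) h)]
      · rw [OneMemClass.coe_one, one_mul, if_pos (IsConj.refl g), hψ1, map_one]
      · obtain ⟨c, hc⟩ := isConj_iff.mp hc.symm
        have h := hmem n c hc
        rw [hg c (h ▸ n.2)] at hc
        refine Subtype.ext (mul_right_cancel (b := g) ?_)
        rw [← hc, mul_inv_cancel_right, OneMemClass.coe_one, one_mul]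
    · rw [if_neg hg]
      simp only [Sp, not_forall, exists_prop] at hg
      obtain ⟨x, hx, hne⟩ := hg
      set m : N := ⟨_, hx⟩ with hm
      have hm1 : m ≠ 1 := fun h => hne (by
        have := congrArg Subtype.val h
        simp only [hm, OneMemClass.coe_one] at this
        calc x * g = g * x * (x⁻¹ * g⁻¹ * x * g) := by group
          _ = g * x := by rw [this, mul_one])
      have hmconj : ∀ n : N, IsConj (((n * m : N) : G) * g) g ↔ IsConj ((n : G) * g) g := by
        intro n
        have key : IsConj ((n : G) * g) (((n * m : N) : G) * g) := by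
          refine isConj_iff.mpr ⟨x, ?_⟩
          have h2 : x * g = g * x * (m : G) := by
            show x * g = g * x * (x⁻¹ * g⁻¹ * x * g)
            group
          calc x * ((n : G) * g) * x⁻¹ = (n : G) * (x * g) * x⁻¹ := by
                rw [← mul_assoc x, ← hcN n n.2 x]; group
            _ = (n : G) * (g * ((m : G) * x)) * x⁻¹ := by rw [h2, hcN m m.2 x]; group
            _ = ((n : G) * (m : G)) * g := by rw [mul_assoc (n : G) (m : G), hcN m m.2 g]; group
        exact ⟨fun h => key.trans h, fun h => key.symm.trans h⟩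
      have hval : conj ((ψ : N → ℂ) m) ≠ 1 := fun h => hm1 (hfaith m (by
        rw [← Complex.conj_conj ((ψ : N → ℂ) m), h, map_one, hψ1]))
      set T := ∑ n : N, (if IsConj ((n : G) * g) g then conj ((ψ : N → ℂ) n) else 0) with hT
      have hTm : T = conj ((ψ : N → ℂ) m) * T := by
        conv_lhs => rw [hT, ← Equiv.sum_comp (Equiv.mulRight m)]
        rw [hT, Finset.mul_sum]
        refine Finset.sum_congr rfl fun n _ => ?_
        simp only [Equiv.coe_mulRight, hmconj, hf, map_mul, Units.val_mul, mul_ite, mul_zero]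
        exact if_congr Iff.rfl (mul_comm _ _) rfl
      have : (1 - conj ((ψ : N → ℂ) m)) * T = 0 := by linear_combination hTm
      exact (mul_eq_zero.mp this).resolve_left (sub_ne_zero.mpr (Ne.symm hval))
  have hcent : ∀ g : G, Sp g → (Nat.card (Subgroup.centralizer ({g} : Set G)) : ℂ) =
      (Nat.card N : ℂ) * (Nat.card (Subgroup.centralizer ({(g : G ⧸ N)} : Set (G ⧸ N))) : ℂ) := by
    intro g hg
    have hpre : (Subgroup.centralizer ({(g : G ⧸ N)} : Set (G ⧸ N))).comap (QuotientGroup.mk' N)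
        = Subgroup.centralizer ({g} : Set G) := by
      ext x
      simp only [Subgroup.mem_comap, QuotientGroup.mk'_apply,
        Subgroup.mem_centralizer_singleton_iff]
      constructor
      · intro h
        refine hg x ?_
        rw [← QuotientGroup.eq_one_iff]
        simp only [QuotientGroup.mk_mul, QuotientGroup.mk_inv]
        calc ((x : G ⧸ N))⁻¹ * (g : G ⧸ N)⁻¹ * x * g
            = ((g : G ⧸ N) * x)⁻¹ * ((x : G ⧸ N) * g) := by group
          _ = 1 := by rw [h, inv_mul_cancel]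
      · intro h; rw [← QuotientGroup.mk_mul, h, QuotientGroup.mk_mul]
    rw [← Nat.cast_mul, ← hpre, Nat.cast_inj]
    set K := Subgroup.centralizer ({(g : G ⧸ N)} : Set (G ⧸ N))
    refine Nat.eq_of_mul_eq_mul_right (Nat.pos_of_ne_zero K.index_ne_zero_of_finite) ?_
    conv_lhs => rw [← Subgroup.index_comap_of_surjective K (QuotientGroup.mk'_surjective N)]
    rw [Subgroup.card_mul_index, mul_assoc, Subgroup.card_mul_index,
      Subgroup.card_eq_card_quotient_mul_card_subgroup N, mul_comm]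
  -- the count
  haveI := Fintype.ofFinite (G ⧸ N)
  have hL : (Nat.card {χ : IrrCharacter G //
      Cfsg.classInner (fun n : N => (χ : G → ℂ) n) (ψ : N → ℂ) ≠ 0} : ℂ) =
      (Nat.card N : ℂ)⁻¹ * ((Nat.card G : ℂ)⁻¹ * ∑ g : G,
        if Sp g then (Nat.card (Subgroup.centralizer ({g} : Set G)) : ℂ) else 0) := by
    rw [Nat.card_eq_fintype_card (α := {χ : IrrCharacter G // _}), Fintype.card_subtype,
      Finset.natCast_card_filter]
    simp only [← hsum]
    have e : ∀ χ : IrrCharacter G, Cfsg.classInner (fun n : N => lam χ n) (ψ : N → ℂ) =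
        (Nat.card N : ℂ)⁻¹ * ((Nat.card G : ℂ)⁻¹ * ∑ g : G, ∑ n : N,
          (χ : G → ℂ) ((n : G) * g) * conj ((χ : G → ℂ) g) * conj ((ψ : N → ℂ) n)) := by
      intro χ
      rw [classInner_def]
      congr 1
      rw [Finset.sum_comm, Finset.mul_sum]
      refine Finset.sum_congr rfl fun n _ => ?_
      rw [← Finset.sum_mul, ← mul_assoc]
      congr 1
      have h1 := classInner_irr_self χ
      rw [classInner_def] at h1
      simp only [hlam, mul_assoc, ← Finset.mul_sum]
      rw [mul_left_comm, h1, mul_one]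
    rw [Finset.sum_congr rfl fun χ _ => e χ, ← Finset.mul_sum, ← Finset.mul_sum, Finset.sum_comm]
    congr 2
    refine Finset.sum_congr rfl fun g _ => ?_
    have h1 := congrArg (· * (Nat.card (Subgroup.centralizer ({g} : Set G)) : ℂ)) (hD g)
    simp only [ite_mul, one_mul, zero_mul] at h1
    rw [Finset.sum_comm, ← h1, Finset.sum_mul]
    refine Finset.sum_congr rfl fun n _ => ?_
    rw [← Finset.sum_mul, sum_apply_mul_conj, ite_mul, zero_mul, ite_mul, zero_mul]
    by_cases hc : IsConj ((n : G) * g) g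
    · obtain ⟨c, hc'⟩ := isConj_iff.mp hc
      rw [if_pos hc, if_pos hc, mul_comm]
      congr 2
      exact Nat.card_congr ((MulAut.conj c).toEquiv.subtypeEquiv fun y => by
        rw [Subgroup.mem_centralizer_singleton_iff, Subgroup.mem_centralizer_singleton_iff]
        show _ ↔ c * y * c⁻¹ * g = g * (c * y * c⁻¹)
        generalize hng : (n : G) * g = a at hc' ⊢
        rw [← hc']
        constructor
        · intro h; calc c * y * c⁻¹ * (c * a * c⁻¹) = c * (y * a) * c⁻¹ := by group
            _ = c * (a * y) * c⁻¹ := by rw [h]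
            _ = _ := by group
        · intro h; calc y * a = c⁻¹ * (c * y * c⁻¹ * (c * a * c⁻¹)) * c := by group
            _ = c⁻¹ * (c * a * c⁻¹ * (c * y * c⁻¹)) * c := by rw [h]
            _ = _ := by group)
    · rw [if_neg hc, if_neg hc]
  let P : ConjClasses (G ⧸ N) → Prop := fun C => ∃ g : G, ConjClasses.mk (g : G ⧸ N) = C ∧ Sp g
  have hP : ∀ g : G, P (ConjClasses.mk (g : G ⧸ N)) ↔ Sp g := fun g =>
    ⟨fun ⟨h, he, hs⟩ => hSp h g (ConjClasses.mk_eq_mk_iff_isConj.mp he) hs, fun h => ⟨g, rfl, h⟩⟩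
  have hR := CharInd.sum_card_centralizer_eq (G := G ⧸ N) P
  refine Nat.cast_injective (R := ℂ) (hL.trans ?_)
  show _ = (Nat.card {C : ConjClasses (G ⧸ N) // P C} : ℂ)
  have hQ : (Nat.card (G ⧸ N) : ℂ) ≠ 0 := Nat.cast_ne_zero.mpr Nat.card_pos.ne'
  rw [← mul_right_inj' hQ, ← hR]
  have hfib : ∑ g : G, (if P (ConjClasses.mk (g : G ⧸ N)) then
      (Nat.card (Subgroup.centralizer ({(g : G ⧸ N)} : Set (G ⧸ N))) : ℂ) else 0) =
      (Nat.card N : ℂ) * ∑ q : G ⧸ N, (if P (ConjClasses.mk q) then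
        (Nat.card (Subgroup.centralizer ({q} : Set (G ⧸ N))) : ℂ) else 0) := by
    rw [← Finset.sum_fiberwise_of_maps_to (t := (Finset.univ : Finset (G ⧸ N)))
      (g := fun x : G => (x : G ⧸ N)) (fun x _ => Finset.mem_univ _), Finset.mul_sum]
    refine Finset.sum_congr rfl fun q _ => ?_
    rw [Finset.sum_congr rfl fun x hx => by rw [(Finset.mem_filter.mp hx).2], Finset.sum_const,
      nsmul_eq_mul]
    congr 1
    obtain ⟨a, rfl⟩ := QuotientGroup.mk_surjective q
    rw [Nat.cast_inj, ← Nat.card_eq_finsetCard]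
    refine Nat.card_congr
      { toFun := fun x => ⟨a⁻¹ * x.1, QuotientGroup.eq.mp (Finset.mem_filter.mp x.2).2.symm⟩
        invFun := fun n => ⟨a * n.1, Finset.mem_filter.mpr ⟨Finset.mem_univ _,
          QuotientGroup.mk_mul_of_mem a n.2⟩⟩
        left_inv := fun x => Subtype.ext (by simp)
        right_inv := fun n => Subtype.ext (by simp) }
  have hmain : ∑ g : G, (if Sp g then (Nat.card (Subgroup.centralizer ({g} : Set G)) : ℂ) else 0) =
      (Nat.card N : ℂ) * ((Nat.card N : ℂ) * ∑ q : G ⧸ N, (if P (ConjClasses.mk q) then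
        (Nat.card (Subgroup.centralizer ({q} : Set (G ⧸ N))) : ℂ) else 0)) := by
    rw [← hfib, Finset.mul_sum]
    refine Finset.sum_congr rfl fun g _ => ?_
    by_cases hg : Sp g
    · rw [if_pos hg, if_pos ((hP g).mpr hg), hcent g hg]
    · rw [if_neg hg, if_neg (mt (hP g).mp hg), mul_zero]
  rw [hmain, Subgroup.card_eq_card_quotient_mul_card_subgroup N, Nat.cast_mul]
  field_simp

end Cfsg.Agent.S4567
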