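import Cfsg.Statements.S4580
import Cfsg.Agent.BC84.PrincipalTwo
import Cfsg.Agent.BC84.Extensions

set_option autoImplicit false
open Cfsg

namespace Cfsg.Agent.S4580

/-- Let N be a normal subgroup of the finite group G, M a maximal ideal of the algebraic integers containing 2, and θ a real-valued irreducible character of N of odd degree that extends to G (some irreducible character of G restricts to θ). Then θ has an extension to G lying in the principal 2-block of G. -/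
theorem result {G : Type*} [Group G] [Finite G] (N : Subgroup G) [N.Normal] (M : Ideal Cfsg.AlgInt) (hM : Cfsg.IsPModular 2 M) (θ : Cfsg.IrrCharacter N) (hreal : ∀ n : N, ((θ : N → ℂ) n).im = 0) (hodd : Odd (Cfsg.charDegree (θ : N → ℂ))) (hext : ∃ η : Cfsg.IrrCharacter G, ∀ n : N, (η : G → ℂ) n = (θ : N → ℂ) n) :
    ∃ η : Cfsg.IrrCharacter G, (∀ n : N, (η : G → ℂ) n = (θ : N → ℂ) n) ∧ η ∈ Cfsg.principalBlock M G := by
  classical
  have := Fintype.ofFinite G
  have := BlocksCore.isPrime hM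
  obtain ⟨η, hη⟩ := hext
  let ηb : Cfsg.IrrCharacter G := ⟨_, CharCore.isIrrCharacter_star η.2⟩
  have hηb : ∀ n : N, (ηb : G → ℂ) n = (θ : N → ℂ) n := fun n => by
    show (starRingEnd ℂ) ((η : G → ℂ) n) = _
    rw [hη]
    exact Complex.conj_eq_iff_im.mpr (hreal n)
  obtain ⟨f, hfN, hf⟩ := BC84.exists_linear_of_restrict_eq N η ηb θ hη hηb
  set o := Nat.card G / 2 ^ (Nat.card G).factorization 2 with ho
  have hoodd : Odd o := Nat.odd_iff.mpr (Nat.two_dvd_ne_zero.mp (Nat.not_dvd_ordCompl Nat.prime_two Nat.card_pos.ne'))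
  obtain ⟨m, hm⟩ := hoodd
  let μ : G →* ℂˣ := f ^ (m + 1)
  refine ⟨⟨_, CharCore.isIrrCharacter_hom_mul μ η.2⟩, fun n => ?_, ?_⟩
  · show ((μ (n : G) : ℂˣ) : ℂ) * _ = _
    simp [μ, hfN, hη]
  set ζ : Cfsg.IrrCharacter G := ⟨_, CharCore.isIrrCharacter_hom_mul μ η.2⟩ with hζ
  have hdeg : Cfsg.charDegree (ζ : G → ℂ) = Cfsg.charDegree (θ : N → ℂ) := by
    unfold Cfsg.charDegree
    congr 2
    show ((μ (1 : G) : ℂˣ) : ℂ) * _ = _
    rw [map_one, Units.val_one, one_mul, ← hη 1]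
    rfl
  refine BC84.mem_principalBlock_of_odd hM ζ (hdeg ▸ hodd) fun v hv => ?_
  have hval : (ζ : G → ℂ) v⁻¹ = (ζ : G → ℂ) v := by
    have hvo : orderOf v ∣ o := by
      have h1 : orderOf v ∣ 2 ^ (Nat.card G).factorization 2 * o :=
        (Nat.ordProj_mul_ordCompl_eq_self (Nat.card G) 2).symm ▸ orderOf_dvd_natCard v
      exact ((Nat.coprime_two_left.mpr hv).pow_left _).symm.dvd_of_dvd_mul_left h1
    have hfo : (f v : ℂ) ^ o = 1 := by
      rw [← Units.val_pow_eq_pow_val, ← map_pow, orderOf_dvd_iff_pow_eq_one.mp hvo, map_one, Units.val_one]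
    have h2 : (starRingEnd ℂ) ((η : G → ℂ) v) = (f v : ℂ) * (η : G → ℂ) v := hf v
    have hinv : (η : G → ℂ) v⁻¹ = (f v : ℂ) * (η : G → ℂ) v := by
      rw [CharCore.irr_apply_inv, h2]
    show ((μ v⁻¹ : ℂˣ) : ℂ) * (η : G → ℂ) v⁻¹ = ((μ v : ℂˣ) : ℂ) * (η : G → ℂ) v
    simp only [μ, MonoidHom.pow_apply, map_inv, Units.val_pow_eq_pow_val, Units.val_inv_eq_inv_val]
    rw [hinv, ← mul_assoc]
    congr 1
    have h0 : (f v : ℂ) ≠ 0 := Units.ne_zero _
    rw [inv_mul_eq_iff_eq_mul₀ (pow_ne_zero _ h0), ← pow_add]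
    calc (f v : ℂ) = (f v : ℂ) ^ o * (f v : ℂ) := by rw [hfo, one_mul]
      _ = _ := by rw [← pow_succ]; congr 1; omega
  rw [hval, sub_self, mul_zero]
  exact BlocksCore.memLocalIdeal_zero

end Cfsg.Agent.S4580
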