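import Cfsg.Statements.S4581
import Cfsg.Agent.BC84.SolvRealMain
-- import your own Cfsg.Agent.* helpers here

set_option autoImplicit false
open Cfsg

namespace Cfsg.Agent.S4581

/-- Let G be a finite solvable group, P a Sylow 2-subgroup and N its normalizer. Then G and N have the same number of real-valued irreducible characters of odd degree; and every odd-degree irreducible character of G is real-valued exactly when the derived subgroup of P equals the Frattini subgroup of P and P is its own normalizer in G. -/
theorem result {G : Type*} [Group G] [Finite G] [Group.IsSolvable G] (P : Sylow 2 G) :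
    Nat.card {χ : Cfsg.IrrCharacter G // (∀ g : G, ((χ : G → ℂ) g).im = 0) ∧ Odd (Cfsg.charDegree (χ : G → ℂ))} =
      Nat.card {ψ : Cfsg.IrrCharacter (Subgroup.normalizer ((P : Subgroup G) : Set G)) // (∀ g, ((ψ : Subgroup.normalizer ((P : Subgroup G) : Set G) → ℂ) g).im = 0) ∧ Odd (Cfsg.charDegree (ψ : Subgroup.normalizer ((P : Subgroup G) : Set G) → ℂ))} ∧
    ((∀ χ : Cfsg.IrrCharacter G, Odd (Cfsg.charDegree (χ : G → ℂ)) → ∀ g : G, ((χ : G → ℂ) g).im = 0) ↔
      (commutator (P : Subgroup G) = frattini (P : Subgroup G) ∧ Subgroup.normalizer ((P : Subgroup G) : Set G) = (P : Subgroup G))) := by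
  classical
  have := Fact.mk Nat.prime_two
  set N := Subgroup.normalizer ((P : Subgroup G) : Set G) with hN
  refine ⟨?_, ?_⟩
  · let PN : Sylow 2 N := P.subtype Subgroup.le_normalizer
    let ε : (PN : Subgroup N) ≃* (P : Subgroup G) :=
      { toFun := fun x => ⟨((x : N) : G), x.2⟩
        invFun := fun x => ⟨⟨(x : G), Subgroup.le_normalizer x.2⟩, x.2⟩
        left_inv := fun _ => rfl
        right_inv := fun _ => rfl
        map_mul' := fun _ _ => rfl }
    have htop : Subgroup.normalizer ((PN : Subgroup N) : Set N) = ⊤ :=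
      eq_top_iff.mpr fun n _ => Subgroup.mem_normalizer_iff.mpr fun z => Subgroup.mem_normalizer_iff.mp n.2 (z : G)
    show Nat.card (BC84.SolvReal.realOdd G) = Nat.card (BC84.SolvReal.realOdd N)
    rw [BC84.SolvReal.count_aux (Nat.card G) G P le_rfl, BC84.SolvReal.count_aux (Nat.card N) N PN le_rfl]
    exact (BC84.SolvReal.card_orb_congr ε N.subtype (fun _ => rfl)
      (by rw [htop, ← MonoidHom.range_eq_map, Subgroup.range_subtype])).symm
  · rw [BC84.SolvReal.commutator_eq_frattini_iff P.2]
    exact BC84.SolvReal.allReal_aux (Nat.card G) G P le_rfl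


end Cfsg.Agent.S4581
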