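import Cfsg.Statements.S4582
import Mathlib.GroupTheory.Transfer
import Mathlib.GroupTheory.Abelianization.Defs
import Mathlib.GroupTheory.PGroup

set_option autoImplicit false
set_option linter.all false
open Cfsg

namespace Cfsg.Agent.S4582

open Subgroup Subgroup.leftTransversals
open scoped commutatorElement

theorem transfer_comp {G A B : Type*} [Group G] [CommGroup A] [CommGroup B] {H : Subgroup G}
    [H.FiniteIndex] (ϕ : H →* A) (f : A →* B) (ψ : G →* B) (h : ∀ x : H, f (ϕ x) = ψ x) (g : G) :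
    f (MonoidHom.transfer ϕ g) = ψ g ^ H.index := by
  let T : H.LeftTransversal := default
  letI := H.fintypeQuotientOfFiniteIndex
  rw [MonoidHom.transfer_def ϕ T g]
  simp only [diff, map_prod, h]
  have hβ : ∀ q : G ⧸ H, (((g • T).2.leftQuotientEquiv q : G)) =
      g * (T.2.leftQuotientEquiv (g⁻¹ • q) : G) := fun q => by
    rw [smul_apply_eq_smul_apply_inv_smul]; rfl
  simp only [map_mul, map_inv, hβ, Finset.prod_mul_distrib, Finset.prod_inv_distrib,
    Finset.prod_const, Finset.card_univ]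
  rw [Fintype.prod_equiv (MulAction.toPerm g⁻¹) (fun q => ψ (T.2.leftQuotientEquiv (g⁻¹ • q) : G))
    (fun q => ψ (T.2.leftQuotientEquiv q : G)) (fun q => rfl)]
  rw [mul_comm (ψ g ^ _), inv_mul_cancel_left, Subgroup.index, Nat.card_eq_fintype_card]

theorem main {G : Type*} [Group G] [Finite G] (N : Subgroup G) [N.Normal] (P : Sylow 2 G)
    (htop : N ⊔ (P : Subgroup G) = ⊤)
    (hP : ∀ x ∈ (P : Subgroup G), x ^ 2 ∈ ((P : Subgroup G) ⊓ N) ⊔ ⁅(P : Subgroup G), (P : Subgroup G)⁆)
    (hQ : ∀ x ∈ (P : Subgroup G) ⊓ N, x ^ 2 ∈ ⁅(P : Subgroup G) ⊓ N, (P : Subgroup G) ⊓ N⁆)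
    (hodd : Odd (Nat.card (Abelianization N))) :
    ∀ x ∈ (P : Subgroup G), x ^ 2 ∈ ⁅(P : Subgroup G), (P : Subgroup G)⁆ := by
  set P₀ : Subgroup G := (P : Subgroup G) with hP₀
  set K₀ : Subgroup G := (P₀ ⊓ N) ⊔ ⁅P₀, P₀⁆ with hK₀
  set K : Subgroup P₀ := (N.subgroupOf P₀) ⊔ commutator P₀ with hK
  haveI : K.Normal := inferInstance
  have hmapK : K.map P₀.subtype = K₀ := by
    rw [hK, hK₀, Subgroup.map_sup, Subgroup.subgroupOf_map_subtype, commutator_def,
      Subgroup.map_commutator, ← MonoidHom.range_eq_map, Subgroup.range_subtype, inf_comm]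
  have hmemK : ∀ y : P₀, y ∈ K ↔ (y : G) ∈ K₀ := fun y => by
    rw [← hmapK]; exact (Subgroup.mem_map_iff_mem (Subgroup.subtype_injective P₀)).symm
  have hcomm : ∀ y : P₀, y ∈ commutator P₀ ↔ (y : G) ∈ ⁅P₀, P₀⁆ := fun y => by
    have : (commutator P₀).map P₀.subtype = ⁅P₀, P₀⁆ := by
      rw [commutator_def, Subgroup.map_commutator, ← MonoidHom.range_eq_map, Subgroup.range_subtype]
    rw [← this]; exact (Subgroup.mem_map_iff_mem (Subgroup.subtype_injective P₀)).symm
  letI : CommGroup (P₀ ⧸ K) := { (inferInstance : Group (P₀ ⧸ K)) with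
    mul_comm := fun a b => by
      induction a using QuotientGroup.induction_on with
      | _ a =>
      induction b using QuotientGroup.induction_on with
      | _ b =>
      rw [← QuotientGroup.mk_mul, ← QuotientGroup.mk_mul, QuotientGroup.eq]
      apply (le_sup_right : commutator P₀ ≤ K)
      have : (a * b)⁻¹ * (b * a) = ⁅b⁻¹, a⁻¹⁆ := by rw [commutatorElement_def]; group
      rw [this]
      exact Subgroup.commutator_mem_commutator (Subgroup.mem_top _) (Subgroup.mem_top _) }
  let q : P₀ →* G ⧸ N := (QuotientGroup.mk' N).comp P₀.subtype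
  have hq : Function.Surjective q := by
    intro z
    induction z using QuotientGroup.induction_on with
    | _ g =>
    have hg : g ∈ N ⊔ P₀ := htop ▸ Subgroup.mem_top g
    obtain ⟨n, hn, x, hx, rfl⟩ := Subgroup.mem_sup_of_normal_left.1 hg
    refine ⟨⟨x, hx⟩, ?_⟩
    show (x : G ⧸ N) = ((n * x : G) : G ⧸ N)
    rw [QuotientGroup.mk_mul, (QuotientGroup.eq_one_iff n).2 hn, one_mul]
  have hker : q.ker ≤ (QuotientGroup.mk' K).ker := by
    intro y hy
    rw [QuotientGroup.ker_mk']
    apply (le_sup_left : N.subgroupOf P₀ ≤ K)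
    exact Subgroup.mem_subgroupOf.2 ((QuotientGroup.eq_one_iff (y : G)).1 hy)
  let ψ : G →* P₀ ⧸ K :=
    (q.liftOfSurjective hq ⟨QuotientGroup.mk' K, hker⟩).comp (QuotientGroup.mk' N)
  have hψ : ∀ y : P₀, ψ y = (y : P₀ ⧸ K) := fun y =>
    q.liftOfRightInverse_comp_apply _ (Function.rightInverse_surjInv hq) ⟨QuotientGroup.mk' K, hker⟩ y
  let T : G →* Abelianization P₀ := MonoidHom.transfer (Abelianization.of : P₀ →* Abelianization P₀)
  let f : Abelianization P₀ →* P₀ ⧸ K := Abelianization.lift (QuotientGroup.mk' K)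
  have hf : ∀ g, f (T g) = ψ g ^ P₀.index :=
    transfer_comp _ f ψ (fun y => by rw [hψ]; rfl)
  haveI : Fact (Nat.Prime 2) := ⟨Nat.prime_two⟩
  have h2 : IsPGroup 2 (Abelianization P₀) :=
    P.isPGroup'.of_surjective Abelianization.of QuotientGroup.mk_surjective
  have hN : ∀ n ∈ N, T n = 1 := by
    intro n hn
    let TN : Abelianization N →* Abelianization P₀ := Abelianization.lift (T.comp N.subtype)
    have h1 : T n = TN (Abelianization.of ⟨n, hn⟩) := rfl
    obtain ⟨j, hj⟩ := h2 (T n)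
    have h3 : orderOf (T n) ∣ 2 ^ j := orderOf_dvd_of_pow_eq_one hj
    have h4 : orderOf (T n) ∣ Nat.card (Abelianization N) := by
      rw [h1]; exact (orderOf_map_dvd TN _).trans (orderOf_dvd_natCard _)
    have h5 : Nat.Coprime (2 ^ j) (Nat.card (Abelianization N)) :=
      Nat.Coprime.pow_left _ ((Nat.coprime_two_left).2 hodd)
    exact orderOf_eq_one_iff.1 (Nat.eq_one_of_dvd_coprimes h5 h3 h4)
  intro x hx
  have hT2 : T x ^ 2 = 1 := by
    rw [← map_pow]
    have h := hP x hx
    have hle : (P₀ ⊓ N) ⊔ ⁅P₀, P₀⁆ ≤ T.ker := sup_le (fun y hy => hN y hy.2) <| by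
      rw [Subgroup.commutator_le]
      intro a _ b _
      rw [MonoidHom.mem_ker, map_commutatorElement, commutatorElement_eq_one_iff_mul_comm, mul_comm]
    exact hle h
  set x' : P₀ := ⟨x, hx⟩ with hx'
  obtain ⟨y, hy⟩ := QuotientGroup.mk_surjective (T x)
  have hyK : (y : P₀ ⧸ K) = ((x' ^ P₀.index : P₀) : P₀ ⧸ K) := by
    have := hf x
    rw [← hy] at this
    rw [show (y : P₀ ⧸ K) = f (Abelianization.of y) from rfl, QuotientGroup.mk_pow]
    rw [show (x : G) = ((x' : P₀) : G) from rfl, hψ] at this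
    exact this
  have hk : (x' ^ P₀.index)⁻¹ * y ∈ K := QuotientGroup.eq.1 hyK.symm
  obtain ⟨u, hu, c, hc, huc⟩ := Subgroup.mem_sup_of_normal_right.1 hk
  have hu2 : (Abelianization.of u : Abelianization P₀) ^ 2 = 1 := by
    rw [← map_pow, ← MonoidHom.mem_ker, Abelianization.ker_of, hcomm]
    exact Subgroup.commutator_mono inf_le_left inf_le_left
      (hQ (u : G) ⟨u.2, Subgroup.mem_subgroupOf.1 hu⟩)
  have hc1 : (Abelianization.of c : Abelianization P₀) = 1 := by
    rw [← MonoidHom.mem_ker, Abelianization.ker_of]; exact hc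
  have e : T x = (Abelianization.of x') ^ P₀.index * Abelianization.of u := by
    have : y = x' ^ P₀.index * (u * c) := by rw [huc]; group
    rw [← hy]
    show Abelianization.of y = _
    rw [this, map_mul, map_mul, map_pow, hc1, mul_one]
  rw [e, mul_pow, hu2, mul_one, ← pow_mul, mul_comm, pow_mul] at hT2
  have hz : (Abelianization.of x' : Abelianization P₀) ^ 2 = 1 := by
    obtain ⟨j, hj⟩ := h2 ((Abelianization.of x') ^ 2)
    have hodd' : Nat.Coprime 2 P₀.index :=
      Nat.prime_two.coprime_iff_not_dvd.2 P.not_dvd_index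
    exact orderOf_eq_one_iff.1 (Nat.eq_one_of_dvd_coprimes (Nat.Coprime.pow_left j hodd')
      (orderOf_dvd_of_pow_eq_one hj) (orderOf_dvd_of_pow_eq_one hT2))
  rw [← map_pow, ← MonoidHom.mem_ker, Abelianization.ker_of, hcomm] at hz
  simpa using hz


/-- Let N be a normal subgroup of the finite group G, P a Sylow 2-subgroup of G and Q = P ∩ N. Suppose that P/QP' and Q/Q' are elementary abelian (every square of an element of P lies in the subgroup generated by Q and the derived subgroup of P, and every square of an element of Q lies in the derived subgroup of Q), and that the commutator factor group N/N' has odd order. Then P/P' is elementary abelian. -/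
theorem result {G : Type*} [Group G] [Finite G] (N : Subgroup G) [N.Normal] (P : Sylow 2 G)
    (hP : ∀ x ∈ (P : Subgroup G), x ^ 2 ∈ ((P : Subgroup G) ⊓ N) ⊔ ⁅(P : Subgroup G), (P : Subgroup G)⁆)
    (hQ : ∀ x ∈ (P : Subgroup G) ⊓ N, x ^ 2 ∈ ⁅(P : Subgroup G) ⊓ N, (P : Subgroup G) ⊓ N⁆)
    (hodd : Odd (Nat.card (Abelianization N))) :
    ∀ x ∈ (P : Subgroup G), x ^ 2 ∈ ⁅(P : Subgroup G), (P : Subgroup G)⁆ := by
  set H : Subgroup G := N ⊔ (P : Subgroup G) with hH
  have hPH : (P : Subgroup G) ≤ H := le_sup_right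
  have hNH : N ≤ H := le_sup_left
  have hmP : (P.subtype hPH : Subgroup H).map H.subtype = (P : Subgroup G) := by
    rw [Sylow.coe_subtype, Subgroup.subgroupOf_map_subtype, inf_eq_left.2 hPH]
  have hmN : (N.subgroupOf H).map H.subtype = N := by
    rw [Subgroup.subgroupOf_map_subtype, inf_eq_left.2 hNH]
  have hmI : ((P.subtype hPH : Subgroup H) ⊓ N.subgroupOf H).map H.subtype = (P : Subgroup G) ⊓ N := by
    rw [Subgroup.map_inf _ _ _ (Subgroup.subtype_injective H), hmP, hmN]
  have key := main (N.subgroupOf H) (P.subtype hPH) ?_ ?_ ?_ ?_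
  · intro x hx
    have h := key ⟨x, hPH hx⟩ hx
    have := Subgroup.mem_map_of_mem H.subtype h
    rw [Subgroup.map_commutator, hmP] at this
    simpa using this
  · apply Subgroup.map_injective (Subgroup.subtype_injective H)
    rw [Subgroup.map_sup, hmP, hmN, ← MonoidHom.range_eq_map, Subgroup.range_subtype]
  · intro x hx
    refine (Subgroup.mem_map_iff_mem (Subgroup.subtype_injective H)).1 ?_
    rw [Subgroup.map_sup, hmI, Subgroup.map_commutator, hmP]
    simpa using hP (x : G) hx
  · intro x hx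
    refine (Subgroup.mem_map_iff_mem (Subgroup.subtype_injective H)).1 ?_
    rw [Subgroup.map_commutator, hmI]
    simpa using hQ (x : G) hx
  · rwa [Nat.card_congr ((Subgroup.subgroupOfEquivOfLe hNH).abelianizationCongr).toEquiv]

end Cfsg.Agent.S4582
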