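import Cfsg.Statements.S4583
import Cfsg.Agent.BC84.PrincipalDegree
import Cfsg.Agent.BC84.Constituent

set_option autoImplicit false
open Cfsg

namespace Cfsg.Agent.S4583

/-- Let N be a normal subgroup of the finite group G, p a prime, M a maximal ideal of the algebraic integers containing p, and P a Sylow p-subgroup of G. Let θ be an irreducible character of N of degree prime to p lying in the principal p-block of N, and suppose θ extends to the subgroup NP (some irreducible character of NP restricts to θ). Then some irreducible character χ of G of degree prime to p in the principal p-block of G lies over θ (θ is a constituent of the restriction of χ to N). -/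
theorem result {G : Type*} [Group G] [Finite G] (N : Subgroup G) [N.Normal] (p : ℕ) [Fact p.Prime] (M : Ideal Cfsg.AlgInt) (hM : Cfsg.IsPModular p M) (P : Sylow p G)
    (θ : Cfsg.IrrCharacter N) (hθ : θ ∈ Cfsg.principalBlock M N) (hdeg : ¬ p ∣ Cfsg.charDegree (θ : N → ℂ))
    (hext : ∃ η : Cfsg.IrrCharacter ↥(N ⊔ (P : Subgroup G)), ∀ n : N, (η : ↥(N ⊔ (P : Subgroup G)) → ℂ) (Subgroup.inclusion le_sup_left n) = (θ : N → ℂ) n) :
    ∃ χ : Cfsg.IrrCharacter G, χ ∈ Cfsg.principalBlock M G ∧ ¬ p ∣ Cfsg.charDegree (χ : G → ℂ) ∧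
      haveI := Fintype.ofFinite N; Cfsg.classInner (fun n : N => (χ : G → ℂ) n) (θ : N → ℂ) ≠ 0 := by
  classical
  have := Fintype.ofFinite G
  letI := Fintype.ofFinite N
  have := BlocksCore.isPrime hM
  set H := N ⊔ (P : Subgroup G) with hH
  obtain ⟨η, hη⟩ := hext
  have hHN : ∀ h ∈ H, ¬ p ∣ orderOf h → h ∈ N := by
    intro h hh hreg
    obtain ⟨n, hn, x, hx, rfl⟩ := Subgroup.mem_sup_of_normal_left.mp hh
    obtain ⟨j, hj⟩ := P.2 ⟨x, hx⟩
    rw [← QuotientGroup.eq_one_iff (N := N)]
    set w : G ⧸ N := ((n * x : G) : G ⧸ N) with hw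
    have h1 : w ^ p ^ j = 1 := by
      rw [hw, QuotientGroup.mk_mul, (QuotientGroup.eq_one_iff n).mpr hn, one_mul, ← QuotientGroup.mk_pow,
        show x ^ p ^ j = 1 from congrArg Subtype.val hj, QuotientGroup.mk_one]
    have h2 : orderOf w ∣ orderOf (n * x) := orderOf_map_dvd (QuotientGroup.mk' N) _
    exact orderOf_eq_one_iff.mp (Nat.eq_one_of_dvd_coprimes
      (Nat.Coprime.pow_left _ ((Fact.out : p.Prime).coprime_iff_not_dvd.mpr hreg))
      (orderOf_dvd_of_pow_eq_one h1) h2)
  have hidx : ¬ p ∣ H.index := fun h => P.not_dvd_index (h.trans (Subgroup.index_dvd_of_le le_sup_right))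
  have hS := BC84.principalPart_indFun_not_mem hM N H le_sup_left hHN hidx θ hθ hdeg (η : H → ℂ) hη
  obtain ⟨χ, -, hne⟩ : ∃ χ ∈ (Finset.univ : Finset (Cfsg.IrrCharacter G)), ¬ Cfsg.MemLocalIdeal M
      ((Cfsg.principalBlock M G).indicator 1 χ *
        (Cfsg.classInner (Cfsg.indFun H (η : H → ℂ)) (χ : G → ℂ) * (χ : G → ℂ) 1)) := by
    by_contra hno
    push Not at hno
    exact hS (BlocksCore.memLocalIdeal_sum hno)
  obtain ⟨m, hm⟩ := CharCore.IsCharacter.exists_classInner_irr_eq_natCast
    (CharInd.isCharacter_indFun H (CharCore.irr_isCharacter η)) χ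
  rw [hm] at hne
  have hχB : χ ∈ Cfsg.principalBlock M G := by
    by_contra h
    rw [Set.indicator_of_notMem h, zero_mul] at hne
    exact hne BlocksCore.memLocalIdeal_zero
  rw [Set.indicator_of_mem hχB, Pi.one_apply, one_mul, BlocksCore.irr_one_eq, ← Nat.cast_mul,
    BlocksCore.memLocalIdeal_natCast_iff hM] at hne
  refine ⟨χ, hχB, fun hd => hne (dvd_mul_of_dvd_right hd m), ?_⟩
  have hm0 : m ≠ 0 := fun h0 => hne (by rw [h0, zero_mul]; exact dvd_zero p)
  refine BC84.classInner_restrict_ne_zero χ le_sup_left η θ hη ?_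
  rw [← CharInd.classInner_indFun_left H _ (CharCore.irr_isClassFunction χ), hm]
  exact_mod_cast hm0

end Cfsg.Agent.S4583
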