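import Cfsg.Statements.S4586
import Mathlib.Tactic.LinearCombination
import Mathlib.Tactic.Ring
import Mathlib.GroupTheory.PGroup
import Mathlib.GroupTheory.Commutator.Basic

set_option autoImplicit false
set_option linter.all false
open Cfsg

namespace Cfsg.Agent.S4586

open Subgroup
open scoped commutatorElement

theorem key {P : Type*} [Group P] [Finite P] {p : ℕ} (hp : p.Prime) (N : Subgroup P) [N.Normal] (hN : N.index = p)
    (x : P) (hx : x ∉ N) :
    (commutator P).index = p ^ 2 ↔
      Nat.card {n : N // x * n * x⁻¹ * (n : P)⁻¹ ∈ (commutator N).map N.subtype} = p * Nat.card (commutator N) := by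
  let ψ : N → N := fun n => (⟨x * n * x⁻¹, ‹N.Normal›.conj_mem n n.2 x⟩ : N) * n⁻¹
  let φ : N →* N ⧸ commutator N :=
    { toFun := fun n => ((ψ n : N) : N ⧸ commutator N)
      map_one' := by
        rw [QuotientGroup.eq_one_iff]
        convert (commutator N).one_mem
        ext; simp [ψ]
      map_mul' := fun a b => by
        have key : ∀ u v : N, ((u * v : N) : N ⧸ commutator N) = ((v * u : N) : N ⧸ commutator N) := fun u v => by
          rw [QuotientGroup.eq]
          have : (u * v)⁻¹ * (v * u) = ⁅v⁻¹, u⁻¹⁆ := by rw [commutatorElement_def]; group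
          rw [this]
          exact commutator_mem_commutator (mem_top _) (mem_top _)
        have h : (⟨x * (a * b : N) * x⁻¹, ‹N.Normal›.conj_mem _ (a * b).2 x⟩ : N) =
            ⟨x * a * x⁻¹, ‹N.Normal›.conj_mem a a.2 x⟩ * ⟨x * b * x⁻¹, ‹N.Normal›.conj_mem b b.2 x⟩ := by
          ext; simp [mul_assoc]
        show (((⟨x * (a * b : N) * x⁻¹, _⟩ : N) * (a * b)⁻¹ : N) : N ⧸ commutator N) = _
        rw [h]
        set A : N := ⟨x * a * x⁻¹, ‹N.Normal›.conj_mem a a.2 x⟩
        set B : N := ⟨x * b * x⁻¹, ‹N.Normal›.conj_mem b b.2 x⟩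
        rw [mul_inv_rev, show A * B * (b⁻¹ * a⁻¹) = A * ((B * b⁻¹) * a⁻¹) by group]
        simp only [QuotientGroup.mk_mul]
        rw [← QuotientGroup.mk_mul, ← QuotientGroup.mk_mul, key (B * b⁻¹) a⁻¹]
        simp only [ψ, A, B, QuotientGroup.mk_mul, mul_assoc] }
  have hker : Nat.card {n : N // x * n * x⁻¹ * (n : P)⁻¹ ∈ (commutator N).map N.subtype} = Nat.card φ.ker := by
    refine Nat.card_congr (Equiv.subtypeEquivRight fun n => ?_)
    rw [MonoidHom.mem_ker]
    show _ ↔ ((_ : N) : N ⧸ commutator N) = 1
    rw [QuotientGroup.eq_one_iff, ← Subgroup.mem_map_iff_mem (Subgroup.subtype_injective N) (K := commutator N)]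
    simp only [ψ]
    exact Iff.rfl
  set R : Subgroup N := φ.range.comap (QuotientGroup.mk' (commutator N)) with hR
  set R' : Subgroup P := R.map N.subtype with hR'
  have hRN : commutator N ≤ R := fun c hc => by
    show (c : N ⧸ commutator N) ∈ φ.range
    rw [(QuotientGroup.eq_one_iff c).2 hc]; exact one_mem _
  haveI hR'n : R'.Normal := by
    have hgen : N ⊔ zpowers x = ⊤ := by
      have hlt : N < N ⊔ zpowers x := lt_of_le_of_ne le_sup_left fun h =>
        hx (h.symm ▸ (le_sup_right : zpowers x ≤ N ⊔ zpowers x) (mem_zpowers x))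
      have h1 := Subgroup.index_strictAnti hlt
      have h2 := Subgroup.index_dvd_of_le hlt.le
      rw [hN] at h1 h2
      exact Subgroup.index_eq_one.1 (((Nat.dvd_prime hp).1 h2).resolve_right h1.ne)
    rw [← Subgroup.normalizer_eq_top_iff, ← top_le_iff, ← hgen, sup_le_iff]
    refine ⟨fun n hn => ?_, ?_⟩
    · -- conjugation inside `N` is trivial modulo `N'`
      have hmem : ∀ m : N, ∀ r ∈ R, m * r * m⁻¹ ∈ R := fun m r hr => by
        have : m * r * m⁻¹ = ⁅m, r⁆ * r := by rw [commutatorElement_def]; group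
        rw [this]
        exact mul_mem (hRN (commutator_mem_commutator (mem_top _) (mem_top _))) hr
      rw [Subgroup.mem_normalizer_iff]
      intro h
      constructor
      · rintro ⟨r, hr, rfl⟩; exact ⟨_, hmem ⟨n, hn⟩ r hr, rfl⟩
      · rintro ⟨r, hr, hr'⟩
        refine ⟨_, hmem (⟨n, hn⟩⁻¹) r hr, ?_⟩
        simp [show (r : P) = n * h * n⁻¹ from hr', mul_assoc]
    · rw [zpowers_le]
      apply Subgroup.mem_normalizer_fintype
      rintro _ ⟨r, ⟨n, hn⟩, rfl⟩
      refine ⟨⟨x * r * x⁻¹, ‹N.Normal›.conj_mem r r.2 x⟩, ⟨⟨x * n * x⁻¹, ‹N.Normal›.conj_mem n n.2 x⟩, ?_⟩, rfl⟩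
      show ((_ : N) : N ⧸ commutator N) = ((_ : N) : N ⧸ commutator N)
      rw [QuotientGroup.eq]
      have h0 : ((⟨x * n * x⁻¹, ‹N.Normal›.conj_mem n n.2 x⟩ * n⁻¹ : N))⁻¹ * r ∈ commutator N := QuotientGroup.eq.1 hn
      have h1 := (Subgroup.mem_map_iff_mem (Subgroup.subtype_injective N) (K := commutator N)).2 h0
      have h2 : x * (N.subtype (((⟨x * n * x⁻¹, ‹N.Normal›.conj_mem n n.2 x⟩ * n⁻¹ : N))⁻¹ * r)) * x⁻¹ ∈ (commutator N).map N.subtype := by
        haveI : ((commutator N).map N.subtype).Normal := inferInstance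
        exact this.conj_mem _ h1 x
      rw [← Subgroup.mem_map_iff_mem (Subgroup.subtype_injective N) (K := commutator N)]
      convert h2 using 1
      simp [ψ, mul_assoc]
  have hcomm : commutator P = R' := by
    apply le_antisymm
    · let f := QuotientGroup.mk' R'
      have hNab : ∀ a ∈ N, ∀ b ∈ N, f a * f b = f b * f a := fun a ha b hb => by
        rw [← commutatorElement_eq_one_iff_mul_comm, ← map_commutatorElement]
        exact (QuotientGroup.eq_one_iff _).2
          ⟨⁅(⟨a, ha⟩ : N), ⟨b, hb⟩⁆, hRN (commutator_mem_commutator (mem_top _) (mem_top _)), rfl⟩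
      have hxN : ∀ a ∈ N, f x * f a = f a * f x := fun a ha => by
        rw [← commutatorElement_eq_one_iff_mul_comm, ← map_commutatorElement]
        refine (QuotientGroup.eq_one_iff _).2 ⟨⟨x * a * x⁻¹, ‹N.Normal›.conj_mem a ha x⟩ * ⟨a, ha⟩⁻¹, ?_, ?_⟩
        · exact ⟨⟨a, ha⟩, rfl⟩
        · simp [commutatorElement_def]
      have hgen : ∀ H : Subgroup P, N ≤ H → x ∈ H → H = ⊤ := by
        intro H hNH hxH
        have hlt : N < H := lt_of_le_of_ne hNH fun h => hx (h ▸ hxH)
        have h1 := Subgroup.index_strictAnti hlt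
        have h2 := Subgroup.index_dvd_of_le hlt.le
        rw [hN] at h1 h2
        exact Subgroup.index_eq_one.1 (((Nat.dvd_prime hp).1 h2).resolve_right h1.ne)
      rw [_root_.commutator_def, Subgroup.commutator_le]
      intro a _ b _
      have hxall : ∀ c, f x * f c = f c * f x := fun c => by
        have := hgen ((centralizer ({f x} : Set _)).comap f)
          (fun n hn => mem_centralizer_singleton_iff.2 (hxN n hn).symm) (mem_centralizer_singleton_iff.2 rfl)
        exact (mem_centralizer_singleton_iff.1 (show c ∈ (centralizer ({f x} : Set _)).comap f by rw [this]; trivial)).symm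
      have hNall : ∀ n ∈ N, ∀ c, f c * f n = f n * f c := fun n hn c => by
        have := hgen ((centralizer ({f n} : Set _)).comap f)
          (fun m hm => mem_centralizer_singleton_iff.2 (hNab m hm n hn)) (mem_centralizer_singleton_iff.2 (hxall n))
        exact mem_centralizer_singleton_iff.1 (show c ∈ (centralizer ({f n} : Set _)).comap f by rw [this]; trivial)
      have := hgen ((centralizer ({f b} : Set _)).comap f)
        (fun m hm => mem_centralizer_singleton_iff.2 (hNall m hm b).symm) (mem_centralizer_singleton_iff.2 (hxall b))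
      rw [← QuotientGroup.eq_one_iff (N := R')]
      show f ⁅a, b⁆ = 1
      rw [map_commutatorElement, commutatorElement_eq_one_iff_mul_comm]
      exact mem_centralizer_singleton_iff.1 (show a ∈ (centralizer ({f b} : Set _)).comap f by rw [this]; trivial)
    · rintro _ ⟨r, ⟨n, hn⟩, rfl⟩
      have h0 : ((⟨x * n * x⁻¹, ‹N.Normal›.conj_mem n n.2 x⟩ * n⁻¹ : N))⁻¹ * r ∈ commutator N := QuotientGroup.eq.1 hn
      have h1 : (((⟨x * n * x⁻¹, ‹N.Normal›.conj_mem n n.2 x⟩ * n⁻¹ : N))⁻¹ * r : N).1 ∈ commutator P := by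
        have h3 : (commutator N).map N.subtype ≤ commutator P := by
          rw [_root_.commutator_def N, Subgroup.map_commutator]
          exact commutator_mono le_top le_top
        exact h3 (mem_map_of_mem _ h0)
      have h2 : x * n * x⁻¹ * (n : P)⁻¹ ∈ commutator P := by
        rw [← commutatorElement_def]; exact commutator_mem_commutator (mem_top _) (mem_top _)
      have := mul_mem h2 h1
      simpa [mul_assoc] using this
  have hRcard : Nat.card R = Nat.card φ.range * Nat.card (commutator N) := by
    let g : R →* φ.range := ((QuotientGroup.mk' (commutator N)).domRestrict R).codRestrict _ (fun r => r.2)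
    have hg : Function.Surjective g := by
      rintro ⟨y, hy⟩
      obtain ⟨u, rfl⟩ := QuotientGroup.mk_surjective y
      exact ⟨⟨u, hy⟩, rfl⟩
    have hk : g.ker = (commutator N).subgroupOf R := by
      ext r
      rw [MonoidHom.mem_ker, Subgroup.mem_subgroupOf, ← QuotientGroup.eq_one_iff]
      exact ⟨fun h => congrArg Subtype.val h, fun h => Subtype.ext h⟩
    rw [← g.ker.card_mul_index, Subgroup.index_ker, MonoidHom.range_eq_top.2 hg, Subgroup.card_top, hk,
      Nat.card_congr (Subgroup.subgroupOfEquivOfLe hRN).toEquiv, mul_comm]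
  have e1 : Nat.card (commutator P) = Nat.card φ.range * Nat.card (commutator N) := by
    rw [← hRcard, hcomm, hR']
    exact Nat.card_congr ((R.equivMapOfInjective _ (Subgroup.subtype_injective N)).toEquiv).symm
  have e2 : Nat.card φ.ker * Nat.card φ.range = Nat.card N := by
    rw [← Subgroup.index_ker]; exact φ.ker.card_mul_index
  have e3 : Nat.card N * p = Nat.card (commutator P) * (commutator P).index := by
    rw [(commutator P).card_mul_index, ← hN, N.card_mul_index]
  rw [hker]
  have hr : 0 < Nat.card φ.range := Nat.card_pos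
  have hc : 0 < Nat.card (commutator N) := Nat.card_pos
  rw [e1, ← e2] at e3
  constructor
  · intro h
    rw [h] at e3
    have : (Nat.card φ.range * p) * Nat.card φ.ker = (Nat.card φ.range * p) * (p * Nat.card (commutator N)) := by
      linear_combination e3
    exact Nat.eq_of_mul_eq_mul_left (Nat.mul_pos hr hp.pos) this
  · intro h
    rw [h] at e3
    have : (Nat.card φ.range * Nat.card (commutator N)) * (commutator P).index =
        (Nat.card φ.range * Nat.card (commutator N)) * p ^ 2 := by linear_combination -e3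
    exact Nat.eq_of_mul_eq_mul_left (Nat.mul_pos hr hc) this


/-- Let p be a prime, P a finite p-group and N a normal subgroup of P of index p. For x ∈ P write c(x) for the number of elements n of N whose commutator x n x⁻¹ n⁻¹ lies in the derived subgroup N' (so c(x)/#N' is the order of the centralizer of x acting on N/N'). Then [P : P'] = p² if and only if c(x) = p·#N' for every x ∈ P outside N, and also if and only if c(x) = p·#N' for some x ∈ P outside N. -/
theorem result {P : Type*} [Group P] [Finite P] (p : ℕ) [Fact p.Prime] (hP : IsPGroup p P) (N : Subgroup P) [N.Normal] (hN : N.index = p) :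
    ((commutator P).index = p ^ 2 ↔ ∀ x : P, x ∉ N →
        Nat.card {n : N // x * n * x⁻¹ * (n : P)⁻¹ ∈ (commutator N).map N.subtype} = p * Nat.card (commutator N)) ∧
    ((commutator P).index = p ^ 2 ↔ ∃ x : P, x ∉ N ∧
        Nat.card {n : N // x * n * x⁻¹ * (n : P)⁻¹ ∈ (commutator N).map N.subtype} = p * Nat.card (commutator N)) := by
  have hp' : p.Prime := Fact.out
  obtain ⟨y, hy⟩ : ∃ y : P, y ∉ N := by
    by_contra h; push Not at h
    rw [Subgroup.index_eq_one.2 (eq_top_iff.2 fun x _ => h x)] at hN
    exact hp'.one_lt.ne hN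
  exact ⟨⟨fun h x hx => (key hp' N hN x hx).1 h, fun h => (key hp' N hN y hy).2 (h y hy)⟩,
    ⟨fun h => ⟨y, hy, (key hp' N hN y hy).1 h⟩, fun ⟨x, hx, h⟩ => (key hp' N hN x hx).2 h⟩⟩

end Cfsg.Agent.S4586
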