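import Cfsg.Statements.S4588
import Cfsg.Agent.BC84.SmallCentralizer
-- import your own Cfsg.Agent.* helpers here

set_option autoImplicit false
open Cfsg

namespace Cfsg.Agent.S4588

/-- Let G be a finite group, p a prime and M a maximal ideal of the algebraic integers containing p. If some p-element x of G (possibly x = 1) has centralizer whose order has p-part at most p², then the principal p-block of G contains at most p² irreducible characters of degree prime to p. -/
theorem result {G : Type*} [Group G] [Finite G] (p : ℕ) [Fact p.Prime] (M : Ideal Cfsg.AlgInt) (hM : Cfsg.IsPModular p M)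
    (hx : ∃ x : G, (∃ k : ℕ, orderOf x = p ^ k) ∧ (Nat.card (Subgroup.centralizer ({x} : Set G))).factorization p ≤ 2) :
    Nat.card {χ : Cfsg.IrrCharacter G // χ ∈ Cfsg.principalBlock M G ∧ ¬ p ∣ Cfsg.charDegree (χ : G → ℂ)} ≤ p ^ 2 := by
  classical
  have := BlocksCore.isPrime hM
  have hpp : p.Prime := Fact.out
  have := Fintype.ofFinite G
  obtain ⟨x, ⟨kx, hkx⟩, hxf⟩ := hx
  set H := Subgroup.centralizer ({x} : Set G) with hH
  obtain ⟨S⟩ : Nonempty (Sylow p H) := inferInstance
  set a := (Nat.card H).factorization p with ha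
  have hScard : Nat.card S = p ^ a := S.card_eq_multiplicity
  have hxH : x ∈ H := Subgroup.mem_centralizer_singleton_iff.mpr rfl
  have hxS : (⟨x, hxH⟩ : H) ∈ (S : Subgroup H) := by
    have hxc : (⟨x, hxH⟩ : H) ∈ Subgroup.center H := Subgroup.mem_center_iff.mpr fun g =>
      Subtype.ext (Subgroup.mem_centralizer_singleton_iff.mp g.2)
    have hnorm : (Subgroup.zpowers (⟨x, hxH⟩ : H)).Normal := ⟨fun n hn g => by
      rw [Subgroup.mem_center_iff.mp ((Subgroup.zpowers_le.mpr hxc) hn) g, mul_inv_cancel_right]; exact hn⟩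
    have hpg : IsPGroup p (Subgroup.zpowers (⟨x, hxH⟩ : H)) :=
      IsPGroup.of_card (n := kx) (by rw [Nat.card_zpowers, Subgroup.orderOf_mk, hkx])
    obtain ⟨T, hT⟩ := hpg.exists_le_sylow
    obtain ⟨g, hg⟩ := MulAction.exists_smul_eq H T S
    have h1 := hT (Subgroup.mem_zpowers _)
    rw [← hg, Sylow.coe_subgroup_smul]
    refine Subgroup.mem_pointwise_smul_iff_inv_smul_mem.mpr ?_
    rw [← map_inv, MulAut.smul_def, MulAut.conj_apply,
      Subgroup.mem_center_iff.mp hxc g⁻¹, mul_inv_cancel_right]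
    exact h1
  set T := (S : Subgroup H).map H.subtype with hT
  have hTH : T ≤ H := by rintro _ ⟨y, -, rfl⟩; exact y.2
  have hxT : x ∈ T := ⟨⟨x, hxH⟩, hxS, rfl⟩
  have hTcard : Nat.card T = p ^ a := by
    rw [hT, ← hScard]
    exact (Nat.card_congr ((S : Subgroup H).equivMapOfInjective _ H.subtype_injective).toEquiv).symm
  have htriv : BC84.oneChar G ∈ Cfsg.principalBlock M G := BlocksCore.sameBlock_refl (fun _ : G => (1 : ℂ))
  -- the bound from a subsection
  suffices hmain : ∃ u ∈ T, x ∈ Subgroup.zpowers u ∧ T ≤ Subgroup.centralizer ({u} : Set G) ∧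
      ((∀ t ∈ T, ∀ c ∈ Subgroup.centralizer ({u} : Set G), c * t = t * c) ∨
        (a = 2 ∧ u ≠ 1 ∧ ∀ t ∈ T, t ^ p = 1)) by
    obtain ⟨u, huT, hxu, hTC, hcase⟩ := hmain
    set C := Subgroup.centralizer ({u} : Set G) with hC
    have hCH : C ≤ H := by
      intro c hc
      obtain ⟨j, hj⟩ := hxu
      refine Subgroup.mem_centralizer_singleton_iff.mpr ?_
      rw [← hj]
      exact ((show Commute c u from Subgroup.mem_centralizer_singleton_iff.mp hc).zpow_right j).eq
    have hfac : (Nat.card C).factorization p = a := by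
      refine le_antisymm ?_ ?_
      · exact (Nat.factorization_le_iff_dvd Nat.card_pos.ne' Nat.card_pos.ne').mpr (Subgroup.card_dvd_of_le hCH) p
      · rw [← hpp.pow_dvd_iff_le_factorization Nat.card_pos.ne', ← hTcard]
        exact Subgroup.card_dvd_of_le hTC
    let Su : Sylow p C := Sylow.ofCard (T.subgroupOf C)
      (by rw [Nat.card_congr (Subgroup.subgroupOfEquivOfLe hTC).toEquiv, hTcard, hfac])
    have hSu : ∀ y : C, y ∈ (Su : Subgroup C) ↔ (y : G) ∈ T := fun y => Iff.rfl
    obtain ⟨j, hj⟩ : ∃ j : ℕ, orderOf u = p ^ j := by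
      have h1 : orderOf u ∣ p ^ a := by rw [← hTcard]; exact Subgroup.orderOf_dvd_natCard _ huT
      obtain ⟨j, -, hj⟩ := (Nat.dvd_prime_pow hpp).mp h1
      exact ⟨j, hj⟩
    have := BlocksCore.finite_irr (G := C)
    have := Fintype.ofFinite (Cfsg.principalBlock M C)
    have hb : Cfsg.IsPBlock M (Cfsg.principalBlock M C) := BlocksDefect.isPBlock_principal
    obtain ⟨B, hB⟩ := BC84.induced_exists hM hj hb
    have hBeq : B = Cfsg.principalBlock M G := BlocksDefect.eq_principal_of_inducing hM hB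
    subst hBeq
    have hq : Cfsg.blockDefect p (Cfsg.principalBlock M C) = a := by
      have h : sInf ((fun ψ : Cfsg.IrrCharacter C =>
          (Cfsg.charDegree (ψ : C → ℂ)).factorization p) '' Cfsg.principalBlock M C) = 0 := by
        refine Nat.le_zero.mp (Nat.sInf_le ⟨BC84.oneChar C, BlocksCore.sameBlock_refl (fun _ : C => (1 : ℂ)), ?_⟩)
        simp [BC84.oneChar, Cfsg.charDegree]
      rw [Cfsg.blockDefect, h, Nat.sub_zero, hfac]
    obtain ⟨m, hm, hsym, hidem, -, -, -⟩ := BC85.exists_matrix hM hb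
    obtain ⟨μ, hμ0, hl, hμ⟩ : ∃ μ : ℕ, 0 < μ ∧ Cfsg.blockRank p (Cfsg.principalBlock M C) ≤ μ ∧
        ∀ z, BC84.RankTwo.form m z z ≠ 0 → (μ : ℤ) ≤ BC84.RankTwo.form m z z := by
      rcases hcase with hcen | ⟨ha2, hu1, hexp⟩
      · refine ⟨1, one_pos, BC84.SmallCent.rank_le_one hM Su fun y hy => Subgroup.mem_center_iff.mpr fun c =>
          Subtype.ext (hcen y ((hSu y).mp hy) c c.2), fun z hz => ?_⟩
        have h0 := (BC84.RankTwo.form_idem_facts m _ (pow_pos (by exact_mod_cast hpp.pos) _) hsym hidem).1 z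
        omega
      · refine BC84.SmallCent.elementary_bound hM Su (by rw [Su.card_eq_multiplicity, hfac, ha2])
          (fun y hy => Subtype.ext (by simpa using hexp y ((hSu y).mp hy)))
          (x := ⟨u, hTC huT⟩) (Subgroup.mem_center_iff.mpr fun c =>
            Subtype.ext (Subgroup.mem_centralizer_singleton_iff.mp c.2))
          ((hSu _).mpr huT) (fun h => hu1 (congrArg Subtype.val h)) (m := m) (fun η η' => ?_)
        rw [hm, hq, ha2]
    have hk := BC84.RankTwo.height_zero_bound hM hj hB μ hm hμ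
    rw [hq] at hk
    have hle : Nat.card {χ : Cfsg.IrrCharacter G // χ ∈ Cfsg.principalBlock M G ∧
        Cfsg.blockHeight p (Cfsg.principalBlock M G) (χ : G → ℂ) = 0} ≤ p ^ a := by
      refine Nat.le_of_mul_le_mul_left (hk.trans ?_) hμ0
      rw [mul_comm μ]
      exact Nat.mul_le_mul_left _ hl
    refine le_trans (le_of_eq ?_) (hle.trans (Nat.pow_le_pow_right hpp.pos hxf))
    refine Nat.card_congr (Equiv.subtypeEquivRight fun χ => and_congr_right fun _ => ?_)
    have h : sInf ((fun ψ : Cfsg.IrrCharacter G =>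
        (Cfsg.charDegree (ψ : G → ℂ)).factorization p) '' Cfsg.principalBlock M G) = 0 := by
      refine Nat.le_zero.mp (Nat.sInf_le ⟨BC84.oneChar G, htriv, ?_⟩)
      simp [BC84.oneChar, Cfsg.charDegree]
    rw [Cfsg.blockHeight, h, Nat.sub_zero, Nat.factorization_eq_zero_iff]
    constructor
    · exact fun h => Or.inr (Or.inl h)
    · rintro (h | h | h)
      · exact absurd hpp h
      · exact h
      · exact absurd h (BlocksCore.charDegree_pos χ).ne'
  by_cases hcyc : IsCyclic (S : Subgroup H)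
  · obtain ⟨s, hs⟩ := hcyc.exists_generator
    set u := ((s : H) : G) with hu
    have hgen : ∀ t ∈ T, t ∈ Subgroup.zpowers u := by
      rintro _ ⟨y, hy, rfl⟩
      obtain ⟨j, hj⟩ := hs ⟨y, hy⟩
      refine ⟨j, ?_⟩
      have := congrArg (fun z : (S : Subgroup H) => ((z : H) : G)) hj
      simpa [hu] using this
    refine ⟨u, ⟨(s : H), s.2, rfl⟩, hgen x hxT, fun t ht => ?_, Or.inl fun t ht c hc => ?_⟩
    · obtain ⟨j, rfl⟩ := hgen t ht
      exact Subgroup.mem_centralizer_singleton_iff.mpr ((Commute.refl u).zpow_left j).eq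
    · obtain ⟨j, rfl⟩ := hgen t ht
      exact ((show Commute c u from Subgroup.mem_centralizer_singleton_iff.mp hc).zpow_right j).eq
  · have ha2 : a = 2 := by
      by_contra hne
      have : a = 0 ∨ a = 1 := by omega
      rcases this with h | h
      · rw [h, pow_zero] at hScard
        have := (Nat.card_eq_one_iff_unique.mp hScard).1
        exact hcyc inferInstance
      · rw [h, pow_one] at hScard
        exact hcyc (isCyclic_of_prime_card hScard)
    rw [ha2] at hScard hTcard
    have hexp : ∀ y : (S : Subgroup H), y ^ p = 1 := by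
      intro y
      by_contra hy
      obtain ⟨j, hj, hjo⟩ := (Nat.dvd_prime_pow hpp).mp (hScard ▸ orderOf_dvd_natCard y : orderOf y ∣ p ^ 2)
      rcases (show j ≤ 1 ∨ j = 2 by omega) with h | h
      · exact hy (orderOf_dvd_iff_pow_eq_one.mp (by rw [hjo]; exact (pow_dvd_pow p h).trans (pow_one p).dvd))
      · exact hcyc (isCyclic_of_orderOf_eq_card y (by rw [hjo, h, hScard]))
    have hexpT : ∀ t ∈ T, t ^ p = 1 := by
      rintro _ ⟨y, hy, rfl⟩
      exact congrArg (fun z : (S : Subgroup H) => ((z : H) : G)) (hexp ⟨y, hy⟩)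
    have hcomm : ∀ t ∈ T, ∀ t' ∈ T, t * t' = t' * t := by
      rintro _ ⟨y, hy, rfl⟩ _ ⟨y', hy', rfl⟩
      exact congrArg (fun z : (S : Subgroup H) => ((z : H) : G))
        ((IsPGroup.isMulCommutative_of_card_eq_prime_sq (G := (S : Subgroup H)) hScard).is_comm.comm ⟨y, hy⟩ ⟨y', hy'⟩)
    by_cases hx1 : x = 1
    · have hTne : T ≠ ⊥ := fun h => by
        rw [h, Subgroup.card_bot] at hTcard
        exact absurd hTcard (Nat.one_lt_pow two_ne_zero hpp.one_lt).ne
      obtain ⟨v, hv⟩ := T.ne_bot_iff_exists_ne_one.mp hTne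
      obtain ⟨u, huT, hu1⟩ : ∃ u : G, u ∈ T ∧ u ≠ 1 := ⟨(v : G), v.2, fun h => hv (Subtype.ext h)⟩
      exact ⟨u, huT, by rw [hx1]; exact one_mem _,
        fun t ht => Subgroup.mem_centralizer_singleton_iff.mpr (hcomm t ht u huT), Or.inr ⟨ha2, hu1, hexpT⟩⟩
    · exact ⟨x, hxT, Subgroup.mem_zpowers _,
        fun t ht => Subgroup.mem_centralizer_singleton_iff.mpr (hcomm t ht x hxT), Or.inr ⟨ha2, hx1, hexpT⟩⟩


end Cfsg.Agent.S4588
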