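import Cfsg.Statements.S4591
import Cfsg.Agent.BC84.DegreeKernel
import Cfsg.Agent.Lib.Transfer.Tate
import Cfsg.Agent.Lib.PGroup.Basic
import Cfsg.Agent.Lib.Thompson.Cores
import Mathlib.GroupTheory.FiniteAbelian.Duality
import Mathlib.Analysis.Complex.Polynomial.Basic
import Mathlib.RingTheory.RootsOfUnity.AlgebraicallyClosed
-- import your own Cfsg.Agent.* helpers here

set_option autoImplicit false
open Cfsg
open scoped ComplexConjugate

namespace Cfsg.Agent.S4591

/-- Let G be a finite group, p a prime and P a Sylow p-subgroup, and let N be the largest normal subgroup of G in which P has trivial centralizer (N is normal with C_N(P) = 1 and contains every normal subgroup with that property). Then the intersection of the kernels of the irreducible characters of G of degree prime to p is the normal core in G of the subgroup N·P' (P' the derived subgroup of P). In particular, when G has no nontrivial normal subgroup of order prime to p, that intersection is the normal core of P'. -/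
theorem result {G : Type*} [Group G] [Finite G] (p : ℕ) [Fact p.Prime] (P : Sylow p G) (N : Subgroup G) [N.Normal]
    (hN : N ⊓ Subgroup.centralizer ((P : Subgroup G) : Set G) = ⊥)
    (hmax : ∀ L : Subgroup G, L.Normal → L ⊓ Subgroup.centralizer ((P : Subgroup G) : Set G) = ⊥ → L ≤ N) :
    {g : G | ∀ χ : Cfsg.IrrCharacter G, ¬ p ∣ Cfsg.charDegree (χ : G → ℂ) → (χ : G → ℂ) g = (χ : G → ℂ) 1} =
      ((N ⊔ ⁅(P : Subgroup G), (P : Subgroup G)⁆).normalCore : Set G) := by
  classical
  have := Fintype.ofFinite G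
  have hpp := (Fact.out : p.Prime)
  set P' : Subgroup G := ⁅(P : Subgroup G), (P : Subgroup G)⁆ with hP'def
  have := Fintype.ofFinite (P : Subgroup G)
  have := Fintype.ofFinite N
  have hP'map : (commutator (P : Subgroup G)).map (P : Subgroup G).subtype = P' :=
    Subgroup.map_subtype_commutator _
  have hP'P : P' ≤ (P : Subgroup G) := hP'map ▸ Subgroup.map_subtype_le _
  let K : Subgroup G := ⨅ (χ : Cfsg.IrrCharacter G) (_ : ¬ p ∣ Cfsg.charDegree (χ : G → ℂ)),
    CharCore.charKernel (CharCore.irr_isCharacter χ)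
  have hKn : K.Normal := Subgroup.normal_iInf_normal fun χ => Subgroup.normal_iInf_normal fun _ => inferInstance
  have hmemK : ∀ g, g ∈ K ↔ ∀ χ : Cfsg.IrrCharacter G, ¬ p ∣ Cfsg.charDegree (χ : G → ℂ) →
      (χ : G → ℂ) g = (χ : G → ℂ) 1 := fun g => by
    simp only [K, Subgroup.mem_iInf, CharCore.mem_charKernel]
  suffices hKeq : K = (N ⊔ P').normalCore by
    ext g
    rw [Set.mem_setOf_eq, ← hmemK, hKeq]
    rfl
  have hNp := BC84.not_dvd_card_of_inf_centralizer_eq_bot P N hN
  refine le_antisymm ?_ ?_
  · -- `K ∩ P ≤ P'`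
    have hKP : K ⊓ (P : Subgroup G) ≤ P' := by
      rintro x ⟨hxK, hxP⟩
      rw [← hP'map]
      refine ⟨⟨x, hxP⟩, ?_, rfl⟩
      by_contra hx
      have hx' : Abelianization.of (⟨x, hxP⟩ : (P : Subgroup G)) ≠ 1 := fun h => hx (by rwa [← Abelianization.ker_of])
      have : Finite (Abelianization (P : Subgroup G)) :=
        inferInstanceAs (Finite ((P : Subgroup G) ⧸ commutator (P : Subgroup G)))
      obtain ⟨φ, hφ⟩ := CommGroup.exists_apply_ne_one_of_hasEnoughRootsOfUnity (Abelianization (P : Subgroup G)) ℂ hx'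
      let lam : (P : Subgroup G) →* ℂˣ := φ.comp Abelianization.of
      set η : ↥(P : Subgroup G) → ℂ := fun y => (lam y : ℂ) with hη
      have hηc : Cfsg.IsIrrCharacter (P : Subgroup G) η := CharCore.isIrrCharacter_hom lam
      obtain ⟨k, hk⟩ := CharCore.IsCharacter.exists_sum
        (CharInd.isCharacter_indFun (P : Subgroup G) (CharCore.IsIrrCharacter.isCharacter hηc))
      obtain ⟨χ, hχk, hχd⟩ : ∃ χ : Cfsg.IrrCharacter G, k χ ≠ 0 ∧ ¬ p ∣ Cfsg.charDegree (χ : G → ℂ) := by
        by_contra hnone
        push Not at hnone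
        refine P.not_dvd_index ?_
        have h1 := congrFun hk 1
        rw [CharInd.indFun_apply_one, hη] at h1
        simp only [map_one, Units.val_one, mul_one, Finset.sum_apply, Pi.smul_apply, smul_eq_mul,
          BlocksCore.irr_one_eq, ← Nat.cast_mul, ← Nat.cast_sum, Nat.cast_inj] at h1
        rw [h1]
        refine Finset.dvd_sum fun χ _ => ?_
        by_cases h0 : k χ = 0
        · rw [h0, zero_mul]; exact dvd_zero p
        · exact dvd_mul_of_dvd_right (hnone χ h0) _
      have hne : Cfsg.classInner η (fun y : (P : Subgroup G) => (χ : G → ℂ) y) ≠ 0 := by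
        rw [← CharInd.classInner_indFun_left (P : Subgroup G) η (CharCore.irr_isClassFunction χ), hk,
          CharCore.classInner_sum_all, Nat.cast_ne_zero]
        exact hχk
      have hxker := (hmemK x).mp hxK χ hχd
      let y : (P : Subgroup G) := ⟨x, hxP⟩
      have hshift : (lam y : ℂ) * (∑ u : (P : Subgroup G), η u * conj ((χ : G → ℂ) u)) =
          ∑ u : (P : Subgroup G), η u * conj ((χ : G → ℂ) u) := by
        rw [Finset.mul_sum]
        refine Fintype.sum_equiv (Equiv.mulRight y) _ _ fun u => ?_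
        show _ = η (u * y) * conj ((χ : G → ℂ) ((u : G) * x))
        rw [CharCore.IsCharacter.apply_mul_of_mem_kernel (CharCore.irr_isCharacter χ) hxker, hη]
        simp only [map_mul, Units.val_mul]
        ring
      have hS : (∑ u : (P : Subgroup G), η u * conj ((χ : G → ℂ) u)) ≠ 0 := fun h => hne (by
        rw [Cfsg.classInner, h, mul_zero])
      exact hφ (Units.ext ((mul_eq_right₀ hS).mp hshift))
    -- Tate
    have hfr : K ⊓ (P : Subgroup G) ≤ (frattini (P : Subgroup G)).map (P : Subgroup G).subtype :=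
      hKP.trans (hP'map ▸ Subgroup.map_mono (PGroup.commutator_le_frattini P.2))
    have hcompl := Transfer.hasNormalPComplement_of_inf_le_frattini P K hfr
    rw [Transfer.hasNormalPComplement_iff_not_dvd] at hcompl
    set M₀ : Subgroup G := (Cfsg.pResidual p K).map K.subtype with hM₀
    have hM₀card : ¬ p ∣ Nat.card M₀ := by
      rw [hM₀, Nat.card_congr ((Cfsg.pResidual p K).equivMapOfInjective _ (Subgroup.subtype_injective K)).toEquiv.symm]
      exact hcompl
    have hM₀n : M₀.Normal := Thompson.map_subtype_normal_of_characteristic K _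
    have hM₀N : M₀ ≤ N := hmax M₀ hM₀n (le_bot_iff.mp fun c ⟨hcM, hcC⟩ => Subgroup.mem_bot.mpr (by
      refine BC84.eq_one_of_mem_kernel_centralizer P hcC (fun h => hM₀card ?_) ((hmemK c).mp (Subgroup.map_subtype_le _ hcM))
      have := orderOf_dvd_natCard (⟨c, hcM⟩ : M₀)
      rw [Subgroup.orderOf_mk] at this
      exact h.trans this))
    refine Subgroup.normal_le_normalCore.mpr fun g hg => ?_
    -- `K = M₀ (K ∩ P)`
    obtain ⟨PK, hPK⟩ : ∃ PK : Sylow p K, (PK : Subgroup K) = (P : Subgroup G).subgroupOf K :=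
      Transfer.exists_sylow_subgroupOf_normal P K
    have hcpl := Transfer.isComplement'_pResidual (Transfer.hasNormalPComplement_iff_not_dvd.mpr hcompl) PK
    obtain ⟨a, ha, b, hb, hab⟩ := Subgroup.mem_sup_of_normal_left.mp
      (hcpl.sup_eq_top ▸ Subgroup.mem_top (⟨g, hg⟩ : K))
    rw [show g = (a : G) * (b : G) from congrArg Subtype.val hab.symm]
    rw [hPK] at hb
    exact Subgroup.mul_mem_sup (hM₀N (Subgroup.mem_map_of_mem _ ha))
      (hKP ⟨b.2, Subgroup.mem_subgroupOf.mp hb⟩)
  · intro x hx
    rw [hmemK]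
    intro χ hχ
    -- `χ` is trivial on `N`
    have hsumN : (∑ n : N, (χ : G → ℂ) n) ≠ 0 := by
      let _ : MulAction (P : Subgroup G) N :=
        { smul := fun u n => ⟨(u : G) * n * (u : G)⁻¹, (inferInstance : N.Normal).conj_mem n n.2 u⟩
          one_smul := fun n => Subtype.ext (by show (1 : G) * n * (1 : G)⁻¹ = n; group)
          mul_smul := fun u v n => Subtype.ext (by
            show (u * v : G) * n * (u * v : G)⁻¹ = u * (v * n * (v : G)⁻¹) * (u : G)⁻¹
            group) }
      have h := CharCore.modP_sum_sub_sum_fixed (A := (P : Subgroup G)) (X := N) P.2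
        (fun n : N => (χ : G → ℂ) n) (fun n => BlocksCore.isIntegral_irr χ n)
        (fun u n => CharCore.irr_isClassFunction χ n u)
      have key : ∀ S : Finset N, CharCore.ModP p (∑ n : N, (χ : G → ℂ) n - ∑ n ∈ S, (χ : G → ℂ) n) →
          (∀ n, n ∈ S ↔ ∀ u : (P : Subgroup G), u • n = n) →
          CharCore.ModP p (∑ n : N, (χ : G → ℂ) n - (χ : G → ℂ) ((1 : N) : G)) := by
        intro S e hS
        have : S = {1} := by
          ext n
          rw [hS, Finset.mem_singleton]
          constructor
          · intro hn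
            have : (n : G) ∈ N ⊓ Subgroup.centralizer ((P : Subgroup G) : Set G) :=
              ⟨n.2, Subgroup.mem_centralizer_iff.mpr fun u hu =>
                mul_inv_eq_iff_eq_mul.mp (congrArg Subtype.val (hn ⟨u, hu⟩))⟩
            rw [hN] at this
            exact Subtype.ext (Subgroup.mem_bot.mp this)
          · rintro rfl u
            exact Subtype.ext (show (u : G) * ((1 : N) : G) * (u : G)⁻¹ = ((1 : N) : G) by simp)
        rwa [this, Finset.sum_singleton] at e
      replace h := key _ h fun n => by simp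
      intro h0
      rw [h0, zero_sub, Subgroup.coe_one, BlocksCore.irr_one_eq] at h
      have h' := h.neg
      rw [neg_neg] at h'
      exact hχ (CharCore.modP_natCast_iff.mp h')
    have hkerN := BC84.apply_eq_degree_of_sum_ne_zero χ N hsumN
    have hmulN : ∀ n ∈ N, ∀ g, (χ : G → ℂ) (n * g) = (χ : G → ℂ) g := fun n hn g => by
      have hcl := CharCore.irr_isClassFunction χ (g * n) g⁻¹
      rw [show g⁻¹ * (g * n) * g⁻¹⁻¹ = n * g by group] at hcl
      rw [hcl]
      exact CharCore.IsCharacter.apply_mul_of_mem_kernel (CharCore.irr_isCharacter χ) (hkerN ⟨n, hn⟩) g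
    -- `χ` is trivial on `L`
    set L := (N ⊔ P').normalCore with hLdef
    set U := L ⊓ P' with hUdef
    have hNL : N ≤ L := Subgroup.normal_le_normalCore.mpr le_sup_left
    have := Fintype.ofFinite L
    have := Fintype.ofFinite U
    obtain ⟨f, hf⟩ := BC84.exists_linear_constituent P χ hχ
    have hfP' : ∀ u : (P : Subgroup G), (u : G) ∈ P' → f u = 1 := by
      intro u hu
      rw [← hP'map] at hu
      obtain ⟨v, hv, hvu⟩ := hu
      rw [← Subtype.ext hvu]
      exact Abelianization.commutator_subset_ker f hv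
    have hUP : U ≤ (P : Subgroup G) := inf_le_right.trans hP'P
    let χU : U → ℂ := fun u => (χ : G → ℂ) u
    have hsumU : (∑ u : U, χU u) ≠ 0 := by
      obtain ⟨k, hk⟩ := CharCore.IsCharacter.exists_sum
        (CharCore.isCharacter_restrict (CharCore.irr_isCharacter χ) (P : Subgroup G))
      let fi : Cfsg.IrrCharacter (P : Subgroup G) := ⟨_, CharCore.isIrrCharacter_hom f⟩
      have hkf : k fi ≠ 0 := fun h0 => hf (by
        rw [hk]
        show Cfsg.classInner _ (fi : ↥(P : Subgroup G) → ℂ) = 0
        rw [CharCore.classInner_sum_all, h0, Nat.cast_zero])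
      have hψ : ∀ ψ : Cfsg.IrrCharacter (P : Subgroup G), ∃ j : ℕ,
          (∑ u : U, (ψ : ↥(P : Subgroup G) → ℂ) ⟨u, hUP u.2⟩) = (Nat.card U : ℂ) * j := by
        intro ψ
        obtain ⟨j, hj⟩ := CharCore.IsCharacter.exists_classInner_eq_natCast
          (CharCore.isCharacter_comp (CharCore.irr_isCharacter ψ) (Subgroup.inclusion hUP)) CharCore.isCharacter_one
        refine ⟨j, ?_⟩
        rw [← hj, Cfsg.classInner]
        simp only [Pi.one_apply, map_one, mul_one]
        rw [mul_inv_cancel_left₀ (Nat.cast_ne_zero.mpr Nat.card_pos.ne')]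
        rfl
      choose j hj using hψ
      have e : (∑ u : U, χU u) = ((Nat.card U * ∑ ψ, k ψ * j ψ : ℕ) : ℂ) := by
        have hu : ∀ u : U, χU u = ∑ ψ, (k ψ : ℂ) * (ψ : ↥(P : Subgroup G) → ℂ) ⟨u, hUP u.2⟩ := fun u => by
          have := congrFun hk ⟨u, hUP u.2⟩
          simpa using this
        simp only [hu]
        rw [Finset.sum_comm]
        push_cast
        rw [Finset.mul_sum]
        refine Finset.sum_congr rfl fun ψ _ => ?_
        rw [← Finset.mul_sum, hj]
        ring
      rw [e, Nat.cast_ne_zero]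
      refine Nat.mul_ne_zero Nat.card_pos.ne' fun h0 => ?_
      have h1 := (Finset.sum_eq_zero_iff.mp h0) fi (Finset.mem_univ _)
      rcases mul_eq_zero.mp h1 with h1 | h1
      · exact hkf h1
      have h2 := hj fi
      rw [h1, Nat.cast_zero, mul_zero] at h2
      simp [fi, hfP' _ (show ((⟨_, hUP (Subtype.prop _)⟩ : (P : Subgroup G)) : G) ∈ P' from (Subtype.prop _ : _ ∈ U).2), Nat.card_pos.ne'] at h2
    have hsumL : (∑ l : L, (χ : G → ℂ) l) ≠ 0 := by
      let m : N × U → L := fun nu => ⟨(nu.1 : G) * nu.2, mul_mem (hNL nu.1.2) nu.2.2.1⟩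
      have hm : Function.Bijective m := by
        constructor
        · rintro ⟨n, u⟩ ⟨n', u'⟩ h
          have h' : (n : G) * u = n' * u' := congrArg Subtype.val h
          have h1 : (n' : G)⁻¹ * n = u' * (u : G)⁻¹ := by
            rw [eq_mul_inv_iff_mul_eq, mul_assoc, h', inv_mul_cancel_left]
          have hmemN : (n' : G)⁻¹ * n ∈ N := mul_mem (inv_mem n'.2) n.2
          have hmemP : (n' : G)⁻¹ * n ∈ (P : Subgroup G) := h1 ▸ mul_mem (hUP u'.2) (inv_mem (hUP u.2))
          have h2 : (n' : G)⁻¹ * n = 1 := by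
            obtain ⟨j, hj⟩ := P.2 ⟨_, hmemP⟩
            refine orderOf_eq_one_iff.mp (Nat.eq_one_of_dvd_coprimes
              (Nat.Coprime.pow_left j (hpp.coprime_iff_not_dvd.mpr hNp))
              (orderOf_dvd_of_pow_eq_one (congrArg Subtype.val hj)) ?_)
            have := orderOf_dvd_natCard (⟨_, hmemN⟩ : N)
            rwa [Subgroup.orderOf_mk] at this
          obtain rfl : n = n' := Subtype.ext (inv_mul_eq_one.mp h2).symm
          exact Prod.ext rfl (Subtype.ext (mul_left_cancel h'))
        · rintro ⟨l, hl⟩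
          obtain ⟨n, hn, u, hu, rfl⟩ := Subgroup.mem_sup_of_normal_left.mp (Subgroup.normalCore_le _ hl)
          have huL : u ∈ L := by
            have := mul_mem (inv_mem (hNL hn)) hl
            rwa [inv_mul_cancel_left] at this
          exact ⟨(⟨n, hn⟩, ⟨u, huL, hu⟩), rfl⟩
      rw [← Fintype.sum_bijective m hm (fun nu => χU nu.2) (fun l : L => (χ : G → ℂ) l)
        (fun nu => (hmulN _ nu.1.2 _).symm), Fintype.sum_prod_type]
      simp only [Finset.sum_const, nsmul_eq_mul]
      exact mul_ne_zero (Nat.cast_ne_zero.mpr (Finset.card_ne_zero_of_mem (Finset.mem_univ (1 : N)))) hsumU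
    exact BC84.apply_eq_degree_of_sum_ne_zero χ L hsumL ⟨x, hx⟩


end Cfsg.Agent.S4591
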