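import Cfsg.Statements.S4601
import Cfsg.Agent.BC84.SylowNormalize
-- import your own Cfsg.Agent.* helpers here

set_option autoImplicit false
open Cfsg

namespace Cfsg.Agent.S4601

/-- Let p and q be primes and G a finite group that is p-solvable or q-solvable, in which no q-element has conjugacy class size divisible by p. Then some Sylow p-subgroup of G normalizes some Sylow q-subgroup of G. -/
theorem result {G : Type*} [Group G] [Finite G] (p q : ℕ) [Fact p.Prime] [Fact q.Prime] (hsolv : Cfsg.IsPSolvable p G ∨ Cfsg.IsPSolvable q G)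
    (h : ∀ y : G, (∃ k : ℕ, orderOf y = q ^ k) → ¬ p ∣ (Subgroup.centralizer ({y} : Set G)).index) :
    ∃ (P : Sylow p G) (Q : Sylow q G), (P : Subgroup G) ≤ Subgroup.normalizer ((Q : Subgroup G) : Set G) := by
  by_cases hpq : p = q
  · subst hpq
    obtain ⟨P⟩ : Nonempty (Sylow p G) := inferInstance
    exact ⟨P, P, Subgroup.le_normalizer⟩
  rcases hsolv with hs | hs
  · obtain ⟨P⟩ : Nonempty (Sylow p G) := inferInstance
    obtain ⟨Q, hQ⟩ := BC84.exists_normalized_sylow (q := q) P fun hdvd => by
      set N := Cfsg.pPrimeCore p G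
      rw [Subgroup.index_eq_card] at hdvd
      obtain ⟨y, hy⟩ := exists_prime_orderOf_dvd_card' (G := G ⧸ N) q hdvd
      obtain ⟨x, hx, rfl⟩ := BC84.exists_lift_qElement (q := q) N ⟨1, by rw [hy, pow_one]⟩
      obtain ⟨T⟩ : Nonempty (Sylow p (Subgroup.centralizer ({x} : Set G))) := inferInstance
      have hT : ¬ p ∣ (T.toSubgroup.map (Subgroup.centralizer ({x} : Set G)).subtype).index := by
        rw [Subgroup.index_map_subtype]
        exact fun hd => ((Fact.out : p.Prime).dvd_mul.mp hd).elim T.not_dvd_index (h x hx)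
      let P₀ : Sylow p G := (T.2.map _).toSylow hT
      let P₁ : Sylow p (G ⧸ N) := P₀.mapSurjective (QuotientGroup.mk'_surjective N)
      have hmem := Thompson.centralizer_pCore_le (p := p) (Thompson.isPSolvable_quotient N hs)
        (Thompson.pPrimeCore_quotient_pPrimeCore (p := p) (G := G))
        (Subgroup.mem_centralizer_iff.mpr fun u hu => by
          obtain ⟨v, ⟨w, -, rfl⟩, rfl⟩ := Thompson.pCore_le_sylow P₁ hu
          show QuotientGroup.mk' N (w : G) * QuotientGroup.mk' N x = QuotientGroup.mk' N x * QuotientGroup.mk' N (w : G)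
          rw [← map_mul, ← map_mul, Subgroup.mem_centralizer_singleton_iff.mp w.2])
      obtain ⟨j, hj⟩ := Thompson.isPGroup_pCore (p := p) ⟨_, hmem⟩
      have hd : q ∣ p ^ j := hy ▸ orderOf_dvd_of_pow_eq_one (congrArg Subtype.val hj)
      exact hpq ((Nat.prime_dvd_prime_iff_eq (Fact.out : q.Prime) (Fact.out : p.Prime)).mp
        ((Fact.out : q.Prime).dvd_of_dvd_pow hd)).symm
    exact ⟨P, Q, hQ⟩
  · obtain ⟨Q⟩ : Nonempty (Sylow q G) := inferInstance
    have hidx := BC84.not_dvd_index_normalizer (p := p) _ G rfl hs h Q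
    obtain ⟨T⟩ : Nonempty (Sylow p (Subgroup.normalizer ((Q : Subgroup G) : Set G))) := inferInstance
    have hT : ¬ p ∣ (T.toSubgroup.map (Subgroup.normalizer ((Q : Subgroup G) : Set G)).subtype).index := by
      rw [Subgroup.index_map_subtype]
      exact fun hd => ((Fact.out : p.Prime).dvd_mul.mp hd).elim T.not_dvd_index hidx
    exact ⟨(T.2.map _).toSylow hT, Q, Subgroup.map_subtype_le _⟩


end Cfsg.Agent.S4601
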