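import Cfsg.Statements.S4604
import Cfsg.Agent.Lib.CharCore.Complete
import Cfsg.Agent.Lib.CharCore.ModP
import Cfsg.Agent.Lib.CharClifford.Central
import Mathlib.FieldTheory.Finite.Basic
-- import your own Cfsg.Agent.* helpers here

set_option autoImplicit false
open Cfsg
open scoped ComplexConjugate

namespace Cfsg.Agent.S4604

/-- Let G be a finite group, p a prime and p^a the p-part of the order of G. Let x, y ∈ G and let x′, y′ be their p-regular parts: x′ has order prime to p, commutes with x·x′⁻¹, and x·x′⁻¹ has p-power order (likewise for y). Then x′ and y′ are conjugate in G if and only if for every irreducible character χ of G the algebraic integer χ(x)^(p^a) − χ(y)^(p^a) is p times an algebraic integer. -/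
theorem result {G : Type*} [Group G] [Finite G] (p : ℕ) [Fact p.Prime] (x y x' y' : G)
    (hx : (∃ k : ℕ, orderOf (x * x'⁻¹) = p ^ k) ∧ Commute (x * x'⁻¹) x' ∧ ¬ p ∣ orderOf x')
    (hy : (∃ k : ℕ, orderOf (y * y'⁻¹) = p ^ k) ∧ Commute (y * y'⁻¹) y' ∧ ¬ p ∣ orderOf y') :
    IsConj x' y' ↔ ∀ χ : Cfsg.IrrCharacter G, ∃ γ : Cfsg.AlgInt,
      (χ : G → ℂ) x ^ (p ^ (Nat.card G).factorization p) - (χ : G → ℂ) y ^ (p ^ (Nat.card G).factorization p) = (p : ℂ) * (γ : ℂ) := by
  classical
  have := Fintype.ofFinite G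
  have hpp := (Fact.out : p.Prime)
  set q := p ^ (Nat.card G).factorization p with hq
  -- values at `q`-th powers
  have hkey : ∀ (χ : Cfsg.IrrCharacter G) (z z' : G), ((∃ k : ℕ, orderOf (z * z'⁻¹) = p ^ k) ∧ Commute (z * z'⁻¹) z' ∧ ¬ p ∣ orderOf z') →
      CharCore.ModP p ((χ : G → ℂ) z ^ q - (χ : G → ℂ) (z' ^ q)) := by
    rintro χ z z' ⟨⟨k, hk⟩, hcm, -⟩
    have hz : z ^ q = z' ^ q := by
      have h1 : (z * z'⁻¹) ^ q = 1 := by
        refine orderOf_dvd_iff_pow_eq_one.mp ?_
        rw [hk]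
        exact Nat.pow_dvd_pow p ((hpp.pow_dvd_iff_le_factorization Nat.card_pos.ne').mp (hk ▸ orderOf_dvd_natCard _))
      have h2 := hcm.mul_pow q
      rw [inv_mul_cancel_right, h1, one_mul] at h2
      exact h2
    rw [← hz]
    obtain ⟨n, ρ, hρ, hρc⟩ := χ.2
    obtain ⟨b, μ, hμ, -, hchar⟩ := CharClifford.exists_eigenvalues ρ z (orderOf_pos z).ne' (pow_orderOf_eq_one z)
    have h1 : ρ.character z = ∑ i, μ i := by simpa only [pow_one] using hchar 1
    rw [← hρc, h1, hchar q]
    have hint : ∀ i, IsIntegral ℤ (μ i) := fun i => IsIntegral.of_pow (R := ℤ) (orderOf_pos z) (hμ i ▸ isIntegral_one)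
    clear hchar h1
    induction (Finset.univ : Finset (Fin (Module.finrank ℂ (Fin n → ℂ)))) using Finset.induction_on with
    | empty => simp [zero_pow (pow_pos hpp.pos _).ne', hq, CharCore.ModP.zero]
    | insert i s hi ih =>
      rw [Finset.sum_insert hi, Finset.sum_insert hi]
      obtain ⟨r, hr⟩ := exists_add_pow_prime_pow_eq hpp (⟨μ i, hint i⟩ : Cfsg.AlgInt) (⟨∑ j ∈ s, μ j, IsIntegral.sum _ fun j _ => hint j⟩) ((Nat.card G).factorization p)
      have hr' := congrArg (Subtype.val : Cfsg.AlgInt → ℂ) hr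
      simp only [AddMemClass.coe_add, SubmonoidClass.coe_pow, MulMemClass.coe_mul, SubringClass.coe_natCast] at hr'
      have h2 : CharCore.ModP p ((p : ℂ) * μ i * (∑ j ∈ s, μ j) * (r : ℂ)) :=
        ⟨μ i * (∑ j ∈ s, μ j) * r, ((hint i).mul (IsIntegral.sum _ fun j _ => hint j)).mul r.2, by ring⟩
      have e : (μ i + ∑ j ∈ s, μ j) ^ q - (μ i ^ q + ∑ j ∈ s, μ j ^ q) =
          ((∑ j ∈ s, μ j) ^ q - ∑ j ∈ s, μ j ^ q) + (p : ℂ) * μ i * (∑ j ∈ s, μ j) * (r : ℂ) := by
        rw [hq, hr']; ring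
      rw [e]
      exact ih.add h2
  -- the criterion in terms of `x' ^ q`, `y' ^ q`
  have hcond : ∀ χ : Cfsg.IrrCharacter G,
      (∃ γ : Cfsg.AlgInt, (χ : G → ℂ) x ^ q - (χ : G → ℂ) y ^ q = (p : ℂ) * (γ : ℂ)) ↔
        CharCore.ModP p ((χ : G → ℂ) (x' ^ q) - (χ : G → ℂ) (y' ^ q)) := by
    intro χ
    have hX := hkey χ x x' hx
    have hY := hkey χ y y' hy
    constructor
    · rintro ⟨γ, hγ⟩
      have h0 : CharCore.ModP p ((χ : G → ℂ) x ^ q - (χ : G → ℂ) y ^ q) := ⟨γ, γ.2, hγ⟩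
      convert (h0.sub hX).add hY using 1; ring
    · intro h0
      obtain ⟨z, hz, e⟩ : CharCore.ModP p ((χ : G → ℂ) x ^ q - (χ : G → ℂ) y ^ q) := by
        convert (h0.add hX).sub hY using 1; ring
      exact ⟨⟨z, hz⟩, e⟩
  simp only [hcond]
  constructor
  · intro h χ
    obtain ⟨c, hc⟩ := isConj_iff.mp (h.pow q)
    rw [← hc, CharCore.irr_isClassFunction χ _ c, sub_self]
    exact CharCore.ModP.zero
  intro hall
  by_contra hne
  set u := x' ^ q with hu
  set v := y' ^ q with hv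
  have hur : ¬ p ∣ orderOf u := fun h => hx.2.2 (h.trans (orderOf_pow_dvd q))
  have hvr : ¬ p ∣ orderOf v := fun h => hy.2.2 (h.trans (orderOf_pow_dvd q))
  have huv : ¬ IsConj u v := by
    intro h
    set L := orderOf x' * orderOf y' with hL
    have hcop : q.Coprime L := Nat.Coprime.pow_left _ (Nat.Coprime.mul_right (hpp.coprime_iff_not_dvd.mpr hx.2.2) (hpp.coprime_iff_not_dvd.mpr hy.2.2))
    have hj : q * q ^ (L.totient - 1) ≡ 1 [MOD L] := by
      rw [← pow_succ', Nat.sub_add_cancel (Nat.totient_pos.mpr (Nat.mul_pos (orderOf_pos x') (orderOf_pos y')))]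
      exact Nat.ModEq.pow_totient hcop
    have h2 := h.pow (q ^ (L.totient - 1))
    rw [hu, hv, ← pow_mul x', ← pow_mul y',
      (pow_eq_pow_iff_modEq.mpr (hj.of_dvd (dvd_mul_right _ _))).trans (pow_one x'),
      (pow_eq_pow_iff_modEq.mpr (hj.of_dvd (dvd_mul_left _ _))).trans (pow_one y')] at h2
    exact hne h2
  obtain ⟨S⟩ : Nonempty (Sylow p (Subgroup.centralizer ({u} : Set G))) := inferInstance
  set C := Subgroup.centralizer ({u} : Set G) with hC
  have hcomm : ∀ w : C, Commute u (w : G) := fun w => Subgroup.mem_centralizer_iff.mp w.2 u (Set.mem_singleton u)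
  let uC : C := ⟨u, Subgroup.mem_centralizer_iff.mpr (by simp)⟩
  have huC : uC ∈ Subgroup.center C := Subgroup.mem_center_iff.mpr fun w => Subtype.ext (hcomm w).eq.symm
  let c : Cfsg.IrrCharacter G → ℂ := fun χ => (Nat.card S.toSubgroup : ℂ)⁻¹ * ∑ w : S.toSubgroup, (χ : G → ℂ) (u * ((w : C) : G))
  have hcint : ∀ χ, IsIntegral ℤ (c χ) := by
    intro χ
    have hφ := CharCore.isCharacter_restrict (CharCore.irr_isCharacter χ) C
    have hexp := CharCore.IsCharacter.eq_sum_classInner hφ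
    have e : c χ = ∑ ψ : Cfsg.IrrCharacter C, Cfsg.classInner (fun h : C => (χ : G → ℂ) h) (ψ : C → ℂ) *
        ((Nat.card S.toSubgroup : ℂ)⁻¹ * ∑ w : S.toSubgroup, (ψ : C → ℂ) (uC * w)) := by
      simp only [c, Finset.mul_sum]
      rw [Finset.sum_comm]
      refine Finset.sum_congr rfl fun w _ => ?_
      have h1 := congrFun hexp (uC * (w : C))
      simp only [Finset.sum_apply, Pi.smul_apply, smul_eq_mul, Subgroup.coe_mul] at h1
      rw [h1, Finset.mul_sum]
      exact Finset.sum_congr rfl fun ψ _ => by ring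
    rw [e]
    refine IsIntegral.sum _ fun ψ _ => ?_
    obtain ⟨k, hk⟩ := CharCore.IsCharacter.exists_classInner_irr_eq_natCast hφ ψ
    rw [hk]
    refine (CharCore.isIntegral_natCast k).mul ?_
    obtain ⟨n, ρ, hρ, hρc⟩ := ψ.2
    obtain ⟨d, hd⟩ := CharClifford.exists_scalar_of_mem_center ρ huC
    have hdint : IsIntegral ℤ d := by
      refine IsIntegral.of_pow (R := ℤ) (orderOf_pos uC) ?_
      have h1 : ρ (uC ^ orderOf uC) = d ^ orderOf uC • 1 := by rw [map_pow, hd, smul_pow, one_pow]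
      rw [pow_orderOf_eq_one, map_one] at h1
      have h2 := congrArg (LinearMap.trace ℂ (Fin n → ℂ)) h1
      rw [map_smul, smul_eq_mul, LinearMap.trace_one] at h2
      have hn : (Module.finrank ℂ (Fin n → ℂ) : ℂ) ≠ 0 := Nat.cast_ne_zero.mpr (CharClifford.finrank_pos_of_irreducible ρ).ne'
      rw [mul_right_cancel₀ hn (h2.symm.trans (one_mul _).symm)]
      exact isIntegral_one
    have e2 : ∀ w : S.toSubgroup, (ψ : C → ℂ) (uC * w) = d * (ψ : C → ℂ) w := fun w => by
      rw [← hρc]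
      simp only [Representation.character, map_mul, hd, smul_mul_assoc, one_mul, map_smul, smul_eq_mul]
    simp only [e2, ← Finset.mul_sum]
    obtain ⟨m, hm⟩ := CharCore.IsCharacter.exists_classInner_eq_natCast
      (CharCore.isCharacter_restrict (CharCore.irr_isCharacter ψ) S.toSubgroup) CharCore.isCharacter_one
    rw [Cfsg.classInner] at hm
    simp only [Pi.one_apply, map_one, mul_one] at hm
    rw [mul_left_comm, hm]
    exact hdint.mul (CharCore.isIntegral_natCast m)
  have hsum : ∑ χ : Cfsg.IrrCharacter G, conj (c χ) * ((χ : G → ℂ) u - (χ : G → ℂ) v) = (S.toSubgroup.index : ℂ) := by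
    simp only [c, map_mul, map_inv₀, map_natCast, map_sum, Finset.mul_sum, Finset.sum_mul]
    rw [Finset.sum_comm]
    have hw : ∀ w : S.toSubgroup, (∑ χ : Cfsg.IrrCharacter G, (Nat.card S.toSubgroup : ℂ)⁻¹ * conj ((χ : G → ℂ) (u * ((w : C) : G))) *
        ((χ : G → ℂ) u - (χ : G → ℂ) v)) = if w = 1 then (Nat.card S.toSubgroup : ℂ)⁻¹ * (Nat.card C : ℂ) else 0 := by
      intro w
      have hwz : ∀ z : G, ¬ p ∣ orderOf z → IsConj z (u * ((w : C) : G)) → w = 1 := by
        intro z hz hzc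
        obtain ⟨b, hb⟩ := S.2 w
        obtain ⟨i, -, hi⟩ := (Nat.dvd_prime_pow hpp).mp (orderOf_dvd_of_pow_eq_one hb)
        have hord : orderOf ((w : C) : G) = p ^ i := by rw [Subgroup.orderOf_coe, Subgroup.orderOf_coe, hi]
        have h1 := (hcomm (w : C)).orderOf_mul_eq_mul_orderOf_of_coprime
          (by rw [hord]; exact Nat.Coprime.pow_right i (hpp.coprime_iff_not_dvd.mpr hur).symm)
        obtain ⟨t, ht⟩ := isConj_iff.mp hzc
        have h2 : orderOf (u * ((w : C) : G)) = orderOf z := by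
          rw [← ht]; exact (MulAut.conj t).orderOf_eq z
        rw [h2, hord] at h1
        rcases Nat.eq_zero_or_pos i with rfl | hipos
        · rw [pow_zero] at hi; exact orderOf_eq_one_iff.mp hi
        · exact absurd (h1 ▸ dvd_mul_of_dvd_right (dvd_pow_self p hipos.ne') _) hz
      rw [show (∑ χ : Cfsg.IrrCharacter G, (Nat.card S.toSubgroup : ℂ)⁻¹ * conj ((χ : G → ℂ) (u * ((w : C) : G))) *
          ((χ : G → ℂ) u - (χ : G → ℂ) v)) = (Nat.card S.toSubgroup : ℂ)⁻¹ *
          ((∑ χ : Cfsg.IrrCharacter G, (χ : G → ℂ) u * conj ((χ : G → ℂ) (u * ((w : C) : G)))) -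
            ∑ χ : Cfsg.IrrCharacter G, (χ : G → ℂ) v * conj ((χ : G → ℂ) (u * ((w : C) : G)))) from by
        rw [← Finset.sum_sub_distrib, Finset.mul_sum]
        exact Finset.sum_congr rfl fun χ _ => by ring,
        CharCore.sum_apply_mul_conj, CharCore.sum_apply_mul_conj]
      by_cases hw1 : w = 1
      · subst hw1
        have hvu : ¬ IsConj v u := fun h => huv h.symm
        rw [show u * (((1 : S.toSubgroup) : C) : G) = u by simp, if_pos (IsConj.refl u), if_neg hvu, if_pos rfl, sub_zero]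
      · rw [if_neg fun h => hw1 (hwz u hur h), if_neg fun h => hw1 (hwz v hvr h), if_neg hw1, sub_zero, mul_zero]
    rw [Finset.sum_congr rfl fun w _ => hw w, Finset.sum_ite_eq' Finset.univ (1 : S.toSubgroup), if_pos (Finset.mem_univ _)]
    rw [← S.toSubgroup.card_mul_index]
    push_cast
    field_simp
  have hmod : CharCore.ModP p (S.toSubgroup.index : ℂ) := hsum ▸ CharCore.ModP.sum _ _ fun χ _ =>
    (hall χ).mul_left ((hcint χ).map (starRingEnd ℂ).toIntAlgHom)
  exact S.not_dvd_index (CharCore.modP_natCast_iff.mp hmod)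


end Cfsg.Agent.S4604
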