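import Cfsg.Statements.S4606
import Cfsg.Agent.BC84.BrauerCount
import Cfsg.Agent.S4646
import Cfsg.Agent.S4652
import Cfsg.Agent.BC85.Pairs.Transport
import Cfsg.Agent.Lib.BlocksDefect.Covering

set_option autoImplicit false
open Cfsg

namespace Cfsg.Agent.S4606

set_option linter.style.haveILetI false

universe u

variable {G : Type u} [Group G] [Finite G] {p : ℕ} [Fact p.Prime] {M : Ideal AlgInt}

/-- The blocks of the centralizer inducing `B`, ranks summed. -/
noncomputable def rankSum (p : ℕ) (M : Ideal AlgInt) (x : G) (B : Set (IrrCharacter G)) : ℕ :=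
  ∑ᶠ b ∈ {b : Set (IrrCharacter (Subgroup.centralizer ({x} : Set G))) |
    IsInducedBlock M (Subgroup.centralizer ({x} : Set G)) b B}, blockRank p b

theorem one_le_blockRank (hp : p.Prime) {H : Type u} [Group H] [Finite H]
    {b : Set (IrrCharacter H)} (hb : IsPBlock M b) [M.IsPrime] : 1 ≤ blockRank p b := by
  haveI := Fintype.ofFinite H
  obtain ⟨θ, hθ⟩ := BlocksCore.isPBlock_nonempty hb
  refine Nat.one_le_iff_ne_zero.mpr fun h0 => ?_
  rw [blockRank, Submodule.finrank_eq_zero] at h0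
  have hmem : pRegularPart p (θ : H → ℂ) ∈ Submodule.span ℂ
      ((fun χ : IrrCharacter H => pRegularPart p (χ : H → ℂ)) '' b) :=
    Submodule.subset_span ⟨θ, hθ, rfl⟩
  rw [h0, Submodule.mem_bot] at hmem
  have h1 := congrFun hmem 1
  rw [BC85.pRegularPart_pos (by rw [orderOf_one]; exact hp.not_dvd_one)] at h1
  exact BlocksCore.irr_one_ne_zero θ h1

theorem le_rankSum {x : G} {B : Set (IrrCharacter G)}
    {b : Set (IrrCharacter (Subgroup.centralizer ({x} : Set G)))}
    (hb : IsInducedBlock M (Subgroup.centralizer ({x} : Set G)) b B) :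
    blockRank p b ≤ rankSum p M x B := by
  classical
  haveI := BC84.finite_blockSets (Subgroup.centralizer ({x} : Set G))
  have hfin := Set.toFinite {b : Set (IrrCharacter (Subgroup.centralizer ({x} : Set G))) |
    IsInducedBlock M (Subgroup.centralizer ({x} : Set G)) b B}
  unfold rankSum
  rw [finsum_mem_eq_finite_toFinset_sum _ hfin]
  exact Finset.single_le_sum (f := fun b => blockRank p b) (fun i _ => Nat.zero_le _)
    (hfin.mem_toFinset.mpr hb)

theorem one_le_rankSum_one (hM : IsPModular p M) {B : Set (IrrCharacter G)} (hB : IsPBlock M B) :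
    blockRank p B ≤ rankSum p M (1 : G) B := by
  classical
  haveI := BlocksCore.isPrime hM
  haveI := Fintype.ofFinite G
  set H := Subgroup.centralizer ({(1 : G)} : Set G) with hH
  haveI := Fintype.ofFinite H
  have htop : H = ⊤ := eq_top_iff.mpr fun g _ => Subgroup.mem_centralizer_singleton_iff.mpr (by simp)
  let σ : H ≃* G := (MulEquiv.subgroupCongr htop).trans Subgroup.topEquiv
  have hσ : ∀ h : H, σ h = (h : G) := fun h => rfl
  have hind : IsInducedBlock M H (BC85.pullIrr σ '' B) B := by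
    refine ⟨BC85.isPBlock_image_pullIrr σ hB, hB, ?_⟩
    rintro _ ⟨χ', hχ', rfl⟩ χ hχ g
    have hsum : inducedCentralChar H (BC85.pullIrr σ χ' : H → ℂ) g =
        centralChar (χ' : G → ℂ) g := by
      rw [inducedCentralChar, centralChar, finsum_mem_eq_finite_toFinset_sum _ (Set.toFinite _)]
      rw [Finset.sum_congr rfl (g := fun _ => (χ' : G → ℂ) g / (χ' : G → ℂ) 1)]
      · rw [Finset.sum_const, nsmul_eq_mul, mul_div_assoc]
        congr 1
        norm_cast
        rw [← Set.ncard_eq_toFinset_card _ (Set.toFinite _), ← Nat.card_coe_set_eq]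
        rw [← BlocksDefect.natCard_isConj g]
        exact Nat.card_congr (σ.toEquiv.subtypeEquiv fun h => by
          show IsConj g (h : G) ↔ IsConj g (σ h)
          rw [hσ])
      · intro h hh
        rw [Set.Finite.mem_toFinset] at hh
        rw [BC85.pullIrr_apply, BC85.pullIrr_apply, map_one, hσ]
        obtain ⟨c, hc⟩ := isConj_iff.mp (show IsConj g (h : G) from hh)
        rw [← hc, CharCore.irr_isClassFunction χ' g c]
    rw [hsum]
    have h1 := BlocksCore.isPBlock_eq_blockOf hB hχ'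
    rw [h1] at hχ
    have h2 := hχ g
    exact h2
  refine le_trans (le_of_eq ?_) (le_rankSum hind)
  let L : (G → ℂ) ≃ₗ[ℂ] (H → ℂ) := LinearEquiv.funCongrLeft ℂ ℂ σ.toEquiv
  have hL : ∀ χ : IrrCharacter G, L (pRegularPart p (χ : G → ℂ)) =
      pRegularPart p (BC85.pullIrr σ χ : H → ℂ) := by
    intro χ
    funext h
    show pRegularPart p (χ : G → ℂ) (σ h) = _
    by_cases hh : p ∣ orderOf h
    · rw [BC85.pRegularPart_neg (by rwa [MulEquiv.orderOf_eq]), BC85.pRegularPart_neg hh]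
    · rw [BC85.pRegularPart_pos (by rwa [MulEquiv.orderOf_eq]), BC85.pRegularPart_pos hh]
      rfl
  have hset : L '' ((fun χ : IrrCharacter G => pRegularPart p (χ : G → ℂ)) '' B) =
      (fun χ : IrrCharacter H => pRegularPart p (χ : H → ℂ)) '' (BC85.pullIrr σ '' B) := by
    rw [Set.image_image, Set.image_image]
    exact Set.image_congr fun χ _ => hL χ
  rw [blockRank, blockRank, ← hset, ← LinearEquiv.coe_coe, ← Submodule.map_span]
  exact (L.finrank_map_eq _).symm

theorem exists_reps (S : Finset G) (hS : ∀ x ∈ S, ∃ k : ℕ, orderOf x = p ^ k)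
    (hne : ∀ x ∈ S, ∀ y ∈ S, IsConj x y → x = y) :
    ∃ X : Finset G, S ⊆ X ∧ (∀ x ∈ X, ∃ k : ℕ, orderOf x = p ^ k) ∧
      ∀ g : G, (∃ k : ℕ, orderOf g = p ^ k) → ∃! x, x ∈ X ∧ IsConj g x := by
  classical
  haveI := Fintype.ofFinite G
  let r : ConjClasses G → G := fun c =>
    if h : ∃ s ∈ S, ConjClasses.mk s = c then h.choose else Quotient.out c
  have hr : ∀ c, ConjClasses.mk (r c) = c := by
    intro c
    simp only [r]
    split_ifs with h
    · exact h.choose_spec.2
    · exact Quotient.out_eq c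
  have hrg : ∀ g, IsConj g (r (ConjClasses.mk g)) := fun g =>
    (ConjClasses.mk_eq_mk_iff_isConj.mp (hr (ConjClasses.mk g))).symm
  have hord : ∀ {g g' : G}, IsConj g g' → orderOf g' = orderOf g := by
    intro g g' h
    obtain ⟨c, rfl⟩ := isConj_iff.mp h
    exact (MulAut.conj c).orderOf_eq g
  have hrS : ∀ s ∈ S, r (ConjClasses.mk s) = s := by
    intro s hs
    have h : ∃ t ∈ S, ConjClasses.mk t = ConjClasses.mk s := ⟨s, hs, rfl⟩
    simp only [r, dif_pos h]
    exact hne _ h.choose_spec.1 _ hs (ConjClasses.mk_eq_mk_iff_isConj.mp h.choose_spec.2)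
  refine ⟨(Finset.univ.filter fun g : G => ∃ k : ℕ, orderOf g = p ^ k).image
    (fun g => r (ConjClasses.mk g)), ?_, ?_, ?_⟩
  · intro s hs
    exact Finset.mem_image.mpr ⟨s, Finset.mem_filter.mpr ⟨Finset.mem_univ _, hS s hs⟩, hrS s hs⟩
  · intro x hx
    obtain ⟨g, hg, rfl⟩ := Finset.mem_image.mp hx
    obtain ⟨k, hk⟩ := (Finset.mem_filter.mp hg).2
    exact ⟨k, by rw [hord (hrg g), hk]⟩
  · intro g hg
    refine ⟨r (ConjClasses.mk g), ⟨Finset.mem_image.mpr ⟨g, Finset.mem_filter.mpr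
      ⟨Finset.mem_univ _, hg⟩, rfl⟩, hrg g⟩, ?_⟩
    rintro x ⟨hx, hgx⟩
    obtain ⟨g', -, rfl⟩ := Finset.mem_image.mp hx
    exact congrArg r (ConjClasses.mk_eq_mk_iff_isConj.mpr ((hrg g').trans hgx.symm))

theorem sum_rankSum_le (hM : IsPModular p M) {B : Set (IrrCharacter G)} (hB : IsPBlock M B)
    (hk : Nat.card B = blockRank p B + 1) (S : Finset G) (h1 : (1 : G) ∉ S)
    (hS : ∀ x ∈ S, ∃ k : ℕ, orderOf x = p ^ k) (hne : ∀ x ∈ S, ∀ y ∈ S, IsConj x y → x = y) :
    ∑ x ∈ S, rankSum p M x B ≤ 1 := by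
  classical
  obtain ⟨X, hSX, hX, hrep⟩ := exists_reps (p := p) (insert 1 S)
    (by
      intro x hx
      rcases Finset.mem_insert.mp hx with rfl | hx
      · exact ⟨0, by simp⟩
      · exact hS x hx)
    (by
      intro x hx y hy hxy
      rcases Finset.mem_insert.mp hx with rfl | hx
      · exact (isConj_one_right.mp hxy).symm
      · rcases Finset.mem_insert.mp hy with rfl | hy
        · exact isConj_one_left.mp hxy
        · exact hne x hx y hy hxy)
  have h := BC84.natCard_eq_sum_blockRank hM hB X hX hrep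
  have h2 : ∑ x ∈ insert (1 : G) S, rankSum p M x B ≤ ∑ x ∈ X, rankSum p M x B :=
    Finset.sum_le_sum_of_subset hSX
  rw [Finset.sum_insert h1] at h2
  have h3 := one_le_rankSum_one hM hB
  have h4 : Nat.card B = ∑ x ∈ X, rankSum p M x B := h
  omega

theorem exists_inducing (hM : IsPModular p M) {B : Set (IrrCharacter G)} (hB : IsPBlock M B)
    {D : Subgroup G} (hD : IsDefectGroup p M B D) {x : G} (hx : x ∈ D) {k : ℕ}
    (hk : orderOf x = p ^ k) : 1 ≤ rankSum p M x B := by
  haveI := BlocksCore.isPrime hM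
  haveI := Fintype.ofFinite G
  obtain ⟨b, hb⟩ := (BlocksDefect.exists_inducing_iff hM (BlocksCore.isPGroup_zpowers (p := p) hk)
    (Subgroup.zpowers_le.mpr (Subgroup.mem_centralizer_singleton_iff.mpr rfl))
    (by rw [BlocksCore.centralizer_zpowers]) (BlocksDefect.centralizer_le_normalizer_zpowers x) hB).mpr
    ((BlocksDefect.exists_coeff_mem_centralizer_iff hM hB hD
      (BlocksCore.isPGroup_zpowers (p := p) hk)).mpr ⟨1, fun y hy => by
        obtain ⟨z, hz, rfl⟩ := hy
        simpa using (Subgroup.zpowers_le.mpr hx) hz⟩)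
  exact (one_le_blockRank Fact.out hb.1).trans (le_rankSum hb)

theorem hasComplement_of_rankSum (hM : IsPModular p M) {x : G} {k : ℕ} (hk : orderOf x = p ^ k)
    (h : rankSum p M x (principalBlock M G) ≤ 1) :
    HasNormalPComplement p (Subgroup.centralizer ({x} : Set G)) := by
  haveI := BlocksCore.isPrime hM
  haveI := Fintype.ofFinite (Subgroup.centralizer ({x} : Set G))
  obtain ⟨B', hB'⟩ := BC84.induced_exists hM hk
    (BlocksDefect.isPBlock_principal (M := M) (G := Subgroup.centralizer ({x} : Set G)))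
  obtain rfl := BlocksDefect.eq_principal_of_inducing hM hB'
  have h1 : blockRank p (principalBlock M (Subgroup.centralizer ({x} : Set G))) = 1 :=
    le_antisymm ((le_rankSum hB').trans h) (one_le_blockRank Fact.out hB'.1)
  exact (BC85.hasNormalPComplement_iff_nilpotentBlock hM).mpr
    ((S4646.result p M hM).mpr h1)

theorem centralizes_of_complement {x : G}
    (hc : HasNormalPComplement p (Subgroup.centralizer ({x} : Set G))) {g a : G}
    (hg : g ∈ Subgroup.centralizer ({x} : Set G)) (hgp : ¬ p ∣ orderOf g)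
    (ha : a ∈ Subgroup.centralizer ({x} : Set G)) {A : Subgroup G} (hA : IsPGroup p A)
    (haA : a ∈ A) (hga : g * a * g⁻¹ ∈ A) : g * a * g⁻¹ = a := by
  set C := Subgroup.centralizer ({x} : Set G) with hCdef
  obtain ⟨S, N, hN, hcomp⟩ := hc
  haveI := hN
  have hidx : N.index = Nat.card S := hcomp.symm.index_eq_card
  rw [S.card_eq_multiplicity] at hidx
  have hgN : (⟨g, hg⟩ : C) ∈ N :=
    BlocksDefect.mem_of_not_dvd_orderOf hidx (by rwa [Subgroup.orderOf_mk])
  have hcN : (⟨g, hg⟩ : C) * ⟨a, ha⟩ * ⟨g, hg⟩⁻¹ * ⟨a, ha⟩⁻¹ ∈ N := by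
    rw [show (⟨g, hg⟩ : C) * ⟨a, ha⟩ * ⟨g, hg⟩⁻¹ * ⟨a, ha⟩⁻¹ =
      ⟨g, hg⟩ * (⟨a, ha⟩ * ⟨g, hg⟩⁻¹ * ⟨a, ha⟩⁻¹) by group]
    exact N.mul_mem hgN (hN.conj_mem _ (N.inv_mem hgN) _)
  set c := g * a * g⁻¹ * a⁻¹ with hcdef
  have hcA : c ∈ A := A.mul_mem hga (A.inv_mem haA)
  obtain ⟨j, hj⟩ := IsPGroup.iff_orderOf.mp hA ⟨c, hcA⟩
  rw [Subgroup.orderOf_mk] at hj
  have hdvd : orderOf c ∣ Nat.card N := by
    have h1 := orderOf_dvd_natCard (⟨_, hcN⟩ : N)
    rwa [Subgroup.orderOf_mk, ← Subgroup.orderOf_coe] at h1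
  have hNp : ¬ p ∣ Nat.card N := fun hd => by
    have h1 : Nat.card (S : Subgroup C) * p ∣ Nat.card C := by
      rw [← hcomp.card_mul, mul_comm (Nat.card N)]
      exact mul_dvd_mul_left _ hd
    rw [S.card_eq_multiplicity, ← pow_succ] at h1
    exact Nat.pow_succ_factorization_not_dvd Nat.card_pos.ne' Fact.out h1
  rcases Nat.eq_zero_or_pos j with rfl | hj0
  · exact mul_inv_eq_one.mp (orderOf_eq_one_iff.mp (by simpa using hj))
  · exact absurd ((dvd_pow_self p hj0.ne').trans (hj ▸ hdvd)) hNp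

theorem abelian_of_pSolvable (hs : IsPSolvable p G) {D : Subgroup G} (hD : IsPGroup p D)
    (hall : ∀ u ∈ D, ∀ v ∈ D, u ≠ 1 → v ≠ 1 → IsConj u v) : IsMulCommutative D := by
  classical
  rcases eq_or_ne D ⊥ with rfl | hDne
  · infer_instance
  obtain ⟨d, hd, hd1⟩ := D.bot_or_exists_ne_one.resolve_left hDne
  -- a normal subgroup maximal with respect to meeting `D` trivially
  obtain ⟨L, ⟨hLn, hLD⟩, hmax⟩ := (Set.toFinite {L : Subgroup G | L.Normal ∧ D ⊓ L = ⊥}).exists_maximal
    ⟨⊥, inferInstance, inf_bot_eq _⟩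
  haveI := hLn
  have hover : ∀ K : Subgroup G, K.Normal → L ≤ K → K ≠ L → D ≤ K := by
    intro K hK hLK hne
    have hmeet : D ⊓ K ≠ ⊥ := fun h0 => hne (le_antisymm (hmax ⟨hK, h0⟩ hLK) hLK)
    obtain ⟨u, hu, hu1⟩ := (D ⊓ K).bot_or_exists_ne_one.resolve_left hmeet
    intro v hv
    rcases eq_or_ne v 1 with rfl | hv1
    · exact one_mem _
    obtain ⟨c, hc⟩ := isConj_iff.mp (hall u hu.1 v hv hu1 hv1)
    exact hc ▸ hK.conj_mem u hu.2 c
  obtain ⟨n, H, h0, hlast, hmono, hnorm, hstep⟩ := hs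
  have hex : ∃ i : Fin (n + 1), ¬ H i ≤ L := ⟨Fin.last n, fun h => hd1 (by
    have : d ∈ D ⊓ L := ⟨hd, h (hlast ▸ Subgroup.mem_top d)⟩
    rwa [hLD, Subgroup.mem_bot] at this)⟩
  let s := Finset.univ.filter fun i : Fin (n + 1) => ¬ H i ≤ L
  have hsne : s.Nonempty := hex.imp fun i hi => Finset.mem_filter.mpr ⟨Finset.mem_univ _, hi⟩
  obtain ⟨i0, hi0, hmin⟩ := s.exists_min_image id hsne
  obtain ⟨i, rfl⟩ : ∃ i : Fin n, i.succ = i0 := by
    refine ⟨i0.pred fun h => (Finset.mem_filter.mp hi0).2 (by rw [h, h0]; exact bot_le), Fin.succ_pred _ _⟩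
  have hlow : H i.castSucc ≤ L := by
    by_contra h
    have := hmin i.castSucc (Finset.mem_filter.mpr ⟨Finset.mem_univ _, h⟩)
    exact absurd this (not_le.mpr (Fin.castSucc_lt_succ (i := i)))
  haveI := hnorm i.succ
  set π := QuotientGroup.mk' L
  set N := (H i.succ).map π with hN
  haveI : N.Normal := Subgroup.Normal.map (hnorm _) π (QuotientGroup.mk'_surjective L)
  have hNne : N ≠ ⊥ := by
    rw [hN, Ne, Subgroup.map_eq_bot_iff, QuotientGroup.ker_mk']
    exact (Finset.mem_filter.mp hi0).2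
  have hcontains : ∀ Z : Subgroup (G ⧸ L), Z.Normal → Z ≠ ⊥ → D.map π ≤ Z := by
    intro Z hZ hne
    rw [Subgroup.map_le_iff_le_comap]
    refine hover _ (hZ.comap π) (fun l hl => ?_) fun h => hne ?_
    · rw [Subgroup.mem_comap, show π l = 1 from (QuotientGroup.eq_one_iff l).mpr hl]
      exact one_mem _
    · rw [← Subgroup.map_comap_eq_self_of_surjective (QuotientGroup.mk'_surjective L) Z, h,
        Subgroup.map_eq_bot_iff, QuotientGroup.ker_mk']
  have hdvd : Nat.card N ∣ (H i.castSucc).relIndex (H i.succ) := by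
    rw [← Subgroup.relIndex_bot_left, ← Subgroup.map_bot π, Subgroup.relIndex_map_map,
      QuotientGroup.ker_mk', bot_sup_eq, Subgroup.relIndex_sup_right]
    exact Subgroup.relIndex_dvd_of_le_left _ hlow
  have hdpi : π d ∈ N := hcontains N inferInstance hNne ⟨d, hd, rfl⟩
  have hdpi1 : π d ≠ 1 := fun h => hd1 (by
    have : d ∈ D ⊓ L := ⟨hd, (QuotientGroup.eq_one_iff d).mp h⟩
    rwa [hLD, Subgroup.mem_bot] at this)
  have hNp : IsPGroup p N := by
    rcases hstep i with ⟨m, hm⟩ | hco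
    · obtain ⟨j, -, hj⟩ := (Nat.dvd_prime_pow Fact.out).mp (hm ▸ hdvd)
      exact IsPGroup.of_card hj
    · exfalso
      obtain ⟨j, hj'⟩ := IsPGroup.iff_orderOf.mp (hD.map π) ⟨π d, d, hd, rfl⟩
      have hj : orderOf (π d) = p ^ j := by
        rw [← Subgroup.orderOf_coe] at hj'
        exact hj'
      rcases Nat.eq_zero_or_pos j with rfl | hj0
      · exact hdpi1 (orderOf_eq_one_iff.mp (by simpa using hj))
      · have h1 : orderOf (π d) ∣ Nat.card N := N.orderOf_dvd_natCard hdpi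
        exact (Nat.Prime.coprime_iff_not_dvd Fact.out).mp hco.symm
          ((dvd_pow_self p hj0.ne').trans ((hj ▸ h1).trans hdvd))
  haveI : Nontrivial N := (Subgroup.nontrivial_iff_ne_bot N).mpr hNne
  haveI := hNp.center_nontrivial
  haveI : ((Subgroup.center N).map N.subtype).Normal := ConjAct.normal_of_characteristic_of_normal
  have hZ : D.map π ≤ (Subgroup.center N).map N.subtype := hcontains _ inferInstance fun h => by
    rw [Subgroup.map_eq_bot_iff_of_injective _ N.subtype_injective] at h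
    exact (Subgroup.nontrivial_iff_ne_bot _).mp inferInstance h
  refine ⟨⟨fun a b => Subtype.ext ?_⟩⟩
  obtain ⟨za, hza, hza'⟩ := hZ ⟨(a : G), a.2, rfl⟩
  obtain ⟨zb, -, hzb'⟩ := hZ ⟨(b : G), b.2, rfl⟩
  have hcomm : π ((a : G) * b) = π ((b : G) * a) := by
    rw [map_mul, map_mul, ← hza', ← hzb', ← map_mul, ← map_mul, Subgroup.mem_center_iff.mp hza zb]
  have hmem : ((b : G) * a)⁻¹ * ((a : G) * b) ∈ D ⊓ L :=
    ⟨D.mul_mem (D.inv_mem (D.mul_mem b.2 a.2)) (D.mul_mem a.2 b.2), QuotientGroup.eq.mp hcomm.symm⟩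
  rw [hLD, Subgroup.mem_bot] at hmem
  exact (inv_mul_eq_one.mp hmem).symm

theorem abelian_of_centralizers (hp2 : p ≠ 2) (P : Sylow p G) (hP : (P : Subgroup G) ≠ ⊥)
    (hall : ∀ u ∈ (P : Subgroup G), ∀ v ∈ (P : Subgroup G), u ≠ 1 → v ≠ 1 → IsConj u v)
    (hC : ∀ x ∈ (P : Subgroup G), x ≠ 1 → HasNormalPComplement p (Subgroup.centralizer ({x} : Set G))) :
    IsMulCommutative (P : Subgroup G) := by
  have hp : p.Prime := Fact.out
  haveI : Nontrivial (P : Subgroup G) := (Subgroup.nontrivial_iff_ne_bot _).mpr hP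
  haveI := P.isPGroup'.center_nontrivial
  obtain ⟨⟨z, hz⟩, hz1⟩ := exists_ne (1 : Subgroup.center (P : Subgroup G))
  set u : G := (z : G)
  have huP : u ∈ (P : Subgroup G) := z.2
  have hu1 : u ≠ 1 := fun h => hz1 (Subtype.ext (Subtype.ext h))
  have hucomm : ∀ a ∈ (P : Subgroup G), a * u = u * a := fun a ha =>
    congrArg Subtype.val (Subgroup.mem_center_iff.mp hz ⟨a, ha⟩)
  have hinv : u⁻¹ ≠ u := by
    intro h
    obtain ⟨j, hj⟩ := IsPGroup.iff_orderOf.mp P.isPGroup' z
    rw [← Subgroup.orderOf_coe] at hj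
    have h2 : orderOf u ∣ 2 := orderOf_dvd_of_pow_eq_one (by rw [pow_two]; exact inv_eq_iff_mul_eq_one.mp h)
    rcases Nat.eq_zero_or_pos j with rfl | hj0
    · exact hu1 (orderOf_eq_one_iff.mp (by simpa [u] using hj))
    · rw [show orderOf u = p ^ j from hj] at h2
      exact hp2 ((Nat.prime_dvd_prime_iff_eq hp Nat.prime_two).mp ((dvd_pow_self p hj0.ne').trans h2))
  have huC : u ∈ Subgroup.centralizer ((P : Subgroup G) : Set G) :=
    Subgroup.mem_centralizer_iff.mpr fun a ha => hucomm a ha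
  obtain ⟨c, hc⟩ := isConj_iff.mp (hall u huP u⁻¹ (inv_mem huP) hu1 (inv_ne_one.mpr hu1))
  obtain ⟨n₀, hn₀, hn₀c⟩ := P.conj_eq_normalizer_conj_of_mem_centralizer u c⁻¹ huC (by
    rw [inv_inv, hc]; exact inv_mem huC)
  rw [inv_inv, hc] at hn₀c
  set n := n₀⁻¹ with hndef
  have hn : n ∈ Subgroup.normalizer ((P : Subgroup G) : Set G) := inv_mem hn₀
  have hnu : n * u * n⁻¹ = u⁻¹ := by rw [hndef, inv_inv]; exact hn₀c.symm
  obtain ⟨a, m, hm, ham⟩ := Nat.exists_eq_two_pow_mul_odd (orderOf_pos n).ne'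
  set g := n ^ m with hgdef
  have hgN : g ∈ Subgroup.normalizer ((P : Subgroup G) : Set G) := Subgroup.pow_mem _ hn m
  have hgord : ¬ p ∣ orderOf g := by
    intro hd
    have h1 : orderOf g ∣ 2 ^ a := orderOf_dvd_of_pow_eq_one (by
      rw [hgdef, ← pow_mul, mul_comm, ← ham, pow_orderOf_eq_one])
    exact hp2 ((Nat.prime_dvd_prime_iff_eq hp Nat.prime_two).mp
      (hp.dvd_of_dvd_pow (hd.trans h1)))
  have hnk : ∀ k : ℕ, n ^ k * u * (n ^ k)⁻¹ = if Even k then u else u⁻¹ := by
    intro k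
    induction k with
    | zero => simp
    | succ k ih =>
      rw [pow_succ', mul_inv_rev,
        show n * n ^ k * u * ((n ^ k)⁻¹ * n⁻¹) = n * (n ^ k * u * (n ^ k)⁻¹) * n⁻¹ by group, ih]
      by_cases hk : Even k
      · rw [if_pos hk, if_neg (by simpa [Nat.even_add_one] using hk), hnu]
      · rw [if_neg hk, if_pos (Nat.even_add_one.mpr hk),
          show n * u⁻¹ * n⁻¹ = (n * u * n⁻¹)⁻¹ by group, hnu, inv_inv]
  have hgu : g * u * g⁻¹ = u⁻¹ := by rw [hgdef, hnk, if_neg (Nat.not_even_iff_odd.mpr hm)]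
  have hgP : ∀ y ∈ (P : Subgroup G), g * y * g⁻¹ ∈ (P : Subgroup G) := fun y hy =>
    (Subgroup.mem_normalizer_iff.mp hgN y).mp hy
  have hPC : ∀ y ∈ (P : Subgroup G), y ∈ Subgroup.centralizer ({u} : Set G) := fun y hy =>
    Subgroup.mem_centralizer_singleton_iff.mpr (hucomm y hy)
  -- the square is trivial on `P`
  have hsq : ∀ y ∈ (P : Subgroup G), g * (g * y * g⁻¹) * g⁻¹ = y := by
    intro y hy
    have hg2 : g * g ∈ Subgroup.centralizer ({u} : Set G) := by
      rw [Subgroup.mem_centralizer_singleton_iff, ← mul_inv_eq_iff_eq_mul]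
      rw [show g * g * u * (g * g)⁻¹ = g * (g * u * g⁻¹) * g⁻¹ by group, hgu,
        show g * u⁻¹ * g⁻¹ = (g * u * g⁻¹)⁻¹ by group, hgu, inv_inv]
    have hord2 : ¬ p ∣ orderOf (g * g) := fun hd => hgord (hd.trans (by
      rw [← pow_two]; exact orderOf_pow_dvd 2))
    have h := centralizes_of_complement (hC u huP hu1) hg2 hord2 (hPC y hy) P.isPGroup' hy
      (by rw [show g * g * y * (g * g)⁻¹ = g * (g * y * g⁻¹) * g⁻¹ by group]; exact hgP _ (hgP y hy))
    rwa [show g * g * y * (g * g)⁻¹ = g * (g * y * g⁻¹) * g⁻¹ by group] at h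
  -- no non-trivial fixed point
  have hfix : ∀ y ∈ (P : Subgroup G), g * y * g⁻¹ = y → y = 1 := by
    intro y hy hgy
    by_contra hy1
    have h := centralizes_of_complement (hC y hy hy1)
      (g := g) (a := u) (Subgroup.mem_centralizer_singleton_iff.mpr (mul_inv_eq_iff_eq_mul.mp hgy))
      hgord (Subgroup.mem_centralizer_singleton_iff.mpr (hucomm y hy).symm) P.isPGroup' huP (hgP u huP)
    exact hinv (hgu.symm.trans h)
  let f : ↥(P : Subgroup G) → ↥(P : Subgroup G) := fun y =>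
    ⟨(y : G)⁻¹ * (g * y * g⁻¹), mul_mem (inv_mem y.2) (hgP y y.2)⟩
  have hfinj : Function.Injective f := by
    intro x y hxy
    have h : (x : G)⁻¹ * (g * x * g⁻¹) = (y : G)⁻¹ * (g * y * g⁻¹) := congrArg Subtype.val hxy
    have h' : g * ((y : G) * (x : G)⁻¹)⁻¹⁻¹ * g⁻¹ = (y : G) * (x : G)⁻¹ := by
      rw [inv_inv]
      calc g * ((y : G) * (x : G)⁻¹) * g⁻¹ = (g * y * g⁻¹) * (g * x * g⁻¹)⁻¹ := by group
        _ = (y : G) * ((y : G)⁻¹ * (g * y * g⁻¹)) * ((x : G) * ((x : G)⁻¹ * (g * x * g⁻¹)))⁻¹ := by group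
        _ = (y : G) * (x : G)⁻¹ := by rw [h]; group
    rw [inv_inv] at h'
    exact Subtype.ext (mul_inv_eq_one.mp (hfix _ (mul_mem y.2 (inv_mem x.2)) h')).symm
  have hflip : ∀ y ∈ (P : Subgroup G), g * y * g⁻¹ = y⁻¹ := by
    intro y hy
    obtain ⟨x, hx⟩ := Finite.surjective_of_injective hfinj ⟨y, hy⟩
    have hx' : (x : G)⁻¹ * (g * x * g⁻¹) = y := congrArg Subtype.val hx
    rw [← hx']
    calc g * ((x : G)⁻¹ * (g * x * g⁻¹)) * g⁻¹
        = (g * x * g⁻¹)⁻¹ * (g * (g * x * g⁻¹) * g⁻¹) := by group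
      _ = (g * x * g⁻¹)⁻¹ * x := by rw [hsq x x.2]
      _ = ((x : G)⁻¹ * (g * x * g⁻¹))⁻¹ := by group
  refine ⟨⟨fun a b => Subtype.ext ?_⟩⟩
  have h := hflip _ (mul_mem a.2 b.2)
  rw [show g * ((a : G) * b) * g⁻¹ = (g * a * g⁻¹) * (g * b * g⁻¹) by group, hflip _ a.2, hflip _ b.2,
    ← mul_inv_rev, inv_inj] at h
  exact h.symm

/-- Let G be a finite group, p a prime, M a maximal ideal of the algebraic integers containing p, and B a p-block of G with defect group D. Suppose the number of irreducible characters in B exceeds the p-regular rank of B (the number of irreducible Brauer characters in B) by exactly one. If B is the principal block, or if G is p-solvable, then D is elementary abelian. -/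
theorem result {G : Type*} [Group G] [Finite G] (p : ℕ) [Fact p.Prime] (M : Ideal Cfsg.AlgInt) (hM : Cfsg.IsPModular p M) (B : Set (Cfsg.IrrCharacter G)) (hB : Cfsg.IsPBlock M B) (D : Subgroup G) (hD : Cfsg.IsDefectGroup p M B D)
    (hk : Nat.card B = Cfsg.blockRank p B + 1) (hB0 : B = Cfsg.principalBlock M G ∨ Cfsg.IsPSolvable p G) :
    Cfsg.IsElementaryAbelian p D := by

  classical
  haveI := BlocksCore.isPrime hM
  haveI := Fintype.ofFinite G
  have hp : p.Prime := Fact.out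
  have hDp : IsPGroup p D := by
    obtain ⟨g, -, P, rfl⟩ := hD
    exact P.isPGroup'.map _
  have hpow : ∀ u ∈ D, ∃ k : ℕ, orderOf u = p ^ k := by
    intro u hu
    obtain ⟨k, hk⟩ := IsPGroup.iff_orderOf.mp hDp ⟨u, hu⟩
    exact ⟨k, by rwa [Subgroup.orderOf_mk] at hk⟩
  have hall : ∀ u ∈ D, ∀ v ∈ D, u ≠ 1 → v ≠ 1 → IsConj u v := by
    intro u hu v hv hu1 hv1
    by_contra hn
    have hne : u ≠ v := fun h => hn (h ▸ IsConj.refl u)
    have h := sum_rankSum_le hM hB hk {u, v} (by simp [Ne.symm hu1, Ne.symm hv1])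
      (by
        intro x hx
        simp only [Finset.mem_insert, Finset.mem_singleton] at hx
        rcases hx with rfl | rfl
        · exact hpow _ hu
        · exact hpow _ hv)
      (by
        intro x hx y hy hxy
        simp only [Finset.mem_insert, Finset.mem_singleton] at hx hy
        rcases hx with rfl | rfl <;> rcases hy with rfl | rfl
        · rfl
        · exact absurd hxy hn
        · exact absurd hxy.symm hn
        · rfl)
    rw [Finset.sum_pair hne] at h
    obtain ⟨k, hk'⟩ := hpow u hu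
    obtain ⟨j, hj⟩ := hpow v hv
    have := exists_inducing hM hB hD hu hk'
    have := exists_inducing hM hB hD hv hj
    omega
  have hexp : ∀ a ∈ D, a ^ p = 1 := by
    intro a ha
    rcases eq_or_ne a 1 with rfl | ha1
    · exact one_pow p
    obtain ⟨k, hk'⟩ := hpow a ha
    have hk0 : k ≠ 0 := fun h => ha1 (orderOf_eq_one_iff.mp (by rw [hk', h, pow_zero]))
    have hb1 : a ^ p ^ (k - 1) ≠ 1 := fun h => by
      have := orderOf_dvd_of_pow_eq_one h
      rw [hk'] at this
      have := (Nat.pow_dvd_pow_iff_le_right hp.one_lt).mp this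
      omega
    obtain ⟨c, hc⟩ := isConj_iff.mp (hall _ (pow_mem ha _) a ha hb1 ha1)
    rw [← hc, conj_pow, ← pow_mul, ← pow_succ, Nat.sub_add_cancel (Nat.pos_of_ne_zero hk0), ← hk',
      pow_orderOf_eq_one, mul_one, mul_inv_cancel]
  refine ⟨?_, hexp⟩
  rcases hB0 with rfl | hs
  · rcases eq_or_ne D ⊥ with rfl | hDne
    · infer_instance
    rcases eq_or_ne p 2 with rfl | hp2
    · refine ⟨⟨fun a b => Subtype.ext ?_⟩⟩
      have key : ∀ x ∈ D, x⁻¹ = x := fun x hx =>
        inv_eq_iff_mul_eq_one.mpr (by rw [← pow_two]; exact hexp x hx)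
      calc (a : G) * b = ((a : G) * b)⁻¹ := (key _ (D.mul_mem a.2 b.2)).symm
        _ = (b : G) * a := by rw [mul_inv_rev, key _ b.2, key _ a.2]
    obtain ⟨P, rfl⟩ := (S4652.result p M hM D).mp hD
    refine abelian_of_centralizers hp2 P hDne hall fun x hx hx1 => ?_
    obtain ⟨k, hk'⟩ := hpow x hx
    refine hasComplement_of_rankSum hM hk' ?_
    have h := sum_rankSum_le hM hB hk {x} (by simp [Ne.symm hx1])
      (by intro y hy; rw [Finset.mem_singleton.mp hy]; exact ⟨k, hk'⟩)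
      (by intro y hy z hz _; rw [Finset.mem_singleton.mp hy, Finset.mem_singleton.mp hz])
    simpa using h
  · exact abelian_of_pSolvable hs hDp hall

end Cfsg.Agent.S4606
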