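import Cfsg.Statements.S4607
import Cfsg.Agent.BlockAlg8.TwoChar
import Cfsg.Agent.BC84.DefectTwo

set_option autoImplicit false
open Cfsg

namespace Cfsg.Agent.S4607

/-- Let G be a finite group, p a prime, M a maximal ideal of the algebraic integers containing p, and B a p-block of G with defect group D. Then B contains exactly two irreducible characters if and only if D has order 2. -/
theorem result {G : Type*} [Group G] [Finite G] (p : ℕ) [Fact p.Prime] (M : Ideal Cfsg.AlgInt) (hM : Cfsg.IsPModular p M) (B : Set (Cfsg.IrrCharacter G)) (hB : Cfsg.IsPBlock M B) (D : Subgroup G) (hD : Cfsg.IsDefectGroup p M B D) : Nat.card B = 2 ↔ Nat.card D = 2 := by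
  have := Fintype.ofFinite G
  have hcard := BlocksDefect.defectGroup_natCard hM hB hD
  constructor
  · intro h
    obtain ⟨rfl, hd⟩ := BlockAlg8.defect_of_card_two hM hB hD h
    rw [hcard, hd, pow_one]
  · intro h
    rw [hcard] at h
    have hp : p.Prime := Fact.out
    have hd0 : Cfsg.blockDefect p B ≠ 0 := fun h0 => by rw [h0, pow_zero] at h; omega
    have hdvd : p ∣ 2 := by rw [← h]; exact dvd_pow_self p hd0
    obtain rfl : p = 2 := (Nat.prime_dvd_prime_iff_eq hp Nat.prime_two).mp hdvd
    exact (BC84.card_eq_two_of_defect_one hM hB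
      (Nat.pow_right_injective le_rfl (show 2 ^ Cfsg.blockDefect 2 B = 2 ^ 1 by rw [h, pow_one]))).1

end Cfsg.Agent.S4607
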