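import Cfsg.Statements.S4610
import Cfsg.Agent.Sep52.Meet

set_option autoImplicit false
open Cfsg

namespace Cfsg.Agent.S4610

/-- Let G be a finite group and p a prime dividing its order; fix for every prime r a maximal ideal M r of the algebraic integers containing r. Then, for every prime q ≠ p dividing the order of G, the principal p-block and the principal q-block of G have only the principal character in common, if and only if a Sylow p-subgroup P of G is normal and G is generated by P and its largest normal subgroup of order prime to p (that is, G is the direct product of P and that subgroup). -/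
theorem result {G : Type*} [Group G] [Finite G] (p : ℕ) [Fact p.Prime] (hp : p ∣ Nat.card G) (M : ℕ → Ideal Cfsg.AlgInt) (hM : ∀ r : ℕ, r.Prime → Cfsg.IsPModular r (M r)) (P : Sylow p G) :
    (∀ q : ℕ, q.Prime → q ≠ p → q ∣ Nat.card G →
        ∀ χ : Cfsg.IrrCharacter G, χ ∈ Cfsg.principalBlock (M p) G → χ ∈ Cfsg.principalBlock (M q) G → (χ : G → ℂ) = fun _ => 1) ↔
      ((P : Subgroup G).Normal ∧ (P : Subgroup G) ⊔ Cfsg.pPrimeCore p G = ⊤) := by
  have hpr : p.Prime := Fact.out
  constructor
  · intro h
    refine Sep52.directFactor_of_index P fun x hx => ?_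
    set i := (Subgroup.centralizer ({x} : Set G)).index with hi
    have hi0 : i ≠ 0 := Subgroup.index_ne_zero_of_finite
    refine ⟨i.primeFactorsList.length, Nat.eq_prime_pow_of_unique_prime_dvd hi0 fun {q} hq hd => ?_⟩
    by_contra hne
    haveI := Fact.mk hq
    exact Sep52.not_dvd_index_of_meet (hM p hpr) (hM q hq)
      (h q hq hne (hd.trans (Subgroup.index_dvd_card _))) hx hd
  · rintro ⟨hn, htop⟩ q hq hne - χ h1 h2
    haveI := Fact.mk hq
    exact Sep52.meet_of_directFactor (hM p hpr) (hM q hq) hne P hn htop h1 h2

end Cfsg.Agent.S4610
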