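import Cfsg.Statements.S4611
import Cfsg.Agent.BC84.PrincipalDegree
import Cfsg.Agent.Lib.Thompson.PSolvable
import Cfsg.Agent.OddLocal44.Stability
-- import your own Cfsg.Agent.* helpers here

set_option autoImplicit false
open Cfsg

namespace Cfsg.Agent.S4611

/-- Let G be a finite solvable group and π a nonempty set of primes, each dividing the order of G; fix for each p in π a maximal ideal M p of the algebraic integers containing p. Then the only irreducible character lying in the principal p-block for every p in π is the principal character if and only if G is generated by the subgroups O_{p'}(G), p in π (the largest normal subgroups of order prime to p). -/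
theorem result {G : Type*} [Group G] [Finite G] [Group.IsSolvable G] (π : Set ℕ) (hπ : ∀ p ∈ π, p.Prime ∧ p ∣ Nat.card G) (hne : π.Nonempty) (M : ℕ → Ideal Cfsg.AlgInt) (hM : ∀ p ∈ π, Cfsg.IsPModular p (M p)) :
    (∀ χ : Cfsg.IrrCharacter G, (∀ p ∈ π, χ ∈ Cfsg.principalBlock (M p) G) → (χ : G → ℂ) = fun _ => 1) ↔
      ⨆ p ∈ π, Cfsg.pPrimeCore p G = ⊤ := by
  classical
  have := Fintype.ofFinite G
  constructor
  · intro honly
    by_contra hne'
    set L := ⨆ p ∈ π, Cfsg.pPrimeCore p G with hL
    have hLn : L.Normal := ⟨fun x hx g => by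
      have hle : L ≤ L.comap (MulAut.conj g).toMonoidHom := iSup₂_le fun p hp y hy => by
        have h1 : g * y * g⁻¹ ∈ Cfsg.pPrimeCore p G := (inferInstance : (Cfsg.pPrimeCore p G).Normal).conj_mem y hy g
        exact le_iSup₂ (f := fun p (_ : p ∈ π) => Cfsg.pPrimeCore p G) p hp h1
      exact hle hx⟩
    have : Nontrivial (G ⧸ L) := QuotientGroup.nontrivial_iff.mpr hne'
    have hcomm := Group.IsSolvable.commutator_lt_top_of_nontrivial (G ⧸ L)
    obtain ⟨y, -, hy⟩ := SetLike.exists_of_lt hcomm
    have hy' : Abelianization.of y ≠ 1 := fun h => hy (by rwa [← Abelianization.ker_of])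
    obtain ⟨φ, hφ⟩ := CommGroup.exists_apply_ne_one_of_hasEnoughRootsOfUnity (Abelianization (G ⧸ L)) ℂ hy'
    let f : G →* ℂˣ := (φ.comp Abelianization.of).comp (QuotientGroup.mk' L)
    let χ : Cfsg.IrrCharacter G := ⟨fun g => (f g : ℂ), CharCore.isIrrCharacter_hom f⟩
    have hfL : ∀ x ∈ L, f x = 1 := fun x hx => by
      show φ (Abelianization.of (QuotientGroup.mk' L x)) = 1
      rw [show QuotientGroup.mk' L x = 1 from (QuotientGroup.eq_one_iff x).mpr hx, map_one, map_one]
    refine hφ ?_
    obtain ⟨g, rfl⟩ := QuotientGroup.mk'_surjective L y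
    refine Units.ext ?_
    refine congrFun (honly χ fun p hp => ?_) g
    obtain ⟨hpp, -⟩ := hπ p hp
    have := Fact.mk hpp
    have hMp := hM p hp
    have := BlocksCore.isPrime hMp
    rw [BC84.mem_principalBlock_iff]
    intro g
    have e : Cfsg.centralChar (χ : G → ℂ) g - Cfsg.centralChar ((BC84.oneChar G : Cfsg.IrrCharacter G) : G → ℂ) g
        = ((Subgroup.centralizer ({g} : Set G)).index : ℂ) * ((f g : ℂ) - 1) := by
      rw [BC84.centralChar_one, Cfsg.centralChar]
      show _ * (f g : ℂ) / (f 1 : ℂ) - _ = _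
      rw [map_one, Units.val_one, div_one]; ring
    rw [e]
    have hint : IsIntegral ℤ ((f g : ℂ)) := BlocksCore.isIntegral_irr χ g
    by_cases hdvd : p ∣ (Subgroup.centralizer ({g} : Set G)).index
    · exact BlocksCore.memLocalIdeal_mul_right ((BlocksCore.memLocalIdeal_natCast_iff hMp _).mpr hdvd)
        ((BlocksCore.localRing (M p)).sub_mem (BlocksCore.memLocalRing_of_isIntegral hint) (BlocksCore.localRing (M p)).one_mem)
    refine BlocksCore.memLocalIdeal_mul_left (BlocksCore.memLocalRing_natCast _)
      (BlocksCore.memLocalIdeal_sub_one_of_pow hMp (k := (Nat.card G).factorization p) ?_)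
    rw [← Units.val_pow_eq_pow_val, ← map_pow]
    set c := g ^ p ^ (Nat.card G).factorization p with hc
    suffices hcore : c ∈ Cfsg.pPrimeCore p G by
      rw [hfL c (le_iSup₂ (f := fun p (_ : p ∈ π) => Cfsg.pPrimeCore p G) p hp hcore), Units.val_one]
    have hcreg : (orderOf c).Coprime p := by
      refine Nat.Coprime.coprime_dvd_left (orderOf_dvd_of_pow_eq_one ?_) (Nat.coprime_ordCompl hpp (Nat.card_pos (α := G)).ne').symm
      rw [hc, ← pow_mul, Nat.ordProj_mul_ordCompl_eq_self]
      exact pow_card_eq_one'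
    -- a Sylow subgroup centralising `g`
    obtain ⟨S⟩ : Nonempty (Sylow p (Subgroup.centralizer ({g} : Set G))) := inferInstance
    have hS : ¬ p ∣ (S.toSubgroup.map (Subgroup.subtype _)).index := by
      rw [Subgroup.index_map_subtype]
      exact fun h => (hpp.dvd_mul.mp h).elim S.not_dvd_index hdvd
    let P : Sylow p G := (S.2.map _).toSylow hS
    have hPg : ∀ u ∈ (P : Subgroup G), u * c = c * u := by
      rintro u ⟨v, -, rfl⟩
      exact (Commute.pow_left (Subgroup.mem_centralizer_iff.mp v.2 g (Set.mem_singleton g) : Commute g (v : G)) _).symm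
    -- Hall–Higman in `G / O_{p'}(G)`
    set N := Cfsg.pPrimeCore p G
    let P' : Sylow p (G ⧸ N) := P.mapSurjective (QuotientGroup.mk'_surjective N)
    have hle := Thompson.centralizer_pCore_le (p := p) (OddLocal44.isPSolvable_of_isSolvable (G := G ⧸ N))
      (Thompson.pPrimeCore_quotient_pPrimeCore (p := p) (G := G))
    have hmem : QuotientGroup.mk' N c ∈ Cfsg.pCore p (G ⧸ N) := hle (Subgroup.mem_centralizer_iff.mpr fun u hu => by
      obtain ⟨v, hv, rfl⟩ := Thompson.pCore_le_sylow P' hu
      rw [← map_mul, ← map_mul, hPg v hv])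
    obtain ⟨j, hj⟩ := Thompson.isPGroup_pCore (p := p) ⟨_, hmem⟩
    refine (QuotientGroup.eq_one_iff c).mp (orderOf_eq_one_iff.mp ?_)
    exact Nat.eq_one_of_dvd_coprimes (Nat.Coprime.pow_right j hcreg) (orderOf_map_dvd (QuotientGroup.mk' N) c)
      (orderOf_dvd_of_pow_eq_one (congrArg Subtype.val hj))
  · intro htop χ hχ
    have hker : (⊤ : Subgroup G) ≤ CharCore.charKernel (CharCore.irr_isCharacter χ) := by
      rw [← htop]
      refine iSup₂_le fun p hp x hx => ?_
      have := Fact.mk (hπ p hp).1
      have := Fintype.ofFinite (Cfsg.pPrimeCore p G)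
      exact BC84.apply_eq_degree_of_mem_principalBlock (hM p hp) (Cfsg.pPrimeCore p G)
        Thompson.not_dvd_card_pPrimeCore χ (hχ p hp) ⟨x, hx⟩
    have hconst : ∀ g, (χ : G → ℂ) g = (χ : G → ℂ) 1 := fun g => hker (Subgroup.mem_top g)
    by_contra hne'
    have hne'' : χ ≠ BC84.oneChar G := fun h => hne' (by rw [h]; rfl)
    have h := BlocksCore.sum_char_mul_inv χ (BC84.oneChar G)
    rw [if_neg hne''] at h
    simp [BC84.oneChar, hconst] at h
    exact BlocksCore.irr_one_ne_zero χ h


end Cfsg.Agent.S4611
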