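import Cfsg.Statements.S4620
import Cfsg.Agent.BC85.Cores

set_option autoImplicit false
open scoped Pointwise
open Cfsg

namespace Cfsg.Agent.S4620

/-- Let H be a finite group with no nontrivial normal p-subgroup and no nontrivial normal subgroup of order prime to p, whose Sylow p-subgroup P is nontrivial and a trivial-intersection set (P meets its conjugates by elements outside N_H(P) trivially). Then H has a unique minimal normal subgroup N; N is non-abelian simple with trivial centralizer in H (so H embeds in Aut(N)), and a Sylow p-subgroup of N is again a nontrivial trivial-intersection set in N. -/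
theorem result {H : Type*} [Group H] [Finite H] (p : ℕ) [Fact p.Prime] (hOp : Cfsg.pCore p H = ⊥) (hOp' : Cfsg.pPrimeCore p H = ⊥) (P : Sylow p H) (hP1 : (P : Subgroup H) ≠ ⊥)
    (hTI : ∀ g : H, g ∉ Subgroup.normalizer ((P : Subgroup H) : Set H) → (P : Subgroup H) ⊓ (MulAut.conj g • (P : Subgroup H)) = ⊥) :
    ∃ N : Subgroup H, N.Normal ∧ N ≠ ⊥ ∧ (∀ K : Subgroup H, K.Normal → K ≠ ⊥ → N ≤ K) ∧
      IsSimpleGroup N ∧ ¬ IsMulCommutative N ∧ Subgroup.centralizer (N : Set H) = ⊥ ∧
      ∀ Q : Sylow p N, (Q : Subgroup N) ≠ ⊥ ∧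
        ∀ n : N, n ∉ Subgroup.normalizer ((Q : Subgroup N) : Set N) → (Q : Subgroup N) ⊓ (MulAut.conj n • (Q : Subgroup N)) = ⊥ := by
  classical
  have hp : p.Prime := Fact.out
  have hnp : ∀ K : Subgroup H, K.Normal → IsPGroup p K → K = ⊥ := fun K h1 h2 =>
    le_bot_iff.1 (hOp ▸ (le_sSup ⟨h1, h2⟩ : K ≤ Cfsg.pCore p H))
  have hdiv : ∀ K : Subgroup H, K.Normal → K ≠ ⊥ → p ∣ Nat.card K := by
    intro K h1 h2
    by_contra h
    have h3 : K ≤ Cfsg.pPrimeCore p H :=
      le_sSup ⟨h1, Nat.Coprime.symm ((hp.coprime_iff_not_dvd).2 h)⟩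
    exact h2 (le_bot_iff.1 (hOp' ▸ h3))
  -- an element centralising a nontrivial element of `P` normalises `P`
  have hTI' : ∀ (x g : H), x ∈ (P : Subgroup H) → x ≠ 1 → g * x = x * g →
      g ∈ Subgroup.normalizer ((P : Subgroup H) : Set H) := by
    intro x g hx hx1 hgx
    by_contra hg
    have hmem : x ∈ MulAut.conj g • (P : Subgroup H) := by
      rw [Subgroup.mem_pointwise_smul_iff_inv_smul_mem, ← map_inv, MulAut.smul_def,
        MulAut.conj_apply, inv_inv, mul_assoc, ← hgx, ← mul_assoc, inv_mul_cancel, one_mul]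
      exact hx
    have : x ∈ (P : Subgroup H) ⊓ MulAut.conj g • (P : Subgroup H) := ⟨hx, hmem⟩
    rw [hTI g hg] at this
    exact hx1 this
  have hH : Nontrivial H := by
    obtain ⟨x, hx, hx1⟩ := (P : Subgroup H).bot_or_exists_ne_one.resolve_left hP1
    exact ⟨⟨x, 1, hx1⟩⟩
  obtain ⟨N, ⟨hNn, hN1⟩, hNmin⟩ :=
    Set.Finite.exists_minimal (Set.toFinite {K : Subgroup H | K.Normal ∧ K ≠ ⊥})
      ⟨⊤, inferInstance, top_ne_bot⟩
  haveI := hNn
  -- two commuting non-trivial normal subgroups of a normal subgroup cannot exist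
  have hkey : ∀ (K : Subgroup H) [K.Normal] (A B : Subgroup K), A.Normal → B.Normal → A ≠ ⊥ →
      B ≠ ⊥ → (∀ a ∈ A, ∀ b ∈ B, a * b = b * a) → False := by
    intro K _ A B hA hB hA1 hB1 hAB
    haveI := hA
    haveI := hB
    obtain ⟨S, hS⟩ := BC85.exists_sylow_subgroupOf P K
    obtain ⟨x, hxS, hxA, hx1⟩ := BC85.exists_mem_sylow_inf_normal S A
      (BC85.dvd_card_normal_of_normal hdiv K A hA hA1)
    obtain ⟨y, hyS, hyB, hy1⟩ := BC85.exists_mem_sylow_inf_normal S B
      (BC85.dvd_card_normal_of_normal hdiv K B hB hB1)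
    rw [hS, Subgroup.mem_subgroupOf] at hxS hyS
    have hBN : ∀ b ∈ B, ((b : K) : H) ∈ Subgroup.normalizer ((P : Subgroup H) : Set H) :=
      fun b hb => hTI' _ _ hxS (fun h => hx1 (Subtype.ext h))
        (congrArg Subtype.val (hAB x hxA b hb)).symm
    have hR : (((P : Subgroup H).subgroupOf K).subgroupOf B).Normal := by
      constructor
      intro r hr b
      rw [Subgroup.mem_subgroupOf, Subgroup.mem_subgroupOf] at hr ⊢
      simpa using (Subgroup.mem_normalizer_iff.1 (hBN b b.2) _).1 hr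
    have h0 := BC85.no_normal_pgroup_of_normal
      (BC85.no_normal_pgroup_of_normal hnp K) B _ hR
      ((P.2.comap_subtype : IsPGroup p ((P : Subgroup H).subgroupOf K)).comap_subtype)
    have : (⟨y, hyB⟩ : B) ∈ ((P : Subgroup H).subgroupOf K).subgroupOf B := by
      rw [Subgroup.mem_subgroupOf, Subgroup.mem_subgroupOf]
      exact hyS
    rw [h0, Subgroup.mem_bot] at this
    exact hy1 (congrArg Subtype.val this)
  have hncomm : ¬ IsMulCommutative N := by
    intro h
    have htop : (⊤ : Subgroup N) ≠ ⊥ := by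
      haveI : Nontrivial N := N.nontrivial_iff_ne_bot.2 hN1
      exact top_ne_bot
    exact hkey N ⊤ ⊤ inferInstance inferInstance htop htop (fun a _ b _ => mul_comm' a b)
  have hC : Subgroup.centralizer (N : Set H) = ⊥ := by
    by_contra hC1
    by_cases hd : N ⊓ Subgroup.centralizer (N : Set H) = ⊥
    · haveI : (N ⊔ Subgroup.centralizer (N : Set H)).Normal := inferInstance
      set K := N ⊔ Subgroup.centralizer (N : Set H)
      refine hkey K (N.subgroupOf K) ((Subgroup.centralizer (N : Set H)).subgroupOf K)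
        inferInstance inferInstance ?_ ?_ ?_
      · intro h
        rw [Subgroup.subgroupOf_eq_bot, disjoint_iff, inf_eq_left.2 le_sup_left] at h
        exact hN1 h
      · intro h
        rw [Subgroup.subgroupOf_eq_bot, disjoint_iff, inf_eq_left.2 le_sup_right] at h
        exact hC1 h
      · intro a ha b hb
        exact Subtype.ext (Subgroup.mem_centralizer_iff.1 hb a ha)
    · have hle : N ≤ Subgroup.centralizer (N : Set H) :=
        (hNmin ⟨inferInstance, hd⟩ inf_le_left).trans inf_le_right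
      exact hncomm ⟨⟨fun a b => Subtype.ext
        (Subgroup.mem_centralizer_iff.1 (hle b.2) a a.2)⟩⟩
  have hU : ∀ K : Subgroup H, K.Normal → K ≠ ⊥ → N ≤ K := by
    intro K hK hK1
    haveI := hK
    by_contra hle
    have hd : N ⊓ K = ⊥ := by
      by_contra h
      exact hle ((hNmin ⟨inferInstance, h⟩ inf_le_left).trans inf_le_right)
    apply hK1
    rw [← le_bot_iff, ← hC]
    intro k hk
    rw [Subgroup.mem_centralizer_iff]
    intro n hn
    exact Subgroup.commute_of_normal_of_disjoint N K hNn hK (disjoint_iff.2 hd) n k hn hk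
  haveI : Nontrivial N := N.nontrivial_iff_ne_bot.2 hN1
  have hsimple : IsSimpleGroup N := by
    refine ⟨fun K hK => ?_⟩
    by_contra hKne
    push_neg at hKne
    obtain ⟨hK1, hK2⟩ := hKne
    obtain ⟨T, ⟨hTn, hT1, hTK⟩, hTmin⟩ :=
      Set.Finite.exists_minimal (Set.toFinite {L : Subgroup N | L.Normal ∧ L ≠ ⊥ ∧ L ≤ K})
        ⟨K, hK, hK1, le_rfl⟩
    haveI := hTn
    by_cases hex : ∃ L : Subgroup N, L.Normal ∧ L ≠ ⊥ ∧ T ⊓ L = ⊥
    · obtain ⟨L, hLn, hL1, hLd⟩ := hex
      exact hkey N T L hTn hLn hT1 hL1 fun a ha b hb =>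
        Subgroup.commute_of_normal_of_disjoint T L hTn hLn (disjoint_iff.2 hLd) a b ha hb
    · push_neg at hex
      have hle : ∀ L : Subgroup N, L.Normal → L ≠ ⊥ → T ≤ L := by
        intro L hL hL1
        haveI := hL
        exact (hTmin (y := T ⊓ L) ⟨inferInstance, hex L hL hL1, inf_le_left.trans hTK⟩
          inf_le_left).trans inf_le_right
      have hnorm : (T.map N.subtype).Normal := by
        constructor
        rintro _ ⟨t, ht, rfl⟩ a
        have h1 : T.map (MulAut.conjNormal (H := N) a).toMonoidHom = T := by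
          refine (Subgroup.eq_of_le_of_card_ge (hle _ (hTn.map _ (MulEquiv.surjective _)) ?_) ?_).symm
          · rw [ne_eq, Subgroup.map_eq_bot_iff_of_injective _ (MulEquiv.injective _)]
            exact hT1
          · rw [Subgroup.card_map_of_injective (MulEquiv.injective _)]
        refine ⟨MulAut.conjNormal (H := N) a t, h1 ▸ ⟨t, ht, rfl⟩, ?_⟩
        simp
      have hNT : N ≤ T.map N.subtype := hU _ hnorm (fun h => hT1
        ((Subgroup.map_eq_bot_iff_of_injective _ N.subtype_injective).1 h))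
      exact hK2 (eq_top_iff.2 (fun n _ => by
        obtain ⟨m, hm, hmn⟩ := hNT n.2
        exact Subtype.ext hmn ▸ hTK hm))
  refine ⟨N, hNn, hN1, hU, hsimple, hncomm, hC, fun Q => ⟨Q.ne_bot_of_dvd_card (hdiv N hNn hN1), ?_⟩⟩
  obtain ⟨S, hS⟩ := BC85.exists_sylow_subgroupOf P N
  obtain ⟨c, hc⟩ := MulAction.exists_smul_eq N S Q
  intro n hn
  rw [eq_bot_iff]
  intro x hxx
  obtain ⟨hx1, hx2⟩ := Subgroup.mem_inf.1 hxx
  rw [Subgroup.mem_bot]
  by_contra hx
  have hQm : ∀ z : N, z ∈ (Q : Subgroup N) ↔ ((c⁻¹ * z * c : N) : H) ∈ (P : Subgroup H) := by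
    intro z
    rw [← hc, Sylow.coe_subgroup_smul, Subgroup.mem_pointwise_smul_iff_inv_smul_mem, hS,
      ← map_inv, MulAut.smul_def, MulAut.conj_apply, Subgroup.mem_subgroupOf, inv_inv]
  set m : H := ((c⁻¹ * n * c : N) : H) with hm
  have h1 : ((c⁻¹ * x * c : N) : H) ∈ (P : Subgroup H) := (hQm x).1 hx1
  have h2 : ((c⁻¹ * x * c : N) : H) ∈ MulAut.conj m • (P : Subgroup H) := by
    rw [Subgroup.mem_pointwise_smul_iff_inv_smul_mem] at hx2
    have h3 := (hQm _).1 hx2
    rw [Subgroup.mem_pointwise_smul_iff_inv_smul_mem]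
    convert h3 using 1
    simp [hm, ← map_inv, MulAut.smul_def, mul_assoc]
  have hmN : m ∈ Subgroup.normalizer ((P : Subgroup H) : Set H) := by
    by_contra hmn
    have : ((c⁻¹ * x * c : N) : H) ∈ (P : Subgroup H) ⊓ MulAut.conj m • (P : Subgroup H) := ⟨h1, h2⟩
    rw [hTI m hmn, Subgroup.mem_bot, OneMemClass.coe_eq_one] at this
    exact hx (by
      have h5 := congrArg (fun z : N => c * z * c⁻¹) this
      simpa [mul_assoc] using h5)
  apply hn
  rw [Subgroup.mem_normalizer_iff]
  intro z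
  rw [hQm, hQm, Subgroup.mem_normalizer_iff.1 hmN]
  simp [hm, mul_assoc]

end Cfsg.Agent.S4620
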