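import Cfsg.Statements.S4626
import Cfsg.Agent.Lib.BlocksCore.DefectZero
import Cfsg.Agent.Lib.BlocksDefect.Kernel

set_option autoImplicit false
open Cfsg

namespace Cfsg.Agent.S4626

open Cfsg.Agent.BlocksCore

/-- Let G be a finite group, p a prime, M a maximal ideal of the algebraic integers containing p, P a Sylow p-subgroup of G and N a normal subgroup of index prime to p containing the centralizer C_G(P). Then every irreducible character of G whose kernel contains N lies in the principal p-block of G. -/
theorem result {G : Type*} [Group G] [Finite G] (p : ℕ) [Fact p.Prime] (M : Ideal Cfsg.AlgInt) (hM : Cfsg.IsPModular p M) (P : Sylow p G) (N : Subgroup G) [N.Normal] (hidx : ¬ p ∣ N.index)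
    (hC : Subgroup.centralizer ((P : Subgroup G) : Set G) ≤ N) (χ : Cfsg.IrrCharacter G) (hker : ∀ n ∈ N, (χ : G → ℂ) n = (χ : G → ℂ) 1) :
    χ ∈ Cfsg.principalBlock M G := by
  classical
  haveI := isPrime hM
  have := Fintype.ofFinite G
  obtain ⟨ψ, hψ⟩ := BlocksDefect.exists_inflate_eq N χ hker
  have hdeg : (χ : G → ℂ) 1 = (ψ : G ⧸ N → ℂ) 1 := by
    rw [← hψ]; rfl
  set d := charDegree (χ : G → ℂ) with hd
  have hd' : d = charDegree (ψ : G ⧸ N → ℂ) := by
    rw [hd]; unfold charDegree; rw [hdeg]
  have hpd : ¬ p ∣ d := by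
    intro hp
    have := Fintype.ofFinite (G ⧸ N)
    exact hidx (hp.trans (hd' ▸ charDegree_dvd_card ψ))
  have hdM : (d : AlgInt) ∉ M := natCast_notMem hM hpd
  show SameBlock M (fun _ : G => (1 : ℂ)) (χ : G → ℂ)
  intro g
  unfold centralChar
  by_cases hg : g ∈ N
  · rw [hker g hg]
    have h1 := irr_one_ne_zero χ
    have : ((Subgroup.centralizer ({g} : Set G)).index : ℂ) * 1 / 1 -
        ((Subgroup.centralizer ({g} : Set G)).index : ℂ) * (χ : G → ℂ) 1 / (χ : G → ℂ) 1 = 0 := by
      field_simp; ring
    rw [this]
    exact memLocalIdeal_zero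
  · have hp : p ∣ (Subgroup.centralizer ({g} : Set G)).index := by
      by_contra hni
      obtain ⟨Q⟩ := (inferInstance : Nonempty (Sylow p ↥(Subgroup.centralizer ({g} : Set G))))
      have hQi : ¬ p ∣ ((Q : Subgroup ↥(Subgroup.centralizer ({g} : Set G))).map
          (Subgroup.centralizer ({g} : Set G)).subtype).index := by
        rw [Subgroup.index_map_subtype]
        intro hc
        rcases (Fact.out : p.Prime).dvd_mul.mp hc with h | h
        · exact Q.not_dvd_index h
        · exact hni h
      let Q' : Sylow p G := (Q.isPGroup'.map _).toSylow hQi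
      obtain ⟨x, hx⟩ := MulAction.exists_smul_eq G P Q'
      have hc : x⁻¹ * g * x ∈ Subgroup.centralizer ((P : Subgroup G) : Set G) := by
        refine Subgroup.mem_centralizer_iff.mpr fun a ha => ?_
        have hxa : x * a * x⁻¹ ∈ (Q' : Subgroup G) := by
          rw [← hx, Sylow.coe_subgroup_smul]
          exact Subgroup.smul_mem_pointwise_smul a (MulAut.conj x) _ ha
        have hmem : x * a * x⁻¹ ∈ Subgroup.centralizer ({g} : Set G) :=
          Subgroup.map_subtype_le _ (by exact hxa)
        have := Subgroup.mem_centralizer_singleton_iff.mp hmem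
        calc a * (x⁻¹ * g * x) = x⁻¹ * ((x * a * x⁻¹) * g) * x := by group
          _ = x⁻¹ * (g * (x * a * x⁻¹)) * x := by rw [this]
          _ = x⁻¹ * g * x * a := by group
      apply hg
      have := Subgroup.Normal.conj_mem (inferInstance : N.Normal) _ (hC hc) x
      simpa [mul_assoc] using this
    have hK : MemLocalIdeal M (((Subgroup.centralizer ({g} : Set G)).index : ℕ) : ℂ) :=
      (memLocalIdeal_natCast_iff hM _).mpr hp
    refine memLocalIdeal_sub (by simpa using hK) ?_
    rw [mul_div_assoc, irr_one_eq]
    refine memLocalIdeal_mul_right hK ?_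
    rw [div_eq_mul_inv]
    exact (localRing M).mul_mem (memLocalRing_of_isIntegral (isIntegral_irr χ g))
      (memLocalRing_natCast_inv hM hpd)

end Cfsg.Agent.S4626
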