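import Cfsg.Statements.S4634
import Cfsg.Agent.BlkChar.CyclicDefect.Correspond

set_option autoImplicit false
open Cfsg

namespace Cfsg.Agent.S4634

/-- Let B be a block of the finite group G relative to a maximal ideal M of the algebraic integers containing the prime p, with a nontrivial cyclic defect group P, let c be a block of C_G(P) inducing B, T the stabilizer of c in N_G(P) and e the index of C_G(P) in T. Let F be any finite group of order #P · e having a cyclic subgroup Q of order #P that is its own centralizer (F is then the semidirect product of Q by a cyclic group of order e acting faithfully). Then there is a perfect isometry from the set of all irreducible characters of F onto B whose signs agree on all the characters of F that do not contain Q in their kernel. -/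
theorem result {G : Type*} [Group G] [Finite G] (p : ℕ) [Fact p.Prime] (M : Ideal Cfsg.AlgInt) (hM : Cfsg.IsPModular p M) (B : Set (Cfsg.IrrCharacter G)) (hB : Cfsg.IsPBlock M B) (P : Subgroup G) (hPD : Cfsg.IsDefectGroup p M B P) (hP1 : P ≠ ⊥) (hcyc : IsCyclic P) (c : Set (Cfsg.IrrCharacter (Subgroup.centralizer (P : Set G)))) (hc : Cfsg.IsInducedBlock M (Subgroup.centralizer (P : Set G)) c B) (T : Subgroup G) (hT : ∀ g : G, g ∈ T ↔ (g ∈ Subgroup.normalizer (P : Set G) ∧ Cfsg.StabilizesBlock (Subgroup.centralizer (P : Set G)) c g)) (e : ℕ) (he : (Subgroup.centralizer (P : Set G)).relIndex T = e) (F : Type*) [Group F] [Finite F] (hF : Nat.card F = Nat.card P * e) (Q : Subgroup F) (hQ : IsCyclic Q) (hQcard : Nat.card Q = Nat.card P) (hQC : Subgroup.centralizer (Q : Set F) = Q) : ∃ (I : Cfsg.IrrCharacter F → Cfsg.IrrCharacter G) (ε : Cfsg.IrrCharacter F → ℤ), Cfsg.IsPerfectIsometry p M (Set.univ : Set (Cfsg.IrrCharacter F)) B I ε ∧ ∀ η η' : Cfsg.IrrCharacter F, (∃ x ∈ Q, (η : F → ℂ) x ≠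 (η : F → ℂ) 1) → (∃ x ∈ Q, (η' : F → ℂ) x ≠ (η' : F → ℂ) 1) → ε η = ε η' := by
  classical
  have := Fintype.ofFinite G
  have := Fintype.ofFinite F
  have := BlocksCore.isPrime hM
  have hp : p.Prime := Fact.out
  obtain rfl : T = BC85.stabT P c := SetLike.ext fun g => (hT g).trans BC85.mem_stabT_iff.symm
  have Y := BlkChar.CyclicDefect.cycData_of_induced hM hPD hcyc hP1 hc
  have hY : Y.ei = e := he
  have hQp : IsPGroup p Q := by
    obtain ⟨k, hk⟩ := IsPGroup.iff_card.mp Y.isPGroup
    exact IsPGroup.of_card (n := k) (hQcard.trans hk)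
  have hidx : Q.index = e := by
    have h := Subgroup.card_mul_index Q
    rw [hF, hQcard] at h
    exact Nat.eq_of_mul_eq_mul_left Nat.card_pos h
  have hlt : e < p := by
    have := Nat.le_of_dvd (Nat.sub_pos_of_lt hp.one_lt) (hY ▸ Y.ei_dvd)
    have := hp.two_le
    omega
  set S : Sylow p F := hQp.toSylow (by rw [hidx]; exact hY ▸ Y.not_dvd_ei)
  have hSQ : (S : Subgroup F) = Q := rfl
  have hone : Nat.card (Sylow p F) = 1 := by
    have h1 : Nat.card (Sylow p F) ∣ e := hidx ▸ hSQ ▸ Sylow.card_dvd_index S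
    have h2 : Nat.card (Sylow p F) ≤ e := Nat.le_of_dvd (hY ▸ Y.ei_pos) h1
    have h3 : Nat.card (Sylow p F) % p = 1 % p := card_sylow_modEq_one p F
    rwa [Nat.mod_eq_of_lt (by omega), Nat.one_mod_eq_one.mpr hp.ne_one] at h3
  haveI : Subsingleton (Sylow p F) := (Nat.card_eq_one_iff_unique.mp hone).1
  haveI hQn : Q.Normal := hSQ ▸ Sylow.normal_of_subsingleton S
  have huniv : Cfsg.principalBlock M F = Set.univ := Set.eq_univ_iff_forall.mpr
    (BlkChar.CyclicDefect.mem_of_centralizer_le hM Q hQp hQC.le BlocksDefect.isPBlock_principal)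
  have hQdef : Cfsg.IsDefectGroup p M (Set.univ : Set (Cfsg.IrrCharacter F)) Q :=
    huniv ▸ (BC85.isDefectGroup_principal_iff hM Q).mpr ⟨S, hSQ⟩
  have hunivB : Cfsg.IsPBlock M (Set.univ : Set (Cfsg.IrrCharacter F)) :=
    huniv ▸ BlocksDefect.isPBlock_principal
  obtain ⟨c', hmax⟩ := BC85.Star.exists_maximal_of_defect hM hunivB hQdef
  have hQ1 : Q ≠ ⊥ := fun h => hP1 (Subgroup.card_eq_one.mp (by
    rw [← hQcard, h, Subgroup.card_bot]))
  have X : BlkChar.CyclicDefect.CycData p M (Set.univ : Set (Cfsg.IrrCharacter F)) Q c' :=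
    ⟨hM, hmax, hQ, hQ1⟩
  have hstab : BC85.stabT Q c' = ⊤ := by
    refine eq_top_iff.mpr fun g _ => (BlkChar.CyclicDefect.mem_stabT_iff_forall c' g).mpr
      ⟨Subgroup.normalizer_eq_top (H := Q) ▸ Subgroup.mem_top g, fun θ _ θ' _ => ?_⟩
    have hsub : Q.subgroupOf (Subgroup.centralizer (Q : Set F)) = ⊤ :=
      Subgroup.subgroupOf_eq_top.mpr hQC.le
    haveI : (Q.subgroupOf (Subgroup.centralizer (Q : Set F))).Normal := Subgroup.normal_subgroupOf
    exact BlkChar.CyclicDefect.mem_of_centralizer_le hM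
      (Q.subgroupOf (Subgroup.centralizer (Q : Set F)))
      (hQp.comap_of_injective _ (Subgroup.subtype_injective _)) (hsub.symm ▸ le_top)
      hmax.1.1.2 θ'
  have hX : X.ei = e := by
    rw [BlkChar.CyclicDefect.CycData.ei, hstab, Subgroup.relIndex_top_right, hQC, hidx]
  have hei : X.ei = Y.ei := hX.trans hY.symm
  haveI := X.nil.cyc
  haveI := Y.nil.cyc
  obtain ⟨R, f, δ, ε, TX⟩ := X.exists_tree
  obtain ⟨I, s, A, hexc, hall⟩ := BlkChar.CyclicDefect.exists_matches X Y
    (mulEquivOfCyclicCardEq (show Nat.card X.loc = Nat.card Y.loc by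
      rw [show Nat.card X.loc = Nat.card Q from
          Nat.card_congr (Subgroup.subgroupOfEquivOfLe X.D_le_H).toEquiv,
        show Nat.card Y.loc = Nat.card P from
          Nat.card_congr (Subgroup.subgroupOfEquivOfLe Y.D_le_H).toEquiv, hQcard])) hei TX
  refine ⟨I, s, A.isPerfectIsometry, fun η η' hη hη' => ?_⟩
  by_cases he1 : X.ei = 1
  · exact hall he1 η (Set.mem_univ _) η' (Set.mem_univ _)
  obtain ⟨L, hLcard, hLtriv, hLeq⟩ := TX.exc_of_not_trivial hQC hstab he1
  by_cases hR : 1 < R.card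
  · have key : ∀ θ, θ ∉ L → ∃ l ∈ R, f l = θ := fun θ hθ => by
      by_contra h
      push Not at h
      exact hθ (hLeq hR ▸ ⟨Set.mem_univ θ, h⟩)
    obtain ⟨l, hl, rfl⟩ := key η (hLtriv η hη)
    obtain ⟨m, hm, rfl⟩ := key η' (hLtriv η' hη')
    exact hexc l hl m hm
  · have := BlocksCore.finite_irr (G := F)
    have h1 := TX.card
    rw [Nat.card_coe_set_eq, Set.ncard_univ] at h1
    have h2 := TX.reps.pos
    by_cases hne : η = η'
    · rw [hne]
    exfalso
    have h3 : ({η, η'} : Set (Cfsg.IrrCharacter F)) ⊆ Lᶜ := fun θ hθ => by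
      rcases hθ with rfl | rfl
      · exact hLtriv _ hη
      · exact hLtriv _ hη'
    have h4 := Set.ncard_le_ncard h3 (Set.toFinite _)
    rw [Set.ncard_pair hne] at h4
    have h5 := Set.ncard_add_ncard_compl L
    rw [← Nat.card_coe_set_eq, hLcard] at h5
    omega

end Cfsg.Agent.S4634
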