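import Cfsg.Statements.S4635
import Cfsg.Agent.BlkChar.CyclicDefect.Correspond

set_option autoImplicit false
open Cfsg

namespace Cfsg.Agent.S4635

/-- Let B be a block of the finite group G relative to a maximal ideal M of the algebraic integers containing the prime p, with a nontrivial cyclic defect group P; let Z be the subgroup of order p of P and H = N_G(Z), which contains N_G(P). Let c be the block of H with defect group P that induces B. Then B and c contain the same number of irreducible characters, have the same p-regular rank, and there is a perfect isometry from c onto B. -/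
theorem result {G : Type*} [Group G] [Finite G] (p : ℕ) [Fact p.Prime] (M : Ideal Cfsg.AlgInt) (hM : Cfsg.IsPModular p M) (B : Set (Cfsg.IrrCharacter G)) (hB : Cfsg.IsPBlock M B) (P : Subgroup G) (hPD : Cfsg.IsDefectGroup p M B P) (hP1 : P ≠ ⊥) (hcyc : IsCyclic P) (Z : Subgroup G) (hZ : Z ≤ P) (hZcard : Nat.card Z = p) (H : Subgroup G) (hH : H = Subgroup.normalizer (Z : Set G)) (c : Set (Cfsg.IrrCharacter H)) (hcD : Cfsg.IsDefectGroup p M c (P.subgroupOf H)) (hc : Cfsg.IsInducedBlock M H c B) : Nat.card c = Nat.card B ∧ Cfsg.blockRank p c = Cfsg.blockRank p B ∧ ∃ (I : Cfsg.IrrCharacter H → Cfsg.IrrCharacter G) (ε : Cfsg.IrrCharacter H → ℤ), Cfsg.IsPerfectIsometry p M c B I ε := by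
  classical
  have := Fintype.ofFinite G
  have := BlocksCore.isPrime hM
  have hsub : ∀ g ∈ Subgroup.normalizer (P : Set G), g ∈ Subgroup.normalizer (Z : Set G) := by
    intro g hg
    have h1 : Z.map (MulAut.conj g).toMonoidHom ≤ P := fun y hy => by
      obtain ⟨u, hu, rfl⟩ := hy
      exact (Subgroup.mem_normalizer_iff.mp hg u).mp (hZ hu)
    have h2 : Z.map (MulAut.conj g).toMonoidHom = Z :=
      BC85.eq_of_card_eq_of_le_cyclic hcyc h1 hZ (BlocksDefect.natCard_map_conj _ g)
    refine Subgroup.mem_normalizer_iff.mpr fun x => ?_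
    conv_rhs => rw [← h2, BC85.mem_map_conj_iff]
    simp [mul_assoc]
  subst hH
  obtain ⟨c₀, c₁, X, Y, he⟩ := BlkChar.CyclicDefect.exists_correspondent hM hB hPD hcyc hP1
    (fun g hg => hsub g (Subgroup.le_normalizer hg))
    ((BC85.centralizer_anti hZ).trans (BlocksCore.centralizer_le_normalizer' Z))
    (fun f g hg => hsub g hg.1) hcD hc
  have hD : Nat.card (P.subgroupOf (Subgroup.normalizer (Z : Set G))) = Nat.card P :=
    Nat.card_congr (Subgroup.subgroupOfEquivOfLe
      (fun g hg => hsub g (Subgroup.le_normalizer hg))).toEquiv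
  obtain ⟨R, f, δ, ε, TX⟩ := X.exists_tree
  obtain ⟨R', f', δ', ε', TY⟩ := Y.exists_tree
  refine ⟨?_, by rw [TY.rank, TX.rank, he],
    BlkChar.CyclicDefect.exists_isPerfectIsometry Y X he hD⟩
  have h1 := TY.reps.card
  rw [he, hD, ← TX.reps.card] at h1
  rw [TY.card, TX.card, he, Nat.eq_of_mul_eq_mul_right X.ei_pos (Nat.succ_injective h1)]

end Cfsg.Agent.S4635
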