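import Cfsg.Statements.S4636
import Cfsg.Agent.BC85.Basic

set_option autoImplicit false
open scoped Pointwise
open Cfsg

namespace Cfsg.Agent.S4636

/-- Let P be a nontrivial cyclic p-subgroup of the finite group G and Z its subgroup of order p. For every x outside N_G(Z), P meets its conjugate xPx⁻¹ trivially; consequently N_G(Q) ≤ N_G(Z) for every nontrivial subgroup Q of P. -/
theorem result {G : Type*} [Group G] [Finite G] (p : ℕ) [Fact p.Prime] (P : Subgroup G) (hP : IsPGroup p P) (hP1 : P ≠ ⊥) (hcyc : IsCyclic P) (Z : Subgroup G) (hZ : Z ≤ P) (hZcard : Nat.card Z = p) : (∀ x : G, x ∉ Subgroup.normalizer (Z : Set G) → P ⊓ MulAut.conj x • P = ⊥) ∧ ∀ Q : Subgroup G, Q ≤ P → Q ≠ ⊥ → Subgroup.normalizer (Q : Set G) ≤ Subgroup.normalizer (Z : Set G) := by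
  classical
  haveI : Finite P := inferInstance
  -- every nontrivial subgroup of the cyclic `p`-group `P` contains `Z`
  have hmin : ∀ Q : Subgroup G, Q ≤ P → Q ≠ ⊥ → Z ≤ Q := by
    intro Q hQ hQ1
    haveI := hcyc
    have hQd : p ∣ Nat.card Q := by
      obtain ⟨m, hm⟩ := IsPGroup.iff_card.1 (hP.to_le hQ)
      rcases Nat.eq_zero_or_pos m with h0 | h0
      · exact absurd (Subgroup.eq_bot_of_card_eq Q (by simpa [h0] using hm)) hQ1
      · exact hm ▸ dvd_pow_self p h0.ne'
    obtain ⟨x, hx⟩ := exists_prime_orderOf_dvd_card' (G := Q) p hQd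
    set y : G := (x : G)
    have hy : orderOf y = p := by simpa [y] using hx
    have hyP : y ∈ P := hQ x.2
    have heq : Subgroup.zpowers y = Z := by
      have h1 : Nat.card (Subgroup.zpowers y) = Nat.card Z := by rw [Nat.card_zpowers, hy, hZcard]
      have hle : Subgroup.zpowers y ≤ P := Subgroup.zpowers_le.2 hyP
      exact BC85.eq_of_card_eq_of_le_cyclic hcyc hle hZ h1
    exact heq ▸ Subgroup.zpowers_le.2 x.2
  have hcardconj : ∀ x : G, Nat.card (MulAut.conj x • Z : Subgroup G) = p := by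
    intro x
    rw [← hZcard]
    exact (Nat.card_congr (Subgroup.equivSMul (MulAut.conj x) Z).toEquiv).symm
  have hZ1 : Z ≠ ⊥ := by
    intro h
    rw [h, Subgroup.card_bot] at hZcard
    exact (Fact.out : p.Prime).one_lt.ne hZcard
  have hne : ∀ x : G, MulAut.conj x • Z ≠ ⊥ := by
    intro x h
    have := hcardconj x
    rw [h, Subgroup.card_bot] at this
    exact (Fact.out : p.Prime).one_lt.ne this
  have hback : ∀ x : G, MulAut.conj x • Z ≤ P → x ∈ Subgroup.normalizer (Z : Set G) := by
    intro x hx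
    have h1 : Z = MulAut.conj x • Z :=
      Subgroup.eq_of_le_of_card_ge (hmin _ hx (hne x)) (by rw [hcardconj, hZcard])
    exact BC85.mem_normalizer_iff_conj_smul.2 h1.symm
  refine ⟨fun x hx => ?_, fun Q hQ hQ1 x hx => hback x ?_⟩
  · by_contra hne'
    have hxi : P ⊓ MulAut.conj x • P ≠ ⊥ := hne'
    have h1 := hmin _ inf_le_left hxi
    have h2 : Z ≤ MulAut.conj x • P := h1.trans inf_le_right
    rw [Subgroup.subset_pointwise_smul_iff, ← map_inv] at h2
    exact hx (by simpa using inv_mem (hback x⁻¹ h2))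
  · have h1 : MulAut.conj x • Z ≤ MulAut.conj x • Q := by simpa using hmin Q hQ hQ1
    rw [BC85.conj_smul_self_of_mem_normalizer hx] at h1
    exact h1.trans hQ

end Cfsg.Agent.S4636
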