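import Cfsg.Statements.S4641
import Cfsg.Agent.Lib.ModRep.DegreeSum

set_option autoImplicit false
open Cfsg

namespace Cfsg.Agent.S4641

/-- Let B be a block of the finite group G relative to a maximal ideal M of the algebraic integers containing the prime p, let p^a be the p-part of the order of G and p^d the order of a defect group D of B, and let g be the greatest common divisor of the degrees of the members of B. Then the p-part of g is exactly p^(a−d), and writing g = p^(a−d)·u there is a positive integer v, prime to p and at least the p-regular rank of B (its number of irreducible Brauer characters), with Σ_{χ ∈ B} χ(1)² = p^(2a−d)·u²·v. -/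
theorem result {G : Type*} [Group G] [Finite G] (p : ℕ) [Fact p.Prime] (M : Ideal Cfsg.AlgInt) (hM : Cfsg.IsPModular p M) (B : Set (Cfsg.IrrCharacter G)) (hB : Cfsg.IsPBlock M B) (D : Subgroup G) (hD : Cfsg.IsDefectGroup p M B D) (a d : ℕ) (ha : (Nat.card G).factorization p = a) (hd : Nat.card D = p ^ d) (g : ℕ) (hg1 : ∀ χ ∈ B, g ∣ Cfsg.charDegree (χ : G → ℂ)) (hg2 : ∀ g' : ℕ, (∀ χ ∈ B, g' ∣ Cfsg.charDegree (χ : G → ℂ)) → g' ∣ g) : g.factorization p = a - d ∧ ∃ v : ℕ, 0 < v ∧ ¬ p ∣ v ∧ Cfsg.blockRank p B ≤ v ∧ ∑ᶠ χ ∈ B, Cfsg.charDegree (χ : G → ℂ) ^ 2 = p ^ (2 * a - d) * (g / p ^ (a - d)) ^ 2 * v := by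
  classical
  have := BlocksCore.isPrime hM
  have := Fintype.ofFinite G
  have := BlocksCore.finite_irr (G := G)
  have := Fintype.ofFinite (IrrCharacter G)
  have hp : p.Prime := Fact.out
  obtain ⟨Q⟩ := ModRep.exists_brauerData (G := G) hM
  have hdd : d = blockDefect p B := Nat.pow_right_injective hp.two_le
    (show p ^ d = p ^ blockDefect p B by rw [← hd, BlocksDefect.defectGroup_natCard hM hB hD])
  set m := sInf ((fun χ : IrrCharacter G => (charDegree (χ : G → ℂ)).factorization p) '' B) with hm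
  obtain ⟨χ₀, hχ₀, hχm⟩ := Nat.sInf_mem (Set.Nonempty.image
    (fun χ : IrrCharacter G => (charDegree (χ : G → ℂ)).factorization p)
    (BlocksCore.isPBlock_nonempty hB))
  have hma : m ≤ a := by
    rw [hm, ← hχm, ← ha]
    exact (Nat.factorization_le_iff_dvd (BlocksCore.charDegree_pos χ₀).ne' Nat.card_pos.ne').mpr
      (BlocksCore.charDegree_dvd_card χ₀) p
  have had : a - d = m := by rw [hdd, blockDefect, ha, ← hm]; omega
  have hda : d ≤ a := by rw [hdd, blockDefect, ha]; omega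
  have hg0 : g ≠ 0 := fun h0 => (BlocksCore.charDegree_pos χ₀).ne'
    (Nat.eq_zero_of_zero_dvd (h0 ▸ hg1 χ₀ hχ₀))
  have hgp : g.factorization p = m := by
    refine le_antisymm ?_ ?_
    · rw [hm, ← hχm]
      exact (Nat.factorization_le_iff_dvd hg0 (BlocksCore.charDegree_pos χ₀).ne').mpr (hg1 χ₀ hχ₀) p
    · refine (hp.pow_dvd_iff_le_factorization hg0).mp (hg2 _ fun χ hχ => ?_)
      exact (hp.pow_dvd_iff_le_factorization (BlocksCore.charDegree_pos χ).ne').mpr
        (Nat.sInf_le ⟨χ, hχ, rfl⟩)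
  refine ⟨hgp.trans had.symm, ?_⟩
  rw [had]
  set u := g / p ^ m with hu
  have hgu : p ^ m * u = g := by rw [hu, ← hgp]; exact Nat.ordProj_mul_ordCompl_eq_self g p
  have hpu : ¬ p ∣ u := by rw [hu, ← hgp]; exact Nat.not_dvd_ordCompl hp hg0
  have hu0 : 0 < u := Nat.pos_of_ne_zero fun h => hpu (h ▸ dvd_zero p)
  set Is := Finset.univ.filter (fun i => Q.blk i = B) with hIs
  have hdeg : ∀ i ∈ Is, g ∣ Q.deg i := fun i hi => Q.dvd_deg hM i fun χ hχ =>
    hg1 χ ((Finset.mem_filter.mp hi).2 ▸ hχ)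
  have hproj : ∀ i ∈ Is, p ^ a * u ∣ ∑ χ : IrrCharacter G, Q.dec χ i * charDegree (χ : G → ℂ) := by
    intro i hi
    refine Nat.Coprime.mul_dvd_of_dvd_of_dvd ((hp.coprime_iff_not_dvd.mpr hpu).pow_left a) ?_ ?_
    · let P : Sylow p G := default
      obtain ⟨k, hk⟩ := Q.card_dvd_proj_one hM i P.2
      rw [Q.proj_eq, P.card_eq_multiplicity, ha] at hk
      simp only [BlocksCore.irr_one_eq] at hk
      refine ⟨k, ?_⟩
      rw [mul_comm]
      exact_mod_cast hk
    · refine Finset.dvd_sum fun χ _ => ?_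
      by_cases hd0 : Q.dec χ i = 0
      · simp [hd0]
      · exact Dvd.dvd.mul_left ((Dvd.intro_left _ hgu).trans (hg1 χ
          ((Finset.mem_filter.mp hi).2 ▸ Q.mem_blk χ i hd0))) _
  let s : Fin Q.l → ℕ := fun i => Q.deg i / g
  let t : Fin Q.l → ℕ := fun i => (∑ χ : IrrCharacter G, Q.dec χ i * charDegree (χ : G → ℂ)) / (p ^ a * u)
  have hsum : ∑ᶠ χ ∈ B, charDegree ((χ : IrrCharacter G) : G → ℂ) ^ 2 =
      p ^ (2 * a - d) * u ^ 2 * ∑ i ∈ Is, s i * t i := by
    rw [finsum_mem_def, finsum_eq_sum_of_fintype]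
    simp only [Set.indicator_apply]
    rw [← Finset.sum_filter, Q.sum_degree_sq_eq hM hB, Finset.mul_sum]
    refine Finset.sum_congr rfl fun i hi => ?_
    have e1 : g * s i = Q.deg i := Nat.mul_div_cancel' (hdeg i hi)
    have e2 : (p ^ a * u) * t i = _ := Nat.mul_div_cancel' (hproj i hi)
    rw [← e1, ← e2, ← hgu, show 2 * a - d = m + a by omega, pow_add]
    ring
  refine ⟨∑ i ∈ Is, s i * t i, ?_, ?_, ?_, hsum⟩
  rotate_left
  · intro hdvd
    have hM' := ModRep.not_memLocalIdeal_blockCoeff_one hM hB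
    apply hM'
    rw [← hdd]
    obtain ⟨w, hw⟩ := hdvd
    have hG := Nat.ordProj_mul_ordCompl_eq_self (Nat.card G) p
    rw [ha] at hG
    set n' := Nat.card G / p ^ a with hn'
    have hn'p : ¬ p ∣ n' := by rw [hn', ← ha]; exact Nat.not_dvd_ordCompl hp Nat.card_pos.ne'
    have he1 : blockCoeff B (1 : G) =
        ((∑ᶠ χ ∈ B, charDegree ((χ : IrrCharacter G) : G → ℂ) ^ 2 : ℕ) : ℂ) / (Nat.card G : ℂ) := by
      rw [BlocksCore.blockCoeff_eq_sum, finsum_mem_def, finsum_eq_sum_of_fintype, div_eq_inv_mul,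
        Nat.cast_sum]
      congr 1
      refine Finset.sum_congr rfl fun χ _ => ?_
      by_cases hχ : χ ∈ B
      · simp [hχ, BlocksCore.irr_one_eq, sq]
      · simp [hχ]
    have e : (p : ℂ) ^ d * blockCoeff B (1 : G) / (Nat.card G : ℂ) =
        ((u ^ 2 * (p * w) : ℕ) : ℂ) * (n' : ℂ)⁻¹ * (n' : ℂ)⁻¹ := by
      rw [he1, hsum, hw, ← hG]
      have h1 : (n' : ℂ) ≠ 0 := Nat.cast_ne_zero.mpr fun h => hn'p (h ▸ dvd_zero p)
      have h2 : (p : ℂ) ≠ 0 := Nat.cast_ne_zero.mpr hp.ne_zero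
      have h3 : (p : ℂ) ^ d * (p : ℂ) ^ (2 * a - d) = (p : ℂ) ^ a * (p : ℂ) ^ a := by
        rw [← pow_add, ← pow_add]; congr 1; omega
      push_cast
      field_simp
      linear_combination ((u : ℂ) ^ 2 * w) * h3
    rw [e]
    exact BlocksCore.memLocalIdeal_mul_right (BlocksCore.memLocalIdeal_mul_right
      ((BlocksCore.memLocalIdeal_natCast_iff hM _).mpr (Dvd.dvd.mul_left (dvd_mul_right p w) _))
      (BlocksCore.memLocalRing_natCast_inv hM hn'p)) (BlocksCore.memLocalRing_natCast_inv hM hn'p)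
  · rw [Q.blockRank_eq hM hB, Finset.card_eq_sum_ones]
    refine Finset.sum_le_sum fun i hi => Nat.one_le_iff_ne_zero.mpr (mul_ne_zero ?_ ?_)
    · exact (Nat.div_pos (Nat.le_of_dvd (Q.deg_pos i) (hdeg i hi)) (Nat.pos_of_ne_zero hg0)).ne'
    · obtain ⟨χ, hχ⟩ := Q.exists_dec_ne_zero hM i
      have hpos : 0 < ∑ χ : IrrCharacter G, Q.dec χ i * charDegree (χ : G → ℂ) :=
        lt_of_lt_of_le (Nat.mul_pos (Nat.pos_of_ne_zero hχ) (BlocksCore.charDegree_pos χ))
          (Finset.single_le_sum (f := fun χ => Q.dec χ i * charDegree ((χ : IrrCharacter G) : G → ℂ))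
            (fun _ _ => Nat.zero_le _) (Finset.mem_univ χ))
      exact (Nat.div_pos (Nat.le_of_dvd hpos (hproj i hi))
        (Nat.mul_pos (pow_pos hp.pos a) hu0)).ne'
  · refine Nat.pos_of_ne_zero fun h0 => ?_
    rw [h0, mul_zero] at hsum
    rw [finsum_mem_def, finsum_eq_sum_of_fintype, Finset.sum_eq_zero_iff] at hsum
    have := hsum χ₀ (Finset.mem_univ _)
    rw [Set.indicator_of_mem hχ₀] at this
    exact (BlocksCore.charDegree_pos χ₀).ne' (pow_eq_zero_iff two_ne_zero |>.mp this)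

end Cfsg.Agent.S4641
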