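import Cfsg.Statements.S4642
import Cfsg.Agent.BlkChar.PrincipalType

set_option autoImplicit false
open Cfsg

namespace Cfsg.Agent.S4642

/-- Let G be a finite group, p a prime, M a maximal ideal of the algebraic integers containing p, K the largest normal subgroup of G of order prime to p, and L the preimage in G of the largest normal p-subgroup of G/K. Let Q be a Sylow p-subgroup of L and suppose C_G(Q) ≤ L. Let θ be an irreducible character of K invariant under conjugation by every element of G, and let B be the set of irreducible characters of G whose restriction to K contains θ. Then B is a block of G, every Sylow p-subgroup of G is a defect group of B, and B is of principal type: for every p-subgroup R of G exactly one block of C_G(R) induces B. -/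
theorem result {G : Type*} [Group G] [Fintype G] (p : ℕ) [Fact p.Prime] (M : Ideal Cfsg.AlgInt) (hM : Cfsg.IsPModular p M) (K : Subgroup G) (hK : K = Cfsg.pPrimeCore p G) [Fintype K] (L : Subgroup G) (hL : L = Cfsg.pPrimePCore p G) (Q : Subgroup G) (hQL : Q ≤ L) (hQp : IsPGroup p Q) (hQS : ¬ p ∣ Q.relIndex L) (hCQ : Subgroup.centralizer (Q : Set G) ≤ L) (θ : Cfsg.IrrCharacter K) (hθ : ∀ g : G, Cfsg.IsConjCharOf K g (θ : K → ℂ) (θ : K → ℂ)) (B : Set (Cfsg.IrrCharacter G)) (hBdef : ∀ χ : Cfsg.IrrCharacter G, χ ∈ B ↔ Cfsg.classInner (fun k : K => (χ : G → ℂ) k) (θ : K → ℂ) ≠ 0) : Cfsg.IsPBlock M B ∧ (∀ S : Sylow p G, Cfsg.IsDefectGroup p M B S) ∧ ∀ R : Subgroup G, IsPGroup p R → ∃! f : Set (Cfsg.IrrCharacter (Subgroup.centralizer (R : Set G))), Cfsg.IsInducedBlock M (Subgroup.centralizer (R : Set G)) f B := by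
  classical
  subst hK hL
  have hQ : IsPConstrained p G := by
    intro P
    have hQs : IsPGroup p (Q.subgroupOf (pPrimePCore p G)) :=
      hQp.of_equiv (Subgroup.subgroupOfEquivOfLe hQL).symm
    obtain ⟨x, hx⟩ := MulAction.exists_smul_eq (↥(pPrimePCore p G)) (hQs.toSylow hQS) P
    intro y hy
    have h1 : (x : G)⁻¹ * y * x ∈ Subgroup.centralizer (Q : Set G) := by
      rw [Subgroup.mem_centralizer_iff]
      intro u hu
      have hu2 : (x : G) * u * (x : G)⁻¹ ∈
          (P : Subgroup ↥(pPrimePCore p G)).map (pPrimePCore p G).subtype := by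
        refine ⟨x * ⟨u, hQL hu⟩ * x⁻¹, ?_, rfl⟩
        rw [← hx]
        exact Subgroup.mem_map_of_mem _ (Subgroup.mem_subgroupOf.mpr hu)
      have h2 := Subgroup.mem_centralizer_iff.mp hy _ hu2
      calc u * ((x : G)⁻¹ * y * x) = (x : G)⁻¹ * ((x : G) * u * (x : G)⁻¹ * y) * x := by group
        _ = (x : G)⁻¹ * (y * ((x : G) * u * (x : G)⁻¹)) * x := by rw [h2]
        _ = (x : G)⁻¹ * y * x * u := by group
    have h3 := (inferInstance : (pPrimePCore p G).Normal).conj_mem _ (hCQ h1) (x : G)
    simpa [mul_assoc] using h3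
  have hinv : CharDeep.Ext.Inv (pPrimeCore p G) (θ : _ → ℂ) := fun g n => hθ g n _ rfl
  obtain ⟨B₀, hB₀, hmem, hsyl, -⟩ :=
    BlkChar.Fong.single_block_of_constrained hM hQ _ rfl θ hinv
  have hBB : B = B₀ := Set.ext fun χ => (hBdef χ).trans (hmem χ).symm
  subst hBB
  exact ⟨hB₀, hsyl, fun R hR =>
    BlkChar.Fong.principal_type hM hQ _ rfl θ hinv hB₀ hmem R hR⟩

end Cfsg.Agent.S4642
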