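import Cfsg.Statements.S4645
import Cfsg.Agent.BC85.Pairs.AbelianInertia
import Cfsg.Agent.BC85.Pairs.Sharp
-- import your own Cfsg.Agent.* helpers here

set_option autoImplicit false
open Cfsg

namespace Cfsg.Agent.S4645

/-- Let B be a block of the finite group G relative to a maximal ideal M of the algebraic integers containing the prime p, with a nontrivial cyclic defect group P; let c be a block of C_G(P) inducing B and T the stabilizer of c in N_G(P). Let Q be a nontrivial subgroup of P (so C_G(P) ≤ C_G(Q)), f the block of C_G(Q) induced by c inside C_G(Q), and T' the stabilizer of f in N_G(Q). Then T' = T·C_G(Q), the index of C_G(Q) in T' equals the index of C_G(P) in T, f has p-regular rank 1, and f is a nilpotent block of C_G(Q). -/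
theorem result {G : Type*} [Group G] [Finite G] (p : ℕ) [Fact p.Prime] (M : Ideal Cfsg.AlgInt) (hM : Cfsg.IsPModular p M) (B : Set (Cfsg.IrrCharacter G)) (hB : Cfsg.IsPBlock M B) (P : Subgroup G) (hPD : Cfsg.IsDefectGroup p M B P) (hP1 : P ≠ ⊥) (hcyc : IsCyclic P) (c : Set (Cfsg.IrrCharacter (Subgroup.centralizer (P : Set G)))) (hc : Cfsg.IsInducedBlock M (Subgroup.centralizer (P : Set G)) c B) (T : Subgroup G) (hT : ∀ g : G, g ∈ T ↔ (g ∈ Subgroup.normalizer (P : Set G) ∧ Cfsg.StabilizesBlock (Subgroup.centralizer (P : Set G)) c g)) (Q : Subgroup G) (hQP : Q ≤ P) (hQ1 : Q ≠ ⊥) (f : Set (Cfsg.IrrCharacter (Subgroup.centralizer (Q : Set G)))) (hf : Cfsg.IsInducedBlockIn M (Subgroup.centralizer (Q : Set G)) (Subgroup.centralizer (P : Set G)) c f) (T' : Subgroup G) (hT' : ∀ g : G, g ∈ T' ↔ (g ∈ Subgroup.normalizer (Q : Set G) ∧ Cfsg.StabilizesBlock (Subgroup.centralizer (Q : Set G)) f g)) : T' = T ⊔ Subgroup.centralizer (Q : Set G) ∧ (Subgroup.centralizer (Q : Set G)).relIndex T' = (Subgroup.centralizer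 (P : Set G)).relIndex T ∧ Cfsg.blockRank p f = 1 ∧ Cfsg.IsNilpotentBlock p M f := by
  classical
  have := Fintype.ofFinite G
  have := BlocksCore.isPrime hM
  letI := IsCyclic.commGroup (α := P)
  have hab : ∀ x ∈ P, ∀ y ∈ P, x * y = y * x := fun a ha b hb =>
    congrArg Subtype.val (mul_comm (⟨a, ha⟩ : P) ⟨b, hb⟩)
  have hmax := BC85.isMaximal_of_induced hM hPD hab hc
  have hPC : P ≤ Subgroup.centralizer (Q : Set G) := fun u hu =>
    Subgroup.mem_centralizer_iff.mpr fun q hq => hab q (hQP hq) u hu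
  have hle := BC85.subpairLE_of_inducedIn hM hmax.1.1 hQP hPC hf
  have hT0 : T = BC85.stabT P c := Subgroup.ext fun g => (hT g).trans BC85.mem_stabT_iff.symm
  have hT0' : T' = BC85.stabT Q f :=
    Subgroup.ext fun g => (hT' g).trans BC85.mem_stabT_iff.symm
  subst hT0; subst hT0'
  have hTQ : BC85.stabT P c ≤ Subgroup.normalizer (Q : Set G) := by
    intro g hg
    have h1 : Q.map (MulAut.conj g).toMonoidHom ≤ P := fun y hy => by
      obtain ⟨u, hu, rfl⟩ := hy
      exact (Subgroup.mem_normalizer_iff.mp hg.1 u).mp (hQP hu)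
    have h2 : Q.map (MulAut.conj g).toMonoidHom = Q :=
      BC85.eq_of_card_eq_of_le_cyclic hcyc h1 hQP (BlocksDefect.natCard_map_conj Q g)
    refine Subgroup.mem_normalizer_iff.mpr fun x => ?_
    conv_rhs => rw [← h2, BC85.mem_map_conj_iff]
    simp [mul_assoc]
  have hnil : IsNilpotentBlock p M f := by
    refine (BC85.nilpotent_local_iff hM hmax hab hle).mpr fun g hg hgQ => ?_
    obtain ⟨x, hx, hx1⟩ := Q.bot_or_exists_ne_one.resolve_left hQ1
    exact BC85.free_of_cyclic hM hmax hcyc hg (hQP hx) hx1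
      (mul_inv_eq_iff_eq_mul.mpr (Subgroup.mem_centralizer_iff.mp hgQ x hx).symm)
  have hfc : IsDefectGroup p M f (P.subgroupOf (Subgroup.centralizer (Q : Set G))) := by
    have h := (BC85.fullyCentralized_iff hM (BC85.isBlockFusionSystemOn_blockFusion hM hmax) hle).mp
      ⟨hQP, fun R _ => by
        rw [FusionSystem.centralizerIn, FusionSystem.centralizerIn, inf_eq_left.mpr hPC]
        exact Subgroup.card_le_of_le inf_le_left⟩
    rwa [inf_eq_left.mpr hPC] at h
  refine ⟨?_, ?_, (BC85.rank_one_of_abelian hM hnil hfc fun x hx y hy =>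
    Subtype.ext (hab (x : G) hx (y : G) hy)).1, hnil⟩
  · refine le_antisymm (fun x hx => ?_) (sup_le (fun g hg => ?_) ?_)
    · obtain ⟨y, hy, k, hk, rfl⟩ := BC85.conj_mul_of_abelian hM hmax hab hle hx
      exact mul_mem (Subgroup.mem_sup_left hy) (Subgroup.mem_sup_right hk)
    · exact BC85.stab_inf_normalizer_le hM hmax.1.1 hle ⟨hg, hTQ hg⟩
    · exact le_sup_right.trans (BC85.le_stabT Q f)
  · have h := BC85.index_centralizer_eq hM hmax hab hle
    have hTC : BC85.stabT P c ⊓ Subgroup.centralizer (Q : Set G) =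
        Subgroup.centralizer (P : Set G) := by
      refine le_antisymm (fun g hg => ?_) (le_inf (le_sup_right.trans (BC85.le_stabT P c))
        (Subgroup.centralizer_le (SetLike.coe_subset_coe.mpr hQP)))
      obtain ⟨x, hx, hx1⟩ := Q.bot_or_exists_ne_one.resolve_left hQ1
      exact BC85.free_of_cyclic hM hmax hcyc hg.1 (hQP hx) hx1
        (mul_inv_eq_iff_eq_mul.mpr (Subgroup.mem_centralizer_iff.mp hg.2 x hx).symm)
    rw [inf_eq_left.mpr hTQ, hTC] at h
    exact h

end Cfsg.Agent.S4645
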