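import Cfsg.Statements.S4648
import Mathlib
import Cfsg.Agent.BC79.SmallBlock
import Cfsg.Agent.BlkChar.AbelianSubsection
import Cfsg.Agent.BlkChar.KleinDefect
import Cfsg.Agent.BC85.Star.NilpotentMain
import Cfsg.Agent.S4675
import Mathlib.GroupTheory.SpecificGroups.KleinFour

set_option autoImplicit false
open Cfsg

namespace Cfsg.Agent.S4648

open Cfsg.Agent.BC85 Cfsg.Agent.BlocksCore Cfsg.Agent.BlocksDefect
open scoped Classical

universe u

variable {G : Type u} [Group G] [Fintype G] {p : ℕ} [Fact p.Prime] {M : Ideal AlgInt}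

theorem card_block_le (hM : IsPModular p M) {B : Set (IrrCharacter G)} (hB : IsPBlock M B)
    {D : Subgroup G} (hD : IsDefectGroup p M B D) (hl : blockRank p B = 1) :
    Nat.card B ≤ Nat.card D := by
  classical
  have := finite_irr (G := G)
  have := Fintype.ofFinite B
  obtain ⟨φ, d, -, hd, hsum⟩ := S4675.result p M hM B hB D hD hl
  rw [← hsum, BC85.finsum_block, Nat.card_eq_fintype_card, Fintype.card_eq_sum_ones]
  refine Finset.sum_le_sum fun χ _ => Nat.one_le_iff_ne_zero.mpr (pow_ne_zero _ fun h0 => ?_)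
  have h1 := hd _ χ.2 1 (show ¬ p ∣ orderOf (1 : G) by
    rw [orderOf_one]; exact (Fact.out : p.Prime).not_dvd_one)
  rw [h0, Nat.cast_zero, zero_mul] at h1
  exact irr_one_ne_zero _ h1

theorem inertia_trivial (hM : IsPModular p M) {B : Set (IrrCharacter G)} (hB : IsPBlock M B)
    {D : Subgroup G} (hD : IsDefectGroup p M B D)
    {c : Set (IrrCharacter (Subgroup.centralizer (D : Set G)))}
    (hmax : IsMaximalBrauerPair p M B D c) (hl : blockRank p B = 1) (hD1 : D ≠ ⊥)
    (h4 : Nat.card D ≤ 4) (hk : Nat.card B = Nat.card D) :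
    (Subgroup.centralizer (D : Set G)).relIndex (stabT D c) = 1 := by
  have := isPrime hM
  have hp : p.Prime := Fact.out
  have hDp : IsPGroup p D := hmax.1.1.1
  have h2 : 1 < Nat.card D := (Subgroup.one_lt_card_iff_ne_bot D).mpr hD1
  by_cases hcyc : IsCyclic D
  · have hab : ∀ x ∈ D, ∀ y ∈ D, x * y = y * x := fun a ha b hb => by
      letI := IsCyclic.commGroup (α := D)
      exact congrArg Subtype.val (mul_comm (⟨a, ha⟩ : D) ⟨b, hb⟩)
    have h := BlkChar.AbelianSubsection.mul_card_eq hM hmax hab
      (fun g hg x hx hx1 hfix => free_of_cyclic hM hmax hcyc hg hx hx1 hfix) hB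
    rw [hl, hk, mul_one] at h
    generalize (Subgroup.centralizer (D : Set G)).relIndex (stabT D c) = e at h
    obtain ⟨q, hq⟩ : ∃ q, Nat.card D = q + 2 := ⟨Nat.card D - 2, by omega⟩
    rw [hq] at h
    have h' : e * (q + 1) = 1 * (q + 1) := by
      rw [show q + 2 - 1 = q + 1 by omega, show q + 2 = (q + 1) + 1 by omega, mul_add, mul_one] at h
      omega
    exact Nat.eq_of_mul_eq_mul_right (by omega) h'
  · obtain ⟨n, hn⟩ := IsPGroup.iff_card.mp hDp
    have hpn : p = 2 ∧ n = 2 := by
      rcases n with _ | _ | n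
      · rw [pow_zero] at hn; omega
      · rw [pow_one] at hn
        exact absurd (isCyclic_of_prime_card hn) hcyc
      · have h5 : p ^ 2 ≤ 4 := le_trans (Nat.pow_le_pow_right hp.pos (by omega)) (hn ▸ h4)
        have hp2 : p = 2 := by nlinarith [hp.two_le]
        subst hp2
        refine ⟨rfl, ?_⟩
        have h6 : 2 ^ (n + 2) ≤ 2 ^ 2 := hn ▸ h4
        have := (Nat.pow_le_pow_iff_right (show 1 < 2 by norm_num)).mp h6
        omega
    obtain ⟨rfl, rfl⟩ := hpn
    have hV : IsKleinFour D := by
      refine ⟨by rw [hn]; norm_num, ?_⟩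
      have hexp : ∀ x : D, x ^ 2 = 1 := fun x => by
        obtain ⟨m, hm⟩ := IsPGroup.iff_orderOf.mp hDp x
        have hdvd : orderOf x ∣ 2 ^ 2 := hn ▸ orderOf_dvd_natCard x
        rcases Nat.lt_or_ge m 2 with hm2 | hm2
        · exact orderOf_dvd_iff_pow_eq_one.mp (hm ▸ (pow_dvd_pow 2 (show m ≤ 1 by omega)).trans (by norm_num))
        · have : m ≤ 2 := (Nat.pow_dvd_pow_iff_le_right (by norm_num)).mp (hm ▸ hdvd)
          exact absurd (isCyclic_of_orderOf_eq_card x (by rw [hm, hn]; congr 1; omega)) hcyc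
      refine Nat.dvd_antisymm (Monoid.exponent_dvd_of_forall_pow_eq_one hexp) ?_
      have hne : Monoid.exponent D ≠ 1 := fun h1 => by
        have := Monoid.exp_eq_one_iff.mp h1
        rw [Nat.card_unique] at h2
        omega
      rcases (Nat.dvd_prime Nat.prime_two).mp (Monoid.exponent_dvd_of_forall_pow_eq_one hexp) with h | h
      · exact absurd h hne
      · rw [h]
    have hPC : D ≤ Subgroup.centralizer (D : Set G) := fun u hu =>
      Subgroup.mem_centralizer_iff.mpr fun q hq => by
        have := IsPGroup.commutative_of_card_eq_prime_sq hn ⟨q, hq⟩ ⟨u, hu⟩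
        exact congrArg Subtype.val this
    have hc : IsInducedBlock M (Subgroup.centralizer (D : Set G)) c B :=
      isInducedBlock_of_over hM hPC le_rfl hmax.1 hmax.1.1.2 fun θ hθ => by
        show θ ∈ unitSet M (pullFun (Subgroup.centralizer (D : Set G)).subtype (bp ⟨D, c⟩))
        rw [pullFun_bp, unitSet_blockCoeff hM]
        exact hθ
    obtain ⟨-, -, h3⟩ := BlkChar.KleinDefect.klein_counts hM hD hV hc
    rw [← h3, hl]

theorem main (hM : IsPModular p M) {B : Set (IrrCharacter G)} (hB : IsPBlock M B)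
    {D : Subgroup G} (hD : IsDefectGroup p M B D) (hD1 : D ≠ ⊥) (hl : blockRank p B = 1)
    (hk : Nat.card B ≤ 4) :
    IsNilpotentBlock p M B ∧ Nat.card D = Nat.card B ∧ (p = 2 ∨ p = 3) := by
  have := isPrime hM
  have hp : p.Prime := Fact.out
  have hcard : Nat.card D = p ^ blockDefect p B := defectGroup_natCard hM hB hD
  have hle := BC79.SmallBlock.pow_defect_le hM hB hD hl hk
  have heq : Nat.card D = Nat.card B := le_antisymm (hcard ▸ hle) (card_block_le hM hB hD hl)
  have h2 : 1 < Nat.card D := (Subgroup.one_lt_card_iff_ne_bot D).mpr hD1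
  have hd0 : blockDefect p B ≠ 0 := fun h0 => by rw [h0, pow_zero] at hcard; omega
  refine ⟨?_, heq, ?_⟩
  · obtain ⟨c, hmax⟩ := Cfsg.Agent.BC85.Star.exists_maximal_of_defect hM hB hD
    have hab : ∀ x ∈ D, ∀ y ∈ D, x * y = y * x := by
      intro x hx y hy
      have hd2 : blockDefect p B ≤ 2 := by
        by_contra hlt
        have h8 : 2 ^ 3 ≤ p ^ blockDefect p B :=
          (Nat.pow_le_pow_left hp.two_le 3).trans (Nat.pow_le_pow_right hp.pos (by omega))
        omega
      interval_cases hd : blockDefect p B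
      · exact absurd rfl hd0
      · rw [pow_one] at hcard
        haveI := isCyclic_of_prime_card hcard
        letI := IsCyclic.commGroup (α := D)
        exact congrArg Subtype.val (mul_comm (⟨x, hx⟩ : D) ⟨y, hy⟩)
      · exact congrArg Subtype.val (IsPGroup.commutative_of_card_eq_prime_sq hcard ⟨x, hx⟩ ⟨y, hy⟩)
    have h1 := inertia_trivial hM hB hD hmax hl hD1 (by omega) heq.symm
    exact (nilpotent_iff_of_abelian hM hmax hab).mpr fun x hx =>
      Subgroup.relIndex_eq_one.mp h1 hx
  · have h3 : p ≤ 4 := le_trans (Nat.le_self_pow hd0 p) (by omega)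
    interval_cases p <;> simp_all <;> norm_num at hp

/-- Let B be a block of the finite group G relative to a maximal ideal M of the algebraic integers containing the prime p, with a nontrivial defect group D. If B has p-regular rank 1 and at most four irreducible characters, then B is nilpotent, D has exactly as many elements as B has irreducible characters, and p is 2 or 3. -/
theorem result {G : Type*} [Group G] [Finite G] (p : ℕ) [Fact p.Prime] (M : Ideal Cfsg.AlgInt) (hM : Cfsg.IsPModular p M) (B : Set (Cfsg.IrrCharacter G)) (hB : Cfsg.IsPBlock M B) (D : Subgroup G) (hD : Cfsg.IsDefectGroup p M B D) (hD1 : D ≠ ⊥) (hl : Cfsg.blockRank p B = 1) (hk : Nat.card B ≤ 4) : Cfsg.IsNilpotentBlock p M B ∧ Nat.card D = Nat.card B ∧ (p = 2 ∨ p = 3) := by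
  have := Fintype.ofFinite G
  exact main hM hB hD hD1 hl hk

end Cfsg.Agent.S4648
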