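import Cfsg.Statements.S4649
import Cfsg.Agent.BlkChar.CyclicDefect.Props
import Cfsg.Agent.BC85.Star.NilpotentMain

set_option autoImplicit false
open Cfsg

namespace Cfsg.Agent.S4649

/-- A block with cyclic defect group, of a finite group relative to a maximal ideal M of the algebraic integers containing the prime p, is nilpotent if and only if its p-regular rank is 1 (it has a unique irreducible Brauer character). -/
theorem result {G : Type*} [Group G] [Finite G] (p : ℕ) [Fact p.Prime] (M : Ideal Cfsg.AlgInt) (hM : Cfsg.IsPModular p M) (B : Set (Cfsg.IrrCharacter G)) (hB : Cfsg.IsPBlock M B) (P : Subgroup G) (hPD : Cfsg.IsDefectGroup p M B P) (hcyc : IsCyclic P) : Cfsg.IsNilpotentBlock p M B ↔ Cfsg.blockRank p B = 1 := by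
  have := Fintype.ofFinite G
  have := BlocksCore.isPrime hM
  have hab : ∀ x ∈ P, ∀ y ∈ P, x * y = y * x := fun x hx y hy => by
    letI := IsCyclic.commGroup (α := P)
    exact congrArg Subtype.val (mul_comm (⟨x, hx⟩ : P) ⟨y, hy⟩)
  obtain ⟨c, hmax⟩ := BC85.Star.exists_maximal_of_defect hM hB hPD
  refine ⟨fun h => (BC85.rank_one_of_abelian hM h hPD hab).1, fun h => ?_⟩
  refine (BC85.nilpotent_iff_of_abelian hM hmax hab).mpr fun x hx => ?_
  by_cases hP1 : P = ⊥
  · subst hP1
    exact Subgroup.mem_centralizer_iff.mpr fun q hq => by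
      rw [show q = 1 from Subgroup.mem_bot.mp hq, one_mul, mul_one]
  have X : BlkChar.CyclicDefect.CycData p M B P c := ⟨hM, hmax, hcyc, hP1⟩
  obtain ⟨R, f, δ, ε, hTree⟩ := X.exists_tree
  have h1 : (Subgroup.centralizer (P : Set G)).relIndex (BC85.stabT P c) = 1 :=
    hTree.rank.symm.trans h
  exact Subgroup.relIndex_eq_one.mp h1 hx

end Cfsg.Agent.S4649
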