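import Cfsg.Statements.S4650
import Cfsg.Agent.BC85.Pairs.AbelianInertia
-- import your own Cfsg.Agent.* helpers here

set_option autoImplicit false
open Cfsg

namespace Cfsg.Agent.S4650

/-- Let B be a block of the finite group G relative to a maximal ideal M of the algebraic integers containing the prime p, with a nontrivial commutative defect group P; let c be a block of C_G(P) inducing B and T the stabilizer of c in N_G(P). Then T/C_G(P) acts freely on the non-identity elements of P (an element of T fixing a non-identity element of P under conjugation lies in C_G(P)) if and only if, for every nontrivial subgroup Q of P, the block of C_G(Q) induced by c inside C_G(Q) is a nilpotent block of C_G(Q). -/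
theorem result {G : Type*} [Group G] [Finite G] (p : ℕ) [Fact p.Prime] (M : Ideal Cfsg.AlgInt) (hM : Cfsg.IsPModular p M) (B : Set (Cfsg.IrrCharacter G)) (hB : Cfsg.IsPBlock M B) (P : Subgroup G) (hPD : Cfsg.IsDefectGroup p M B P) (hPab : ∀ x ∈ P, ∀ y ∈ P, x * y = y * x) (hP1 : P ≠ ⊥) (c : Set (Cfsg.IrrCharacter (Subgroup.centralizer (P : Set G)))) (hc : Cfsg.IsInducedBlock M (Subgroup.centralizer (P : Set G)) c B) (T : Subgroup G) (hT : ∀ g : G, g ∈ T ↔ (g ∈ Subgroup.normalizer (P : Set G) ∧ Cfsg.StabilizesBlock (Subgroup.centralizer (P : Set G)) c g)) : (∀ g ∈ T, ∀ x ∈ P, x ≠ 1 → g * x * g⁻¹ = x → g ∈ Subgroup.centralizer (P : Set G)) ↔ ∀ Q : Subgroup G, Q ≤ P → Q ≠ ⊥ → ∀ f : Set (Cfsg.IrrCharacter (Subgroup.centralizer (Q : Set G))), Cfsg.IsInducedBlockIn M (Subgroup.centralizer (Q : Set G)) (Subgroup.centralizer (P : Set G)) c f → Cfsg.IsNilpotentBlock p M f := by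
  have := Fintype.ofFinite G
  obtain rfl : T = Cfsg.Agent.BC85.stabT P c :=
    Subgroup.ext fun y => (hT y).trans Cfsg.Agent.BC85.mem_stabT_iff.symm
  have hmax := Cfsg.Agent.BC85.isMaximal_of_induced hM hPD hPab hc
  rw [Cfsg.Agent.BC85.free_iff_local_nilpotent hM hmax hPab]
  have hPC : ∀ Q : Subgroup G, Q ≤ P → P ≤ Subgroup.centralizer (Q : Set G) := fun Q hQP u hu =>
    Subgroup.mem_centralizer_iff.mpr fun q hq => hPab q (hQP hq) u hu
  refine ⟨fun h Q hQP hQ1 f hf => h Q hQP hQ1 f
    (Cfsg.Agent.BC85.subpairLE_of_inducedIn hM hmax.1.1 hQP (hPC Q hQP) hf), ?_⟩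
  intro h Q hQP hQ1 f hle
  exact h Q hQP hQ1 f (Cfsg.Agent.BC85.inducedIn_of_subpairLE hM hmax.1.1 (hPC Q hQP) hle)

end Cfsg.Agent.S4650
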