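import Cfsg.Statements.S4664
import Cfsg.Agent.BC85.Counting
import Cfsg.Agent.Lib.CharCore.Eigen

set_option autoImplicit false
open Cfsg

namespace Cfsg.Agent.S4664

/-- Fix a prime p and a maximal ideal M of the algebraic integers containing p, and let B be a p-block of the finite group G. Let m be the p'-part of the order of G and η = exp(2πi/m). Then every coefficient of the idempotent of B lies in the cyclotomic field ℚ(η). -/
theorem result {G : Type*} [Group G] [Fintype G] (p : ℕ) [Fact p.Prime] (M : Ideal Cfsg.AlgInt) (hM : Cfsg.IsPModular p M) (B : Set (Cfsg.IrrCharacter G)) (hB : Cfsg.IsPBlock M B) (g : G) : Cfsg.blockCoeff B g ∈ IntermediateField.adjoin ℚ ({Complex.exp (2 * Real.pi * Complex.I / ((Nat.card G / p ^ (Nat.card G).factorization p : ℕ) : ℂ))} : Set ℂ) := by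
  classical
  haveI := BlocksCore.finite_irr (G := G)
  haveI := Fintype.ofFinite B
  by_cases hg : p ∣ orderOf g
  · rw [BlocksCore.blockCoeff_eq_zero_of_dvd_orderOf hM hB hg]
    exact zero_mem _
  set N := Nat.card G / p ^ (Nat.card G).factorization p with hN
  set K := IntermediateField.adjoin ℚ
    ({Complex.exp (2 * Real.pi * Complex.I / (N : ℂ))} : Set ℂ)
  have hN0 : N ≠ 0 := (Nat.ordCompl_pos p Nat.card_pos.ne').ne'
  have hgN : g⁻¹ ^ N = 1 := by
    rw [← orderOf_dvd_iff_pow_eq_one, orderOf_inv]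
    have h1 : orderOf g ∣ p ^ (Nat.card G).factorization p * N := by
      rw [Nat.ordProj_mul_ordCompl_eq_self]; exact orderOf_dvd_natCard g
    exact (Nat.Coprime.pow_right _ ((hM.1.coprime_iff_not_dvd).2 hg).symm).dvd_of_dvd_mul_left h1
  rw [Cfsg.blockCoeff, BC85.finsum_block]
  refine mul_mem (inv_mem (natCast_mem K _)) (sum_mem fun χ _ => mul_mem ?_ ?_)
  · rw [BlocksCore.irr_one_eq]
    exact natCast_mem K _
  · rw [BlocksCore.conj_irr]
    obtain ⟨n, ρ, -, hχ⟩ := (χ : Cfsg.IrrCharacter G).2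
    rw [← hχ]
    obtain ⟨-, ω, hω, -, htr⟩ := CharClifford.exists_eigenvalues ρ g⁻¹ hN0 hgN
    rw [← pow_one g⁻¹, htr 1]
    simp only [pow_one]
    refine sum_mem fun i _ => ?_
    haveI : NeZero N := ⟨hN0⟩
    obtain ⟨j, -, hj⟩ := (Complex.isPrimitiveRoot_exp N hN0).eq_pow_of_pow_eq_one (hω i)
    rw [← hj]
    exact pow_mem (show Complex.exp (2 * Real.pi * Complex.I / (N : ℂ)) ∈ K from
      IntermediateField.subset_adjoin ℚ _ (Set.mem_singleton _)) j

end Cfsg.Agent.S4664
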