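import Cfsg.Statements.S4665
import Cfsg.Agent.BC85.Counting

set_option autoImplicit false
open Cfsg

namespace Cfsg.Agent.S4665

/-- Fix a prime p, a maximal ideal M of the algebraic integers containing p, and a p-block B of the finite group G, and let p^a be the p-part of the order of G. Let χ be an integer combination of the irreducible characters in B. If the function that agrees with χ on p-regular elements and vanishes on p-singular elements is again an integer combination of the irreducible characters in B, then p^a divides χ(1). -/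
theorem result {G : Type*} [Group G] [Fintype G] (p : ℕ) [Fact p.Prime] (M : Ideal Cfsg.AlgInt) (hM : Cfsg.IsPModular p M) (B : Set (Cfsg.IrrCharacter G)) (hB : Cfsg.IsPBlock M B) (χ : G → ℂ) (hχ : (∃ n : Cfsg.IrrCharacter G → ℤ, ∀ g : G, χ g = ∑ᶠ ψ ∈ B, (n ψ : ℂ) * (ψ : G → ℂ) g)) (h0 : (∃ n : Cfsg.IrrCharacter G → ℤ, ∀ g : G, Cfsg.pRegularPart p χ g = ∑ᶠ ψ ∈ B, (n ψ : ℂ) * (ψ : G → ℂ) g)) : ∃ k : ℤ, χ 1 = (p ^ (Nat.card G).factorization p : ℂ) * k := by
  classical
  haveI := BlocksCore.finite_irr (G := G)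
  haveI := Fintype.ofFinite B
  obtain ⟨n, hn⟩ := h0
  have hgen : Cfsg.IsGeneralizedCharacter G (Cfsg.pRegularPart p χ) := by
    have h := CharCore.isGeneralized_sum (G := G) (Finset.univ : Finset B)
      (fun ψ => (n ψ : ℂ) • ((ψ : Cfsg.IrrCharacter G) : G → ℂ))
      (fun ψ _ => CharCore.isGeneralized_intCast_smul (CharCore.irr_isGeneralized _) _)
    convert h using 1
    funext g
    rw [hn, BC85.finsum_block, Finset.sum_apply]
    rfl
  obtain ⟨P⟩ : Nonempty (Sylow p G) := inferInstance
  haveI : Fintype (P : Subgroup G) := Fintype.ofFinite _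
  obtain ⟨k, hk⟩ := CharCore.IsGeneralizedCharacter.exists_classInner_eq_intCast
    (CharCore.isGeneralized_restrict hgen (P : Subgroup G)) CharCore.isGeneralized_one
  refine ⟨k, ?_⟩
  rw [← hk, Cfsg.classInner, Finset.sum_eq_single (1 : (P : Subgroup G))]
  · rw [← Nat.cast_pow, ← P.card_eq_multiplicity, ← mul_assoc,
      mul_inv_cancel₀ (Nat.cast_ne_zero.2 Nat.card_pos.ne'), one_mul]
    simp only [OneMemClass.coe_one, Pi.one_apply, map_one, mul_one]
    rw [BC85.pRegularPart_pos (by rw [orderOf_one]; exact hM.1.not_dvd_one)]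
  · intro x _ hx
    obtain ⟨j, hj⟩ := (IsPGroup.iff_orderOf.1 P.2) x
    have hpx : p ∣ orderOf (x : G) := by
      rw [Subgroup.orderOf_coe, hj]
      refine dvd_pow_self p fun hj0 => hx ?_
      rw [hj0, pow_zero, orderOf_eq_one_iff] at hj
      exact hj
    simp only [BC85.pRegularPart_neg hpx, zero_mul]
  · exact fun h => absurd (Finset.mem_univ _) h

end Cfsg.Agent.S4665
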