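import Cfsg.Statements.S4666
import Cfsg.Agent.BC85.Counting

set_option autoImplicit false
open Cfsg

namespace Cfsg.Agent.S4666

/-- Fix a prime p and a maximal ideal M of the algebraic integers containing p, and a p-block B of the finite group G of defect d. For every integer combination χ of the irreducible characters in B, p^d times the function that agrees with χ on p-regular elements and vanishes elsewhere is again an integer combination of the irreducible characters in B. -/
theorem result {G : Type*} [Group G] [Fintype G] (p : ℕ) [Fact p.Prime] (M : Ideal Cfsg.AlgInt) (hM : Cfsg.IsPModular p M) (B : Set (Cfsg.IrrCharacter G)) (hB : Cfsg.IsPBlock M B) (χ : G → ℂ) (hχ : (∃ n : Cfsg.IrrCharacter G → ℤ, ∀ g : G, χ g = ∑ᶠ ψ ∈ B, (n ψ : ℂ) * (ψ : G → ℂ) g)) : (∃ n : Cfsg.IrrCharacter G → ℤ, ∀ g : G, (p ^ Cfsg.blockDefect p B : ℂ) * Cfsg.pRegularPart p χ g = ∑ᶠ ψ ∈ B, (n ψ : ℂ) * (ψ : G → ℂ) g) := by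
  classical
  haveI := BlocksCore.finite_irr (G := G)
  haveI := Fintype.ofFinite B
  obtain ⟨n, hn⟩ := hχ
  obtain ⟨m, hm, -⟩ := BC85.exists_matrix hM hB
  refine ⟨fun ψ => if h : ψ ∈ B then ∑ φ : B, n φ * m φ ⟨ψ, h⟩ else 0, fun g => ?_⟩
  rw [BC85.finsum_block]
  simp only [Subtype.coe_prop, dite_true, Int.cast_sum, Int.cast_mul, Subtype.coe_eta, hm,
    Finset.sum_mul]
  rw [Finset.sum_comm]
  have h1 : Cfsg.pRegularPart p χ g =
      ∑ φ : B, (n φ : ℂ) * Cfsg.pRegularPart p ((φ : Cfsg.IrrCharacter G) : G → ℂ) g := by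
    by_cases hg : p ∣ orderOf g
    · rw [BC85.pRegularPart_neg hg]
      exact (Finset.sum_eq_zero fun φ _ => by rw [BC85.pRegularPart_neg hg, mul_zero]).symm
    · rw [BC85.pRegularPart_pos hg, hn, BC85.finsum_block]
      exact Finset.sum_congr rfl fun φ _ => by rw [BC85.pRegularPart_pos hg]
  rw [h1, Finset.mul_sum]
  refine Finset.sum_congr rfl fun φ _ => ?_
  rw [BC85.pRegularPart_eq_finsum hM hB φ.2, BC85.finsum_block, Finset.mul_sum, Finset.mul_sum]
  exact Finset.sum_congr rfl fun ψ _ => by ring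

end Cfsg.Agent.S4666
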