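import Cfsg.Statements.S4671
import Cfsg.Agent.Lib.BlocksDefect.CoveredDefect

set_option autoImplicit false
open Cfsg

namespace Cfsg.Agent.S4671

open Cfsg.Agent.BlocksCore Cfsg.Agent.BlocksDefect

variable {G : Type*} [Group G] [Fintype G] {N : Subgroup G} [hN : N.Normal] [Fintype N]

/-- The set of characters whose conjugate by `g` lies in `A`. -/
def shift (g : G) (A : Set (Cfsg.IrrCharacter N)) : Set (Cfsg.IrrCharacter N) :=
  {θ | conjIrr g θ ∈ A}

theorem shift_shift (u g : G) (A : Set (Cfsg.IrrCharacter N)) :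
    shift u (shift g A) = shift (u * g) A := by
  ext θ
  simp only [shift, Set.mem_setOf_eq, conjIrr_conjIrr]

theorem shift_one (A : Set (Cfsg.IrrCharacter N)) : shift (1 : G) A = A := by
  ext θ
  simp only [shift, Set.mem_setOf_eq]
  rw [show conjIrr (1 : G) θ = θ from Subtype.ext (conjFun_one _)]

theorem blockCoeff_shift (g : G) (A : Set (Cfsg.IrrCharacter N)) :
    Cfsg.blockCoeff (shift g A) = conjFun g⁻¹ (Cfsg.blockCoeff A) := by
  refine eq_of_omega_eq (isClassFunction_blockCoeff _) (fun x z => ?_) fun θ => ?_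
  · simp only [conjFun]
    rw [← isClassFunction_blockCoeff A ⟨g⁻¹ * x * g⁻¹⁻¹, hN.conj_mem x x.2 g⁻¹⟩
      ⟨g⁻¹ * z * g⁻¹⁻¹, hN.conj_mem z z.2 g⁻¹⟩]
    congr 1
    exact Subtype.ext (by simp [mul_assoc])
  rw [omega_conjFun, inv_inv, omega_blockCoeff, omega_blockCoeff]
  exact Set.indicator_eq_indicator Iff.rfl rfl


/-- Fix a prime p and a maximal ideal M of the algebraic integers containing p. Let N be a normal subgroup of the finite group G, B a p-block of G and P a defect group of B. Then there is a p-block c of N, stable under conjugation by P and covered by B (some member of B has a constituent in c on restriction to N), such that P ∩ N is a defect group of c. -/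
theorem result {G : Type*} [Group G] [Fintype G] (p : ℕ) [Fact p.Prime] (M : Ideal Cfsg.AlgInt) (hM : Cfsg.IsPModular p M) (N : Subgroup G) [N.Normal] [Fintype N] (B : Set (Cfsg.IrrCharacter G)) (hB : Cfsg.IsPBlock M B) (P : Subgroup G) (hP : Cfsg.IsDefectGroup p M B P) : ∃ c : Set (Cfsg.IrrCharacter N), Cfsg.IsPBlock M c ∧ (∀ x ∈ P, Cfsg.StabilizesBlock N c x) ∧ (∃ χ ∈ B, ∃ θ ∈ c, Cfsg.classInner (fun n : N => (χ : G → ℂ) n) (θ : N → ℂ) ≠ 0) ∧ Cfsg.IsDefectGroup p M c ((P ⊓ N).subgroupOf N) := by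
  classical
  haveI := isPrime hM
  have hh := Fintype.ofFinite (Cfsg.IrrCharacter N)
  obtain ⟨χ, hχ⟩ := isPBlock_nonempty hB
  obtain ⟨θ₀, hθ₀⟩ := exists_constituent_irr (N := N) χ
  set b := Cfsg.blockOf M (θ₀ : N → ℂ) with hbdef
  have hb : Cfsg.IsPBlock M b := isPBlock_blockOf θ₀
  have hcov : ∃ χ ∈ B, ∃ θ ∈ b, IsConstituent χ θ := ⟨χ, hχ, θ₀, mem_blockOf_self θ₀, hθ₀⟩
  have heB := isIntClassFun_blockCoeff hM hB
  have heO := isIntClassFun_extFun_orbitSet (G := G) hM hb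
  obtain ⟨g₀, hg₀, hS⟩ := isDefectGroup_iff.mp hP
  have hu := hg₀.2.1
  rw [← conv_orbit_blockCoeff hM hb hB hcov, conv_apply] at hu
  obtain ⟨y, hy, hy1, -⟩ := exists_mem_centralizer_of_convSum hM hS.isPGroup
    (extFun (Cfsg.blockCoeff (orbitSet (G := G) b))) (Cfsg.blockCoeff B)
    (fun u _ z => heO.1 z u) (fun u _ z => heB.1 z u) heO.2 heB.2 hS.mem_centralizer hu
  have hyN : y ∈ N := by
    by_contra hn
    exact hy1 (by rw [extFun_notMem _ hn]; exact memLocalIdeal_zero)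
  rw [show y = ((⟨y, hyN⟩ : N) : G) from rfl, extFun_coe] at hy1
  set S : Finset (Set (Cfsg.IrrCharacter N)) := Finset.univ.image (fun g : G => shift g b) with hSdef
  have hmemS : ∀ g : G, shift g b ∈ S := fun g => Finset.mem_image.mpr ⟨g, Finset.mem_univ g, rfl⟩
  have hblock : ∀ A ∈ S, Cfsg.IsPBlock M A := by
    intro A hA
    obtain ⟨g, -, rfl⟩ := Finset.mem_image.mp hA
    refine ⟨conjIrr g⁻¹ θ₀, Set.ext fun θ => ⟨fun h => ?_, fun h => ?_⟩⟩
    · have h' := sameBlock_conjIrr g⁻¹ (h : conjIrr g θ ∈ b)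
      rwa [conjIrr_inv_self] at h'
    · have h' := sameBlock_conjIrr g (h : Cfsg.SameBlock M (conjIrr g⁻¹ θ₀ : N → ℂ) (θ : N → ℂ))
      rw [show conjIrr g (conjIrr g⁻¹ θ₀) = θ₀ by
        have h2 := conjIrr_inv_self g⁻¹ θ₀
        rwa [inv_inv] at h2] at h'
      exact h'
  have hsum : Cfsg.blockCoeff (orbitSet (G := G) b) = ∑ A ∈ S, Cfsg.blockCoeff A := by
    refine eq_of_omega_eq (isClassFunction_blockCoeff _) (fun x h => ?_) fun θ => ?_
    · simp only [Finset.sum_apply]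
      exact Finset.sum_congr rfl fun A _ => isClassFunction_blockCoeff A x h
    rw [omega_sum, omega_blockCoeff]
    simp only [omega_blockCoeff]
    by_cases h : θ ∈ orbitSet (G := G) b
    · obtain ⟨g, hg⟩ := h
      rw [Set.indicator_of_mem (show θ ∈ orbitSet (G := G) b from ⟨g, hg⟩),
        Finset.sum_eq_single_of_mem _ (hmemS g) fun A hA hne =>
        Set.indicator_of_notMem (fun hθ => hne (isPBlock_eq_of_mem (hblock A hA)
          (hblock _ (hmemS g)) hθ hg)) _,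
        Set.indicator_of_mem (show θ ∈ shift g b from hg)]
    · rw [Set.indicator_of_notMem h, Finset.sum_eq_zero]
      intro A hA
      obtain ⟨g, -, rfl⟩ := Finset.mem_image.mp hA
      exact Set.indicator_of_notMem (show θ ∉ shift g b from fun hθ => h ⟨g, hθ⟩) _
  have hclosed : ∀ (u : G), ∀ A ∈ S, shift u A ∈ S := by
    intro u A hA
    obtain ⟨g, -, rfl⟩ := Finset.mem_image.mp hA
    rw [shift_shift]
    exact hmemS _
  let act : MulAction P {A : Set (Cfsg.IrrCharacter N) // A ∈ S} :=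
    { smul := fun u A => ⟨shift (u : G) A, hclosed _ _ A.2⟩
      one_smul := fun A => Subtype.ext (show shift ((1 : P) : G) A.1 = A.1 by
        rw [OneMemClass.coe_one, shift_one])
      mul_smul := fun u v A => Subtype.ext (show shift ((u * v : P) : G) A.1 =
          shift (u : G) (shift (v : G) A.1) by rw [shift_shift, Subgroup.coe_mul]) }
  have hinvA : ∀ (u : P) (A : {A : Set (Cfsg.IrrCharacter N) // A ∈ S}),
      Cfsg.blockCoeff (u • A).1 ⟨y, hyN⟩ = Cfsg.blockCoeff A.1 ⟨y, hyN⟩ := by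
    intro u A
    show Cfsg.blockCoeff (shift (u : G) A.1) ⟨y, hyN⟩ = _
    rw [blockCoeff_shift]
    simp only [conjFun]
    congr 1
    refine Subtype.ext ?_
    show (u : G)⁻¹ * y * (u : G)⁻¹⁻¹ = y
    rw [inv_inv, mul_assoc, ← Subgroup.mem_centralizer_iff.mp hy u u.2, inv_mul_cancel_left]
  have key := memLocalIdeal_sum_sub_fixed (α := {A : Set (Cfsg.IrrCharacter N) // A ∈ S}) hM
    hS.isPGroup (fun A => Cfsg.blockCoeff A.1 ⟨y, hyN⟩) hinvA
    (fun A => (isIntClassFun_blockCoeff hM (hblock _ A.2)).2 _)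
  obtain ⟨⟨A, hA⟩, hAfix, hAu⟩ : ∃ A : {A : Set (Cfsg.IrrCharacter N) // A ∈ S},
      A ∈ MulAction.fixedPoints P {A : Set (Cfsg.IrrCharacter N) // A ∈ S} ∧
        ¬ Cfsg.MemLocalIdeal M (Cfsg.blockCoeff A.1 ⟨y, hyN⟩) := by
    by_contra hno
    push Not at hno
    refine hy1 ?_
    have h0 : Cfsg.MemLocalIdeal M (∑ A ∈ Finset.univ.filter
        (· ∈ MulAction.fixedPoints P {A : Set (Cfsg.IrrCharacter N) // A ∈ S}),
          Cfsg.blockCoeff A.1 ⟨y, hyN⟩) :=
      memLocalIdeal_sum fun A hA => hno A (Finset.mem_filter.mp hA).2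
    have h1 := memLocalIdeal_add key h0
    rw [sub_add_cancel] at h1
    rw [hsum, Finset.sum_apply, ← Finset.sum_coe_sort]
    exact h1
  obtain ⟨g, -, hg⟩ := Finset.mem_image.mp hA
  have hθA : conjIrr g⁻¹ θ₀ ∈ A := by
    rw [← hg]
    show conjIrr g (conjIrr g⁻¹ θ₀) ∈ b
    have h2 := conjIrr_inv_self g⁻¹ θ₀
    rw [inv_inv] at h2
    rw [h2]
    exact mem_blockOf_self θ₀
  refine ⟨A, hblock A hA, fun x hx => ⟨?_, fun θ hθ => ⟨conjIrr x⁻¹ θ, ?_, ?_⟩⟩,
    ⟨χ, hχ, conjIrr g⁻¹ θ₀, hθA, isConstituent_conjIrr hθ₀ g⁻¹⟩, ?_⟩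
  · rw [Subgroup.normalizer_eq_top N]
    exact Subgroup.mem_top x
  · have h : shift x⁻¹ A = A := congrArg Subtype.val (hAfix ⟨x⁻¹, inv_mem hx⟩)
    exact (Set.ext_iff.mp h θ).mpr hθ
  · intro k k' hk
    show (θ : N → ℂ) _ = _
    refine congrArg (θ : N → ℂ) (Subtype.ext ?_)
    show x⁻¹ * (k' : G) * x⁻¹⁻¹ = k
    rw [hk]
    group
  obtain ⟨Q, hQ⟩ := exists_isDefectGroup hM (hblock A hA)
  have hQN : Q.map N.subtype ≤ N := Subgroup.map_subtype_le _
  have hQeq : (Q.map N.subtype).subgroupOf N = Q :=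
    Subgroup.comap_map_eq_self_of_injective N.subtype_injective Q
  obtain ⟨P', hP', hP'eq⟩ := exists_defectGroup_inf_eq hM (hblock A hA) hQN (by rwa [hQeq]) hB
    ⟨χ, hχ, conjIrr g⁻¹ θ₀, hθA, isConstituent_conjIrr hθ₀ g⁻¹⟩
  obtain ⟨x, hx⟩ := isConj_defectGroup hM hB hP hP'
  have hcard : Nat.card Q ≤ Nat.card ((P ⊓ N).subgroupOf N) := by
    rw [Nat.card_congr (Subgroup.subgroupOfEquivOfLe inf_le_right).toEquiv,
      ← natCard_map_conj (P ⊓ N) x, Nat.card_congr (Subgroup.equivMapOfInjective Q N.subtype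
        N.subtype_injective).toEquiv, ← hP'eq]
    refine Subgroup.card_le_of_le fun z hz => ?_
    rw [← hx] at hz
    obtain ⟨⟨w, hw, rfl⟩, hzN⟩ := hz
    refine ⟨w, ⟨hw, ?_⟩, rfl⟩
    have := Subgroup.Normal.conj_mem (inferInstance : N.Normal) _ hzN x⁻¹
    simpa [mul_assoc] using this
  have hsc : SubConj ((P ⊓ N).subgroupOf N) Q := by
    refine subConj_defectGroup_of_coeff hM (hblock A hA) hQ
      ((hS.isPGroup.to_le inf_le_left).of_equiv (Subgroup.subgroupOfEquivOfLe inf_le_right).symm)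
      (h := ⟨y, hyN⟩) ?_ hAu
    rw [Subgroup.mem_centralizer_iff]
    intro u hu
    exact Subtype.ext (Subgroup.mem_centralizer_iff.mp hy u (Subgroup.mem_subgroupOf.mp hu).1)
  obtain ⟨z, hz⟩ := hsc.exists_eq_of_card_le hcard
  have h2 := isDefectGroup_map_conj hM (hblock A hA) hQ z⁻¹
  rwa [← hz, map_conj_map_conj, inv_mul_cancel, map_conj_one] at h2

end Cfsg.Agent.S4671
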