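import Cfsg.Statements.S4672
import Cfsg.Agent.Lib.BlocksDefect.Fong

set_option autoImplicit false
open Cfsg

namespace Cfsg.Agent.S4672

open Cfsg.Agent.BlocksCore

/-- Fix a prime p and a maximal ideal M of the algebraic integers containing p. Let N be a normal subgroup of the finite group G of p-power index and c a p-block of N stable under conjugation by G. Then the idempotent of c is a block idempotent of G: there is a p-block B of G whose idempotent coefficients agree with those of c on N and vanish off N; and for every defect group P of such a block B, G = NP and P ∩ N is a defect group of c. -/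
theorem result {G : Type*} [Group G] [Fintype G] (p : ℕ) [Fact p.Prime] (M : Ideal Cfsg.AlgInt) (hM : Cfsg.IsPModular p M) (N : Subgroup G) [N.Normal] (hN : ∃ k : ℕ, N.index = p ^ k) (c : Set (Cfsg.IrrCharacter N)) (hc : Cfsg.IsPBlock M c) (hst : ∀ x : G, Cfsg.StabilizesBlock N c x) : (∃ B : Set (Cfsg.IrrCharacter G), Cfsg.IsPBlock M B ∧ ∀ g : G, Cfsg.blockCoeff B g = Cfsg.subgroupBlockCoeff N c g) ∧ ∀ B : Set (Cfsg.IrrCharacter G), Cfsg.IsPBlock M B → (∀ g : G, Cfsg.blockCoeff B g = Cfsg.subgroupBlockCoeff N c g) → ∀ P : Subgroup G, Cfsg.IsDefectGroup p M B P → N ⊔ P = ⊤ ∧ Cfsg.IsDefectGroup p M c ((P ⊓ N).subgroupOf N) := by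
  classical
  haveI := isPrime hM
  have := Fintype.ofFinite N
  have hinv : ∀ g : G, ∀ θ ∈ c, BlocksDefect.conjIrr g θ ∈ c := by
    intro g θ hθ
    obtain ⟨θ', hθ', h⟩ := (hst g⁻¹).2 θ hθ
    convert hθ' using 1
    refine Subtype.ext (funext fun n => ?_)
    show (θ : N → ℂ) _ = _
    refine (h _ n ?_).symm
    show (n : G) = g⁻¹ * (g * (n : G) * g⁻¹) * g⁻¹⁻¹
    group
  have horb : BlocksDefect.orbitSet (G := G) c = c := by
    ext η
    refine ⟨fun ⟨g, hg⟩ => ?_, fun h => ⟨1, hinv 1 η h⟩⟩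
    have := hinv g⁻¹ _ hg
    rwa [BlocksDefect.conjIrr_inv_self] at this
  obtain ⟨θ₀, hθ₀⟩ := isPBlock_nonempty hc
  obtain ⟨χ₀, hχ₀⟩ := BlocksDefect.exists_over θ₀
  set B := Cfsg.blockOf M (χ₀ : G → ℂ) with hBdef
  have hB : Cfsg.IsPBlock M B := isPBlock_blockOf χ₀
  have hext : ∀ g, Cfsg.subgroupBlockCoeff N c g = BlocksDefect.extFun (Cfsg.blockCoeff c) g := by
    intro g
    by_cases hg : g ∈ N
    · simp only [Cfsg.subgroupBlockCoeff, dif_pos hg]
      exact (BlocksDefect.extFun_coe (Cfsg.blockCoeff c) ⟨g, hg⟩).symm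
    · simp only [Cfsg.subgroupBlockCoeff, dif_neg hg]
      exact (BlocksDefect.extFun_notMem _ hg).symm
  have heI : IsIntClassFun M (BlocksDefect.extFun (Cfsg.blockCoeff c) : G → ℂ) := by
    have := BlocksDefect.isIntClassFun_extFun_orbitSet (G := G) hM hc
    rwa [horb] at this
  have hcoeff : ∀ g : G, Cfsg.blockCoeff B g = Cfsg.subgroupBlockCoeff N c g := by
    intro g
    rw [hext]
    refine congrFun ?_ g
    refine eq_of_omega_eq (isClassFunction_blockCoeff B) heI.1 fun χ => ?_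
    obtain ⟨θ, hθ⟩ := BlocksDefect.exists_constituent_irr (N := N) χ
    have h := BlocksDefect.omega_extFun_orbitSet hθ c
    rw [horb] at h
    rw [h, omega_blockCoeff]
    have hiff : χ ∈ B ↔ θ ∈ c := by
      refine ⟨fun hχ => ?_, fun hθc => ?_⟩
      · have := (BlocksDefect.orbitSet_iff_of_sameBlock hM hc (hχ : Cfsg.SameBlock M _ _) hχ₀ hθ).mp
          (by rw [horb]; exact hθ₀)
        rwa [horb] at this
      · exact BlocksDefect.mem_of_covers hM hN hc (χ := χ) (χ' := χ₀) hθc hθ₀ hθ hχ₀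
    by_cases hχ : χ ∈ B
    · rw [Set.indicator_of_mem hχ, Set.indicator_of_mem (hiff.mp hχ)]
      rfl
    · rw [Set.indicator_of_notMem hχ, Set.indicator_of_notMem (mt hiff.mpr hχ)]
  refine ⟨⟨B, hB, hcoeff⟩, fun B' hB' hB'c P hP => ?_⟩
  have heq : B' = B := by
    ext χ
    have h1 := omega_blockCoeff B' χ
    rw [show Cfsg.blockCoeff B' = Cfsg.blockCoeff B from funext fun g => by rw [hB'c, hcoeff],
      omega_blockCoeff] at h1
    by_cases hχ : χ ∈ B'
    · refine iff_of_true hχ ?_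
      by_contra h
      rw [Set.indicator_of_mem hχ, Set.indicator_of_notMem h, Pi.one_apply] at h1
      exact zero_ne_one h1
    · refine iff_of_false hχ fun h => ?_
      rw [Set.indicator_of_notMem hχ, Set.indicator_of_mem h, Pi.one_apply] at h1
      exact one_ne_zero h1
  subst heq
  obtain ⟨h1, h2, -⟩ := BlocksDefect.fong hM hc hinv hB ⟨χ₀, mem_blockOf_self χ₀, θ₀, hθ₀, hχ₀⟩
    (fun B'' hB'' hcov'' => by
      obtain ⟨χ, hχ, θ, hθ, hχθ⟩ := hcov''
      rw [isPBlock_eq_of_mem hB'' hB hχ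
        (BlocksDefect.mem_of_covers hM hN hc (χ := χ) (χ' := χ₀) hθ hθ₀ hχθ hχ₀)]) hP
  refine ⟨?_, h2⟩
  obtain ⟨k, hk⟩ := hN
  have hd : (P ⊔ N).index ∣ p ^ k := hk ▸ Subgroup.index_dvd_of_le le_sup_right
  rw [sup_comm, ← Subgroup.index_eq_one]
  obtain ⟨i, -, hi⟩ := (Nat.dvd_prime_pow (Fact.out : p.Prime)).mp hd
  rcases Nat.eq_zero_or_pos i with h0 | h0
  · rw [hi, h0, pow_zero]
  · exact absurd (hi ▸ dvd_pow_self p h0.ne') h1

end Cfsg.Agent.S4672
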