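import Cfsg.Statements.S4673
import Cfsg.Agent.Lib.BlocksDefect.Fong
import Cfsg.Agent.Lib.BlocksDefect.CoveredDefect
import Cfsg.Agent.BC85.Pairs.Transport
import Cfsg.Agent.Blocks88.GlauberSylow
import Cfsg.Agent.Lib.BlocksCore.DefectZero

set_option autoImplicit false
open Cfsg

namespace Cfsg.Agent.S4673

open Cfsg.Agent.BlocksCore Cfsg.Agent.BlocksDefect
open scoped ComplexConjugate

universe u

theorem charDegree_pull {K K' : Type u} [Group K] [Fintype K] [Group K'] [Fintype K'] (σ : K' ≃* K)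
    (θ : Cfsg.IrrCharacter K) :
    Cfsg.charDegree (BC85.pullIrr σ θ : K' → ℂ) = Cfsg.charDegree (θ : K → ℂ) := by
  unfold Cfsg.charDegree
  rw [BC85.pullIrr_apply, map_one]

theorem blockDefect_pull {K K' : Type u} [Group K] [Fintype K] [Group K'] [Fintype K'] {p : ℕ}
    (σ : K' ≃* K) (A : Set (Cfsg.IrrCharacter K)) :
    Cfsg.blockDefect p (BC85.pullIrr σ '' A) = Cfsg.blockDefect p A := by
  unfold Cfsg.blockDefect
  rw [Nat.card_congr σ.toEquiv, Set.image_image]
  simp only [charDegree_pull]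

variable {G : Type u} [Group G] [Fintype G] {p : ℕ} [Fact p.Prime] {M : Ideal Cfsg.AlgInt}

/-- A subgroup over `N` stabilising a block whose covering block has its defect groups in `N`
equals `N`, over a `p`-power index. -/
theorem eq_of_stable (hM : Cfsg.IsPModular p M) (N : Subgroup G) [N.Normal] [Fintype N]
    (hidx : ∃ k, N.index = p ^ k) {c : Set (Cfsg.IrrCharacter N)} (hc : Cfsg.IsPBlock M c)
    (K : Subgroup G) (hNK : N ≤ K) (hK : ∀ k ∈ K, ∀ θ ∈ c, conjIrr k θ ∈ c)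
    {B : Set (Cfsg.IrrCharacter G)} (hB : Cfsg.IsPBlock M B)
    (hcov : ∃ χ ∈ B, ∃ θ ∈ c, IsConstituent χ θ)
    {P : Subgroup G} (hP : Cfsg.IsDefectGroup p M B P) (hPN : P ≤ N) : K = N := by
  classical
  have := isPrime hM
  have hp : p.Prime := Fact.out
  -- the defect of `B` is at most that of `c`
  have hdB : Cfsg.blockDefect p B ≤ Cfsg.blockDefect p c := by
    obtain ⟨Q, hQ⟩ := exists_isDefectGroup hM hc
    have hQN : Q.map N.subtype ≤ N := Subgroup.map_subtype_le _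
    have hle := natCard_inf_le_of_covers hM hc hQN
      (by rw [show (Q.map N.subtype).subgroupOf N = Q from
        Subgroup.comap_map_eq_self_of_injective N.subtype_injective Q]; exact hQ) hB hcov hP
    rw [inf_of_le_left hPN, defectGroup_natCard hM hB hP,
      ← Nat.card_congr (Subgroup.equivMapOfInjective Q N.subtype N.subtype_injective).toEquiv,
      defectGroup_natCard hM hc hQ] at hle
    exact (Nat.pow_le_pow_iff_right hp.one_lt).mp hle
  -- the block of `K` over `c`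
  have := Fintype.ofFinite K
  set NK := N.subgroupOf K with hNK'
  have := Fintype.ofFinite NK
  have : NK.Normal := (inferInstance : N.Normal).subgroupOf K
  let σ : NK ≃* N := Subgroup.subgroupOfEquivOfLe hNK
  set cK := BC85.pullIrr σ '' c with hcK
  have hcKb : Cfsg.IsPBlock M cK := BC85.isPBlock_image_pullIrr σ hc
  have hidxK : ∃ k, NK.index = p ^ k := by
    obtain ⟨k, hk⟩ := hidx
    obtain ⟨i, -, hi⟩ := (Nat.dvd_prime_pow hp).mp (hk ▸ Subgroup.relIndex_dvd_index_of_normal N K)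
    exact ⟨i, hi⟩
  have hinv : ∀ g : K, ∀ θ ∈ cK, conjIrr g θ ∈ cK := by
    rintro g _ ⟨θ, hθ, rfl⟩
    exact ⟨conjIrr (g : G) θ, hK g g.2 θ hθ, Subtype.ext (funext fun n => rfl)⟩
  obtain ⟨θ₀, hθ₀⟩ := isPBlock_nonempty hcKb
  obtain ⟨ξ₀, hξ₀⟩ := BlocksDefect.exists_over θ₀
  set bK := Cfsg.blockOf M (ξ₀ : K → ℂ)
  have hbK : Cfsg.IsPBlock M bK := isPBlock_blockOf ξ₀
  obtain ⟨PK, hPK⟩ := exists_isDefectGroup hM hbK
  have huniq : ∀ (ξ : Cfsg.IrrCharacter K) (θ : Cfsg.IrrCharacter NK), θ ∈ cK → IsConstituent ξ θ →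
      ξ ∈ bK := fun ξ θ hθ h => mem_of_covers hM hidxK hcKb (χ := ξ) (χ' := ξ₀) hθ hθ₀ h hξ₀
  obtain ⟨-, -, hdK⟩ := fong hM hcKb hinv hbK ⟨ξ₀, mem_blockOf_self ξ₀, θ₀, hθ₀, hξ₀⟩
    (fun B' hB' hcov' => by
      obtain ⟨ξ, hξ, θ, hθ, hξθ⟩ := hcov'
      rw [isPBlock_eq_of_mem hB' hbK hξ (huniq ξ θ hθ hξθ)]) hPK
  rw [hcK, blockDefect_pull σ c] at hdK
  -- a member of small degree
  obtain ⟨_, ⟨ξ, hξ, rfl⟩, hξmin⟩ : ∃ n ∈ (fun χ : Cfsg.IrrCharacter K =>
      (Cfsg.charDegree (χ : K → ℂ)).factorization p) '' bK,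
      n = sInf ((fun χ : Cfsg.IrrCharacter K => (Cfsg.charDegree (χ : K → ℂ)).factorization p) '' bK) :=
    ⟨_, Nat.sInf_mem ⟨_, ξ₀, mem_blockOf_self ξ₀, rfl⟩, rfl⟩
  obtain ⟨θK, hθK⟩ := exists_constituent_irr (N := NK) ξ
  have horb : orbitSet (G := K) cK = cK := by
    ext η
    refine ⟨fun ⟨g, hg⟩ => ?_, fun h => ⟨1, hinv 1 η h⟩⟩
    have := hinv g⁻¹ _ hg
    rwa [conjIrr_inv_self] at this
  have hθKc : θK ∈ cK := by
    have := (orbitSet_iff_of_sameBlock hM hcKb (hξ : Cfsg.SameBlock M _ _) hξ₀ hθK).mp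
      (by rw [horb]; exact hθ₀)
    rwa [horb] at this
  obtain ⟨θ, hθ, rfl⟩ := hθKc
  -- every constituent of the induced character lies in `B`
  obtain ⟨χ₀, hχ₀, θ₁, hθ₁, hc₀⟩ := hcov
  obtain ⟨m, hm⟩ := CharCore.IsCharacter.exists_sum
    (CharInd.isCharacter_indFun K (CharCore.irr_isCharacter ξ))
  have hmc : ∀ χ : Cfsg.IrrCharacter G,
      Cfsg.classInner (fun k : K => (χ : G → ℂ) k) (ξ : K → ℂ) = (m χ : ℂ) := fun χ => by
    rw [← CharInd.classInner_swap, ← CharInd.classInner_indFun_left K _ (CharCore.irr_isClassFunction χ),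
      hm, CharCore.classInner_sum_all, Complex.conj_natCast]
  have hmem : ∀ χ : Cfsg.IrrCharacter G, m χ ≠ 0 → χ ∈ B := by
    intro χ hne
    have h1 := Blocks88.classInner_ne_zero_trans NK.subtype
      (CharCore.isCharacter_restrict (CharCore.irr_isCharacter χ) K) ξ (BC85.pullIrr σ θ)
      (by rw [hmc]; exact_mod_cast hne) hθK
    have h2 : IsConstituent χ θ := by
      refine fun h0 => h1 ?_
      rw [← h0]
      unfold Cfsg.classInner
      rw [Nat.card_congr σ.toEquiv]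
      congr 1
      exact Fintype.sum_equiv σ.toEquiv _ _ fun x => rfl
    rw [isPBlock_eq_blockOf hB hχ₀]
    exact mem_of_covers hM hidx hc (χ := χ) (χ' := χ₀) hθ hθ₁ h2 hc₀
  set d := Cfsg.charDegree (ξ : K → ℂ) with hd
  have hdeg : ∑ χ, m χ * Cfsg.charDegree (χ : G → ℂ) = K.index * d := by
    have h := congrFun hm 1
    simp only [CharInd.indFun_apply_one, Finset.sum_apply, Pi.smul_apply, smul_eq_mul, irr_one_eq] at h
    exact_mod_cast h.symm
  obtain ⟨χ, hχne, hχv⟩ : ∃ χ : Cfsg.IrrCharacter G, m χ ≠ 0 ∧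
      (Cfsg.charDegree (χ : G → ℂ)).factorization p ≤ (K.index * d).factorization p := by
    by_contra hno
    push Not at hno
    have hdvd : p ^ ((K.index * d).factorization p + 1) ∣ ∑ χ, m χ * Cfsg.charDegree (χ : G → ℂ) := by
      refine Finset.dvd_sum fun χ _ => ?_
      by_cases h0 : m χ = 0
      · simp [h0]
      · exact Dvd.dvd.mul_left ((pow_dvd_pow p (hno χ h0)).trans (Nat.ordProj_dvd _ p)) _
    rw [hdeg] at hdvd
    have hne : K.index * d ≠ 0 := mul_ne_zero Subgroup.index_ne_zero_of_finite (charDegree_pos ξ).ne'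
    have := (hp.pow_dvd_iff_le_factorization hne).mp hdvd
    omega
  have hB1 : sInf ((fun χ : Cfsg.IrrCharacter G => (Cfsg.charDegree (χ : G → ℂ)).factorization p) '' B)
      ≤ K.index.factorization p + d.factorization p := by
    refine le_trans (Nat.sInf_le ⟨χ, hmem χ hχne, rfl⟩) (hχv.trans (le_of_eq ?_))
    rw [Nat.factorization_mul Subgroup.index_ne_zero_of_finite (charDegree_pos ξ).ne']
    rfl
  have hG : (Nat.card G).factorization p = K.index.factorization p + (Nat.card K).factorization p := by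
    rw [← K.index_mul_card, Nat.factorization_mul Subgroup.index_ne_zero_of_finite Nat.card_pos.ne']
    rfl
  have hKd : d.factorization p ≤ (Nat.card K).factorization p :=
    (Nat.factorization_le_iff_dvd (charDegree_pos ξ).ne' Nat.card_pos.ne').mpr
      (charDegree_dvd_card ξ) p
  have e1 : Cfsg.blockDefect p bK = (Nat.card K).factorization p - d.factorization p := by
    show _ - sInf _ = _
    rw [← hξmin]
  have e2 : Cfsg.blockDefect p B = (Nat.card G).factorization p -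
      sInf ((fun χ : Cfsg.IrrCharacter G => (Cfsg.charDegree (χ : G → ℂ)).factorization p) '' B) := rfl
  have hzero : NK.index.factorization p = 0 := by omega
  obtain ⟨k, hk⟩ := hidxK
  rw [hk, Nat.Prime.factorization_pow hp, Finsupp.single_eq_same] at hzero
  rw [hzero, pow_zero, Subgroup.index_eq_one, Subgroup.subgroupOf_eq_top] at hk
  exact le_antisymm hk hNK


/-- Fix a prime p and a maximal ideal M of the algebraic integers containing p. Let N ≤ L be normal subgroups of the finite group G with L/N a p-group, let B be a p-block of G covering the p-block c of N (some member of B has a constituent in c on restriction to N), and suppose that N contains a defect group of B. Then the stabilizer T of c in G satisfies T ∩ L = N. -/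
theorem result {G : Type*} [Group G] [Fintype G] (p : ℕ) [Fact p.Prime] (M : Ideal Cfsg.AlgInt) (hM : Cfsg.IsPModular p M) (N L : Subgroup G) [N.Normal] [L.Normal] [Fintype N] (hNL : N ≤ L) (hLN : ∃ k : ℕ, (N.subgroupOf L).index = p ^ k) (B : Set (Cfsg.IrrCharacter G)) (hB : Cfsg.IsPBlock M B) (c : Set (Cfsg.IrrCharacter N)) (hc : Cfsg.IsPBlock M c) (hcov : (∃ χ ∈ B, ∃ θ ∈ c, Cfsg.classInner (fun n : N => (χ : G → ℂ) n) (θ : N → ℂ) ≠ 0)) (hD : ∃ D : Subgroup G, Cfsg.IsDefectGroup p M B D ∧ D ≤ N) (T : Subgroup G) (hT : ∀ x : G, x ∈ T ↔ Cfsg.StabilizesBlock N c x) : T ⊓ L = N := by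
  classical
  haveI := isPrime hM
  have hstab : ∀ x ∈ T, ∀ θ ∈ c, conjIrr x θ ∈ c := by
    intro x hx θ hθ
    obtain ⟨θ', hθ', h⟩ := ((hT _).mp (inv_mem hx)).2 θ hθ
    convert hθ' using 1
    refine Subtype.ext (funext fun n => ?_)
    show (θ : N → ℂ) _ = _
    refine (h _ n ?_).symm
    show (n : G) = x⁻¹ * (x * (n : G) * x⁻¹) * x⁻¹⁻¹
    group
  have hNT : N ≤ T := by
    intro x hx
    refine (hT x).mpr ⟨by rw [Subgroup.normalizer_eq_top N]; exact Subgroup.mem_top x, fun θ hθ => ?_⟩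
    refine ⟨θ, hθ, fun k k' hk => ?_⟩
    rw [show k' = (⟨x, hx⟩ : N) * k * (⟨x, hx⟩ : N)⁻¹ from Subtype.ext hk]
    exact CharCore.irr_isClassFunction θ k ⟨x, hx⟩
  refine le_antisymm ?_ (le_inf hNT hNL)
  -- move to `L`
  have := Fintype.ofFinite L
  set NL := N.subgroupOf L with hNL'
  have := Fintype.ofFinite NL
  have : NL.Normal := (inferInstance : N.Normal).subgroupOf L
  let σ : NL ≃* N := Subgroup.subgroupOfEquivOfLe hNL
  have hcL : Cfsg.IsPBlock M (BC85.pullIrr σ '' c) := BC85.isPBlock_image_pullIrr σ hc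
  obtain ⟨χ, hχ, θ, hθ, hχθ⟩ := hcov
  obtain ⟨ξ, hξ1, hξ2⟩ : ∃ ξ : Cfsg.IrrCharacter L,
      Cfsg.classInner (fun l : L => (χ : G → ℂ) l) (ξ : L → ℂ) ≠ 0 ∧
        IsConstituent ξ (BC85.pullIrr σ θ) := by
    by_contra hno
    push Not at hno
    apply hχθ
    have hres := CharCore.IsCharacter.eq_sum_classInner
      (CharCore.isCharacter_restrict (CharCore.irr_isCharacter χ) L)
    have e : Cfsg.classInner (fun n : N => (χ : G → ℂ) n) (θ : N → ℂ) =
        Cfsg.classInner (fun n : NL => (fun l : L => (χ : G → ℂ) l) (n : L))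
          (BC85.pullIrr σ θ : NL → ℂ) := by
      unfold Cfsg.classInner
      rw [Nat.card_congr σ.toEquiv]
      congr 1
      exact (Fintype.sum_equiv σ.toEquiv _ _ fun x => rfl).symm
    rw [e, hres]
    simp only [Finset.sum_apply, Pi.smul_apply, smul_eq_mul]
    rw [show (fun n : NL => ∑ ψ : Cfsg.IrrCharacter L,
        Cfsg.classInner (fun l : L => (χ : G → ℂ) l) (ψ : L → ℂ) * (ψ : L → ℂ) (n : L)) =
      ∑ ψ : Cfsg.IrrCharacter L, Cfsg.classInner (fun l : L => (χ : G → ℂ) l) (ψ : L → ℂ) •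
        (fun n : NL => (ψ : L → ℂ) (n : L)) from funext fun n => by simp,
      CharCore.classInner_sum_left]
    refine Finset.sum_eq_zero fun ψ _ => ?_
    rw [CharCore.classInner_smul_left]
    by_cases h : Cfsg.classInner (fun l : L => (χ : G → ℂ) l) (ψ : L → ℂ) = 0
    · rw [h, zero_mul]
    · rw [not_not.mp (hno ψ h), mul_zero]
  set bL := Cfsg.blockOf M (ξ : L → ℂ)
  have hbL : Cfsg.IsPBlock M bL := isPBlock_blockOf ξ
  obtain ⟨Q, hQ⟩ := exists_isDefectGroup hM hbL
  have hQL : Q.map L.subtype ≤ L := Subgroup.map_subtype_le _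
  obtain ⟨P', hP', hP'eq⟩ := exists_defectGroup_inf_eq hM hbL hQL
    (by rw [show (Q.map L.subtype).subgroupOf L = Q from
      Subgroup.comap_map_eq_self_of_injective L.subtype_injective Q]; exact hQ) hB
    ⟨χ, hχ, ξ, mem_blockOf_self ξ, hξ1⟩
  obtain ⟨D, hD, hDN⟩ := hD
  obtain ⟨x, hx⟩ := isConj_defectGroup hM hB hD hP'
  have hP'N : P' ≤ N := by
    rw [← hx]
    rintro _ ⟨y, hy, rfl⟩
    exact Subgroup.Normal.conj_mem inferInstance y (hDN hy) x
  have hQN : Q ≤ NL := by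
    intro q hq
    refine Subgroup.mem_subgroupOf.mpr (hP'N ?_)
    have : (q : G) ∈ P' ⊓ L := hP'eq ▸ Subgroup.mem_map_of_mem _ hq
    exact this.1
  have hKL := eq_of_stable hM NL hLN hcL ((T ⊓ L).subgroupOf L)
    (fun n hn => ⟨hNT hn, (n : L).2⟩)
    (by
      rintro k hk _ ⟨φ, hφ, rfl⟩
      exact ⟨conjIrr (k : G) φ, hstab _ hk.1 φ hφ, Subtype.ext (funext fun n => rfl)⟩)
    hbL ⟨ξ, mem_blockOf_self ξ, _, ⟨θ, hθ, rfl⟩, hξ2⟩ hQ hQN
  intro y hy
  have h : (⟨y, hy.2⟩ : L) ∈ (T ⊓ L).subgroupOf L := hy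
  rw [hKL] at h
  exact h

end Cfsg.Agent.S4673
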