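import Cfsg.Statements.S4692
import Mathlib
import Cfsg.Agent.BC85.Pairs.Stabilizer
import Cfsg.Agent.Lib.BlocksDefect.Covering

set_option autoImplicit false
open Cfsg

namespace Cfsg.Agent.S4692

open Cfsg.Agent.BC85 Cfsg.Agent.BlocksCore Cfsg.Agent.BlocksDefect
open scoped Classical

universe u

variable {G : Type u} [Group G] [Fintype G] {p : ℕ} [Fact p.Prime] {M : Ideal AlgInt}
  {N : Subgroup G} {R : Subgroup G} {R' : Subgroup N}

local notation "C[" Q "]" => Subgroup.centralizer (Q : Set G)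
local notation "C'[" Q "]" => Subgroup.centralizer (Q : Set N)

theorem mem_cent_iff' (hR : R'.map N.subtype = R) (n : N) :
    n ∈ C'[R'] ↔ (n : G) ∈ C[R] := by
  subst hR
  simp only [Subgroup.mem_centralizer_iff, Subgroup.coe_map, Set.forall_mem_image, SetLike.mem_coe]
  exact forall₂_congr fun q _ => Subtype.ext_iff

theorem mem_normalizer_iff' (hR : R'.map N.subtype = R) [N.Normal] (n : N) :
    n ∈ Subgroup.normalizer (R' : Set N) ↔ (n : G) ∈ Subgroup.normalizer (R : Set G) := by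
  subst hR
  have hmem : ∀ q : N, (q : G) ∈ R'.map N.subtype ↔ q ∈ R' := fun q =>
    Subgroup.mem_map_iff_mem N.subtype_injective
  constructor
  · intro h
    refine Subgroup.mem_normalizer_iff.mpr fun y => ?_
    constructor
    · rintro ⟨q, hq, rfl⟩
      exact ⟨n * q * n⁻¹, (Subgroup.mem_normalizer_iff.mp h q).mp hq, rfl⟩
    · rintro ⟨q, hq, hqy⟩
      refine ⟨n⁻¹ * q * n, ?_, ?_⟩
      · have := (Subgroup.mem_normalizer_iff.mp h (n⁻¹ * q * n))
        exact this.mpr (by simpa [mul_assoc] using hq)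
      · simp only [Subgroup.subtype_apply] at hqy ⊢
        simp [hqy, mul_assoc]
  · intro h
    refine Subgroup.mem_normalizer_iff.mpr fun q => ?_
    rw [← hmem q, ← hmem (n * q * n⁻¹)]
    exact Subgroup.mem_normalizer_iff.mp h q

/-- The centralizer in `N` as a subgroup of the centralizer. -/
def sig (hR : R'.map N.subtype = R) : C'[R'] ≃* N.subgroupOf C[R] where
  toFun n := ⟨⟨((n : N) : G), (mem_cent_iff' hR n).mp n.2⟩, (n : N).2⟩
  invFun k := ⟨⟨((k : C[R]) : G), k.2⟩, (mem_cent_iff' hR _).mpr (k : C[R]).2⟩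
  left_inv _ := rfl
  right_inv _ := rfl
  map_mul' _ _ := rfl

/-- Conjugation on the centralizer in `N`. -/
def cN (hR : R'.map N.subtype = R) [hN : N.Normal] {z : G}
    (hz : z ∈ Subgroup.normalizer (R : Set G)) : C'[R'] ≃* C'[R'] where
  toFun n := ⟨⟨z⁻¹ * ((n : N) : G) * z, by simpa using hN.conj_mem _ (n : N).2 z⁻¹⟩,
    (mem_cent_iff' hR _).mpr ((mem_normalizer_conj_iff (normalizer_le_normalizer_centralizer R hz)
      _).mp ((mem_cent_iff' hR _).mp n.2))⟩
  invFun n := ⟨⟨z * ((n : N) : G) * z⁻¹, hN.conj_mem _ (n : N).2 z⟩,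
    (mem_cent_iff' hR _).mpr ((BlocksCore.conj_mem_centralizer_iff hz).mpr
      ((mem_cent_iff' hR _).mp n.2))⟩
  left_inv n := Subtype.ext (Subtype.ext (by simp [mul_assoc]))
  right_inv n := Subtype.ext (Subtype.ext (by simp [mul_assoc]))
  map_mul' a b := Subtype.ext (Subtype.ext (by simp [mul_assoc]))

/-- The block `e` of the centralizer lies over the block `f` of the centralizer in `N`. -/
def Over (hR : R'.map N.subtype = R) (f : Set (IrrCharacter C'[R']))
    (e : Set (IrrCharacter C[R])) : Prop :=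
  ∃ ξ ∈ e, ∃ φ ∈ f, IsConstituent ξ (pullIrr (sig hR).symm φ)

theorem pair_over_iff (hM : IsPModular p M) [N.Normal] (hR : R'.map N.subtype = R)
    (hRp : IsPGroup p R) {c : Set (IrrCharacter N)} (hc : IsPBlock M c)
    {B : Set (IrrCharacter G)} (hB : IsPBlock M B)
    (hBc : ∀ g : G, blockCoeff B g = subgroupBlockCoeff N c g)
    {f : Set (IrrCharacter C'[R'])} {e : Set (IrrCharacter C[R])}
    (hf : IsPBlock M f) (he : IsPBlock M e) (ho : Over hR f e) :
    IsBrauerPairOf p M c R' f ↔ IsBrauerPairOf p M B R e := by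
  have := isPrime hM
  obtain ⟨ξ, hξ, φ, hφ, hcon⟩ := ho
  have hR'p : IsPGroup p R' := by
    subst hR
    exact hRp.of_equiv (R'.equivMapOfInjective N.subtype N.subtype_injective).symm
  have hA : IsIntClassFun M (pullFun (C[R]).subtype (blockCoeff B)) :=
    isIntClassFun_pullFun (isCentHom_subtype R) (isBrFun_blockCoeff hM R hB)
  have hs : ∀ x, x ∉ N.subgroupOf C[R] → pullFun (C[R]).subtype (blockCoeff B) x = 0 := by
    intro x hx
    rw [pullFun_apply, hBc]
    exact subgroupBlockCoeff_of_notMem N c (fun h => hx (Subgroup.mem_subgroupOf.mpr h))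
  have key : omega (ξ : C[R] → ℂ) (pullFun (C[R]).subtype (blockCoeff B)) =
      omega (φ : C'[R'] → ℂ) (pullFun (C'[R']).subtype (blockCoeff c)) := by
    rw [omega_eq_of_constituent hcon hA.1 hs,
      ← omega_pullIrr (sig hR).symm φ (pullFun (C'[R']).subtype (blockCoeff c))]
    congr 1
    funext k
    show blockCoeff B ((k : C[R]) : G) = _
    exact (hBc _).trans (subgroupBlockCoeff_of_mem N c (Subgroup.mem_subgroupOf.mp k.2))
  rw [isBrauerPairOf_iff hM, isBrauerPairOf_iff hM,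
    subset_cset_iff_mem hM (isBrFun_blockCoeff hM R' hc) hf hφ,
    subset_cset_iff_mem hM (isBrFun_blockCoeff hM R hB) he hξ]
  have hk : φ ∈ cset M R' (blockCoeff c) ↔ ξ ∈ cset M R (blockCoeff B) := by
    show ¬ MemLocalIdeal M _ ↔ ¬ MemLocalIdeal M _
    rw [key]
  exact ⟨fun h => ⟨⟨hRp, he⟩, hB, hk.mp h.2.2⟩, fun h => ⟨⟨hR'p, hf⟩, hc, hk.mpr h.2.2⟩⟩

theorem exists_over_below (hM : IsPModular p M) (hR : R'.map N.subtype = R)
    {e : Set (IrrCharacter C[R])} (he : IsPBlock M e) :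
    ∃ f : Set (IrrCharacter C'[R']), IsPBlock M f ∧ Over hR f e := by
  have := isPrime hM
  obtain ⟨ξ, hξ⟩ := isPBlock_nonempty he
  obtain ⟨θ, hθ⟩ := exists_constituent_irr (N := N.subgroupOf C[R]) ξ
  refine ⟨blockOf M (pullIrr (sig hR) θ : C'[R'] → ℂ), isPBlock_blockOf _, ξ, hξ,
    pullIrr (sig hR) θ, mem_blockOf_self _, ?_⟩
  convert hθ using 1
  exact Subtype.ext (funext fun k => by rw [pullIrr_apply, pullIrr_apply, MulEquiv.apply_symm_apply])

theorem exists_over_above (hM : IsPModular p M) (hR : R'.map N.subtype = R)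
    {f : Set (IrrCharacter C'[R'])} (hf : IsPBlock M f) :
    ∃ e : Set (IrrCharacter C[R]), IsPBlock M e ∧ Over hR f e := by
  have := isPrime hM
  obtain ⟨φ, hφ⟩ := isPBlock_nonempty hf
  obtain ⟨ξ, hξ⟩ := exists_over (pullIrr (sig hR).symm φ)
  exact ⟨blockOf M (ξ : C[R] → ℂ), isPBlock_blockOf _, ξ, mem_blockOf_self _, φ, hφ, hξ⟩

theorem constituent_conj [N.Normal] (hR : R'.map N.subtype = R) {z : G}
    (hz : z ∈ Subgroup.normalizer (R : Set G)) {ξ : IrrCharacter C[R]} {φ : IrrCharacter C'[R']}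
    (h : IsConstituent ξ (pullIrr (sig hR).symm φ)) :
    IsConstituent (pullIrr (conjIso C[R] C[R] z
        (mem_normalizer_conj_iff (normalizer_le_normalizer_centralizer R hz))) ξ)
      (pullIrr (sig hR).symm (pullIrr (cN hR hz) φ)) := by
  unfold IsConstituent at *
  convert h using 1
  rw [CharCore.classInner_def, CharCore.classInner_def]
  congr 1
  exact Fintype.sum_equiv (((sig hR).symm.trans (cN hR hz)).trans (sig hR)).toEquiv _ _
    fun k => rfl

theorem image_eq_of_mem (hM : IsPModular p M) {K : Type u} [Group K] [Fintype K] (τ : K ≃* K)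
    {e : Set (IrrCharacter K)} (he : IsPBlock M e) {ξ : IrrCharacter K} (hξ : ξ ∈ e)
    (h : pullIrr τ ξ ∈ e) : pullIrr τ '' e = e := by
  have := isPrime hM
  exact isPBlock_eq_of_mem (isPBlock_image_pullIrr τ he) he (Set.mem_image_of_mem _ hξ) h

theorem stab_above (hM : IsPModular p M) [N.Normal] (hR : R'.map N.subtype = R)
    (hidx : ∃ k, N.index = p ^ k)
    {f : Set (IrrCharacter C'[R'])} {e : Set (IrrCharacter C[R])}
    (hf : IsPBlock M f) (he : IsPBlock M e) (ho : Over hR f e) (x : N)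
    (hx : x ∈ Subgroup.normalizer (R' : Set N)) (hs : StabilizesBlock C'[R'] f x) :
    StabilizesBlock C[R] e (x : G) := by
  have := isPrime hM
  obtain ⟨ξ, hξ, φ, hφ, hcon⟩ := ho
  have hxG := (mem_normalizer_iff' hR x).mp hx
  have hnC := mem_normalizer_conj_iff (normalizer_le_normalizer_centralizer R hxG)
  obtain ⟨φ', hφ', hconj⟩ := hs.2 φ hφ
  have hφx : φ' = pullIrr (cN hR hxG) φ := Subtype.ext (funext fun n =>
    hconj (cN hR hxG n) n (Subtype.ext (by
      show ((n : N) : G) = (x : G) * ((x : G)⁻¹ * ((n : N) : G) * (x : G)) * (x : G)⁻¹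
      group)))
  have hcon' := constituent_conj hR hxG hcon
  rw [← hφx] at hcon'
  obtain ⟨k, hk⟩ := hidx
  have hKidx : ∃ j, (N.subgroupOf C[R]).index = p ^ j := by
    have hdvd : N.relIndex C[R] ∣ p ^ k := hk ▸ Subgroup.relIndex_dvd_index_of_normal N C[R]
    obtain ⟨j, -, hj⟩ := (Nat.dvd_prime_pow (Fact.out : p.Prime)).mp hdvd
    exact ⟨j, hj⟩
  have hsame := mem_of_covers hM hKidx (isPBlock_image_pullIrr (sig hR).symm hf)
    (Set.mem_image_of_mem _ hφ) (Set.mem_image_of_mem _ hφ') hcon hcon'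
  have hmem : pullIrr (conjIso C[R] C[R] (x : G) hnC) ξ ∈ e := by
    rw [isPBlock_eq_blockOf he hξ]
    exact sameBlock_symm hsame
  have himg := image_eq_of_mem hM _ he hξ hmem
  refine ⟨normalizer_le_normalizer_centralizer R hxG, fun χ hχ =>
    ⟨_, himg ▸ Set.mem_image_of_mem _ hχ, fun k k' hk' => ?_⟩⟩
  rw [pullIrr_apply]
  refine congrArg (χ : C[R] → ℂ) (Subtype.ext ?_)
  show (x : G)⁻¹ * (k' : G) * x = k
  rw [hk']; group

theorem stab_below (hM : IsPModular p M) [hNn : N.Normal] (hR : R'.map N.subtype = R)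
    (hidx : ∃ k, N.index = p ^ k)
    {f : Set (IrrCharacter C'[R'])} {e : Set (IrrCharacter C[R])}
    (hf : IsPBlock M f) (he : IsPBlock M e) (ho : Over hR f e) (x : N)
    (hxp : IsPRegular p x) (hx : (x : G) ∈ Subgroup.normalizer (R : Set G))
    (hs : StabilizesBlock C[R] e (x : G)) :
    StabilizesBlock C'[R'] f x := by
  have := isPrime hM
  obtain ⟨ξ, hξ, φ, hφ, hcon⟩ := ho
  have hnC := mem_normalizer_conj_iff (normalizer_le_normalizer_centralizer R hx)
  obtain ⟨ξ', hξ', hconj⟩ := hs.2 ξ hξ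
  have hξx : ξ' = pullIrr (conjIso C[R] C[R] (x : G) hnC) ξ := Subtype.ext (funext fun n =>
    hconj (conjIso C[R] C[R] (x : G) hnC n) n (by
      show (n : G) = (x : G) * ((x : G)⁻¹ * (n : G) * (x : G)) * (x : G)⁻¹
      group))
  have hcon' := constituent_conj hR hx hcon
  rw [← hξx] at hcon'
  have hfK := isPBlock_image_pullIrr (sig hR).symm hf
  obtain ⟨g, hg⟩ := (orbitSet_iff_of_sameBlock hM hfK (sameBlock_of_mem he hξ hξ') hcon hcon').mp
    ⟨1, by
      convert Set.mem_image_of_mem (pullIrr (sig hR).symm) hφ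
      exact Subtype.ext (by rw [coe_conjIrr, conjFun_one])⟩
  obtain ⟨φ', hφ', hφ''⟩ := hg
  set F := invSubgroup (extFun (G := G) (N := N) (subgroupBlockCoeff C'[R'] f)) with hF
  have hgN : ((g⁻¹ : C[R]) : G) ∈ Subgroup.normalizer (R : Set G) :=
    (Subgroup.centralizer_le_normalizer (R : Set G)) (g⁻¹).2
  have hz : ((g⁻¹ : C[R]) : G) * (x : G) ∈ Subgroup.normalizer (R : Set G) :=
    Subgroup.mul_mem _ hgN hx
  have hzmem : pullIrr (cN hR hz) φ ∈ f := by
    convert hφ'
    refine Subtype.ext (funext fun n => ?_)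
    have h2 := congrFun (congrArg Subtype.val hφ'') (sig hR n)
    rw [pullIrr_apply, MulEquiv.symm_apply_apply] at h2
    rw [h2, pullIrr_apply]
    show (φ : C'[R'] → ℂ) _ = (φ : C'[R'] → ℂ) _
    refine congrArg _ (Subtype.ext (Subtype.ext ?_))
    show (((g⁻¹ : C[R]) : G) * (x : G))⁻¹ * ((n : N) : G) * (((g⁻¹ : C[R]) : G) * (x : G)) =
      (x : G)⁻¹ * ((g : G) * ((n : N) : G) * (g : G)⁻¹) * (x : G)
    simp only [InvMemClass.coe_inv]
    group
  have himg := image_eq_of_mem hM _ hf hφ hzmem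
  have hzF : ((g⁻¹ : C[R]) : G) * (x : G) ∈ F := by
    refine inv_mem_iff.mp ?_
    intro t
    rw [inv_inv]
    by_cases ht : t ∈ N
    · have ht' : (((g⁻¹ : C[R]) : G) * (x : G))⁻¹ * t * (((g⁻¹ : C[R]) : G) * (x : G)) ∈ N := by
        simpa using hNn.conj_mem t ht (((g⁻¹ : C[R]) : G) * (x : G))⁻¹
      rw [show t = ((⟨t, ht⟩ : N) : G) from rfl]
      refine (extFun_coe (G := G) (subgroupBlockCoeff C'[R'] f) ⟨_, ht'⟩).trans ?_
      rw [extFun_coe]
      by_cases htC : (⟨t, ht⟩ : N) ∈ C'[R']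
      · have h3 := congrFun (blockCoeff_image_pullIrr (cN hR hz) f) ⟨_, htC⟩
        rw [himg] at h3
        rw [subgroupBlockCoeff_of_mem _ _ htC, h3]
        exact subgroupBlockCoeff_of_mem _ _ (cN hR hz ⟨_, htC⟩).2
      · rw [subgroupBlockCoeff_of_notMem _ _ htC, subgroupBlockCoeff_of_notMem]
        intro h
        refine htC ((mem_cent_iff' hR _).mpr ((mem_normalizer_conj_iff
          (normalizer_le_normalizer_centralizer R hz) _).mpr ?_))
        exact (mem_cent_iff' hR _).mp h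
    · rw [extFun_notMem _ ht, extFun_notMem]
      intro h
      refine ht ?_
      have := hNn.conj_mem _ h (((g⁻¹ : C[R]) : G) * (x : G))
      simpa [mul_assoc] using this
  have hNA : ∀ u, u ∈ N → u ∈ C[R] → u ∈ F := by
    intro u hu hu' t
    by_cases ht : t ∈ N
    · rw [show t = ((⟨t, ht⟩ : N) : G) from rfl]
      refine (extFun_coe (G := G) (subgroupBlockCoeff C'[R'] f)
        ((⟨u, hu⟩ : N) * ⟨t, ht⟩ * (⟨u, hu⟩ : N)⁻¹)).trans ?_
      rw [extFun_coe]
      exact subgroupBlockCoeff_conj_of_mem f ((mem_cent_iff' hR ⟨u, hu⟩).mpr hu') _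
    · rw [extFun_notMem _ ht, extFun_notMem]
      intro h
      refine ht ?_
      have := hNn.conj_mem _ h u⁻¹
      simpa [mul_assoc] using this
  obtain ⟨k, hk⟩ := hidx
  have hyA : ((g⁻¹ : C[R]) : G) ∈ C[R] := (g⁻¹).2
  generalize ((g⁻¹ : C[R]) : G) = y at hz hzF hyA
  have hxF : (x : G) ∈ F := by
    have hm : orderOf (x : G) = orderOf x := Subgroup.orderOf_coe x
    have hA : ∀ j : ℕ, (y * (x : G)) ^ j * ((x : G) ^ j)⁻¹ ∈ C[R] := by
      intro j
      induction j with
      | zero => simpa using one_mem C[R]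
      | succ j ih =>
        have h1 : (x : G) ^ j * y * ((x : G) ^ j)⁻¹ ∈ C[R] :=
          (BlocksCore.conj_mem_centralizer_iff (Subgroup.pow_mem _ hx j)).mpr hyA
        have := Subgroup.mul_mem _ ih h1
        convert this using 1
        rw [pow_succ, pow_succ]
        group
    have hzm := hA (orderOf x)
    rw [← hm, pow_orderOf_eq_one, inv_one, mul_one, hm] at hzm
    have hn1 : (y ^ orderOf x)⁻¹ * (y * (x : G)) ^ orderOf x ∈ N := by
      rw [← QuotientGroup.eq, QuotientGroup.mk_pow, QuotientGroup.mk_pow, QuotientGroup.mk_mul,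
        (QuotientGroup.eq_one_iff (x : G)).mpr x.2, mul_one]
    have hn2 : (y ^ orderOf x)⁻¹ * (y * (x : G)) ^ orderOf x ∈ C[R] :=
      Subgroup.mul_mem _ (Subgroup.inv_mem _ (Subgroup.pow_mem _ hyA _)) hzm
    have hym : y ^ orderOf x ∈ F := by
      have := F.mul_mem (F.pow_mem hzF (orderOf x)) (F.inv_mem (hNA _ hn1 hn2))
      simpa [mul_assoc] using this
    have hyp : y ^ (p ^ k) ∈ F := by
      refine hNA _ ?_ (Subgroup.pow_mem _ hyA _)
      rw [← QuotientGroup.eq_one_iff, QuotientGroup.mk_pow, ← hk, Subgroup.index, pow_card_eq_one']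
    have hcop : (orderOf x).Coprime (p ^ k) :=
      Nat.Coprime.pow_right _ ((Nat.Prime.coprime_iff_not_dvd Fact.out).mpr hxp).symm
    have hy : y ∈ F := by
      have hb := Nat.gcd_eq_gcd_ab (orderOf x) (p ^ k)
      rw [hcop.gcd_eq_one] at hb
      have : y = (y ^ orderOf x) ^ Nat.gcdA (orderOf x) (p ^ k) *
          (y ^ (p ^ k)) ^ Nat.gcdB (orderOf x) (p ^ k) := by
        rw [← zpow_natCast, ← zpow_natCast, ← zpow_mul, ← zpow_mul, ← zpow_add, ← hb,
          Nat.cast_one, zpow_one]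
      rw [this]
      exact F.mul_mem (F.zpow_mem hym _) (F.zpow_mem hyp _)
    simpa [mul_assoc] using F.mul_mem (F.inv_mem hy) hzF
  have hx' : x ∈ Subgroup.normalizer (C'[R'] : Set N) := by
    refine Subgroup.mem_normalizer_iff.mpr fun n => ?_
    rw [mem_cent_iff' hR, mem_cent_iff' hR]
    exact (BlocksCore.conj_mem_centralizer_iff hx).symm
  refine (stabilizesBlock_iff f x).mpr ⟨hx', fun n => ?_⟩
  have h4 := F.inv_mem hxF (n : G)
  rw [inv_inv] at h4
  exact (extFun_coe (G := G) (subgroupBlockCoeff C'[R'] f) (x⁻¹ * n * x)).symm.trans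
    (h4.trans (extFun_coe _ n))

theorem centralizes_of_regular {Q R : Subgroup G} (hQ : IsPGroup p Q) (hRQ : R ≤ Q) {x : G}
    (hx : IsPRegular p x) (hR : x ∈ C[R]) (h : ∀ q ∈ Q, x * q * x⁻¹ * q⁻¹ ∈ R) :
    x ∈ C[Q] := by
  refine Subgroup.mem_centralizer_iff.mpr fun q hq => ?_
  have hr := h q hq
  set r := x * q * x⁻¹ * q⁻¹ with hrd
  have hcr : x * r * x⁻¹ = r :=
    mul_inv_eq_iff_eq_mul.mpr (Subgroup.mem_centralizer_iff.mp hR r hr).symm
  have hj : ∀ j : ℕ, x ^ j * q * (x ^ j)⁻¹ = r ^ j * q := by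
    intro j
    induction j with
    | zero => simp
    | succ j ih =>
      calc x ^ (j + 1) * q * (x ^ (j + 1))⁻¹
          = x * (x ^ j * q * (x ^ j)⁻¹) * x⁻¹ := by rw [pow_succ']; group
        _ = x * (r ^ j * q) * x⁻¹ := by rw [ih]
        _ = (x * r * x⁻¹) ^ j * (x * q * x⁻¹) := by rw [conj_pow]; group
        _ = r ^ j * (r * q) := by rw [hcr, hrd]; group
        _ = _ := by rw [pow_succ]; group
  have h1 := hj (orderOf x)
  rw [pow_orderOf_eq_one, inv_one, mul_one, one_mul] at h1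
  have h2 : r ^ orderOf x = 1 := by
    simpa using h1.symm
  obtain ⟨k, hk⟩ := (IsPGroup.iff_orderOf.mp hQ) ⟨r, hRQ hr⟩
  rw [Subgroup.orderOf_mk] at hk
  have h3 : orderOf r ∣ 1 := by
    have hcop : (orderOf x).Coprime (p ^ k) :=
      Nat.Coprime.pow_right _ ((Nat.Prime.coprime_iff_not_dvd Fact.out).mpr hx).symm
    rw [← hcop.gcd_eq_one]
    exact Nat.dvd_gcd (orderOf_dvd_of_pow_eq_one h2) (hk ▸ dvd_rfl)
  have h4 : r = 1 := orderOf_eq_one_iff.mp (Nat.dvd_one.mp h3)
  rw [hrd, mul_inv_eq_one, mul_inv_eq_iff_eq_mul] at h4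
  exact h4.symm

theorem nilpotent_of_normal (hM : IsPModular p M) [hNn : N.Normal]
    (hidx : ∃ k, N.index = p ^ k) {c : Set (IrrCharacter N)} (hc : IsPBlock M c)
    {B : Set (IrrCharacter G)} (hB : IsPBlock M B)
    (hBc : ∀ g : G, blockCoeff B g = subgroupBlockCoeff N c g)
    (hnil : IsNilpotentBlock p M c) : IsNilpotentBlock p M B := by
  have := isPrime hM
  refine ⟨hB, fun Q e hQe x hxQ hxs hxp => ?_⟩
  have hQp : IsPGroup p Q := hQe.1.1
  obtain ⟨k, hk⟩ := hidx
  have hxN : x ∈ N := mem_of_not_dvd_orderOf hk hxp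
  obtain ⟨eR, heR⟩ := exists_below hM hQe.1 (inf_le_left : Q ⊓ N ≤ Q)
  have hpair := (subpairLE_pairOf_iff hM heR B).mp hQe
  have hxR : x ∈ Subgroup.normalizer ((Q ⊓ N : Subgroup G) : Set G) := by
    refine Subgroup.mem_normalizer_iff.mpr fun y => ?_
    rw [Subgroup.mem_inf, Subgroup.mem_inf, ← Subgroup.mem_normalizer_iff.mp hxQ y]
    refine and_congr_right fun _ => ⟨fun h => hNn.conj_mem y h x, fun h => ?_⟩
    simpa [mul_assoc] using hNn.conj_mem _ h x⁻¹
  have hfix : conjPair x ⟨Q, e⟩ = (⟨Q, e⟩ : BrauerPairIdx G) :=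
    pair_ext (map_conj_of_mem_normalizer hxQ) (funext fun t => by
      rw [bp_conjPair]
      exact ((stabilizesBlock_iff e x).mp hxs).2 t)
  have hchain := subpairLE_conj hM heR x
  rw [hfix] at hchain
  have huniq : ∀ a : BrauerPairIdx G, a.1 = Q ⊓ N →
      Relation.ReflTransGen (NormalSubpairRel p M) a ⟨Q, e⟩ → a = ⟨Q ⊓ N, eR⟩ := by
    rintro ⟨R', g⟩ rfl h
    rw [below_unique hM hQe.1 (f := g) (f' := eR) h heR]
  have hfixR := huniq _ (map_conj_of_mem_normalizer hxR) hchain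
  have hsR : StabilizesBlock C[(Q ⊓ N : Subgroup G)] eR x := by
    refine (stabilizesBlock_iff eR x).mpr ⟨normalizer_le_normalizer_centralizer _ hxR, fun t => ?_⟩
    have := congrArg (fun a => bp a t) hfixR
    rw [bp_conjPair] at this
    exact this
  have hR : ((Q ⊓ N).subgroupOf N).map N.subtype = Q ⊓ N :=
    Subgroup.map_subgroupOf_eq_of_le inf_le_right
  obtain ⟨f, hf, ho⟩ := exists_over_below hM hR hpair.1.2
  have hfc := (pair_over_iff hM hR hpair.1.1 hc hB hBc hf hpair.1.2 ho).mpr hpair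
  have hxp' : IsPRegular p (⟨x, hxN⟩ : N) := by
    unfold IsPRegular at hxp ⊢
    rwa [Subgroup.orderOf_mk]
  have hsf := stab_below hM hR ⟨k, hk⟩ hf hpair.1.2 ho ⟨x, hxN⟩ hxp' hxR hsR
  have hcent := hnil.2 _ f hfc ⟨x, hxN⟩ ((mem_normalizer_iff' hR _).mpr hxR) hsf hxp'
  refine centralizes_of_regular hQp (inf_le_left : Q ⊓ N ≤ Q) hxp
    ((mem_cent_iff' hR _).mp hcent) fun q hq => Subgroup.mem_inf.2 ⟨?_, ?_⟩
  · exact Q.mul_mem ((Subgroup.mem_normalizer_iff.mp hxQ q).mp hq) (Q.inv_mem hq)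
  · rw [show x * q * x⁻¹ * q⁻¹ = x * (q * x⁻¹ * q⁻¹) by group]
    exact N.mul_mem hxN (hNn.conj_mem _ (N.inv_mem hxN) q)

theorem nilpotent_to_normal (hM : IsPModular p M) [hNn : N.Normal]
    (hidx : ∃ k, N.index = p ^ k) {c : Set (IrrCharacter N)} (hc : IsPBlock M c)
    {B : Set (IrrCharacter G)} (hB : IsPBlock M B)
    (hBc : ∀ g : G, blockCoeff B g = subgroupBlockCoeff N c g)
    (hnil : IsNilpotentBlock p M B) : IsNilpotentBlock p M c := by
  have := isPrime hM
  refine ⟨hc, fun R' f hRf x hxR hxs hxp => ?_⟩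
  obtain ⟨e, he, ho⟩ := exists_over_above hM (R' := R') rfl hRf.1.2
  have hRp : IsPGroup p (R'.map N.subtype) := hRf.1.1.map _
  have hpair := (pair_over_iff hM rfl hRp hc hB hBc hRf.1.2 he ho).mp hRf
  have hse := stab_above hM rfl hidx hRf.1.2 he ho x hxR hxs
  have hxp' : IsPRegular p (x : G) := by
    unfold IsPRegular at hxp ⊢
    rwa [Subgroup.orderOf_coe]
  exact (mem_cent_iff' rfl x).mpr
    (hnil.2 _ e hpair (x : G) ((mem_normalizer_iff' rfl x).mp hxR) hse hxp')

/-- Fix a prime p and a maximal ideal M of the algebraic integers containing p. Let N be a normal subgroup of p-power index in the finite group G and c a p-block of N stable under conjugation by G, and let B be the p-block of G whose idempotent is that of c (it exists and is unique). Then c is nilpotent as a block of N if and only if B is nilpotent as a block of G. -/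
theorem result {G : Type*} [Group G] [Fintype G] (p : ℕ) [Fact p.Prime] (M : Ideal Cfsg.AlgInt) (hM : Cfsg.IsPModular p M) (N : Subgroup G) [N.Normal] (hN : ∃ k : ℕ, N.index = p ^ k) (c : Set (Cfsg.IrrCharacter N)) (hc : Cfsg.IsPBlock M c) (hst : ∀ x : G, Cfsg.StabilizesBlock N c x) (B : Set (Cfsg.IrrCharacter G)) (hB : Cfsg.IsPBlock M B) (hBc : ∀ g : G, Cfsg.blockCoeff B g = Cfsg.subgroupBlockCoeff N c g) : Cfsg.IsNilpotentBlock p M c ↔ Cfsg.IsNilpotentBlock p M B := by
  exact ⟨fun h => nilpotent_of_normal hM hN hc hB hBc h,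
    fun h => nilpotent_to_normal hM hN hc hB hBc h⟩

end Cfsg.Agent.S4692
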