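import Cfsg.Statements.S4694
import Cfsg.Agent.BC85.Pairs.Weight
import Cfsg.Agent.BC85.Pairs.Saturation
-- import your own Cfsg.Agent.* helpers here

set_option autoImplicit false
open Cfsg

namespace Cfsg.Agent.S4694

/-- Fix a prime p and a maximal ideal M of the algebraic integers containing p, a p-block B of the finite group G and a Brauer pair (Q, e) of B. Let T be the stabilizer of e in N_G(Q) and suppose that (Q, e) carries a weight: the block of T whose idempotent is that of e contains an irreducible character χ that is constant on the cosets of Q and whose degree has p-part equal to the p-part of the index of Q in T. Then Z(Q) is a defect group of e as a block of C_G(Q), and Q is the largest normal p-subgroup of T: every p-subgroup of T normalized by T lies in Q. -/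
theorem result {G : Type*} [Group G] [Fintype G] (p : ℕ) [Fact p.Prime] (M : Ideal Cfsg.AlgInt) (hM : Cfsg.IsPModular p M) (B : Set (Cfsg.IrrCharacter G)) (Q : Subgroup G) (e : Set (Cfsg.IrrCharacter (Subgroup.centralizer (Q : Set G)))) (hQe : Cfsg.IsBrauerPairOf p M B Q e) (T : Subgroup G) (hT : ∀ y : G, y ∈ T ↔ y ∈ Subgroup.normalizer (Q : Set G) ∧ Cfsg.StabilizesBlock (Subgroup.centralizer (Q : Set G)) e y) (F' : Set (Cfsg.IrrCharacter T)) (hF' : Cfsg.IsPBlock M F') (hF'e : ∀ t : T, Cfsg.blockCoeff F' t = Cfsg.subgroupBlockCoeff (Subgroup.centralizer (Q : Set G)) e (t : G)) (χ : Cfsg.IrrCharacter T) (hχ : χ ∈ F') (hχQ : ∀ q : G, q ∈ Q → ∀ t : T, ∀ t' : T, (t' : G) = q * (t : G) → (χ : T → ℂ) t' = (χ : T → ℂ) t) (hdeg : (Cfsg.charDegree (χ : T → ℂ)).factorization p + (Nat.card Q).factorization p = (Nat.card T).factorization p) : Cfsg.IsDefectGroup p M e ((Q ⊓ Subgroup.centralizer (Q : Set G)).subgroupOf (Subgroup.centralizer (Q : Set G))) ∧ ∀ R : Subgroup G, R ≤ T →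 IsPGroup p R → (∀ t ∈ T, t ∈ Subgroup.normalizer (R : Set G)) → R ≤ Q := by
  have hTeq : T = Cfsg.Agent.BC85.stabT Q e :=
    Subgroup.ext fun y => (hT y).trans Cfsg.Agent.BC85.mem_stabT_iff.symm
  subst hTeq
  have hQT : Q ≤ Cfsg.Agent.BC85.stabT Q e := le_sup_left.trans (Cfsg.Agent.BC85.le_stabT Q e)
  have hCT : Subgroup.centralizer (Q : Set G) ≤ Cfsg.Agent.BC85.stabT Q e :=
    le_sup_right.trans (Cfsg.Agent.BC85.le_stabT Q e)
  have hTN : Cfsg.Agent.BC85.stabT Q e ≤ Subgroup.normalizer (Q : Set G) := inf_le_left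
  have hker : ∀ k ∈ Q.subgroupOf (Cfsg.Agent.BC85.stabT Q e),
      (χ : Cfsg.Agent.BC85.stabT Q e → ℂ) k = (χ : Cfsg.Agent.BC85.stabT Q e → ℂ) 1 :=
    fun k hk => hχQ (k : G) hk 1 k (mul_one _).symm
  exact ⟨Cfsg.Agent.BC85.weight_defect hM hQe.1.1 hQT hCT hTN hQe.1.2 hF'e hχ hker hdeg,
    fun R hRT hR hnorm =>
      Cfsg.Agent.BC85.weight_core hQe.1.1 hQT hTN hRT hR hnorm χ hker hdeg⟩

end Cfsg.Agent.S4694
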