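import Cfsg.Statements.S4696
import Cfsg.Agent.BlkChar.CyclicDefect.Props

set_option autoImplicit false
open Cfsg

namespace Cfsg.Agent.S4696

/-- Let p be a prime, M a maximal ideal of the algebraic integers containing p, and B a p-block of the finite group G whose defect group D is cyclic of order p^a with a ≥ 1. Let C = C_G(D), let b be a block of C inducing B, let T be the stabilizer of b in N_G(D) (the elements g of N_G(D) such that the g-conjugate of every member of b is again in b), and let e be the index of C in T (the inertial index of B). Then e divides p − 1, every irreducible character in B has height zero, and B is the disjoint union of a set X of e characters and a set Y of (p^a − 1)/e characters, the members of Y agreeing on p-regular elements, for which there are signs δ_χ = ±1 (χ ∈ X) and δ₀ = ±1 such that: for every ψ ∈ Y and every p-regular g, δ₀ ψ(g) + Σ_{χ ∈ X} δ_χ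 χ(g) = 0; for all χ, χ' ∈ X the integers δ_χ χ(1) and δ_χ' χ'(1) are congruent modulo p^a; and for ψ ∈ Y and χ ∈ X, ψ(1) ≡ −e δ₀ δ_χ χ(1) modulo p^a. -/
theorem result {G : Type*} [Group G] [Finite G] (p : ℕ) [Fact p.Prime] (M : Ideal Cfsg.AlgInt) (hM : Cfsg.IsPModular p M) (D : Subgroup G) (hD : IsCyclic D) (a : ℕ) (ha : 1 ≤ a) (hDa : Nat.card D = p ^ a) (B : Set (Cfsg.IrrCharacter G)) (hB : Cfsg.IsPBlock M B) (hBD : Cfsg.IsDefectGroup p M B D) (b : Set (Cfsg.IrrCharacter (Subgroup.centralizer (D : Set G)))) (hind : Cfsg.IsInducedBlock M (Subgroup.centralizer (D : Set G)) b B) (T : Subgroup G) (hT : ∀ g : G, g ∈ T ↔ (g ∈ Subgroup.normalizer (D : Set G) ∧ ∀ θ ∈ b, ∀ θ' : Cfsg.IrrCharacter (Subgroup.centralizer (D : Set G)), (∀ h h' : Subgroup.centralizer (D : Set G), (h' : G) = g * h * g⁻¹ → (θ' : Subgroup.centralizer (D : Set G) → ℂ) h' = (θ : Subgroup.centralizer (D : Set G) → ℂ) h)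 → θ' ∈ b)) (e : ℕ) (he : (Subgroup.centralizer (D : Set G)).relIndex T = e) : e ∣ p - 1 ∧ (∀ χ ∈ B, Cfsg.blockHeight p B (χ : G → ℂ) = 0) ∧ ∃ X Y : Set (Cfsg.IrrCharacter G), B = X ∪ Y ∧ Disjoint X Y ∧ Nat.card X = e ∧ Nat.card Y = (p ^ a - 1) / e ∧ (∀ ψ ∈ Y, ∀ ψ' ∈ Y, ∀ g : G, ¬ p ∣ orderOf g → (ψ : G → ℂ) g = (ψ' : G → ℂ) g) ∧ ∃ (δ : Cfsg.IrrCharacter G → ℤ) (δ₀ : ℤ), (∀ χ ∈ X, δ χ = 1 ∨ δ χ = -1) ∧ (δ₀ = 1 ∨ δ₀ = -1) ∧ (∀ ψ ∈ Y, ∀ g : G, ¬ p ∣ orderOf g → (δ₀ : ℂ) * (ψ : G → ℂ) g + ∑ᶠ χ ∈ X, (δ χ : ℂ) * (χ : G → ℂ) g = 0) ∧ (∀ χ ∈ X, ∀ χ' ∈ X, δ χ * (Cfsg.charDegree (χ : G → ℂ) : ℤ) ≡ δ χ' * (Cfsg.charDegree (χ' : G → ℂ) : ℤ) [ZMOD (p : ℤ) ^ a]) ∧ (∀ ψ ∈ Y, ∀ χ ∈ X, (Cfsg.charDegree (ψ : G → ℂ) : ℤ) ≡ -((e : ℤ) * δ₀ * δ χ * (Cfsg.charDegree (χ : G → ℂ) : ℤ)) [ZMOD (p : ℤ) ^ a]) := by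
  have := Fintype.ofFinite G
  have := BlocksCore.isPrime hM
  have hp : p.Prime := Fact.out
  have hne : D ≠ ⊥ := fun h => by
    rw [h, Subgroup.card_bot] at hDa
    exact (Nat.one_lt_pow (by omega) hp.one_lt).ne hDa
  have X := BlkChar.CyclicDefect.cycData_of_induced hM hBD hD hne hind
  obtain rfl : T = BC85.stabT D b := SetLike.ext fun g =>
    (hT g).trans (BlkChar.CyclicDefect.mem_stabT_iff_forall b g).symm
  obtain ⟨R, f, δ, ε, hTree⟩ := X.exists_tree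
  have hei : X.ei = e := he
  have hcard : R.card * e + 1 = p ^ a := by rw [← hei, ← hDa]; exact hTree.reps.card
  have hpa : ((p : ℤ) ^ a) = (Nat.card D : ℤ) := by rw [hDa]; push_cast; rfl
  refine ⟨hei ▸ X.ei_dvd, fun χ hχ => hTree.height_zero hχ,
    BlkChar.CyclicDefect.CycData.Tree.nonExc X R f, f '' R, hTree.union_eq, hTree.disjoint,
    hei ▸ hTree.card_nonExc, ?_, ?_, δ, ε,
    fun χ hχ => (hTree.coef_nonexc χ hχ.1 hχ.2).1, hTree.sign, ?_, ?_, ?_⟩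
  · rw [hTree.card_exc, ← hcard, Nat.add_sub_cancel]
    exact (Nat.mul_div_cancel _ (hei ▸ X.ei_pos)).symm
  · rintro ψ ⟨l, hl, rfl⟩ ψ' ⟨m, hm, rfl⟩ g hg
    exact hTree.exc_regular hl hm hg
  · rintro ψ ⟨l, hl, rfl⟩ g hg
    exact hTree.relation hl hg
  · intro χ hχ χ' hχ'
    rw [hpa]
    exact (Int.modEq_iff_dvd.mpr (hTree.dvd_nonExc X.isPGroup hχ' hχ))
  · rintro ψ ⟨m, hm, rfl⟩ χ hχ
    rw [hpa]
    refine Int.modEq_iff_dvd.mpr ?_
    have h1 := (hTree.dvd_exc X.isPGroup hχ hm).mul_left ((e : ℤ) * ε)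
    have h2 : (Nat.card D : ℤ) ∣
        ((R.card * e + 1 : ℕ) : ℤ) * (charDegree (f m : G → ℂ) : ℤ) := by
      rw [hcard, ← hDa]; exact dvd_mul_right _ _
    have h3 := dvd_sub h1 h2
    push_cast at h3
    have hε : (ε : ℤ) * ε = 1 := hTree.sign_mul
    refine (Eq.mpr (congrArg (Dvd.dvd (Nat.card D : ℤ)) ?_) h3)
    linear_combination -((e : ℤ) * R.card * (charDegree (f m : G → ℂ) : ℤ)) * hε

end Cfsg.Agent.S4696
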