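import Cfsg.Statements.S4697
import Cfsg.Agent.BC85.RankBound.Main

set_option autoImplicit false
open Cfsg

namespace Cfsg.Agent.S4697

/-- Let p be a prime, M a maximal ideal of the algebraic integers containing p, and B a p-block of the finite group G with an abelian defect group D of order p^d. If D has rank 2 (its least number of generators is 2) then B contains at most p^d irreducible characters; if D has rank 3 then the number k of irreducible characters in B satisfies k^3 ≤ p^(5d). -/
theorem result {G : Type*} [Group G] [Finite G] (p : ℕ) [Fact p.Prime] (M : Ideal Cfsg.AlgInt) (hM : Cfsg.IsPModular p M) (B : Set (Cfsg.IrrCharacter G)) (hB : Cfsg.IsPBlock M B) (D : Subgroup G) (hBD : Cfsg.IsDefectGroup p M B D) (hab : IsMulCommutative D) (d : ℕ) (hDd : Nat.card D = p ^ d) : (Group.rank D = 2 → Nat.card B ≤ p ^ d) ∧ (Group.rank D = 3 → Nat.card B ^ 3 ≤ p ^ (5 * d)) := by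
  classical
  have := Fintype.ofFinite G
  have := BlocksCore.isPrime hM
  have hab' : ∀ x ∈ D, ∀ y ∈ D, x * y = y * x := fun a ha b hb =>
    congrArg Subtype.val (hab.is_comm.comm (⟨a, ha⟩ : D) ⟨b, hb⟩)
  letI : CommGroup D :=
    { (inferInstance : Group D) with mul_comm := fun a b => Subtype.ext (hab' a a.2 b b.2) }
  obtain ⟨c, hc⟩ := BC85.exists_pairOf_of_subConj hM hB hBD (BlocksDefect.isPGroup_of_isDefectGroup hBD)
    (R := D) ⟨1, le_of_eq (by ext x; simp)⟩
  have hmax := BC85.isMaximal_of_defect hM hBD hc
  have hΩ : ∀ r, Group.rank D = r → Nat.card {v : D // v ^ p = 1} ≤ p ^ r := fun r hr => by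
    subst hr
    refine le_trans (le_of_eq (Nat.card_congr (Equiv.subtypeEquivRight fun v => ?_)))
      (BC85.RankBound.natCard_omegaSub_one_le_pow_rank D p)
    rw [BC85.RankBound.mem_omegaSub, pow_one]
  refine ⟨fun h2 => ?_, fun h3 => ?_⟩
  · by_cases hd : d = 2
    · have hbd : blockDefect p B = d := Nat.pow_right_injective (Fact.out : p.Prime).two_le
        ((BlocksDefect.defectGroup_natCard hM hB hBD).symm.trans hDd)
      exact (BlkChar.BrauerFeit.natCard_le hM d G B hB hbd).1 (le_of_eq hd)
    · rw [← hDd]
      exact BC85.RankBound.card_le_of_small hM hmax hBD hab' (hΩ 2 h2)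
        fun h => hd (Nat.pow_right_injective (Fact.out : p.Prime).two_le (hDd.symm.trans h))
  · exact BC85.RankBound.card_cube_le hM hmax hBD hab' (hΩ 3 h3) hDd

end Cfsg.Agent.S4697
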