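import Cfsg.Statements.S4705
import Cfsg.Agent.Lib.SmallGroups.DegTwo.Main

set_option autoImplicit false
open Cfsg

namespace Cfsg.Agent.S4705

/-- Let G be a finite group with centre Z and p > 5 a prime such that a Sylow p-subgroup of G has order p and is not normal. If G has a faithful irreducible character of degree p − 2, then p = 2^a + 1 for some a and G is isomorphic to the direct product of SL(2, 2^a) with Z. -/
theorem result {G : Type*} [Group G] [Finite G] (p : ℕ) [Fact p.Prime] (hp : 5 < p) (P : Sylow p G) (hP : Nat.card P = p) (hnn : ¬ (P : Subgroup G).Normal) (ζ : G → ℂ) (hζ : Cfsg.IsIrrCharacter G ζ) (hfaith : ∀ g : G, ζ g = ζ 1 → g = 1) (hdeg : Cfsg.charDegree ζ = p - 2) : ∃ (a : ℕ) (F : Type) (_ : Field F) (_ : Fintype F), p = 2 ^ a + 1 ∧ Fintype.card F = 2 ^ a ∧ Nonempty (G ≃* Matrix.SpecialLinearGroup (Fin 2) F × Subgroup.center G) := by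
  classical
  have := Fintype.ofFinite G
  have hsq : ¬ p ^ 2 ∣ Nat.card G := by
    intro h
    have h1 := ((Fact.out : p.Prime).pow_dvd_iff_le_factorization Nat.card_pos.ne').mp h
    have h2 : p ^ (Nat.card G).factorization p = p ^ 1 := by
      rw [← P.card_eq_multiplicity, hP, pow_one]
    have := Nat.pow_right_injective (Fact.out : p.Prime).two_le h2
    omega
  obtain ⟨z, hz⟩ := exists_prime_orderOf_dvd_card' (G := (P : Subgroup G)) p (dvd_of_eq hP.symm)
  have hz' : orderOf (z : G) = p := by rw [Subgroup.orderOf_coe, hz]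
  have hzP : Subgroup.zpowers (z : G) = (P : Subgroup G) :=
    Subgroup.eq_of_le_of_card_ge (Subgroup.zpowers_le.mpr z.2) (by rw [Nat.card_zpowers, hz', hP])
  obtain ⟨s, hs⟩ := BlocksCore.CyclicCount.exists_setup hz'
    (SmallGroups.DegTwo.not_dvd_index_zpowers hsq hz')
  let χ : IrrCharacter G := ⟨ζ, hζ⟩
  let D : SmallGroups.DegTwo.Data G p :=
    { s := s, hp5 := hp.le, hsq := hsq, hP := by rw [hs, hzP]; exact hnn, χ := χ, hf := hfaith,
      hdeg := by show charDegree ζ + 2 = p; omega }
  exact D.exists_equiv hp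

end Cfsg.Agent.S4705
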