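import Cfsg.Statements.S4707
import Cfsg.Agent.CharDeep.OrderP.PermChar
import Cfsg.Agent.CharDeep.OrderP.Recog
import Cfsg.Agent.S2544
import Cfsg.Agent.S0494
import Mathlib.GroupTheory.GroupAction.Jordan
import Mathlib.GroupTheory.Perm.Cycle.Type
-- import your own Cfsg.Agent.* helpers here

set_option autoImplicit false
open Cfsg

namespace Cfsg.Agent.S4707

open MulAction
open scoped ComplexConjugate Pointwise

/-- A primitive group of degree `2 p` with a `p`-cycle is doubly transitive. -/
theorem two_transitive_of_pcycle {α : Type*} [Fintype α] [DecidableEq α] {p : ℕ} [Fact p.Prime]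
    (hp : 3 < p) (hα : Fintype.card α = 2 * p) (G : Subgroup (Equiv.Perm α))
    (hprim : IsPreprimitive G α) {z : Equiv.Perm α} (hz : z ∈ G) (hord : orderOf z = p)
    (hfix : z.support.card ≠ 2 * p) : IsMultiplyPretransitive G α 2 := by
  classical
  have hpr : p.Prime := Fact.out
  obtain ⟨n, hn⟩ := Equiv.Perm.cycleType_prime_order (σ := z) (hord ▸ hpr)
  have hsum := Equiv.Perm.sum_cycleType z
  rw [hn, Multiset.sum_replicate, hord, smul_eq_mul] at hsum
  have hle : z.support.card ≤ 2 * p := hα ▸ Finset.card_le_univ _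
  have h2 : n + 1 ≤ 2 := Nat.le_of_mul_le_mul_right (hsum ▸ hle) hpr.pos
  have h1 : n + 1 ≠ 2 := fun h => hfix (by rw [← hsum, h])
  have hsupp : z.support.card = p := by rw [← hsum, show n + 1 = 1 by omega, one_mul]
  have hcyc : z.IsCycle := Equiv.Perm.isCycle_of_prime_order (hord ▸ hpr) (by rw [hord, hsupp]; omega)
  refine hprim.is_two_pretransitive (s := (z.support : Set α)ᶜ) (n := p - 1) ?_ ?_
    (Equiv.Perm.isPretransitive_of_isCycle_mem hcyc hz)
  · rw [Set.ncard_compl, Set.ncard_coe_finset, hsupp, Nat.card_eq_fintype_card, hα]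
    omega
  · rw [Nat.card_eq_fintype_card, hα]
    omega

/-- The fixed point numbers of a transitive group that is not doubly transitive. -/
theorem sum_sq_ne {α : Type*} [Fintype α] [DecidableEq α] (G : Subgroup (Equiv.Perm α)) [Fintype G]
    [IsPretransitive G α] (hnot2 : ¬ IsMultiplyPretransitive G α 2) :
    ∑ g : G, Fintype.card (fixedBy α g) ^ 2 ≠ 2 * Fintype.card G := by
  classical
  intro h
  apply hnot2
  rw [is_two_pretransitive_iff]
  have h1 := sum_card_fixedBy_eq_card_orbits_mul_card_group G (α × α)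
  have hfix : ∀ g : G, Fintype.card (fixedBy (α × α) g) = Fintype.card (fixedBy α g) ^ 2 := fun g => by
    rw [sq, ← Fintype.card_prod]
    refine Fintype.card_congr
      { toFun := fun x => (⟨x.1.1, congrArg Prod.fst x.2⟩, ⟨x.1.2, congrArg Prod.snd x.2⟩)
        invFun := fun x => ⟨(x.1.1, x.2.1), Prod.ext x.1.2 x.2.2⟩
        left_inv := fun x => rfl
        right_inv := fun x => rfl }
  rw [Finset.sum_congr rfl fun g _ => hfix g, h] at h1
  have hcard : Fintype.card (Quotient (orbitRel G (α × α))) = 2 :=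
    (Nat.eq_of_mul_eq_mul_right Fintype.card_pos h1).symm
  intro a b c d hab hcd
  by_contra hno
  have hne : ∀ x y : α × α, (∀ g : G, g • y ≠ x) →
      (Quotient.mk (orbitRel G (α × α)) x) ≠ Quotient.mk _ y := fun x y hxy he => by
    obtain ⟨g, hg⟩ := Quotient.exact he
    exact hxy g hg
  have h3 : 3 ≤ Fintype.card (Quotient (orbitRel G (α × α))) := by
    have hcard3 : ({Quotient.mk _ (a, a), Quotient.mk _ (a, b), Quotient.mk _ (c, d)} :
        Finset (Quotient (orbitRel G (α × α)))).card = 3 := by
      rw [Finset.card_insert_of_notMem, Finset.card_pair]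
      · exact hne _ _ fun g hg => hno ⟨g⁻¹, by
          rw [inv_smul_eq_iff]; exact (congrArg Prod.fst hg).symm, by
          rw [inv_smul_eq_iff]; exact (congrArg Prod.snd hg).symm⟩
      · simp only [Finset.mem_insert, Finset.mem_singleton, not_or]
        refine ⟨hne _ _ fun g hg => hab ?_, hne _ _ fun g hg => hcd ?_⟩
        · have h1 := congrArg Prod.fst hg
          have h2 := congrArg Prod.snd hg
          exact MulAction.injective g (h1.trans h2.symm)
        · have h1 := congrArg Prod.fst hg
          have h2 := congrArg Prod.snd hg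
          exact MulAction.injective g (h1.trans h2.symm)
    exact hcard3 ▸ Finset.card_le_univ _
  omega


/-- Let p > 3 be a prime and G a primitive permutation group of degree 2p that is not doubly transitive. If a Sylow p-subgroup of G has normalizer of order 2p, then p = 5 and G is isomorphic to the alternating group of degree 5. -/
theorem result {α : Type*} [Fintype α] [DecidableEq α] {p : ℕ} [Fact p.Prime] (hp : 3 < p) (hα : Fintype.card α = 2 * p) (G : Subgroup (Equiv.Perm α)) (hprim : MulAction.IsPreprimitive G α) (hnot2 : ¬ MulAction.IsMultiplyPretransitive G α 2) (P : Sylow p G) (hN : Nat.card (Subgroup.normalizer ((P : Subgroup G) : Set G)) = 2 * p) : p = 5 ∧ Nonempty (G ≃* alternatingGroup (Fin 5)) := by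
  classical
  have hpr : p.Prime := Fact.out
  have hp5 : 5 ≤ p := by
    by_contra h
    interval_cases p
    exact absurd hpr (by norm_num)
  have := Fintype.ofFinite G
  haveI := hprim
  haveI : IsPretransitive G α := hprim.toIsPretransitive
  have hpGd : p ∣ Nat.card G := dvd_trans (hN ▸ dvd_mul_left p 2)
    (Subgroup.card_subgroup_dvd_card (Subgroup.normalizer ((P : Subgroup G) : Set G)))
  have hP : Nat.card (P : Subgroup G) = p := by
    obtain ⟨k, hk⟩ := IsPGroup.iff_card.mp P.2
    have h1 := Subgroup.card_dvd_of_le (Subgroup.le_normalizer (H := (P : Subgroup G)))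
    rw [hN, hk] at h1
    have h2 : p ∣ Nat.card (P : Subgroup G) := P.dvd_card_of_dvd_card hpGd
    rcases k with _ | _ | k
    · rw [hk, pow_zero] at h2; exact absurd h2 hpr.not_dvd_one
    · rw [hk, pow_one]
    · exfalso
      have h3 : p * p ∣ 2 * p := by
        rw [← sq]; exact (pow_dvd_pow p (by omega : 2 ≤ k + 1 + 1)).trans h1
      have h4 := Nat.dvd_of_mul_dvd_mul_right hpr.pos h3
      have := Nat.le_of_dvd (by norm_num) h4
      omega
  have hsylow : ∀ Q : Sylow p G, Nat.card (Q : Subgroup G) = p := fun Q =>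
    (Nat.card_congr (P.equiv Q).toEquiv).symm.trans hP
  have hfix0 : ∀ g : G, orderOf g = p → Nat.card (fixedBy α g) = 0 := fun g hg => by
    have hs : (g : Equiv.Perm α).support.card = 2 * p := by
      by_contra h
      exact hnot2 (two_transitive_of_pcycle hp hα G hprim g.2
        (by rw [Subgroup.orderOf_coe, hg]) h)
    have hall : (g : Equiv.Perm α).support = Finset.univ :=
      Finset.eq_univ_of_card _ (by rw [hs, hα])
    haveI : IsEmpty (fixedBy α g) := ⟨fun ⟨x, hx⟩ =>
      Equiv.Perm.mem_support.mp (hall ▸ Finset.mem_univ x) hx⟩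
    exact Nat.card_of_isEmpty
  have hnontriv : Nontrivial α := by
    rw [← Fintype.one_lt_card_iff_nontrivial, hα]; omega
  -- a normal subgroup is trivial or has order divisible by `p`
  have hnormal : ∀ M : Subgroup G, M.Normal → M = ⊥ ∨ p ∣ Nat.card M := fun M hM => by
    by_cases h : M = ⊥
    · exact Or.inl h
    right
    haveI : IsPretransitive M α := IsQuasiPreprimitive.isPretransitive_of_normal (by
      intro hfp
      apply h
      rw [eq_bot_iff]
      intro x hx
      rw [Subgroup.mem_bot]
      apply Subtype.ext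
      ext y
      have := Set.eq_univ_iff_forall.mp hfp y ⟨x, hx⟩
      exact this)
    have hd : Fintype.card α ∣ Nat.card M := by
      obtain ⟨x⟩ := hnontriv.to_nonempty
      rw [← Nat.card_eq_fintype_card, ← index_stabilizer_of_transitive (G := M) x]
      exact Subgroup.index_dvd_card _
    exact (dvd_mul_left p 2).trans (hα ▸ hd)
  have hcomplement : ∀ (M : Subgroup G), M.Normal → (P : Subgroup G) ≤ M →
      Subgroup.normalizer ((P : Subgroup G) : Set G) ⊓ M ≤
        Subgroup.centralizer ((P : Subgroup G) : Set G) → M = (P : Subgroup G) := by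
    intro M hM hPM hle
    let P' : Sylow p M := P.subtype hPM
    have hP' : (P' : Subgroup M) = (P : Subgroup G).subgroupOf M := rfl
    have hnc : Subgroup.normalizer ((P' : Subgroup M) : Set M) ≤
        Subgroup.centralizer ((P' : Subgroup M) : Set M) := by
      intro x hx
      rw [hP', ← Subgroup.subgroupOf_normalizer_eq hPM, Subgroup.mem_subgroupOf] at hx
      have h1 := hle (Subgroup.mem_inf.mpr ⟨hx, x.2⟩)
      rw [Subgroup.mem_centralizer_iff] at h1 ⊢
      intro y hy
      exact Subtype.ext (h1 (y : G) hy)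
    have hc := MonoidHom.ker_transferSylow_isComplement' P' hnc
    set K := (MonoidHom.transferSylow P' hnc).ker with hKdef
    have hKcard : ¬ p ∣ Nat.card K := MonoidHom.not_dvd_card_ker_transferSylow P' hnc
    haveI := hM
    haveI hKchar : K.Characteristic := by
      rw [Subgroup.characteristic_iff_map_le]
      intro φ
      have hcop : (Nat.card (K.map φ.toMonoidHom)).Coprime K.index := by
        rw [Nat.card_congr (K.equivMapOfInjective φ.toMonoidHom φ.injective).toEquiv.symm,
          hc.symm.index_eq_card]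
        obtain ⟨k, hk⟩ := IsPGroup.iff_card.mp P'.2
        rw [hk]
        exact Nat.Coprime.pow_right _ (Nat.coprime_comm.mp
          ((Nat.Prime.coprime_iff_not_dvd hpr).mpr hKcard))
      haveI : K.Normal := MonoidHom.normal_ker _
      intro y hy
      have h1 : orderOf (QuotientGroup.mk y : M ⧸ K) ∣ Nat.card (K.map φ.toMonoidHom) :=
        (orderOf_map_dvd (QuotientGroup.mk' K) y).trans (Subgroup.orderOf_dvd_natCard _ hy)
      have h2 : orderOf (QuotientGroup.mk y : M ⧸ K) ∣ K.index :=
        Subgroup.index_eq_card K ▸ orderOf_dvd_natCard _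
      exact (QuotientGroup.eq_one_iff y).mp
        (orderOf_eq_one_iff.mp (Nat.eq_one_of_dvd_coprimes hcop h1 h2))
    rcases hnormal (K.map M.subtype) inferInstance with h | h
    · have hKbot : K = ⊥ := by
        rw [eq_bot_iff]
        intro x hx
        have h1 : M.subtype x ∈ K.map M.subtype := ⟨x, hx, rfl⟩
        rw [h, Subgroup.mem_bot] at h1
        exact Subtype.ext h1
      rw [hKbot] at hc
      have htop : (P' : Subgroup M) = ⊤ := Subgroup.isComplement'_bot_left.mp hc
      exact le_antisymm (fun x hx => by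
        have : (⟨x, hx⟩ : M) ∈ (P' : Subgroup M) := htop ▸ Subgroup.mem_top _
        exact this) hPM
    · rw [Subgroup.card_subtype] at h
      exact absurd h hKcard
  have hPnn : ¬ (P : Subgroup G).Normal := fun hn => by
    have h1 := Subgroup.normalizer_eq_top_iff.mpr hn
    rw [h1, Subgroup.card_top] at hN
    rcases hnormal (P : Subgroup G) hn with h | h
    · rw [h, Subgroup.card_bot] at hP; exact hpr.ne_one hP.symm
    · haveI : IsPretransitive (P : Subgroup G) α := IsQuasiPreprimitive.isPretransitive_of_normal (by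
        intro hfp
        obtain ⟨g, hg⟩ := exists_prime_orderOf_dvd_card' (G := (P : Subgroup G)) p (by rw [hP])
        have hg' : orderOf (g : G) = p := by rw [Subgroup.orderOf_coe, hg]
        obtain ⟨x⟩ := hnontriv.to_nonempty
        have h2 := hfix0 g hg'
        have hx : x ∈ fixedBy α (g : G) := Set.eq_univ_iff_forall.mp hfp x g
        haveI : Nonempty (fixedBy α (g : G)) := ⟨⟨x, hx⟩⟩
        exact absurd h2 Nat.card_pos.ne')
      obtain ⟨x⟩ := hnontriv.to_nonempty
      have hd : Fintype.card α ∣ Nat.card (P : Subgroup G) := by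
        rw [← Nat.card_eq_fintype_card, ← index_stabilizer_of_transitive (G := (P : Subgroup G)) x]
        exact Subgroup.index_dvd_card _
      rw [hP, hα] at hd
      have := Nat.le_of_dvd hpr.pos hd
      omega
  have hPC : (P : Subgroup G) ≤ Subgroup.centralizer ((P : Subgroup G) : Set G) := by
    haveI : IsCyclic (P : Subgroup G) := isCyclic_of_prime_card hP
    exact (P : Subgroup G).le_centralizer
  have hCle : Subgroup.centralizer ((P : Subgroup G) : Set G) ≤
      Subgroup.normalizer ((P : Subgroup G) : Set G) := Subgroup.centralizer_le_normalizer _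
  have hcases : ∀ H : Subgroup G, (P : Subgroup G) ≤ H →
      H ≤ Subgroup.normalizer ((P : Subgroup G) : Set G) →
      H = P ∨ H = Subgroup.normalizer ((P : Subgroup G) : Set G) := fun H h1 h2 => by
    have d1 := Subgroup.card_dvd_of_le h1
    have d2 := Subgroup.card_dvd_of_le h2
    rw [hP] at d1
    rw [hN] at d2
    obtain ⟨c, hc⟩ := d1
    rw [hc, mul_comm p c] at d2
    have d3 := Nat.dvd_of_mul_dvd_mul_right hpr.pos d2
    rcases (Nat.dvd_prime Nat.prime_two).mp d3 with e | e <;> rw [e] at hc
    · exact Or.inl (Subgroup.eq_of_le_of_card_ge h1 (by rw [hc, hP, mul_one])).symm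
    · exact Or.inr (Subgroup.eq_of_le_of_card_ge h2 (by rw [hc, hN, mul_comm]))
  have hC : Subgroup.centralizer ((P : Subgroup G) : Set G) = P := by
    refine (hcases _ hPC hCle).resolve_right fun h => hPnn ?_
    have h1 := hcomplement ⊤ inferInstance le_top (by rw [inf_top_eq, h])
    rw [← h1]; infer_instance
  haveI hsimple : IsSimpleGroup G := by
    haveI : Nontrivial G := by
      rw [← Finite.one_lt_card_iff_nontrivial]
      exact lt_of_lt_of_le hpr.one_lt (Nat.le_of_dvd Nat.card_pos hpGd)
    refine ⟨fun M hM => (hnormal M hM).imp id fun hd => ?_⟩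
    haveI := hM
    obtain ⟨y, hy⟩ := exists_prime_orderOf_dvd_card' (G := M) p hd
    have hy' : orderOf (y : G) = p := by rw [Subgroup.orderOf_coe, hy]
    obtain ⟨Q, hQ⟩ := SmallGroups.exists_mem_sylow hy'
    obtain ⟨g, hg⟩ := MulAction.exists_smul_eq G Q P
    have hQM : (Q : Subgroup G) ≤ M := by
      rw [← Subgroup.eq_of_le_of_card_ge (Subgroup.zpowers_le.mpr hQ)
        (by rw [Nat.card_zpowers, hy', hsylow Q])]
      exact Subgroup.zpowers_le.mpr y.2
    have hPM : (P : Subgroup G) ≤ M := by
      rw [← hg, Sylow.coe_subgroup_smul]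
      calc MulAut.conj g • (Q : Subgroup G) ≤ MulAut.conj g • M :=
            Subgroup.pointwise_smul_le_pointwise_smul_iff.mpr hQM
        _ = M := Subgroup.Normal.conj_smul_eq_self g M
    rcases hcases (Subgroup.normalizer ((P : Subgroup G) : Set G) ⊓ M)
        (le_inf Subgroup.le_normalizer hPM) inf_le_left with h | h
    · exfalso
      have h1 := hcomplement M hM hPM (by rw [h]; exact hPC)
      exact hPnn (h1 ▸ hM)
    · rw [inf_eq_left] at h
      rw [eq_top_iff, ← Sylow.normalizer_sup_eq_top (P.subtype hPM)]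
      refine sup_le ?_ le_rfl
      rw [Sylow.coe_subtype, Subgroup.map_subgroupOf_eq_of_le hPM]
      exact h
  have hnc : ¬ IsMulCommutative G := fun h =>
    hPnn ⟨fun x hx g => by rwa [show g * x * g⁻¹ = x by rw [mul_comm' g x, mul_inv_cancel_right]]⟩
  -- the permutation character
  obtain ⟨x₀⟩ := hnontriv.to_nonempty
  let f : G → ℂ := fun g => (Nat.card (fixedBy α g) : ℂ)
  have horb : Fintype.card (Quotient (orbitRel G α)) = 1 :=
    Fintype.card_eq_one_iff.mpr ⟨Quotient.mk _ x₀, fun q => Quotient.inductionOn q fun y =>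
      Quotient.sound (exists_smul_eq G x₀ y)⟩
  have hsum : ∑ g, f g = (Nat.card G : ℂ) := by
    have h := sum_card_fixedBy_eq_card_orbits_mul_card_group G α
    rw [horb, one_mul] at h
    simp only [f, Nat.card_eq_fintype_card]
    exact_mod_cast h
  have hsq : ∑ g, f g * conj (f g) ≠ 2 * (Nat.card G : ℂ) := fun h => by
    apply sum_sq_ne G hnot2
    simp only [f, map_natCast, Nat.card_eq_fintype_card] at h
    simp only [sq]
    exact_mod_cast h
  obtain ⟨χ, hχ⟩ := CharDeep.OrderP.exists_small_degree hnc hp5 (P : Subgroup G) hP hC hN f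
    (S2544.isCharacter_perm x₀)
    (by simp [f, hα])
    (fun g hg => by simp only [f, hfix0 g hg, Nat.cast_zero]) hsum hsq
  obtain ⟨hcardG, hinv, a, F, _, _, ha2, hpa, -, -⟩ :=
    CharDeep.OrderP.recognition hnc hp5 P hP hC hN ⟨χ, hχ⟩
  by_cases hp5' : p = 5
  · refine ⟨hp5', S0494.result ?_⟩
    rw [hcardG, hp5']
  exfalso
  -- point stabilisers against a Sylow two-subgroup
  have hq : p - 1 = 2 ^ a := by omega
  have hq8 : 8 ≤ p - 1 := by
    rw [hq]
    rcases (show a = 2 ∨ 3 ≤ a by omega) with h | h
    · exfalso; rw [h] at hpa; omega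
    · calc 8 = 2 ^ 3 := by norm_num
        _ ≤ _ := Nat.pow_le_pow_right (by norm_num) h
  have hodd : p % 2 = 1 := Nat.odd_iff.mp (hpr.odd_of_ne_two (by omega))
  have hev : 2 ∣ Nat.card G := by
    rw [hcardG]; exact Dvd.dvd.mul_left (Dvd.dvd.mul_right (by omega) _) _
  obtain ⟨w, hw⟩ := exists_prime_orderOf_dvd_card' 2 hev
  set T := Subgroup.centralizer ({w} : Set G) with hTdef
  have hTcard : Nat.card T = p - 1 := (hinv w hw).1
  have hTord : ∀ t ∈ T, t ≠ 1 → orderOf t = 2 := fun t ht ht1 =>
    orderOf_eq_prime ((hinv w hw).2.1 t ht) ht1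
  have hTcent : ∀ t ∈ T, t ≠ 1 → Subgroup.centralizer ({t} : Set G) = T := fun t ht ht1 => by
    refine (Subgroup.eq_of_le_of_card_ge ?_ ?_).symm
    · intro c hc
      rw [Subgroup.mem_centralizer_singleton_iff]
      have hi : ∀ d ∈ T, d⁻¹ = d := fun d hd => by
        apply inv_eq_of_mul_eq_one_right
        rw [← sq]; exact (hinv w hw).2.1 d hd
      have := hi (c * t) (mul_mem hc ht)
      rw [mul_inv_rev, hi c hc, hi t ht] at this
      exact this.symm
    · rw [hTcard, (hinv t (hTord t ht ht1)).1]
  have hstab : ∀ x : α, Nat.card (stabilizer G x) * 2 = (p - 1) * (p - 2) := fun x => by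
    have h := Subgroup.card_mul_index (stabilizer G x)
    rw [index_stabilizer_of_transitive, Nat.card_eq_fintype_card (α := α), hα, hcardG] at h
    apply Nat.eq_of_mul_eq_mul_right hpr.pos
    linear_combination h
  have hmeet : ∀ x : α, T ⊓ stabilizer G x ≠ ⊥ →
      2 * Nat.card ↥(T ⊓ stabilizer G x) = p - 1 := by
    intro x hx
    obtain ⟨t, ht, ht1⟩ := (Subgroup.bot_or_exists_ne_one _).resolve_left hx
    obtain ⟨htT, htH⟩ := Subgroup.mem_inf.mp ht
    have ht1' : t ≠ 1 := ht1
    obtain ⟨V, hV⟩ := (IsPGroup.of_card (p := 2) (n := 1) (G := Subgroup.zpowers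
      (⟨t, htH⟩ : stabilizer G x)) (by
        rw [Nat.card_zpowers, Subgroup.orderOf_mk, hTord t htT ht1', pow_one])).exists_le_sylow
    have hVc : Nat.card (V : Subgroup (stabilizer G x)) = 2 ^ (a - 1) :=
      SmallGroups.card_sylow_eq (p := 2) (a := a - 1) (m := p - 2) (by
        apply Nat.eq_of_mul_eq_mul_right (show 0 < 2 by norm_num)
        rw [hstab x, hq, show a = a - 1 + 1 by omega, pow_succ]
        simp only [Nat.add_sub_cancel]
        ring) (by omega) V
    obtain ⟨S, hS⟩ := (V.2.map (stabilizer G x).subtype).exists_le_sylow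
    have hSc : Nat.card (S : Subgroup G) = p - 1 := by
      rw [SmallGroups.card_sylow_eq (p := 2) (a := a) (m := p * (p - 2))
        (by rw [hcardG, hq]; ring) (fun h => by
          rcases Nat.prime_two.dvd_mul.mp h with h' | h' <;> omega) S, hq]
    have htS : t ∈ (S : Subgroup G) :=
      hS ⟨⟨t, htH⟩, hV (Subgroup.mem_zpowers _), rfl⟩
    obtain ⟨k, hkS, hk1, hkc⟩ : ∃ k, k ∈ (S : Subgroup G) ∧ k ≠ 1 ∧
        (S : Subgroup G) ≤ Subgroup.centralizer ({k} : Set G) := by
      haveI : Nontrivial (S : Subgroup G) := by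
        rw [← Finite.one_lt_card_iff_nontrivial, hSc]; omega
      haveI : Nontrivial (Subgroup.center (S : Subgroup G)) := S.2.center_nontrivial
      obtain ⟨⟨⟨k, hkS⟩, hk⟩, hk1⟩ := exists_ne (1 : Subgroup.center (S : Subgroup G))
      refine ⟨k, hkS, fun h => hk1 (Subtype.ext (Subtype.ext h)), fun s hs => ?_⟩
      rw [Subgroup.mem_centralizer_singleton_iff]
      exact congrArg Subtype.val (Subgroup.mem_center_iff.mp hk ⟨s, hs⟩)
    have hko : orderOf k = 2 := by
      by_contra h
      obtain ⟨j, hj⟩ := S.2 ⟨k, hkS⟩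
      obtain ⟨i, -, hi⟩ := (Nat.dvd_prime_pow Nat.prime_two).mp
        (orderOf_dvd_of_pow_eq_one (congrArg Subtype.val hj))
      rcases i with _ | _ | i
      · exact hk1 (orderOf_eq_one_iff.mp (by simpa using hi))
      · exact h (by simpa using hi)
      · set u := k ^ (2 ^ (i + 1)) with hu
        have huo : orderOf u = 2 := by
          rw [hu, orderOf_pow' _ (pow_ne_zero _ two_ne_zero), hi, pow_succ 2 (i + 1), Nat.gcd_comm,
            Nat.gcd_eq_left (Dvd.intro 2 rfl), Nat.mul_div_cancel_left _ (Nat.two_pow_pos _)]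
        have h2 := orderOf_dvd_of_pow_eq_one ((hinv u huo).2.1 k (by
          rw [Subgroup.mem_centralizer_singleton_iff]
          exact ((Commute.refl k).pow_right _).eq))
        rw [hi] at h2
        have h4 : 2 ^ 2 ≤ 2 ^ (i + 1 + 1) := Nat.pow_le_pow_right (by norm_num) (by omega)
        have := Nat.le_of_dvd (by norm_num) h2
        omega
    have hSk : (S : Subgroup G) = Subgroup.centralizer ({k} : Set G) :=
      Subgroup.eq_of_le_of_card_ge hkc (by rw [(hinv k hko).1, hSc])
    have hkT : k ∈ T := by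
      rw [← hTcent t htT ht1', Subgroup.mem_centralizer_singleton_iff]
      have := Subgroup.mem_centralizer_singleton_iff.mp (hSk ▸ htS)
      exact this.symm
    have hST : (S : Subgroup G) = T := hSk.trans (hTcent k hkT hk1)
    have hdvd : Nat.card ↥(T ⊓ stabilizer G x) ∣ p - 1 :=
      hTcard ▸ Subgroup.card_dvd_of_le inf_le_left
    have hdvd2 : Nat.card ↥(T ⊓ stabilizer G x) * 2 ∣ (p - 1) * (p - 2) := by
      rw [← hstab x]
      exact Nat.mul_dvd_mul_right (Subgroup.card_dvd_of_le inf_le_right) 2
    have hle : (V : Subgroup (stabilizer G x)).map (stabilizer G x).subtype ≤ T ⊓ stabilizer G x :=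
      le_inf (hST ▸ hS) (Subgroup.map_subtype_le _)
    have hge := Subgroup.card_dvd_of_le hle
    rw [Subgroup.card_subtype, hVc] at hge
    rw [hq] at hdvd hdvd2 ⊢
    obtain ⟨i, hi, hi'⟩ := (Nat.dvd_prime_pow Nat.prime_two).mp hdvd
    rw [hi'] at hge hdvd2 ⊢
    have h1 := (Nat.pow_dvd_pow_iff_le_right (by norm_num)).mp hge
    have h2 : i ≠ a := fun h => by
      rw [h] at hdvd2
      have := Nat.dvd_of_mul_dvd_mul_left (Nat.two_pow_pos a) hdvd2
      omega
    rw [show a = i + 1 by omega, pow_succ]
    ring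
  -- double counting of the fixed points of the involutions in `T`
  have hconst : ∀ t ∈ T, t ≠ 1 → Nat.card (fixedBy α t) = Nat.card (fixedBy α w) := by
    intro t ht ht1
    obtain ⟨c, hc⟩ := isConj_iff.mp ((hinv w hw).2.2 t (hTord t ht ht1))
    rw [← hc, ← smul_fixedBy, Nat.card_coe_set_eq, Nat.card_coe_set_eq, Set.ncard_smul_set]
  have hwT : w ∈ T := Subgroup.mem_centralizer_singleton_iff.mpr rfl
  have hw1 : w ≠ 1 := fun h => by rw [h, orderOf_one] at hw; omega
  set φ := Nat.card (fixedBy α w) with hφ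
  have hφ0 : φ ≠ 0 := by
    have h2 : 2 ∣ Nat.card (stabilizer G x₀) := by
      rcases (show 4 ∣ p - 1 by
        rw [hq, show a = 2 + (a - 2) by omega, pow_add]; exact dvd_mul_right _ _) with ⟨c, hc⟩
      refine ⟨c * (p - 2), ?_⟩
      have := hstab x₀
      rw [hc] at this
      linarith
    obtain ⟨u, hu⟩ := exists_prime_orderOf_dvd_card' (G := stabilizer G x₀) 2 h2
    obtain ⟨c, hc⟩ := isConj_iff.mp ((hinv w hw).2.2 u (by rw [Subgroup.orderOf_coe, hu]))
    have : Nonempty (fixedBy α (u : G)) := ⟨⟨x₀, u.2⟩⟩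
    have h3 : Nat.card (fixedBy α (u : G)) ≠ 0 := Nat.card_pos.ne'
    rw [← hc, ← smul_fixedBy, Nat.card_coe_set_eq, Set.ncard_smul_set, ← Nat.card_coe_set_eq] at h3
    exact h3
  let Tx : α → ℕ := fun x => Nat.card ↥(T ⊓ stabilizer G x)
  let N : Finset α := Finset.univ.filter fun x => T ⊓ stabilizer G x ≠ ⊥
  have htot : ∑ t : T, Nat.card (fixedBy α (t : G)) = ∑ x : α, Tx x := by
    simp only [Tx, Nat.card_eq_fintype_card, Fintype.card_subtype, mem_fixedBy, Subgroup.mem_inf,
      mem_stabilizer_iff, Finset.card_filter]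
    rw [Finset.sum_comm]
    refine Finset.sum_congr rfl fun x _ => ?_
    rw [← Finset.sum_filter, ← Finset.sum_filter, Finset.sum_const, Finset.sum_const, smul_eq_mul,
      smul_eq_mul, mul_one, mul_one]
    refine Finset.card_bij (fun t _ => (t : G)) (fun t ht => ?_) (fun s _ t _ h => Subtype.ext h)
      (fun g hg => ?_)
    · simp only [Finset.mem_filter, Finset.mem_univ, true_and] at ht ⊢
      exact ⟨t.2, ht⟩
    · simp only [Finset.mem_filter, Finset.mem_univ, true_and] at hg
      exact ⟨⟨g, hg.1⟩, by simpa using hg.2, rfl⟩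
  have hlhs : ∑ t : T, Nat.card (fixedBy α (t : G)) = 2 * p + (p - 2) * φ := by
    rw [← Finset.add_sum_erase _ _ (Finset.mem_univ (1 : T)),
      Finset.sum_congr rfl (g := fun _ => φ) (fun (t : T) ht => hconst (t : G) t.2
        (fun h => Finset.ne_of_mem_erase ht (Subtype.ext h))),
      Finset.sum_const, Finset.card_erase_of_mem (Finset.mem_univ _), Finset.card_univ,
      ← Nat.card_eq_fintype_card, hTcard, smul_eq_mul, Nat.sub_sub, OneMemClass.coe_one,
      fixedBy_one_eq_univ, Nat.card_coe_set_eq, Set.ncard_univ, Nat.card_eq_fintype_card, hα]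
  have hrhs : 2 * ∑ x : α, Tx x = N.card * (p - 3) + 4 * p := by
    have h1 : ∀ x, 2 * Tx x = (if T ⊓ stabilizer G x ≠ ⊥ then p - 3 else 0) + 2 := fun x => by
      by_cases hx : T ⊓ stabilizer G x = ⊥
      · simp only [Tx, hx, Subgroup.card_bot, ne_eq, not_true, if_false]
      · rw [if_pos hx]
        have := hmeet x hx
        simp only [Tx]
        omega
    rw [Finset.mul_sum, Finset.sum_congr rfl fun x _ => h1 x, Finset.sum_add_distrib,
      Finset.sum_const, Finset.card_univ, hα, ← Finset.sum_filter, Finset.sum_const, smul_eq_mul,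
      smul_eq_mul, show (2 * p) * 2 = 4 * p by ring]
  have hmain : 2 * ((p - 2) * φ) = N.card * (p - 3) := by
    have := hrhs
    rw [← htot, hlhs] at this
    omega
  have hNle : N.card ≤ 2 * p := hα ▸ Finset.card_le_univ N
  -- orbit counting for `T`
  have hmod : p - 1 ∣ 2 * p + (p - 2) * φ := by
    have h := sum_card_fixedBy_eq_card_orbits_mul_card_group T α
    rw [← hlhs, ← hTcard, Nat.card_eq_fintype_card (α := T)]
    refine Dvd.intro_left (Fintype.card (Quotient (orbitRel T α))) (h.symm.trans ?_)
    exact Finset.sum_congr rfl fun t _ => Nat.card_eq_fintype_card.symm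
  obtain ⟨r, hr⟩ : ∃ r, p = 2 * r + 3 := ⟨(p - 3) / 2, by omega⟩
  have e1 : p - 2 = 2 * r + 1 := by omega
  have e2 : p - 3 = 2 * r := by omega
  rw [e1, e2] at hmain
  have hN : 2 * r + 1 ∣ N.card := by
    have h1 : 2 * r + 1 ∣ N.card * r := ⟨φ, by linarith⟩
    exact (Nat.Coprime.dvd_of_dvd_mul_right (by
      rw [show 2 * r + 1 = 1 + 2 * r by ring, Nat.coprime_add_mul_right_left]
      exact Nat.coprime_one_left r) h1)
  obtain ⟨c, hc⟩ := hN
  have hc2 : c ≤ 2 := by
    by_contra h
    have : (2 * r + 1) * 3 ≤ (2 * r + 1) * c := Nat.mul_le_mul_left _ (by omega)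
    omega
  have hφc : φ = c * r := by
    rw [hc] at hmain
    apply Nat.eq_of_mul_eq_mul_left (show 0 < 2 * (2 * r + 1) by omega)
    linarith
  rw [hφc, e1, show p - 1 = 2 * r + 2 by omega, hr] at hmod
  obtain ⟨d, hd⟩ := hmod
  interval_cases c
  · exact hφ0 (by omega)
  · have hd1 : d ≠ 0 := fun h => by rw [h, mul_zero] at hd; omega
    have h1 : (2 * r + 2) * d = (2 * r + 2) * r + (2 * r + 2) * 2 + 2 - r := by
      rw [← hd]; ring_nf; omega
    rcases Nat.lt_or_ge d (r + 2) with h | h
    · have := Nat.mul_le_mul_left (2 * r + 2) (show d + 1 ≤ r + 2 by omega)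
      rw [mul_add, mul_add] at this
      omega
    · have := Nat.mul_le_mul_left (2 * r + 2) h
      rw [mul_add] at this
      omega
  · have h1 : (2 * r + 2) * d + 2 * r = (2 * r + 2) * (2 * r) + (2 * r + 2) * 2 + 2 := by
      rw [← hd]; ring
    rcases Nat.lt_or_ge d (2 * r + 1) with h | h
    · have := Nat.mul_le_mul_left (2 * r + 2) (show d ≤ 2 * r by omega)
      omega
    · rcases Nat.lt_or_ge d (2 * r + 2) with h' | h'
      · rw [show d = 2 * r + 1 by omega, mul_add] at h1
        omega
      · have := Nat.mul_le_mul_left (2 * r + 2) h'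
        rw [mul_add] at this
        omega

end Cfsg.Agent.S4707
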