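import Cfsg.Statements.S4708
import Cfsg.Agent.BC84.OverSylow

set_option autoImplicit false
open Cfsg

namespace Cfsg.Agent.S4708

open Cfsg.Agent.BlocksCore
open scoped ComplexConjugate

/-- Let p be a prime, M a maximal ideal of the algebraic integers containing p, G a finite group and H a normal subgroup. Write λ(X) for the sum of the squares of the degrees of the irreducible characters in the principal p-block of a group X. Then λ(H) ≤ λ(G) ≤ [G : H]·λ(H). -/
theorem result {G : Type*} [Group G] [Finite G] (p : ℕ) [Fact p.Prime] (M : Ideal Cfsg.AlgInt) (hM : Cfsg.IsPModular p M) (H : Subgroup G) [H.Normal] : (∑ᶠ θ ∈ Cfsg.principalBlock M H, Cfsg.charDegree (θ : H → ℂ) ^ 2) ≤ (∑ᶠ χ ∈ Cfsg.principalBlock M G, Cfsg.charDegree (χ : G → ℂ) ^ 2) ∧ (∑ᶠ χ ∈ Cfsg.principalBlock M G, Cfsg.charDegree (χ : G → ℂ) ^ 2) ≤ H.index * ∑ᶠ θ ∈ Cfsg.principalBlock M H, Cfsg.charDegree (θ : H → ℂ) ^ 2 := by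
  classical
  haveI := isPrime hM
  have := Fintype.ofFinite G
  have := Fintype.ofFinite H
  let f : Cfsg.IrrCharacter H → ℕ := fun θ => Cfsg.charDegree (θ : H → ℂ)
  let F : Cfsg.IrrCharacter G → ℕ := fun χ => Cfsg.charDegree (χ : G → ℂ)
  set bs := Finset.univ.filter (· ∈ Cfsg.principalBlock M H) with hbs
  set Bs := Finset.univ.filter (· ∈ Cfsg.principalBlock M G) with hBs
  have hb : (∑ᶠ θ ∈ Cfsg.principalBlock M H, Cfsg.charDegree (θ : H → ℂ) ^ 2) = ∑ θ ∈ bs, f θ ^ 2 :=
    by rw [finsum_mem_eq_finite_toFinset_sum _ (Set.toFinite _)]; exact Finset.sum_congr (by ext; simp [hbs]) fun _ _ => rfl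
  have hB : (∑ᶠ χ ∈ Cfsg.principalBlock M G, Cfsg.charDegree (χ : G → ℂ) ^ 2) = ∑ χ ∈ Bs, F χ ^ 2 :=
    by rw [finsum_mem_eq_finite_toFinset_sum _ (Set.toFinite _)]; exact Finset.sum_congr (by ext; simp [hBs]) fun _ _ => rfl
  rw [hb, hB]
  choose m hm using fun (χ : Cfsg.IrrCharacter G) (θ : Cfsg.IrrCharacter H) =>
    CharCore.IsCharacter.exists_classInner_irr_eq_natCast
      (CharCore.isCharacter_restrict (CharCore.irr_isCharacter χ) H) θ
  have hF : ∀ χ, F χ = ∑ θ, m χ θ * f θ := by
    intro χ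
    have h := congrFun (CharCore.IsCharacter.eq_sum_classInner
      (CharCore.isCharacter_restrict (CharCore.irr_isCharacter χ) H)) 1
    simp only [Finset.sum_apply, Pi.smul_apply, smul_eq_mul, hm, Subgroup.coe_one, irr_one_eq] at h
    exact_mod_cast h
  have hin : ∀ χ ∈ Bs, ∀ θ, m χ θ ≠ 0 → θ ∈ bs := by
    intro χ hχ θ hne
    refine Finset.mem_filter.mpr ⟨Finset.mem_univ _, ?_⟩
    exact BC84.mem_principalBlock_of_constituent hM χ θ (by rw [hm]; exact_mod_cast hne)
      (Finset.mem_filter.mp hχ).2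
  constructor
  · calc ∑ θ ∈ bs, f θ ^ 2
        ≤ ∑ θ ∈ bs, ∑ χ ∈ Bs, (if m χ θ = 0 then 0 else f θ ^ 2) := by
          refine Finset.sum_le_sum fun θ hθ => ?_
          obtain ⟨χ, hχ, hne⟩ := BC84.exists_over_principal hM H θ (Finset.mem_filter.mp hθ).2
          refine le_trans ?_ (Finset.single_le_sum (fun _ _ => Nat.zero_le _)
            (Finset.mem_filter.mpr ⟨Finset.mem_univ χ, hχ⟩))
          rw [if_neg]
          intro h0
          exact hne (by rw [hm, h0, Nat.cast_zero])
      _ = ∑ χ ∈ Bs, ∑ θ ∈ bs, (if m χ θ = 0 then 0 else f θ ^ 2) := Finset.sum_comm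
      _ ≤ ∑ χ ∈ Bs, F χ ^ 2 := by
          refine Finset.sum_le_sum fun χ _ => ?_
          refine le_trans (Finset.sum_le_sum (g := fun θ => (m χ θ * f θ) ^ 2) fun θ _ => ?_)
            (le_trans (Finset.sum_le_univ_sum_of_nonneg fun _ => Nat.zero_le _) ?_)
          · split_ifs with h
            · exact Nat.zero_le _
            · exact Nat.pow_le_pow_left (Nat.le_mul_of_pos_left _ (Nat.pos_of_ne_zero h)) 2
          · rw [hF χ, sq, Finset.sum_mul]
            refine Finset.sum_le_sum fun θ _ => ?_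
            rw [sq]
            exact Nat.mul_le_mul le_rfl (Finset.single_le_sum
              (f := fun θ => m χ θ * f θ) (fun _ _ => Nat.zero_le _) (Finset.mem_univ θ))
  · have hind : ∀ θ : Cfsg.IrrCharacter H, ∑ χ, m χ θ * F χ = H.index * f θ := by
      intro θ
      have hc := CharInd.isClassFunction_indFun H (θ : H → ℂ)
      have h := congrFun (CharCore.eq_sum_classInner hc) 1
      simp only [Finset.sum_apply, Pi.smul_apply, smul_eq_mul, CharInd.indFun_apply_one, irr_one_eq,
        CharInd.classInner_indFun_left H _ (CharCore.irr_isClassFunction _)] at h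
      have hsw : ∀ χ : Cfsg.IrrCharacter G,
          Cfsg.classInner (θ : H → ℂ) (fun n : H => (χ : G → ℂ) n) = (m χ θ : ℂ) := fun χ => by
        rw [← CharInd.classInner_swap, hm, Complex.conj_natCast]
      simp only [hsw] at h
      exact_mod_cast h.symm
    calc ∑ χ ∈ Bs, F χ ^ 2 = ∑ χ ∈ Bs, ∑ θ ∈ bs, F χ * (m χ θ * f θ) := by
          refine Finset.sum_congr rfl fun χ hχ => ?_
          rw [sq, ← Finset.mul_sum]
          congr 1
          rw [hF χ]
          exact (Finset.sum_subset (Finset.subset_univ _) fun θ _ hθ => by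
            rw [not_not.mp (mt (hin χ hχ θ) hθ), zero_mul]).symm
      _ = ∑ θ ∈ bs, f θ * ∑ χ ∈ Bs, m χ θ * F χ := by
          rw [Finset.sum_comm]
          refine Finset.sum_congr rfl fun θ _ => ?_
          rw [Finset.mul_sum]
          exact Finset.sum_congr rfl fun χ _ => by ring
      _ ≤ ∑ θ ∈ bs, f θ * (H.index * f θ) := Finset.sum_le_sum fun θ _ => by
          refine Nat.mul_le_mul_left _ ?_
          rw [← hind θ]
          exact Finset.sum_le_univ_sum_of_nonneg fun _ => Nat.zero_le _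
      _ = H.index * ∑ θ ∈ bs, f θ ^ 2 := by
          rw [Finset.mul_sum]
          exact Finset.sum_congr rfl fun θ _ => by ring

end Cfsg.Agent.S4708
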