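import Cfsg.Statements.S4709
import Cfsg.Agent.Lib.BlocksCore.AbelianShape

set_option autoImplicit false
open Cfsg

namespace Cfsg.Agent.S4709

/-- Let p be a prime, M a maximal ideal of the algebraic integers containing p, and G a finite group with a nontrivial abelian Sylow p-subgroup P; put N = N_G(P), C = C_G(P). Suppose N/C is cyclic of order m with 1 < m < #P − 1 (C has index m in N and N is generated by C and one element), and C_G(y) ∩ N = C for every non-identity y ∈ P. Put r = (#P − 1)/m. Then there is s ≤ m such that the principal p-block is the disjoint union of a set X of s characters containing the principal character and a set Y of r characters, with integers a_χ ≠ 0 (χ ∈ X), d and a sign δ = ±1, such that: every χ ∈ X takes the value a_χ at every element whose p-part is a non-identity element of P; there is a map ζ from the non-principal linear characters ψ of P onto Y, constant on N-conjugacy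 classes, with ζ_ψ(z) = d + δ·Σ ψ'(y) for every z whose p-part y is a non-identity element of P, the sum running over the N-conjugates ψ' of ψ; (d − δ)^2 + (r − 1) d^2 + Σ_{χ ∈ X} a_χ^2 = m + 1; all members of Y agree on p-regular elements; and (r d − δ) η(g) + Σ_{χ ∈ X} a_χ χ(g) = 0 for every η ∈ Y and every p-regular g. -/
theorem result {G : Type*} [Group G] [Finite G] (p : ℕ) [Fact p.Prime] (M : Ideal Cfsg.AlgInt) (hM : Cfsg.IsPModular p M) (P : Sylow p G) (hab : IsMulCommutative P) (hP1 : Nat.card P ≠ 1) (m : ℕ) (hm1 : 1 < m) (hm2 : m + 1 < Nat.card P) (hCN : (Subgroup.centralizer ((P : Subgroup G) : Set G)).relIndex (Subgroup.normalizer ((P : Subgroup G) : Set G)) = m) (hcyc : ∃ g : G, g ∈ Subgroup.normalizer ((P : Subgroup G) : Set G) ∧ Subgroup.centralizer ((P : Subgroup G) : Set G) ⊔ Subgroup.zpowers g = Subgroup.normalizer ((P : Subgroup G) : Set G)) (hfrob : ∀ y : G, y ∈ (P : Subgroup G) → y ≠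 1 → Subgroup.centralizer ({y} : Set G) ⊓ Subgroup.normalizer ((P : Subgroup G) : Set G) = Subgroup.centralizer ((P : Subgroup G) : Set G)) : ∃ (s : ℕ) (X Y : Set (Cfsg.IrrCharacter G)), s ≤ m ∧ Cfsg.principalBlock M G = X ∪ Y ∧ Disjoint X Y ∧ Nat.card X = s ∧ Nat.card Y = (Nat.card P - 1) / m ∧ (∃ χ₁ ∈ X, (χ₁ : G → ℂ) = fun _ => 1) ∧ ∃ (a : Cfsg.IrrCharacter G → ℤ) (d δ : ℤ) (ζ : (↥(P : Subgroup G) →* ℂˣ) → Cfsg.IrrCharacter G), (δ = 1 ∨ δ = -1) ∧ (∀ χ ∈ X, a χ ≠ 0 ∧ ∀ z y : G, Cfsg.IsPPart p z y → y ∈ (P : Subgroup G) → y ≠ 1 → (χ : G → ℂ) z = (a χ : ℂ)) ∧ (∀ ψ : ↥(P : Subgroup G) →* ℂˣ, ψ ≠ 1 → ζ ψ ∈ Y) ∧ (∀ η ∈ Y, ∃ ψ : ↥(P : Subgroup G) →* ℂˣ, ψ ≠ 1 ∧ ζ ψ = η) ∧ (∀ ψ ψ' : ↥(P : Subgroup G) →* ℂˣ, ψ ≠ 1 → (∃ n : G, n ∈ Subgroup.normalizer ((P : Subgroup G) : Set G) ∧ ∀ w w' : ↥(P : Subgroup G), (w' : G) = n * w * n⁻¹ → ψ' w' = ψ w) → ζ ψ' = ζ ψ) ∧ (∀ ψ : ↥(P : Subgroup G) →* ℂˣ, ψ ≠ 1 → ∀ (z : G) (y :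 ↥(P : Subgroup G)), Cfsg.IsPPart p z (y : G) → (y : G) ≠ 1 → (ζ ψ : G → ℂ) z = (d : ℂ) + (δ : ℂ) * ∑ᶠ ψ' ∈ {ψ' : ↥(P : Subgroup G) →* ℂˣ | ∃ n : G, n ∈ Subgroup.normalizer ((P : Subgroup G) : Set G) ∧ ∀ w w' : ↥(P : Subgroup G), (w' : G) = n * w * n⁻¹ → ψ' w' = ψ w}, ((ψ' y : ℂˣ) : ℂ)) ∧ ((d - δ) ^ 2 + ((Nat.card P - 1) / m - 1 : ℤ) * d ^ 2 + ∑ᶠ χ ∈ X, a χ ^ 2 = (m : ℤ) + 1) ∧ (∀ η ∈ Y, ∀ η' ∈ Y, ∀ g : G, ¬ p ∣ orderOf g → (η : G → ℂ) g = (η' : G → ℂ) g) ∧ (∀ η ∈ Y, ∀ g : G, ¬ p ∣ orderOf g → ((((Nat.card P - 1) / m : ℕ) : ℂ) * d - δ) * (η : G → ℂ) g + ∑ᶠ χ ∈ X, (a χ : ℂ) * (χ : G → ℂ) g = 0) := by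
  classical
  subst hCN
  set m := (Subgroup.centralizer ((P : Subgroup G) : Set G)).relIndex
    (Subgroup.normalizer ((P : Subgroup G) : Set G)) with hm
  clear_value m
  have := BlocksCore.isPrime hM
  have := Fintype.ofFinite G
  have := Fintype.ofFinite (P : Subgroup G)
  have h : BlocksCore.AbelianPrincipal.Free P := ⟨hab, hfrob⟩
  have hrm := BlocksCore.AbelianPrincipal.card_orb_mul h
  rw [← hm] at hrm
  have hr2 : 2 ≤ Fintype.card (BlocksCore.AbelianPrincipal.Orb P) := by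
    rcases Nat.lt_or_ge (Fintype.card (BlocksCore.AbelianPrincipal.Orb P)) 2 with hlt | hge
    · have := Nat.mul_le_mul_right m (Nat.le_of_lt_succ hlt)
      omega
    · exact hge
  haveI : Nontrivial (BlocksCore.AbelianPrincipal.Orb P) :=
    Fintype.one_lt_card_iff_nontrivial.mp hr2
  obtain ⟨D⟩ : Nonempty (BlocksCore.AbelianShape.Data M P m) := by
    rw [hm]; exact BlocksCore.AbelianShape.exists_data hM h
  have hsplit := D.norm_split hM h
  set r := Fintype.card (BlocksCore.AbelianPrincipal.Orb P) with hr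
  have hq : ((Nat.card P : ℤ) - 1) / (m : ℤ) = (r : ℤ) := by
    have h1 : ((Nat.card P : ℤ) - 1) = (r : ℤ) * m := by
      rw [← Nat.cast_mul, hrm, Nat.cast_sub Nat.card_pos, Nat.cast_one]
    rw [h1, Int.mul_ediv_cancel _ (by omega)]
  have hqn : (Nat.card P - 1) / m = r := by rw [← hrm, Nat.mul_div_cancel _ (by omega)]
  have hXm : D.X.card ≤ m := by
    have h1 : (D.X.card : ℤ) ≤ ∑ χ ∈ D.X, D.c χ * D.c χ := by
      simpa using Finset.card_nsmul_le_sum D.X (fun χ => D.c χ * D.c χ) 1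
        (fun χ hχ => mul_self_pos.mpr (D.c_ne_zero hM h hP1 hχ))
    have h2 : 0 ≤ (r : ℤ) * (D.d * D.d) + 2 * D.ε * D.d := by
      have h3 := mul_le_mul_of_nonneg_right (show (2 : ℤ) ≤ r by exact_mod_cast hr2)
        (mul_self_nonneg D.d)
      have h4 : 0 ≤ D.d * D.d + D.ε * D.d := by
        rcases lt_trichotomy D.d 0 with hd | hd | hd
        · have : D.d ≤ -1 := by omega
          rcases D.sign with hs | hs <;> rw [hs] <;> nlinarith
        · simp [hd]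
        · have : 1 ≤ D.d := by omega
          rcases D.sign with hs | hs <;> rw [hs] <;> nlinarith
      linarith
    have h5 : (D.X.card : ℤ) ≤ m := by linarith
    exact_mod_cast h5
  refine ⟨D.X.card, ↑D.X, Set.range D.f, hXm, D.principal_eq hM h, ?_, ?_, ?_, ?_, fun χ => -D.c χ,
    -D.d, D.ε, D.zeta, D.sign, ?_, ?_, ?_, ?_, ?_, ?_, ?_, ?_⟩
  · rw [Set.disjoint_right]
    rintro _ ⟨o, rfl⟩ hX
    exact ((D.mem_X hM h).mp hX).2 o rfl
  · rw [Nat.card_coe_set_eq, Set.ncard_coe_finset]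
  · rw [Nat.card_range_of_injective D.inj, Nat.card_eq_fintype_card, hqn, ← hr]
  · exact ⟨BlocksDefect.oneIrr G, D.one_mem_X hM h, rfl⟩
  · intro χ hχ
    refine ⟨neg_ne_zero.mpr (D.c_ne_zero hM h hP1 hχ), fun z y hz hy hy1 => ?_⟩
    exact D.apply_X hM h hχ hz hy hy1
  · intro ψ hψ
    rw [BlocksCore.AbelianShape.Data.zeta, dif_neg hψ]
    exact ⟨_, rfl⟩
  · rintro _ ⟨o, rfl⟩
    obtain ⟨⟨ψ, hψ⟩, rfl⟩ := Quotient.exists_rep o
    refine ⟨ψ, hψ, ?_⟩
    rw [BlocksCore.AbelianShape.Data.zeta, dif_neg hψ]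
  · intro ψ ψ' hψ hex
    have hrel := BlocksCore.AbelianPrincipal.rel_iff.mpr hex
    have hψ' : ψ' ≠ 1 := by
      rintro rfl
      obtain ⟨n, hn⟩ := hrel
      rw [MonoidHom.one_comp] at hn
      exact hψ hn.symm
    rw [BlocksCore.AbelianShape.Data.zeta, BlocksCore.AbelianShape.Data.zeta, dif_neg hψ,
      dif_neg hψ', (BlocksCore.AbelianPrincipal.orb_eq_iff hψ hψ').mpr hrel]
  · intro ψ hψ z y hz hy1
    rw [BlocksCore.AbelianShape.Data.zeta, dif_neg hψ]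
    exact D.apply_f hM h hψ hz hy1
  · rw [finsum_mem_coe_finset, hq]
    have hsq : D.ε * D.ε = 1 := by rcases D.sign with hs | hs <;> rw [hs] <;> rfl
    have hsum : ∑ χ ∈ D.X, (-D.c χ) ^ 2 = ∑ χ ∈ D.X, D.c χ * D.c χ :=
      Finset.sum_congr rfl fun χ _ => by ring
    rw [hsum]
    linear_combination hsplit + hsq
  · rintro _ ⟨i, rfl⟩ _ ⟨j, rfl⟩ g hg
    exact D.eq_regular hM h i j hg
  · rintro _ ⟨i, rfl⟩ g hg
    rw [finsum_mem_coe_finset, hqn]
    have h1 := D.regular_relation hM h i hg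
    push_cast
    simp only [neg_mul, Finset.sum_neg_distrib]
    linear_combination -h1

end Cfsg.Agent.S4709
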