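import Cfsg.Statements.S4711
import Cfsg.Agent.BC87.Basic
import Cfsg.Agent.BC84.PrincipalDegree
import Cfsg.Agent.Lib.BlocksDefect.Kernel
import Cfsg.Agent.Lib.Thompson.Cores

set_option autoImplicit false
open Cfsg

namespace Cfsg.Agent.S4711

open BlocksCore
open scoped ComplexConjugate

universe v

variable {G : Type v} [Group G] [Finite G] {p : ℕ}

theorem series_two_le_iff (P : Sylow p G) [Fact p.Prime] :
    PLengthLE p 1 G ↔ (P : Subgroup G) ≤ (upperPSeries p G 2).1 := by
  set U := (upperPSeries p G 2).1 with hU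
  haveI : U.Normal := (upperPSeries p G 2).2
  have h3 : (upperPSeries p G (2 * 1 + 1)).1 =
      (pPrimeCore p (G ⧸ U)).comap (QuotientGroup.mk' U) := by
    show (upperPSeries p G (2 + 1)).1 = _
    rw [upperPSeries, if_pos (by decide : Even 2)]
  rw [PLengthLE, h3]
  constructor
  · intro h x hx
    rw [← QuotientGroup.eq_one_iff x]
    have hmem : (x : G ⧸ U) ∈ pPrimeCore p (G ⧸ U) := by
      have : x ∈ (pPrimeCore p (G ⧸ U)).comap (QuotientGroup.mk' U) := h ▸ Subgroup.mem_top x
      exact this
    obtain ⟨k, hk⟩ := P.isPGroup'.to_le le_rfl ⟨x, hx⟩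
    have hk' : x ^ p ^ k = 1 := congrArg Subtype.val hk
    have h1 : orderOf (x : G ⧸ U) ∣ p ^ k :=
      orderOf_dvd_of_pow_eq_one (by rw [← QuotientGroup.mk_pow, hk', QuotientGroup.mk_one])
    have h2 : orderOf (x : G ⧸ U) ∣ Nat.card (pPrimeCore p (G ⧸ U)) :=
      Subgroup.orderOf_coe (⟨_, hmem⟩ : pPrimeCore p (G ⧸ U)) ▸ orderOf_dvd_natCard _
    exact orderOf_eq_one_iff.mp (Nat.eq_one_of_dvd_coprimes
      ((Thompson.card_pPrimeCore_coprime (p := p) (G := G ⧸ U)).symm.pow_left k) h1 h2)
  · intro h
    rw [eq_top_iff]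
    intro x _
    show (x : G ⧸ U) ∈ pPrimeCore p (G ⧸ U)
    refine Thompson.le_pPrimeCore (N := ⊤) inferInstance ?_ (Subgroup.mem_top _)
    rw [Subgroup.card_top, ← Subgroup.index_eq_card]
    exact ((Fact.out : p.Prime).coprime_iff_not_dvd.mpr fun hd =>
      P.not_dvd_index (hd.trans (Subgroup.index_dvd_of_le h))).symm

theorem series_one_coprime [Fact p.Prime] :
    (Nat.card (upperPSeries p G 1).1).Coprime p := by
  have h1 : (upperPSeries p G 1).1 =
      (pPrimeCore p (G ⧸ (⊥ : Subgroup G))).comap (QuotientGroup.mk' ⊥) := by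
    show (upperPSeries p G (0 + 1)).1 = _
    rw [upperPSeries, if_pos (by decide : Even 0)]
    rfl
  rw [h1]
  set K := (pPrimeCore p (G ⧸ (⊥ : Subgroup G))).comap (QuotientGroup.mk' ⊥)
  have hcard : Nat.card K = Nat.card (pPrimeCore p (G ⧸ (⊥ : Subgroup G))) := by
    conv_rhs => rw [← Subgroup.map_comap_eq_self_of_surjective
      (QuotientGroup.mk'_surjective (⊥ : Subgroup G)) (pPrimeCore p (G ⧸ (⊥ : Subgroup G)))]
    refine (Subgroup.card_map_of_injective ?_).symm
    exact (MonoidHom.ker_eq_bot_iff _).mp (QuotientGroup.ker_mk' _)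
  rw [hcard]
  exact Thompson.card_pPrimeCore_coprime

/-- The kernel of the principal block. -/
def bKer (M : Ideal AlgInt) : Subgroup G := ⨅ χ ∈ principalBlock M G, BC87.kerChar χ

theorem kerChar_normal (χ : IrrCharacter G) : (BC87.kerChar χ).Normal :=
  ⟨fun g hg h => (CharCore.irr_isClassFunction χ g h).trans hg⟩


/-- Let p be a prime, M a maximal ideal of the algebraic integers containing p, G a finite group, P a Sylow p-subgroup and N = N_G(P). Then G has p-length 1 (G = O_{p',p,p'}(G)) if and only if every irreducible character in the principal p-block of G restricts to an irreducible character of N. -/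
theorem result {G : Type*} [Group G] [Finite G] (p : ℕ) [Fact p.Prime] (M : Ideal Cfsg.AlgInt) (hM : Cfsg.IsPModular p M) (P : Sylow p G) : Cfsg.PLengthLE p 1 G ↔ ∀ χ ∈ Cfsg.principalBlock M G, Cfsg.IsIrrCharacter ↥(Subgroup.normalizer ((P : Subgroup G) : Set G)) (fun n : ↥(Subgroup.normalizer ((P : Subgroup G) : Set G)) => (χ : G → ℂ) n) := by
  classical
  have := isPrime hM
  have := Fintype.ofFinite G
  have := Fintype.ofFinite (IrrCharacter G)
  set U₁ := (upperPSeries p G 1).1 with hU₁def
  set U₂ := (upperPSeries p G 2).1 with hU₂def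
  haveI : U₁.Normal := (upperPSeries p G 1).2
  haveI : U₂.Normal := (upperPSeries p G 2).2
  set N := Subgroup.normalizer ((P : Subgroup G) : Set G) with hN
  have hU₁p : ¬ p ∣ Nat.card U₁ := fun h =>
    (Fact.out : p.Prime).coprime_iff_not_dvd.mp
      (Cfsg.Agent.S4711.series_one_coprime (G := G) (p := p)).symm h
  have h2eq : U₂ = (pCore p (G ⧸ U₁)).comap (QuotientGroup.mk' U₁) := by
    show (upperPSeries p G (1 + 1)).1 = _
    rw [upperPSeries, if_neg (by decide : ¬ Even 1)]
  rw [Cfsg.Agent.S4711.series_two_le_iff P]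
  constructor
  · intro hPU χ hχ
    have hU12 : U₁ ≤ U₂ := fun u hu => by
      rw [h2eq, Subgroup.mem_comap, QuotientGroup.mk'_apply, (QuotientGroup.eq_one_iff u).mpr hu]
      exact one_mem _
    have hUP : U₂ ≤ U₁ ⊔ (P : Subgroup G) := by
      rw [← Subgroup.relIndex_eq_one]
      obtain ⟨k, hk⟩ := IsPGroup.iff_card.mp
        (Thompson.isPGroup_pCore (p := p) (G := G ⧸ U₁))
      have h1 : U₁.relIndex U₂ = p ^ k := by
        have h0 : U₁.relIndex U₂ =
            ((⊥ : Subgroup (G ⧸ U₁)).comap (QuotientGroup.mk' U₁)).relIndex U₂ := by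
          rw [MonoidHom.comap_bot, QuotientGroup.ker_mk']
        rw [h0, Subgroup.relIndex_comap, h2eq,
          Subgroup.map_comap_eq_self_of_surjective (QuotientGroup.mk'_surjective U₁),
          Subgroup.relIndex_bot_left, hk]
      have h2 : (U₁ ⊔ (P : Subgroup G)).relIndex U₂ ∣ p ^ k :=
        h1 ▸ Subgroup.relIndex_dvd_of_le_left U₂ le_sup_left
      have h3 : ¬ p ∣ (U₁ ⊔ (P : Subgroup G)).relIndex U₂ := fun hd =>
        P.not_dvd_index ((hd.trans (Subgroup.relIndex_dvd_of_le_left U₂ le_sup_right)).trans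
          (Subgroup.relIndex_dvd_index_of_le hPU))
      obtain ⟨j, -, hj⟩ := (Nat.dvd_prime_pow (Fact.out : p.Prime)).mp h2
      rcases Nat.eq_zero_or_pos j with rfl | hj0
      · rw [hj, pow_zero]
      · exact absurd (hj ▸ dvd_pow_self p hj0.ne') h3
    have hcov : U₁ ⊔ N = ⊤ := by
      have hF := Sylow.normalizer_sup_eq_top' P hPU
      refine top_le_iff.mp (hF ▸ sup_le le_sup_right (hUP.trans ?_))
      exact sup_le le_sup_left (Subgroup.le_normalizer.trans le_sup_right)
    have hker := BC84.apply_eq_degree_of_mem_principalBlock hM U₁ hU₁p χ hχ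
    obtain ⟨ψ, hψ⟩ := BlocksDefect.exists_inflate_eq U₁ χ fun n hn => hker ⟨n, hn⟩
    have hsur : Function.Surjective ((QuotientGroup.mk' U₁).comp N.subtype) := by
      intro q
      obtain ⟨g, rfl⟩ := QuotientGroup.mk_surjective q
      have : g ∈ U₁ ⊔ N := hcov ▸ Subgroup.mem_top g
      rw [Subgroup.mem_sup_of_normal_left] at this
      obtain ⟨u, hu, n, hn, rfl⟩ := this
      refine ⟨⟨n, hn⟩, ?_⟩
      show (n : G ⧸ U₁) = _
      rw [QuotientGroup.mk_mul, (QuotientGroup.eq_one_iff u).mpr hu, one_mul]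
    rw [← hψ]
    exact CharCore.isIrrCharacter_comp_surjective ψ.2 _ hsur
  · intro hirr
    set a := Nat.card (P : Subgroup G) with ha
    -- members of the block trivial on `P`, the others have no fixed vector on `P`
    set L := Subgroup.normalClosure ((P : Subgroup G) : Set G) with hL
    have hdich : ∀ χ ∈ principalBlock M G,
        (∑ u : (P : Subgroup G), (χ : G → ℂ) u) = 0 ∨
          ((∑ u : (P : Subgroup G), (χ : G → ℂ) u) = a * (χ : G → ℂ) 1 ∧ L ≤ BC87.kerChar χ) := by
      intro χ hχ
      by_cases h0 : (∑ u : (P : Subgroup G), (χ : G → ℂ) u) = 0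
      · exact Or.inl h0
      refine Or.inr ?_
      let P' : Subgroup N := (P : Subgroup G).subgroupOf N
      haveI : P'.Normal := Subgroup.normal_in_normalizer
      have hk := BlocksDefect.kernel_of_sum_ne_zero ⟨_, hirr χ hχ⟩ P' (by
        refine fun h => h0 (Eq.trans ?_ h)
        exact (Fintype.sum_equiv (Subgroup.subgroupOfEquivOfLe
          (Subgroup.le_normalizer (H := (P : Subgroup G)))).toEquiv _ _ fun u => rfl).symm)
      have hk' : ∀ u ∈ (P : Subgroup G), (χ : G → ℂ) u = (χ : G → ℂ) 1 := fun u hu =>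
        hk ⟨u, Subgroup.le_normalizer hu⟩ hu
      refine ⟨?_, ?_⟩
      · rw [Finset.sum_congr rfl fun (u : (P : Subgroup G)) _ => hk' u u.2, Finset.sum_const,
          nsmul_eq_mul, ha, Nat.card_eq_fintype_card]
        rfl
      · haveI := Cfsg.Agent.S4711.kerChar_normal χ
        exact Subgroup.normalClosure_le_normal fun u hu => hk' u hu
    -- `p`-regular elements of `L` act trivially
    have hB : IsPBlock M (principalBlock M G) :=
      ⟨⟨fun _ => 1, CharCore.isIrrCharacter_one⟩, rfl⟩
    have hF : ∀ y : G, ¬ p ∣ orderOf y →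
        ∑ χ : IrrCharacter G, (principalBlock M G).indicator 1 χ *
          ((χ : G → ℂ) y * (χ : G → ℂ) 1) =
        ∑ χ : IrrCharacter G, (principalBlock M G).indicator 1 χ *
          ((χ : G → ℂ) y * conj (∑ u : (P : Subgroup G), (χ : G → ℂ) u)) := by
      intro y hy
      simp only [map_sum, Finset.mul_sum]
      rw [Finset.sum_comm, Finset.sum_eq_single (1 : (P : Subgroup G)) ?_ (by simp)]
      · refine Finset.sum_congr rfl fun χ _ => ?_
        rw [OneMemClass.coe_one, irr_one_eq, Complex.conj_natCast]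
      · intro u _ hu
        have hdvd : p ∣ orderOf (u : G) :=
          BlocksDefect.dvd_orderOf_of_isPGroup P.isPGroup' u.2 fun h => hu (Subtype.ext h)
        rw [← weakOrth hM hB hy hdvd, finsum_mem_eq_toFinset_sum, Set.toFinset]
        rw [← Finset.sum_subset (Finset.subset_univ (principalBlock M G).toFinset)
          (fun χ _ hχ => by rw [Set.indicator_of_notMem (by simpa using hχ), zero_mul])]
        refine Finset.sum_congr (Finset.ext fun χ => by simp) fun χ hχ => ?_
        rw [Set.indicator_of_mem (by simpa using hχ), Pi.one_apply, one_mul]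
    have hreg : ∀ y ∈ L, ¬ p ∣ orderOf y → y ∈ Cfsg.Agent.S4711.bKer M := by
      intro y hyL hy
      have h1 := hF y hy
      have h2 := hF 1 (by rw [orderOf_one]; exact (Fact.out : p.Prime).not_dvd_one)
      have h3 : ∑ χ : IrrCharacter G, (principalBlock M G).indicator 1 χ *
          ((χ : G → ℂ) y * (χ : G → ℂ) 1) =
          ∑ χ : IrrCharacter G, (principalBlock M G).indicator 1 χ *
          ((χ : G → ℂ) 1 * (χ : G → ℂ) 1) := by
        rw [h1, h2]
        refine Finset.sum_congr rfl fun χ _ => ?_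
        by_cases hχ : χ ∈ principalBlock M G
        · rcases hdich χ hχ with h | ⟨-, hle⟩
          · simp [h]
          · rw [show (χ : G → ℂ) y = (χ : G → ℂ) 1 from hle hyL]
        · rw [Set.indicator_of_notMem hχ, zero_mul, zero_mul]
      have h4 := congrArg Complex.re h3
      simp only [Complex.re_sum] at h4
      have hle : ∀ χ ∈ (Finset.univ : Finset (IrrCharacter G)),
          ((principalBlock M G).indicator 1 χ * ((χ : G → ℂ) y * (χ : G → ℂ) 1)).re ≤
          ((principalBlock M G).indicator 1 χ * ((χ : G → ℂ) 1 * (χ : G → ℂ) 1)).re := by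
        intro χ _
        by_cases hχ : χ ∈ principalBlock M G
        · rw [Set.indicator_of_mem hχ, Pi.one_apply, one_mul, one_mul, irr_one_eq,
            Complex.mul_re, Complex.mul_re, Complex.natCast_im, mul_zero, mul_zero, sub_zero, sub_zero]
          refine mul_le_mul_of_nonneg_right ((Complex.re_le_norm _).trans ?_) ?_
          · obtain ⟨n, hn⟩ := CharCore.IsCharacter.exists_degree (CharCore.irr_isCharacter χ)
            have := CharCore.IsCharacter.norm_apply_le (CharCore.irr_isCharacter χ) y
            rw [Complex.natCast_re]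
            rw [irr_one_eq] at this
            simpa using this
          · rw [Complex.natCast_re]; exact Nat.cast_nonneg _
        · rw [Set.indicator_of_notMem hχ, zero_mul, zero_mul]
      have heq := (Finset.sum_eq_sum_iff_of_le hle).mp h4
      simp only [Cfsg.Agent.S4711.bKer, Subgroup.mem_iInf]
      intro χ hχ
      show (χ : G → ℂ) y = (χ : G → ℂ) 1
      have h5 := heq χ (Finset.mem_univ _)
      rw [Set.indicator_of_mem hχ, Pi.one_apply, one_mul, one_mul, irr_one_eq,
        Complex.mul_re, Complex.mul_re, Complex.natCast_im, mul_zero, mul_zero, sub_zero, sub_zero,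
        Complex.natCast_re] at h5
      have hpos : (0 : ℝ) < (charDegree (χ : G → ℂ) : ℝ) := by exact_mod_cast charDegree_pos χ
      have h6 := mul_right_cancel₀ hpos.ne' h5
      have h7 := CharCore.IsCharacter.norm_apply_le (CharCore.irr_isCharacter χ) y
      rw [irr_one_eq] at h7 ⊢
      have h8 : ‖(χ : G → ℂ) y‖ ≤ ((χ : G → ℂ) y).re := by
        rw [h6]; simpa using h7
      have h9 := Complex.re_le_norm ((χ : G → ℂ) y)
      have h10 : ((χ : G → ℂ) y).re = ‖(χ : G → ℂ) y‖ := le_antisymm h9 h8
      refine Complex.ext (by rw [h6, Complex.natCast_re]) ?_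
      rw [Complex.natCast_im]
      exact (Complex.nonneg_iff.mp (Complex.re_eq_norm.mp h10)).2.symm
    -- the kernel of the block has order prime to `p`
    haveI hKn : (Cfsg.Agent.S4711.bKer (G := G) M).Normal := by
      refine Subgroup.normal_iInf_normal fun χ => Subgroup.normal_iInf_normal fun _ => ?_
      exact Cfsg.Agent.S4711.kerChar_normal χ
    have hKp : (Nat.card (Cfsg.Agent.S4711.bKer (G := G) M)).Coprime p := by
      refine ((Fact.out : p.Prime).coprime_iff_not_dvd.mpr fun hd => ?_).symm
      obtain ⟨g, hg⟩ := exists_prime_orderOf_dvd_card' p hd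
      have hg' : p ∣ orderOf (g : G) := by rw [Subgroup.orderOf_coe, hg]
      have h0 := blockCoeff_eq_zero_of_dvd_orderOf hM hB hg'
      refine BlocksDefect.blockCoeff_one_ne_zero (isPBlock_nonempty hB) ?_
      rw [← h0, blockCoeff_eq_sum, blockCoeff_eq_sum]
      congr 1
      refine Finset.sum_congr rfl fun χ _ => ?_
      by_cases hχ : χ ∈ principalBlock M G
      · have hm := Subgroup.inv_mem _ g.2
        simp only [Cfsg.Agent.S4711.bKer, Subgroup.mem_iInf] at hm
        rw [show (χ : G → ℂ) ((g : G)⁻¹) = (χ : G → ℂ) 1 from hm χ hχ, inv_one]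
      · rw [Set.indicator_of_notMem hχ, zero_mul, zero_mul]
    have hKU : Cfsg.Agent.S4711.bKer (G := G) M ≤ U₁ := by
      intro k hk
      show k ∈ (upperPSeries p G (0 + 1)).1
      rw [upperPSeries, if_pos (by decide : Even 0), Subgroup.mem_comap]
      refine Thompson.le_pPrimeCore (hKn.map (QuotientGroup.mk' _) (QuotientGroup.mk'_surjective _))
        ?_ (Subgroup.mem_map_of_mem _ hk)
      exact Nat.Coprime.coprime_dvd_left (Subgroup.card_map_dvd _ _) hKp
    have hLU : L ≤ U₂ := by
      rw [h2eq, ← Subgroup.map_le_iff_le_comap]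
      refine Thompson.le_pCore (Subgroup.normalClosure_normal.map _
        (QuotientGroup.mk'_surjective _)) ?_
      rintro ⟨_, x, hx, rfl⟩
      refine ⟨(orderOf x).factorization p, Subtype.ext ?_⟩
      show (x : G ⧸ U₁) ^ _ = 1
      rw [← QuotientGroup.mk_pow, QuotientGroup.eq_one_iff]
      refine hKU (hreg _ (pow_mem hx _) ?_)
      rw [orderOf_pow_of_dvd (pow_ne_zero _ (Fact.out : p.Prime).ne_zero) (Nat.ordProj_dvd _ p)]
      exact Nat.not_dvd_ordCompl Fact.out (orderOf_pos x).ne'
    exact Subgroup.subset_normalClosure.trans hLU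

end Cfsg.Agent.S4711
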