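import Cfsg.Statements.S4712
import Cfsg.Agent.Lib.ModRep.Twist
import Cfsg.Agent.Lib.CharCore.BlockSections
import Cfsg.Agent.BC84.Galois
import Cfsg.Agent.Lib.BlocksCore.SecondMain
import Mathlib.RingTheory.ZMod.UnitsCyclic

set_option autoImplicit false
open Cfsg

namespace Cfsg.Agent.S4712

/-- Let p be an odd prime, M a maximal ideal of the algebraic integers containing p, G a finite group of order n with p-part p^a, and B a p-block of G. Call an irreducible character χ p-rational when χ(g^k) = χ(g) for every g and every k coprime to n with k ≡ 1 modulo n/p^a (χ is fixed by the Galois automorphisms fixing the roots of unity of order prime to p). Then the number of p-rational irreducible characters in B is at least the p-regular rank of B (the number of irreducible Brauer characters in B). -/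
theorem result {G : Type*} [Group G] [Finite G] (p : ℕ) [Fact p.Prime] (hodd : p ≠ 2) (M : Ideal Cfsg.AlgInt) (hM : Cfsg.IsPModular p M) (B : Set (Cfsg.IrrCharacter G)) (hB : Cfsg.IsPBlock M B) : Cfsg.blockRank p B ≤ Nat.card {χ : Cfsg.IrrCharacter G // χ ∈ B ∧ ∀ k : ℕ, Nat.Coprime k (Nat.card G) → k ≡ 1 [MOD Nat.card G / p ^ (Nat.card G).factorization p] → ∀ g : G, (χ : G → ℂ) (g ^ k) = (χ : G → ℂ) g} := by
  classical
  have := BlocksCore.isPrime hM
  have := Fintype.ofFinite G
  have := BlocksCore.finite_irr (G := G)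
  have := Fintype.ofFinite (IrrCharacter G)
  have hp : p.Prime := Fact.out
  set a := (Nat.card G).factorization p
  set n' := Nat.card G / p ^ a
  have hN : p ^ a * n' = Nat.card G := Nat.ordProj_mul_ordCompl_eq_self _ _
  have hn'p : ¬ p ∣ n' := Nat.not_dvd_ordCompl hp Nat.card_pos.ne'
  have hco : Nat.Coprime (p ^ a) n' := (hp.coprime_iff_not_dvd.mpr hn'p).pow_left a
  -- a generator of the automorphism group
  obtain ⟨γ, hγ⟩ := (ZMod.isCyclic_units_of_prime_pow p hp hodd a).exists_generator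
  have : NeZero (p ^ a) := ⟨pow_ne_zero _ hp.ne_zero⟩
  obtain ⟨k₀, hk₁, hk₂⟩ := Nat.chineseRemainder hco ((γ : (ZMod (p ^ a))ˣ) : ZMod (p ^ a)).val 1
  have hk₀ : Nat.Coprime k₀ (Nat.card G) := by
    rw [← hN]
    refine Nat.Coprime.mul_right ?_ ?_
    · exact ((Nat.ModEq.gcd_eq hk₁).trans (ZMod.val_coe_unit_coprime γ))
    · exact ((Nat.ModEq.gcd_eq hk₂).trans (Nat.gcd_one_left _))
  have hfix : ∀ χ : IrrCharacter G, BC84.galIrr hk₀ χ = χ →
      ∀ k : ℕ, Nat.Coprime k (Nat.card G) → k ≡ 1 [MOD n'] → ∀ g : G,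
        (χ : G → ℂ) (g ^ k) = (χ : G → ℂ) g := by
    intro χ hχ k hk hk1 g
    have hkp : Nat.Coprime k (p ^ a) := hk.coprime_dvd_right (Dvd.intro n' hN)
    obtain ⟨j, hj⟩ := (mem_powers_iff_mem_zpowers (x := γ)
      (y := ZMod.unitOfCoprime k hkp)).mpr (hγ _)
    have hmod : k ≡ k₀ ^ j [MOD Nat.card G] := by
      rw [← hN, ← Nat.modEq_and_modEq_iff_modEq_mul hco]
      refine ⟨?_, hk1.trans (by simpa using (hk₂.pow j).symm)⟩
      refine Nat.ModEq.trans ?_ (hk₁.pow j).symm
      rw [← ZMod.natCast_eq_natCast_iff, Nat.cast_pow, ZMod.natCast_zmod_val,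
        ← Units.val_pow_eq_pow_val, show γ ^ j = _ from hj, ZMod.coe_unitOfCoprime]
    have hiter : (BC84.galIrr hk₀)^[j] χ = χ := Function.iterate_fixed hχ j
    rw [show g ^ k = g ^ (k₀ ^ j) from (pow_eq_pow_iff_modEq).mpr
      (hmod.of_dvd (orderOf_dvd_natCard g)), ← BC84.iterate_galIrr hk₀ χ j g, hiter]
  set fx := Finset.univ.filter (fun χ : IrrCharacter G => χ ∈ B ∧ BC84.galIrr hk₀ χ = χ) with hfx
  suffices h : Cfsg.blockRank p B ≤ fx.card by
    refine h.trans ?_
    rw [Nat.card_eq_fintype_card, Fintype.card_subtype]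
    refine Finset.card_le_card fun χ hχ => ?_
    simp only [hfx, Finset.mem_filter] at hχ ⊢
    exact ⟨Finset.mem_univ _, hχ.2.1, fun k hk hk1 g => hfix χ hχ.2.2 k hk hk1 g⟩
  set F : G → ℂ := fun g => ∑ χ ∈ Finset.univ.filter (· ∈ B),
    ((χ : IrrCharacter G) : G → ℂ) (g ^ k₀) * (χ : G → ℂ) g⁻¹ with hF
  have htot : ∑ g, F g = (Nat.card G : ℂ) * fx.card := by
    rw [hF, Finset.sum_comm]
    have h1 : ∀ χ : IrrCharacter G, ∑ g : G, (χ : G → ℂ) (g ^ k₀) * (χ : G → ℂ) g⁻¹ =
        if BC84.galIrr hk₀ χ = χ then (Nat.card G : ℂ) else 0 := fun χ => by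
      rw [← BlocksCore.sum_char_mul_inv (BC84.galIrr hk₀ χ) χ]
      rfl
    simp only [h1, hfx]
    rw [← Finset.sum_filter, Finset.filter_filter, Finset.sum_const, nsmul_eq_mul, mul_comm]
  -- the sum over each section
  have hred : ∀ g, F g = ∑ χ ∈ Finset.univ.filter (· ∈ B),
      ((χ : IrrCharacter G) : G → ℂ) (g ^ k₀) * (χ : G → ℂ) g⁻¹ := fun g => rfl
  set PE := Finset.univ.filter (fun u : G => ∃ j : ℕ, orderOf u = p ^ j) with hPE
  have hsplit : ∑ g, F g = ∑ u ∈ PE, ∑ y ∈ Finset.univ.filter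
      (fun y : G => ¬ p ∣ orderOf y ∧ Commute u y), F (u * y) := by
    conv_rhs => rw [Finset.sum_sigma']
    refine (Finset.sum_bij (t := Finset.univ) (g := F) (fun (q : Σ _ : G, G) _ => q.1 * q.2)
      (fun _ _ => Finset.mem_univ _) ?_ ?_ fun _ _ => rfl).symm
    · intro q hq q' hq' h
      simp only [hPE, Finset.mem_sigma, Finset.mem_filter, Finset.mem_univ, true_and] at hq hq'
      have e1 : q.1 = q'.1 := BlocksCore.isPPart_unique hp
        (g := q.1 * q.2) ⟨q.2, rfl, hq.2.2, hq.1, hq.2.1⟩ ⟨q'.2, h.symm, hq'.2.2, hq'.1, hq'.2.1⟩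
      obtain ⟨q1, q2⟩ := q
      obtain ⟨q1', q2'⟩ := q'
      simp only at e1 h
      subst e1
      rw [mul_left_cancel h]
    · intro g _
      obtain ⟨x, y, hg, hc, hx, hy⟩ := BlocksCore.exists_pPart (p := p) hp g
      exact ⟨⟨x, y⟩, by simp [hPE, hx, hy, hc], hg⟩
  have hsec : ∀ u ∈ PE, ∃ n : ℕ, ∑ y ∈ Finset.univ.filter
      (fun y : G => ¬ p ∣ orderOf y ∧ Commute u y), F (u * y) =
        (Nat.card (Subgroup.centralizer ({u} : Set G)) : ℂ) * n := by
    intro u hu
    obtain ⟨j, hj⟩ := (Finset.mem_filter.mp hu).2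
    have hC : ∀ y : G, y ∈ Subgroup.centralizer ({u} : Set G) ↔ Commute u y := fun y =>
      ⟨fun h => (Subgroup.mem_centralizer_singleton_iff.mp h).symm,
        fun h => Subgroup.mem_centralizer_singleton_iff.mpr h.symm.eq⟩
    have hup : orderOf (u ^ k₀) = p ^ j := by
      rw [Nat.Coprime.orderOf_pow (hk₀.symm.coprime_dvd_left (orderOf_dvd_natCard u)), hj]
    have hyk : ∀ y : G, ¬ p ∣ orderOf y → y ^ k₀ = y := by
      intro y hy
      conv_rhs => rw [← pow_one y]
      refine pow_eq_pow_iff_modEq.mpr (hk₂.of_dvd ?_)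
      exact (Nat.Coprime.pow_right a (hp.coprime_iff_not_dvd.mpr hy).symm).dvd_of_dvd_mul_left
        (hN.symm ▸ orderOf_dvd_natCard y)
    by_cases hconj : IsConj u (u ^ k₀)
    · obtain ⟨h, hh⟩ := isConj_iff.mp hconj
      have hnorm : ∀ y, y ∈ Subgroup.centralizer ({u} : Set G) →
          h⁻¹ * y * h ∈ Subgroup.centralizer ({u} : Set G) := by
        intro y hy
        rw [hC] at hy ⊢
        have h2 : (h * u * h⁻¹) * y = y * (h * u * h⁻¹) := by rw [hh]; exact (hy.pow_left k₀).eq
        show u * (h⁻¹ * y * h) = h⁻¹ * y * h * u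
        calc u * (h⁻¹ * y * h) = h⁻¹ * ((h * u * h⁻¹) * y) * h := by group
          _ = _ := by rw [h2]; group
      let C := Subgroup.centralizer ({u} : Set G)
      have : Fintype C := Fintype.ofFinite _
      have := Fintype.ofFinite (IrrCharacter C)
      let cf : C →* C :=
        { toFun := fun y => ⟨h⁻¹ * (y : G) * h, hnorm _ y.2⟩
          map_one' := Subtype.ext (by simp)
          map_mul' := fun x y => Subtype.ext (by simp [mul_assoc]) }
      have hcinj : Function.Injective cf := fun x y e => by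
        have e' := congrArg Subtype.val e
        exact Subtype.ext (mul_left_cancel (mul_right_cancel (b := h) e'))
      let c : C ≃* C := MulEquiv.ofBijective cf ⟨hcinj, Finite.injective_iff_surjective.mp hcinj⟩
      obtain ⟨Q⟩ := ModRep.exists_brauerData (G := C) hM
      obtain ⟨n, hn⟩ := Q.exists_twisted_pairing hM
        (CharCore.BlockSections.inducing M u B) (fun θ hθ η hη => by
          show Cfsg.IsInducedBlock M _ _ B
          rw [← BlocksCore.blockOf_eq_of_sameBlock hη]
          exact hθ) c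
      refine ⟨n, ?_⟩
      rw [← hn]
      refine (Finset.sum_bij (fun (y : C) _ => (y : G)) ?_ ?_ ?_ ?_).symm
      · intro y hy
        simp only [Finset.mem_filter, Finset.mem_univ, true_and] at hy ⊢
        exact ⟨by rwa [Subgroup.orderOf_coe], (hC _).mp y.2⟩
      · exact fun x _ y _ e => Subtype.ext e
      · intro y hy
        simp only [Finset.mem_filter, Finset.mem_univ, true_and] at hy
        exact ⟨⟨y, (hC y).mpr hy.2⟩, by simp [Subgroup.orderOf_mk, hy.1], rfl⟩
      · intro y hy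
        have hy' := (Finset.mem_filter.mp hy).2
        have h1 := CharCore.BlockSections.sum_block_section hM ⟨j, hj⟩ hB (s := c y) (t := y)
          (by rwa [MulEquiv.orderOf_eq]) hy'
        simp only [← BlocksCore.conj_irr]
        refine (Finset.sum_congr (Finset.ext fun θ => by simp) fun θ _ => rfl).trans
          (h1.symm.trans ?_)
        rw [hred]
        refine Finset.sum_congr (Finset.ext fun χ => by simp) fun χ _ => ?_
        rw [BlocksCore.conj_irr]
        congr 1
        rw [((hC (y : G)).mp y.2).mul_pow, hyk (y : G) (by rwa [Subgroup.orderOf_coe]), ← hh]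
        calc (χ : G → ℂ) (u * ((c y : C) : G))
            = (χ : G → ℂ) (h * (u * ((c y : C) : G)) * h⁻¹) := (BlocksCore.irr_class χ _ h).symm
          _ = _ := by
            refine congrArg (χ : G → ℂ) ?_
            show h * (u * (h⁻¹ * (y : G) * h)) * h⁻¹ = _
            group
    · refine ⟨0, ?_⟩
      rw [Nat.cast_zero, mul_zero]
      refine Finset.sum_eq_zero fun y hy => ?_
      obtain ⟨hy1, hy2⟩ := (Finset.mem_filter.mp hy).2
      have h := BlocksCore.blockOrth_sections hM hB (g := (u * y) ^ k₀) (h := u * y)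
        (x := u ^ k₀) (y := u)
        ⟨y, by rw [hy2.mul_pow, hyk y hy1], hy2.pow_left k₀, ⟨j, hup⟩, hy1⟩
        ⟨y, rfl, hy2, ⟨j, hj⟩, hy1⟩ (fun hc => hconj hc.symm)
      rw [finsum_mem_eq_finite_toFinset_sum _ (Set.toFinite B)] at h
      rw [hF]
      refine Eq.trans (Finset.sum_congr (Finset.ext fun χ => by simp) fun χ _ => rfl) h
  choose! n hn using hsec
  have h1PE : (1 : G) ∈ PE := Finset.mem_filter.mpr ⟨Finset.mem_univ _, 0, by simp⟩
  have hone : ∑ y ∈ Finset.univ.filter (fun y : G => ¬ p ∣ orderOf y ∧ Commute 1 y), F (1 * y) =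
      (Nat.card G : ℂ) * Cfsg.blockRank p B := by
    rw [CharCore.BlockSections.mul_blockRank hM hB]
    refine Finset.sum_congr (by simp) fun y hy => ?_
    have hy' : ¬ p ∣ orderOf y := (Finset.mem_filter.mp hy).2
    have hyk : y ^ k₀ = y := by
      conv_rhs => rw [← pow_one y]
      refine pow_eq_pow_iff_modEq.mpr (hk₂.of_dvd ?_)
      exact (Nat.Coprime.pow_right a (hp.coprime_iff_not_dvd.mpr hy').symm).dvd_of_dvd_mul_left
        (hN.symm ▸ orderOf_dvd_natCard y)
    simp only [hF, one_mul, hyk, BlocksCore.conj_irr]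
    exact Finset.sum_congr (Finset.ext fun χ => by simp) fun χ _ => rfl
  have heq : (Nat.card G : ℂ) * fx.card = (Nat.card G : ℂ) * Cfsg.blockRank p B +
      ((∑ u ∈ PE.erase 1, Nat.card (Subgroup.centralizer ({u} : Set G)) * n u : ℕ) : ℂ) := by
    rw [← htot, hsplit, ← Finset.add_sum_erase _ _ h1PE, hone, Nat.cast_sum]
    congr 1
    exact Finset.sum_congr rfl fun u hu => by rw [hn u (Finset.mem_of_mem_erase hu), Nat.cast_mul]
  have heq' : Nat.card G * fx.card = Nat.card G * Cfsg.blockRank p B +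
      ∑ u ∈ PE.erase 1, Nat.card (Subgroup.centralizer ({u} : Set G)) * n u := by exact_mod_cast heq
  exact Nat.le_of_mul_le_mul_left (heq' ▸ Nat.le_add_right _ _) Nat.card_pos

end Cfsg.Agent.S4712
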