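import Cfsg.Statements.S4713
import Cfsg.Agent.CharDeep.Deg.ItoPSolvable

set_option autoImplicit false
open Cfsg

namespace Cfsg.Agent.S4713

/-- Let p be a prime and G a finite p-solvable group. Then G has a normal abelian Sylow p-subgroup if and only if the degree of every irreducible character of G is prime to p. -/
theorem result {G : Type*} [Group G] [Finite G] (p : ℕ) [Fact p.Prime] (hsolv : Cfsg.IsPSolvable p G) (P : Sylow p G) : ((P : Subgroup G).Normal ∧ IsMulCommutative P) ↔ ∀ χ : Cfsg.IrrCharacter G, ¬ p ∣ Cfsg.charDegree (χ : G → ℂ) := by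
  constructor
  · rintro ⟨hPn, hab⟩ χ hdvd
    haveI := hPn
    refine P.not_dvd_index (hdvd.trans (CharDeep.Deg.degree_dvd_index χ (P : Subgroup G) ?_))
    intro x hx y hy
    exact congrArg Subtype.val (hab.is_comm.comm (⟨x, hx⟩ : ↥(P : Subgroup G)) ⟨y, hy⟩)
  · intro h
    obtain ⟨Q, hQn, hQab, hQ, hQi⟩ :=
      CharDeep.Deg.exists_abelian_sylow_pSolvable p (Nat.card G) le_rfl hsolv h
    haveI := hQn
    have hQS : ((hQ.toSylow hQi : Sylow p G) : Subgroup G) = Q := rfl
    haveI : ((hQ.toSylow hQi : Sylow p G) : Subgroup G).Normal := by rw [hQS]; exact hQn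
    haveI := Sylow.unique_of_normal (hQ.toSylow hQi) inferInstance
    have hPQ : (P : Subgroup G) = Q := by
      rw [Subsingleton.elim P (hQ.toSylow hQi), hQS]
    refine ⟨hPQ ▸ hQn, ⟨⟨fun x y => Subtype.ext ?_⟩⟩⟩
    exact hQab x (hPQ ▸ x.2) y (hPQ ▸ y.2)

end Cfsg.Agent.S4713
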