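import Cfsg.Statements.S4714
import Cfsg.Agent.Lib.BlocksDefect.LocalBlock

set_option autoImplicit false
open Cfsg

namespace Cfsg.Agent.S4714

/-- Let p be a prime, M a maximal ideal of the algebraic integers containing p, D a p-subgroup of the finite group G with G = D·C_G(D), and B a p-block with defect group D. Let χ be a member of B having D in its kernel (there is exactly one, the canonical character of B). Then the irreducible characters in B are exactly the functions θ on G for which there is an irreducible character ζ of D such that θ(yx) = ζ(y)χ(x) whenever y ∈ D, x has order prime to p and x commutes with y, and θ(z) = 0 whenever the p-part of z does not lie in D. -/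
theorem result {G : Type*} [Group G] [Finite G] (p : ℕ) [Fact p.Prime] (M : Ideal Cfsg.AlgInt) (hM : Cfsg.IsPModular p M) (D : Subgroup G) (hD : IsPGroup p D) (hG : D ⊔ Subgroup.centralizer (D : Set G) = ⊤) (B : Set (Cfsg.IrrCharacter G)) (hB : Cfsg.IsPBlock M B) (hBD : Cfsg.IsDefectGroup p M B D) (χ : Cfsg.IrrCharacter G) (hχ : χ ∈ B) (hχD : ∀ y ∈ D, (χ : G → ℂ) y = (χ : G → ℂ) 1) : (∀ θ : Cfsg.IrrCharacter G, θ ∈ B ↔ ∃ ζ : Cfsg.IrrCharacter D, (∀ (y : D) (x : G), ¬ p ∣ orderOf x → Commute (y : G) x → (θ : G → ℂ) ((y : G) * x) = (ζ : D → ℂ) y * (χ : G → ℂ) x) ∧ (∀ z : G, (∀ y : G, Cfsg.IsPPart p z y → y ∉ D) → (θ : G → ℂ) z = 0)) ∧ ∀ ζ : Cfsg.IrrCharacter D, ∃ θ ∈ B, (∀ (y : D) (x : G), ¬ p ∣ orderOf x → Commute (y : G) x → (θ : G → ℂ) ((y : G) * x) = (ζ : D → ℂ) y * (χ : G → ℂ) x) ∧ (∀ z : G, (∀ y : G, Cfsg.IsPPart p z y → y ∉ D) → (θ : G → ℂ) z = 0) := by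
  classical
  have := BlocksCore.isPrime hM
  have := Fintype.ofFinite G
  have := Fintype.ofFinite D
  have := Fintype.ofFinite {y : G // ¬ p ∣ orderOf y}
  obtain ⟨θ₀, -, -, hθ₀, -, -, huniq⟩ := BlocksDefect.localBlock hM hD hG hB hBD
  obtain rfl := huniq χ hχ hχD
  let T : Cfsg.IrrCharacter D → Cfsg.IrrCharacter G := fun lam =>
    ⟨_, BlocksDefect.isIrrCharacter_tens hD hG hθ₀ lam⟩
  have hTB : ∀ lam, T lam ∈ B := fun lam => BlocksDefect.tens_mem hM hD hG hB hχ hθ₀ lam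
  have hprop : ∀ lam : Cfsg.IrrCharacter D,
      (∀ (y : D) (x : G), ¬ p ∣ orderOf x → Commute (y : G) x →
        (T lam : G → ℂ) ((y : G) * x) = (lam : D → ℂ) y * (χ : G → ℂ) x) ∧
      (∀ z : G, (∀ y : G, Cfsg.IsPPart p z y → y ∉ D) → (T lam : G → ℂ) z = 0) := fun lam =>
    ⟨fun y x hx hc => BlocksDefect.tens_apply_mul hD hθ₀ _ y hx hc,
      fun z hz => BlocksDefect.tens_eq_zero (hz _ (BlocksDefect.pp_spec z)) _ _⟩
  have huniq' : ∀ (θ : Cfsg.IrrCharacter G) (lam : Cfsg.IrrCharacter D),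
      (∀ (y : D) (x : G), ¬ p ∣ orderOf x → Commute (y : G) x →
        (θ : G → ℂ) ((y : G) * x) = (lam : D → ℂ) y * (χ : G → ℂ) x) →
      (∀ z : G, (∀ y : G, Cfsg.IsPPart p z y → y ∉ D) → (θ : G → ℂ) z = 0) → θ = T lam := by
    intro θ lam h1 h2
    refine Subtype.ext (funext fun g => ?_)
    by_cases hg : BlocksDefect.pp p g ∈ D
    · obtain ⟨hc, hy⟩ := BlocksDefect.regular_inv_pp_mul (p := p) g
      have e := (h1 ⟨_, hg⟩ _ hy hc).trans ((hprop lam).1 ⟨_, hg⟩ _ hy hc).symm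
      simpa using e
    · have hz : ∀ y : G, Cfsg.IsPPart p g y → y ∉ D := fun y hy => by
        rwa [← BlocksDefect.pp_eq hy]
      rw [h2 g hz, (hprop lam).2 g hz]
  have hinj : Function.Injective fun lam => (⟨T lam, hTB lam⟩ : B) := by
    intro lam mu h
    refine Subtype.ext (funext fun y => ?_)
    have e : (T lam : G → ℂ) ((y : G) * 1) = (T mu : G → ℂ) ((y : G) * 1) := by
      rw [show T lam = T mu from congrArg Subtype.val h]
    have h1 : ¬ p ∣ orderOf (1 : G) := by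
      rw [orderOf_one]; exact (Fact.out : p.Prime).not_dvd_one
    rw [(hprop lam).1 y 1 h1 (Commute.one_right _), (hprop mu).1 y 1 h1 (Commute.one_right _)] at e
    exact mul_right_cancel₀ (BlocksCore.irr_one_ne_zero χ) e
  have : Finite B := Subtype.finite
  have := Fintype.ofFinite B
  have hbij : Function.Bijective fun lam => (⟨T lam, hTB lam⟩ : B) := by
    refine (Fintype.bijective_iff_injective_and_card _).mpr ⟨hinj, ?_⟩
    rw [← Nat.card_eq_fintype_card, ← Nat.card_eq_fintype_card, CharCore.card_irr,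
      BlocksDefect.natCard_localBlock hM hD hG hB hBD]
  refine ⟨fun θ => ⟨fun hθ => ?_, ?_⟩, fun ζ => ⟨T ζ, hTB ζ, hprop ζ⟩⟩
  · obtain ⟨lam, e⟩ := hbij.2 ⟨θ, hθ⟩
    obtain rfl := congrArg Subtype.val e
    exact ⟨lam, hprop lam⟩
  · rintro ⟨ζ, h1, h2⟩
    rw [huniq' θ ζ h1 h2]
    exact hTB ζ

end Cfsg.Agent.S4714
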