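import Cfsg.Statements.S4717
import Cfsg.Agent.BC86.SubsectionFusion
import Cfsg.Agent.BC84.BrauerCount
import Cfsg.Agent.Lib.BlocksDefect.PrincipalSection
import Cfsg.Agent.S0973

set_option autoImplicit false
open Cfsg

namespace Cfsg.Agent.S4717

/-- Let p be a prime, M a maximal ideal of the algebraic integers containing p, and r a natural number; say that a finite group X has deficiency class r when X has no non-principal p-block of defect ≥ r. If G has deficiency class r then so does the centralizer of every p-element of G; conversely, if r > 0 and the centralizer of every element of order p has deficiency class r, then G has deficiency class r. -/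
theorem result {G : Type*} [Group G] [Finite G] (p : ℕ) [Fact p.Prime] (M : Ideal Cfsg.AlgInt) (hM : Cfsg.IsPModular p M) (r : ℕ) : ((∀ B' : Set (Cfsg.IrrCharacter G), Cfsg.IsPBlock M B' → B' ≠ Cfsg.principalBlock M G → Cfsg.blockDefect p B' < r) → ∀ y : G, (∃ k : ℕ, orderOf y = p ^ k) → (∀ B' : Set (Cfsg.IrrCharacter ↥(Subgroup.centralizer ({y} : Set G))), Cfsg.IsPBlock M B' → B' ≠ Cfsg.principalBlock M ↥(Subgroup.centralizer ({y} : Set G)) → Cfsg.blockDefect p B' < r)) ∧ (0 < r → (∀ y : G, orderOf y = p → (∀ B' : Set (Cfsg.IrrCharacter ↥(Subgroup.centralizer ({y} : Set G))), Cfsg.IsPBlock M B' → B' ≠ Cfsg.principalBlock M ↥(Subgroup.centralizer ({y} : Set G)) → Cfsg.blockDefect p B' < r)) → (∀ B' : Set (Cfsg.IrrCharacter G), Cfsg.IsPBlock M B' → B' ≠ Cfsg.principalBlock M G → Cfsg.blockDefect p B' < r)) := by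
  classical
  have := BlocksCore.isPrime hM
  have := Fintype.ofFinite G
  refine ⟨fun h y hy b hb hne => ?_, fun hr h B hB hne => ?_⟩
  · obtain ⟨k, hk⟩ := hy
    obtain ⟨B, hB⟩ := BC84.induced_exists hM hk hb
    by_contra hlt
    push Not at hlt
    obtain ⟨E, hE⟩ := BlocksDefect.exists_isDefectGroup hM hb
    obtain ⟨F, hF, hEF⟩ := BlocksDefect.exists_defectGroup_ge hM hB hE
    have hle : Cfsg.blockDefect p b ≤ Cfsg.blockDefect p B := by
      refine (Nat.pow_le_pow_iff_right (Fact.out : p.Prime).one_lt).mp ?_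
      rw [← BlocksDefect.defectGroup_natCard hM hb hE, ← BlocksDefect.defectGroup_natCard hM hB.2.1 hF,
        Nat.card_congr (Subgroup.equivMapOfInjective E _ (Subgroup.subtype_injective _)).toEquiv]
      exact Subgroup.card_le_of_le hEF
    by_cases hBp : B = Cfsg.principalBlock M G
    · subst hBp
      exact hne (BlocksDefect.eq_principal_of_induced hM hB)
    · exact absurd (h B hB.2.1 hBp) (not_lt.mpr (hlt.trans hle))
  · by_contra hlt
    push Not at hlt
    obtain ⟨D, hD⟩ := BlocksDefect.exists_isDefectGroup hM hB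
    have hDp := BlocksDefect.isPGroup_of_isDefectGroup hD
    have hcard := BlocksDefect.defectGroup_natCard hM hB hD
    have : Nontrivial D := by
      rw [← Finite.one_lt_card_iff_nontrivial, hcard]
      exact Nat.one_lt_pow (by omega) (Fact.out : p.Prime).one_lt
    have := hDp.center_nontrivial
    obtain ⟨k, hk, hcz⟩ := (hDp.to_subgroup (Subgroup.center D)).nontrivial_iff_card.mp this
    obtain ⟨z, hz⟩ := exists_prime_orderOf_dvd_card' (G := Subgroup.center D) p
      (hcz ▸ dvd_pow_self p (by omega))
    have hy : orderOf ((z : D) : G) = p := by rw [Subgroup.orderOf_coe, Subgroup.orderOf_coe, hz]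
    have hyc : ∀ w ∈ D, w * ((z : D) : G) = ((z : D) : G) * w := fun w hw =>
      congrArg Subtype.val (Subgroup.mem_center_iff.mp z.2 ⟨w, hw⟩)
    obtain ⟨⟨b, -, hb⟩, -⟩ := S0973.result p M hM B hB D hD
    obtain ⟨β, -, hβ, hd, -⟩ := BC86.exists_major rfl hM hD hb (z : D).2 hyc
    refine absurd (h _ hy β hβ.1 fun e => hne ?_) (not_lt.mpr (hd ▸ hlt))
    subst e
    exact BlocksDefect.eq_principal_of_inducing hM hβ

end Cfsg.Agent.S4717
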