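import Cfsg.Statements.S4720
import Cfsg.Agent.BC86.Deg
import Cfsg.Agent.Lib.BlocksDefect.PrincipalSection
import Cfsg.Agent.Lib.BlocksCore.SecondMain
import Cfsg.Agent.Lib.CharCore.Virtual

set_option autoImplicit false
open Cfsg

namespace Cfsg.Agent.S4720

/-- Let p be a prime, M a maximal ideal of the algebraic integers containing p, P a p-subgroup of the finite group G, N a subgroup with P ≤ N ≤ N_G(P), and U a nonempty subset of P normalized by N such that an element of U and an element of P that are conjugate in G are already conjugate in N, and such that λ(C_G(y)) = w·#C_N(y) for every y ∈ U with one rational number w, where λ(X) denotes the sum of the squares of the degrees of the irreducible characters in the principal p-block of X. For a complex function θ on P and χ in the principal block of G put a_χ(θ) = #P⁻¹ Σ_{y ∈ P} χ(y) θ(y⁻¹). Then for generalized characters θ, η of P with θ vanishing outside U, Σ_χ a_χ(θ)·conj(a_χ(η)) = (w/#P²)·Σ_{y ∈ P} θ(y)·conj(Σ_{x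 ∈ N} η(x y x⁻¹)) (η extended by zero off P; the conjugates lie in P), the first sum over the principal p-block of G. -/
theorem result {G : Type*} [Group G] [Finite G] (p : ℕ) [Fact p.Prime] (M : Ideal Cfsg.AlgInt) (hM : Cfsg.IsPModular p M) (P : Subgroup G) (hP : IsPGroup p P) (N : Subgroup G) (hPN : P ≤ N) (hNN : N ≤ Subgroup.normalizer (P : Set G)) (U : Set G) (hUne : U.Nonempty) (hUP : U ⊆ (P : Set G)) (hUN : ∀ n ∈ N, ∀ u ∈ U, n * u * n⁻¹ ∈ U) (hfus : ∀ u ∈ U, ∀ g : G, g * u * g⁻¹ ∈ (P : Set G) → ∃ n ∈ N, n * u * n⁻¹ = g * u * g⁻¹) (w : ℚ) (hw : ∀ y ∈ U, ((∑ᶠ ψ ∈ Cfsg.principalBlock M ↥(Subgroup.centralizer ({y} : Set G)), Cfsg.charDegree (ψ : ↥(Subgroup.centralizer ({y} : Set G)) → ℂ) ^ 2) : ℚ) = w * Nat.card ↥(N ⊓ Subgroup.centralizer ({y} : Set G))) (θ η : ↥P → ℂ) (hθ : Cfsg.IsGeneralizedCharacter ↥P θ) (hη : Cfsg.IsGeneralizedCharacter ↥P η) (hθU : ∀ y : ↥P, (y : G) ∉ U → θ y = 0) : ∑ᶠ χ ∈ Cfsg.principalBlock M G, ((Nat.card ↥P : ℂ)⁻¹ * ∑ᶠ y : ↥P, (χ : G → ℂ)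 (y : G) * θ y⁻¹) * (starRingEnd ℂ) ((Nat.card ↥P : ℂ)⁻¹ * ∑ᶠ y : ↥P, (χ : G → ℂ) (y : G) * η y⁻¹) = ((w : ℂ) / ((Nat.card ↥P : ℂ) ^ 2)) * ∑ᶠ y : ↥P, θ y * (starRingEnd ℂ) (∑ᶠ x : ↥N, Cfsg.extendByZero P η ((x : G) * (y : G) * (x : G)⁻¹)) := by
  classical
  have := BlocksCore.isPrime hM
  have : Fact p.Prime := ⟨hM.1⟩
  have := Fintype.ofFinite G
  have := Fintype.ofFinite P
  have := Fintype.ofFinite N
  set B := Cfsg.principalBlock M G with hB
  have hBb : Cfsg.IsPBlock M B := BlocksDefect.isPBlock_principal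
  have hpp : ∀ y : P, Cfsg.IsPPart p (y : G) (y : G) := fun y =>
    ⟨1, mul_one _, Commute.one_right _, by
      obtain ⟨k, hk⟩ := IsPGroup.iff_orderOf.mp hP y
      exact ⟨k, by rw [Subgroup.orderOf_coe, hk]⟩,
      by rw [orderOf_one]; exact hM.1.not_dvd_one⟩
  set S : P → P → ℂ := fun y z => ∑ χ ∈ B.toFinset, (χ : G → ℂ) y * (χ : G → ℂ) (z : G)⁻¹ with hS
  set Cn : P → ℂ := fun y =>
    (Nat.card ↥(N ⊓ Subgroup.centralizer ({(y : G)} : Set G)) : ℂ) with hCn
  have hSval : ∀ y z : P, (y : G) ∈ U →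
      S y z = (w : ℂ) * if IsConj (y : G) z then Cn y else 0 := by
    intro y z hy
    have := Fintype.ofFinite (Subgroup.centralizer ({(y : G)} : Set G))
    split_ifs with hc
    · have hzy : ∀ χ : Cfsg.IrrCharacter G, (χ : G → ℂ) (z : G)⁻¹ = (χ : G → ℂ) (y : G)⁻¹ := by
        intro χ
        obtain ⟨c, hc'⟩ := isConj_iff.mp hc
        rw [← hc', mul_inv_rev, mul_inv_rev, inv_inv, ← mul_assoc, CharCore.irr_isClassFunction χ]
      obtain ⟨k, hk⟩ := IsPGroup.iff_orderOf.mp hP y
      have key := BlocksDefect.sum_principal_section_norm hM (z := (y : G)) (k := k)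
        (by rw [Subgroup.orderOf_coe, hk]) 1 (by rw [orderOf_one]; exact hM.1.not_dvd_one)
      simp only [OneMemClass.coe_one, mul_one, inv_one] at key
      have hw' := congrArg (Rat.cast : ℚ → ℂ) (hw y hy)
      push_cast at hw'
      rw [hS]
      simp only [hzy, hCn]
      rw [← hw', finsum_mem_eq_toFinset_sum, Finset.sum_congr rfl fun χ _ => rfl]
      rw [Set.toFinset_congr hB.symm] at *
      rw [Finset.sum_indicator_eq_sum_filter, Finset.sum_indicator_eq_sum_filter,
        Set.filter_mem_univ_eq_toFinset, Set.filter_mem_univ_eq_toFinset] at key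
      rw [key]
      push_cast
      exact Finset.sum_congr rfl fun η _ => by rw [BC86.charDegree_cast, sq]
    · rw [mul_zero]
      have h := BlocksCore.blockOrth_sections hM hBb (hpp y) (hpp z) hc
      rwa [finsum_mem_eq_toFinset_sum] at h
  have hcount : ∀ y : P, (y : G) ∈ U →
      ∑ z : P, η z * (if IsConj (y : G) z then Cn y else 0) =
        ∑ n : N, Cfsg.extendByZero P η ((n : G) * (y : G) * (n : G)⁻¹) := by
    intro y hy
    have hmem : ∀ n : N, (n : G) * (y : G) * (n : G)⁻¹ ∈ P := fun n =>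
      ((Subgroup.mem_normalizer_iff).mp (hNN n.2) y).mp y.2
    let c : N → P := fun n => ⟨_, hmem n⟩
    have hext : ∀ n : N, Cfsg.extendByZero P η ((n : G) * (y : G) * (n : G)⁻¹) = η (c n) :=
      fun n => Function.Injective.extend_apply Subtype.val_injective η 0 (c n)
    simp only [hext]
    rw [← Finset.sum_fiberwise Finset.univ c (fun n => η (c n))]
    refine Finset.sum_congr rfl fun z _ => ?_
    rw [Finset.sum_congr rfl fun n hn => (by rw [(Finset.mem_filter.mp hn).2] : η (c n) = η z),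
      Finset.sum_const, nsmul_eq_mul, mul_comm]
    congr 1
    split_ifs with hc
    · obtain ⟨g, hg⟩ := isConj_iff.mp hc
      obtain ⟨n₀, hn₀, hn₀'⟩ := hfus y hy g (hg ▸ z.2)
      rw [hg] at hn₀'
      simp only [hCn]
      rw [← Fintype.card_subtype, ← Nat.card_eq_fintype_card]
      congr 1
      refine Nat.card_congr
        { toFun := fun a => ⟨⟨n₀ * a.1, mul_mem hn₀ a.2.1⟩, Subtype.ext ?_⟩
          invFun := fun n => ⟨n₀⁻¹ * (n.1 : G), N.mul_mem (N.inv_mem hn₀) n.1.2,
            Subgroup.mem_centralizer_singleton_iff.mpr ?_⟩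
          left_inv := fun a => Subtype.ext (by simp)
          right_inv := fun n => Subtype.ext (Subtype.ext (by simp)) }
      · show n₀ * a.1 * (y : G) * (n₀ * a.1)⁻¹ = z
        rw [mul_assoc n₀ a.1, Subgroup.mem_centralizer_singleton_iff.mp a.2.2, ← hn₀']
        group
      · have h1 : (n.1 : G) * (y : G) * (n.1 : G)⁻¹ = z := congrArg Subtype.val n.2
        rw [← hn₀', mul_inv_eq_iff_eq_mul] at h1
        rw [mul_assoc n₀⁻¹ (n.1 : G), h1]
        group
    · rw [Finset.card_eq_zero.mpr (Finset.filter_eq_empty_iff.mpr fun n _ hn => hc ?_)]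
      · simp
      · exact isConj_iff.mpr ⟨n, congrArg Subtype.val hn⟩
  have hinvU : ∀ y : P, θ y⁻¹ ≠ 0 → (y : G) ∈ U := by
    intro y hy
    by_contra hn
    apply hy
    rw [CharCore.IsGeneralizedCharacter.apply_inv hθ, hθU y hn, map_zero]
  rw [finsum_mem_eq_toFinset_sum]
  simp only [finsum_eq_sum_of_fintype]
  calc ∑ χ ∈ B.toFinset, (Nat.card P : ℂ)⁻¹ * (∑ y : P, (χ : G → ℂ) y * θ y⁻¹) *
        (starRingEnd ℂ) ((Nat.card P : ℂ)⁻¹ * ∑ z : P, (χ : G → ℂ) z * η z⁻¹)
      = ((Nat.card P : ℂ) ^ 2)⁻¹ * ∑ y : P, θ y⁻¹ * ∑ z : P, η z * S y z := by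
        simp only [map_mul, map_inv₀, map_natCast, map_sum, BlocksCore.conj_irr,
          ← CharCore.IsGeneralizedCharacter.apply_inv hη, inv_inv, hS, Finset.mul_sum,
          Finset.sum_mul]
        conv_lhs => rw [Finset.sum_comm]; enter [2, z]; rw [Finset.sum_comm]
        rw [Finset.sum_comm]
        refine Finset.sum_congr rfl fun y _ => Finset.sum_congr rfl fun z _ =>
          Finset.sum_congr rfl fun χ _ => ?_
        ring
    _ = ((Nat.card P : ℂ) ^ 2)⁻¹ * ∑ y : P, θ y⁻¹ *
          ((w : ℂ) * ∑ n : N, Cfsg.extendByZero P η ((n : G) * (y : G) * (n : G)⁻¹)) := by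
        congr 1
        refine Finset.sum_congr rfl fun y _ => ?_
        by_cases h0 : θ y⁻¹ = 0
        · rw [h0, zero_mul, zero_mul]
        · rw [← hcount y (hinvU y h0), Finset.mul_sum (a := (w : ℂ))]
          congr 1
          refine Finset.sum_congr rfl fun z _ => ?_
          rw [hSval y z (hinvU y h0)]
          ring
    _ = _ := by
        rw [Finset.mul_sum, Finset.mul_sum, ← Equiv.sum_comp (Equiv.inv P)]
        refine Finset.sum_congr rfl fun y _ => ?_
        rw [map_sum, Equiv.inv_apply, inv_inv]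
        have hterm : ∀ n : N, Cfsg.extendByZero P η ((n : G) * ((y⁻¹ : P) : G) * (n : G)⁻¹)
            = (starRingEnd ℂ) (Cfsg.extendByZero P η ((n : G) * (y : G) * (n : G)⁻¹)) := by
          intro n
          have hm : (n : G) * (y : G) * (n : G)⁻¹ ∈ P :=
            ((Subgroup.mem_normalizer_iff).mp (hNN n.2) y).mp y.2
          have e1 : Cfsg.extendByZero P η ((n : G) * (y : G) * (n : G)⁻¹) = η ⟨_, hm⟩ :=
            Function.Injective.extend_apply Subtype.val_injective η 0 ⟨_, hm⟩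
          have e2 : Cfsg.extendByZero P η (((⟨_, hm⟩ : P)⁻¹ : P) : G) = η (⟨_, hm⟩ : P)⁻¹ :=
            Function.Injective.extend_apply Subtype.val_injective η 0 _
          rw [e1, ← CharCore.IsGeneralizedCharacter.apply_inv hη, ← e2]
          congr 1
          simp [mul_assoc]
        simp only [hterm]
        ring

end Cfsg.Agent.S4720
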