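import Cfsg.Statements.S4721
import Cfsg.Agent.Lib.BlocksCore.AbelianThreeInvolution

set_option autoImplicit false
open Cfsg

namespace Cfsg.Agent.S4721

/-- Let p be a prime, M a maximal ideal of the algebraic integers containing p, and G a finite group with a nontrivial abelian Sylow p-subgroup P, N = N_G(P), C = C_G(P), such that N/C is cyclic of order 3, #P > 4, and C_G(y) ∩ N = C for every non-identity y ∈ P. Then the principal p-block is the disjoint union of a set X of exactly 3 characters containing the principal character and a set Y of (#P − 1)/3 characters, with signs a_χ = ±1 (χ ∈ X, a = 1 at the principal character) and δ = ±1 such that every χ ∈ X takes the value a_χ at every element whose p-part is a non-identity element of P, and there is a map ζ from the non-principal linear characters of P onto Y, constant on N-conjugacy classes, with ζ_ψ(z) = δ·Σ ψ'(y) over the N-orbit of ψ, for z with p-part y ≠ 1 in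 P. If moreover G has an involution lying in no proper normal subgroup of G, then exactly two of the three numbers −δ and a_χ (χ ∈ X non-principal) equal −1, and the product of the degrees of the two non-principal members of X and of any member of Y is a perfect square. -/
theorem result {G : Type*} [Group G] [Finite G] (p : ℕ) [Fact p.Prime] (M : Ideal Cfsg.AlgInt) (hM : Cfsg.IsPModular p M) (P : Sylow p G) (hab : IsMulCommutative P) (hP1 : Nat.card P ≠ 1) (hCN : (Subgroup.centralizer ((P : Subgroup G) : Set G)).relIndex (Subgroup.normalizer ((P : Subgroup G) : Set G)) = 3) (hcyc : ∃ g : G, g ∈ Subgroup.normalizer ((P : Subgroup G) : Set G) ∧ Subgroup.centralizer ((P : Subgroup G) : Set G) ⊔ Subgroup.zpowers g = Subgroup.normalizer ((P : Subgroup G) : Set G)) (hm2 : 3 + 1 < Nat.card P) (hfrob : ∀ y : G, y ∈ (P : Subgroup G) → y ≠ 1 → Subgroup.centralizer ({y} : Set G) ⊓ Subgroup.normalizer ((P : Subgroup G) : Set G) =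 Subgroup.centralizer ((P : Subgroup G) : Set G)) : ∃ (X Y : Set (Cfsg.IrrCharacter G)), Cfsg.principalBlock M G = X ∪ Y ∧ Disjoint X Y ∧ Nat.card X = 3 ∧ Nat.card Y = (Nat.card P - 1) / 3 ∧ (∃ χ₁ ∈ X, (χ₁ : G → ℂ) = fun _ => 1) ∧ ∃ (a : Cfsg.IrrCharacter G → ℤ) (δ : ℤ) (ζ : (↥(P : Subgroup G) →* ℂˣ) → Cfsg.IrrCharacter G), (δ = 1 ∨ δ = -1) ∧ (∀ χ ∈ X, (a χ = 1 ∨ a χ = -1) ∧ ∀ z y : G, Cfsg.IsPPart p z y → y ∈ (P : Subgroup G) → y ≠ 1 → (χ : G → ℂ) z = (a χ : ℂ)) ∧ (∀ ψ : ↥(P : Subgroup G) →* ℂˣ, ψ ≠ 1 → ζ ψ ∈ Y) ∧ (∀ η ∈ Y, ∃ ψ : ↥(P : Subgroup G) →* ℂˣ, ψ ≠ 1 ∧ ζ ψ = η) ∧ (∀ ψ ψ' : ↥(P : Subgroup G) →* ℂˣ, ψ ≠ 1 → (∃ n : G, n ∈ Subgroup.normalizer ((P : Subgroup G) : Set G) ∧ ∀ w w' : ↥(P : Subgroup G), (w' : G) = n * w * n⁻¹ → ψ' w' = ψ w) → ζ ψ' = ζ ψ) ∧ (∀ ψ : ↥(P : Subgroup G) →* ℂˣ, ψ ≠ 1 → ∀ (z : G) (y : ↥(P : Subgroup G)), Cfsg.IsPPart p z (y : G) → (y : G) ≠ 1 → (ζ ψ : G → ℂ) z = (δ : ℂ) * ∑ᶠ ψ' ∈ {ψ' : ↥(P :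 Subgroup G) →* ℂˣ | ∃ n : G, n ∈ Subgroup.normalizer ((P : Subgroup G) : Set G) ∧ ∀ w w' : ↥(P : Subgroup G), (w' : G) = n * w * n⁻¹ → ψ' w' = ψ w}, ((ψ' y : ℂˣ) : ℂ)) ∧ ((∃ t : G, orderOf t = 2 ∧ ∀ K : Subgroup G, K.Normal → t ∈ K → K = ⊤) → Nat.card {χ : Cfsg.IrrCharacter G // χ ∈ X ∧ (χ : G → ℂ) ≠ (fun _ => 1) ∧ a χ = -1} + (if δ = 1 then 1 else 0) = 2 ∧ ∀ η ∈ Y, IsSquare (Cfsg.charDegree (η : G → ℂ) * ∏ᶠ χ ∈ {χ : Cfsg.IrrCharacter G | χ ∈ X ∧ (χ : G → ℂ) ≠ fun _ => 1}, Cfsg.charDegree (χ : G → ℂ))) := by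
  classical
  have := BlocksCore.isPrime hM
  have := Fintype.ofFinite G
  have := Fintype.ofFinite (P : Subgroup G)
  have h : BlocksCore.AbelianPrincipal.Free P := ⟨hab, hfrob⟩
  have hrm := BlocksCore.AbelianPrincipal.card_orb_mul h
  rw [hCN] at hrm
  haveI : Nontrivial (BlocksCore.AbelianPrincipal.Orb P) :=
    Fintype.one_lt_card_iff_nontrivial.mp (by omega)
  obtain ⟨D, hd, hcard, hsmall⟩ := BlocksCore.AbelianThree.exists_data hM h hCN hm2
  have hqn : (Nat.card P - 1) / 3 = Fintype.card (BlocksCore.AbelianPrincipal.Orb P) := by omega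
  refine ⟨↑D.X, Set.range D.f, D.principal_eq hM h, ?_, ?_, ?_, ?_, fun χ => -D.c χ, D.ε, D.zeta,
    D.sign, ?_, ?_, ?_, ?_, ?_, ?_⟩
  · rw [Set.disjoint_right]
    rintro _ ⟨o, rfl⟩ hX
    exact ((D.mem_X hM h).mp hX).2 o rfl
  · rw [Nat.card_coe_set_eq, Set.ncard_coe_finset, hcard]
  · rw [Nat.card_range_of_injective D.inj, Nat.card_eq_fintype_card, hqn]
  · exact ⟨BlocksDefect.oneIrr G, D.one_mem_X hM h, rfl⟩
  · intro χ hχ
    refine ⟨?_, fun z y hz hy hy1 => D.apply_X hM h hχ hz hy hy1⟩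
    rcases hsmall χ hχ with e | e <;> simp [e]
  · intro ψ hψ
    rw [BlocksCore.AbelianShape.Data.zeta, dif_neg hψ]
    exact ⟨_, rfl⟩
  · rintro _ ⟨o, rfl⟩
    obtain ⟨⟨ψ, hψ⟩, rfl⟩ := Quotient.exists_rep o
    refine ⟨ψ, hψ, ?_⟩
    rw [BlocksCore.AbelianShape.Data.zeta, dif_neg hψ]
  · intro ψ ψ' hψ hex
    have hrel := BlocksCore.AbelianPrincipal.rel_iff.mpr hex
    have hψ' : ψ' ≠ 1 := by
      rintro rfl
      obtain ⟨n, hn⟩ := hrel
      rw [MonoidHom.one_comp] at hn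
      exact hψ hn.symm
    rw [BlocksCore.AbelianShape.Data.zeta, BlocksCore.AbelianShape.Data.zeta, dif_neg hψ,
      dif_neg hψ', (BlocksCore.AbelianPrincipal.orb_eq_iff hψ hψ').mpr hrel]
  · intro ψ hψ z y hz hy1
    rw [BlocksCore.AbelianShape.Data.zeta, dif_neg hψ, D.apply_f hM h hψ hz hy1, hd, neg_zero,
      Int.cast_zero, zero_add]
  · rintro ⟨t, ht, hgen⟩
    obtain ⟨u, v, hu, hv, huv, hX, hcount, hsquare⟩ :=
      BlocksCore.AbelianThree.involution_part h hCN hM D hd hm2 hcard hsmall ht hgen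
    have hne : ∀ χ : IrrCharacter G, (χ : G → ℂ) ≠ (fun _ => 1) ↔ χ ≠ BlocksDefect.oneIrr G :=
      fun χ => ⟨fun h1 e => h1 (by rw [e]; rfl), fun h1 e => h1 (Subtype.ext e)⟩
    refine ⟨?_, ?_⟩
    · have hset : {χ : IrrCharacter G | χ ∈ (↑D.X : Set (IrrCharacter G)) ∧
          (χ : G → ℂ) ≠ (fun _ => 1) ∧ -D.c χ = -1} =
          ↑(({u, v} : Finset (IrrCharacter G)).filter fun χ => -D.c χ = -1) := by
        ext χ
        simp only [Set.mem_setOf_eq, Finset.mem_coe, Finset.mem_filter, Finset.mem_insert,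
          Finset.mem_singleton, hX, hne]
        constructor
        · rintro ⟨h1 | h1, h2, h3⟩
          · exact absurd h1 h2
          · exact ⟨h1, h3⟩
        · rintro ⟨rfl | rfl, h3⟩
          · exact ⟨Or.inr (Or.inl rfl), hu, h3⟩
          · exact ⟨Or.inr (Or.inr rfl), hv, h3⟩
      change Set.ncard {χ : IrrCharacter G | χ ∈ (↑D.X : Set (IrrCharacter G)) ∧
          (χ : G → ℂ) ≠ (fun _ => 1) ∧ -D.c χ = -1} + _ = 2
      rw [hset, Set.ncard_coe_finset, Finset.card_filter, Finset.sum_pair huv]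
      exact hcount
    · rintro _ ⟨o, rfl⟩
      have hset : {χ : IrrCharacter G | χ ∈ (↑D.X : Set (IrrCharacter G)) ∧
          (χ : G → ℂ) ≠ fun _ => 1} = {u, v} := by
        ext χ
        simp only [Set.mem_setOf_eq, Finset.mem_coe, hX, Finset.mem_insert, Finset.mem_singleton,
          Set.mem_insert_iff, Set.mem_singleton_iff, hne]
        constructor
        · rintro ⟨h1 | h1, h2⟩
          · exact absurd h1 h2
          · exact h1
        · rintro (rfl | rfl)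
          · exact ⟨Or.inr (Or.inl rfl), hu⟩
          · exact ⟨Or.inr (Or.inr rfl), hv⟩
      rw [hset, finprod_mem_pair huv]
      exact hsquare o

end Cfsg.Agent.S4721
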