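import Cfsg.Statements.S4722
import Cfsg.Agent.BC86.Deg
import Cfsg.Agent.S0925
import Cfsg.Agent.Lib.BlocksCore.PPart
import Cfsg.Agent.Lib.BlocksDefect.Kernel
import Cfsg.Agent.Lib.CharCore.Linear
import Cfsg.Agent.Lib.CharCore.Virtual
import Cfsg.Agent.Lib.Thompson.Cores

set_option autoImplicit false
open Cfsg

namespace Cfsg.Agent.S4722

/-- Let M be a maximal ideal of the algebraic integers containing 2, P a 2-subgroup of the finite group G, U a subset of P, and t an involution of G such that no element of U is inverted by any conjugate of t. Let θ be a generalized character of P vanishing outside U, and for χ in the principal 2-block B₀ put a_χ = #P⁻¹ Σ_{y ∈ P} χ(y) θ(y⁻¹). Then Σ_{χ ∈ B₀} a_χ χ(t)^2/χ(1) = 0, Σ_{χ ∈ B₀} a_χ χ(1) = 0 and Σ_{χ ∈ B₀} a_χ χ(t) = 0. If moreover #P⁻¹ Σ_{y ∈ P} θ(y) ≠ 0, then either at least two of the a_χ have positive real part and at least two have negative real part,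 or G has a proper normal subgroup containing O_2'(G) and t. -/
theorem result {G : Type*} [Group G] [Finite G] (M : Ideal Cfsg.AlgInt) (hM : Cfsg.IsPModular 2 M) (P : Subgroup G) (hP : IsPGroup 2 P) (U : Set G) (hUP : U ⊆ (P : Set G)) (t : G) (ht : orderOf t = 2) (hinv : ∀ u ∈ U, ∀ g : G, (g * t * g⁻¹) * u * (g * t * g⁻¹)⁻¹ ≠ u⁻¹) (θ : ↥P → ℂ) (hθ : Cfsg.IsGeneralizedCharacter ↥P θ) (hθU : ∀ y : ↥P, (y : G) ∉ U → θ y = 0) : (∑ᶠ χ ∈ Cfsg.principalBlock M G, ((Nat.card ↥P : ℂ)⁻¹ * ∑ᶠ y : ↥P, (χ : G → ℂ) (y : G) * θ y⁻¹) * (χ : G → ℂ) t ^ 2 / (χ : G → ℂ) 1 = 0) ∧ (∑ᶠ χ ∈ Cfsg.principalBlock M G, ((Nat.card ↥P : ℂ)⁻¹ * ∑ᶠ y : ↥P, (χ : G → ℂ) (y : G) * θ y⁻¹) * (χ : G → ℂ) 1 = 0) ∧ (∑ᶠ χ ∈ Cfsg.principalBlock M G, ((Nat.card ↥P : ℂ)⁻¹ * ∑ᶠ y : ↥P, (χ : G → ℂ) (y : G) * θ y⁻¹) * (χ : G → ℂ) t = 0) ∧ ((Nat.card ↥P : ℂ)⁻¹ * ∑ᶠ y : ↥P, θ y ≠ 0 → (2 ≤ Nat.card {χ : Cfsg.IrrCharacter G // χ ∈ Cfsg.principalBlock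 M G ∧ 0 < (((Nat.card ↥P : ℂ)⁻¹ * ∑ᶠ y : ↥P, (χ : G → ℂ) (y : G) * θ y⁻¹)).re} ∧ 2 ≤ Nat.card {χ : Cfsg.IrrCharacter G // χ ∈ Cfsg.principalBlock M G ∧ (((Nat.card ↥P : ℂ)⁻¹ * ∑ᶠ y : ↥P, (χ : G → ℂ) (y : G) * θ y⁻¹)).re < 0}) ∨ ∃ K : Subgroup G, K.Normal ∧ K ≠ ⊤ ∧ Cfsg.pPrimeCore 2 G ≤ K ∧ t ∈ K) := by
  classical
  have : Fact (Nat.Prime 2) := ⟨Nat.prime_two⟩
  have := BlocksCore.isPrime hM
  have := Fintype.ofFinite G
  have := Fintype.ofFinite P
  set B := Cfsg.principalBlock M G with hB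
  let one : Cfsg.IrrCharacter G := ⟨fun _ => 1, CharCore.isIrrCharacter_one⟩
  have hBb : Cfsg.IsPBlock M B := ⟨one, rfl⟩
  have honeB : one ∈ B := BlocksCore.mem_blockOf_self one
  have htt : t⁻¹ = t := inv_eq_of_mul_eq_one_right (by rw [← pow_two, ← ht, pow_orderOf_eq_one])
  have hU1 : (1 : G) ∉ U := fun h => hinv 1 h 1 (by group)
  set a : Cfsg.IrrCharacter G → ℂ := fun χ =>
    (Nat.card ↥P : ℂ)⁻¹ * ∑ᶠ y : ↥P, (χ : G → ℂ) (y : G) * θ y⁻¹ with ha
  have hgen : ∀ (c : Cfsg.IrrCharacter G → ℂ),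
      (∀ u ∈ U, ∀ z x : G, Cfsg.IsPPart 2 z x → IsConj u x →
        ∑ χ : Cfsg.IrrCharacter G, c χ * (χ : G → ℂ) z = 0) →
      ∑ᶠ χ ∈ B, a χ * c χ = 0 := by
    intro c hc
    let F : G → ℂ := ∑ χ : Cfsg.IrrCharacter G, c χ • (χ : G → ℂ)
    have hF : ∀ z, F z = ∑ χ : Cfsg.IrrCharacter G, c χ * (χ : G → ℂ) z := fun z => by
      simp [F, Finset.sum_apply]
    have hpart : ∀ y : P, (y : G) ∈ U → ∑ χ ∈ B.toFinset, c χ * (χ : G → ℂ) y = 0 := by
      intro y hy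
      obtain ⟨k, hk⟩ := IsPGroup.iff_orderOf.mp hP y
      have hyp : Cfsg.IsPPart 2 (y : G) (y : G) := ⟨1, mul_one _, Commute.one_right _,
        ⟨k, by rw [Subgroup.orderOf_coe, hk]⟩, by simp⟩
      have h := (S0925.result 2 M hM).1 F (CharCore.isClassFunction_sum_irr c) (y : G)
        ⟨k, by rw [Subgroup.orderOf_coe, hk]⟩ (fun u z hu hz => by rw [hF]; exact hc _ hy u z hu hz)
        B hBb (y : G) (y : G) hyp (IsConj.refl _)
      rw [Cfsg.blockPart, finsum_mem_eq_toFinset_sum] at h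
      rw [← h]
      refine Finset.sum_congr rfl fun χ _ => ?_
      congr 1
      have h2 := CharCore.classInner_sum_all c χ
      convert h2.symm using 2
    rw [finsum_mem_eq_toFinset_sum]
    simp only [ha, finsum_eq_sum_of_fintype, Finset.mul_sum, Finset.sum_mul]
    rw [Finset.sum_comm]
    refine Finset.sum_eq_zero fun y _ => ?_
    calc ∑ χ ∈ B.toFinset, (Nat.card ↥P : ℂ)⁻¹ * ((χ : G → ℂ) y * θ y⁻¹) * c χ
        = (Nat.card ↥P : ℂ)⁻¹ * (θ y⁻¹ * ∑ χ ∈ B.toFinset, c χ * (χ : G → ℂ) y) := by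
          rw [Finset.mul_sum, Finset.mul_sum]
          exact Finset.sum_congr rfl fun χ _ => by ring
      _ = 0 := by
          by_cases h0 : θ y⁻¹ = 0
          · rw [h0, zero_mul, mul_zero]
          · rw [hpart y ?_, mul_zero, mul_zero]
            by_contra hn
            exact h0 (by rw [CharCore.IsGeneralizedCharacter.apply_inv hθ, hθU y hn, map_zero])
  have hcol : ∀ v z : G, ¬ IsConj z v⁻¹ →
      ∑ χ : Cfsg.IrrCharacter G, (χ : G → ℂ) v * (χ : G → ℂ) z = 0 := by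
    intro v z hne
    have h := BC86.col_orth z v⁻¹
    rw [if_neg hne] at h
    rw [← h]
    refine Finset.sum_congr rfl fun χ _ => ?_
    rw [BlocksCore.conj_irr, inv_inv, mul_comm]
  have h1 : ∑ᶠ χ ∈ B, a χ * (χ : G → ℂ) 1 = 0 := by
    refine hgen (fun χ => (χ : G → ℂ) 1) fun u hu z x hzx hux => hcol 1 z fun hz => hU1 ?_
    rw [inv_one, isConj_one_left] at hz
    subst hz
    have hx : x = 1 := BlocksCore.isPPart_unique Nat.prime_two hzx
      ⟨1, mul_one _, Commute.one_right _, ⟨0, by simp⟩, by simp⟩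
    rw [hx, isConj_one_left] at hux
    exact hux ▸ hu
  have h2 : ∑ᶠ χ ∈ B, a χ * (χ : G → ℂ) t = 0 := by
    refine hgen (fun χ => (χ : G → ℂ) t) fun u hu z x hzx hux => hcol t z fun hz => ?_
    rw [htt] at hz
    obtain ⟨g, hg⟩ := isConj_iff.mp hz
    have hxt : g * x * g⁻¹ = t := BlocksCore.isPPart_unique Nat.prime_two
      (hg ▸ BlocksCore.isPPart_conj hzx g)
      ⟨1, mul_one _, Commute.one_right _, ⟨1, by rw [ht, pow_one]⟩, by simp⟩
    obtain ⟨c, hc⟩ := isConj_iff.mp hux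
    refine hinv u hu (c⁻¹ * g⁻¹) ?_
    have e : c⁻¹ * g⁻¹ * t * (c⁻¹ * g⁻¹)⁻¹ = u := by rw [← hxt, ← hc]; group
    have e2 : u⁻¹ = u := by rw [← e]; simp only [mul_inv_rev, inv_inv, htt]; group
    rw [e, mul_inv_cancel_right, e2]
  have h3 : ∑ᶠ χ ∈ B, a χ * ((χ : G → ℂ) t ^ 2 / (χ : G → ℂ) 1) = 0 := by
    refine hgen (fun χ => (χ : G → ℂ) t ^ 2 / (χ : G → ℂ) 1) fun u hu z x hzx hux => ?_
    have e : ∀ χ : Cfsg.IrrCharacter G, (χ : G → ℂ) t ^ 2 / (χ : G → ℂ) 1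
        = (Nat.card G : ℂ)⁻¹ * ∑ g : G, (χ : G → ℂ) (g * t * g⁻¹ * t) := by
      intro χ
      have h := BC86.sum_conj_mul χ t t
      rw [eq_inv_mul_iff_mul_eq₀ (Nat.cast_ne_zero.mpr Nat.card_pos.ne'), mul_div_assoc',
        div_eq_iff (CharCore.irr_apply_one_ne_zero χ), sq, ← h, mul_comm]
    simp only [e, Finset.mul_sum, Finset.sum_mul]
    rw [Finset.sum_comm]
    refine Finset.sum_eq_zero fun g _ => ?_
    simp only [mul_assoc (Nat.card G : ℂ)⁻¹, ← Finset.mul_sum]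
    rw [hcol _ z ?_, mul_zero]
    intro hz
    obtain ⟨f, hf⟩ := isConj_iff.mp hz
    have hr : t * (f * z * f⁻¹) * t⁻¹ = (f * z * f⁻¹)⁻¹ := by
      rw [hf]; simp only [mul_inv_rev, inv_inv, htt, mul_assoc]
      rw [← mul_assoc t t, show t * t = 1 by nth_rewrite 1 [← htt]; exact inv_mul_cancel t,
        one_mul]
    set x' := f * x * f⁻¹ with hx'
    have hp1 : Cfsg.IsPPart 2 (f * z * f⁻¹)⁻¹ x'⁻¹ := by
      obtain ⟨y, hy, hxy, ⟨k, hk⟩, hy'⟩ := BlocksCore.isPPart_conj hzx f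
      exact ⟨y⁻¹, by rw [hx', ← hy, hxy.eq]; group, hxy.inv_inv, ⟨k, by rw [orderOf_inv, hk]⟩,
        by rwa [orderOf_inv]⟩
    have hx2 : t * x' * t⁻¹ = x'⁻¹ := BlocksCore.isPPart_unique Nat.prime_two
      (hr ▸ BlocksCore.isPPart_conj (BlocksCore.isPPart_conj hzx f) t) hp1
    obtain ⟨c, hc⟩ := isConj_iff.mp hux
    refine hinv u hu (c⁻¹ * f⁻¹) ?_
    have e' : u = c⁻¹ * f⁻¹ * x' * (c⁻¹ * f⁻¹)⁻¹ := by rw [hx', ← hc]; group
    rw [e']
    calc _ = c⁻¹ * f⁻¹ * (t * x' * t⁻¹) * (c⁻¹ * f⁻¹)⁻¹ := by group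
      _ = _ := by rw [hx2]; group
  refine ⟨?_, h1, h2, ?_⟩
  · rw [← h3]
    exact finsum_mem_congr rfl fun χ _ => by rw [ha, mul_div_assoc]
  intro hne
  have hint : ∀ χ : Cfsg.IrrCharacter G, ∃ k : ℤ, a χ = k := by
    intro χ
    obtain ⟨k, hk⟩ := CharCore.IsGeneralizedCharacter.exists_classInner_eq_intCast
      (CharCore.isGeneralized_restrict (CharCore.irr_isGeneralized χ) P) hθ
    refine ⟨k, ?_⟩
    rw [← hk, ha, CharCore.classInner_def]
    simp only [finsum_eq_sum_of_fintype]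
    exact congrArg _ (Finset.sum_congr rfl fun y _ => by
      rw [CharCore.IsGeneralizedCharacter.apply_inv hθ])
  choose k hk using hint
  have hre : ∀ χ, (a χ).re = (k χ : ℝ) := fun χ => by rw [hk, Complex.intCast_re]
  have hk1 : k one ≠ 0 := by
    intro h0
    refine hne ?_
    have h := hk one
    rw [h0, Int.cast_zero, ha] at h
    simp only [one, one_mul, finsum_eq_sum_of_fintype] at h
    rw [← Equiv.sum_comp (Equiv.inv P)] at h
    rw [finsum_eq_sum_of_fintype]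
    simpa using h
  set d : Cfsg.IrrCharacter G → ℝ := fun χ => (Cfsg.charDegree (χ : G → ℂ) : ℝ) with hd
  have hdc : ∀ χ : Cfsg.IrrCharacter G, (χ : G → ℂ) 1 = (d χ : ℂ) := fun χ => by
    rw [hd, Complex.ofReal_natCast, BC86.charDegree_cast]
  set τ : Cfsg.IrrCharacter G → ℝ := fun χ => ((χ : G → ℂ) t).re with hτ
  have hτc : ∀ χ : Cfsg.IrrCharacter G, (χ : G → ℂ) t = (τ χ : ℂ) := fun χ =>
    (Complex.conj_eq_iff_re.mp (by rw [BlocksCore.conj_irr, htt])).symm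
  have hdpos : ∀ χ, 0 < d χ := fun χ => Nat.cast_pos.mpr (BC86.charDegree_pos χ)
  set S := B.toFinset with hS
  have e1 : ∑ χ ∈ S, (k χ : ℝ) * d χ = 0 := by
    have h := h1
    rw [finsum_mem_eq_toFinset_sum] at h
    apply Complex.ofReal_injective
    rw [Complex.ofReal_zero, ← h, Complex.ofReal_sum]
    exact Finset.sum_congr rfl fun χ _ => by rw [hk, hdc]; push_cast; rfl
  have e2 : ∑ χ ∈ S, (k χ : ℝ) * τ χ = 0 := by
    have h := h2
    rw [finsum_mem_eq_toFinset_sum] at h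
    apply Complex.ofReal_injective
    rw [Complex.ofReal_zero, ← h, Complex.ofReal_sum]
    exact Finset.sum_congr rfl fun χ _ => by rw [hk, hτc]; push_cast; rfl
  have e3 : ∑ χ ∈ S, (k χ : ℝ) * (τ χ ^ 2 / d χ) = 0 := by
    have h := h3
    rw [finsum_mem_eq_toFinset_sum] at h
    apply Complex.ofReal_injective
    rw [Complex.ofReal_zero, ← h, Complex.ofReal_sum]
    exact Finset.sum_congr rfl fun χ _ => by rw [hk, hτc, hdc]; push_cast; rfl
  have hmain : ∀ s : ℝ, s ≠ 0 →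
      (∀ χ ψ, χ ∈ S → ψ ∈ S → 0 < s * k χ → 0 < s * k ψ → χ = ψ) →
      ∃ K : Subgroup G, K.Normal ∧ K ≠ ⊤ ∧ Cfsg.pPrimeCore 2 G ≤ K ∧ t ∈ K := by
    intro s hs huniq
    have honeS : one ∈ S := Set.mem_toFinset.mpr honeB
    obtain ⟨e, heS, he⟩ : ∃ e ∈ S, 0 < s * k e := by
      by_contra hcon
      push Not at hcon
      have hall := (Finset.sum_eq_zero_iff_of_nonpos (f := fun χ => s * k χ * d χ) fun χ hχ =>
        mul_nonpos_of_nonpos_of_nonneg (hcon χ hχ) (hdpos χ).le).mp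
          (by simp only [mul_assoc, ← Finset.mul_sum, e1, mul_zero]) one honeS
      simp only [mul_eq_zero, hs, (hdpos one).ne', Int.cast_eq_zero, hk1, or_self] at hall
    set r := τ e / d e with hr
    have hsum : ∑ χ ∈ S, s * k χ * ((τ χ - r * d χ) ^ 2 / d χ) = 0 := by
      have e4 : ∀ χ, s * k χ * ((τ χ - r * d χ) ^ 2 / d χ) = s * ((k χ : ℝ) * (τ χ ^ 2 / d χ))
          - 2 * r * s * ((k χ : ℝ) * τ χ) + r ^ 2 * s * ((k χ : ℝ) * d χ) := fun χ => by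
        have := (hdpos χ).ne'
        field_simp
        ring
      simp only [e4, Finset.sum_add_distrib, Finset.sum_sub_distrib, ← Finset.mul_sum, e1, e2, e3,
        mul_zero, sub_zero, add_zero]
    have hzero : ∀ χ ∈ S, k χ ≠ 0 → τ χ = r * d χ := by
      intro χ hχ hkχ
      have hall := (Finset.sum_eq_zero_iff_of_nonpos fun ψ hψ => ?_).mp hsum χ hχ
      · simp only [mul_eq_zero, hs, Int.cast_eq_zero, hkχ, false_or, div_eq_zero_iff,
          (hdpos χ).ne', or_false, pow_eq_zero_iff two_ne_zero, sub_eq_zero] at hall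
        exact hall
      · rcases le_or_gt (s * (k ψ : ℝ)) 0 with hle | hlt
        · exact mul_nonpos_of_nonpos_of_nonneg hle (div_nonneg (sq_nonneg _) (hdpos ψ).le)
        · rw [huniq ψ e hψ heS hlt he, hr, div_mul_cancel₀ _ (hdpos e).ne', sub_self]
          simp
    have hr1 : r = 1 := by
      have h := hzero one honeS hk1
      simpa [hτ, hd, one, Cfsg.charDegree] using h.symm
    obtain ⟨χ, hχS, hχne, hχk⟩ : ∃ χ ∈ S, χ ≠ one ∧ k χ ≠ 0 := by
      by_contra hcon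
      push Not at hcon
      rw [Finset.sum_eq_single one (fun χ hχ h => by rw [hcon χ hχ h]; simp)
        (fun h => absurd honeS h)] at e1
      simp [hk1, (hdpos one).ne'] at e1
    refine ⟨CharCore.charKernel (CharCore.irr_isCharacter χ), inferInstance, ?_, ?_, ?_⟩
    · intro htop
      have hc : ∀ g, (χ : G → ℂ) g = (χ : G → ℂ) 1 := fun g =>
        (CharCore.mem_charKernel (CharCore.irr_isCharacter χ) g).mp (htop ▸ Subgroup.mem_top g)
      refine one_ne_zero (α := ℂ) ?_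
      have h := CharCore.classInner_irr_of_ne hχne
      simp only [Cfsg.classInner, one, hc, map_one, mul_one, Finset.sum_const, Finset.card_univ,
        nsmul_eq_mul] at h
      simp [Fintype.card_ne_zero, CharCore.irr_apply_one_ne_zero χ] at h
    · intro x hx
      exact BlocksDefect.kernel_of_sameBlock hM (χ := one) (Set.mem_toFinset.mp hχS)
        (Cfsg.pPrimeCore 2 G) Thompson.not_dvd_card_pPrimeCore (fun n _ => rfl) x hx
    · show (χ : G → ℂ) t = (χ : G → ℂ) 1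
      rw [hτc, hdc, hzero χ hχS hχk, hr1, one_mul]
  rcases Nat.lt_or_ge (Nat.card {χ : Cfsg.IrrCharacter G // χ ∈ B ∧ 0 < (a χ).re}) 2 with h | h
  · refine Or.inr (hmain 1 one_ne_zero fun χ ψ hχ hψ h1 h2 => ?_)
    have := Finite.card_le_one_iff_subsingleton.mp (Nat.le_of_lt_succ h)
    exact congrArg Subtype.val (Subsingleton.elim
      (⟨χ, Set.mem_toFinset.mp hχ, by simpa [hre] using h1⟩ :
        {χ : Cfsg.IrrCharacter G // χ ∈ B ∧ 0 < (a χ).re})
      ⟨ψ, Set.mem_toFinset.mp hψ, by simpa [hre] using h2⟩)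
  rcases Nat.lt_or_ge (Nat.card {χ : Cfsg.IrrCharacter G // χ ∈ B ∧ (a χ).re < 0}) 2 with h' | h'
  · refine Or.inr (hmain (-1) (by norm_num) fun χ ψ hχ hψ h1 h2 => ?_)
    have := Finite.card_le_one_iff_subsingleton.mp (Nat.le_of_lt_succ h')
    exact congrArg Subtype.val (Subsingleton.elim
      (⟨χ, Set.mem_toFinset.mp hχ, by simpa [hre] using h1⟩ :
        {χ : Cfsg.IrrCharacter G // χ ∈ B ∧ (a χ).re < 0})
      ⟨ψ, Set.mem_toFinset.mp hψ, by simpa [hre] using h2⟩)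
  exact Or.inl ⟨h, h'⟩

end Cfsg.Agent.S4722
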