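import Cfsg.Statements.S4723
import Cfsg.Agent.BC86.HeightZeroFixed

set_option autoImplicit false
open Cfsg

namespace Cfsg.Agent.S4723

/-- Let p be a prime, M a maximal ideal of the algebraic integers containing p, H a normal subgroup of the finite group G and b a p-block of H. Let T be the stabilizer of b in G. Then b contains a character θ of height zero whose own stabilizer in G (the elements g with θ(g h g⁻¹) = θ(h) for all h ∈ H) has index prime to p in T, i.e. contains a Sylow p-subgroup of T. -/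
theorem result {G : Type*} [Group G] [Finite G] (p : ℕ) [Fact p.Prime] (M : Ideal Cfsg.AlgInt) (hM : Cfsg.IsPModular p M) (H : Subgroup G) [H.Normal] (b : Set (Cfsg.IrrCharacter ↥H)) (hb : Cfsg.IsPBlock M b) (T : Subgroup G) (hT : (∀ g : G, g ∈ T ↔ ∀ θ ∈ b, ∀ θ' : Cfsg.IrrCharacter ↥H, (∀ h h' : ↥H, (h' : G) = g * h * g⁻¹ → (θ' : ↥H → ℂ) h' = (θ : ↥H → ℂ) h) → θ' ∈ b)) : ∃ θ ∈ b, Cfsg.blockHeight p b (θ : ↥H → ℂ) = 0 ∧ ∃ S : Subgroup G, S ≤ T ∧ (∀ g : G, g ∈ S ↔ (g ∈ T ∧ ∀ h h' : ↥H, (h' : G) = g * h * g⁻¹ → (θ : ↥H → ℂ) h' = (θ : ↥H → ℂ) h)) ∧ ¬ p ∣ S.relIndex T := by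
  classical
  have := Fintype.ofFinite G
  have := BlocksCore.isPrime hM
  have hHT : H ≤ T := by
    intro g hg
    refine (hT g).mpr fun θ hθ θ' h => ?_
    have : θ' = θ := Subtype.ext (funext fun k => by
      have hk := h (⟨g, hg⟩⁻¹ * k * ⟨g, hg⟩) k (by simp [mul_assoc])
      rw [hk]
      have := BlocksCore.irr_class θ k (⟨g, hg⟩⁻¹ : H)
      simpa using this)
    rwa [this]
  set e := Subgroup.subgroupOfEquivOfLe hHT with he
  set b' := BC85.pullIrr e '' b with hb'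
  haveI : (H.subgroupOf T).Normal := inferInstance
  have hb'b : IsPBlock M b' := BC85.isPBlock_image_pullIrr e hb
  have hecoe : ∀ n : H.subgroupOf T, ((e n : H) : G) = ((n : T) : G) := fun n => rfl
  have hdeg : ∀ θ : IrrCharacter H, charDegree (BC85.pullIrr e θ : H.subgroupOf T → ℂ) =
      charDegree (θ : H → ℂ) := by
    intro θ
    have h := BlocksCore.irr_one_eq (BC85.pullIrr e θ)
    rw [BC85.pullIrr_apply, map_one, BlocksCore.irr_one_eq] at h
    exact_mod_cast h.symm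
  have hst : ∀ g : T, ∀ θ ∈ b', BlocksDefect.conjIrr g θ ∈ b' := by
    rintro g _ ⟨θ, hθ, rfl⟩
    refine ⟨BlocksDefect.conjIrr (g : G) θ, (hT ((g : G)⁻¹)).mp (inv_mem g.2) θ hθ _ ?_, ?_⟩
    · intro h h' hh
      refine congrArg (θ : H → ℂ) (Subtype.ext ?_)
      show (g : G) * (h' : G) * (g : G)⁻¹ = h
      rw [hh]; group
    · exact Subtype.ext (funext fun n => congrArg (θ : H → ℂ) (Subtype.ext rfl))
  obtain ⟨S⟩ := (inferInstance : Nonempty (Sylow p T))
  obtain ⟨_, ⟨θ, hθ, rfl⟩, hdeg0, hfix⟩ := BC86.exists_height_zero_fixed hM hb'b hst S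
  refine ⟨θ, hθ, ?_, ?_⟩
  · rw [hdeg, hb', Set.image_image] at hdeg0
    simp only [hdeg] at hdeg0
    rw [blockHeight, hdeg0, Nat.sub_self]
  let R : Subgroup G :=
    { carrier := {g | g ∈ T ∧ ∀ h h' : H, (h' : G) = g * h * g⁻¹ →
        (θ : H → ℂ) h' = (θ : H → ℂ) h}
      one_mem' := ⟨T.one_mem, fun h h' hh => congrArg (θ : H → ℂ) (Subtype.ext (by simpa using hh))⟩
      mul_mem' := fun {a c} ha hc => ⟨T.mul_mem ha.1 hc.1, fun h h' hh => by
        let m : H := ⟨c * h * c⁻¹, Subgroup.Normal.conj_mem inferInstance _ h.2 c⟩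
        rw [ha.2 m h' (by rw [hh]; simp [m, mul_assoc]), hc.2 h m rfl]⟩
      inv_mem' := fun {a} ha => ⟨T.inv_mem ha.1, fun h h' hh =>
        (ha.2 h' h (by rw [hh]; group)).symm⟩ }
  refine ⟨R, fun g hg => hg.1, fun g => Iff.rfl, ?_⟩
  have hSR : (S : Subgroup T) ≤ R.subgroupOf T := by
    intro u hu
    refine ⟨u.2, fun h h' hh => ?_⟩
    have h1 := congrFun (congrArg Subtype.val (hfix u hu)) (e.symm h)
    show (θ : H → ℂ) h' = (θ : H → ℂ) h
    have h2 : (θ : H → ℂ) (e (⟨(u : T) * (e.symm h : T) * (u : T)⁻¹, _⟩ : H.subgroupOf T)) =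
        (θ : H → ℂ) (e (e.symm h)) := h1
    rw [e.apply_symm_apply] at h2
    rw [← h2]
    exact congrArg (θ : H → ℂ) (Subtype.ext hh)
  exact fun h => S.not_dvd_index (h.trans (Subgroup.index_dvd_of_le hSR))

end Cfsg.Agent.S4723
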