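import Cfsg.Statements.S4725
import Cfsg.Agent.BC86.Deg
import Cfsg.Agent.Lib.BlocksDefect.Induced
import Cfsg.Agent.Lib.CharInd.Char

set_option autoImplicit false
open Cfsg

namespace Cfsg.Agent.S4725

/-- Let p be a prime, M a maximal ideal of the algebraic integers containing p, H a subgroup of the finite group G, and b a p-block of H inducing the p-block B of G, with b and B of the same defect. Then for every height-zero ζ ∈ b there is a height-zero χ ∈ B whose multiplicity in the character induced from ζ is not divisible by p. -/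
theorem result {G : Type*} [Group G] [Fintype G] (p : ℕ) [Fact p.Prime] (M : Ideal Cfsg.AlgInt) (hM : Cfsg.IsPModular p M) (H : Subgroup G) (b : Set (Cfsg.IrrCharacter ↥H)) (B : Set (Cfsg.IrrCharacter G)) (hind : Cfsg.IsInducedBlock M H b B) (hdef : Cfsg.blockDefect p b = Cfsg.blockDefect p B) (ζ : Cfsg.IrrCharacter ↥H) (hζ : ζ ∈ b) (hζ0 : Cfsg.blockHeight p b (ζ : ↥H → ℂ) = 0) : ∃ χ ∈ B, Cfsg.blockHeight p B (χ : G → ℂ) = 0 ∧ ∃ a : ℕ, Cfsg.classInner (Cfsg.indFun H (ζ : ↥H → ℂ)) (χ : G → ℂ) = (a : ℂ) ∧ ¬ p ∣ a := by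
  classical
  have := BlocksCore.isPrime hM
  have := Fintype.ofFinite H
  have hp : p.Prime := Fact.out
  obtain ⟨hb, hB⟩ := BlocksDefect.isPBlock_of_induced hind
  set I := Cfsg.indFun H (ζ : ↥H → ℂ) with hI
  choose m hm using fun φ : Cfsg.IrrCharacter G =>
    CharCore.IsCharacter.exists_classInner_irr_eq_natCast
      (CharInd.isCharacter_indFun H (CharCore.irr_isCharacter ζ)) φ
  by_contra hcon
  push Not at hcon
  obtain ⟨φ0, hφ0⟩ := BlocksCore.isPBlock_nonempty hB
  set u := BlocksCore.omega (ζ : ↥H → ℂ) (BlocksDefect.res H (Cfsg.blockCoeff B)) with hu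
  have hu1 : MemLocalIdeal M (u - 1) := by
    have := BlocksDefect.omega_induced hM hind hζ hφ0 (BlocksCore.isIntClassFun_blockCoeff hM hB)
    rwa [BlocksCore.omega_blockCoeff, Set.indicator_of_mem hφ0] at this
  have hsum : ((∑ φ ∈ B.toFinset, m φ * Cfsg.charDegree (φ : G → ℂ) : ℕ) : ℂ)
      = ((H.index * Cfsg.charDegree (ζ : ↥H → ℂ) : ℕ) : ℂ) * u := by
    have hG : (Nat.card G : ℂ) ≠ 0 := Nat.cast_ne_zero.mpr Nat.card_pos.ne'
    have hH : (Nat.card H : ℂ) ≠ 0 := Nat.cast_ne_zero.mpr Nat.card_pos.ne'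
    have hidx : (Nat.card G : ℂ) = (H.index : ℂ) * (Nat.card H : ℂ) := by
      rw [← Nat.cast_mul, Subgroup.index_mul_card]
    have hI0 : (H.index : ℂ) ≠ 0 := Nat.cast_ne_zero.mpr Subgroup.index_ne_zero_of_finite
    have hu' : u * (ζ : ↥H → ℂ) 1 = (Nat.card G : ℂ)⁻¹ * ((Nat.card H : ℂ) *
        ∑ φ ∈ B.toFinset, (φ : G → ℂ) 1 * (m φ : ℂ)) := by
      rw [hu, BlocksCore.omega_eq_sum, div_mul_cancel₀ _ (CharCore.irr_apply_one_ne_zero ζ)]
      simp only [BlocksDefect.res, Cfsg.blockCoeff, finsum_mem_eq_toFinset_sum]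
      simp only [Finset.mul_sum, Finset.sum_mul]
      rw [Finset.sum_comm]
      refine Finset.sum_congr rfl fun φ _ => ?_
      rw [← hm φ, CharInd.classInner_indFun_left H _ (CharCore.irr_isClassFunction φ),
        CharCore.classInner_def]
      simp only [Finset.mul_sum]
      refine Finset.sum_congr rfl fun h _ => ?_
      field_simp
    push_cast
    simp only [BC86.charDegree_cast]
    rw [mul_comm _ u, ← mul_assoc, mul_comm (u : ℂ) (H.index : ℂ), mul_assoc, hu', hidx]
    field_simp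
    exact Finset.sum_congr rfl fun φ _ => mul_comm _ _
  set e := (H.index * Cfsg.charDegree (ζ : ↥H → ℂ)).factorization p with he
  have hne : H.index * Cfsg.charDegree (ζ : ↥H → ℂ) ≠ 0 :=
    Nat.mul_ne_zero Subgroup.index_ne_zero_of_finite (BC86.charDegree_ne_zero ζ)
  set dg : Cfsg.IrrCharacter G → ℕ := fun φ => (Cfsg.charDegree (φ : G → ℂ)).factorization p
  have hlow : ∀ φ ∈ B, e ≤ dg φ ∧ (Cfsg.blockHeight p B (φ : G → ℂ) ≠ 0 → e + 1 ≤ dg φ) := by
    intro φ hφ
    have h1 : sInf (dg '' B) ≤ dg φ := Nat.sInf_le ⟨φ, hφ, rfl⟩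
    have h2 : sInf ((fun χ : Cfsg.IrrCharacter ↥H =>
        (Cfsg.charDegree (χ : ↥H → ℂ)).factorization p) '' b)
          = (Cfsg.charDegree (ζ : ↥H → ℂ)).factorization p :=
      le_antisymm (Nat.sInf_le ⟨ζ, hζ, rfl⟩) (by
        have := hζ0; rw [Cfsg.blockHeight] at this; omega)
    have h3 : (Cfsg.charDegree (ζ : ↥H → ℂ)).factorization p ≤ (Nat.card H).factorization p :=
      (Nat.factorization_le_iff_dvd (BC86.charDegree_ne_zero ζ) Nat.card_pos.ne').mpr
        (BC86.degree_dvd_card ζ) p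
    have h4 : dg φ ≤ (Nat.card G).factorization p :=
      (Nat.factorization_le_iff_dvd (BC86.charDegree_ne_zero φ) Nat.card_pos.ne').mpr
        (BC86.degree_dvd_card φ) p
    have h5 : (Nat.card G).factorization p =
        H.index.factorization p + (Nat.card H).factorization p := by
      rw [← Subgroup.index_mul_card H, Nat.factorization_mul Subgroup.index_ne_zero_of_finite
        Nat.card_pos.ne', Finsupp.add_apply]
    have h6 : e = H.index.factorization p + (Cfsg.charDegree (ζ : ↥H → ℂ)).factorization p := by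
      rw [he, Nat.factorization_mul Subgroup.index_ne_zero_of_finite (BC86.charDegree_ne_zero ζ),
        Finsupp.add_apply]
    have h7 : Cfsg.blockHeight p B (φ : G → ℂ) = dg φ - sInf (dg '' B) := rfl
    have h8 := hdef
    rw [Cfsg.blockDefect, Cfsg.blockDefect, h2] at h8
    change _ = (Nat.card G).factorization p - sInf (dg '' B) at h8
    refine ⟨by omega, fun h9 => by omega⟩
  have hdvd : p ^ (e + 1) ∣ ∑ φ ∈ B.toFinset, m φ * Cfsg.charDegree (φ : G → ℂ) := by
    refine Finset.dvd_sum fun φ hφ => ?_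
    have hφB : φ ∈ B := Set.mem_toFinset.mp hφ
    by_cases h0 : Cfsg.blockHeight p B (φ : G → ℂ) = 0
    · rw [pow_succ']
      exact Nat.mul_dvd_mul (hcon φ hφB h0 _ (hm φ))
        ((pow_dvd_pow p (hlow φ hφB).1).trans (Nat.ordProj_dvd _ _))
    · exact ((pow_dvd_pow p ((hlow φ hφB).2 h0)).trans (Nat.ordProj_dvd _ _)).mul_left _
  obtain ⟨N, hN⟩ := hdvd
  set s := H.index * Cfsg.charDegree (ζ : ↥H → ℂ) / p ^ e with hs
  have hsu : (s : ℂ) * u = ((p * N : ℕ) : ℂ) := by
    refine mul_left_cancel₀ (pow_ne_zero e (Nat.cast_ne_zero.mpr hp.ne_zero : (p : ℂ) ≠ 0)) ?_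
    rw [← mul_assoc, ← Nat.cast_pow, ← Nat.cast_mul, hs, he, Nat.ordProj_mul_ordCompl_eq_self,
      ← hsum, hN, ← he, pow_succ, ← Nat.cast_mul, mul_assoc]
  have h4 : MemLocalIdeal M (((p * N : ℕ) : ℂ) - (s : ℂ)) := by
    rw [← hsu, ← mul_sub_one]
    exact BlocksCore.memLocalIdeal_mul_left (BlocksCore.memLocalRing_natCast s) hu1
  have h5 := BlocksCore.memLocalIdeal_sub
    ((BlocksCore.memLocalIdeal_natCast_iff hM _).mpr (dvd_mul_right p N)) h4
  rw [sub_sub_cancel] at h5
  exact Nat.not_dvd_ordCompl hp hne ((BlocksCore.memLocalIdeal_natCast_iff hM _).mp h5)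

end Cfsg.Agent.S4725
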