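import Cfsg.Statements.S4726
import Cfsg.Agent.BC86.InducedNested

set_option autoImplicit false
open Cfsg

namespace Cfsg.Agent.S4726

/-- Let p be a prime, M a maximal ideal of the algebraic integers containing p, H a subgroup of the finite group G and b a p-block of H with defect group D₀ such that C_G(D₀) ≤ H. Then b induces a block of G, and for every block B of G induced by b there is a defect group D of B with Z(D) ≤ Z(D₀) ≤ D₀ ≤ D (as subgroups of G). In particular, if the defect groups of B are abelian then D₀ is a defect group of B. -/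
theorem result {G : Type*} [Group G] [Finite G] (p : ℕ) [Fact p.Prime] (M : Ideal Cfsg.AlgInt) (hM : Cfsg.IsPModular p M) (H : Subgroup G) (b : Set (Cfsg.IrrCharacter ↥H)) (hb : Cfsg.IsPBlock M b) (D₀ : Subgroup ↥H) (hD₀ : Cfsg.IsDefectGroup p M b D₀) (hC : Subgroup.centralizer ((D₀.map H.subtype : Subgroup G) : Set G) ≤ H) : Cfsg.InducedBlockDefined M H b ∧ ∀ B : Set (Cfsg.IrrCharacter G), Cfsg.IsInducedBlock M H b B → (∃ D : Subgroup G, Cfsg.IsDefectGroup p M B D ∧ (Subgroup.center ↥D).map D.subtype ≤ ((Subgroup.center ↥D₀).map D₀.subtype).map H.subtype ∧ ((Subgroup.center ↥D₀).map D₀.subtype).map H.subtype ≤ D₀.map H.subtype ∧ D₀.map H.subtype ≤ D) ∧ (∀ D : Subgroup G, Cfsg.IsDefectGroup p M B D → IsMulCommutative ↥D → Cfsg.IsDefectGroup p M B (D₀.map H.subtype)) := by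
  classical
  have := Fintype.ofFinite G
  have := Fintype.ofFinite H
  obtain ⟨B₀, hB₀, D, hD, hle, hz⟩ := BC86.exists_induced_nested hM hb hD₀ hC
  refine ⟨⟨B₀, hB₀⟩, fun B hB => ?_⟩
  obtain rfl : B = B₀ := BC84.induced_unique hM hB hB₀
  refine ⟨⟨D, hD, ?_, Subgroup.map_mono (Subgroup.map_subtype_le _), hle⟩, fun E hE hcomm => ?_⟩
  · rintro _ ⟨z, hzc, rfl⟩
    obtain ⟨r, hr, hrz⟩ := hz z z.2 fun w hw =>
      congrArg Subtype.val (Subgroup.mem_center_iff.mp hzc ⟨w, hw⟩)
    refine ⟨r, ⟨⟨r, hr⟩, Subgroup.mem_center_iff.mpr fun s => Subtype.ext (Subtype.ext ?_), rfl⟩, hrz⟩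
    have h1 : ((s : H) : G) * (z : G) = (z : G) * ((s : H) : G) :=
      congrArg Subtype.val (Subgroup.mem_center_iff.mp hzc ⟨_, hle ⟨s, s.2, rfl⟩⟩)
    show ((s : H) : G) * (r : G) = (r : G) * ((s : H) : G)
    rw [← hrz] at h1
    exact h1
  · obtain ⟨x, hx⟩ := BlocksDefect.isConj_defectGroup hM hB.2.1 hE hD
    have e : D₀.map H.subtype = D := by
      refine le_antisymm hle fun z hzD => hz z hzD fun w hw => ?_
      rw [← hx] at hzD hw
      obtain ⟨z', hz', rfl⟩ := hzD
      obtain ⟨w', hw', rfl⟩ := hw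
      rw [← map_mul, ← map_mul]
      exact congrArg _ (congrArg Subtype.val (hcomm.is_comm.comm (⟨w', hw'⟩ : E) ⟨z', hz'⟩))
    exact e ▸ hD

end Cfsg.Agent.S4726
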