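import Cfsg.Statements.S4727
import Cfsg.Agent.BC86.PiKernel

set_option autoImplicit false
open Cfsg

namespace Cfsg.Agent.S4727

open BlocksCore BlocksDefect BC85

theorem centralizer_zpowers_eq {G : Type*} [Group G] (y : G) :
    Subgroup.centralizer ((Subgroup.zpowers y : Subgroup G) : Set G) =
      Subgroup.centralizer ({y} : Set G) := by
  rw [Subgroup.zpowers_eq_closure, Subgroup.centralizer_closure]

/-- Members of `B` are constant on `y • O_π(C(y))` when all pairs of `B` at `⟨y⟩` kill that core. -/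
theorem apply_mul_eq {G : Type*} [Group G] [Fintype G] {p : ℕ} [Fact p.Prime] {M : Ideal AlgInt}
    {π : Set ℕ} (hM : IsPModular p M) (hp : p ∉ π) {y : G}
    (hQp : IsPGroup p (Subgroup.zpowers y)) (hy : ∃ k : ℕ, orderOf y = p ^ k)
    {B : Set (IrrCharacter G)}
    (hall : ∀ f, IsBrauerPairOf p M B (Subgroup.zpowers y) f →
      BC86.CoreInKer π (⟨Subgroup.zpowers y, f⟩ : BrauerPairIdx G))
    (hB : IsPBlock M B) {χ : IrrCharacter G} (hχ : χ ∈ B) {x : G}
    (hx : x ∈ piCoreOf π (Subgroup.centralizer ({y} : Set G))) :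
    (χ : G → ℂ) (y * x) = (χ : G → ℂ) y := by
  classical
  have := isPrime hM
  set Q := Subgroup.zpowers y with hQ
  set C := Subgroup.centralizer (Q : Set G) with hCdef
  have hCy : C = Subgroup.centralizer ({y} : Set G) := centralizer_zpowers_eq y
  rw [← hCy] at hx
  set K := piCoreOf π C with hK
  have hKπ : BGSigma.IsPiSub π K := BGSigma.isPiSub_piCoreOf _
  have hKC : K ≤ C := BGSigma.piCoreOf_le _
  have hCn : C ≤ Subgroup.normalizer (K : Set G) :=
    Subgroup.le_normalizer.trans (BGSigma.piCoreOf_normalized _)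
  set f : G → ℂ := classInd 1 - subInd K with hf
  have hsup : ∀ z, z ∉ C → f z = 0 := by
    intro z hz
    show classInd 1 z - subInd K z = 0
    rw [classInd_apply_of_not_isConj fun h => hz (by rw [isConj_one_right.mp h]; exact C.one_mem),
      subInd_apply_of_notMem fun h => hz (hKC h), sub_zero]
  have hfint : ∀ z, MemLocalRing M (f z) := fun z =>
    (localRing M).sub_mem ((isIntClassFun_classInd 1).2 z) (BC86.memLocalRing_subInd hM hp hKπ z)
  have hfinv : ∀ u ∈ C, ∀ z, f (u * z * u⁻¹) = f z := by
    intro u hu z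
    show classInd 1 _ - subInd K _ = classInd 1 z - subInd K z
    rw [isClassFunction_classInd 1 z u]
    congr 1
    have hh := Subgroup.mem_normalizer_iff.mp (hCn hu) z
    by_cases hz : z ∈ K
    · rw [subInd_apply_of_mem hz, subInd_apply_of_mem (hh.mp hz)]
    · rw [subInd_apply_of_notMem hz, subInd_apply_of_notMem fun h' => hz (hh.mpr h')]
  have hconvd : ∀ a : G → ℂ, conv a (classInd (1 : G)) = a := fun a => by
    funext z
    rw [conv_apply, Finset.sum_eq_single z]
    · rw [inv_mul_cancel, classInd_apply_of_isConj (IsConj.refl 1), mul_one]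
    · intro w _ hw
      rw [classInd_apply_of_not_isConj fun h => hw (inv_mul_eq_one.mp (isConj_one_right.mp h)),
        mul_zero]
    · exact fun h => absurd (Finset.mem_univ _) h
  have hconv_sub : ∀ a b c : G → ℂ, conv a (b - c) = conv a b - conv a c := fun a b c => by
    funext z
    simp only [conv_apply, Pi.sub_apply, mul_sub, Finset.sum_sub_distrib]
  have hconv_sub' : ∀ a b c : G → ℂ, conv (a - b) c = conv a c - conv b c := fun a b c => by
    funext z
    simp only [conv_apply, Pi.sub_apply, sub_mul, Finset.sum_sub_distrib]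
  have hf2 : conv f f = f := by
    rw [hf, hconv_sub, hconv_sub', hconv_sub', hconvd, conv_delta, hconvd, conv_subInd_self]
    abel
  have hres : res C f = classInd (1 : C) - res C (subInd K) := by
    funext c
    show classInd (1 : G) (c : G) - subInd K (c : G) = classInd 1 c - subInd K (c : G)
    congr 1
    by_cases hc : c = 1
    · subst hc
      rw [classInd_apply_of_isConj (IsConj.refl 1),
        classInd_apply_of_isConj (by rw [Subgroup.coe_one])]
    · rw [classInd_apply_of_not_isConj fun h => hc (isConj_one_right.mp h),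
        classInd_apply_of_not_isConj fun h => hc (Subtype.ext (isConj_one_right.mp h))]
  -- the Brauer image of the block is killed by `f`
  set A := cset M Q (blockCoeff B) with hA
  have hbrB := isBrFun_blockCoeff hM Q hB
  have hAker : ∀ ξ ∈ A, ∀ k : C, (k : G) ∈ K → (ξ : C → ℂ) k = (ξ : C → ℂ) 1 := by
    intro ξ hξ
    have hsub : blockOf M (ξ : C → ℂ) ⊆ A := (isBlockUnion_cset hM hbrB) ξ hξ
    have hpair : IsBrauerPairOf p M B Q (blockOf M (ξ : C → ℂ)) :=
      (isBrauerPairOf_iff hM).mpr ⟨⟨hQp, isPBlock_blockOf ξ⟩, hB, hsub⟩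
    exact hall _ hpair ξ (mem_blockOf_self ξ)
  have hzero : conv (res C f) (blockCoeff A) = 0 := by
    have hcl : IsClassFunction C (res C f) := fun c d => hfinv d d.2 c
    refine eq_of_omega_eq (isClassFunction_conv hcl (isClassFunction_blockCoeff A))
      (fun _ _ => rfl) fun ξ => ?_
    rw [omega_zero, omega_conv ξ hcl (isClassFunction_blockCoeff A), omega_blockCoeff]
    by_cases hξ : ξ ∈ A
    · have h1 : omega (ξ : C → ℂ) (res C (subInd K)) = 1 := by
        haveI : (K.subgroupOf C).Normal := Subgroup.normal_subgroupOf_of_le_normalizer hCn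
        rw [show res C (subInd K) = subInd (K.subgroupOf C) from funext fun c => by
          show subInd K (c : G) = _
          by_cases hc : (c : G) ∈ K
          · rw [subInd_apply_of_mem hc, subInd_apply_of_mem (show c ∈ K.subgroupOf C from hc),
              Nat.card_congr (Subgroup.subgroupOfEquivOfLe hKC).toEquiv]
          · rw [subInd_apply_of_notMem hc,
              subInd_apply_of_notMem (show c ∉ K.subgroupOf C from hc)]]
        exact (omega_subInd_eq_one_iff ξ _).mpr fun n hn => hAker ξ hξ n hn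
      rw [hres, sub_eq_add_neg, omega_add, omega_neg, omega_classInd_one, h1]
      simp
    · rw [Set.indicator_of_notMem hξ, mul_zero]
  have hbr : ∀ c ∈ Subgroup.centralizer ({y} : Set G),
      MemLocalIdeal M (conv f (blockCoeff B) c) := by
    intro c hc
    rw [← hCy] at hc
    have e1 := conv_pull_eq (isCentHom_subtype Q) (a := f) (b := blockCoeff B) hsup ⟨c, hc⟩
    have e2 : MemLocalIdeal M (conv (pullFun C.subtype f) (pullFun C.subtype (blockCoeff B)) ⟨c, hc⟩
        - conv (res C f) (blockCoeff A) ⟨c, hc⟩) := by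
      rw [conv_apply, conv_apply, ← Finset.sum_sub_distrib]
      refine memLocalIdeal_sum fun d _ => ?_
      rw [show pullFun C.subtype f d = res C f d from rfl, ← mul_sub]
      exact memLocalIdeal_mul_left (hfint _)
        (pull_sub_blockCoeff_brSet hM hQp (isCentHom_subtype Q) hbrB (blockCoeff_idem_mod B) _)
    rw [hzero, Pi.zero_apply, sub_zero] at e2
    rwa [← e1] at e2
  -- apply the second main theorem
  have hyC : y ∈ C := by rw [hCy, Subgroup.mem_centralizer_singleton_iff]
  have key : ∀ x₀ ∈ K, (χ : G → ℂ) (y * x₀) = ∑ k : G, subInd K k * (χ : G → ℂ) (k * (y * x₀)) := by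
    intro x₀ hx₀
    have hxC : x₀ ∈ C := hKC hx₀
    have hxp : ¬ p ∣ orderOf x₀ := fun h => hp (hKπ p Fact.out (h.trans
      ((Subgroup.orderOf_coe (⟨x₀, hx₀⟩ : K)).symm ▸ orderOf_dvd_natCard _)))
    have hcomm : y * x₀ = x₀ * y :=
      (Subgroup.mem_centralizer_singleton_iff.mp (hCy ▸ hxC : x₀ ∈ Subgroup.centralizer ({y} : Set G))).symm
    have hzp : IsPPart p (y * x₀) y := ⟨x₀, rfl, hcomm, hy, hxp⟩
    have h := sum_mul_char_eq_zero hM hB hfint hf2 hzp
      (hfinv _ (C.mul_mem hyC hxC)) (hfinv _ hyC) hbr hχ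
    simp only [hf, Pi.sub_apply, sub_mul, Finset.sum_sub_distrib, sum_delta_mul] at h
    exact sub_eq_zero.mp h
  rw [key x hx, show (χ : G → ℂ) y = (χ : G → ℂ) (y * 1) by rw [mul_one], key 1 K.one_mem,
    sum_subInd_mul, sum_subInd_mul]
  congr 1
  refine Fintype.sum_equiv (Equiv.mulRight (⟨x, hx⟩ : K)) _ _ fun k => ?_
  have hky : (k : G) * y = y * (k : G) :=
    Subgroup.mem_centralizer_singleton_iff.mp (hCy ▸ hKC k.2 : (k : G) ∈ Subgroup.centralizer ({y} : Set G))
  simp only [Equiv.coe_mulRight, Subgroup.coe_mul, mul_one]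
  congr 1
  rw [← mul_assoc, hky, mul_assoc (k : G) x y]
  rw [Subgroup.mem_centralizer_singleton_iff.mp (hCy ▸ hKC hx : x ∈ Subgroup.centralizer ({y} : Set G)),
    ← mul_assoc, hky]

/-- Let p be a prime, π a set of primes containing p, M a maximal ideal of the algebraic integers containing p, and B a p-block of the finite group G with defect group D; let B₁ be the block of N_G(D) with defect group D that induces B (the Brauer correspondent of B). Suppose every element of O_π'(N_G(D)), the largest normal subgroup of N_G(D) whose order has no prime divisor in π, lies in the kernel of every member of B₁. If y is a p-element whose centralizer C has a normal Hall π'-subgroup (every element of C whose order has no prime divisor in π lies in O_π'(C)), then χ(y x) = χ(y) for every χ ∈ B and every x ∈ C whose order has no prime divisor in π. -/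
theorem result {G : Type*} [Group G] [Finite G] (p : ℕ) [Fact p.Prime] (M : Ideal Cfsg.AlgInt) (hM : Cfsg.IsPModular p M) (π : Set ℕ) (hpπ : p ∈ π) (B : Set (Cfsg.IrrCharacter G)) (hB : Cfsg.IsPBlock M B) (D : Subgroup G) (hBD : Cfsg.IsDefectGroup p M B D) (B₁ : Set (Cfsg.IrrCharacter ↥(Subgroup.normalizer (D : Set G)))) (hB₁ : Cfsg.IsInducedBlock M (Subgroup.normalizer (D : Set G)) B₁ B) (hB₁D : Cfsg.IsDefectGroup p M B₁ (D.subgroupOf (Subgroup.normalizer (D : Set G)))) (hker : ∀ n : ↥(Subgroup.normalizer (D : Set G)), n ∈ Cfsg.piCore {q | q ∉ π} ↥(Subgroup.normalizer (D : Set G)) → n ∈ Cfsg.blockKer B₁) (y : G) (hy : ∃ k : ℕ, orderOf y = p ^ k) (hC : ∀ x : ↥(Subgroup.centralizer ({y} : Set G)), (∀ q : ℕ, q.Prime → q ∣ orderOf x → q ∉ π) → x ∈ Cfsg.piCore {q | q ∉ π} ↥(Subgroup.centralizer ({y} : Set G))) : ∀ χ ∈ B, ∀ x : G, x ∈ Subgroup.centralizer ({y} : Set G) → (∀ q : ℕ, q.Prime → q ∣ orderOf x → q ∉ π) → (χ : G → ℂ) (y * x) = (χ : G → ℂ) y := by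
  classical
  have := Fintype.ofFinite G
  have hp : p ∉ {q | q ∉ π} := fun h => h hpπ
  intro χ hχ x hx hxπ
  have hQp : IsPGroup p (Subgroup.zpowers y) := by
    obtain ⟨k, hk⟩ := hy
    exact IsPGroup.of_card ((Nat.card_zpowers y).trans hk)
  refine apply_mul_eq hM hp hQp hy (fun f hf => BC86.coreInKer_of_correspondent hM hp hBD hB₁ hB₁D
    hker hf) hB hχ ⟨⟨x, hx⟩, hC ⟨x, hx⟩ fun q hq hqd => hxπ q hq ?_, rfl⟩
  rwa [← Subgroup.orderOf_coe] at hqd

end Cfsg.Agent.S4727
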