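import Cfsg.Statements.S4728
import Cfsg.Agent.BC86.PiKernel

set_option autoImplicit false
open Cfsg

namespace Cfsg.Agent.S4728

/-- Let p be a prime, π a set of primes containing p, M a maximal ideal of the algebraic integers containing p, B a p-block of the finite group G with defect group D, and B₁ the block of N_G(D) with defect group D inducing B. Let D₀ be a p-subgroup, H₀ = D₀·C_G(D₀), and b a block of H₀ inducing B. Write O_π'(X) for the largest normal subgroup of X whose order has no prime divisor in π. Suppose that O_π'(C_G(D₀)) is a normal Hall π'-subgroup of C_G(D₀) (it contains every element of C_G(D₀) whose order has no prime divisor in π) and that every element of it lies in the kernel of every member of b. Then every element of O_π'(N_G(D)) lies in the kernel of every member of B₁. -/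
theorem result {G : Type*} [Group G] [Finite G] (p : ℕ) [Fact p.Prime] (M : Ideal Cfsg.AlgInt) (hM : Cfsg.IsPModular p M) (π : Set ℕ) (hpπ : p ∈ π) (B : Set (Cfsg.IrrCharacter G)) (hB : Cfsg.IsPBlock M B) (D : Subgroup G) (hBD : Cfsg.IsDefectGroup p M B D) (B₁ : Set (Cfsg.IrrCharacter ↥(Subgroup.normalizer (D : Set G)))) (hB₁ : Cfsg.IsInducedBlock M (Subgroup.normalizer (D : Set G)) B₁ B) (hB₁D : Cfsg.IsDefectGroup p M B₁ (D.subgroupOf (Subgroup.normalizer (D : Set G)))) (D₀ : Subgroup G) (hD₀ : IsPGroup p D₀) (H₀ : Subgroup G) (hH₀ : H₀ = D₀ ⊔ Subgroup.centralizer (D₀ : Set G)) (b : Set (Cfsg.IrrCharacter ↥H₀)) (hb : Cfsg.IsInducedBlock M H₀ b B) (hcompl : ∀ x : ↥(Subgroup.centralizer (D₀ : Set G)), (∀ q : ℕ, q.Prime → q ∣ orderOf x → q ∉ π) → x ∈ Cfsg.piCore {q | q ∉ π} ↥(Subgroup.centralizer (D₀ : Set G))) (hkerb : ∀ x : ↥(Subgroup.centralizer (D₀ : Set G)), x ∈ Cfsg.piCore {q | q ∉ π} ↥(Subgroup.centralizer (D₀ : Set G)) → ∀ θ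 ∈ b, ∀ h : ↥H₀, (h : G) = (x : G) → (θ : ↥H₀ → ℂ) h = (θ : ↥H₀ → ℂ) 1) : ∀ n : ↥(Subgroup.normalizer (D : Set G)), n ∈ Cfsg.piCore {q | q ∉ π} ↥(Subgroup.normalizer (D : Set G)) → n ∈ Cfsg.blockKer B₁ := by
  classical
  have := Fintype.ofFinite G
  have := BlocksCore.isPrime hM
  have hp : p ∉ {q | q ∉ π} := fun h => h hpπ
  have hPH : D₀ ≤ H₀ := hH₀ ▸ le_sup_left
  have hCH : Subgroup.centralizer (D₀ : Set G) ≤ H₀ := hH₀ ▸ le_sup_right
  have hHN : H₀ ≤ Subgroup.normalizer (D₀ : Set G) :=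
    hH₀ ▸ sup_le Subgroup.le_normalizer (BlocksCore.centralizer_le_normalizer' D₀)
  obtain ⟨E, hE⟩ := BlocksDefect.exists_isDefectGroup hM hb.1
  obtain ⟨c, hc, hS⟩ := BlocksDefect.isDefectGroup_iff.mp hE
  have hu : ¬ MemLocalIdeal M (subgroupBlockCoeff H₀ b (c : G)) := by
    rw [BC85.subgroupBlockCoeff_coe]; exact hc.2.1
  have hcC : (c : G) ∈ Subgroup.centralizer (D₀ : Set G) := by
    by_contra h
    rw [BC85.subgroupBlockCoeff_eq_zero_of_notMem hM hD₀ hPH hHN hb.1 h] at hu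
    exact hu BlocksCore.memLocalIdeal_zero
  obtain ⟨e, he, hsub⟩ := BC86.exists_pair_over hM hD₀ hPH hCH hb ⟨(c : G), hcC, hu⟩
  have hK : BGSigma.IsPiSub {q | q ∉ π} (Cfsg.piCoreOf {q | q ∉ π}
      (Subgroup.centralizer (D₀ : Set G))) := BGSigma.isPiSub_piCoreOf _
  have h0 : BC86.CoreInKer {q | q ∉ π} (⟨D₀, e⟩ : BrauerPairIdx G) := by
    refine (BC86.over_kernel_iff hM hp hD₀ hPH hCH hK
      (hHN.trans (BC86.normalizer_le_normalizer_core D₀)) hb.1 he.1.2 hsub).mp ?_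
    intro θ hθ h hh
    obtain ⟨x, hx, hxh⟩ := hh
    exact hkerb x hx θ hθ h hxh.symm
  obtain ⟨a, hmax, hle⟩ := BC85.exists_maximal_above hM he
  have ha := BC86.coreInKer_up hM hp hle h0 fun X hX y hy => by
    have hy' : y ∈ Subgroup.centralizer (D₀ : Set G) :=
      BC85.centralizer_anti hX (BGSigma.piCoreOf_le _ hy)
    refine ⟨⟨y, hy'⟩, hcompl ⟨y, hy'⟩ fun q hq hqd => ?_, rfl⟩
    refine BGSigma.isPiSub_piCoreOf (π := {q | q ∉ π})
      (Subgroup.centralizer (X : Set G)) q hq (hqd.trans ?_)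
    rw [← Subgroup.orderOf_coe]
    exact (Subgroup.orderOf_coe (⟨y, hy⟩ : Cfsg.piCoreOf {q | q ∉ π}
      (Subgroup.centralizer (X : Set G)))).symm ▸ orderOf_dvd_natCard _
  obtain ⟨eD, heD⟩ := BC85.exists_pairOf_of_subConj hM hB hBD
    (BlocksDefect.isPGroup_of_isDefectGroup hBD) (BlocksDefect.subConj_refl D)
  obtain ⟨x, hx⟩ := BC85.exists_conj_below hM hmax heD
  have h := BC86.coreInKer_conj x⁻¹ (BC86.coreInKer_down hM hp hx ha)
  rw [BC85.conjPair_conjPair, inv_mul_cancel, BC85.conjPair_one] at h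
  exact (BC86.coreInKer_maximal_iff hM hp hBD hB₁ hB₁D heD).mp h

end Cfsg.Agent.S4728
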