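import Cfsg.Statements.S4729
import Cfsg.Agent.BC86.Deg
import Cfsg.Agent.BC86.Codegree
import Cfsg.Agent.Lib.CharCore.Eigen
import Cfsg.Agent.Lib.BlocksCore.Ring
import Mathlib.GroupTheory.Sylow
import Mathlib.GroupTheory.Perm.Cycle.Type
import Mathlib.LinearAlgebra.Determinant

set_option autoImplicit false
open Cfsg

namespace Cfsg.Agent.S4729

/-- Let p be a prime, M a maximal ideal of the algebraic integers containing p, G a finite perfect group and P a Sylow p-subgroup. If the principal p-block of G contains a faithful irreducible character of degree less than 2p, then the centralizer of P is a p-group. -/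
theorem result {G : Type*} [Group G] [Finite G] (p : ℕ) [Fact p.Prime] (M : Ideal Cfsg.AlgInt) (hM : Cfsg.IsPModular p M) (hperf : commutator G = ⊤) (P : Sylow p G) (χ : Cfsg.IrrCharacter G) (hχ : χ ∈ Cfsg.principalBlock M G) (hfaith : ∀ g : G, (χ : G → ℂ) g = (χ : G → ℂ) 1 → g = 1) (hdeg : Cfsg.charDegree (χ : G → ℂ) < 2 * p) : IsPGroup p ↥(Subgroup.centralizer ((P : Subgroup G) : Set G)) := by
  classical
  have := Fintype.ofFinite G
  have := BlocksCore.isPrime hM
  have hp : p.Prime := Fact.out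
  set C := Subgroup.centralizer ((P : Subgroup G) : Set G) with hC
  refine IsPGroup.of_card (Nat.eq_prime_pow_of_unique_prime_dvd Nat.card_pos.ne'
    fun {q} hq hqd => ?_)
  by_contra hqp
  have := Fact.mk hq
  obtain ⟨x, hx⟩ := exists_prime_orderOf_dvd_card' q hqd
  rw [← Subgroup.orderOf_coe] at hx
  have hidx : ∀ k : ℕ, ¬ p ∣ (Subgroup.centralizer ({(x : G) ^ k} : Set G)).index := fun k h =>
    P.not_dvd_index (h.trans (Subgroup.index_dvd_of_le fun w hw =>
      Subgroup.mem_centralizer_singleton_iff.mpr (Subgroup.mem_centralizer_iff.mp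
        (pow_mem x.2 k) w hw)))
  obtain ⟨f, n, ρ, hirr, rfl⟩ := χ
  set d := Module.finrank ℂ (Fin n → ℂ) with hd
  have hd' : Cfsg.charDegree ρ.character = d := by simp [Cfsg.charDegree, hd]
  rw [hd'] at hdeg
  obtain ⟨bs, ω, hω, -, hb, hk⟩ := CharCore.exists_eigenvalues ρ (x : G)
  rw [hx] at hω
  have hcong : ∀ k : ℕ, MemLocalIdeal M (ρ.character ((x : G) ^ k) - (d : ℂ)) := by
    intro k
    have h : MemLocalIdeal M (Cfsg.centralChar (fun _ : G => (1 : ℂ)) ((x : G) ^ k)
        - Cfsg.centralChar ρ.character ((x : G) ^ k)) := hχ ((x : G) ^ k)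
    simp only [Cfsg.centralChar, Representation.char_one, ← hd, mul_one, div_one] at h
    have h2 := BlocksCore.memLocalIdeal_mul_left (x := (d : ℂ) *
      ((Subgroup.centralizer ({(x : G) ^ k} : Set G)).index : ℂ)⁻¹)
      ((BlocksCore.localRing M).mul_mem (BlocksCore.memLocalRing_natCast d)
        (BlocksCore.memLocalRing_natCast_inv hM (hidx k))) (BlocksCore.memLocalIdeal_neg h)
    have hd0 : (d : ℂ) ≠ 0 := by
      rw [← hd']
      exact Nat.cast_ne_zero.mpr (BC86.charDegree_ne_zero ⟨_, n, ρ, hirr, rfl⟩)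
    have hI : ((Subgroup.centralizer ({(x : G) ^ k} : Set G)).index : ℂ) ≠ 0 :=
      Nat.cast_ne_zero.mpr Subgroup.index_ne_zero_of_finite
    convert h2 using 1
    field_simp
    ring
  have hdvd : ∀ ζ : ℂ, ζ ≠ 1 → p ∣ (Finset.univ.filter fun i => ω i = ζ).card := by
    intro ζ hζ1
    rcases (Finset.univ.filter fun i => ω i = ζ).eq_empty_or_nonempty with h0 | ⟨i₀, hi₀⟩
    · simp [h0]
    have hζ : ζ ^ q = 1 := (Finset.mem_filter.mp hi₀).2 ▸ hω i₀
    have hgeo : ∀ z : ℂ, z ^ q = 1 → z ≠ 1 → ∑ k ∈ Finset.range q, z ^ k = 0 := by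
      intro z hz hz1
      rw [geom_sum_eq hz1, hz, sub_self, zero_div]
    have hsum : ∑ k ∈ Finset.range q, ρ.character ((x : G) ^ k) * (ζ⁻¹) ^ k
        = ((q * (Finset.univ.filter fun i => ω i = ζ).card : ℕ) : ℂ) := by
      simp only [hk, Finset.sum_mul, ← mul_pow]
      rw [Finset.sum_comm, Finset.card_filter, Finset.mul_sum, Nat.cast_sum]
      refine Finset.sum_congr rfl fun i _ => ?_
      by_cases hi : ω i = ζ
      · have hζ0 : ζ ≠ 0 := by rintro rfl; simp [hq.ne_zero] at hζ
        simp [hi, hζ0]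
      · rw [hgeo _ (by rw [mul_pow, hω, inv_pow, hζ, inv_one, mul_one]) ?_]
        · simp [hi]
        · intro h
          exact hi (by rw [mul_inv_eq_one₀ (by rintro rfl; simp [hq.ne_zero] at hζ)] at h; exact h)
    have h2 : MemLocalIdeal M (∑ k ∈ Finset.range q,
        (ρ.character ((x : G) ^ k) - (d : ℂ)) * (ζ⁻¹) ^ k) :=
      BlocksCore.memLocalIdeal_sum fun k _ => BlocksCore.memLocalIdeal_mul_right (hcong k)
        (BlocksCore.memLocalRing_of_isIntegral
          (IsIntegral.of_pow hq.pos (by rw [pow_right_comm, inv_pow, hζ, inv_one, one_pow]; exact isIntegral_one)))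
    simp only [sub_mul, Finset.sum_sub_distrib] at h2
    rw [← Finset.mul_sum, hgeo _ (by rw [inv_pow, hζ, inv_one]) (inv_ne_one.mpr hζ1), mul_zero,
      sub_zero, hsum, BlocksCore.memLocalIdeal_natCast_iff hM] at h2
    exact (hp.dvd_mul.mp h2).resolve_left fun h => hqp ((Nat.prime_dvd_prime_iff_eq hp hq).mp h).symm
  obtain ⟨i₀, hi₀⟩ : ∃ i, ω i ≠ 1 := by
    by_contra hall
    push Not at hall
    have h1 := hfaith (x : G) (by
      have h := hk 1
      simp only [pow_one, hall, Finset.sum_const, Finset.card_univ, Fintype.card_fin,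
        nsmul_eq_mul, mul_one] at h
      show ρ.character (x : G) = ρ.character 1
      rw [h, Representation.char_one])
    exact hq.ne_one (hx.symm.trans (orderOf_eq_one_iff.mpr h1))
  set S := Finset.univ.filter fun i => ω i = ω i₀ with hS
  have hScard : S.card = p := by
    obtain ⟨c, hc⟩ := hdvd _ hi₀
    have h1 : 0 < S.card := Finset.card_pos.mpr ⟨i₀, by simp [hS]⟩
    have h2 : S.card ≤ d := (Finset.card_le_univ S).trans (le_of_eq (Fintype.card_fin _))
    rw [← hS] at hc
    rw [hc] at h1 h2 ⊢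
    have hc1 : 0 < c := Nat.pos_of_mul_pos_left h1
    have hc2 : p * c < p * 2 := by omega
    rw [show c = 1 by have := Nat.lt_of_mul_lt_mul_left hc2; omega, mul_one]
  have hother : ∀ i, i ∉ S → ω i = 1 := by
    intro i hi
    by_contra hne1
    set T := Finset.univ.filter fun j => ω j = ω i with hT
    have h1 : p ≤ T.card := Nat.le_of_dvd (Finset.card_pos.mpr ⟨i, by simp [hT]⟩) (hdvd _ hne1)
    have hdisj : Disjoint S T := by
      rw [Finset.disjoint_left]
      intro j hj hj'
      simp only [hS, hT, Finset.mem_filter, Finset.mem_univ, true_and] at hj hj' hi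
      exact hi (hj'.symm.trans hj)
    have h2 := Finset.card_le_univ (S ∪ T)
    rw [Finset.card_union_of_disjoint hdisj, hScard, Fintype.card_fin] at h2
    omega
  have hdet : LinearMap.det (ρ (x : G)) = 1 :=
    BC86.hom_eq_one_of_perfect hperf
      ((LinearMap.det : ((Fin n → ℂ) →ₗ[ℂ] (Fin n → ℂ)) →* ℂ).comp ρ).toHomUnits (x : G) |>
      congrArg Units.val
  have hdiag : LinearMap.toMatrix bs bs (ρ (x : G)) = Matrix.diagonal ω := by
    ext i j
    rw [LinearMap.toMatrix_apply, hb, map_smul, bs.repr_self, Finsupp.smul_single,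
      Finsupp.single_apply, Matrix.diagonal_apply]
    by_cases h : i = j
    · subst h; simp
    · simp [h, Ne.symm h]
  rw [← LinearMap.det_toMatrix bs, hdiag, Matrix.det_diagonal,
    ← Finset.prod_mul_prod_compl S, Finset.prod_congr rfl (fun i hi => (Finset.mem_filter.mp hi).2),
    Finset.prod_const, hScard, Finset.prod_eq_one (fun i hi => hother i (Finset.mem_compl.mp hi)),
    mul_one] at hdet
  have h := pow_gcd_eq_one.mpr ⟨hdet, hω i₀⟩
  rw [(Nat.coprime_primes hp hq).mpr (Ne.symm hqp), pow_one] at h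
  exact hi₀ h

end Cfsg.Agent.S4729
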