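import Cfsg.Statements.S4730
import Cfsg.Agent.BC86.CoprimeClass
import Cfsg.Agent.Lib.BlocksCore.Ring
import Mathlib.GroupTheory.Sylow

set_option autoImplicit false
open Cfsg

namespace Cfsg.Agent.S4730

/-- Let p be a prime, M a maximal ideal of the algebraic integers containing p, and G a finite group with trivial centre, Sylow p-subgroup P of order p^a and centre Z(P) of order p^b. If χ is a faithful irreducible character of G whose degree is a power of p, then the p-block of χ has defect at most a − b; in particular, if P is abelian then χ lies in a block of defect zero. -/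
theorem result {G : Type*} [Group G] [Finite G] (p : ℕ) [Fact p.Prime] (M : Ideal Cfsg.AlgInt) (hM : Cfsg.IsPModular p M) (hZ : Subgroup.center G = ⊥) (P : Sylow p G) (a b : ℕ) (ha : Nat.card P = p ^ a) (hb : Nat.card (Subgroup.center ↥(P : Subgroup G)) = p ^ b) (χ : Cfsg.IrrCharacter G) (hfaith : ∀ g : G, (χ : G → ℂ) g = (χ : G → ℂ) 1 → g = 1) (n : ℕ) (hdeg : Cfsg.charDegree (χ : G → ℂ) = p ^ n) : Cfsg.blockDefect p (Cfsg.blockOf M (χ : G → ℂ)) ≤ a - b ∧ (IsMulCommutative ↥(P : Subgroup G) → Cfsg.blockDefect p (Cfsg.blockOf M (χ : G → ℂ)) = 0) := by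
  classical
  have := Fintype.ofFinite G
  have := BlocksCore.isPrime hM
  have hp : p.Prime := Fact.out
  set B := Cfsg.blockOf M (χ : G → ℂ) with hB
  let Z : Subgroup G := (Subgroup.center ↥(P : Subgroup G)).map (P : Subgroup G).subtype
  have hZc : Nat.card Z = p ^ b :=
    (Subgroup.card_map_of_injective (P : Subgroup G).subtype_injective).trans hb
  have hidx : ∀ z ∈ Z, ¬ p ∣ (Subgroup.centralizer ({z} : Set G)).index := by
    rintro _ ⟨z, hz, rfl⟩ h
    refine P.not_dvd_index (h.trans (Subgroup.index_dvd_of_le fun x hx => ?_))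
    exact Subgroup.mem_centralizer_singleton_iff.mpr
      (congrArg Subtype.val (Subgroup.mem_center_iff.mp hz ⟨x, hx⟩))
  have hχ0 : ∀ z ∈ Z, z ≠ 1 → (χ : G → ℂ) z = 0 := by
    intro z hz hz1
    refine (BC86.apply_eq_zero_or_mem_center χ hfaith z ?_).resolve_right fun hc =>
      hz1 (Subgroup.mem_bot.mp (hZ ▸ hc))
    rw [hdeg]
    exact Nat.Coprime.pow_left _ (hp.coprime_iff_not_dvd.mpr (hidx z hz))
  have hle : ∀ ψ ∈ B, b ≤ (Cfsg.charDegree (ψ : G → ℂ)).factorization p := by
    intro ψ hψ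
    have hsmall : ∀ z : Z, z ≠ 1 → MemLocalIdeal M ((ψ : G → ℂ) z / (ψ : G → ℂ) 1) := by
      intro z hz
      have h := hψ (z : G)
      simp only [Cfsg.centralChar, hχ0 z z.2 (fun h => hz (Subtype.ext h)), mul_zero, zero_div,
        zero_sub] at h
      have h2 := BlocksCore.memLocalIdeal_mul_left
        (BlocksCore.memLocalRing_natCast_inv hM (hidx z z.2)) (BlocksCore.memLocalIdeal_neg h)
      rwa [neg_neg, mul_div_assoc, inv_mul_cancel_left₀ (Nat.cast_ne_zero.mpr
        Subgroup.index_ne_zero_of_finite)] at h2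
    obtain ⟨m, hm⟩ := CharCore.IsCharacter.exists_classInner_eq_natCast
      (CharCore.isCharacter_restrict (CharCore.irr_isCharacter ψ) Z)
      (CharCore.isCharacter_one (G := ↥Z))
    rw [CharCore.classInner_def, inv_mul_eq_iff_eq_mul₀ (Nat.cast_ne_zero.mpr Nat.card_pos.ne'),
      hZc] at hm
    set v := (Cfsg.charDegree (ψ : G → ℂ)).factorization p with hv
    set s := Cfsg.charDegree (ψ : G → ℂ) / p ^ v with hs
    have hds : Cfsg.charDegree (ψ : G → ℂ) = p ^ v * s := (Nat.ordProj_mul_ordCompl_eq_self _ p).symm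
    by_contra hlt
    set u : ℂ := ∑ z : Z, (ψ : G → ℂ) z / (ψ : G → ℂ) 1 with hu
    have hu1 : MemLocalIdeal M (u - 1) := by
      rw [hu, Finset.sum_eq_add_sum_sdiff_singleton_of_mem (Finset.mem_univ (1 : Z)),
        OneMemClass.coe_one, div_self (CharCore.irr_apply_one_ne_zero ψ), add_sub_cancel_left]
      exact BlocksCore.memLocalIdeal_sum fun z hz => hsmall z (by simpa using hz)
    have hsu : (s : ℂ) * u = ((p ^ (b - v) * m : ℕ) : ℂ) := by
      refine mul_left_cancel₀ (pow_ne_zero v (Nat.cast_ne_zero.mpr hp.ne_zero : (p : ℂ) ≠ 0)) ?_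
      rw [← mul_assoc, ← Nat.cast_pow, ← Nat.cast_mul, ← hds, BC86.charDegree_cast, hu,
        Finset.mul_sum]
      simp only [mul_div_cancel₀ _ (CharCore.irr_apply_one_ne_zero ψ)]
      simp only [Pi.one_apply, map_one, mul_one] at hm
      rw [hm, ← Nat.cast_mul, ← Nat.cast_mul, ← mul_assoc, ← pow_add, Nat.add_sub_cancel' (by omega)]
    have h3 : MemLocalIdeal M (((p ^ (b - v) * m : ℕ) : ℂ) - (s : ℂ)) := by
      rw [← hsu, ← mul_sub_one]
      exact BlocksCore.memLocalIdeal_mul_left (BlocksCore.memLocalRing_natCast s) hu1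
    have h4 : MemLocalIdeal M ((p ^ (b - v) * m : ℕ) : ℂ) :=
      (BlocksCore.memLocalIdeal_natCast_iff hM _).mpr ((dvd_pow_self p (by omega)).mul_right m)
    have h5 := BlocksCore.memLocalIdeal_sub h4 h3
    rw [sub_sub_cancel] at h5
    exact Nat.not_dvd_ordCompl hp (BC86.charDegree_ne_zero ψ)
      ((BlocksCore.memLocalIdeal_natCast_iff hM _).mp h5)
  have hmain : Cfsg.blockDefect p B ≤ a - b := by
    have h1 : b ≤ sInf ((fun ψ : Cfsg.IrrCharacter G =>
        (Cfsg.charDegree (ψ : G → ℂ)).factorization p) '' B) :=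
      le_csInf ⟨_, χ, BlocksCore.mem_blockOf_self χ, rfl⟩
        (by rintro _ ⟨ψ, hψ, rfl⟩; exact hle ψ hψ)
    have h2 : (Nat.card G).factorization p = a :=
      Nat.pow_right_injective hp.two_le (P.card_eq_multiplicity.symm.trans ha)
    rw [Cfsg.blockDefect, h2]
    omega
  refine ⟨hmain, fun hab => ?_⟩
  have hab' : b = a := by
    refine Nat.pow_right_injective hp.two_le ?_
    show p ^ b = p ^ a
    have htop : Subgroup.center ↥(P : Subgroup G) = ⊤ :=
      eq_top_iff.mpr fun x _ => Subgroup.mem_center_iff.mpr fun y => hab.is_comm.comm y x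
    rw [← hb, ← ha, htop, Subgroup.card_top]
  omega

end Cfsg.Agent.S4730
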