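import Cfsg.Statements.S4731
import Cfsg.Agent.BC86.Deg
import Cfsg.Agent.Lib.BlocksCore.WeakOrth
import Mathlib.GroupTheory.Sylow

set_option autoImplicit false
open Cfsg

namespace Cfsg.Agent.S4731

/-- Let p ≠ q be primes, M_p and M_q maximal ideals of the algebraic integers containing p and q respectively, and G a finite group with no element of order pq; let q^b be the q-part of the order of G. For a p-block B_p (relative to M_p), a q-block B_q (relative to M_q) and a p-singular element y, the sum of χ(1)χ(y) over the irreducible characters χ lying in both B_p and B_q is q^b times an algebraic integer. -/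
theorem result {G : Type*} [Group G] [Finite G] (p q : ℕ) [Fact p.Prime] [Fact q.Prime] (hpq : p ≠ q) (Mp Mq : Ideal Cfsg.AlgInt) (hMp : Cfsg.IsPModular p Mp) (hMq : Cfsg.IsPModular q Mq) (hno : ∀ g : G, orderOf g ≠ p * q) (b : ℕ) (hb : (Nat.card G).factorization q = b) (Bp : Set (Cfsg.IrrCharacter G)) (hBp : Cfsg.IsPBlock Mp Bp) (Bq : Set (Cfsg.IrrCharacter G)) (hBq : Cfsg.IsPBlock Mq Bq) (y : G) (hy : p ∣ orderOf y) : ∃ ω : Cfsg.AlgInt, ∑ᶠ χ ∈ Bp ∩ Bq, (Cfsg.charDegree (χ : G → ℂ) : ℂ) * (χ : G → ℂ) y = (q : ℂ) ^ b * (ω : ℂ) := by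
  classical
  have := Fintype.ofFinite G
  have hq : q.Prime := Fact.out
  have hp : p.Prime := Fact.out
  have hnopq : ∀ x : G, q ∣ orderOf x → ¬ p ∣ orderOf x := by
    intro x hxq hxp
    have hd : p * q ∣ orderOf x :=
      Nat.Coprime.mul_dvd_of_dvd_of_dvd ((Nat.coprime_primes hp hq).mpr hpq) hxp hxq
    obtain ⟨k, hk⟩ := hd
    have hk0 : k ≠ 0 := by
      rintro rfl
      exact (orderOf_pos x).ne' (hk.trans (mul_zero _))
    refine hno (x ^ k) ?_
    rw [orderOf_pow' x hk0, hk, Nat.gcd_mul_left_left,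
      Nat.mul_div_cancel _ (Nat.pos_of_ne_zero hk0)]
  set c : Cfsg.IrrCharacter G → ℂ := fun χ => if χ ∈ Bp then (χ : G → ℂ) y else 0 with hc
  set θ : G → ℂ := ∑ χ, c χ • (χ : G → ℂ) with hθ
  have hθ0 : ∀ x, q ∣ orderOf x → θ x = 0 := by
    intro x hx
    have h := BlocksCore.weakOrth hMp hBp (hnopq x hx) (y := y⁻¹) (by rwa [orderOf_inv])
    rw [finsum_mem_def, finsum_eq_sum_of_fintype] at h
    rw [hθ, Finset.sum_apply, ← h]
    refine Finset.sum_congr rfl fun χ _ => ?_
    simp only [hc, Pi.smul_apply, smul_eq_mul]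
    by_cases hχ : χ ∈ Bp
    · rw [if_pos hχ, Set.indicator_of_mem hχ, BlocksCore.conj_irr, inv_inv, mul_comm]
    · rw [if_neg hχ, Set.indicator_of_notMem hχ, zero_mul]
  set θq : G → ℂ := ∑ χ, (if χ ∈ Bq then c χ else 0) • (χ : G → ℂ) with hθq
  have hθq0 : ∀ x, q ∣ orderOf x → θq x = 0 := by
    intro x hx
    have hexp : ∀ χ : Cfsg.IrrCharacter G, c χ =
        (Nat.card G : ℂ)⁻¹ * ∑ z, θ z * (starRingEnd ℂ) ((χ : G → ℂ) z) := fun χ =>
      (CharCore.classInner_sum_all c χ).symm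
    rw [hθq, Finset.sum_apply]
    simp only [Pi.smul_apply, smul_eq_mul, ite_mul, zero_mul, hexp]
    rw [← Finset.sum_filter]
    simp only [Finset.mul_sum, Finset.sum_mul]
    rw [Finset.sum_comm]
    refine Finset.sum_eq_zero fun z _ => ?_
    by_cases hz : q ∣ orderOf z
    · exact Finset.sum_eq_zero fun χ _ => by rw [hθ0 z hz, zero_mul, mul_zero, zero_mul]
    · have h := congrArg (starRingEnd ℂ) (BlocksCore.weakOrth hMq hBq hz hx)
      rw [finsum_mem_def, finsum_eq_sum_of_fintype, map_sum, map_zero] at h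
      calc ∑ χ ∈ Finset.univ.filter (· ∈ Bq), (Nat.card G : ℂ)⁻¹ *
            (θ z * (starRingEnd ℂ) ((χ : G → ℂ) z)) * (χ : G → ℂ) x
          = ((Nat.card G : ℂ)⁻¹ * θ z) * ∑ χ : Cfsg.IrrCharacter G, (starRingEnd ℂ)
              (Bq.indicator (fun χ => (χ : G → ℂ) z * (starRingEnd ℂ) ((χ : G → ℂ) x)) χ) := by
            rw [Finset.sum_filter, Finset.mul_sum]
            refine Finset.sum_congr rfl fun χ _ => ?_
            by_cases hχ : χ ∈ Bq
            · rw [if_pos hχ, Set.indicator_of_mem hχ, map_mul, Complex.conj_conj]; ring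
            · rw [if_neg hχ, Set.indicator_of_notMem hχ, map_zero, mul_zero]
        _ = 0 := by rw [h, mul_zero]
  obtain ⟨Q⟩ : Nonempty (Sylow q G) := inferInstance
  have hcard : Nat.card Q = q ^ b := by rw [Q.card_eq_multiplicity, hb]
  choose m hm using fun χ : Cfsg.IrrCharacter G =>
    CharCore.IsCharacter.exists_classInner_eq_natCast
      (CharCore.isCharacter_restrict (CharCore.irr_isCharacter χ) (Q : Subgroup G))
      (CharCore.isCharacter_one (G := (Q : Subgroup G)))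
  have hω : IsIntegral ℤ (∑ χ, (if χ ∈ Bq then c χ else 0) * (m χ : ℂ)) := by
    refine IsIntegral.sum _ fun χ _ => IsIntegral.mul ?_
      (by rw [← map_natCast (algebraMap ℤ ℂ)]; exact isIntegral_algebraMap)
    simp only [hc]
    split_ifs
    exacts [BlocksCore.isIntegral_irr χ y, isIntegral_zero, isIntegral_zero]
  refine ⟨⟨_, hω⟩, ?_⟩
  have h1 : θq 1 = ∑ᶠ χ ∈ Bp ∩ Bq, (Cfsg.charDegree (χ : G → ℂ) : ℂ) * (χ : G → ℂ) y := by
    rw [finsum_mem_def, finsum_eq_sum_of_fintype, hθq, Finset.sum_apply]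
    refine Finset.sum_congr rfl fun χ _ => ?_
    simp only [hc, Pi.smul_apply, smul_eq_mul, Set.indicator_apply, Set.mem_inter_iff,
      BC86.charDegree_cast]
    by_cases h1 : χ ∈ Bq <;> by_cases h2 : χ ∈ Bp <;> simp [h1, h2, mul_comm]
  have h2 : Cfsg.classInner (fun x : (Q : Subgroup G) => θq x) (1 : ↥(Q : Subgroup G) → ℂ)
      = ((q : ℂ) ^ b)⁻¹ * θq 1 := by
    rw [CharCore.classInner_def, Finset.sum_eq_single (1 : (Q : Subgroup G))]
    · rw [hcard]; simp
    · intro x _ hx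
      obtain ⟨k, hk⟩ := IsPGroup.iff_orderOf.mp Q.2 x
      have hk0 : k ≠ 0 := fun h => hx (orderOf_eq_one_iff.mp (by rw [hk, h, pow_zero]))
      rw [hθq0 x (by rw [Subgroup.orderOf_coe, hk]; exact dvd_pow_self q hk0), zero_mul]
    · exact fun h => absurd (Finset.mem_univ _) h
  have h3 : Cfsg.classInner (fun x : (Q : Subgroup G) => θq x) (1 : ↥(Q : Subgroup G) → ℂ)
      = ∑ χ, (if χ ∈ Bq then c χ else 0) * (m χ : ℂ) := by
    have : (fun x : (Q : Subgroup G) => θq x) = ∑ χ : Cfsg.IrrCharacter G,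
        (if χ ∈ Bq then c χ else 0) • fun x : (Q : Subgroup G) => (χ : G → ℂ) x := by
      funext x
      simp only [hθq, Finset.sum_apply, Pi.smul_apply]
    rw [this, CharCore.classInner_sum_left]
    simp only [CharCore.classInner_smul_left, hm]
  rw [← h1]
  change θq 1 = (q : ℂ) ^ b * ∑ χ, (if χ ∈ Bq then c χ else 0) * (m χ : ℂ)
  rw [← h3, h2, mul_inv_cancel_left₀ (pow_ne_zero _ (Nat.cast_ne_zero.mpr hq.ne_zero))]

end Cfsg.Agent.S4731
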