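import Cfsg.Statements.S4732
import Cfsg.Agent.BC86.BrauerFeit.Main
import Mathlib.FieldTheory.IsAlgClosed.AlgebraicClosure
import Mathlib.LinearAlgebra.Matrix.ToLin

set_option autoImplicit false
universe u v
open Cfsg

namespace Cfsg.Agent.S4732

/-- Let p be a prime. There is a function f of two natural-number arguments such that every finite group G admitting a faithful representation of degree n over a field of characteristic p, with Sylow p-subgroups of order p^m, has a normal abelian subgroup A with [G : A] < f(m, n). -/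
theorem result (p : ℕ) [Fact p.Prime] : ∃ f : ℕ → ℕ → ℕ, ∀ (G : Type u) [Group G] [Finite G] (F : Type v) [Field F] [CharP F p] (n : ℕ) (ρ : Representation F G (Fin n → F)), Function.Injective ρ → ∀ m : ℕ, (Nat.card G).factorization p = m → ∃ A : Subgroup G, A.Normal ∧ IsMulCommutative A ∧ A.index < f m n := by
  choose f hf using fun m n => BC86.BrauerFeit.main.{u, v} p m n
  refine ⟨fun m n => f m n + 1, fun G _ _ F _ _ n ρ hρ m hm => ?_⟩
  haveI : CharP (AlgebraicClosure F) p :=
    charP_of_injective_algebraMap (algebraMap F (AlgebraicClosure F)).injective p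
  let φ : Module.End F (Fin n → F) →* Module.End (AlgebraicClosure F) (Fin n → AlgebraicClosure F) :=
    ((Matrix.toLinAlgEquiv' (R := AlgebraicClosure F) (n := Fin n)).toAlgHom.toRingHom.comp
      ((algebraMap F (AlgebraicClosure F)).mapMatrix.comp
        (LinearMap.toMatrixAlgEquiv' (R := F) (n := Fin n)).toAlgHom.toRingHom)).toMonoidHom
  have hφ : Function.Injective φ := by
    intro a b h
    have h1 := (Matrix.toLinAlgEquiv' (R := AlgebraicClosure F) (n := Fin n)).injective h
    exact LinearMap.toMatrixAlgEquiv'.injective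
      (Matrix.map_injective (algebraMap F (AlgebraicClosure F)).injective h1)
  have hnd : ¬ p ^ (m + 1) ∣ Nat.card G := by
    rw [(Fact.out : p.Prime).pow_dvd_iff_le_factorization Nat.card_pos.ne', hm]
    omega
  obtain ⟨A, hA, hc, -, hi⟩ := hf m n G (AlgebraicClosure F) (Fin n → AlgebraicClosure F)
    (φ.comp ρ) (hφ.comp hρ) hnd (le_of_eq (Module.finrank_fin_fun _))
  exact ⟨A, hA, ⟨⟨fun a b => Subtype.ext (hc a a.2 b b.2).eq⟩⟩, Nat.lt_succ_of_le hi⟩

end Cfsg.Agent.S4732
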