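import Cfsg.Statements.S4734
import Cfsg.Agent.BC86.PiKernel

set_option autoImplicit false
open Cfsg

namespace Cfsg.Agent.S4734

/-- Let p be a prime, π a set of primes containing p, M a maximal ideal of the algebraic integers containing p, B a p-block of the finite group G with defect group D, and B₁ the block of N_G(D) with defect group D inducing B. Write O_π'(X) for the largest normal subgroup of X whose order has no prime divisor in π, and suppose every element of O_π'(N_G(D)) lies in the kernel of every member of B₁. Let G₀ be a subgroup and B₀ a block of G₀ with defect group D₀ such that C_G(D₀) ≤ G₀ and B₀ induces B. Then every element of O_π'(G₀) lies in the kernel of every member of B₀. -/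
theorem result {G : Type*} [Group G] [Finite G] (p : ℕ) [Fact p.Prime] (M : Ideal Cfsg.AlgInt) (hM : Cfsg.IsPModular p M) (π : Set ℕ) (hpπ : p ∈ π) (B : Set (Cfsg.IrrCharacter G)) (hB : Cfsg.IsPBlock M B) (D : Subgroup G) (hBD : Cfsg.IsDefectGroup p M B D) (B₁ : Set (Cfsg.IrrCharacter ↥(Subgroup.normalizer (D : Set G)))) (hB₁ : Cfsg.IsInducedBlock M (Subgroup.normalizer (D : Set G)) B₁ B) (hB₁D : Cfsg.IsDefectGroup p M B₁ (D.subgroupOf (Subgroup.normalizer (D : Set G)))) (hker : ∀ n : ↥(Subgroup.normalizer (D : Set G)), n ∈ Cfsg.piCore {q | q ∉ π} ↥(Subgroup.normalizer (D : Set G)) → n ∈ Cfsg.blockKer B₁) (G₀ : Subgroup G) (B₀ : Set (Cfsg.IrrCharacter ↥G₀)) (hB₀ : Cfsg.IsInducedBlock M G₀ B₀ B) (D₀ : Subgroup ↥G₀) (hD₀ : Cfsg.IsDefectGroup p M B₀ D₀) (hC : Subgroup.centralizer ((D₀.map G₀.subtype : Subgroup G) : Set G) ≤ G₀) : ∀ x : ↥G₀, x ∈ Cfsg.piCore {q | q ∉ π} ↥G₀ → x ∈ Cfsg.blockKer B₀ := by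
  classical
  have := Fintype.ofFinite G
  have := BlocksCore.isPrime hM
  have hp : p ∉ {q | q ∉ π} := fun h => h hpπ
  set P := D₀.map G₀.subtype with hP
  have hD₀p := BlocksDefect.isPGroup_of_isDefectGroup hD₀
  have hPp : IsPGroup p P := hD₀p.map _
  have hPH : P ≤ G₀ := Subgroup.map_subtype_le D₀
  obtain ⟨c, hc, hu⟩ := (BlocksDefect.exists_coeff_mem_centralizer_iff hM hB₀.1 hD₀ hD₀p).mpr
    (BlocksDefect.subConj_refl D₀)
  obtain ⟨e, he, hsub⟩ := BC86.exists_pair_over hM hPp hPH hC hB₀ ⟨(c : G),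
    Subgroup.mem_centralizer_iff.mpr (by
      rintro _ ⟨r, hr, rfl⟩
      exact congrArg Subtype.val (Subgroup.mem_centralizer_iff.mp hc r hr)),
    by rw [BC85.subgroupBlockCoeff_coe]; exact hu⟩
  have hker' := BC86.coreInKer_of_correspondent hM hp hBD hB₁ hB₁D hker he
  have hn : G₀ ≤ Subgroup.normalizer (Cfsg.piCoreOf {q | q ∉ π} G₀ : Set G) :=
    Subgroup.le_normalizer.trans (BGSigma.piCoreOf_normalized G₀)
  intro x hx θ hθ
  refine (BC86.over_kernel_iff hM hp hPp hPH hC (BGSigma.isPiSub_piCoreOf G₀) hn hB₀.1 he.1.2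
    hsub).mpr (fun ξ hξ d hd => hker' ξ hξ d ?_) θ hθ x ?_
  · exact BC86.inf_le_piCoreOf (BGSigma.isPiSub_piCoreOf G₀) (hC.trans hn) ⟨hd, d.2⟩
  · exact ⟨x, hx, rfl⟩

end Cfsg.Agent.S4734
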