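import Cfsg.Statements.S4735
import Cfsg.Agent.BC86.Principal
import Cfsg.Agent.BC86.Deg
import Cfsg.Agent.Lib.BlocksDefect.Quotient
import Cfsg.Agent.Lib.Thompson.Cores

set_option autoImplicit false
open Cfsg

namespace Cfsg.Agent.S4735

/-- Let p be a prime, M a maximal ideal of the algebraic integers containing p, G a finite group, H = O_p'(G) and Ḡ = G/H. For x ∈ G write λ(G, x) for the sum of |χ(x)|^2 over the irreducible characters χ in the principal p-block of G. Then λ(G, x) is a positive integer, λ(G, x) = λ(Ḡ, x̄) where x̄ is the image of x, and λ(G, x) ≤ #C_Ḡ(x̄). Moreover λ(G, 1) = [G : H] if and only if the principal block is the only p-block of Ḡ. -/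
theorem result {G : Type*} [Group G] [Finite G] (p : ℕ) [Fact p.Prime] (M : Ideal Cfsg.AlgInt) (hM : Cfsg.IsPModular p M) (x : G) : (∃ n : ℕ, 0 < n ∧ ∑ᶠ χ ∈ Cfsg.principalBlock M G, Complex.normSq ((χ : G → ℂ) x) = n) ∧ ∑ᶠ χ ∈ Cfsg.principalBlock M G, Complex.normSq ((χ : G → ℂ) x) = ∑ᶠ ψ ∈ Cfsg.principalBlock M (G ⧸ Cfsg.pPrimeCore p G), Complex.normSq ((ψ : G ⧸ Cfsg.pPrimeCore p G → ℂ) (QuotientGroup.mk x)) ∧ ∑ᶠ χ ∈ Cfsg.principalBlock M G, Complex.normSq ((χ : G → ℂ) x) ≤ (Nat.card ↥(Subgroup.centralizer ({(QuotientGroup.mk x : G ⧸ Cfsg.pPrimeCore p G)} : Set (G ⧸ Cfsg.pPrimeCore p G))) : ℝ) ∧ ((∑ᶠ χ ∈ Cfsg.principalBlock M G, Cfsg.charDegree (χ : G → ℂ) ^ 2) = (Cfsg.pPrimeCore p G).index ↔ ∀ B : Set (Cfsg.IrrCharacter (G ⧸ Cfsg.pPrimeCore p G)), Cfsg.IsPBlock M B → B = Cfsg.principalBlock M (G ⧸ Cfsg.pPrimeCore p G)) := by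
  classical
  have := Fintype.ofFinite G
  have := BlocksCore.isPrime hM
  set N := Cfsg.pPrimeCore p G with hN
  have hNn : N.Normal := inferInstance
  have hpN : ¬ p ∣ Nat.card N := Thompson.not_dvd_card_pPrimeCore
  have := Fintype.ofFinite (G ⧸ N)
  have hbij : Set.BijOn (BlocksDefect.inflate N) (Cfsg.principalBlock M (G ⧸ N))
      (Cfsg.principalBlock M G) := by
    let o : Cfsg.IrrCharacter (G ⧸ N) := ⟨fun _ => 1, CharCore.isIrrCharacter_one⟩
    refine ⟨fun ψ hψ => BlocksDefect.sameBlock_inflate N hM (χ := o) hψ, ?_, ?_⟩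
    · intro a _ b _ h
      refine Subtype.ext (funext fun q => ?_)
      obtain ⟨g, rfl⟩ := QuotientGroup.mk_surjective q
      exact congrFun (congrArg Subtype.val h) g
    · intro χ hχ
      have hk := BlocksDefect.kernel_of_sameBlock hM
        (χ := (⟨fun _ => 1, CharCore.isIrrCharacter_one⟩ : Cfsg.IrrCharacter G)) hχ N hpN
        (fun n _ => rfl)
      obtain ⟨ψ, rfl⟩ := BlocksDefect.exists_inflate_eq N χ hk
      exact ⟨ψ, BlocksDefect.sameBlock_of_inflate_pPrime hM hpN (χ := o) hχ, rfl⟩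
  have hfs : ∀ {X : Type _} [Group X] [Fintype X] (S : Set (Cfsg.IrrCharacter X))
      (F : Cfsg.IrrCharacter X → ℝ), ∑ᶠ χ ∈ S, F χ = ∑ χ ∈ S.toFinset, F χ :=
    fun S F => finsum_mem_eq_toFinset_sum F S
  set S := ∑ᶠ χ ∈ Cfsg.principalBlock M G, Complex.normSq ((χ : G → ℂ) x) with hS
  have hquot : S = ∑ᶠ ψ ∈ Cfsg.principalBlock M (G ⧸ N),
      Complex.normSq ((ψ : G ⧸ N → ℂ) (QuotientGroup.mk x)) :=
    (finsum_mem_eq_of_bijOn _ hbij fun ψ _ => rfl).symm
  have hint : ∃ n : ℕ, 0 < n ∧ S = n := by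
    set z : ℂ := ∑ χ ∈ (Cfsg.principalBlock M G).toFinset,
      (χ : G → ℂ) x * (χ : G → ℂ) x⁻¹ with hz
    have hzS : z = (S : ℂ) := by
      rw [hz, hS, hfs, Complex.ofReal_sum]
      refine Finset.sum_congr rfl fun χ _ => ?_
      rw [← BlocksCore.conj_irr χ x, Complex.mul_conj]
    obtain ⟨k, hk⟩ := CharClifford.exists_int_of_fixed (z := z)
      (IsIntegral.sum _ fun χ _ => (BlocksCore.isIntegral_irr χ x).mul
        (BlocksCore.isIntegral_irr χ x⁻¹))
      (fun σ => by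
        rw [hz, map_sum]
        have hmaps : ∀ χ ∈ (Cfsg.principalBlock M G).toFinset,
            Blocks88.galoisIrr σ χ ∈ (Cfsg.principalBlock M G).toFinset := fun χ hχ =>
          Set.mem_toFinset.mpr (BC86.galoisIrr_mem_principalBlock hM σ (Set.mem_toFinset.mp hχ))
        refine Finset.sum_nbij (Blocks88.galoisIrr σ) hmaps
          (Blocks88.galoisIrr_injective σ).injOn
          (Finset.surjOn_of_injOn_of_card_le _ hmaps (Blocks88.galoisIrr_injective σ).injOn le_rfl)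
          (fun χ _ => by simp [Blocks88.galoisIrr]))
    have hSk : S = (k : ℝ) := Complex.ofReal_injective (by rw [← hzS, hk, Complex.ofReal_intCast])
    have hpos : 1 ≤ S := by
      rw [hS, hfs]
      refine le_trans ?_ (Finset.single_le_sum (fun χ _ => Complex.normSq_nonneg _)
        (Set.mem_toFinset.mpr (BlocksCore.mem_blockOf_self
          (⟨fun _ => 1, CharCore.isIrrCharacter_one⟩ : Cfsg.IrrCharacter G))))
      simp
    rw [hSk] at hpos ⊢
    have hk1 : 1 ≤ k := by exact_mod_cast hpos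
    exact ⟨k.toNat, by omega, by exact_mod_cast (Int.toNat_of_nonneg (by omega : 0 ≤ k)).symm⟩
  refine ⟨hint, hquot, ?_, ?_⟩
  · rw [hquot, hfs]
    refine le_trans (Finset.sum_le_sum_of_subset_of_nonneg (Finset.subset_univ _)
      fun _ _ _ => Complex.normSq_nonneg _) (le_of_eq ?_)
    have h := BC86.col_orth (QuotientGroup.mk x : G ⧸ N) (QuotientGroup.mk x)
    rw [if_pos (IsConj.refl _)] at h
    apply Complex.ofReal_injective
    rw [Complex.ofReal_sum, Complex.ofReal_natCast, ← h]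
    exact Finset.sum_congr rfl fun ψ _ => (Complex.mul_conj _).symm
  · have hdeg : ∑ᶠ χ ∈ Cfsg.principalBlock M G, Cfsg.charDegree (χ : G → ℂ) ^ 2 =
        ∑ᶠ ψ ∈ Cfsg.principalBlock M (G ⧸ N), Cfsg.charDegree (ψ : G ⧸ N → ℂ) ^ 2 :=
      (finsum_mem_eq_of_bijOn _ hbij fun ψ _ => rfl).symm
    have hall : ∑ ψ : Cfsg.IrrCharacter (G ⧸ N), Cfsg.charDegree (ψ : G ⧸ N → ℂ) ^ 2 = N.index := by
      have h := CharCore.sum_degree_sq (G := G ⧸ N)
      simp only [← BC86.charDegree_cast] at h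
      exact_mod_cast h
    rw [hdeg, finsum_mem_eq_toFinset_sum, ← hall]
    constructor
    · intro h B hB
      have hmem : ∀ ψ, ψ ∈ (Cfsg.principalBlock M (G ⧸ N)).toFinset := by
        intro ψ
        by_contra hψ
        have := Finset.sum_lt_sum_of_subset (f := fun ψ : Cfsg.IrrCharacter (G ⧸ N) =>
          Cfsg.charDegree (ψ : G ⧸ N → ℂ) ^ 2) (Finset.subset_univ _) (Finset.mem_univ ψ) hψ
          (pow_pos (BC86.charDegree_pos ψ) 2) (fun _ _ _ => Nat.zero_le _)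
        exact absurd h this.ne
      obtain ⟨ψ, hψ⟩ := BlocksCore.isPBlock_nonempty hB
      exact BlocksCore.isPBlock_eq_of_mem hB ⟨⟨fun _ => 1, CharCore.isIrrCharacter_one⟩, rfl⟩ hψ
        (Set.mem_toFinset.mp (hmem ψ))
    · intro h
      refine Finset.sum_congr (Finset.eq_univ_of_forall fun ψ => Set.mem_toFinset.mpr ?_)
        fun _ _ => rfl
      exact h _ (BlocksCore.isPBlock_blockOf ψ) ▸ BlocksCore.mem_blockOf_self ψ

end Cfsg.Agent.S4735
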