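import Cfsg.Statements.S4736
import Cfsg.Agent.S4713
import Cfsg.Agent.S0915
import Cfsg.Agent.Lib.BlocksDefect.Kernel
import Cfsg.Agent.Lib.Thompson.PSolvable

set_option autoImplicit false
open Cfsg

namespace Cfsg.Agent.S4736

/-- Let p be a prime, M a maximal ideal of the algebraic integers containing p, and G a finite p-solvable group with Sylow p-subgroup P. Then P is abelian if and only if every irreducible character in the principal p-block of G has height zero. -/
theorem result {G : Type*} [Group G] [Finite G] (p : ℕ) [Fact p.Prime] (M : Ideal Cfsg.AlgInt) (hM : Cfsg.IsPModular p M) (hsolv : Cfsg.IsPSolvable p G) (P : Sylow p G) : IsMulCommutative P ↔ ∀ χ ∈ Cfsg.principalBlock M G, Cfsg.blockHeight p (Cfsg.principalBlock M G) (χ : G → ℂ) = 0 := by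
  classical
  have := BlocksCore.isPrime hM
  have := Fintype.ofFinite G
  set N := Cfsg.pPrimeCore p G with hN
  have hQsolv : Cfsg.IsPSolvable p (G ⧸ N) := Thompson.isPSolvable_quotient N hsolv
  have hQcore : Cfsg.pPrimeCore p (G ⧸ N) = ⊥ := Thompson.pPrimeCore_quotient_pPrimeCore
  have hNp : ¬ p ∣ Nat.card N := Thompson.not_dvd_card_pPrimeCore
  set Q : Sylow p (G ⧸ N) := P.mapSurjective (QuotientGroup.mk'_surjective N) with hQ
  have hQcoe : (Q : Subgroup (G ⧸ N)) = (P : Subgroup G).map (QuotientGroup.mk' N) :=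
    Sylow.coe_mapSurjective _ P
  have hinj : Function.Injective ((QuotientGroup.mk' N).comp (P : Subgroup G).subtype) := by
    rw [injective_iff_map_eq_one]
    intro x hx
    have hxN : (x : G) ∈ N := (QuotientGroup.eq_one_iff _).mp hx
    obtain ⟨k, hk⟩ := IsPGroup.iff_orderOf.mp P.isPGroup' x
    have h1 : orderOf (x : G) ∣ Nat.card N := Subgroup.orderOf_dvd_natCard _ hxN
    rw [Subgroup.orderOf_coe, hk] at h1
    rcases Nat.eq_zero_or_pos k with h0 | h0
    · exact orderOf_eq_one_iff.mp (by rw [hk, h0, pow_zero])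
    · exact absurd ((dvd_pow_self p h0.ne').trans h1) hNp
  have hab : IsMulCommutative P ↔ IsMulCommutative Q := by
    constructor
    · intro h
      refine ⟨⟨?_⟩⟩
      rintro ⟨a, ha⟩ ⟨c, hc⟩
      rw [hQcoe] at ha hc
      obtain ⟨a', ha', rfl⟩ := ha
      obtain ⟨c', hc', rfl⟩ := hc
      refine Subtype.ext ?_
      show QuotientGroup.mk' N a' * QuotientGroup.mk' N c' =
        QuotientGroup.mk' N c' * QuotientGroup.mk' N a'
      rw [← map_mul, ← map_mul]
      exact congrArg _ (congrArg Subtype.val (h.is_comm.comm (⟨a', ha'⟩ : P) ⟨c', hc'⟩))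
    · intro h
      refine ⟨⟨fun a c => hinj ?_⟩⟩
      rw [map_mul, map_mul]
      exact congrArg Subtype.val (h.is_comm.comm
        (⟨QuotientGroup.mk' N a, hQcoe.ge ⟨a, a.2, rfl⟩⟩ : Q)
        ⟨QuotientGroup.mk' N c, hQcoe.ge ⟨c, c.2, rfl⟩⟩)
  have hnormal : IsMulCommutative Q → (Q : Subgroup (G ⧸ N)).Normal := by
    intro h
    have hle : Cfsg.pCore p (G ⧸ N) ≤ (Q : Subgroup (G ⧸ N)) :=
      sSup_le fun K hK => by
        haveI := hK.1
        exact hK.2.le_sylow_of_normal Q
    have hge : (Q : Subgroup (G ⧸ N)) ≤ Cfsg.pCore p (G ⧸ N) := by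
      refine le_trans ?_ (Thompson.centralizer_pCore_le hQsolv hQcore)
      intro x hx
      rw [Subgroup.mem_centralizer_iff]
      intro y hy
      exact congrArg Subtype.val (h.is_comm.comm (⟨y, hle hy⟩ : Q) ⟨x, hx⟩)
    rw [le_antisymm hge hle]
    infer_instance
  -- the principal block
  have hone : BlocksDefect.inflate N ⟨fun _ => 1, CharCore.isIrrCharacter_one⟩ ∈
      Cfsg.principalBlock M G := fun g => by
    show MemLocalIdeal M (centralChar (fun _ : G => (1 : ℂ)) g - centralChar (fun _ : G => (1 : ℂ)) g)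
    rw [sub_self]; exact BlocksCore.memLocalIdeal_zero
  have hinf : sInf ((fun ψ : IrrCharacter G => (charDegree (ψ : G → ℂ)).factorization p) ''
      Cfsg.principalBlock M G) = 0 := by
    refine Nat.eq_zero_of_le_zero (Nat.sInf_le ⟨_, hone, ?_⟩)
    have h1 := BlocksCore.irr_one_eq (BlocksDefect.inflate N ⟨fun _ => 1, CharCore.isIrrCharacter_one⟩)
    have h2 : (charDegree ((BlocksDefect.inflate N ⟨fun _ => 1, CharCore.isIrrCharacter_one⟩ :
        IrrCharacter G) : G → ℂ) : ℂ) = ((1 : ℕ) : ℂ) := by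
      rw [← h1, Nat.cast_one]; rfl
    have h3 : charDegree ((BlocksDefect.inflate N ⟨fun _ => 1, CharCore.isIrrCharacter_one⟩ :
        IrrCharacter G) : G → ℂ) = 1 := Nat.cast_injective h2
    simp only [h3, Nat.factorization_one, Finsupp.zero_apply]
  have hdeg : ∀ ψ : IrrCharacter (G ⧸ N),
      charDegree (BlocksDefect.inflate N ψ : G → ℂ) = charDegree (ψ : G ⧸ N → ℂ) := fun ψ => by
    have h := BlocksCore.irr_one_eq (BlocksDefect.inflate N ψ)
    have h' := BlocksCore.irr_one_eq ψ
    exact Nat.cast_injective (h.symm.trans h')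
  have hmem : ∀ ψ : IrrCharacter (G ⧸ N), BlocksDefect.inflate N ψ ∈ Cfsg.principalBlock M G := by
    intro ψ
    exact BlocksCore.sameBlock_symm (BlocksDefect.sameBlock_inflate N hM
      (S0915.result p M hM hQsolv hQcore ψ ⟨fun _ => 1, CharCore.isIrrCharacter_one⟩))
  have hsurj : ∀ χ ∈ Cfsg.principalBlock M G, ∃ ψ, BlocksDefect.inflate N ψ = χ := by
    intro χ hχ
    refine BlocksDefect.exists_inflate_eq N χ ?_
    exact BlocksDefect.kernel_of_sameBlock hM
      (show SameBlock M
        ((BlocksDefect.inflate N ⟨fun _ => 1, CharCore.isIrrCharacter_one⟩ : IrrCharacter G) : G → ℂ)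
        (χ : G → ℂ) from hχ) N hNp fun n _ => rfl
  have key : (∀ χ ∈ Cfsg.principalBlock M G,
      Cfsg.blockHeight p (Cfsg.principalBlock M G) (χ : G → ℂ) = 0) ↔
      ∀ ψ : IrrCharacter (G ⧸ N), ¬ p ∣ charDegree (ψ : G ⧸ N → ℂ) := by
    simp only [blockHeight, hinf, Nat.sub_zero]
    constructor
    · intro h ψ hd
      have := h _ (hmem ψ)
      rw [hdeg, Nat.factorization_eq_zero_iff] at this
      rcases this with h1 | h1 | h1
      · exact h1 Fact.out
      · exact h1 hd
      · exact (BlocksCore.charDegree_pos ψ).ne' h1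
    · intro h χ hχ
      obtain ⟨ψ, rfl⟩ := hsurj χ hχ
      rw [hdeg]
      exact Nat.factorization_eq_zero_of_not_dvd (h ψ)
  rw [key, ← S4713.result p hQsolv Q, hab]
  exact ⟨fun h => ⟨hnormal h, h⟩, And.right⟩

end Cfsg.Agent.S4736
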