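import Cfsg.Statements.S4737
import Cfsg.Agent.BC86.ThreeElements

set_option autoImplicit false
open Cfsg

namespace Cfsg.Agent.S4737

/-- Let G be a finite group of order divisible by 6. Then the number of irreducible characters of G whose degree has the same 2-part as the order of G (the characters of 2-defect zero, each forming a 2-block of defect zero on its own) is at least the number of conjugacy classes of elements of order 3 that normalize no nontrivial 2-subgroup of G. In particular G has a 2-block of defect zero as soon as some element of order 3 normalizes no nontrivial 2-subgroup. -/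
theorem result {G : Type*} [Group G] [Finite G] (h6 : 6 ∣ Nat.card G) : Nat.card {C : ConjClasses G // ∃ g ∈ C.carrier, orderOf g = 3 ∧ ∀ Q : Subgroup G, IsPGroup 2 ↥Q → g ∈ Subgroup.normalizer (Q : Set G) → Q = ⊥} ≤ Nat.card {χ : Cfsg.IrrCharacter G // (Cfsg.charDegree (χ : G → ℂ)).factorization 2 = (Nat.card G).factorization 2} := by
  classical
  have := Fintype.ofFinite G
  set ι := {C : ConjClasses G // ∃ g ∈ C.carrier, orderOf g = 3 ∧ ∀ Q : Subgroup G, IsPGroup 2 ↥Q → g ∈ Subgroup.normalizer (Q : Set G) → Q = ⊥}
  have : Finite (ConjClasses G) := Finite.of_surjective _ ConjClasses.mk_surjective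
  have := Fintype.ofFinite ι
  have hy : ∀ C : ι, ∃ g ∈ C.1.carrier, orderOf g = 3 ∧ ∀ Q : Subgroup G, IsPGroup 2 ↥Q → g ∈ Subgroup.normalizer (Q : Set G) → Q = ⊥ := fun C => C.2
  choose y hyC hy3 hyno using hy
  rw [Nat.card_eq_fintype_card (α := ι)]
  refine Cfsg.Agent.BC86.card_classes_le_card_defectZero y
    (fun i => hy3 i ▸ pow_orderOf_eq_one (y i)) hyno fun i j h => Subtype.ext ?_
  rw [← ConjClasses.mem_carrier_iff_mk_eq.mp (hyC i), ← ConjClasses.mem_carrier_iff_mk_eq.mp (hyC j)]
  exact ConjClasses.mk_eq_mk_iff_isConj.mpr h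

end Cfsg.Agent.S4737
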