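import Cfsg.Statements.S4738
import Cfsg.Agent.BC86.NoDefectZero
-- import your own Cfsg.Agent.* helpers here

set_option autoImplicit false
open Cfsg

namespace Cfsg.Agent.S4738

/-- Let p be an odd prime and G a finite group of even order containing no element of order 2p. Then either G has an irreducible character of p-defect zero (its degree has the same p-part as the order of G), or every Sylow p-subgroup of G is abelian and all involutions of G are conjugate. -/
theorem result {G : Type*} [Group G] [Finite G] (p : ℕ) [Fact p.Prime] (hp2 : p ≠ 2) (hG : Even (Nat.card G)) (h2p : ∀ g : G, orderOf g ≠ 2 * p) : (∃ χ : Cfsg.IrrCharacter G, (Cfsg.charDegree (χ : G → ℂ)).factorization p = (Nat.card G).factorization p) ∨ ((∀ P : Sylow p G, IsMulCommutative ↥(P : Subgroup G)) ∧ ∀ s t : G, orderOf s = 2 → orderOf t = 2 → IsConj s t) := by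
  open Cfsg.Agent.BC86 in
  have hC : OddCentralizers p G := by
    intro g hg ⟨k, hk⟩
    rw [← Nat.not_even_iff_odd]
    intro heven
    obtain ⟨t, ht⟩ := exists_prime_orderOf_dvd_card' 2 (even_iff_two_dvd.mp heven)
    have hk0 : k ≠ 0 := fun h => hg (orderOf_eq_one_iff.mp (by rw [hk, h, pow_zero]))
    have hgp : orderOf (g ^ p ^ (k - 1)) = p := by
      rw [orderOf_pow_of_dvd (pow_ne_zero _ (Nat.Prime.ne_zero Fact.out))
        (hk ▸ pow_dvd_pow p (Nat.sub_le k 1)), hk,
        Nat.pow_div (Nat.sub_le k 1) (Nat.Prime.pos Fact.out), Nat.sub_sub_self (Nat.one_le_iff_ne_zero.mpr hk0),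
        pow_one]
    have htG : orderOf (t : G) = 2 := (Subgroup.orderOf_coe t).trans ht
    have hcomm : Commute (t : G) (g ^ p ^ (k - 1)) :=
      Commute.pow_right (Subgroup.mem_centralizer_singleton_iff.mp t.2) _
    refine h2p ((t : G) * g ^ p ^ (k - 1)) ?_
    rw [hcomm.orderOf_mul_eq_mul_orderOf_of_coprime
      (by rw [htG, hgp]; exact (Nat.coprime_primes Nat.prime_two Fact.out).mpr hp2.symm), htG, hgp]
  open Cfsg.Agent.BC86 in
  by_cases hno : HasDefectZero p G
  · exact Or.inl hno
  · right
    obtain ⟨s₀, hs₀⟩ := exists_prime_orderOf_dvd_card' 2 (even_iff_two_dvd.mp hG)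
    have hpG : p ∣ Nat.card G := by_contra fun h => hno (hasDefectZero_of_not_dvd h)
    refine ⟨fun P => ?_, fun s t hs ht => ?_⟩
    · obtain ⟨s', -, -, hinv⟩ := exists_inverts_sylow hC hno hs₀ P
      exact isMulCommutative_of_inverts hinv
    · obtain ⟨s', hcs, hs', hsinv⟩ := exists_inverts_sylow hC hno hs (default : Sylow p G)
      obtain ⟨t', hct, ht', htinv⟩ := exists_inverts_sylow hC hno ht (default : Sylow p G)
      obtain ⟨z, hz, hne, hzp⟩ := exists_ne_one_mem_sylow hpG (default : Sylow p G)
      exact hcs.trans ((isConj_of_inverts hC hs' ht' hne hzp (hsinv z hz) (htinv z hz)).trans hct.symm)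

end Cfsg.Agent.S4738
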