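import Cfsg.Statements.S4740
import Cfsg.Agent.BC86.NoDefectZero
-- import your own Cfsg.Agent.* helpers here

set_option autoImplicit false
open Cfsg

namespace Cfsg.Agent.S4740

/-- Let p be an odd prime, G a finite group of even order, x an involution of G and P a subgroup of G of order p ^ c such that no conjugate of x inverts a non-identity element of P. If p ^ a is the p-part of the order of C_G(x), then some irreducible character of G has degree divisible by p ^ (c - a). -/
theorem result {G : Type*} [Group G] [Finite G] (p : ℕ) [Fact p.Prime] (hp2 : p ≠ 2) (hG : Even (Nat.card G)) (x : G) (hx : orderOf x = 2) (P : Subgroup G) (c : ℕ) (hP : Nat.card ↥P = p ^ c) (hinv : ∀ g : G, IsConj x g → ∀ z ∈ P, z ≠ 1 → g * z * g⁻¹ ≠ z⁻¹) (a : ℕ) (ha : (Nat.card ↥(Subgroup.centralizer ({x} : Set G))).factorization p = a) : ∃ χ : Cfsg.IrrCharacter G, p ^ (c - a) ∣ Cfsg.charDegree (χ : G → ℂ) := by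
  open Cfsg.Agent.BC86 in
  have hp' : p.Prime := Fact.out
  open Cfsg.Agent.BC86 in
  have hx2 : x * x = 1 := by rw [← pow_two, ← hx, pow_orderOf_eq_one]
  open Cfsg.Agent.BC86 in
  refine exists_pow_dvd_degree hp' x P hP ha fun g k hmem => ?_
  by_contra hne
  rw [inv_eq_of_mul_eq_one_left hx2] at hmem hne
  exact hinv (g * x * g⁻¹) (isConj_iff.mpr ⟨g, rfl⟩) _ hmem hne
    (Cfsg.Agent.BC86.inverts_of_mul_eq (Cfsg.Agent.BC86.conj_mul_self hx2 g)
      (Cfsg.Agent.BC86.conj_mul_self hx2 k))

end Cfsg.Agent.S4740
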