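import Cfsg.Statements.S4742
import Cfsg.Agent.BC86.NoDefectZero
-- import your own Cfsg.Agent.* helpers here

set_option autoImplicit false
open Cfsg

namespace Cfsg.Agent.S4742

/-- Let p ≠ q be primes dividing the order of the finite group G, and suppose the centralizer of every non-identity p-element of G has order prime to q. Then either G has an irreducible character of p-defect zero, or for every non-identity q-element z of G there are conjugates g, h of z such that g h⁻¹ is a non-identity p-element. -/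
theorem result {G : Type*} [Group G] [Finite G] (p q : ℕ) [Fact p.Prime] [Fact q.Prime] (hppq : p ≠ q) (hpG : p ∣ Nat.card G) (hqG : q ∣ Nat.card G) (hC : ∀ g : G, g ≠ 1 → (∃ k : ℕ, orderOf g = p ^ k) → ¬ q ∣ Nat.card ↥(Subgroup.centralizer ({g} : Set G))) : (∃ χ : Cfsg.IrrCharacter G, (Cfsg.charDegree (χ : G → ℂ)).factorization p = (Nat.card G).factorization p) ∨ ∀ z : G, z ≠ 1 → (∃ k : ℕ, orderOf z = q ^ k) → ∃ g h : G, IsConj z g ∧ IsConj z h ∧ g * h⁻¹ ≠ 1 ∧ ∃ k : ℕ, orderOf (g * h⁻¹) = p ^ k := by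
  open Cfsg.Agent.BC86 in
  by_cases hno : HasDefectZero p G
  · exact Or.inl hno
  · right
    intro z hz ⟨k, hk⟩
    have hq : q ∣ orderOf z := by
      rw [hk]
      exact dvd_pow_self q fun h => hz (orderOf_eq_one_iff.mp (by rw [hk, h, pow_zero]))
    have hx : ¬ p ∣ Nat.card ↥(Subgroup.centralizer ({z} : Set G)) := by
      intro hdvd
      obtain ⟨w, hw⟩ := exists_prime_orderOf_dvd_card' p hdvd
      have hwG : orderOf (w : G) = p := (Subgroup.orderOf_coe w).trans hw
      have hw1 : (w : G) ≠ 1 := fun h => (Fact.out : p.Prime).ne_one (by simpa [h] using hwG.symm)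
      have hmem : z ∈ Subgroup.centralizer ({(w : G)} : Set G) :=
        Subgroup.mem_centralizer_singleton_iff.mpr
          (Subgroup.mem_centralizer_singleton_iff.mp w.2).symm
      exact hC _ hw1 ⟨1, by rw [hwG, pow_one]⟩ (hq.trans (Subgroup.orderOf_dvd_natCard _ hmem))
    obtain ⟨g, h, hmem, hne⟩ := exists_conj_quot_mem Fact.out hno z hx (default : Sylow p G)
    refine ⟨g * z * g⁻¹, h * z * h⁻¹, isConj_iff.mpr ⟨g, rfl⟩, isConj_iff.mpr ⟨h, rfl⟩, ?_⟩
    have e : (h * z * h⁻¹)⁻¹ = h * z⁻¹ * h⁻¹ := by group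
    rw [e]
    exact ⟨hne, exists_pow_of_mem (default : Sylow p G).2 hmem⟩

end Cfsg.Agent.S4742
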