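import Cfsg.Statements.S4744
import Cfsg.Agent.BC86.NoDefectZero
-- import your own Cfsg.Agent.* helpers here

set_option autoImplicit false
open Cfsg

namespace Cfsg.Agent.S4744

/-- Let p be an odd prime and G a finite group of even order divisible by p in which the centralizer of every non-identity p-element has odd order. Then either G has an irreducible character of p-defect zero, or the normalizer of every Sylow p-subgroup P of G has even order and P is abelian. -/
theorem result {G : Type*} [Group G] [Finite G] (p : ℕ) [Fact p.Prime] (hp2 : p ≠ 2) (hpG : p ∣ Nat.card G) (h2G : 2 ∣ Nat.card G) (hC : ∀ g : G, g ≠ 1 → (∃ k : ℕ, orderOf g = p ^ k) → Odd (Nat.card ↥(Subgroup.centralizer ({g} : Set G)))) : (∃ χ : Cfsg.IrrCharacter G, (Cfsg.charDegree (χ : G → ℂ)).factorization p = (Nat.card G).factorization p) ∨ ∀ P : Sylow p G, Even (Nat.card ↥(Subgroup.normalizer ((P : Subgroup G) : Set G))) ∧ IsMulCommutative ↥(P : Subgroup G) := by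
  open Cfsg.Agent.BC86 in
  by_cases hno : HasDefectZero p G
  · exact Or.inl hno
  · right
    intro P
    obtain ⟨s₀, hs₀⟩ := exists_prime_orderOf_dvd_card' 2 h2G
    obtain ⟨s', -, hs', hinv⟩ := exists_inverts_sylow hC hno hs₀ P
    have hmem : s' ∈ Subgroup.normalizer ((P : Subgroup G) : Set G) := by
      refine Subgroup.mem_normalizer_iff.mpr fun r => ⟨fun hr => ?_, fun hr => ?_⟩
      · have := hinv r hr
        rw [this]
        exact (P : Subgroup G).inv_mem hr
      · have h2 := hinv _ hr
        have hs2 : s' * s' = 1 := by rw [← pow_two, ← hs', pow_orderOf_eq_one]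
        have : s' * (s' * r * s'⁻¹) * s'⁻¹ = r := by
          rw [inv_eq_of_mul_eq_one_left hs2]
          calc s' * (s' * r * s') * s' = (s' * s') * r * (s' * s') := by group
            _ = r := by simp [hs2]
        rw [this] at h2
        rw [h2]
        exact (P : Subgroup G).inv_mem hr
    exact ⟨even_iff_two_dvd.mpr (hs' ▸ Subgroup.orderOf_dvd_natCard _ hmem),
      isMulCommutative_of_inverts hinv⟩

end Cfsg.Agent.S4744
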