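import Cfsg.Statements.S4750
import Cfsg.Agent.Lib.CharCore.Basic
import Mathlib.RingTheory.Valuation.LocalSubring
import Mathlib.LinearAlgebra.Matrix.Charpoly.LinearMap

set_option autoImplicit false
open scoped Pointwise
open Cfsg

namespace Cfsg.Agent.S4750

open scoped ComplexConjugate

/-- A place of ℂ above `p`. -/
theorem exists_place (p : ℕ) [Fact p.Prime] :
    ∃ B : ValuationSubring ℂ, (p : B) ∈ IsLocalRing.maximalIdeal B := by
  let A : Subring ℂ := (Int.castRingHom ℂ).range
  have hne : Ideal.span ({(p : A)} : Set A) ≠ ⊤ := by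
    intro h
    rw [Ideal.span_singleton_eq_top, isUnit_iff_exists_inv] at h
    obtain ⟨⟨b, m, rfl⟩, hb⟩ := h
    have h2 : ((p : ℤ) * m : ℤ) = 1 := by
      have := congrArg Subtype.val hb
      simp only [MulMemClass.coe_mul, SubringClass.coe_natCast, eq_intCast, OneMemClass.coe_one]
        at this
      exact_mod_cast this
    rcases Int.eq_one_or_neg_one_of_mul_eq_one h2 with h3 | h3
    · exact (Fact.out : p.Prime).ne_one (by exact_mod_cast h3)
    · omega
  obtain ⟨B, hAB, hB⟩ := Ideal.image_subset_nonunits_valuationSubring _ hne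
  refine ⟨B, ?_⟩
  have h := hB ⟨(p : A), Ideal.subset_span rfl, rfl⟩
  rw [SetLike.mem_coe, ValuationSubring.mem_nonunits_iff_exists_mem_maximalIdeal] at h
  obtain ⟨hm, h⟩ := h
  convert h using 1
  exact Subtype.ext (by simp)

theorem exists_scale (B : ValuationSubring ℂ) {ι : Type*} (s : Finset ι) (c : ι → ℂ) :
    ∃ e : ℂ, e ≠ 0 ∧ ∀ i ∈ s, e * c i ∈ B := by
  classical
  induction s using Finset.induction with
  | empty => exact ⟨1, one_ne_zero, by simp⟩
  | @insert a s ha ih =>
    obtain ⟨e, he, hs⟩ := ih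
    by_cases hc : e * c a ∈ B
    · exact ⟨e, he, fun i hi => by
        rcases Finset.mem_insert.mp hi with rfl | hi
        exacts [hc, hs i hi]⟩
    · have hinv : (e * c a)⁻¹ ∈ B := (B.mem_or_inv_mem _).resolve_left hc
      have hne : e * c a ≠ 0 := fun h => hc (h ▸ B.zero_mem)
      refine ⟨(e * c a)⁻¹ * e, mul_ne_zero (inv_ne_zero hne) he, fun i hi => ?_⟩
      rcases Finset.mem_insert.mp hi with rfl | hi
      · rw [mul_assoc, inv_mul_cancel₀ hne]; exact B.one_mem
      · rw [mul_assoc]; exact B.mul_mem _ _ hinv (hs i hi)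

variable {G : Type*} [Group G] [Fintype G] {p : ℕ} [Fact p.Prime]

/-- The norm of a p-group of order bigger than the dimension kills a stable lattice modulo `p`. -/
theorem norm_mem (P : Subgroup G) [Fintype P] (hP : IsPGroup p P) (B : ValuationSubring ℂ)
    (hpB : (p : B) ∈ IsLocalRing.maximalIdeal B)
    {W : Type*} [AddCommGroup W] [Module ℂ W] [FiniteDimensional ℂ W]
    (ρ : Representation ℂ G W) (hdim : Module.finrank ℂ W < Nat.card P)
    [Module B W] [IsScalarTower B ℂ W]
    (L : Submodule B W) (hL : ∀ g : G, ∀ x ∈ L, ρ g x ∈ L) (v : W) (hv : v ∈ L) :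
    (∑ u : P, ρ (u : G) v) ∈ IsLocalRing.maximalIdeal B • L := by
  classical
  set m := IsLocalRing.maximalIdeal B with hm
  have hsm : ∀ (b : B) (x : W), (b : ℂ) • x = b • x := fun b x =>
    (IsScalarTower.algebraMap_smul ℂ b x)
  have hstab : ∀ (g : G), ∀ x ∈ m • L, ρ g x ∈ m • L := by
    intro g x hx
    refine Submodule.smul_induction_on (p := fun y => ρ g y ∈ m • L) hx (fun r hr n hn => ?_)
      (fun a b ha hb => ?_)
    · rw [← hsm, map_smul, hsm]
      exact Submodule.smul_mem_smul hr (hL g n hn)
    · rw [map_add]; exact add_mem ha hb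
  -- a relation with coefficients in `B`, one of them a unit
  have hdep : ¬ LinearIndependent ℂ (fun u : P => ρ (u : G) v) := by
    intro h
    have := h.fintype_card_le_finrank
    rw [← Nat.card_eq_fintype_card] at this
    omega
  obtain ⟨c, hc, u₁, hu₁⟩ : ∃ c : P → B, (∑ u : P, c u • ρ (u : G) v = 0) ∧
      ∃ u₁, IsUnit (c u₁) := by
    rw [Fintype.not_linearIndependent_iff] at hdep
    obtain ⟨c, hc, i, hi⟩ := hdep
    -- scale by the entry of largest value
    obtain ⟨j, -, hj⟩ := Finset.exists_max_image Finset.univ (fun u => B.valuation (c u))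
      ⟨i, Finset.mem_univ _⟩
    have hj0 : c j ≠ 0 := by
      intro h0
      have := hj i (Finset.mem_univ _)
      rw [h0, map_zero, le_zero_iff] at this
      exact hi ((map_eq_zero B.valuation).mp this)
    have hmem : ∀ u, c u / c j ∈ B := by
      intro u
      rw [← B.valuation_le_one_iff, map_div₀,
        div_le_one₀ (zero_lt_iff.mpr ((map_ne_zero _).mpr hj0))]
      exact hj u (Finset.mem_univ _)
    refine ⟨fun u => ⟨c u / c j, hmem u⟩, ?_, j, ?_⟩
    · calc (∑ u : P, (⟨c u / c j, hmem u⟩ : B) • ρ (u : G) v)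
          = ∑ u : P, (c j)⁻¹ • (c u • ρ (u : G) v) := by
            refine Finset.sum_congr rfl fun u _ => ?_
            rw [← hsm, smul_smul]
            congr 1
            show c u / c j = (c j)⁻¹ * c u
            ring
        _ = 0 := by rw [← Finset.smul_sum, hc, smul_zero]
    · have h1 : (⟨c j / c j, hmem j⟩ : B) = 1 := Subtype.ext (div_self hj0)
      simp only [h1]; exact isUnit_one
  -- residues
  let π : B →+* IsLocalRing.ResidueField B := IsLocalRing.residue B
  haveI : CharP (IsLocalRing.ResidueField B) p := by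
    refine (CharP.charP_iff_prime_eq_zero (Fact.out : p.Prime)).mpr ?_
    have := (IsLocalRing.residue_eq_zero_iff _).mpr hpB
    rwa [map_natCast] at this
  let K : Set (P → IsLocalRing.ResidueField B) :=
    {d | ∃ d' : P → B, (∀ u, π (d' u) = d u) ∧ (∑ u : P, d' u • ρ (u : G) v) ∈ m • L}
  let φ : (P → ZMod p) → (P → IsLocalRing.ResidueField B) := fun a s =>
    ∑ t : P, (ZMod.castHom (dvd_refl p) (IsLocalRing.ResidueField B) (a t)) * π (c (t⁻¹ * s))
  have hφK : ∀ a, φ a ∈ K := by
    intro a
    refine ⟨fun s => ∑ t : P, ((a t).val : B) * c (t⁻¹ * s), fun s => ?_, ?_⟩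
    · simp only [φ, map_sum, map_mul, map_natCast]
      refine Finset.sum_congr rfl fun t _ => ?_
      congr 1
      rw [ZMod.castHom_apply, ZMod.natCast_val]
    · have : (∑ s : P, (∑ t : P, ((a t).val : B) * c (t⁻¹ * s)) • ρ (s : G) v) =
          ∑ t : P, ((a t).val : B) • ρ (t : G) (∑ u : P, c u • ρ (u : G) v) := by
        simp only [Finset.sum_smul, map_sum, Finset.smul_sum]
        rw [Finset.sum_comm]
        refine Finset.sum_congr rfl fun t _ => ?_
        refine Fintype.sum_equiv (Equiv.mulLeft t⁻¹) _ _ fun s => ?_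
        simp only [Equiv.coe_mulLeft]
        rw [mul_smul, ← hsm (c _), ← hsm (c _), map_smul, ← Module.End.mul_apply, ← map_mul,
          ← Subgroup.coe_mul, mul_inv_cancel_left]
      rw [this, hc]
      simp
  -- the translations act on the image of `φ`
  let S : Set (P → IsLocalRing.ResidueField B) := Set.range φ
  have hSfin : S.Finite := Set.finite_range φ
  have hshift : ∀ (w : P) (a : P → ZMod p),
      (fun s => φ a (w⁻¹ * s)) = φ (fun t => a (w⁻¹ * t)) := by
    intro w a
    funext s
    simp only [φ]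
    refine Fintype.sum_equiv (Equiv.mulLeft w) _ _ fun t => ?_
    simp [mul_assoc]
  letI : MulAction P S :=
    { smul := fun w d => ⟨fun s => d.1 (w⁻¹ * s), by
        obtain ⟨a, ha⟩ := d.2
        exact ⟨_, by rw [← hshift w a, ha]⟩⟩
      one_smul := fun d => Subtype.ext (funext fun s => by
        show d.1 (1⁻¹ * s) = d.1 s; simp)
      mul_smul := fun w w' d => Subtype.ext (funext fun s => by
        show d.1 ((w * w')⁻¹ * s) = d.1 (w'⁻¹ * (w⁻¹ * s)); simp [mul_assoc]) }
  haveI := hSfin.to_subtype
  let A : AddSubgroup (P → IsLocalRing.ResidueField B) :=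
    (AddMonoidHom.mk' φ (fun a b => by
      funext s; simp [φ, add_mul, Finset.sum_add_distrib, ← ZMod.castHom_apply])).range
  have hz : (0 : P → IsLocalRing.ResidueField B) ∈ S := A.zero_mem
  have hcS : (fun s => π (c s)) ∈ S := by
    refine ⟨Pi.single 1 1, funext fun s => ?_⟩
    simp only [φ]
    rw [Finset.sum_eq_single 1 (fun t _ ht => by simp [Pi.single_eq_of_ne ht]) (by simp)]
    simp
  have hpdvd : p ∣ Nat.card S := by
    have h0 : addOrderOf (⟨_, hcS⟩ : A) = p := by
      refine addOrderOf_eq_prime (Subtype.ext (funext fun s => ?_)) (fun h => ?_)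
      · simp
      · have := congrFun (congrArg Subtype.val h) u₁
        exact (hu₁.map π).ne_zero this
    have := addOrderOf_dvd_natCard (⟨_, hcS⟩ : A)
    rw [h0] at this
    exact this
  have hfix0 : (⟨0, hz⟩ : S) ∈ MulAction.fixedPoints P S := fun w => Subtype.ext rfl
  obtain ⟨⟨d, hdS⟩, hd, hd0⟩ :=
    hP.exists_fixed_point_of_prime_dvd_card_of_fixed_point S hpdvd hfix0
  have hconst : ∀ s, d s = d 1 := by
    intro s
    have := congrArg (fun x : S => x.1 s) (hd s)
    change d (s⁻¹ * s) = d s at this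
    rw [inv_mul_cancel] at this
    exact this.symm
  obtain ⟨a, rfl⟩ := hdS
  obtain ⟨d', hd', hmem⟩ := hφK a
  have hne : φ a 1 ≠ 0 := by
    intro h
    exact hd0 (Subtype.ext (funext fun s => ((hconst s).trans h).symm))
  have hunit : IsUnit (d' 1) := by
    by_contra h
    exact hne (by rw [← hd' 1]; exact (IsLocalRing.residue_eq_zero_iff _).mpr h)
  have hkey : (d' 1) • (∑ u : P, ρ (u : G) v) ∈ m • L := by
    have e : (d' 1) • (∑ u : P, ρ (u : G) v) =
        (∑ u : P, d' u • ρ (u : G) v) - ∑ u : P, (d' u - d' 1) • ρ (u : G) v := by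
      simp [sub_smul, Finset.sum_sub_distrib, Finset.smul_sum]
    rw [e]
    refine sub_mem hmem (Submodule.sum_mem _ fun u _ => Submodule.smul_mem_smul ?_ (hL _ v hv))
    have : π (d' u - d' 1) = 0 := by rw [map_sub, hd', hd', hconst u, sub_self]
    exact (IsLocalRing.residue_eq_zero_iff _).mp this
  obtain ⟨e, he⟩ := hunit
  have := Submodule.smul_mem _ (↑e⁻¹ : B) hkey
  rwa [← he, smul_smul, Units.inv_mul, one_smul] at this

/-- In a small representation, invariants of a strongly embedded overgroup are invariants. -/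
theorem fixed_of_small (P : Sylow p G)
    (hTI : ∀ g : G, g ∉ Subgroup.normalizer ((P : Subgroup G) : Set G) →
      (P : Subgroup G) ⊓ (MulAut.conj g • (P : Subgroup G)) = ⊥)
    (H : Subgroup G) (hH : Subgroup.normalizer ((P : Subgroup G) : Set G) ≤ H)
    {W : Type*} [AddCommGroup W] [Module ℂ W] [FiniteDimensional ℂ W]
    (ρ : Representation ℂ G W) (hdim : Module.finrank ℂ W < Nat.card (P : Subgroup G))
    (x : W) (hx : ∀ h ∈ H, ρ h x = x) : ∀ g : G, ρ g x = x := by
  classical
  have hPH : (P : Subgroup G) ≤ H := Subgroup.le_normalizer.trans hH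
  let o : G ⧸ H := ((1 : G) : G ⧸ H)
  have hbase : ∀ u : (P : Subgroup G), u • o = o := fun u => by
    show ((((u : G) * 1 : G)) : G ⧸ H) = o
    rw [mul_one]
    refine (QuotientGroup.eq).mpr ?_
    simpa using hPH u.2
  -- `P` acts freely on the other cosets
  have hfree : ∀ (u : (P : Subgroup G)) (c : G ⧸ H), c ≠ o → u • c = c → u = 1 := by
    intro u c hc huc
    obtain ⟨g, rfl⟩ := QuotientGroup.mk_surjective c
    change ((((u : G) * g : G)) : G ⧸ H) = (g : G ⧸ H) at huc
    rw [QuotientGroup.eq] at huc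
    by_contra hu
    have hm : g⁻¹ * u * g ∈ H := by
      have := H.inv_mem huc
      simpa [mul_assoc] using this
    -- the element lies in a conjugate of `P` by an element of `H`
    obtain ⟨Q, hQ⟩ := ((P.isPGroup'.to_le (Subgroup.zpowers_le.mpr u.2)).map
      ((MulAut.conj g⁻¹).toMonoidHom)).comap_of_injective H.subtype H.subtype_injective
      |>.exists_le_sylow
    obtain ⟨h, hh⟩ := MulAction.exists_smul_eq H (P.subtype hPH) Q
    have hmem : (⟨g⁻¹ * u * g, hm⟩ : H) ∈ (Q : Subgroup H) := by
      refine hQ ?_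
      show g⁻¹ * (u : G) * g ∈ Subgroup.map _ _
      exact ⟨u, Subgroup.mem_zpowers _, by simp⟩
    rw [← hh, Sylow.coe_subgroup_smul, Sylow.coe_subtype,
      Subgroup.mem_pointwise_smul_iff_inv_smul_mem, Subgroup.mem_subgroupOf] at hmem
    have hgh : g * (h : G) ∈ H := by
      by_contra hn
      have hbot := hTI (g * h) (fun k => hn (hH k))
      have : (u : G) ∈ (P : Subgroup G) ⊓ MulAut.conj (g * (h : G)) • (P : Subgroup G) := by
        refine ⟨u.2, ?_⟩
        show (u : G) ∈ MulAut.conj (g * (h : G)) • (P : Subgroup G)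
        rw [Subgroup.mem_pointwise_smul_iff_inv_smul_mem]
        simpa [mul_assoc] using hmem
      rw [hbot, Subgroup.mem_bot] at this
      exact hu (Subtype.ext this)
    apply hc
    refine (QuotientGroup.eq).mpr ?_
    have hg : g ∈ H := by simpa using H.mul_mem hgh (H.inv_mem h.2)
    simpa using hg
  let R : Finset (G ⧸ H) := (Finset.univ.image
    fun ω : MulAction.orbitRel.Quotient (P : Subgroup G) (G ⧸ H) => Quotient.out ω).filter (· ≠ o)
  let Ψ : W →ₗ[ℂ] W := ∑ r ∈ R, ρ r.out
  let Φ : W →ₗ[ℂ] W := (∑ u : (P : Subgroup G), ρ (u : G)) ∘ₗ Ψ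
  have hout : ∀ (g : G) (c : G ⧸ H) (z : W), (∀ h ∈ H, ρ h z = z) →
      ρ g (ρ c.out z) = ρ (g • c).out z := by
    intro g c z hz
    rw [← Module.End.mul_apply, ← map_mul]
    have h1 : (((g * c.out : G)) : G ⧸ H) = g • c := by
      conv_rhs => rw [← QuotientGroup.out_eq' c]
      rfl
    obtain ⟨h, hh⟩ := QuotientGroup.mk_out_eq_mul H (g * c.out)
    rw [h1] at hh
    rw [hh, map_mul _ (g * c.out), Module.End.mul_apply, hz _ h.2]
  have hsplit : ∀ z : W, (∀ h ∈ H, ρ h z = z) →
      (∑ c : G ⧸ H, ρ c.out z) = z + Φ z := by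
    intro z hz
    rw [← Finset.add_sum_erase _ _ (Finset.mem_univ o)]
    congr 1
    · obtain ⟨h, hh⟩ := QuotientGroup.mk_out_eq_mul H (1 : G)
      show ρ o.out z = z
      rw [hh, one_mul, hz _ h.2]
    · simp only [Φ, Ψ, LinearMap.comp_apply, LinearMap.sum_apply, map_sum]
      rw [Finset.sum_comm, ← Finset.sum_product']
      symm
      refine Finset.sum_bij (fun ur _ => ur.1 • ur.2) ?_ ?_ ?_ ?_
      · rintro ⟨u, r⟩ hur
        obtain ⟨-, hr⟩ := Finset.mem_product.mp hur
        refine Finset.mem_erase.mpr ⟨fun h => ?_, Finset.mem_univ _⟩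
        apply (Finset.mem_filter.mp hr).2
        have := congrArg (fun c => u⁻¹ • c) h
        simpa [hbase] using this
      · rintro ⟨u, r⟩ hur ⟨u', r'⟩ hur' h
        obtain ⟨-, hr⟩ := Finset.mem_product.mp hur
        obtain ⟨-, hr'⟩ := Finset.mem_product.mp hur'
        change u • r = u' • r' at h
        obtain ⟨hr1, hr2⟩ := Finset.mem_filter.mp hr
        obtain ⟨hr1', -⟩ := Finset.mem_filter.mp hr'
        obtain ⟨ω, -, rfl⟩ := Finset.mem_image.mp hr1
        obtain ⟨ω', -, rfl⟩ := Finset.mem_image.mp hr1'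
        have horb : ω = ω' := by
          rw [← Quotient.out_eq ω, ← Quotient.out_eq ω']
          refine Quotient.sound ?_
          refine ⟨u⁻¹ * u', ?_⟩
          show (u⁻¹ * u') • Quotient.out ω' = Quotient.out ω
          rw [mul_smul, ← h, inv_smul_smul]
        subst horb
        have : (u'⁻¹ * u) • Quotient.out ω = Quotient.out ω := by rw [mul_smul, h, inv_smul_smul]
        have := hfree _ _ hr2 this
        rw [inv_mul_eq_one] at this
        rw [this]
      · intro c hc
        let ω : MulAction.orbitRel.Quotient (P : Subgroup G) (G ⧸ H) := ⟦c⟧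
        obtain ⟨u, hu⟩ : c ∈ MulAction.orbit (P : Subgroup G) (Quotient.out ω) :=
          MulAction.orbitRel_apply.mp (Quotient.exact (Quotient.out_eq ω).symm)
        refine ⟨(u, Quotient.out ω), Finset.mem_product.mpr ⟨Finset.mem_univ _,
          Finset.mem_filter.mpr ⟨Finset.mem_image.mpr ⟨ω, Finset.mem_univ _, rfl⟩, fun h => ?_⟩⟩, hu⟩
        exact (Finset.mem_erase.mp hc).1 (by
          rw [← hu]; show u • Quotient.out ω = o
          rw [show Quotient.out ω = o from h]; exact hbase u)
      · rintro ⟨u, r⟩ -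
        exact hout _ r z hz
  -- invariant vectors with vanishing trace are zero
  have hzero : ∀ z : W, (∀ h ∈ H, ρ h z = z) → (∑ c : G ⧸ H, ρ c.out z) = 0 → z = 0 := by
    intro z hz hz0
    rw [hsplit z hz] at hz0
    obtain ⟨B, hpB⟩ := exists_place p
    letI : Module B W := Module.compHom W (algebraMap B ℂ)
    haveI : IsScalarTower B ℂ W := ⟨fun b c w => by
      show (b • c) • w = algebraMap B ℂ b • (c • w)
      rw [Algebra.smul_def, mul_smul]⟩
    let b := Module.finBasis ℂ W
    let L : Submodule B W := Submodule.span B (Set.range fun gi : G × Fin _ => ρ gi.1 (b gi.2))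
    have hLfg : L.FG := Submodule.fg_span (Set.finite_range _)
    have hsm : ∀ (r : B) (w : W), (r : ℂ) • w = r • w := fun r w => rfl
    have hstab : ∀ (g : G), ∀ w ∈ L, ρ g w ∈ L := by
      intro g w hw
      induction hw using Submodule.span_induction with
      | mem w hw =>
        obtain ⟨⟨g', i⟩, rfl⟩ := hw
        rw [← Module.End.mul_apply, ← map_mul]
        exact Submodule.subset_span ⟨(g * g', i), rfl⟩
      | zero => simp
      | add a b _ _ ha hb => rw [map_add]; exact add_mem ha hb
      | smul r w _ hw => rw [← hsm, map_smul, hsm]; exact L.smul_mem r hw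
    have hΨ : ∀ w ∈ L, Ψ w ∈ L := fun w hw => by
      simp only [Ψ, LinearMap.sum_apply]
      exact Submodule.sum_mem _ fun r _ => hstab _ w hw
    set m := IsLocalRing.maximalIdeal B with hmdef
    have hΦ : ∀ w ∈ L, Φ w ∈ m • L := fun w hw => by
      simp only [Φ, LinearMap.comp_apply, LinearMap.sum_apply]
      exact norm_mem (P : Subgroup G) P.isPGroup' B hpB ρ hdim L hstab _ (hΨ w hw)
    -- a multiple of `z` lies in the lattice
    obtain ⟨e, he, hes⟩ := exists_scale B Finset.univ (fun i => b.repr z i)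
    have hezL : e • z ∈ L := by
      rw [← b.sum_repr z, Finset.smul_sum]
      refine Submodule.sum_mem _ fun i _ => ?_
      rw [smul_smul, show (e * b.repr z i) = ((⟨_, hes i (Finset.mem_univ i)⟩ : B) : ℂ) from rfl,
        hsm]
      refine L.smul_mem _ (Submodule.subset_span ⟨(1, i), ?_⟩)
      simp
    have hΦL : ∀ w ∈ L, Φ w ∈ L := fun w hw => Submodule.smul_le_right (hΦ w hw)
    let f : Module.End B L :=
      { toFun := fun w => ⟨Φ w, hΦL w w.2⟩
        map_add' := fun a b => Subtype.ext (map_add Φ _ _)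
        map_smul' := fun r a => Subtype.ext (by
          show Φ ((r : ℂ) • (a : W)) = (r : ℂ) • Φ a
          exact map_smul Φ _ _) }
    haveI : Module.Finite B L := Module.Finite.iff_fg.mpr hLfg
    have hrange : LinearMap.range f ≤ m • (⊤ : Submodule B L) := by
      rintro _ ⟨w, rfl⟩
      exact (Submodule.mem_smul_top_iff m L _).mpr (hΦ w w.2)
    obtain ⟨q, hq, -, hqc, hq0⟩ :=
      LinearMap.exists_monic_and_natDegree_eq_and_coeff_mem_pow_and_aeval_eq_zero B f m hrange
    have hev : f ⟨e • z, hezL⟩ = (-1 : B) • ⟨e • z, hezL⟩ := by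
      refine Subtype.ext ?_
      show Φ (e • z) = (-1 : B) • (e • z)
      rw [map_smul, neg_smul, one_smul, eq_neg_of_add_eq_zero_right hz0, smul_neg]
    have hpow : ∀ (q : Polynomial B), Polynomial.aeval f q ⟨e • z, hezL⟩
        = q.eval (-1 : B) • ⟨e • z, hezL⟩ := by
      intro q
      induction q using Polynomial.induction_on with
      | C a => simp [Polynomial.aeval_C, Module.algebraMap_end_apply]
      | add q r hq hr => simp [map_add, LinearMap.add_apply, hq, hr, add_smul]
      | monomial n a h =>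
        rw [pow_succ, ← mul_assoc, map_mul, Polynomial.aeval_X, Module.End.mul_apply, hev,
          map_smul, h, smul_smul, Polynomial.eval_mul_X, mul_comm]
    have h0 := hpow q
    rw [hq0, LinearMap.zero_apply] at h0
    have hu : IsUnit (q.eval (-1 : B)) := by
      by_contra hn
      have h1 : IsLocalRing.residue B (q.eval (-1 : B)) = 0 :=
        (IsLocalRing.residue_eq_zero_iff _).mpr hn
      rw [← Polynomial.eval_map_apply] at h1
      have h2 : q.map (IsLocalRing.residue B) = Polynomial.X ^ q.natDegree := by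
        refine Polynomial.ext fun k => ?_
        rw [Polynomial.coeff_map, Polynomial.coeff_X_pow]
        rcases lt_trichotomy k q.natDegree with hk | hk | hk
        · rw [if_neg hk.ne, IsLocalRing.residue_eq_zero_iff]
          exact Ideal.pow_le_self (by omega) (hqc k)
        · rw [if_pos hk, hk, hq.coeff_natDegree, map_one]
        · rw [if_neg hk.ne', Polynomial.coeff_eq_zero_of_natDegree_lt hk, map_zero]
      rw [h2] at h1
      simp at h1
    obtain ⟨u, hu⟩ := hu
    rw [← hu] at h0
    have h3 := congrArg (fun w => (↑u⁻¹ : B) • w) h0.symm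
    simp only [smul_smul, Units.inv_mul, one_smul, smul_zero] at h3
    have h4 : e • z = 0 := congrArg Subtype.val h3
    exact (smul_eq_zero.mp h4).resolve_left he
  intro g
  set y := ∑ c : G ⧸ H, ρ c.out x with hy
  have hyG : ∀ g : G, ρ g y = y := by
    intro g
    rw [hy, map_sum]
    exact Fintype.sum_equiv (MulAction.toPerm g) _ _ fun c => hout g c x hx
  set N : ℂ := (Fintype.card (G ⧸ H) : ℂ) with hNdef
  have hN : N ≠ 0 := by rw [hNdef]; exact_mod_cast Fintype.card_ne_zero
  have hx' : x - N⁻¹ • y = 0 := by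
    refine hzero _ (fun h hh => by rw [map_sub, map_smul, hx h hh, hyG]) ?_
    simp only [map_sub, map_smul, hyG, Finset.sum_sub_distrib, ← hy, Finset.sum_const,
      Finset.card_univ]
    rw [← Nat.cast_smul_eq_nsmul ℂ, smul_smul, ← hNdef, mul_inv_cancel₀ hN, one_smul, sub_self]
  rw [sub_eq_zero] at hx'
  rw [hx', map_smul, hyG]


/-- Let P be a Sylow p-subgroup of the finite group G that meets each conjugate g P g⁻¹ with g outside N_G(P) trivially, χ a character of G with χ(1)² ≤ |P|, and H a subgroup of G containing N_G(P). Then the inner product of χ with itself over G equals the inner product over H of the restriction of χ to H. -/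
theorem result {G : Type*} [Group G] [Fintype G] [DecidableEq G] (p : ℕ) [Fact p.Prime] (P : Sylow p G) (hTI : ∀ g : G, g ∉ Subgroup.normalizer ((P : Subgroup G) : Set G) → (P : Subgroup G) ⊓ (MulAut.conj g • (P : Subgroup G)) = ⊥) (χ : G → ℂ) (hχ : Cfsg.IsCharacter G χ) (hdeg : Cfsg.charDegree χ ^ 2 ≤ Nat.card ↥(P : Subgroup G)) (H : Subgroup G) [Fintype ↥H] (hH : Subgroup.normalizer ((P : Subgroup G) : Set G) ≤ H) : Cfsg.classInner χ χ = Cfsg.classInner (fun h : ↥H => χ h) (fun h : ↥H => χ h) := by
  classical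
  obtain ⟨n, ρ, rfl⟩ := hχ
  haveI : Invertible (Nat.card G : ℂ) := invertibleOfNonzero (Nat.cast_ne_zero.mpr Nat.card_pos.ne')
  haveI : Invertible (Nat.card H : ℂ) := invertibleOfNonzero (Nat.cast_ne_zero.mpr Nat.card_pos.ne')
  have hn : n * n ≤ Nat.card (P : Subgroup G) := by
    have : Cfsg.charDegree ρ.character = n := by
      simp [Cfsg.charDegree, Representation.char_one]
    rw [this, sq] at hdeg
    exact hdeg
  set τ := Representation.linHom ρ ρ with hτ
  set τH : Representation ℂ H ((Fin n → ℂ) →ₗ[ℂ] (Fin n → ℂ)) := τ.comp H.subtype with hτH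
  have hEnd : Module.finrank ℂ ((Fin n → ℂ) →ₗ[ℂ] (Fin n → ℂ)) = n * n := by
    simp [Module.finrank_linearMap]
  have hinv : τ.invariants = τH.invariants := by
    ext f
    refine ⟨fun h g => h g, fun h => ?_⟩
    have hfH : ∀ g ∈ H, τ g f = f := fun g hg => h ⟨g, hg⟩
    by_cases hn0 : n = 0
    · subst hn0
      exact fun g => LinearMap.ext fun v => Subsingleton.elim _ _
    -- the endomorphisms of trace zero
    let W₀ := LinearMap.ker (LinearMap.trace ℂ (Fin n → ℂ))
    have hW₀ : ∀ g, ∀ w ∈ W₀, τ g w ∈ W₀ := by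
      intro g w hw
      simp only [W₀, LinearMap.mem_ker] at hw ⊢
      rw [hτ, Representation.linHom_apply, ← Module.End.mul_eq_comp, ← Module.End.mul_eq_comp,
        LinearMap.trace_mul_comm, mul_assoc, ← map_mul, inv_mul_cancel, map_one, mul_one]
      exact hw
    let τ₀ : Representation ℂ G W₀ :=
      { toFun := fun g => (τ g).restrict (hW₀ g)
        map_one' := by ext w : 1; exact Subtype.ext (by simp)
        map_mul' := fun a b => by ext w : 1; exact Subtype.ext (by simp [map_mul]) }
    have hlt : Module.finrank ℂ W₀ < Nat.card (P : Subgroup G) := by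
      have hne : W₀ ≠ ⊤ := by
        intro h
        have h1 : (LinearMap.id : (Fin n → ℂ) →ₗ[ℂ] (Fin n → ℂ)) ∈ W₀ := h ▸ Submodule.mem_top
        simp [W₀, LinearMap.mem_ker, LinearMap.trace_id, hn0] at h1
      have := Submodule.finrank_lt hne
      omega
    have hid : ∀ g, τ g LinearMap.id = LinearMap.id := fun g => by
      rw [hτ, Representation.linHom_apply, LinearMap.id_comp, ← Module.End.mul_eq_comp, ← map_mul,
        mul_inv_cancel, map_one]
      rfl
    set s : ℂ := LinearMap.trace ℂ (Fin n → ℂ) f / n with hs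
    have hf₀ : f - s • LinearMap.id ∈ W₀ := by
      simp [W₀, LinearMap.mem_ker, LinearMap.trace_id, hs, hn0]
    have hfix := fixed_of_small P hTI H hH τ₀ hlt ⟨_, hf₀⟩ (fun g hg => Subtype.ext (by
      show τ g (f - s • LinearMap.id) = f - s • LinearMap.id
      rw [map_sub, map_smul, hfH g hg, hid]))
    intro g
    have h1 : τ g (f - s • LinearMap.id) = f - s • LinearMap.id := congrArg Subtype.val (hfix g)
    rw [map_sub, map_smul, hid, sub_left_inj] at h1
    exact h1
  have eG := Representation.card_inv_mul_sum_char_eq_finrank τ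
  have eH := Representation.card_inv_mul_sum_char_eq_finrank τH
  rw [hinv] at eG
  have hc : ∀ g, τ.character g = ρ.character g * conj (ρ.character g) := fun g => by
    rw [hτ, Representation.char_linHom, Cfsg.Agent.CharCore.IsCharacter.apply_inv ⟨n, ρ, rfl⟩,
      mul_comm]
  have hcH : ∀ h : H, τH.character h = ρ.character (h : G) * conj (ρ.character (h : G)) :=
    fun h => hc h
  simp only [hc] at eG
  simp only [hcH] at eH
  exact eG.trans eH.symm

end Cfsg.Agent.S4750
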