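import Cfsg.Statements.S4751
import Cfsg.Agent.BC86.RootValues
import Cfsg.Agent.Lib.Thompson.Cores
import Cfsg.Agent.Lib.Transfer.Abelian
import Cfsg.Agent.Lib.CharInd.Classes
import Mathlib.GroupTheory.Perm.Sign
import Mathlib.GroupTheory.SpecificGroups.Cyclic
import Mathlib.GroupTheory.Sylow
import Mathlib.GroupTheory.Abelianization.Finite
import Mathlib.RingTheory.RootsOfUnity.AlgebraicallyClosed

set_option autoImplicit false
open Cfsg

namespace Cfsg.Agent.S4751

open Finset
open scoped ComplexConjugate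

/-- A subgroup generated by the 2-elements is a complement of an odd centre, when the quotient is
the symmetric group of degree 4. -/
theorem exists_complement {G : Type*} [Group G] [Finite G] {ι : Type*} [Fintype ι] [DecidableEq ι]
    (hι : Fintype.card ι = 4) (ρ : G →* Equiv.Perm ι) (hsurj : Function.Surjective ρ)
    (hker : ρ.ker = Subgroup.center G) (hodd : Odd (Nat.card (Subgroup.center G))) :
    ∃ H : Subgroup G, Nonempty (↥H ≃* Equiv.Perm (Fin 4)) ∧ H ⊓ Subgroup.center G = ⊥ ∧
      H ⊔ Subgroup.center G = ⊤ := by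
  classical
  set Z := Subgroup.center G
  have hperm : Nat.card (Equiv.Perm ι) = 24 := by
    rw [Nat.card_eq_fintype_card, Fintype.card_perm, hι]; rfl
  -- the centre meets the derived group trivially
  have hZG : commutator G ⊓ Z = ⊥ := by
    by_contra hne
    have h1 : Nat.card ↥(commutator G ⊓ Z) ≠ 1 := fun h => hne (Subgroup.card_eq_one.1 h)
    obtain ⟨l, hl, hld⟩ := Nat.exists_prime_and_dvd h1
    haveI : Fact l.Prime := ⟨hl⟩
    obtain ⟨z, hz⟩ := exists_prime_orderOf_dvd_card' l hld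
    have hzo : orderOf (z : G) = l := (Subgroup.orderOf_coe z).trans hz
    have hl2 : l ≠ 2 := fun h => by
      have hdz := Subgroup.orderOf_dvd_natCard Z z.2.2
      rw [hzo, h] at hdz
      exact Nat.not_even_iff_odd.2 hodd (even_iff_two_dvd.2 hdz)
    obtain ⟨L, hL⟩ := (IsPGroup.of_card (n := 1)
      (show Nat.card (Subgroup.zpowers (z : G)) = l ^ 1 by rw [Nat.card_zpowers, hzo, pow_one])).exists_le_sylow
    set f : (L : Subgroup G) →* Equiv.Perm ι := ρ.comp (L : Subgroup G).subtype
    have hcyc : IsCyclic f.range := by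
      obtain ⟨k, hk⟩ := (IsPGroup.iff_card).1 L.isPGroup'
      have h24 : Nat.card f.range ∣ 24 := hperm ▸ Subgroup.card_subgroup_dvd_card _
      have hd : Nat.card f.range ∣ l ^ k := hk ▸ Subgroup.card_range_dvd f
      obtain ⟨j, -, hj⟩ := (Nat.dvd_prime_pow hl).1 hd
      rcases Nat.lt_or_ge j 1 with h | h
      · haveI : Subsingleton f.range := (Nat.card_eq_one_iff_unique.1
          (by rw [hj, show j = 0 by omega, pow_zero])).1
        exact isCyclic_of_subsingleton
      · rw [hj] at h24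
        have hl3 : l = 3 := by
          have hl24 : l ∣ 24 := (dvd_pow_self l (by omega)).trans h24
          have hll : l ∣ 2 ^ 3 * 3 := hl24
          rcases hl.dvd_mul.1 hll with h' | h'
          · exact absurd ((Nat.prime_dvd_prime_iff_eq hl Nat.prime_two).1 (hl.dvd_of_dvd_pow h')) hl2
          · exact (Nat.prime_dvd_prime_iff_eq hl Nat.prime_three).1 h'
        have hj1 : j = 1 := by
          by_contra hne1
          have h9 : 3 ^ 2 ∣ 24 := (pow_dvd_pow 3 (show 2 ≤ j by omega)).trans (by rw [← hl3]; exact h24)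
          norm_num at h9
        haveI : Fact (Nat.Prime 3) := ⟨Nat.prime_three⟩
        exact isCyclic_of_prime_card (p := 3) (by rw [hj, hj1, hl3, pow_one])
    have hab : IsMulCommutative (L : Subgroup G) :=
      ⟨⟨fun a b => by
        haveI := hcyc
        exact commutative_of_cyclic_center_quotient f.rangeRestrict (fun u hu => by
          rw [MonoidHom.ker_rangeRestrict, MonoidHom.mem_ker] at hu
          have hu' : (u : G) ∈ ρ.ker := hu
          rw [hker] at hu'
          rw [Subgroup.mem_center_iff]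
          exact fun y => Subtype.ext (Subgroup.mem_center_iff.1 hu' y)) a b⟩⟩
    have hbot := Cfsg.Agent.Transfer.inf_commutator_inf_center_eq_bot (H := (L : Subgroup G)) hab
      (Sylow.card_coprime_index L)
    have : (z : G) ∈ (L : Subgroup G) ⊓ commutator G ⊓ Z :=
      ⟨⟨hL (Subgroup.mem_zpowers _), z.2.1⟩, z.2.2⟩
    rw [hbot, Subgroup.mem_bot] at this
    rw [this, orderOf_one] at hzo
    exact hl.one_lt.ne hzo
  set H := Subgroup.closure {g : G | ∃ k, orderOf g = 2 ^ k}
  have hHrange : H.map ρ = ⊤ := by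
    rw [eq_top_iff, ← Equiv.Perm.closure_isSwap, Subgroup.closure_le]
    intro s hs
    obtain ⟨g, rfl⟩ := hsurj s
    obtain ⟨a, b, hb, hab⟩ := Nat.exists_eq_pow_mul_and_not_dvd (orderOf_pos g).ne' 2 (by norm_num)
    refine ⟨g ^ b, Subgroup.subset_closure ?_, ?_⟩
    · obtain ⟨c, -, hc⟩ := (Nat.dvd_prime_pow Nat.prime_two).1
        (orderOf_dvd_of_pow_eq_one (show (g ^ b) ^ (2 ^ a) = 1 by
          rw [← pow_mul, mul_comm, ← hab, pow_orderOf_eq_one]))
      exact ⟨c, hc⟩
    · obtain ⟨x, y, hxy, he⟩ := hs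
      have h2 : ρ g ^ 2 = 1 := by rw [he, pow_two, Equiv.swap_mul_self]
      obtain ⟨c, rfl⟩ := Nat.not_even_iff_odd.1 (fun h => hb (even_iff_two_dvd.1 h))
      rw [map_pow, pow_succ, pow_mul, h2, one_pow, one_mul]
  have htop : H ⊔ Z = ⊤ := by
    rw [eq_top_iff]
    intro g _
    obtain ⟨h, hh, e⟩ : ρ g ∈ H.map ρ := hHrange ▸ trivial
    have : h⁻¹ * g ∈ Z := by rw [← hker, MonoidHom.mem_ker, map_mul, map_inv, e, inv_mul_cancel]
    rw [← mul_inv_cancel_left h g]
    exact Subgroup.mul_mem_sup hh this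
  have hbotH : H ⊓ Z = ⊥ := by
    rw [Subgroup.eq_bot_iff_forall]
    rintro z ⟨hzH, hzZ⟩
    have hpow : ∀ g ∈ H, ∃ k : ℕ, Abelianization.of g ^ (2 ^ k) = 1 := by
      intro g hg
      induction hg using Subgroup.closure_induction with
      | mem x hx =>
        obtain ⟨k, hk⟩ := hx
        exact ⟨k, by rw [← map_pow, ← hk, pow_orderOf_eq_one, map_one]⟩
      | one => exact ⟨0, by simp⟩
      | mul x y _ _ hx hy =>
        obtain ⟨k, hk⟩ := hx
        obtain ⟨j, hj⟩ := hy
        refine ⟨k + j, ?_⟩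
        rw [map_mul, mul_pow, pow_add, pow_mul, hk, one_pow, one_mul, mul_comm (2 ^ k), pow_mul, hj,
          one_pow]
      | inv x _ hx =>
        obtain ⟨k, hk⟩ := hx
        exact ⟨k, by rw [map_inv, inv_pow, hk, inv_one]⟩
    obtain ⟨k, hk⟩ := hpow z hzH
    have hc : z ^ (2 ^ k) ∈ commutator G ⊓ Z := by
      refine ⟨?_, pow_mem hzZ _⟩
      show z ^ (2 ^ k) ∈ commutator G
      rw [← Abelianization.ker_of, MonoidHom.mem_ker, map_pow, hk]
    rw [hZG, Subgroup.mem_bot] at hc
    have h1 := orderOf_dvd_of_pow_eq_one hc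
    have h2 := Subgroup.orderOf_dvd_natCard Z hzZ
    exact orderOf_eq_one_iff.1 (Nat.eq_one_of_dvd_coprimes
      ((Nat.coprime_two_left.2 hodd).pow_left k) h1 h2)
  refine ⟨H, ⟨?_⟩, hbotH, htop⟩
  refine (MulEquiv.ofBijective (ρ.comp H.subtype) ⟨?_, fun s => ?_⟩).trans
    (Fintype.equivFinOfCardEq hι).permCongrHom
  · rw [← MonoidHom.ker_eq_bot_iff, Subgroup.eq_bot_iff_forall]
    intro u hu
    have hu' : (u : G) ∈ ρ.ker := hu
    rw [hker] at hu'
    have : (u : G) ∈ H ⊓ Z := ⟨u.2, hu'⟩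
    rw [hbotH, Subgroup.mem_bot] at this
    exact Subtype.ext this
  · obtain ⟨h, hh, e⟩ : s ∈ H.map ρ := hHrange ▸ trivial
    exact ⟨⟨h, hh⟩, e⟩

set_option maxHeartbeats 4000000 in
/-- Let χ be a faithful, non-linear irreducible character of the finite group G (χ g = χ 1 only for g = 1, χ 1 ≠ 1) whose value at every element of order divisible by p is a root of unity, and suppose P = O_p(G) ≠ 1. Then either P is an elementary abelian Sylow p-subgroup of G, C_G(P) is the internal direct product of P and Z(G), G acts transitively by conjugation on the non-principal linear characters of P, and χ 1 = |P| − 1; or p = 2 and G is the internal direct product of a subgroup isomorphic to the symmetric group S₄ and the centre Z(G), which has odd order. -/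
theorem result {G : Type*} [Group G] [Finite G] (p : ℕ) [Fact p.Prime] (χ : Cfsg.IrrCharacter G) (hfaith : ∀ g : G, (χ : G → ℂ) g = (χ : G → ℂ) 1 → g = 1) (hnl : (χ : G → ℂ) 1 ≠ 1) (hroot : ∀ g : G, p ∣ orderOf g → ∃ n : ℕ, 0 < n ∧ ((χ : G → ℂ) g) ^ n = 1) (hP : Cfsg.pCore p G ≠ ⊥) : ((Nat.card ↥(Cfsg.pCore p G)).factorization p = (Nat.card G).factorization p ∧ Cfsg.IsElementaryAbelian p (Cfsg.pCore p G) ∧ Subgroup.centralizer ((Cfsg.pCore p G : Subgroup G) : Set G) = Cfsg.pCore p G ⊔ Subgroup.center G ∧ Cfsg.pCore p G ⊓ Subgroup.center G = ⊥ ∧ (∀ lam mu : ↥(Cfsg.pCore p G) → ℂ, Cfsg.IsCharacter ↥(Cfsg.pCore p G) lam → lam 1 = 1 → lam ≠ (fun _ => (1 : ℂ)) → Cfsg.IsCharacter ↥(Cfsg.pCore p G) mu → mu 1 = 1 → mu ≠ (fun _ => (1 : ℂ)) → ∃ g : G, ∀ (x : G) (hx : x ∈ Cfsg.pCore p G) (hgx : g * x * g⁻¹ ∈ Cfsg.pCore p G), mu ⟨x, hx⟩ = lam ⟨g * x * g⁻¹, hgx⟩) ∧ (χ : G → ℂ) 1 = (Nat.card ↥(Cfsg.pCore p G) : ℂ) - 1) ∨ (p = 2 ∧ Odd (Nat.card ↥(Subgroup.center G)) ∧ ∃ H : Subgroup G, Nonempty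 (↥H ≃* Equiv.Perm (Fin 4)) ∧ H ⊓ Subgroup.center G = ⊥ ∧ H ⊔ Subgroup.center G = ⊤) := by
  classical
  haveI : Fintype G := Fintype.ofFinite G
  set V := Cfsg.pCore p G with hVdef
  haveI : Fintype V := Fintype.ofFinite _
  haveI hVn : V.Normal := inferInstance
  have hVp : IsPGroup p V := Cfsg.Agent.Thompson.isPGroup_pCore
  obtain ⟨kq, hq⟩ := (IsPGroup.iff_card).1 hVp
  set q := Nat.card V with hqdef
  obtain ⟨d, hd0, hd⟩ := CharCore.IsIrrCharacter.exists_degree χ.2
  have hp := (Fact.out : p.Prime)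
  have hd1 : d ≠ 1 := fun h => hnl (by rw [hd, h, Nat.cast_one])
  have hq2 : 2 ≤ q := by
    have : Nontrivial V := (Subgroup.nontrivial_iff_ne_bot V).2 hP
    exact Finite.one_lt_card
  have hkq : kq ≠ 0 := fun h => by rw [h, pow_zero] at hq; omega
  have hpq : p ∣ q := hq ▸ dvd_pow_self p hkq
  have hnorm : ∀ g : G, p ∣ orderOf g → (χ : G → ℂ) g * conj ((χ : G → ℂ) g) = 1 := fun g hg => by
    obtain ⟨n, hn, h⟩ := hroot g hg
    rw [Complex.mul_conj', Complex.norm_eq_one_of_pow_eq_one h hn.ne']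
    simp
  have hpel : ∀ g : G, g ≠ 1 → (∃ j, orderOf g = p ^ j) → p ∣ orderOf g := by
    rintro g hg ⟨j, hj⟩
    rw [hj]
    refine dvd_pow_self p fun h => hg (orderOf_eq_one_iff.1 ?_)
    rw [hj, h, pow_zero]
  have hVel : ∀ v : V, ∃ j, orderOf (v : G) = p ^ j := fun v => by
    obtain ⟨j, hj⟩ := (IsPGroup.iff_orderOf.1 hVp) v
    exact ⟨j, by rw [Subgroup.orderOf_coe, hj]⟩
  -- the restriction to the core
  obtain ⟨θ, e, hθ, hepos, hemult, hres⟩ := CharClifford.clifford_restrict V χ.2
  set O := CharClifford.conjOrbit V θ with hO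
  have hOirr : ∀ ψ ∈ O, Cfsg.IsIrrCharacter V ψ := fun ψ hψ => by
    obtain ⟨x, rfl⟩ := (CharClifford.mem_conjOrbit V).1 hψ
    exact CharClifford.isIrrCharacter_conjFun V hθ x
  obtain ⟨f, hf0, hfdvd, hf⟩ := CharClifford.exists_degree_dvd_card hθ
  have hO1 : ∀ ψ ∈ O, ψ 1 = (f : ℂ) := fun ψ hψ => by
    obtain ⟨x, rfl⟩ := (CharClifford.mem_conjOrbit V).1 hψ
    rw [CharClifford.conjFun_apply, ← hf]
    congr 1
    exact Subtype.ext (by simp)
  have hdf : d = e * O.card * f := by
    have h := congrFun hres 1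
    simp only [Pi.smul_apply, Finset.sum_apply, smul_eq_mul, OneMemClass.coe_one] at h
    rw [Finset.sum_congr rfl hO1, Finset.sum_const, nsmul_eq_mul, hd] at h
    rw [← @Nat.cast_inj ℂ, h]
    push_cast; ring
  have hinnO : ∀ φ : Cfsg.IrrCharacter V, Cfsg.classInner (fun v : V => (χ : G → ℂ) v) φ =
      if (φ : V → ℂ) ∈ O then (e : ℂ) else 0 := fun φ => by
    rw [hres, CharCore.classInner_smul_left, CharCore.classInner_sum_left]
    split_ifs with hφ
    · rw [Finset.sum_eq_single_of_mem _ hφ fun ψ hψ hne => CharCore.classInner_irr_of_ne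
        (χ := ⟨ψ, hOirr ψ hψ⟩) fun h => hne (congrArg Subtype.val h),
        CharCore.classInner_irr_self φ, mul_one]
    · rw [Finset.sum_eq_zero fun ψ hψ => CharCore.classInner_irr_of_ne (χ := ⟨ψ, hOirr ψ hψ⟩)
        fun h => hφ (by rw [← h]; exact hψ), mul_zero]
  have hone : ∑ v ∈ (univ : Finset V).erase 1, (χ : G → ℂ) v * conj ((χ : G → ℂ) v) = (q : ℂ) - 1 := by
    rw [Finset.sum_congr rfl fun (v : V) hv => hnorm (v : G) (hpel _
      (fun h => Finset.ne_of_mem_erase hv (Subtype.ext h)) (hVel v)), Finset.sum_const,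
      Finset.card_erase_of_mem (mem_univ _), Finset.card_univ, ← Nat.card_eq_fintype_card,
      nsmul_eq_mul, mul_one, Nat.cast_sub (by omega), Nat.cast_one]
  have heq : q * (e * e * O.card) + 1 = d * d + q := by
    have hcl : Cfsg.IsClassFunction V (fun v : V => (χ : G → ℂ) v) := fun a b =>
      CharCore.irr_isClassFunction χ (a : G) (b : G)
    have h := CharCore.classInner_eq_sum hcl hcl
    rw [CharCore.classInner_def, inv_mul_eq_iff_eq_mul₀ (Nat.cast_ne_zero.2 Nat.card_pos.ne'),
      ← Finset.add_sum_erase _ _ (mem_univ (1 : V)), hone, OneMemClass.coe_one, hd,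
      Complex.conj_natCast] at h
    have hO' : ∑ φ : Cfsg.IrrCharacter V, Cfsg.classInner (fun v : V => (χ : G → ℂ) v) φ *
        conj (Cfsg.classInner (fun v : V => (χ : G → ℂ) v) φ) = ((e * e * O.card : ℕ) : ℂ) := by
      have hcard : (univ.filter fun φ : Cfsg.IrrCharacter V => (φ : V → ℂ) ∈ O).card = O.card :=
        Finset.card_bij (fun φ _ => (φ : V → ℂ)) (fun φ hφ => (mem_filter.1 hφ).2)
          (fun a _ b _ h => Subtype.ext h)
          (fun ψ hψ => ⟨⟨ψ, hOirr ψ hψ⟩, mem_filter.2 ⟨mem_univ _, hψ⟩, rfl⟩)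
      rw [Finset.sum_congr rfl (g := fun φ : Cfsg.IrrCharacter V =>
          if (φ : V → ℂ) ∈ O then ((e * e : ℕ) : ℂ) else 0)
        (fun φ _ => by rw [hinnO φ]; split_ifs <;> simp), ← Finset.sum_filter, Finset.sum_const, hcard,
        nsmul_eq_mul]
      push_cast; ring
    rw [hO'] at h
    rw [← @Nat.cast_inj ℂ]
    push_cast at h ⊢
    linear_combination -h
  obtain rfl : f = 1 := by
    by_contra hf1
    obtain ⟨j, -, hj⟩ := (Nat.dvd_prime_pow hp).1 (show f ∣ p ^ kq by rw [← hq]; exact hfdvd)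
    have hpf : p ∣ f := by rw [hj]; exact dvd_pow_self p fun h0 => hf1 (by rw [hj, h0, pow_zero])
    have hpd : p ∣ d * d + q := dvd_add ((hdf ▸ hpf.mul_left _).mul_right _) hpq
    rw [← heq] at hpd
    exact hp.not_dvd_one ((Nat.dvd_add_right (hpq.mul_right _)).1 hpd)
  rw [mul_one] at hdf
  obtain ⟨he1, hqd⟩ : e = 1 ∧ q = d + 1 := by
    have h : (q : ℤ) * ((e : ℤ) * d) + 1 = (d : ℤ) * d + q := by
      have h' : (q : ℤ) * ((e : ℤ) * e * O.card) + 1 = (d : ℤ) * d + q := by exact_mod_cast heq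
      rw [hdf] at h' ⊢
      push_cast at h' ⊢
      linear_combination h'
    have hd2 : (2 : ℤ) ≤ d := by omega
    have hq2' : (2 : ℤ) ≤ q := by omega
    have hdk : (d : ℤ) * ((q : ℤ) * e - d) = q - 1 := by linear_combination h
    have hk1 : 1 ≤ (q : ℤ) * e - d := by
      by_contra hc
      nlinarith
    have hle : (q : ℤ) * e ≤ q := by nlinarith
    have he : e = 1 := by
      by_contra hne
      have : (2 : ℤ) ≤ e := by omega
      nlinarith
    subst he
    refine ⟨rfl, ?_⟩
    have h0 : ((d : ℤ) - 1) * ((q : ℤ) - d - 1) = 0 := by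
      push_cast at hdk
      linear_combination hdk
    rcases mul_eq_zero.1 h0 with h0 | h0 <;> omega
  subst he1
  rw [one_mul] at hdf
  have hhomO : ∀ ψ ∈ O, ∀ u v : V, ψ (u * v) = ψ (v * u) := fun ψ hψ u v => by
    obtain ⟨g, rfl⟩ := CharCore.IsCharacter.exists_hom_of_degree_one
      (CharCore.IsIrrCharacter.isCharacter (hOirr ψ hψ)) ((hO1 ψ hψ).trans Nat.cast_one)
    simp only [map_mul, Units.val_mul]; ring
  have hab : ∀ u v : V, u * v = v * u := by
    intro u v
    have hval : ∀ w : V, (χ : G → ℂ) w = ∑ ψ ∈ O, ψ w := fun w => by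
      have h := congrFun hres w
      simpa using h
    have h1 : ((v * u)⁻¹ * (u * v) : V) = 1 := by
      refine Subtype.ext (hfaith _ ?_)
      rw [hval]
      refine (Finset.sum_congr rfl fun ψ hψ => ?_).trans ((hval 1).symm)
      obtain ⟨g, rfl⟩ := CharCore.IsCharacter.exists_hom_of_degree_one
        (CharCore.IsIrrCharacter.isCharacter (hOirr ψ hψ)) ((hO1 ψ hψ).trans Nat.cast_one)
      simp only [map_mul, map_inv, map_one]
      rw [mul_comm (g v) (g u), inv_mul_cancel]
    exact (inv_mul_eq_one.1 h1).symm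
  have hdeg1 : ∀ φ : Cfsg.IrrCharacter V, (φ : V → ℂ) 1 = 1 :=
    fun φ => BC87.apply_one_eq_one_of_comm hab φ
  have hirrcard : Fintype.card (Cfsg.IrrCharacter V) = q := by
    have h := CharCore.sum_degree_sq (G := V)
    simp only [hdeg1, one_pow, Finset.sum_const, Finset.card_univ, nsmul_eq_mul, mul_one] at h
    exact_mod_cast h
  have hnot1 : (1 : V → ℂ) ∉ O := by
    intro h1
    obtain ⟨x, hx⟩ := (CharClifford.mem_conjOrbit V).1 h1
    have hθ1 : θ = 1 := by
      have := congrArg (CharClifford.conjFun V x⁻¹) hx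
      rwa [CharClifford.conjFun_conjFun, mul_inv_cancel, CharClifford.conjFun_one] at this
    have : O ⊆ {(1 : V → ℂ)} := fun ψ hψ => by
      obtain ⟨y, rfl⟩ := (CharClifford.mem_conjOrbit V).1 hψ
      rw [hθ1]; exact Finset.mem_singleton.2 rfl
    have := Finset.card_le_card this
    rw [Finset.card_singleton] at this
    omega
  have hOall : ∀ φ : Cfsg.IrrCharacter V, (φ : V → ℂ) ∈ O ↔ (φ : V → ℂ) ≠ 1 := by
    set one : Cfsg.IrrCharacter V := ⟨1, CharCore.isIrrCharacter_one⟩
    have hsub : univ.filter (fun φ : Cfsg.IrrCharacter V => (φ : V → ℂ) ∈ O) ⊆ univ.erase one :=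
      fun φ hφ => mem_erase.2 ⟨fun h => hnot1 (by
        rw [show (1 : V → ℂ) = (φ : V → ℂ) from (congrArg Subtype.val h).symm]
        exact (mem_filter.1 hφ).2), mem_univ _⟩
    have heq' := Finset.eq_of_subset_of_card_le hsub (by
      rw [Finset.card_erase_of_mem (mem_univ _), Finset.card_univ, hirrcard,
        Finset.card_bij (fun (φ : Cfsg.IrrCharacter V) _ => (φ : V → ℂ)) (t := O)
          (fun φ hφ => (mem_filter.1 hφ).2) (fun a _ b _ h => Subtype.ext h)
          (fun ψ hψ => ⟨⟨ψ, hOirr ψ hψ⟩, mem_filter.2 ⟨mem_univ _, hψ⟩, rfl⟩)]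
      omega)
    intro φ
    refine ⟨fun h h' => hnot1 (h' ▸ h), fun h => ?_⟩
    have : φ ∈ univ.erase one := mem_erase.2 ⟨fun e' => h (congrArg Subtype.val e'), mem_univ _⟩
    rw [← heq'] at this
    exact (mem_filter.1 this).2
  have hm : ∀ φ : Cfsg.IrrCharacter V, Cfsg.classInner (fun v : V => (χ : G → ℂ) v) φ =
      if (φ : V → ℂ) = 1 then 0 else 1 := fun φ => by
    rw [hinnO φ]
    by_cases h : (φ : V → ℂ) = 1
    · rw [if_pos h, if_neg fun h' => (hOall φ).1 h' h]
    · rw [if_neg h, if_pos ((hOall φ).2 h), Nat.cast_one]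
  -- transitivity
  have htrans : ∀ lam mu : V → ℂ, lam ∈ O → mu ∈ O → ∃ g : G, mu = CharClifford.conjFun V g lam := by
    intro lam mu hl hmu
    obtain ⟨x, rfl⟩ := (CharClifford.mem_conjOrbit V).1 hl
    obtain ⟨y, rfl⟩ := (CharClifford.mem_conjOrbit V).1 hmu
    exact ⟨x⁻¹ * y, by rw [CharClifford.conjFun_conjFun, mul_inv_cancel_left]⟩
  -- elementary abelian
  have hexp : ∀ v ∈ V, v ^ p = 1 := by
    letI : CommGroup V := { (inferInstance : Group V) with mul_comm := hab }
    have hcard : Nat.card (V →* ℂˣ) = q := CommGroup.card_monoidHom_of_hasEnoughRootsOfUnity V ℂ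
    haveI : Finite (V →* ℂˣ) := Nat.finite_of_card_ne_zero (by omega)
    obtain ⟨g₀, hg₀⟩ := exists_prime_orderOf_dvd_card' p (show p ∣ Nat.card (V →* ℂˣ) by rwa [hcard])
    intro v hv
    refine congrArg Subtype.val (show (⟨v, hv⟩ : V) ^ p = 1 from ?_)
    refine Subtype.ext (hfaith _ ?_)
    have hval : ∀ w : V, (χ : G → ℂ) w = ∑ ψ ∈ O, ψ w := fun w => by
      have h := congrFun hres w
      simpa using h
    rw [hval]
    refine (Finset.sum_congr rfl fun ψ hψ => ?_).trans ((hval 1).symm)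
    obtain ⟨g, hg⟩ := htrans (fun w => (g₀ w : ℂ)) ψ ((hOall ⟨_, CharCore.isIrrCharacter_hom g₀⟩).2
      fun h => by
        have : g₀ = 1 := MonoidHom.ext fun w => Units.ext (congrFun h w)
        rw [this, orderOf_one] at hg₀
        exact hp.one_lt.ne hg₀) hψ
    rw [hg, CharClifford.conjFun_apply, CharClifford.conjFun_apply]
    set c : V →* V := (MulAut.conjNormal (H := V) g).toMonoidHom
    have key : ∀ w : V, g₀ (c (w ^ p)) = 1 := fun w => by
      rw [map_pow, map_pow, ← MonoidHom.pow_apply, ← hg₀, pow_orderOf_eq_one, MonoidHom.one_apply]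
    have e1 : (g₀ (c (⟨v, hv⟩ ^ p)) : ℂ) = (g₀ (c 1) : ℂ) := by rw [key, map_one, map_one]
    exact e1
  -- the centre
  have hZ : ¬ p ∣ Nat.card (Subgroup.center G) := by
    intro h
    obtain ⟨z, hz⟩ := exists_prime_orderOf_dvd_card' p h
    have hn := hnorm (z : G) (by rw [Subgroup.orderOf_coe, hz])
    rw [Complex.mul_conj', BC86.RootValues.normSq_of_mem_center χ z.2, hd, Complex.norm_natCast] at hn
    have : d * d = 1 := by
      rw [sq] at hn
      exact_mod_cast hn
    exact hd1 (Nat.eq_one_of_mul_eq_one_left this)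
  have hVZ : V ⊓ Subgroup.center G = ⊥ := by
    rw [Subgroup.eq_bot_iff_forall]
    rintro v ⟨hv, hvz⟩
    by_contra hne
    apply hZ
    obtain ⟨j, hj⟩ := hVel ⟨v, hv⟩
    exact (hpel v hne ⟨j, hj⟩).trans (Subgroup.orderOf_dvd_natCard _ hvz)
  -- the centraliser
  set C := Subgroup.centralizer ((V : Subgroup G) : Set G) with hCdef
  have hfixall : ∀ w ∈ C, ∀ φ : Cfsg.IrrCharacter V,
      CharClifford.conjFun V w (φ : V → ℂ) = (φ : V → ℂ) := fun w hw φ => funext fun v => by
    rw [CharClifford.conjFun_apply]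
    refine congrArg (φ : V → ℂ) (Subtype.ext ?_)
    have := Subgroup.mem_centralizer_iff.1 hw v v.2
    change w * v * w⁻¹ = v
    rw [← this, mul_inv_cancel_right]
  have hcosetC : ∀ w ∈ C, ∑ v : V, (χ : G → ℂ) (v * w) * conj ((χ : G → ℂ) (v * w)) = (q : ℂ) * d := by
    intro w hw
    rw [BC86.RootValues.sum_coset_mul_conj χ V hab hm w,
      Finset.filter_congr (q := fun φ : Cfsg.IrrCharacter V => ¬ φ = ⟨1, CharCore.isIrrCharacter_one⟩)
        (fun φ _ => ⟨fun h e' => h.1 (congrArg Subtype.val e'),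
          fun h => ⟨fun e' => h (Subtype.ext e'), hfixall w hw φ⟩⟩),
      Finset.filter_ne', Finset.card_erase_of_mem (mem_univ _), Finset.card_univ, hirrcard, ← hqdef, hqd]
    simp
  have hCp : ∀ w ∈ C, (∃ j, orderOf w = p ^ j) → w ∈ V := by
    intro w hw hwp
    by_contra hwV
    have h1 := hcosetC w hw
    rw [Finset.sum_congr rfl fun (v : V) _ => hnorm ((v : G) * w) (hpel _ (fun e' => hwV (by
        rw [eq_inv_of_mul_eq_one_right e']; exact inv_mem v.2)) ?_),
      Finset.sum_const, Finset.card_univ, ← Nat.card_eq_fintype_card, nsmul_eq_mul, mul_one] at h1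
    · have : q * 1 = q * d := by rw [mul_one]; exact_mod_cast h1
      exact hd1 (Nat.eq_of_mul_eq_mul_left (by omega) this).symm
    · obtain ⟨j, hj⟩ := hwp
      obtain ⟨i, hi⟩ := hVel v
      have hcm : Commute (v : G) w := Subgroup.mem_centralizer_iff.1 hw v v.2
      obtain ⟨l, -, hl⟩ := (Nat.dvd_prime_pow hp).1 (orderOf_dvd_of_pow_eq_one (n := p ^ (i + j))
        (show ((v : G) * w) ^ p ^ (i + j) = 1 by
          rw [hcm.mul_pow, pow_add, pow_mul, ← hi, pow_orderOf_eq_one, one_pow, one_mul,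
            mul_comm (orderOf (v : G)), pow_mul, ← hj, pow_orderOf_eq_one, one_pow]))
      exact ⟨l, hl⟩
  have hCp' : ∀ w ∈ C, ¬ p ∣ orderOf w → w ∈ Subgroup.center G := by
    intro w hw hwp
    have h1 := hcosetC w hw
    rw [← Finset.add_sum_erase _ _ (mem_univ (1 : V)), OneMemClass.coe_one, one_mul,
      Finset.sum_congr rfl fun (v : V) hv => hnorm ((v : G) * w) ?_,
      Finset.sum_const, Finset.card_erase_of_mem (mem_univ _), Finset.card_univ,
      ← Nat.card_eq_fintype_card, nsmul_eq_mul, mul_one, ← hqdef, hqd, Nat.add_sub_cancel] at h1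
    · have h2 : (χ : G → ℂ) w * conj ((χ : G → ℂ) w) = (d : ℂ) ^ 2 := by
        push_cast at h1
        linear_combination h1
      rw [Complex.mul_conj'] at h2
      refine BC86.RootValues.mem_center_of_normSq χ hfaith ?_
      rw [hd, Complex.norm_natCast]
      have h3 : ‖(χ : G → ℂ) w‖ ^ 2 = ((d : ℝ)) ^ 2 := by exact_mod_cast h2
      exact (sq_eq_sq₀ (norm_nonneg _) (Nat.cast_nonneg _)).1 h3
    · obtain ⟨i, hi⟩ := hVel v
      have hcm : Commute (v : G) w := Subgroup.mem_centralizer_iff.1 hw v v.2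
      rw [hcm.orderOf_mul_eq_mul_orderOf_of_coprime
        (by rw [hi]; exact ((hp.coprime_iff_not_dvd.2 hwp).pow_left i))]
      exact (hpel _ (fun e' => Finset.ne_of_mem_erase hv (Subtype.ext e')) ⟨i, hi⟩).mul_right _
  have hCeq : C = V ⊔ Subgroup.center G := by
    refine le_antisymm (fun w hw => ?_) (sup_le ?_ (Subgroup.center_le_centralizer _))
    · obtain ⟨a, l, hl, hal⟩ := Nat.exists_eq_pow_mul_and_not_dvd (orderOf_pos w).ne' p hp.ne_one
      have h1 : w ^ (p ^ a) ∈ Subgroup.center G := hCp' _ (pow_mem hw _) fun h => hl (h.trans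
        (orderOf_dvd_of_pow_eq_one (by rw [← pow_mul, ← hal, pow_orderOf_eq_one])))
      have h2 : w ^ l ∈ V := hCp _ (pow_mem hw _) (by
        obtain ⟨j, -, hj⟩ := (Nat.dvd_prime_pow hp).1 (orderOf_dvd_of_pow_eq_one
          (show (w ^ l) ^ (p ^ a) = 1 by rw [← pow_mul, mul_comm, ← hal, pow_orderOf_eq_one]))
        exact ⟨j, hj⟩)
      have hg : Nat.gcd (p ^ a) l = 1 := (hp.coprime_iff_not_dvd.2 hl).pow_left a
      have hb := Nat.gcd_eq_gcd_ab (p ^ a) l
      rw [hg, Nat.cast_one] at hb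
      rw [← zpow_one w, hb, zpow_add, zpow_mul, zpow_mul, zpow_natCast, zpow_natCast]
      exact mul_mem (Subgroup.mem_sup_right (zpow_mem h1 _)) (Subgroup.mem_sup_left (zpow_mem h2 _))
    · intro v hv
      rw [hCdef, Subgroup.mem_centralizer_iff]
      exact fun u hu => congrArg Subtype.val (hab ⟨u, hu⟩ ⟨v, hv⟩)
  by_cases hall : ∀ y : G, (∃ j, orderOf y = p ^ j) → y ∈ C
  · left
    refine ⟨?_, ⟨⟨⟨hab⟩⟩, hexp⟩, hCeq, hVZ, ?_, ?_⟩
    · have hPV : ((default : Sylow p G) : Subgroup G) = V := le_antisymm (fun y hy => by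
        obtain ⟨j, hj⟩ := (IsPGroup.iff_orderOf.1 (default : Sylow p G).isPGroup') ⟨y, hy⟩
        have hj' : orderOf y = p ^ j := by rw [← hj, ← Subgroup.orderOf_coe]
        exact hCp y (hall y ⟨j, hj'⟩) ⟨j, hj'⟩) (Cfsg.Agent.Thompson.pCore_le_sylow _)
      have := (default : Sylow p G).card_eq_multiplicity
      rw [hPV] at this
      rw [hqdef, this, hp.factorization_pow, Finsupp.single_eq_same]
    · intro lam mu hlam hlam1 hlamne hmu hmu1 hmune
      have hmemO : ∀ ψ : V → ℂ, Cfsg.IsCharacter V ψ → ψ 1 = 1 → ψ ≠ (fun _ => (1 : ℂ)) → ψ ∈ O := by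
        intro ψ h1 h2 h3
        obtain ⟨g, rfl⟩ := CharCore.IsCharacter.exists_hom_of_degree_one h1 h2
        exact (hOall ⟨_, CharCore.isIrrCharacter_hom g⟩).2 h3
      obtain ⟨g, hg⟩ := htrans lam mu (hmemO lam hlam hlam1 hlamne) (hmemO mu hmu hmu1 hmune)
      exact ⟨g, fun x hx hgx => by rw [hg, CharClifford.conjFun_apply]⟩
    · rw [hd, hqd]; push_cast; ring
  right
  push Not at hall
  obtain ⟨y, ⟨jy, hjy⟩, hyC⟩ := hall
  have hex : ∃ j, y ^ (p ^ j) ∈ C := ⟨jy, by rw [← hjy, pow_orderOf_eq_one]; exact one_mem _⟩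
  obtain ⟨j, hj⟩ : ∃ j, Nat.find hex = j + 1 := by
    refine ⟨Nat.find hex - 1, ?_⟩
    have : Nat.find hex ≠ 0 := fun h => hyC (by
      have := Nat.find_spec hex
      rwa [h, pow_zero, pow_one] at this)
    omega
  set x := y ^ (p ^ j)
  have hxC : x ∉ C := Nat.find_min hex (by omega)
  have hxp : x ^ p ∈ C := by
    rw [← pow_mul, ← pow_succ, ← hj]; exact Nat.find_spec hex
  have hxel : ∃ i, orderOf x = p ^ i := by
    obtain ⟨i, -, hi⟩ := (Nat.dvd_prime_pow hp).1 ((orderOf_pow_dvd (p ^ j)).trans hjy.dvd)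
    exact ⟨i, hi⟩
  have hxpV : x ^ p ∈ V := hCp _ hxp (by
    obtain ⟨i, hi⟩ := hxel
    obtain ⟨k, -, hk⟩ := (Nat.dvd_prime_pow hp).1 ((orderOf_pow_dvd p).trans hi.dvd)
    exact ⟨k, hk⟩)
  have hVC : V ≤ C := hCeq ▸ le_sup_left
  have hcount : (univ.filter fun φ : Cfsg.IrrCharacter V =>
      (φ : V → ℂ) ≠ 1 ∧ CharClifford.conjFun V x (φ : V → ℂ) = (φ : V → ℂ)).card = 1 := by
    have h := BC86.RootValues.sum_coset_mul_conj χ V hab hm x
    have hpgrp : IsPGroup p ↥(V ⊔ Subgroup.zpowers x) := hVp.to_sup_of_normal_left (by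
      obtain ⟨i, hi⟩ := hxel
      exact IsPGroup.of_card (n := i) (by rw [Nat.card_zpowers, hi]))
    rw [Finset.sum_congr rfl fun (v : V) _ => hnorm ((v : G) * x) (hpel _ (fun e' => hxC (hVC (by
        rw [eq_inv_of_mul_eq_one_right e']; exact inv_mem v.2))) (by
          obtain ⟨l, hl⟩ := (IsPGroup.iff_orderOf.1 hpgrp)
            ⟨(v : G) * x, mul_mem (Subgroup.mem_sup_left v.2)
              (Subgroup.mem_sup_right (Subgroup.mem_zpowers x))⟩
          exact ⟨l, by rw [← hl, ← Subgroup.orderOf_coe]⟩)),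
      Finset.sum_const, Finset.card_univ, ← Nat.card_eq_fintype_card, nsmul_eq_mul, mul_one] at h
    have hq0 : (Nat.card V : ℂ) ≠ 0 := Nat.cast_ne_zero.2 Nat.card_pos.ne'
    exact_mod_cast (mul_eq_left₀ hq0).1 h.symm
  set cx : V →* V := (MulAut.conjNormal (H := V) x).toMonoidHom
  set K : Subgroup V := MonoidHom.eqLocus cx (MonoidHom.id V)
  have hK : Nat.card K = 2 := by
    have hperm := Cfsg.Agent.CharInd.card_fixed_irr (G := V) (fun φ : Cfsg.IrrCharacter V =>
      ⟨CharClifford.conjFun V x (φ : V → ℂ), CharClifford.isIrrCharacter_conjFun V φ.2 x⟩)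
    have hval : ∀ (φ : Cfsg.IrrCharacter V) (v : V),
        CharClifford.conjFun V x (φ : V → ℂ) v = (φ : V → ℂ) (cx v) := fun φ v => by
      rw [CharClifford.conjFun_apply]; rfl
    have hconj : ∀ a b : V, IsConj a b ↔ a = b := fun a b => by
      refine ⟨fun h => ?_, fun h => h ▸ IsConj.refl a⟩
      obtain ⟨c, hc⟩ := isConj_iff.1 h
      rw [← hc, hab c a, mul_inv_cancel_right]
    have hcz : ∀ a : V, Nat.card (Subgroup.centralizer ({a} : Set V)) = q := fun a => by
      rw [show Subgroup.centralizer ({a} : Set V) = ⊤ from eq_top_iff.2 fun b _ =>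
        Subgroup.mem_centralizer_singleton_iff.2 (hab b a), Subgroup.card_top]
    simp only [hval, CharCore.sum_apply_mul_conj, hconj, hcz] at hperm
    rw [← Finset.sum_filter, Finset.sum_const, nsmul_eq_mul,
      mul_comm ((univ.filter fun v : V => cx v = v).card : ℂ), ← mul_assoc,
      inv_mul_cancel₀ (Nat.cast_ne_zero.2 Nat.card_pos.ne'), one_mul] at hperm
    have hfix : Nat.card K = Nat.card {φ : Cfsg.IrrCharacter V //
        CharClifford.conjFun V x (φ : V → ℂ) = (φ : V → ℂ)} := by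
      have h1 : Nat.card K = (univ.filter fun v : V => cx v = v).card := by
        rw [← Fintype.card_subtype, ← Nat.card_eq_fintype_card]
        exact Nat.card_congr (Equiv.subtypeEquivRight fun v => Iff.rfl)
      rw [h1, ← @Nat.cast_inj ℂ, ← hperm]
      congr 1
      exact Nat.card_congr (Equiv.subtypeEquivRight fun φ => Subtype.ext_iff)
    rw [hfix, Nat.card_eq_fintype_card, Fintype.card_subtype]
    set one : Cfsg.IrrCharacter V := ⟨1, CharCore.isIrrCharacter_one⟩
    rw [← Finset.card_erase_add_one (s := univ.filter fun φ : Cfsg.IrrCharacter V =>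
      CharClifford.conjFun V x (φ : V → ℂ) = (φ : V → ℂ)) (a := one)
      (mem_filter.2 ⟨mem_univ _, funext fun v => rfl⟩)]
    refine congrArg (· + 1) (Eq.trans ?_ hcount)
    congr 1
    ext φ
    simp only [mem_erase, mem_filter, mem_univ, true_and]
    exact and_congr_left fun _ => ⟨fun h e' => h (Subtype.ext e'), fun h e' => h (congrArg Subtype.val e')⟩
  obtain rfl : p = 2 := by
    have hdvd := Subgroup.card_subgroup_dvd_card K
    rw [hK, ← hqdef, hq] at hdvd
    exact ((Nat.prime_dvd_prime_iff_eq Nat.prime_two hp).1 (Nat.prime_two.dvd_of_dvd_pow hdvd)).symm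
  have hVx : ∀ u : V, x ^ 2 * (u : G) * (x ^ 2)⁻¹ = u := fun u => by
    have h := congrArg Subtype.val (hab ⟨x ^ 2, hxpV⟩ u)
    simp only [Subgroup.coe_mul] at h
    rw [h, mul_inv_cancel_right]
  have hq4 : q = 4 := by
    let Φ : V →* V :=
      { toFun := fun u => cx u * u⁻¹
        map_one' := by simp
        map_mul' := fun a b => by
          rw [map_mul, mul_inv_rev, hab b⁻¹ a⁻¹, mul_assoc, ← mul_assoc (cx b), hab (cx b) a⁻¹,
            mul_assoc a⁻¹, ← mul_assoc] }
    have hker : Φ.ker = K := by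
      ext u
      exact mul_inv_eq_one
    have hr : Φ.range ≤ K := by
      rintro _ ⟨u, rfl⟩
      change cx (cx u * u⁻¹) = cx u * u⁻¹
      have h2 : cx (cx u) = u := Subtype.ext (by
        have h := hVx u
        rw [pow_two] at h
        change x * (x * u * x⁻¹) * x⁻¹ = u
        exact (by group : x * (x * (u : G) * x⁻¹) * x⁻¹ = x * x * (u : G) * (x * x)⁻¹).trans h)
      rw [map_mul, h2, map_inv]
      have hsq : ∀ w : V, w⁻¹ = w := fun w => by
        have h := hexp (w : G) w.2
        exact inv_eq_of_mul_eq_one_right (Subtype.ext (by rw [← pow_two] ; exact h))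
      rw [hsq, hsq, hab]
    have h1 := Φ.range.index_mul_card
    have h2 := Φ.ker.index_mul_card
    rw [Subgroup.index_ker, hker, hK, ← hqdef] at h2
    have h3 : Nat.card Φ.range ∣ 2 := hK ▸ Subgroup.card_dvd_of_le hr
    have := Nat.le_of_dvd two_pos h3
    omega
  have hd3 : d = 3 := by omega
  have hC' : Nat.card C = 4 * Nat.card (Subgroup.center G) := by
    rw [hCeq, ← hq4, hqdef]
    have hdis : Disjoint V (Subgroup.center G) := disjoint_iff.2 hVZ
    rw [← Nat.card_prod]
    refine (Nat.card_eq_of_bijective (fun a : V × Subgroup.center G =>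
      (⟨a.1 * a.2, Subgroup.mul_mem_sup a.1.2 a.2.2⟩ : ↥(V ⊔ Subgroup.center G))) ⟨?_, ?_⟩).symm
    · intro a b h
      exact Subgroup.mul_injective_of_disjoint hdis (congrArg Subtype.val h)
    · rintro ⟨g, hg⟩
      rw [Subgroup.mem_sup_of_normal_left] at hg
      obtain ⟨a, ha, b, hb, rfl⟩ := hg
      exact ⟨(⟨a, ha⟩, ⟨b, hb⟩), rfl⟩
  set cn : G →* MulAut V := MulAut.conjNormal
  have hcnker : cn.ker = C := by
    ext g
    rw [MonoidHom.mem_ker, hCdef, Subgroup.mem_centralizer_iff]
    constructor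
    · intro h u hu
      have := congrArg (fun t : MulAut V => ((t ⟨u, hu⟩ : V) : G)) h
      simp only [cn, MulAut.conjNormal_apply, MulAut.one_apply] at this
      exact ((mul_inv_eq_iff_eq_mul.1 this)).symm
    · intro h
      refine MulEquiv.ext fun u => Subtype.ext ?_
      simp only [cn, MulAut.conjNormal_apply, MulAut.one_apply]
      rw [← h u u.2, mul_inv_cancel_right]
  have hCidx : C.index = 6 := by
    rw [← hcnker, Subgroup.index_ker]
    have hdvd : Nat.card cn.range ∣ 6 := by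
      let π : MulAut V →* Equiv.Perm {v : V // v ≠ 1} :=
        { toFun := fun a => (a.toEquiv).subtypeEquiv fun v => by simp
          map_one' := Equiv.ext fun v => Subtype.ext rfl
          map_mul' := fun a b => Equiv.ext fun v => Subtype.ext rfl }
      have hπ : Function.Injective π := fun a b h => MulEquiv.ext fun v => by
        by_cases hv : v = 1
        · subst hv; simp
        · exact congrArg Subtype.val (Equiv.ext_iff.1 h ⟨v, hv⟩)
      refine (Subgroup.card_subgroup_dvd_card _).trans ((Subgroup.card_dvd_of_injective π hπ).trans ?_)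
      rw [Nat.card_perm, Nat.card_eq_fintype_card, Fintype.card_subtype_compl,
        Fintype.card_subtype_eq, ← Nat.card_eq_fintype_card, ← hqdef, hq4]
      rfl
    have h2 : 2 ∣ Nat.card cn.range := by
      have ho : orderOf (⟨cn x, x, rfl⟩ : cn.range) = 2 := by
        refine orderOf_eq_prime (Subtype.ext ?_) fun h => hxC ?_
        · rw [SubmonoidClass.coe_pow, OneMemClass.coe_one, ← map_pow, ← MonoidHom.mem_ker, hcnker]
          exact hxp
        · rw [← hcnker, MonoidHom.mem_ker]; exact congrArg Subtype.val h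
      exact ho ▸ orderOf_dvd_natCard _
    have h3 : 3 ≤ Nat.card cn.range := by
      let act : cn.range → (V → ℂ) := fun a v => θ ((a : MulAut V) v)
      have hsub : O ⊆ univ.image act := by
        intro ψ hψ
        obtain ⟨g, rfl⟩ := (CharClifford.mem_conjOrbit V).1 hψ
        exact mem_image.2 ⟨⟨cn g, g, rfl⟩, mem_univ _, rfl⟩
      have h4 := (Finset.card_le_card hsub).trans Finset.card_image_le
      rw [Finset.card_univ, ← Nat.card_eq_fintype_card] at h4
      omega
    obtain ⟨c, hc⟩ := h2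
    have hle := Nat.le_of_dvd (by norm_num) hdvd
    interval_cases hv : Nat.card cn.range <;> omega
  have hGcard : Nat.card G = 24 * Nat.card (Subgroup.center G) := by
    have h := C.index_mul_card
    rw [hCidx, hC'] at h
    omega
  have hZodd : Odd (Nat.card (Subgroup.center G)) :=
    Nat.not_even_iff_odd.1 fun h => hZ (even_iff_two_dvd.1 h)
  haveI : Fact (Nat.Prime 3) := ⟨Nat.prime_three⟩
  set P : Sylow 3 G := default
  set N := Subgroup.normalizer ((P : Subgroup G) : Set G)
  have hZidx : (Subgroup.center G).index = 24 := by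
    have h := (Subgroup.center G).index_mul_card
    rw [hGcard] at h
    exact Nat.eq_of_mul_eq_mul_right Nat.card_pos h
  have hVP : Disjoint V (P : Subgroup G) := by
    rw [disjoint_iff, ← Subgroup.card_eq_one]
    obtain ⟨i, hi⟩ := (IsPGroup.iff_card).1 P.isPGroup'
    have a1 := Subgroup.card_dvd_of_le (inf_le_left : V ⊓ (P : Subgroup G) ≤ V)
    have a2 := Subgroup.card_dvd_of_le (inf_le_right : V ⊓ (P : Subgroup G) ≤ P)
    rw [← hqdef, hq4] at a1
    rw [hi] at a2
    exact Nat.eq_one_of_dvd_coprimes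
      ((show Nat.Coprime (2 ^ 2) 3 by decide).pow_right i) a1 a2
  obtain ⟨w, hwP, hwC⟩ : ∃ w ∈ (P : Subgroup G), w ∉ C := by
    by_contra h
    push Not at h
    have h1 := Subgroup.index_dvd_of_le (show (P : Subgroup G) ≤ C from h)
    rw [hCidx] at h1
    exact P.not_dvd_index (dvd_trans (by norm_num) h1)
  have hVN : ∀ u ∈ V, u ∈ N → u = 1 := by
    intro u hu huN
    by_contra hu1
    have hcm : ∀ r ∈ (P : Subgroup G), u * r = r * u := by
      intro r hr
      have hmem : u * r * u⁻¹ * r⁻¹ ∈ V ⊓ (P : Subgroup G) := by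
        refine ⟨?_, (P : Subgroup G).mul_mem ((Subgroup.mem_normalizer_iff.1 huN r).1 hr) ((P : Subgroup G).inv_mem hr)⟩
        rw [mul_assoc u r, mul_assoc u]
        exact mul_mem hu (hVn.conj_mem _ (inv_mem hu) r)
      rw [disjoint_iff.1 hVP, Subgroup.mem_bot, mul_inv_eq_one, mul_inv_eq_iff_eq_mul] at hmem
      exact hmem
    set cw : V →* V := (MulAut.conjNormal (H := V) w).toMonoidHom
    set U : V := ⟨u, hu⟩
    have hU1 : U ≠ 1 := fun h => hu1 (congrArg Subtype.val h)
    have hcwU : cw U = U := Subtype.ext (by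
      change w * u * w⁻¹ = u
      rw [← hcm w hwP, mul_inv_cancel_right])
    apply hwC
    have hw2 : ∀ v : V, cw (cw v) = v := by
      intro v
      by_cases hv1 : v = 1
      · simp [hv1]
      by_cases hvU : v = U
      · rw [hvU, hcwU, hcwU]
      have hsq : ∀ a : V, a * a = 1 := fun a => Subtype.ext (by
        have h := hexp (a : G) a.2
        rw [pow_two] at h; exact h)
      have hinj : Function.Injective cw := (MulAut.conjNormal (H := V) w).injective
      have huniv : ({1, U, v, U * v} : Finset V) = univ := by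
        refine Finset.eq_univ_of_card _ ?_
        rw [← Nat.card_eq_fintype_card, ← hqdef, hq4]
        have d1 : U * v ≠ 1 := fun h => hvU (by
          rw [← inv_eq_of_mul_eq_one_right h, inv_eq_of_mul_eq_one_right (hsq U)])
        have d2 : U * v ≠ U := fun h => hv1 (mul_eq_left.1 h)
        have d3 : U * v ≠ v := fun h => hU1 (mul_eq_right.1 h)
        simp [Ne.symm hU1, Ne.symm hv1, Ne.symm d1, Ne.symm hvU, Ne.symm d2, Ne.symm d3]
      have hcv : cw v ∈ ({1, U, v, U * v} : Finset V) := huniv ▸ mem_univ _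
      simp only [mem_insert, mem_singleton] at hcv
      rcases hcv with h | h | h | h
      · exact absurd (hinj (h.trans (map_one cw).symm)) hv1
      · exact absurd (hinj (h.trans hcwU.symm)) hvU
      · rw [h, h]
      · rw [h, map_mul, hcwU, h, ← mul_assoc, hsq, one_mul]
    have hodd : Odd (orderOf w) := by
      obtain ⟨i, hi⟩ := (IsPGroup.iff_orderOf.1 P.isPGroup') ⟨w, hwP⟩
      rw [show orderOf w = 3 ^ i by rw [← hi, ← Subgroup.orderOf_coe]]
      exact Odd.pow (by decide)
    obtain ⟨c, hc⟩ := hodd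
    have hw2C : w ^ 2 ∈ C := by
      rw [← hcnker, MonoidHom.mem_ker, map_pow]
      refine MulEquiv.ext fun v => ?_
      rw [pow_two]
      exact hw2 v
    have := Subgroup.pow_mem C hw2C (c + 1)
    rwa [← pow_mul, show 2 * (c + 1) = orderOf w + 1 by omega, pow_succ, pow_orderOf_eq_one,
      one_mul] at this
  have hNidx : N.index = 4 := by
    have hge : 4 ≤ N.index := by
      have hinj : Function.Injective fun u : V => ((u : G) : G ⧸ N) := fun a b h => by
        have h' : (a : G)⁻¹ * b ∈ N := QuotientGroup.eq.1 h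
        exact Subtype.ext (inv_mul_eq_one.1 (hVN _ (mul_mem (inv_mem a.2) b.2) h'))
      have h4 := Nat.card_le_card_of_injective _ hinj
      rw [← hqdef, hq4, ← Subgroup.index_eq_card] at h4
      exact h4
    have h8 : N.index ∣ 8 := by
      set M := Subgroup.center G ⊔ (P : Subgroup G)
      have hMN : M ≤ N := sup_le (fun z hz => by
        rw [Subgroup.mem_normalizer_iff]
        intro r
        rw [← Subgroup.mem_center_iff.1 hz r, mul_inv_cancel_right]) Subgroup.le_normalizer
      have h24 : M.index ∣ 8 * 3 := by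
        have := Subgroup.index_dvd_of_le (le_sup_left : Subgroup.center G ≤ M)
        rwa [hZidx] at this
      have h3 : ¬ 3 ∣ M.index := fun h =>
        P.not_dvd_index (h.trans (Subgroup.index_dvd_of_le le_sup_right))
      exact (Subgroup.index_dvd_of_le hMN).trans
        ((Nat.prime_three.coprime_iff_not_dvd.2 h3).symm.dvd_of_dvd_mul_right h24)
    have hmod := card_sylow_modEq_one 3 G
    rw [Sylow.card_eq_index_normalizer P] at hmod
    have hle := Nat.le_of_dvd (by norm_num) h8
    unfold Nat.ModEq at hmod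
    interval_cases hN : N.index
    all_goals first | rfl | omega | (norm_num at h8)
  haveI : Fintype (Sylow 3 G) := Fintype.ofFinite _
  have hι : Fintype.card (Sylow 3 G) = 4 := by
    rw [← Nat.card_eq_fintype_card]; exact (Sylow.card_eq_index_normalizer P).trans hNidx
  set ρ : G →* Equiv.Perm (Sylow 3 G) := MulAction.toPermHom G (Sylow 3 G)
  have hker : ρ.ker = Subgroup.center G := by
    refine le_antisymm (fun g hg => ?_) (fun z hz => ?_)
    · have hkN : ρ.ker ≤ N := fun k hk => by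
        rw [MonoidHom.mem_ker] at hk
        exact Sylow.smul_eq_iff_mem_normalizer.1 (Equiv.ext_iff.1 hk P)
      have hdisj : Disjoint ρ.ker V := by
        rw [disjoint_iff, Subgroup.eq_bot_iff_forall]
        rintro u ⟨hk, hu⟩
        exact hVN u hu (hkN hk)
      have hgC : g ∈ C := by
        rw [hCdef, Subgroup.mem_centralizer_iff]
        intro u hu
        exact (Subgroup.commute_of_normal_of_disjoint _ _ inferInstance hVn hdisj g u hg hu).eq.symm
      rw [hCeq, Subgroup.mem_sup_of_normal_left] at hgC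
      obtain ⟨a, ha, b, hb, rfl⟩ := hgC
      have haN : a ∈ N := by
        have hbN : b ∈ N := by
          rw [Subgroup.mem_normalizer_iff]
          intro r
          rw [← Subgroup.mem_center_iff.1 hb r, mul_inv_cancel_right]
        have := mul_mem (hkN hg) (inv_mem hbN)
        rwa [mul_inv_cancel_right] at this
      rw [hVN a ha haN, one_mul]
      exact hb
    · rw [MonoidHom.mem_ker]
      refine Equiv.ext fun Q => ?_
      refine (Sylow.smul_eq_iff_mem_normalizer (P := Q) (g := z)).2 ?_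
      show z ∈ Subgroup.normalizer ((Q : Subgroup G) : Set G)
      rw [Subgroup.mem_normalizer_iff]
      intro r
      rw [← Subgroup.mem_center_iff.1 hz r, mul_inv_cancel_right]
  have hsurj : Function.Surjective ρ := by
    rw [← MonoidHom.range_eq_top]
    refine Subgroup.eq_top_of_card_eq _ ?_
    rw [← Subgroup.index_ker, hker, hZidx, Nat.card_perm, Nat.card_eq_fintype_card, hι]
    rfl
  exact ⟨rfl, hZodd, exists_complement hι ρ hsurj hker hZodd⟩

end Cfsg.Agent.S4751
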