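import Cfsg.Statements.S4754
import Cfsg.Agent.BC86.Core

set_option autoImplicit false
open Cfsg

namespace Cfsg.Agent.S4754

/-- For elements x, y of a finite group G, the conjugacy class of x y equals the set of all products of a conjugate of x with a conjugate of y if and only if χ(1) χ(a x a⁻¹ b y b⁻¹) = χ(x) χ(y) for all a, b ∈ G and every irreducible character χ. -/
theorem result {G : Type*} [Group G] [Finite G] (x y : G) : (∀ z : G, IsConj (x * y) z ↔ ∃ a b : G, z = a * x * a⁻¹ * (b * y * b⁻¹)) ↔ ∀ (a b : G) (χ : Cfsg.IrrCharacter G), (χ : G → ℂ) 1 * (χ : G → ℂ) (a * x * a⁻¹ * (b * y * b⁻¹)) = (χ : G → ℂ) x * (χ : G → ℂ) y := by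
  classical
  have := Fintype.ofFinite G
  have hcl : ∀ (χ : Cfsg.IrrCharacter G) {u v : G}, IsConj u v → (χ : G → ℂ) u = (χ : G → ℂ) v := by
    intro χ u v h
    obtain ⟨c, rfl⟩ := isConj_iff.mp h
    exact (CharCore.irr_isClassFunction χ u c).symm
  constructor
  · intro h a b χ
    have h1 : ∀ a b : G, (χ : G → ℂ) (a * x * a⁻¹ * (b * y * b⁻¹)) = (χ : G → ℂ) (x * y) :=
      fun a b => (hcl χ ((h _).mpr ⟨a, b, rfl⟩)).symm
    have h2 := BC86.sum_conj_mul χ x y
    rw [Finset.sum_congr rfl fun a _ => (by simpa using h1 a 1 :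
      (χ : G → ℂ) (a * x * a⁻¹ * y) = (χ : G → ℂ) (x * y)), Finset.sum_const, Finset.card_univ,
      nsmul_eq_mul, ← Nat.card_eq_fintype_card, mul_left_comm] at h2
    rw [h1 a b]
    exact mul_left_cancel₀ (Nat.cast_ne_zero.mpr Nat.card_pos.ne') h2
  · intro h z
    have h1 : ∀ a b : G, IsConj (x * y) (a * x * a⁻¹ * (b * y * b⁻¹)) := fun a b =>
      (CharCore.isConj_iff_forall_irr _ _).mpr fun χ =>
        mul_left_cancel₀ (CharCore.irr_apply_one_ne_zero χ)
          (by rw [h a b χ]; simpa using h 1 1 χ)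
    constructor
    · intro hz
      obtain ⟨c, rfl⟩ := isConj_iff.mp hz
      exact ⟨c, c, by group⟩
    · rintro ⟨a, b, rfl⟩
      exact h1 a b

end Cfsg.Agent.S4754
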