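import Cfsg.Statements.S4755
import Cfsg.Agent.BC86.Core
import Cfsg.Agent.Lib.CharCore.Linear

set_option autoImplicit false
open Cfsg

namespace Cfsg.Agent.S4755

/-- Let x, y be non-identity elements of the finite group G such that χ(x' y') = χ(x') χ(y') for all conjugates x' of x, y' of y and every irreducible character χ. Then the conjugacy class of x y is the set of all products of a conjugate of x with a conjugate of y; every irreducible character of degree greater than 1 vanishes at x y; and the conjugacy class of x y is the coset of the commutator subgroup containing x y. -/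
theorem result {G : Type*} [Group G] [Finite G] (x y : G) (hx : x ≠ 1) (hy : y ≠ 1) (h : ∀ (a b : G) (χ : Cfsg.IrrCharacter G), (χ : G → ℂ) (a * x * a⁻¹ * (b * y * b⁻¹)) = (χ : G → ℂ) (a * x * a⁻¹) * (χ : G → ℂ) (b * y * b⁻¹)) : (∀ z : G, IsConj (x * y) z ↔ ∃ a b : G, z = a * x * a⁻¹ * (b * y * b⁻¹)) ∧ (∀ χ : Cfsg.IrrCharacter G, (χ : G → ℂ) 1 ≠ 1 → (χ : G → ℂ) (x * y) = 0) ∧ (∀ z : G, IsConj (x * y) z ↔ (x * y)⁻¹ * z ∈ commutator G) := by
  classical
  have := Fintype.ofFinite G
  have hprod : ∀ (a b : G) (χ : Cfsg.IrrCharacter G),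
      (χ : G → ℂ) (a * x * a⁻¹ * (b * y * b⁻¹)) = (χ : G → ℂ) x * (χ : G → ℂ) y := fun a b χ => by
    rw [h a b χ, CharCore.irr_isClassFunction χ x a, CharCore.irr_isClassFunction χ y b]
  have hxy : ∀ χ : Cfsg.IrrCharacter G,
      (χ : G → ℂ) (x * y) = (χ : G → ℂ) x * (χ : G → ℂ) y := fun χ => by
    simpa using hprod 1 1 χ
  have hzero : ∀ χ : Cfsg.IrrCharacter G, (χ : G → ℂ) 1 ≠ 1 → (χ : G → ℂ) (x * y) = 0 := by
    intro χ hχ
    have h2 := BC86.sum_conj_mul χ x y
    rw [Finset.sum_congr rfl fun a _ => (by simpa using hprod a 1 χ :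
      (χ : G → ℂ) (a * x * a⁻¹ * y) = (χ : G → ℂ) x * (χ : G → ℂ) y), Finset.sum_const,
      Finset.card_univ, nsmul_eq_mul, ← Nat.card_eq_fintype_card, mul_left_comm] at h2
    have h3 := mul_left_cancel₀ (Nat.cast_ne_zero.mpr Nat.card_pos.ne') h2
    rw [← hxy] at h3
    by_contra hne
    exact hχ ((mul_eq_right₀ hne).mp h3)
  refine ⟨fun z => ?_, hzero, fun z => ?_⟩
  · constructor
    · intro hz
      obtain ⟨c, rfl⟩ := isConj_iff.mp hz
      exact ⟨c, c, by group⟩
    · rintro ⟨a, b, rfl⟩
      exact (CharCore.isConj_iff_forall_irr _ _).mpr fun χ => by rw [hxy, hprod]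
  · constructor
    · intro hz
      obtain ⟨c, rfl⟩ := isConj_iff.mp hz
      rw [← Abelianization.ker_of, MonoidHom.mem_ker]
      simp only [map_mul (Abelianization.of), map_inv]
      rw [mul_inv_cancel_comm, inv_mul_cancel]
    · intro hz
      by_contra hnc
      have ho := BC86.col_orth z (x * y)
      rw [if_neg fun h => hnc h.symm] at ho
      have hterm : ∀ χ : Cfsg.IrrCharacter G,
          (χ : G → ℂ) z * (starRingEnd ℂ) ((χ : G → ℂ) (x * y))
            = if (χ : G → ℂ) 1 = 1 then 1 else 0 := by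
        intro χ
        split_ifs with h1
        · obtain ⟨f, hf⟩ :=
            CharCore.IsCharacter.exists_hom_of_degree_one (CharCore.irr_isCharacter χ) h1
          have hk : f ((x * y)⁻¹ * z) = 1 :=
            MonoidHom.mem_ker.mp (Abelianization.commutator_subset_ker f hz)
          rw [map_mul, map_inv, inv_mul_eq_one] at hk
          have hn : ‖(f z : ℂ)‖ = 1 := CharCore.norm_hom_apply f z
          rw [hf]
          simp only
          rw [← hk] at hn ⊢
          rw [Complex.mul_conj', hn]; simp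
        · rw [hzero χ h1, map_zero, mul_zero]
      simp only [hterm, Finset.sum_boole] at ho
      have h0 := Finset.card_eq_zero.mp (Nat.cast_eq_zero.mp ho)
      have h1 : (⟨1, CharCore.isIrrCharacter_one⟩ : Cfsg.IrrCharacter G) ∈
          Finset.univ.filter (fun χ : Cfsg.IrrCharacter G => (χ : G → ℂ) 1 = 1) := by simp
      rw [h0] at h1
      exact Finset.notMem_empty _ h1

end Cfsg.Agent.S4755
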