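import Cfsg.Statements.S4757
import Cfsg.Agent.BC86.Deg
import Cfsg.Agent.BC86.Codegree
import Cfsg.Agent.Lib.Thompson.Cores
import Mathlib.GroupTheory.Sylow

set_option autoImplicit false
open Cfsg

namespace Cfsg.Agent.S4757

/-- Let u ≠ 1 be an element of the finite group G and c a complex number such that every non-principal irreducible character χ satisfies χ(1) − χ(u) = c or χ(u) = 0. Then the following are equivalent: (a) u has order 2, G is generated by u together with O(G), the largest normal subgroup of G of odd order, and the centralizer of u is {1, u}; (b) G is not perfect; (c) c = 2. -/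
theorem result {G : Type*} [Group G] [Finite G] (u : G) (hu : u ≠ 1) (c : ℂ) (hyp : ∀ χ : Cfsg.IrrCharacter G, (χ : G → ℂ) ≠ (fun _ => (1 : ℂ)) → ((χ : G → ℂ) 1 - (χ : G → ℂ) u = c ∨ (χ : G → ℂ) u = 0)) : ((orderOf u = 2 ∧ Subgroup.zpowers u ⊔ Cfsg.oddCore G = ⊤ ∧ Subgroup.centralizer ({u} : Set G) = Subgroup.zpowers u) ↔ commutator G ≠ ⊤) ∧ (commutator G ≠ ⊤ ↔ c = 2) := by
  classical
  have := Fintype.ofFinite G
  have : Fact (Nat.Prime 2) := ⟨Nat.prime_two⟩
  have hodd : u ∈ Cfsg.oddCore G → orderOf u ≠ 2 := by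
    intro hmem h2
    refine Thompson.not_dvd_card_pPrimeCore (p := 2) (G := G) ?_
    exact (dvd_of_eq h2.symm).trans (Subgroup.orderOf_dvd_natCard _ hmem)
  have hnorm : (Cfsg.oddCore G).Normal := inferInstance
  have horth : ∑ χ : Cfsg.IrrCharacter G, (χ : G → ℂ) 1 * (χ : G → ℂ) u = 0 :=
    (CharCore.sum_degree_mul_apply u).trans (if_neg hu)
  let one : Cfsg.IrrCharacter G := ⟨1, CharCore.isIrrCharacter_one⟩
  have hab : (orderOf u = 2 ∧ Subgroup.zpowers u ⊔ Cfsg.oddCore G = ⊤ ∧
      Subgroup.centralizer ({u} : Set G) = Subgroup.zpowers u) → commutator G ≠ ⊤ := by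
    rintro ⟨h2, htop, -⟩ hperf
    refine hodd ?_ h2
    refine (QuotientGroup.eq_one_iff u).mp ?_
    refine BC86.hom_eq_one_of_perfect' hperf (fun a b => ?_)
      (QuotientGroup.mk' (Cfsg.oddCore G)) u
    have hgen : ∀ w : G ⧸ Cfsg.oddCore G,
        w ∈ Subgroup.zpowers (QuotientGroup.mk' (Cfsg.oddCore G) u) := by
      intro w
      obtain ⟨g, rfl⟩ := QuotientGroup.mk'_surjective _ w
      have hg : g ∈ Subgroup.zpowers u ⊔ Cfsg.oddCore G := htop ▸ Subgroup.mem_top g
      rw [Subgroup.mem_sup_of_normal_right] at hg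
      obtain ⟨v, ⟨k, rfl⟩, n, hn, rfl⟩ := hg
      exact ⟨k, by
        simp [(QuotientGroup.eq_one_iff n).mpr hn]⟩
    obtain ⟨i, rfl⟩ := hgen a
    obtain ⟨j, rfl⟩ := hgen b
    exact (Commute.zpow_zpow_self _ i j).eq
  have hca : c = 2 → commutator G ≠ ⊤ := by
    intro hc hperf
    have hre : ∀ χ : Cfsg.IrrCharacter G, χ ≠ one →
        0 ≤ ((χ : G → ℂ) 1 * (χ : G → ℂ) u).re := by
      intro χ hχ
      rcases hyp χ (fun h => hχ (Subtype.ext h)) with h | h
      · have hd : 2 ≤ Cfsg.charDegree (χ : G → ℂ) := by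
          by_contra hlt
          have h1 : Cfsg.charDegree (χ : G → ℂ) = 1 :=
            le_antisymm (by omega) (BC86.charDegree_pos χ)
          obtain ⟨f, hf⟩ := CharCore.IsCharacter.exists_hom_of_degree_one
            (CharCore.irr_isCharacter χ) (by rw [← BC86.charDegree_cast, h1, Nat.cast_one])
          refine hχ (Subtype.ext (hf.trans (funext fun g => ?_)))
          simp [BC86.hom_eq_one_of_perfect hperf f g, one]
        have hu' : (χ : G → ℂ) u = ((Cfsg.charDegree (χ : G → ℂ) - 2 : ℕ) : ℂ) := by
          rw [Nat.cast_sub hd, BC86.charDegree_cast, Nat.cast_ofNat, ← hc, ← h, sub_sub_cancel]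
        rw [hu', ← BC86.charDegree_cast, ← Nat.cast_mul, Complex.natCast_re]
        positivity
      · simp [h]
    have h := congrArg Complex.re horth
    rw [← Finset.add_sum_erase _ _ (Finset.mem_univ one), Complex.add_re, Complex.re_sum,
      Complex.zero_re] at h
    have := Finset.sum_nonneg fun χ (hχ : χ ∈ Finset.univ.erase one) =>
      hre χ (Finset.mem_erase.mp hχ).1
    simp [one] at h this
    linarith
  have hba : commutator G ≠ ⊤ → c = 2 ∧ orderOf u = 2 ∧
      Subgroup.zpowers u ⊔ Cfsg.oddCore G = ⊤ ∧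
      Subgroup.centralizer ({u} : Set G) = Subgroup.zpowers u := by
    intro hne
    have hcard : 1 < Nat.card (G →* ℂˣ) := by
      rw [Nat.card_congr CharCore.linearEquivHom, CharCore.card_linearCharacters]
      exact Subgroup.one_lt_index_of_ne_top hne
    obtain ⟨f, hf⟩ : ∃ f : G →* ℂˣ, f ≠ 1 := by
      by_contra hall
      push Not at hall
      have : Subsingleton (G →* ℂˣ) := ⟨fun a b => (hall a).trans (hall b).symm⟩
      rw [Nat.card_unique] at hcard
      exact lt_irrefl _ hcard
    have hlin : ∀ g : G →* ℂˣ, g ≠ 1 → (1 : ℂ) - (g u : ℂ) = c := by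
      intro g hg
      rcases hyp ⟨_, CharCore.isIrrCharacter_hom g⟩ (fun h => hg (MonoidHom.ext fun x =>
        Units.ext (congrFun h x))) with h | h
      · simpa using h
      · exact absurd h (Units.ne_zero _)
    have hsame : ∀ g : G →* ℂˣ, g ≠ 1 → g u = f u := fun g hg =>
      Units.ext (sub_right_injective ((hlin g hg).trans (hlin f hf).symm))
    have hfu : f u ≠ 1 := by
      intro h1
      have hc0 : c = 0 := by rw [← hlin f hf, h1, Units.val_one, sub_self]
      have hre : ∀ χ : Cfsg.IrrCharacter G, χ ≠ one →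
          0 ≤ ((χ : G → ℂ) 1 * (χ : G → ℂ) u).re := by
        intro χ hχ
        rcases hyp χ (fun h => hχ (Subtype.ext h)) with h | h
        · rw [hc0, sub_eq_zero] at h
          rw [← h, ← BC86.charDegree_cast, ← Nat.cast_mul, Complex.natCast_re]
          positivity
        · simp [h]
      have h := congrArg Complex.re horth
      rw [← Finset.add_sum_erase _ _ (Finset.mem_univ one), Complex.add_re, Complex.re_sum,
        Complex.zero_re] at h
      have := Finset.sum_nonneg fun χ (hχ : χ ∈ Finset.univ.erase one) =>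
        hre χ (Finset.mem_erase.mp hχ).1
      simp [one] at h this
      linarith
    have hf2 : f * f = 1 := by
      by_contra h2
      have := hsame _ h2
      rw [MonoidHom.mul_apply, mul_eq_left] at this
      exact hfu this
    have huniq : ∀ g : G →* ℂˣ, g ≠ 1 → g = f := by
      intro g hg
      by_contra hgf
      have hgf' : g * f ≠ 1 := by
        intro h
        refine hgf (MonoidHom.ext fun x => ?_)
        have h1 : g x * f x = 1 := DFunLike.congr_fun h x
        have h2 : f x * f x = 1 := DFunLike.congr_fun hf2 x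
        exact mul_right_cancel (h1.trans h2.symm)
      have := hsame _ hgf'
      rw [MonoidHom.mul_apply, hsame g hg, mul_eq_left] at this
      exact hfu this
    have hm1 : (f u : ℂ) = -1 := by
      have h : f u * f u = 1 := DFunLike.congr_fun hf2 u
      have h' : (f u : ℂ) * (f u : ℂ) = 1 := by rw [← Units.val_mul, h, Units.val_one]
      exact (mul_self_eq_one_iff.mp h').resolve_left fun h1 => hfu (Units.ext h1)
    have hc2 : c = 2 := by rw [← hlin f hf, hm1]; norm_num
    let fχ : Cfsg.IrrCharacter G := ⟨_, CharCore.isIrrCharacter_hom f⟩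
    have hfone : fχ ≠ one := fun h => hf (MonoidHom.ext fun x =>
      Units.ext (congrFun (congrArg Subtype.val h) x))
    have hzero : ∀ χ : Cfsg.IrrCharacter G, χ ≠ one → χ ≠ fχ → (χ : G → ℂ) u = 0 := by
      set S := ((Finset.univ : Finset (Cfsg.IrrCharacter G)).erase one).erase fχ with hS
      have hval : ∀ χ ∈ S, ∃ k : ℕ, (χ : G → ℂ) u = k := by
        intro χ hχ
        simp only [hS, Finset.mem_erase, Finset.mem_univ, and_true] at hχ
        rcases hyp χ (fun h => hχ.2 (Subtype.ext h)) with h | h
        · have hd : 2 ≤ Cfsg.charDegree (χ : G → ℂ) := by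
            by_contra hlt
            have h1 : Cfsg.charDegree (χ : G → ℂ) = 1 :=
              le_antisymm (by omega) (BC86.charDegree_pos χ)
            obtain ⟨g, hg⟩ := CharCore.IsCharacter.exists_hom_of_degree_one
              (CharCore.irr_isCharacter χ) (by rw [← BC86.charDegree_cast, h1, Nat.cast_one])
            rcases eq_or_ne g 1 with rfl | hg1
            · exact hχ.2 (Subtype.ext (hg.trans (by funext x; simp [one])))
            · exact hχ.1 (Subtype.ext (hg.trans (by rw [huniq g hg1])))
          exact ⟨Cfsg.charDegree (χ : G → ℂ) - 2, by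
            rw [Nat.cast_sub hd, BC86.charDegree_cast, Nat.cast_ofNat, ← hc2, ← h,
              sub_sub_cancel]⟩
        · exact ⟨0, by simp [h]⟩
      choose! k hk using hval
      have hsum : ∑ χ ∈ S, (χ : G → ℂ) 1 * (χ : G → ℂ) u = 0 := by
        have h := horth
        rw [← Finset.add_sum_erase _ _ (Finset.mem_univ one), ← Finset.add_sum_erase _ _
          (Finset.mem_erase.mpr ⟨hfone, Finset.mem_univ fχ⟩)] at h
        simpa [one, fχ, hm1] using h
      rw [Finset.sum_congr rfl fun χ hχ => by rw [hk χ hχ, ← BC86.charDegree_cast,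
        ← Nat.cast_mul], ← Nat.cast_sum, Nat.cast_eq_zero, Finset.sum_eq_zero_iff] at hsum
      intro χ h1 h2
      have hχ : χ ∈ S := by simp [hS, h1, h2]
      rw [hk χ hχ, (Nat.mul_eq_zero.mp (hsum χ hχ)).resolve_left (BC86.charDegree_ne_zero χ),
        Nat.cast_zero]
    have hC : Nat.card (Subgroup.centralizer ({u} : Set G)) = 2 := by
      have h := BC86.col_orth u u
      rw [if_pos (IsConj.refl u), Finset.sum_eq_add one fχ hfone.symm
        (fun χ _ hχ => by rw [hzero χ hχ.1 hχ.2, zero_mul])
        (fun h => absurd (Finset.mem_univ _) h) (fun h => absurd (Finset.mem_univ _) h)] at h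
      simp [one, fχ, hm1] at h
      have h' : ((Nat.card (Subgroup.centralizer ({u} : Set G)) : ℕ) : ℂ) = ((2 : ℕ) : ℂ) := by
        rw [Nat.card_eq_fintype_card, ← h]; norm_num
      exact_mod_cast h'
    have hle : Subgroup.zpowers u ≤ Subgroup.centralizer ({u} : Set G) := by
      rw [Subgroup.zpowers_le]
      exact Subgroup.mem_centralizer_singleton_iff.mpr rfl
    have hord : orderOf u = 2 := by
      have h1 : orderOf u ∣ 2 := by
        rw [← hC, ← Nat.card_zpowers]
        exact Subgroup.card_dvd_of_le hle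
      rcases (Nat.dvd_prime Nat.prime_two).mp h1 with h | h
      · exact absurd (orderOf_eq_one_iff.mp h) hu
      · exact h
    have hCeq : Subgroup.centralizer ({u} : Set G) = Subgroup.zpowers u :=
      (Subgroup.eq_of_le_of_card_ge hle (by rw [hC, Nat.card_zpowers, hord])).symm
    refine ⟨hc2, hord, ?_, hCeq⟩
    obtain ⟨P, hP⟩ : ∃ P : Sylow 2 G, Subgroup.zpowers u ≤ P :=
      IsPGroup.exists_le_sylow (IsPGroup.of_card (n := 1) (by rw [pow_one, Nat.card_zpowers, hord]))
    have huP : u ∈ (P : Subgroup G) := hP (Subgroup.mem_zpowers u)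
    have : Nontrivial P := ⟨⟨u, huP⟩, 1, fun h => hu (congrArg Subtype.val h)⟩
    have : Nontrivial (Subgroup.center P) := P.isPGroup'.center_nontrivial
    obtain ⟨z, hz1⟩ := exists_ne (1 : Subgroup.center P)
    have hzu : ((z : P) : G) ∈ Subgroup.zpowers u := by
      rw [← hCeq]
      exact Subgroup.mem_centralizer_singleton_iff.mpr
        (congrArg Subtype.val (Subgroup.mem_center_iff.mp z.2 ⟨u, huP⟩).symm)
    have hzeq : ((z : P) : G) = u := by
      have hz' : ((z : P) : G) ∈ Submonoid.powers u :=
        mem_powers_iff_mem_zpowers.mpr hzu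
      rw [mem_powers_iff_mem_range_orderOf, hord] at hz'
      simp only [Finset.mem_image, Finset.mem_range] at hz'
      obtain ⟨i, hi, hi'⟩ := hz'
      interval_cases i
      · exact absurd (Subtype.ext (Subtype.ext (by simpa using hi'.symm))) hz1
      · simpa using hi'.symm
    have hPC : (P : Subgroup G) ≤ Subgroup.centralizer ({u} : Set G) := by
      intro w hw
      refine Subgroup.mem_centralizer_singleton_iff.mpr ?_
      rw [← hzeq]
      exact congrArg Subtype.val (Subgroup.mem_center_iff.mp z.2 ⟨w, hw⟩)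
    have hN2 : ¬ 2 ∣ Nat.card f.ker := by
      intro h2
      have hrange : Nat.card f.range = 2 := by
        have hsub : ∀ w ∈ f.range, w = 1 ∨ w = f u := by
          rintro w ⟨g, rfl⟩
          have h : f g * f g = 1 := DFunLike.congr_fun hf2 g
          have h' : (f g : ℂ) * (f g : ℂ) = 1 := by rw [← Units.val_mul, h, Units.val_one]
          rcases mul_self_eq_one_iff.mp h' with h1 | h1
          · exact Or.inl (Units.ext h1)
          · exact Or.inr (Units.ext (h1.trans hm1.symm))
        have hset : (f.range : Set ℂˣ) = {1, f u} := by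
          ext w
          refine ⟨fun hw => hsub w hw, ?_⟩
          rintro (rfl | rfl)
          · exact one_mem _
          · exact ⟨u, rfl⟩
        change Nat.card (f.range : Set ℂˣ) = 2
        rw [hset, Nat.card_coe_set_eq, Set.ncard_pair hfu.symm]
      have h4 : 2 ^ 2 ∣ Nat.card G := by
        rw [← f.ker.card_mul_index, Subgroup.index_ker, hrange, pow_two]
        exact Nat.mul_dvd_mul_right h2 2
      have h8 := (Nat.prime_two.pow_dvd_iff_le_factorization Nat.card_pos.ne').mp h4
      have h5 := Nat.le_of_dvd Nat.two_pos (hC ▸ Subgroup.card_dvd_of_le hPC)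
      rw [P.card_eq_multiplicity] at h5
      have h6 := Nat.pow_le_pow_right Nat.two_pos h8
      omega
    have hker : f.ker ≤ Cfsg.oddCore G :=
      Thompson.le_pPrimeCore inferInstance
        ((Nat.coprime_comm).mp (Nat.prime_two.coprime_iff_not_dvd.mpr hN2))
    refine eq_top_iff.mpr fun g _ => ?_
    have hfg : f g = 1 ∨ f g = f u := by
      have h : f g * f g = 1 := DFunLike.congr_fun hf2 g
      have h' : (f g : ℂ) * (f g : ℂ) = 1 := by rw [← Units.val_mul, h, Units.val_one]
      rcases mul_self_eq_one_iff.mp h' with h1 | h1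
      · exact Or.inl (Units.ext h1)
      · exact Or.inr (Units.ext (h1.trans hm1.symm))
    rcases hfg with h1 | h1
    · exact Subgroup.mem_sup_right (hker h1)
    · have hmem : u⁻¹ * g ∈ f.ker := by
        rw [MonoidHom.mem_ker, map_mul, map_inv, h1, inv_mul_cancel]
      rw [← mul_inv_cancel_left u g]
      exact mul_mem (Subgroup.mem_sup_left (Subgroup.mem_zpowers u))
        (Subgroup.mem_sup_right (hker hmem))
  exact ⟨⟨hab, fun h => (hba h).2⟩, ⟨fun h => (hba h).1, hca⟩⟩

end Cfsg.Agent.S4757
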