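import Cfsg.Statements.S4759
import Cfsg.Agent.XSExt.Main
import Cfsg.Agent.Lib.PGroup.Extraspecial
import Cfsg.Agent.CharB.CliffordDegree
-- import your own Cfsg.Agent.* helpers here

set_option autoImplicit false
set_option linter.style.haveILetI false
open Cfsg
open scoped commutatorElement

namespace Cfsg.Agent.S4759

/-- Let G be a finite group that is the semidirect product of a normal extraspecial 2-subgroup E and a complement H acting faithfully on E (no non-identity element of H centralizes E), and suppose H has a normal subgroup K of odd order with [E, K] = E. Then every faithful irreducible character θ of E (there is exactly one) extends to G: some irreducible character of G restricts to θ on E. -/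
theorem result {G : Type*} [Group G] [Finite G] (E H : Subgroup G) [E.Normal] (hE : Cfsg.IsExtraspecial 2 ↥E) (hEH : E ⊓ H = ⊥) (hEHtop : E ⊔ H = ⊤) (hfaith : ∀ h ∈ H, (∀ e ∈ E, h * e = e * h) → h = 1) (K : Subgroup G) (hKH : K ≤ H) (hKn : ∀ h ∈ H, ∀ k ∈ K, h * k * h⁻¹ ∈ K) (hKodd : Odd (Nat.card ↥K)) (hEK : ⁅E, K⁆ = E) (θ : Cfsg.IrrCharacter ↥E) (hθ : ∀ e : ↥E, (θ : ↥E → ℂ) e = (θ : ↥E → ℂ) 1 → e = 1) : ∃ χ : Cfsg.IrrCharacter G, ∀ e : ↥E, (χ : G → ℂ) e = (θ : ↥E → ℂ) e := by
  classical
  have := Fintype.ofFinite G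
  -- the centre
  have hc2 : Nat.card (Subgroup.center E) = 2 := hE.2
  obtain ⟨z, ⟨hzc, hz1⟩, hzu⟩ : ∃ z : E, (z ∈ Subgroup.center E ∧ z ≠ 1) ∧
      ∀ w : E, w ∈ Subgroup.center E → w = 1 ∨ w = z := by
    obtain ⟨y, hy1, hy2⟩ := (Nat.card_eq_two_iff' (1 : Subgroup.center E)).mp hc2
    refine ⟨y, ⟨y.2, fun e => hy1 (Subtype.ext e)⟩, fun w hw => ?_⟩
    by_cases e : w = 1
    · exact Or.inl e
    · exact Or.inr (congrArg Subtype.val (hy2 ⟨w, hw⟩ fun e' => e (congrArg Subtype.val e')))
  haveI : Fact (Nat.Prime 2) := ⟨Nat.prime_two⟩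
  have hxs : XSExt.XS E z :=
    { ne := hz1
      sq := by rw [← pow_two]; exact PGroup.xs_center_pow hE hzc
      central := fun x => (Subgroup.mem_center_iff.mp hzc x).symm
      comm := fun x y => by
        rcases hzu _ (PGroup.xs_comm_mem hE x y) with e | e
        · exact Or.inl (commutatorElement_eq_one_iff_mul_comm.mp e)
        · right
          rw [commutatorElement_def, mul_inv_eq_iff_eq_mul, mul_inv_eq_iff_eq_mul] at e
          rw [e, mul_assoc z, ← Subgroup.mem_center_iff.mp hzc (y * x)]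
      nondeg := fun x hx => hzu x (Subgroup.mem_center_iff.mpr fun g => (hx g).symm)
      sqMem := fun x => by rw [← pow_two]; exact hzu _ (PGroup.xs_pow_mem hE x) }
  -- the given character
  obtain ⟨θ₀, c, -, hθ₀, hc⟩ := hxs.exists_good
  have hθg : XSExt.Good (θ : E → ℂ) z c := by
    obtain ⟨n, ρ, hρ, hρθ⟩ := θ.2
    have := hρ
    obtain ⟨b, hb⟩ := CharClifford.exists_scalar_of_commute ρ (ρ z) fun g => by
      rw [Commute, SemiconjBy, ← map_mul, ← map_mul, hxs.central]
    have := CharInd.nontrivial_of_irreducible ρ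
    have hb2 : b * b = 1 := by
      have h2 : (b * b) • (1 : Module.End ℂ (Fin n → ℂ)) = 1 := by
        conv_rhs => rw [← map_one ρ, ← hxs.sq, map_mul, hb]
        rw [smul_mul_smul_comm, mul_one]
      exact smul_left_injective ℂ (one_ne_zero (α := Module.End ℂ (Fin n → ℂ)))
        (by simpa using h2)
    have h1 : (θ : E → ℂ) 1 = (n : ℂ) := by rw [← hρθ, Representation.char_one]; simp
    have hz : (θ : E → ℂ) z = b * n := by
      rw [← hρθ, Representation.character, hb, map_smul, Module.End.one_eq_id, LinearMap.trace_id]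
      simp
    rcases mul_self_eq_one_iff.mp hb2 with e | e
    · exact absurd (hθ z (by rw [hz, h1, e, one_mul])) hz1
    have hg : XSExt.Good (θ : E → ℂ) z n := ⟨CharCore.irr_isCharacter θ, h1, by rw [hz, e]; ring⟩
    have h2 := hxs.classInner_self hg
    rw [CharCore.classInner_irr_self] at h2
    have hE0 : (Nat.card E : ℂ) ≠ 0 := Nat.cast_ne_zero.mpr Nat.card_pos.ne'
    field_simp at h2
    have hn : n * n * 2 = Nat.card E := by
      have : ((n * n * 2 : ℕ) : ℂ) = (Nat.card E : ℕ) := by push_cast; linear_combination -h2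
      exact_mod_cast this
    rwa [← Nat.mul_self_inj.mp (mul_right_cancel₀ two_ne_zero (hn.trans hc.symm))]
  have heq : ∀ f : E → ℂ, XSExt.Good f z c → f = (θ : E → ℂ) := fun f hf => hxs.good_eq hf hθg
  have hinv : ∀ (g : G) (n : E),
      (θ : E → ℂ) ⟨g * n * g⁻¹, ‹E.Normal›.conj_mem (n : G) n.2 g⟩ = (θ : E → ℂ) n := by
    intro g n
    let α : MulAut E := MulAut.conjNormal g
    have hg : XSExt.Good (fun e => (θ : E → ℂ) (α e)) z c :=
      ⟨CharCore.isCharacter_comp hθg.1 α.toMonoidHom, (congrArg _ (map_one α)).trans hθg.2.1,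
        (congrArg _ (hxs.aut_z α)).trans hθg.2.2⟩
    exact congrFun (heq _ hg) n
  -- the action of the complement
  let a : H →* MulAut E := (MulAut.conjNormal).comp H.subtype
  have ha : ∀ (h : H) (e : E), ((a h e : E) : G) = h * e * (h : G)⁻¹ := fun h e => rfl
  let K' : Subgroup (MulAut E) := (K.subgroupOf H).map a
  have hK'odd : Odd (Nat.card K') := by
    refine (hKodd.of_dvd_nat ?_)
    rw [← Nat.card_congr (Subgroup.subgroupOfEquivOfLe hKH).toEquiv]
    exact Subgroup.card_map_dvd (K.subgroupOf H) a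
  have hK'fix : ∀ e : E, (∀ k ∈ K', k e = e) → e = 1 ∨ e = z := by
    intro e he
    refine hxs.nondeg e fun y => ?_
    have hle : ⁅E, K⁆ ≤ Subgroup.centralizer {(e : G)} := by
      refine Subgroup.commutator_le.mpr fun f hf k hk => ?_
      rw [Subgroup.mem_centralizer_singleton_iff]
      have hek : k * (e : G) * k⁻¹ = e :=
        congrArg Subtype.val (he (a ⟨k, hKH hk⟩) ⟨⟨k, hKH hk⟩, hk, rfl⟩)
      have hzk : k * (z : G) * k⁻¹ = z := congrArg Subtype.val (hxs.aut_z (a ⟨k, hKH hk⟩))
      have hek' : (e : G) * k * (e : G)⁻¹ = k := by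
        rw [mul_inv_eq_iff_eq_mul]
        exact (mul_inv_eq_iff_eq_mul.mp hek).symm
      suffices (e : G) * ⁅f, k⁆ * (e : G)⁻¹ = ⁅f, k⁆ from (mul_inv_eq_iff_eq_mul.mp this).symm
      have h1 : (e : G) * ⁅f, k⁆ * (e : G)⁻¹ = ⁅(e : G) * f * (e : G)⁻¹, k⁆ := by
        conv_rhs => rw [← hek']
        simp only [commutatorElement_def]
        group
      rw [h1]
      rcases hxs.comm e ⟨f, hf⟩ with c1 | c1 <;> have c1' := congrArg Subtype.val c1 <;>
        simp only [Subgroup.coe_mul] at c1'
      · rw [c1', mul_inv_cancel_right]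
      · have hfz : (f : G) * z = z * f :=
          (congrArg Subtype.val (hxs.central ⟨f, hf⟩)).symm
        have hze : (z : G) * e = e * z := congrArg Subtype.val (hxs.central e)
        rw [c1', mul_assoc f, ← hze, ← mul_assoc, mul_inv_cancel_right]
        simp only [commutatorElement_def, mul_inv_rev]
        have hzk' : (z : G) * k = k * z := ((mul_inv_eq_iff_eq_mul.mp hzk)).symm
        simp only [mul_assoc]
        rw [← mul_assoc (z : G) k, hzk', mul_assoc, ← mul_assoc (z : G) (z : G)⁻¹, mul_inv_cancel,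
          one_mul]
    have hy : (y : G) ∈ Subgroup.centralizer {(e : G)} := hle (by rw [hEK]; exact y.2)
    exact Subtype.ext (Subgroup.mem_centralizer_singleton_iff.mp hy).symm
  refine (CharB.exists_extension_of_sylow E θ.2 hinv fun p hp => ?_).elim
    fun χ hχ => ⟨⟨χ, hχ.1⟩, hχ.2⟩
  haveI : Fact p.Prime := ⟨hp⟩
  let R₀ : Sylow p H := default
  let R : Subgroup G := (R₀ : Subgroup H).map H.subtype
  have hRH : R ≤ H := Subgroup.map_subtype_le _
  have hER : E ⊓ R = ⊥ := eq_bot_iff.mpr (le_trans (inf_le_inf_left _ hRH) hEH.le)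
  let aR : R →* MulAut E := a.comp (Subgroup.inclusion hRH)
  let f : E ⋊[aR] R →* G := SemidirectProduct.lift E.subtype R.subtype fun g =>
    MonoidHom.ext fun e => rfl
  have hfapp : ∀ x, f x = (x.left : G) * x.right := fun x => rfl
  have hfinj : Function.Injective f := by
    rw [injective_iff_map_eq_one]
    intro x hx
    rw [hfapp] at hx
    have hr : (x.right : G) ∈ E ⊓ R :=
      ⟨by rw [eq_inv_of_mul_eq_one_right hx]; exact E.inv_mem x.left.2, x.right.2⟩
    rw [hER, Subgroup.mem_bot] at hr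
    rw [hr, mul_one] at hx
    exact SemidirectProduct.ext (Subtype.ext hx) (Subtype.ext hr)
  let P : Subgroup G := f.range
  have hEP : E ≤ P := fun x hx => ⟨SemidirectProduct.inl ⟨x, hx⟩, by simp [hfapp]⟩
  have hcop : Nat.Coprime P.index p := by
    have hPc : Nat.card P = Nat.card E * Nat.card R := by
      rw [← Nat.card_congr (MonoidHom.ofInjective hfinj).toEquiv, SemidirectProduct.card]
    let fH : E ⋊[a] H →* G := SemidirectProduct.lift E.subtype H.subtype fun g =>
      MonoidHom.ext fun e => rfl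
    have hfH : Function.Bijective fH := by
      refine ⟨(injective_iff_map_eq_one fH).mpr fun x hx => ?_, fun g => ?_⟩
      · have hx' : (x.left : G) * x.right = 1 := hx
        have hr : (x.right : G) ∈ E ⊓ H :=
          ⟨by rw [eq_inv_of_mul_eq_one_right hx']; exact E.inv_mem x.left.2, x.right.2⟩
        rw [hEH, Subgroup.mem_bot] at hr
        rw [hr, mul_one] at hx'
        exact SemidirectProduct.ext (Subtype.ext hx') (Subtype.ext hr)
      · obtain ⟨e, he, h, hh, rfl⟩ := Subgroup.mem_sup_of_normal_left.mp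
          (hEHtop ▸ Subgroup.mem_top g)
        exact ⟨⟨⟨e, he⟩, ⟨h, hh⟩⟩, rfl⟩
    have hGc : Nat.card G = Nat.card E * Nat.card H := by
      rw [← Nat.card_eq_of_bijective fH hfH, SemidirectProduct.card]
    have hRc : Nat.card R = Nat.card R₀ :=
      Nat.card_congr ((R₀ : Subgroup H).equivMapOfInjective _ H.subtype_injective).toEquiv.symm
    have h1 : P.index = (R₀ : Subgroup H).index := by
      have e := P.index_mul_card
      rw [hPc, hGc, hRc, ← (R₀ : Subgroup H).index_mul_card] at e
      exact Nat.eq_of_mul_eq_mul_right (Nat.mul_pos Nat.card_pos Nat.card_pos :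
        0 < Nat.card E * Nat.card (R₀ : Subgroup H)) (by linear_combination e)
    rw [h1]
    exact (hp.coprime_iff_not_dvd.mpr R₀.not_dvd_index).symm
  suffices hs : ∃ η : E ⋊[aR] R → ℂ, XSExt.Good η (SemidirectProduct.inl z) c by
    obtain ⟨η, hη⟩ := hs
    let e := MonoidHom.ofInjective hfinj
    refine ⟨P, hEP, fun x => η (e.symm x), hcop, CharCore.isCharacter_comp hη.1 e.symm.toMonoidHom,
      fun n => ?_⟩
    have h1 : e.symm ⟨(n : G), hEP n.2⟩ = SemidirectProduct.inl n := by
      rw [MulEquiv.symm_apply_eq]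
      refine Subtype.ext ?_
      rw [MonoidHom.ofInjective_apply, hfapp]
      simp
    show η (e.symm _) = _
    rw [h1]
    exact congrFun (heq (fun m => η (SemidirectProduct.inl m))
      ⟨CharCore.isCharacter_comp hη.1 SemidirectProduct.inl,
        (congrArg η (map_one _)).trans hη.2.1, hη.2.2⟩) n
  rcases hp.eq_two_or_odd with rfl | hpo
  · -- the Sylow two-subgroup
    have hP2 : IsPGroup 2 aR.range :=
      IsPGroup.of_surjective (IsPGroup.of_equiv R₀.isPGroup'
        ((R₀ : Subgroup H).equivMapOfInjective _ H.subtype_injective))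
        aR.rangeRestrict aR.rangeRestrict_surjective
    have hPK : ∀ q ∈ aR.range, ∀ k : MulAut E, k ∈ K' ↔ q * k * q⁻¹ ∈ K' := by
      have hc1 : ∀ q ∈ aR.range, ∀ k ∈ K', q * k * q⁻¹ ∈ K' := by
        rintro _ ⟨r, rfl⟩ _ ⟨k, hk, rfl⟩
        refine ⟨Subgroup.inclusion hRH r * k * (Subgroup.inclusion hRH r)⁻¹, ?_, by simp [aR]⟩
        exact hKn _ (hRH r.2) _ hk
      refine fun q hq k => ⟨hc1 q hq k, fun hk => ?_⟩
      simpa [mul_assoc] using hc1 q⁻¹ (inv_mem hq) _ hk
    obtain ⟨η, c', hc', hη⟩ := (XSExt.extProp E z hxs K' aR.range hK'odd hP2 hPK hK'fix).comp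
      aR.rangeRestrict (b := aR) rfl
    obtain rfl : c' = c := Nat.mul_self_inj.mp (mul_right_cancel₀ two_ne_zero (hc'.trans hc.symm))
    exact ⟨η, hη⟩
  · -- odd primes: coprime extension
    have := Fintype.ofFinite R
    haveI : Finite (E ⋊[aR] R) := Finite.of_equiv _ SemidirectProduct.equivProd.symm
    have := Fintype.ofFinite (E ⋊[aR] R)
    let N : Subgroup (E ⋊[aR] R) := (SemidirectProduct.inl : E →* E ⋊[aR] R).range
    let S : Subgroup (E ⋊[aR] R) := (SemidirectProduct.inr : R →* E ⋊[aR] R).range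
    have hNn : N.Normal := by
      show (SemidirectProduct.inl : E →* E ⋊[aR] R).range.Normal
      rw [SemidirectProduct.range_inl_eq_ker_rightHom]; infer_instance
    have := Fintype.ofFinite N
    have hcopNS : (Nat.card N).Coprime (Nat.card S) := by
      obtain ⟨i, hi⟩ := IsPGroup.iff_card.mp hxs.isPGroup
      obtain ⟨j, hj⟩ := IsPGroup.iff_card.mp (IsPGroup.of_equiv R₀.isPGroup'
        ((R₀ : Subgroup H).equivMapOfInjective _ H.subtype_injective))
      rw [← Nat.card_congr (MonoidHom.ofInjective SemidirectProduct.inl_injective).toEquiv, hi,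
        ← Nat.card_congr (MonoidHom.ofInjective SemidirectProduct.inr_injective).toEquiv, hj]
      exact Nat.Coprime.pow _ _ ((Nat.coprime_primes Nat.prime_two hp).mpr (by omega))
    have htop : N ⊔ S = ⊤ := eq_top_iff.mpr fun x _ => by
      rw [← SemidirectProduct.inl_left_mul_inr_right x]
      exact Subgroup.mul_mem_sup ⟨_, rfl⟩ ⟨_, rfl⟩
    let e := MonoidHom.ofInjective (SemidirectProduct.inl_injective (N := E) (G := R) (φ := aR))
    let χ₀ : Cfsg.IrrCharacter N :=
      ⟨_, CharCore.isIrrCharacter_comp_surjective θ.2 e.symm.toMonoidHom e.symm.surjective⟩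
    obtain ⟨η, ⟨hη, hres, -⟩, -⟩ := BlkChar.exists_canonical N S hcopNS htop χ₀ (by
      rintro _ ⟨r, rfl⟩ g g' hg
      show (θ : E → ℂ) (e.symm g') = (θ : E → ℂ) (e.symm g)
      have h1 : e.symm g' = aR r (e.symm g) := by
        refine SemidirectProduct.inl_injective (φ := aR) ?_
        rw [SemidirectProduct.inl_aut]
        have k1 : ∀ m : N, SemidirectProduct.inl (e.symm m) = (m : E ⋊[aR] R) := fun m =>
          congrArg Subtype.val (e.apply_symm_apply m)
        rw [k1, k1, hg, map_inv]
      rw [h1]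
      exact hinv (r : G) (e.symm g))
    refine ⟨η, CharCore.IsIrrCharacter.isCharacter hη, ?_, ?_⟩
    · refine (hres 1).trans ?_
      show (θ : E → ℂ) (e.symm 1) = _
      rw [map_one]
      exact hθg.2.1
    · refine (hres (e z)).trans ?_
      show (θ : E → ℂ) (e.symm (e z)) = _
      rw [e.symm_apply_apply]
      exact hθg.2.2

end Cfsg.Agent.S4759
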