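import Cfsg.Statements.S4762
import Cfsg.Agent.CharB.Extraspecial
import Cfsg.Agent.S0894
import Cfsg.Agent.CharDeep.Deg.Basic
import Cfsg.Agent.Lib.Frobenius.Thompson
import Cfsg.Agent.Lib.PGroup.Basic
import Cfsg.Agent.Lib.CharCore.Linear
import Cfsg.Agent.Lib.CharClifford.Central

set_option autoImplicit false
open Cfsg

namespace Cfsg.Agent.S4762

open scoped ComplexConjugate commutatorElement
open Cfsg.Agent.CharCore

/-- Let p be a prime and G a finite nilpotent group. Then G has exactly one irreducible complex character of degree divisible by p if and only if p = 2 and G is an extraspecial 2-group. -/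
theorem result {G : Type*} [Group G] [Finite G] [Group.IsNilpotent G] (p : ℕ) [Fact p.Prime] : Nat.card {χ : Cfsg.IrrCharacter G // p ∣ Cfsg.charDegree (χ : G → ℂ)} = 1 ↔ (p = 2 ∧ Cfsg.IsExtraspecial 2 G) := by
  classical
  haveI := Fintype.ofFinite G
  have hp := (Fact.out : p.Prime)
  have hd : ∀ χ : IrrCharacter G, (χ : G → ℂ) 1 = (Cfsg.charDegree (χ : G → ℂ) : ℂ) :=
    CharDeep.Deg.apply_one
  constructor
  · intro h1
    obtain ⟨⟨χ, hχ⟩, huniq⟩ := (Nat.card_eq_one_iff_exists).mp h1
    have hu : ∀ ψ : IrrCharacter G, p ∣ Cfsg.charDegree (ψ : G → ℂ) → ψ = χ := fun ψ hψ =>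
      congrArg Subtype.val (huniq ⟨ψ, hψ⟩)
    obtain ⟨P, K, hKn, hK⟩ := Frobenius.hasNormalPComplement_of_isNilpotent ‹_› p
    haveI := hKn
    haveI : (P : Subgroup G).Normal := Transfer.nilpotent_sylow_normal ‹_› P
    -- the Sylow subgroup is nonabelian
    have hPne : ¬ IsMulCommutative (P : Subgroup G) := by
      intro hab
      exact P.not_dvd_index (hχ.trans (CharDeep.Deg.degree_dvd_index χ (P : Subgroup G) fun a ha b hb => congrArg Subtype.val (hab.is_comm.comm ⟨a, ha⟩ ⟨b, hb⟩)))
    let eP : (P : Subgroup G) ≃* G ⧸ K := hK.symm.QuotientMulEquiv.symm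
    have hQ : ∃ θ : IrrCharacter (G ⧸ K), p ∣ Cfsg.charDegree (θ : G ⧸ K → ℂ) := by
      by_contra hno
      push Not at hno
      apply hPne
      have hall : ∀ θ : IrrCharacter (G ⧸ K), Cfsg.charDegree (θ : G ⧸ K → ℂ) = 1 := by
        intro θ
        obtain ⟨d, hd0, hdd, hθd⟩ := CharClifford.exists_degree_dvd_card θ.2
        rw [CharDeep.Deg.degree_of_eq hθd]
        obtain ⟨a, ha⟩ := IsPGroup.iff_card.mp P.isPGroup'
        rw [← Nat.card_congr eP.toEquiv, ha] at hdd
        obtain ⟨j, -, rfl⟩ := (Nat.dvd_prime_pow hp).mp hdd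
        have := hno θ
        rw [CharDeep.Deg.degree_of_eq hθd] at this
        cases j with
        | zero => rfl
        | succ j => exact absurd (dvd_pow_self p (Nat.succ_ne_zero j)) this
      refine ⟨⟨fun a b => eP.injective ?_⟩⟩
      rw [map_mul, map_mul]
      exact CharDeep.Deg.commute_of_degree_one hall _ _
    obtain ⟨θ, hθ⟩ := hQ
    obtain ⟨ψ, hψd, hψv⟩ := CharDeep.Deg.exists_inflate K θ
    have hψχ : ψ = χ := hu ψ (hψd ▸ hθ)
    -- the `p`-complement is trivial
    have hKbot : K = ⊥ := by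
      by_contra hKne
      let eK : K ≃* G ⧸ (P : Subgroup G) := hK.QuotientMulEquiv.symm
      haveI : Nontrivial (G ⧸ (P : Subgroup G)) := by
        haveI : Nontrivial K := (Subgroup.nontrivial_iff_ne_bot K).mpr hKne
        exact eK.toEquiv.nontrivial_congr.mp inferInstance
      have hidx : (commutator (G ⧸ (P : Subgroup G))).index ≠ 1 := by
        rw [Ne, Subgroup.index_eq_one]
        haveI : Group.IsSolvable (G ⧸ (P : Subgroup G)) := inferInstance
        exact (Group.IsSolvable.commutator_lt_top_of_nontrivial (G ⧸ (P : Subgroup G))).ne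
      obtain ⟨f, hf⟩ : ∃ f : (G ⧸ (P : Subgroup G)) →* ℂˣ, f ≠ 1 := by
        by_contra hall
        push Not at hall
        apply hidx
        rw [← card_linearCharacters, ← Nat.card_congr linearEquivHom,
          Nat.card_eq_one_iff_exists]
        exact ⟨1, hall⟩
      let lam : G →* ℂˣ := f.comp (QuotientGroup.mk' (P : Subgroup G))
      have hψ' : (⟨_, isIrrCharacter_hom_mul lam ψ.2⟩ : IrrCharacter G) = χ := by
        refine hu _ ?_
        rw [CharDeep.Deg.degree_of_eq (n := Cfsg.charDegree (ψ : G → ℂ)) (by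
          simp only [map_one, Units.val_one, one_mul]; exact hd ψ), hψd]
        exact hθ
      apply hf
      refine MonoidHom.ext fun q => ?_
      obtain ⟨k, rfl⟩ := eK.surjective q
      have h2 := congrFun (congrArg Subtype.val (hψ'.trans hψχ.symm)) (k : G)
      have hk1 : (ψ : G → ℂ) (k : G) = (ψ : G → ℂ) 1 := by
        rw [hψv, hψv, map_one]
        exact congrArg _ ((QuotientGroup.eq_one_iff _).mpr k.2)
      simp only [hk1] at h2
      have h3 : (lam (k : G) : ℂ) = 1 :=
        (mul_eq_right₀ (irr_apply_one_ne_zero ψ)).mp h2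
      exact Units.ext h3
    subst hKbot
    have hGp : IsPGroup p G := IsPGroup.of_equiv P.isPGroup' (eP.trans QuotientGroup.quotientBot)
    -- degrees
    have hdeg : ∀ φ : IrrCharacter G, φ ≠ χ → Cfsg.charDegree (φ : G → ℂ) = 1 := by
      intro φ hφ
      obtain ⟨N, hN⟩ := IsPGroup.iff_card.mp hGp
      obtain ⟨d, -, hdd, hφd⟩ := CharClifford.exists_degree_dvd_card φ.2
      rw [hN] at hdd
      obtain ⟨j, -, rfl⟩ := (Nat.dvd_prime_pow hp).mp hdd
      rw [CharDeep.Deg.degree_of_eq hφd]
      cases j with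
      | zero => rfl
      | succ j =>
        exact absurd (hu φ ((CharDeep.Deg.degree_of_eq hφd).symm ▸ dvd_pow_self p (Nat.succ_ne_zero j))) hφ
    set d := Cfsg.charDegree (χ : G → ℂ) with hddef
    have hd1 : d ≠ 1 := fun h => hp.not_dvd_one (h ▸ hχ)
    set I := (commutator G).index with hI
    have hIcard : (Finset.univ.erase χ).card = I := by
      rw [hI, ← card_linearCharacters, Nat.card_eq_fintype_card, Fintype.card_subtype]
      congr 1
      ext φ
      simp only [Finset.mem_erase, Finset.mem_univ, and_true, Finset.mem_filter, true_and, hd,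
        Nat.cast_eq_one]
      exact ⟨hdeg φ, fun h hφ => hd1 (by rw [hddef, ← hφ]; exact h)⟩
    have hsum : d ^ 2 + I = Nat.card G := by
      have h := sum_degree_sq (G := G)
      rw [← Finset.add_sum_erase _ _ (Finset.mem_univ χ), Finset.sum_congr rfl
        (g := fun _ => (1 : ℂ)) (fun φ hφ => by
          rw [hd φ, hdeg φ (Finset.ne_of_mem_erase hφ)]; norm_num),
        Finset.sum_const, hIcard, nsmul_eq_mul, mul_one, hd χ] at h
      exact_mod_cast h
    obtain ⟨N, hN⟩ := IsPGroup.iff_card.mp hGp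
    obtain ⟨a, haN, ha⟩ := (Nat.dvd_prime_pow hp).mp (hN ▸ (commutator G).index_dvd_card)
    obtain ⟨b, -, hb⟩ : ∃ b ≤ N, d = p ^ b := by
      obtain ⟨d', -, hdd, hχd⟩ := CharClifford.exists_degree_dvd_card χ.2
      obtain ⟨b, hb, rfl⟩ := (Nat.dvd_prime_pow hp).mp (hN ▸ hdd)
      exact ⟨b, hb, CharDeep.Deg.degree_of_eq hχd⟩
    have hb0 : b ≠ 0 := fun h => hd1 (by rw [hb, h, pow_zero])
    rw [hN, hb, hI, ha, ← pow_mul] at hsum
    have hp2 := hp.two_le
    have hab : a = b * 2 ∧ p = 2 ∧ N = a + 1 := by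
      rcases Nat.lt_trichotomy a (b * 2) with h | h | h
      · exfalso
        have e1 : p ^ (a + 1) ∣ p ^ (b * 2) := pow_dvd_pow p h
        have hNa : a + 1 ≤ N := by
          by_contra hle
          have hNeq : N ≤ a := by omega
          have := Nat.pow_le_pow_right hp.pos hNeq
          have := Nat.pow_pos (n := b * 2) hp.pos
          omega
        have e2 : p ^ (a + 1) ∣ p ^ a :=
          (Nat.dvd_add_right e1).mp (hsum ▸ pow_dvd_pow p hNa)
        have := (Nat.pow_dvd_pow_iff_le_right hp.one_lt).mp e2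
        omega
      · subst h
        have hNa : b * 2 < N := by
          by_contra hle
          have := Nat.pow_le_pow_right hp.pos (not_lt.mp hle)
          have := Nat.pow_pos (n := b * 2) hp.pos
          omega
        obtain ⟨r, rfl⟩ := Nat.exists_eq_add_of_lt hNa
        have h2 : p ^ (r + 1) = 2 := by
          refine Nat.eq_of_mul_eq_mul_left (pow_pos hp.pos (b * 2)) ?_
          rw [← pow_add, ← add_assoc]
          linarith [hsum]
        have hp' : p = 2 := (Nat.prime_dvd_prime_iff_eq hp Nat.prime_two).mp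
          (h2 ▸ dvd_pow_self p (Nat.succ_ne_zero r))
        subst hp'
        have := Nat.pow_right_injective (le_refl 2) (h2.trans (pow_one 2).symm)
        exact ⟨rfl, rfl, by omega⟩
      · exfalso
        have e1 : p ^ (b * 2 + 1) ∣ p ^ a := pow_dvd_pow p h
        have hNa : b * 2 + 1 ≤ N := by
          by_contra hle
          have := Nat.pow_le_pow_right hp.pos (show N ≤ b * 2 by omega)
          have := Nat.pow_pos (n := a) hp.pos
          omega
        have e2 : p ^ (b * 2 + 1) ∣ p ^ (b * 2) :=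
          (Nat.dvd_add_left e1).mp (hsum ▸ pow_dvd_pow p hNa)
        have := (Nat.pow_dvd_pow_iff_le_right hp.one_lt).mp e2
        omega
    obtain ⟨hab, rfl, hNa⟩ := hab
    have hD2 : Nat.card (commutator G) = 2 := by
      refine Nat.eq_of_mul_eq_mul_left (pow_pos two_pos a) ?_
      rw [← ha, ← hI, mul_comm, Subgroup.card_mul_index, hN, hI, ha, hNa, pow_succ]
    have hDc : commutator G ≤ Subgroup.center G := by
      intro c hc
      rw [Subgroup.mem_center_iff]
      intro g
      rcases eq_or_ne c 1 with rfl | hc1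
      · simp
      have hgc : g * c * g⁻¹ ∈ commutator G :=
        (inferInstance : (commutator G).Normal).conj_mem c hc g
      haveI := Fintype.ofFinite (commutator G)
      obtain ⟨w, hw⟩ := (Nat.card_eq_two_iff' (⟨1, one_mem _⟩ : commutator G)).mp hD2
      have e1 : (⟨c, hc⟩ : commutator G) = w := hw.2 _ fun h => hc1 (congrArg Subtype.val h)
      have e2 : (⟨_, hgc⟩ : commutator G) = w := hw.2 _ fun h =>
        hc1 (conj_eq_one_iff.mp (congrArg Subtype.val h))
      exact mul_inv_eq_iff_eq_mul.mp (congrArg Subtype.val (e2.trans e1.symm))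
    have hZ : Subgroup.center G = commutator G := by
      refine (Subgroup.eq_of_le_of_card_ge hDc ?_).symm
      obtain ⟨k, ρ, hρ, hρχ⟩ := χ.2
      haveI := hρ
      have hk : (k : ℂ) = (d : ℂ) := by
        rw [← hd χ, ← hρχ, Representation.char_one, Module.finrank_fin_fun]
      have hsc : ∀ z ∈ Subgroup.center G,
          Complex.normSq ((χ : G → ℂ) z) = ((d : ℕ) : ℝ) ^ 2 := by
        intro z hz
        obtain ⟨c, hc⟩ := CharClifford.exists_scalar_of_mem_center ρ hz
        have hn : ‖ρ.character z‖ = (Module.finrank ℂ (Fin k → ℂ) : ℝ) :=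
          (norm_character_eq_iff ρ z).mpr ⟨c, hc⟩
        rw [Complex.normSq_eq_norm_sq, ← hρχ, hn, Module.finrank_fin_fun,
          show k = d by exact_mod_cast hk]
      have h := classInner_irr_self χ
      rw [classInner_def, inv_mul_eq_iff_eq_mul₀ (Nat.cast_ne_zero.mpr Nat.card_pos.ne'),
        mul_one] at h
      simp only [Complex.mul_conj] at h
      have h' : ∑ g : G, Complex.normSq ((χ : G → ℂ) g) = (Nat.card G : ℝ) := by exact_mod_cast h
      have hle : (Nat.card (Subgroup.center G) : ℝ) * ((d : ℕ) : ℝ) ^ 2 ≤ (Nat.card G : ℝ) := by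
        rw [← h', Nat.card_eq_fintype_card, Fintype.card_subtype, ← nsmul_eq_mul, ← Finset.sum_const]
        rw [Finset.sum_congr rfl fun z hz => (hsc z (Finset.mem_filter.mp hz).2).symm]
        exact Finset.sum_le_sum_of_subset_of_nonneg (Finset.filter_subset _ _)
          fun _ _ _ => Complex.normSq_nonneg _
      have hle' : Nat.card (Subgroup.center G) * d ^ 2 ≤ Nat.card G := by exact_mod_cast hle
      rw [hD2]
      rw [hN, hb, ← pow_mul, hNa, hab, pow_succ, mul_comm] at hle'
      exact Nat.le_of_mul_le_mul_left hle' (pow_pos two_pos _)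
    have hc2 : Nat.card (Subgroup.center G) = 2 := hZ ▸ hD2
    refine ⟨rfl, ⟨hGp, le_antisymm (PGroup.frattini_le_of_quotient (p := 2) hDc fun x => ?_) ?_,
      hZ.symm⟩, hc2⟩
    · rw [Subgroup.mem_center_iff]
      intro g
      have hcm : ⁅x, g⁆ ∈ Subgroup.center G := hDc
        (Subgroup.commutator_mem_commutator (Subgroup.mem_top x) (Subgroup.mem_top g))
      have hsq : ⁅x, g⁆ ^ 2 = 1 := by
        have := congrArg Subtype.val (pow_card_eq_one' (x := (⟨_, hcm⟩ : Subgroup.center G)))
        rw [hc2] at this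
        exact this
      have e : ⁅x ^ 2, g⁆ = ⁅x, g⁆ ^ 2 := by
        calc ⁅x ^ 2, g⁆ = x * ⁅x, g⁆ * x⁻¹ * ⁅x, g⁆ := by rw [commutatorElement_def, commutatorElement_def, pow_two]; group
          _ = ⁅x, g⁆ * x * x⁻¹ * ⁅x, g⁆ := by rw [Subgroup.mem_center_iff.mp hcm x]
          _ = ⁅x, g⁆ ^ 2 := by rw [pow_two]; group
      exact (commutatorElement_eq_one_iff_mul_comm.mp (e.trans hsq)).symm
    · rw [hZ]; exact PGroup.commutator_le_frattini hGp
  · rintro ⟨rfl, hX⟩
    obtain ⟨k, hk1, hk⟩ := PGroup.xs_card_pow (p := 2) _ hX rfl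
    obtain ⟨hdeg, hcnt⟩ := Cfsg.Agent.S0894.result 2 k hX hk
    refine (Nat.card_congr (Equiv.subtypeEquivRight fun χ => ?_)).trans hcnt
    have h2 : ((2 : ℕ) : ℂ) ^ k = ((2 ^ k : ℕ) : ℂ) := by push_cast; rfl
    constructor
    · intro hdvd
      rcases hdeg χ with h | h
      · rw [hd χ, Nat.cast_eq_one] at h
        omega
      · exact h
    · intro h
      rw [CharDeep.Deg.degree_of_eq (h.trans h2)]
      exact dvd_pow_self 2 (by omega)

end Cfsg.Agent.S4762
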