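import Cfsg.Statements.S4763
import Cfsg.Agent.CharDeep.OnePDeg.Classes
-- import your own Cfsg.Agent.* helpers here

set_option autoImplicit false
open Cfsg

namespace Cfsg.Agent.S4763

/-- Let p be a prime and G a finite group that is not nilpotent and has a normal p-complement (a normal subgroup of order prime to p and index a power of p). If G has exactly one irreducible complex character of degree divisible by p, then G has exactly one conjugacy class whose size is divisible by p. -/
theorem result {G : Type*} [Group G] [Finite G] (p : ℕ) [Fact p.Prime] (hnil : ¬ Group.IsNilpotent G) (N : Subgroup G) [N.Normal] (hN : (Nat.card N).Coprime p) (hidx : ∃ k : ℕ, N.index = p ^ k) (hone : Nat.card {χ : Cfsg.IrrCharacter G // p ∣ Cfsg.charDegree (χ : G → ℂ)} = 1) : Nat.card {C : ConjClasses G // p ∣ Nat.card C.carrier} = 1 := by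
  classical
  have := Fintype.ofFinite G
  have := Fintype.ofFinite N
  obtain ⟨k, hk⟩ := hidx
  have hne : N ≠ ⊥ := fun h => hnil (by
    rw [h, Subgroup.index_bot] at hk
    exact (IsPGroup.of_card hk).isNilpotent)
  obtain ⟨hs, ⟨α⟩⟩ := Nat.card_eq_one_iff_unique.mp hone
  exact CharDeep.OnePDeg.card_classes N hN hk hne
    (fun χ ψ hχ hψ => congrArg Subtype.val (hs.elim ⟨χ, hχ⟩ ⟨ψ, hψ⟩)) α.1 α.2

end Cfsg.Agent.S4763
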