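import Cfsg.Statements.S4765
import Cfsg.Agent.BC86.SL2Degrees
import Cfsg.Agent.Lib.BlocksDefect.Kernel

set_option autoImplicit false
open Cfsg

namespace Cfsg.Agent.S4765

/-- Let F be a finite field of characteristic p with at least 4 elements. Then PSL(2,F) has exactly one irreducible complex character of degree divisible by p, and its degree is the order of F. -/
theorem result (p : ℕ) [Fact p.Prime] (F : Type*) [Field F] [Fintype F] [CharP F p] (hF : 4 ≤ Fintype.card F) : Nat.card {χ : Cfsg.IrrCharacter (Matrix.ProjectiveSpecialLinearGroup (Fin 2) F) // p ∣ Cfsg.charDegree (χ : Matrix.ProjectiveSpecialLinearGroup (Fin 2) F → ℂ)} = 1 ∧ ∀ χ : Cfsg.IrrCharacter (Matrix.ProjectiveSpecialLinearGroup (Fin 2) F), p ∣ Cfsg.charDegree (χ : Matrix.ProjectiveSpecialLinearGroup (Fin 2) F → ℂ) → Cfsg.charDegree (χ : Matrix.ProjectiveSpecialLinearGroup (Fin 2) F → ℂ) = Fintype.card F := by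
  classical
  set Z := Subgroup.center (Matrix.SpecialLinearGroup (Fin 2) F)
  have hdeg : Cfsg.charDegree (Char2x2.stS : Matrix.SpecialLinearGroup (Fin 2) F → ℂ)
      = Fintype.card F := by
    simp [Cfsg.charDegree, Char2x2.stS_one]
  obtain ⟨ψ, hψ⟩ := BlocksDefect.exists_inflate_eq Z Char2x2.stIrr fun n hn =>
    (BC86.stS_of_mem_center hn).trans Char2x2.stS_one.symm
  have hinfl : ∀ χ : Cfsg.IrrCharacter (Matrix.ProjectiveSpecialLinearGroup (Fin 2) F),
      Cfsg.charDegree (BlocksDefect.inflate Z χ : Matrix.SpecialLinearGroup (Fin 2) F → ℂ)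
        = Cfsg.charDegree (χ : Matrix.ProjectiveSpecialLinearGroup (Fin 2) F → ℂ) := fun χ => by
    simp only [Cfsg.charDegree]
    rfl
  have huniq : ∀ χ : Cfsg.IrrCharacter (Matrix.ProjectiveSpecialLinearGroup (Fin 2) F),
      p ∣ Cfsg.charDegree (χ : Matrix.ProjectiveSpecialLinearGroup (Fin 2) F → ℂ) → χ = ψ := by
    intro χ hχ
    have h := BC86.eq_stIrr_of_dvd p hF (BlocksDefect.inflate Z χ) (hinfl χ ▸ hχ)
    rw [← hψ] at h
    refine Subtype.ext (funext fun x => ?_)
    obtain ⟨g, rfl⟩ := QuotientGroup.mk_surjective x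
    exact congrFun (congrArg Subtype.val h) g
  have hψd : Cfsg.charDegree (ψ : Matrix.ProjectiveSpecialLinearGroup (Fin 2) F → ℂ)
      = Fintype.card F := by
    rw [← hinfl ψ, hψ]; exact hdeg
  refine ⟨?_, fun χ hχ => huniq χ hχ ▸ hψd⟩
  obtain ⟨n, -, hn⟩ := FiniteField.card F p
  exact Nat.card_eq_one_iff_unique.mpr
    ⟨⟨fun a b => Subtype.ext ((huniq a a.2).trans (huniq b b.2).symm)⟩,
      ⟨ψ, hψd ▸ hn ▸ dvd_pow_self p n.ne_zero⟩⟩

end Cfsg.Agent.S4765
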