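import Cfsg.Statements.S4775
import Cfsg.Agent.BC86.Suz.Degrees
import Cfsg.Agent.Lib.RankOne.SzBridge

set_option autoImplicit false
open Cfsg

namespace Cfsg.Agent.S4775

/-- The degree set is transported along an isomorphism. -/
theorem charDegrees_congr {G H : Type*} [Group G] [Group H] [Finite G] [Finite H] (e : G ≃* H) :
    Cfsg.charDegrees G = Cfsg.charDegrees H := by
  ext d
  constructor
  · rintro ⟨χ, rfl⟩
    refine ⟨⟨fun h => (χ : G → ℂ) (e.symm h),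
      CharCore.isIrrCharacter_comp_surjective χ.2 e.symm.toMonoidHom e.symm.surjective⟩, ?_⟩
    obtain ⟨n, -, hn⟩ := CharCore.IsIrrCharacter.exists_degree χ.2
    rw [BC87.charDegree_eq hn, BC87.charDegree_eq (n := n)]
    change (χ : G → ℂ) (e.symm 1) = n
    rw [map_one, hn]
  · rintro ⟨χ, rfl⟩
    refine ⟨⟨fun g => (χ : H → ℂ) (e g),
      CharCore.isIrrCharacter_comp_surjective χ.2 e.toMonoidHom e.surjective⟩, ?_⟩
    obtain ⟨n, -, hn⟩ := CharCore.IsIrrCharacter.exists_degree χ.2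
    rw [BC87.charDegree_eq hn, BC87.charDegree_eq (n := n)]
    change (χ : H → ℂ) (e 1) = n
    rw [map_one, hn]

/-- Let F be a finite field with q = 2^(2m+1) ≥ 8 elements and let S be isomorphic to the Suzuki group over F. Then the vertices of the character degree graph of S are 2 and the primes dividing (q − 1)(q² + 1); the primes dividing (q − 1)(q² + 1) are pairwise adjacent, and 2 is adjacent exactly to the primes dividing q − 1. -/
theorem result (F : Type*) [Field F] [Fintype F] (m : ℕ) (hm : 1 ≤ m) (q : ℕ) (hq : Fintype.card F = q) (hqm : q = 2 ^ (2 * m + 1)) {S : Type*} [Group S] [Finite S] (hS : Nonempty (S ≃* ↥(Cfsg.Lie.Sz F (2 ^ (m + 1))))) : Cfsg.degreePrimes S = {r : ℕ | r.Prime ∧ (r = 2 ∨ r ∣ (q - 1) * (q ^ 2 + 1))} ∧ ∀ r s : ℕ, (Cfsg.degreeGraph S).Adj r s ↔ (r ≠ s ∧ r.Prime ∧ s.Prime ∧ ((r ∣ (q - 1) * (q ^ 2 + 1) ∧ s ∣ (q - 1) * (q ^ 2 + 1)) ∨ (r = 2 ∧ s ∣ q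 - 1) ∨ (s = 2 ∧ r ∣ q - 1))) := by
  classical
  have hF : Fintype.card F = 2 ^ (2 * m + 1) := hq.trans hqm
  haveI : Fintype (Cfsg.Sz F m) := Fintype.ofFinite _
  obtain ⟨e⟩ := hS
  have hcd : Cfsg.charDegrees S = Cfsg.charDegrees (Cfsg.Sz F m) :=
    charDegrees_congr (e.trans (Cfsg.Agent.RankOne.SzBridge.szEquiv hF hm).symm)
  obtain ⟨hall, ⟨χS, hS2⟩, ⟨χI, hI⟩, ⟨χW, hW⟩, hR⟩ := BC86.Suz.degrees hF hm
  rw [hq] at hall hS2 hI hW hR
  have h8 : 8 ≤ q := by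
    rw [hqm]; exact le_trans (by norm_num) (Nat.pow_le_pow_right (by norm_num) (show 3 ≤ 2 * m + 1 by omega))
  have hev : Even q := by rw [hqm]; simp [Nat.even_pow]
  have hq1o : Odd (q - 1) := Nat.Even.sub_odd (by omega) hev odd_one
  have hq2o : Odd (q ^ 2 + 1) := (hev.pow_of_ne_zero two_ne_zero).add_one
  have hmem : ∀ χ : Cfsg.IrrCharacter (Cfsg.Sz F m),
      Cfsg.charDegree (χ : Cfsg.Sz F m → ℂ) ∈ Cfsg.charDegrees S :=
    fun χ => hcd ▸ (⟨χ, rfl⟩ : _ ∈ Cfsg.charDegrees (Cfsg.Sz F m))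
  have h2q : ∀ r : ℕ, r.Prime → r ∣ q → r = 2 := fun r hr h => by
    rw [hqm] at h
    exact (Nat.prime_dvd_prime_iff_eq hr Nat.prime_two).1 (hr.dvd_of_dvd_pow h)
  -- the degrees as seen in `S`
  have hdeg : ∀ d ∈ Cfsg.charDegrees S, d = 1 ∨ d = q ^ 2 ∨ d = q ^ 2 + 1 ∨
      (∃ X, Odd X ∧ d = (q - 1) * X) ∨ d = (q - 1) * 2 ^ m := by
    rw [hcd]
    rintro d ⟨χ, rfl⟩
    exact hall χ
  have hprime : ∀ d ∈ Cfsg.charDegrees S, ∀ r : ℕ, r.Prime → r ∣ d →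
      r = 2 ∨ r ∣ (q - 1) * (q ^ 2 + 1) := by
    rw [hcd]
    rintro d ⟨χ, rfl⟩ r hr hrd
    have hdvd := hrd.trans (BC87.charDegree_dvd_card χ)
    rw [Suzuki.card_Sz hF hm, ← hF, hq, mul_assoc] at hdvd
    rcases hr.dvd_mul.1 hdvd with h | h
    · exact Or.inl (h2q r hr (hr.dvd_of_dvd_pow h))
    · exact Or.inr (by rwa [mul_comm])
  -- an even degree is prime to `q ^ 2 + 1`
  have heven : ∀ d ∈ Cfsg.charDegrees S, 2 ∣ d → ∀ r : ℕ, r.Prime → r ∣ d → r = 2 ∨ r ∣ q - 1 := by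
    intro d hd h2 r hr hrd
    rcases hdeg d hd with rfl | rfl | rfl | ⟨X, hX, rfl⟩ | rfl
    · omega
    · exact Or.inl (h2q r hr (hr.dvd_of_dvd_pow hrd))
    · exact absurd h2 (Nat.two_dvd_ne_zero.2 (Nat.odd_iff.1 hq2o))
    · exact absurd h2 (Nat.two_dvd_ne_zero.2 (Nat.odd_iff.1 (hq1o.mul hX)))
    · rcases hr.dvd_mul.1 hrd with h | h
      · exact Or.inr h
      · exact Or.inl ((Nat.prime_dvd_prime_iff_eq hr Nat.prime_two).1 (hr.dvd_of_dvd_pow h))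
  refine ⟨?_, fun r s => ?_⟩
  · ext r
    simp only [Cfsg.degreePrimes, Set.mem_ofPred_eq]
    refine ⟨fun ⟨hr, d, hd, hrd⟩ => ⟨hr, hprime d hd r hr hrd⟩, fun ⟨hr, h⟩ => ⟨hr, ?_⟩⟩
    rcases h with rfl | h
    · exact ⟨_, hmem χS, hS2 ▸ dvd_pow (even_iff_two_dvd.1 hev) two_ne_zero⟩
    · rcases hr.dvd_mul.1 h with h | h
      · exact ⟨_, hmem χW, hW ▸ h.mul_right _⟩
      · exact ⟨_, hmem χI, hI ▸ h⟩
  constructor
  · rintro ⟨hne, hr, hs, d, hd, hdd⟩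
    refine ⟨hne, hr, hs, ?_⟩
    have hrd := (dvd_mul_right r s).trans hdd
    have hsd := (dvd_mul_left s r).trans hdd
    by_cases hr2 : r = 2
    · subst hr2
      exact Or.inr (Or.inl ⟨rfl, (heven d hd hrd s hs hsd).resolve_left (fun h => hne h.symm)⟩)
    by_cases hs2 : s = 2
    · subst hs2
      exact Or.inr (Or.inr ⟨rfl, (heven d hd hsd r hr hrd).resolve_left hne⟩)
    exact Or.inl ⟨(hprime d hd r hr hrd).resolve_left hr2, (hprime d hd s hs hsd).resolve_left hs2⟩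
  · rintro ⟨hne, hr, hs, h⟩
    refine ⟨hne, hr, hs, ?_⟩
    have hcop : Nat.Coprime r s := (Nat.coprime_primes hr hs).2 hne
    have hgo : ∀ χ : Cfsg.IrrCharacter (Cfsg.Sz F m), r ∣ Cfsg.charDegree (χ : Cfsg.Sz F m → ℂ) →
        s ∣ Cfsg.charDegree (χ : Cfsg.Sz F m → ℂ) → ∃ d ∈ Cfsg.charDegrees S, r * s ∣ d :=
      fun χ h1 h2 => ⟨_, hmem χ, hcop.mul_dvd_of_dvd_of_dvd h1 h2⟩
    have h2W : 2 ∣ (q - 1) * 2 ^ m := (dvd_pow_self 2 (by omega)).mul_left _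
    rcases h with ⟨h1, h2⟩ | ⟨rfl, h2⟩ | ⟨rfl, h1⟩
    · rcases hr.dvd_mul.1 h1 with a | a <;> rcases hs.dvd_mul.1 h2 with b | b
      · exact hgo χW (hW ▸ a.mul_right _) (hW ▸ b.mul_right _)
      · obtain ⟨χ, c1, c2⟩ := hR s hs b
        exact hgo χ (a.trans c2) c1
      · obtain ⟨χ, c1, c2⟩ := hR r hr a
        exact hgo χ c1 (b.trans c2)
      · exact hgo χI (hI ▸ a) (hI ▸ b)
    · exact hgo χW (hW ▸ h2W) (hW ▸ h2.mul_right _)
    · exact hgo χW (hW ▸ h1.mul_right _) (hW ▸ h2W)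

end Cfsg.Agent.S4775
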