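import Cfsg.Statements.S4796
import Cfsg.Agent.BC86.Codegree
import Cfsg.Agent.BC86.Vanish
import Cfsg.Agent.Lib.Frobenius.Basic
import Mathlib.GroupTheory.Sylow
import Mathlib.GroupTheory.SchurZassenhaus

set_option autoImplicit false
open Cfsg

namespace Cfsg.Agent.S4796

/-- Let G be a finite group with a faithful irreducible complex character χ whose codegree #G / χ(1) is a prime p (for a faithful character the kernel is trivial, so the codegree is #G / χ(1)). Then either G is cyclic of order p, or G is a Frobenius group whose Frobenius kernel has order p: some proper non-trivial subgroup H satisfies H ∩ gHg⁻¹ = 1 for every element g outside H, and the set of elements lying in no conjugate of H, together with the identity, has exactly p elements. -/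
theorem result {G : Type*} [Group G] [Finite G] (χ : Cfsg.IrrCharacter G) (hfaith : ∀ g : G, (χ : G → ℂ) g = (χ : G → ℂ) 1 → g = 1) (p : ℕ) (hp : p.Prime) (hcod : Nat.card G = p * Cfsg.charDegree (χ : G → ℂ)) : (IsCyclic G ∧ Nat.card G = p) ∨ ∃ H : Subgroup G, Cfsg.IsFrobeniusComplement H ∧ Nat.card ↥(Cfsg.frobeniusKernel H) = p := by
  classical
  set d := Cfsg.charDegree (χ : G → ℂ) with hd
  have hd0 : 0 < d := BC86.charDegree_pos χ
  have := Fact.mk hp
  have := Fintype.ofFinite G
  have hχ1 : (χ : G → ℂ) ≠ 1 := by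
    intro h
    have : Subsingleton G := ⟨fun a b => by
      rw [hfaith a (by simp [h]), hfaith b (by simp [h])]⟩
    have hd1 : d = 1 := by simp [hd, Cfsg.charDegree, h]
    rw [Nat.card_unique, hd1, mul_one] at hcod
    exact hp.ne_one hcod.symm
  have hlt : d < p := by
    have := BC86.degree_sq_lt χ hχ1
    rw [← hd, hcod, pow_two] at this
    exact Nat.lt_of_mul_lt_mul_right this
  rcases eq_or_ne d 1 with hd1 | hd1
  · rw [hd1, mul_one] at hcod
    exact Or.inl ⟨isCyclic_of_prime_card hcod, hcod⟩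
  refine Or.inr ?_
  have hpd : ¬ p ∣ d := fun h => (Nat.le_of_dvd hd0 h).not_gt hlt
  obtain ⟨P, hP⟩ : ∃ P : Sylow p G, Nat.card P = p := by
    obtain ⟨P⟩ : Nonempty (Sylow p G) := inferInstance
    refine ⟨P, P.card_eq_multiplicity.trans ?_⟩
    rw [hcod, Nat.factorization_mul hp.ne_zero hd0.ne', Finsupp.add_apply,
      hp.factorization_self, Nat.factorization_eq_zero_of_not_dvd hpd, add_zero, pow_one]
  have hindex : (P : Subgroup G).index = d := by
    have h := (P : Subgroup G).card_mul_index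
    rw [hP, hcod] at h
    exact Nat.eq_of_mul_eq_mul_left hp.pos h
  have hnormal : (P : Subgroup G).Normal := by
    have h1 : Nat.card (Sylow p G) ∣ d := hindex ▸ P.card_dvd_index
    have h2 := card_sylow_modEq_one p G
    have h3 : Nat.card (Sylow p G) = 1 := by
      have h4 := lt_of_le_of_lt (Nat.le_of_dvd hd0 h1) hlt
      rw [Nat.ModEq, Nat.mod_eq_of_lt h4, Nat.mod_eq_of_lt hp.one_lt] at h2
      exact h2
    have := (Nat.card_eq_one_iff_unique.mp h3).1
    exact Sylow.normal_of_subsingleton P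
  have hvan : ∀ g : G, g ∉ (P : Subgroup G) → (χ : G → ℂ) g = 0 := by
    intro g hg
    set e := orderOf (QuotientGroup.mk' (P : Subgroup G) g) with he
    have he1 : e ≠ 1 := fun h => hg ((QuotientGroup.eq_one_iff g).mp (orderOf_eq_one_iff.mp h))
    have hed : e ∣ d := hindex ▸ orderOf_dvd_natCard _
    have hq := Nat.minFac_prime he1
    have hqd : e.minFac ∣ d := (Nat.minFac_dvd e).trans hed
    refine BC86.apply_eq_zero_of_dvd_orderOf hq χ ?_
      ((Nat.minFac_dvd e).trans (orderOf_map_dvd _ g))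
    rw [← hd, hcod, Nat.mul_div_cancel _ hd0]
    intro h
    exact hpd (((Nat.prime_dvd_prime_iff_eq hq hp).mp h) ▸ hqd)
  have hsum : ∀ C : Subgroup G, (P : Subgroup G) ≤ C →
      Cfsg.classInner (fun x : C => (χ : G → ℂ) x) (fun x : C => (χ : G → ℂ) x)
        = (Nat.card C : ℂ)⁻¹ * ((p * d : ℕ) : ℂ) := by
    intro C hC
    have h1 := CharCore.classInner_irr_self χ
    unfold Cfsg.classInner at h1 ⊢
    rw [inv_mul_eq_one₀ (Nat.cast_ne_zero.mpr Nat.card_pos.ne'), hcod] at h1
    rw [h1]
    congr 1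
    refine (Finset.sum_subtype (Finset.univ.filter (· ∈ C)) (by simp)
      (fun g : G => (χ : G → ℂ) g * (starRingEnd ℂ) ((χ : G → ℂ) g))).symm.trans ?_
    refine Finset.sum_subset (Finset.subset_univ _) fun g _ hg => ?_
    have hgC : g ∉ C := by simpa using hg
    rw [hvan g fun h => hgC (hC h), zero_mul]
  set C := Subgroup.centralizer ((P : Subgroup G) : Set G) with hCdef
  have hcyc : IsCyclic P := isCyclic_of_prime_card hP
  have hPC : (P : Subgroup G) ≤ C := fun x hx y hy =>
    congrArg Subtype.val (hcyc.commGroup.mul_comm ⟨y, hy⟩ ⟨x, hx⟩)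
  have hC : Nat.card C = p := by
    obtain ⟨n, hn⟩ := CharCore.IsCharacter.exists_sum
      (CharCore.isCharacter_restrict (CharCore.irr_isCharacter χ) C)
    have hk : ∀ ψ φ : Cfsg.IrrCharacter C, ∃ k : ℕ,
        Cfsg.classInner (fun x : (P : Subgroup G) => (ψ : C → ℂ) (Subgroup.inclusion hPC x))
          (fun x => (φ : C → ℂ) (Subgroup.inclusion hPC x)) = (k : ℂ) := fun ψ φ =>
      CharCore.IsCharacter.exists_classInner_eq_natCast
        (CharCore.isCharacter_comp (CharCore.irr_isCharacter ψ) _)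
        (CharCore.isCharacter_comp (CharCore.irr_isCharacter φ) _)
    choose k hk using hk
    have hkk : ∀ ψ : Cfsg.IrrCharacter C, k ψ ψ = Cfsg.charDegree (ψ : C → ℂ) ^ 2 := by
      intro ψ
      have h := hk ψ ψ
      rw [Cfsg.classInner, Finset.sum_congr rfl fun x _ => BC86.apply_mul_conj_of_mem_center ψ
        (z := Subgroup.inclusion hPC x) ?_] at h
      · rw [Finset.sum_const, Finset.card_univ, nsmul_eq_mul, ← Nat.card_eq_fintype_card,
          ← mul_assoc, inv_mul_cancel₀ (Nat.cast_ne_zero.mpr Nat.card_pos.ne'), one_mul,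
          ← BC86.charDegree_cast] at h
        exact_mod_cast h.symm
      · exact Subgroup.mem_center_iff.mpr fun c => Subtype.ext (c.2 x x.2).symm
    have hdeg : ∑ ψ, n ψ * Cfsg.charDegree (ψ : C → ℂ) = d := by
      have h : (χ : G → ℂ) 1 = _ := congrFun hn 1
      rw [← BC86.charDegree_cast, ← hd] at h
      simp only [Finset.sum_apply, Pi.smul_apply, smul_eq_mul, ← BC86.charDegree_cast] at h
      exact_mod_cast h.symm
    have hP2 : ∑ ψ, ∑ φ, n ψ * n φ * k ψ φ = d := by
      have h := hsum P le_rfl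
      have hPfun : (fun x : (P : Subgroup G) => (χ : G → ℂ) x) = ∑ ψ : Cfsg.IrrCharacter C,
          (n ψ : ℂ) • fun x : (P : Subgroup G) => (ψ : C → ℂ) (Subgroup.inclusion hPC x) := by
        funext x
        simpa using congrFun hn (Subgroup.inclusion hPC x)
      rw [hPfun, CharCore.classInner_sum_left] at h
      simp only [CharCore.classInner_sum_right, CharCore.classInner_smul_left,
        CharCore.classInner_smul_right, hk, map_natCast] at h
      rw [hP, Nat.cast_mul, inv_mul_cancel_left₀ (Nat.cast_ne_zero.mpr hp.ne_zero)] at h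
      simp only [← mul_assoc] at h
      have h' : ∑ ψ, ∑ φ, n φ * n ψ * k ψ φ = d := by exact_mod_cast h
      exact (Finset.sum_congr rfl fun ψ _ => Finset.sum_congr rfl fun φ _ => by
        rw [Nat.mul_comm (n ψ)]).trans h' 
    have hle : ∑ ψ, (n ψ * Cfsg.charDegree (ψ : C → ℂ)) ^ 2
        ≤ ∑ ψ, n ψ * Cfsg.charDegree (ψ : C → ℂ) := by
      rw [hdeg, ← hP2]
      refine Finset.sum_le_sum fun ψ _ => ?_
      refine le_trans (le_of_eq ?_)
        (Finset.single_le_sum (fun φ _ => Nat.zero_le _) (Finset.mem_univ ψ))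
      rw [hkk]; ring
    have hx : ∀ ψ, (n ψ * Cfsg.charDegree (ψ : C → ℂ)) ^ 2
        = n ψ * Cfsg.charDegree (ψ : C → ℂ) := fun ψ =>
      ((Finset.sum_eq_sum_iff_of_le fun φ _ => Nat.le_self_pow two_ne_zero _).mp
        (le_antisymm (Finset.sum_le_sum fun φ _ => Nat.le_self_pow two_ne_zero _) hle)
        ψ (Finset.mem_univ ψ)).symm
    have hsq : ∑ ψ, n ψ * n ψ = d := by
      rw [← hdeg]
      refine Finset.sum_congr rfl fun ψ _ => ?_
      rcases Nat.eq_zero_or_pos (n ψ * Cfsg.charDegree (ψ : C → ℂ)) with h | h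
      · rcases Nat.mul_eq_zero.mp h with h | h
        · simp [h]
        · exact absurd h (BC86.charDegree_ne_zero ψ)
      · have h2 : n ψ * Cfsg.charDegree (ψ : C → ℂ) = 1 := by
          have := hx ψ; rw [pow_two] at this
          exact Nat.eq_of_mul_eq_mul_left h (this.trans (mul_one _).symm)
        obtain ⟨h3, h4⟩ := mul_eq_one.mp h2
        rw [h3, h4]
    have h := hsum C hPC
    have hCfun : (fun x : C => (χ : G → ℂ) x) =
        ∑ ψ : Cfsg.IrrCharacter C, (n ψ : ℂ) • (ψ : C → ℂ) := hn
    rw [hCfun, CharCore.classInner_sum_sum] at h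
    simp only [map_natCast] at h
    rw [show (∑ ψ, (n ψ : ℂ) * (n ψ : ℂ)) = (d : ℂ) by exact_mod_cast hsq,
      eq_inv_mul_iff_mul_eq₀ (Nat.cast_ne_zero.mpr Nat.card_pos.ne')] at h
    exact Nat.eq_of_mul_eq_mul_right hd0 (by exact_mod_cast h)
  have hCP : C = (P : Subgroup G) :=
    (Subgroup.eq_of_le_of_card_ge hPC (by rw [hP, hC])).symm
  obtain ⟨H, hH⟩ := Subgroup.exists_right_complement'_of_coprime
    (N := (P : Subgroup G)) (by rw [hP, hindex]; exact hp.coprime_iff_not_dvd.mpr hpd)
  have hFrob : Cfsg.IsFrobeniusComplement H := by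
    refine Frobenius.isFrobeniusComplement_of_fixedPointFree hH ?_ ?_ ?_
    · intro h
      have := Subgroup.card_eq_one.mpr h
      rw [hP] at this
      exact hp.ne_one this
    · intro h
      have := hH.card_mul_card
      rw [hP, hcod, Subgroup.card_eq_one.mpr h] at this
      exact hd1 (Nat.eq_of_mul_eq_mul_left hp.pos this).symm
    · intro h hh hh1
      rw [Subgroup.eq_bot_iff_forall]
      rintro u ⟨hu, huh⟩
      by_contra hu1
      refine hh1 (Subgroup.mem_bot.mp (hH.disjoint.le_bot ⟨?_, hh⟩))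
      rw [← hCP]
      intro y hy
      have hgen : Subgroup.zpowers (⟨u, hu⟩ : (P : Subgroup G)) = ⊤ :=
        zpowers_eq_top_of_prime_card hP (by simpa [Subtype.ext_iff] using hu1)
      obtain ⟨j, hj⟩ := (hgen ▸ Subgroup.mem_top (⟨y, hy⟩ : (P : Subgroup G)) :
        (⟨y, hy⟩ : (P : Subgroup G)) ∈ Subgroup.zpowers (⟨u, hu⟩ : (P : Subgroup G)))
      have hj' : u ^ j = y := by simpa using congrArg Subtype.val hj
      rw [← hj']
      exact ((show Commute u h from Subgroup.mem_centralizer_singleton_iff.mp huh).zpow_left j).eq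
  refine ⟨H, hFrob, ?_⟩
  rw [← Frobenius.coe_eq_frobeniusKernel hH hFrob]
  exact hP

end Cfsg.Agent.S4796
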