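import Cfsg.Statements.S4797
import Cfsg.Agent.BC86.Codegree
import Mathlib.GroupTheory.Transfer
import Mathlib.GroupTheory.Sylow
import Mathlib.GroupTheory.SpecificGroups.Cyclic

set_option autoImplicit false
open Cfsg

namespace Cfsg.Agent.S4797

/-- The codegree of an irreducible complex character χ of a finite group G is [G : ker χ] / χ(1), where ker χ is the set of elements at which χ takes the value χ(1). A non-trivial finite group is perfect if and only if no irreducible complex character of it has prime codegree. -/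
theorem result {G : Type*} [Group G] [Finite G] [Nontrivial G] : commutator G = ⊤ ↔ ∀ χ : Cfsg.IrrCharacter G, ¬ ((Nat.card G / (Nat.card {g : G // (χ : G → ℂ) g = (χ : G → ℂ) 1} * Cfsg.charDegree (χ : G → ℂ)))).Prime := by
  classical
  constructor
  · intro hperf χ hprime
    have hN1 := BC86.card_kernel_mul_degree_dvd χ
    set N := CharCore.charKernel (CharCore.irr_isCharacter χ) with hN
    obtain ⟨ψ, -, hirr, hval⟩ :=
      CharCore.IsCharacter.exists_quotient (CharCore.irr_isCharacter χ) N fun k hk => hk
    let ψ' : Cfsg.IrrCharacter (G ⧸ N) := ⟨ψ, hirr χ.2⟩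
    have hd : Cfsg.charDegree (ψ' : G ⧸ N → ℂ) = Cfsg.charDegree (χ : G → ℂ) := by
      simp only [Cfsg.charDegree]; rw [hval 1, map_one]
    set d := Cfsg.charDegree (χ : G → ℂ) with hdd
    have hd0 : 0 < d := BC86.charDegree_pos χ
    set p := Nat.card G / (Nat.card {g : G // (χ : G → ℂ) g = (χ : G → ℂ) 1} * d) with hp
    have := Fact.mk hprime
    have hcardQ : Nat.card (G ⧸ N) = p * d := by
      have h1 := BC86.codegree_mul χ
      have h2 := Subgroup.card_eq_card_quotient_mul_card_subgroup N
      have h3 : Nat.card {g : G // (χ : G → ℂ) g = (χ : G → ℂ) 1} = Nat.card N := rfl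
      rw [← hdd, ← hp, h3, h2] at h1
      exact Nat.eq_of_mul_eq_mul_right (Nat.card_pos (α := N))
        (by rw [← h1]; ring)
    have hperfQ : commutator (G ⧸ N) = ⊤ := by
      rw [eq_top_iff]
      rintro x -
      obtain ⟨g, rfl⟩ := QuotientGroup.mk'_surjective N x
      have := BC86.hom_eq_one_of_perfect hperf
        ((Abelianization.of).comp (QuotientGroup.mk' N)) g
      rwa [MonoidHom.comp_apply, ← MonoidHom.mem_ker, Abelianization.ker_of] at this
    have hψ1 : (ψ' : G ⧸ N → ℂ) ≠ 1 := by
      intro h
      have h' : ∀ g, (χ : G → ℂ) g = 1 := fun g => by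
        rw [hval g]; exact congrFun h _
      have hc : Nat.card {g : G // (χ : G → ℂ) g = (χ : G → ℂ) 1} = Nat.card G :=
        Nat.card_congr (Equiv.subtypeUnivEquiv fun g => (h' g).trans (h' 1).symm)
      have hd1 : d = 1 := by
        rw [← hd]; simp [Cfsg.charDegree, h]
      rw [hp, hc, hd1, mul_one, Nat.div_self Nat.card_pos] at hprime
      exact Nat.not_prime_one hprime
    have hlt : d < p := by
      have := BC86.degree_sq_lt ψ' hψ1
      rw [hd, hcardQ, pow_two] at this
      exact Nat.lt_of_mul_lt_mul_right this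
    have hpd : ¬ p ∣ d := fun h => (Nat.le_of_dvd hd0 h).not_gt hlt
    obtain ⟨P, hP⟩ : ∃ P : Sylow p (G ⧸ N), Nat.card P = p := by
      obtain ⟨P⟩ : Nonempty (Sylow p (G ⧸ N)) := inferInstance
      refine ⟨P, P.card_eq_multiplicity.trans ?_⟩
      rw [hcardQ, Nat.factorization_mul hprime.ne_zero hd0.ne', Finsupp.add_apply,
        hprime.factorization_self, Nat.factorization_eq_zero_of_not_dvd hpd, add_zero, pow_one]
    have hindex : (P : Subgroup (G ⧸ N)).index = d := by
      have h := (P : Subgroup (G ⧸ N)).card_mul_index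
      rw [hP, hcardQ] at h
      exact Nat.eq_of_mul_eq_mul_left hprime.pos h
    have hnormal : (P : Subgroup (G ⧸ N)).Normal := by
      have h1 : Nat.card (Sylow p (G ⧸ N)) ∣ d := hindex ▸ P.card_dvd_index
      have h2 := card_sylow_modEq_one p (G ⧸ N)
      have h3 : Nat.card (Sylow p (G ⧸ N)) = 1 := by
        have h4 := lt_of_le_of_lt (Nat.le_of_dvd hd0 h1) hlt
        rw [Nat.ModEq, Nat.mod_eq_of_lt h4, Nat.mod_eq_of_lt hprime.one_lt] at h2
        exact h2
      have := (Nat.card_eq_one_iff_unique.mp h3).1
      exact Sylow.normal_of_subsingleton P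
    have hcyc : IsCyclic P := isCyclic_of_prime_card hP
    have hcentral : (P : Subgroup (G ⧸ N)) ≤ Subgroup.center (G ⧸ N) := by
      intro x hx
      refine Subgroup.mem_center_iff.mpr fun g => ?_
      have h := BC86.hom_eq_one_of_perfect hperfQ
        ((IsCyclic.mulAutMulEquiv P).toMonoidHom.comp
          (MulAut.conjNormal (H := (P : Subgroup (G ⧸ N))))) g
      simp only [MonoidHom.comp_apply, MulEquiv.coe_toMonoidHom, EmbeddingLike.map_eq_one_iff] at h
      have h2 : g * x * g⁻¹ = x := by
        simpa using congrArg (Subtype.val) (DFunLike.congr_fun h ⟨x, hx⟩)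
      exact mul_inv_eq_iff_eq_mul.mp h2
    obtain ⟨z, hz⟩ : ∃ z : P, orderOf z = p := by
      obtain ⟨z, hz⟩ := hcyc.exists_ofOrder_eq_natCard
      exact ⟨z, hz.trans hP⟩
    have hpow := congrArg Subtype.val
      (BC86.hom_eq_one_of_perfect' hperfQ
        (fun a b => Subtype.ext (Subgroup.mem_center_iff.mp b.2 a.1))
        (MonoidHom.transferCenterPow (G ⧸ N)) z.1)
    rw [MonoidHom.transferCenterPow_apply, OneMemClass.coe_one, ← orderOf_dvd_iff_pow_eq_one,
      Subgroup.orderOf_coe, hz] at hpow
    exact hpd (hpow.trans (hindex ▸ Subgroup.index_dvd_of_le hcentral))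
  · intro h
    by_contra hne
    have hcard : 1 < Nat.card (G →* ℂˣ) := by
      rw [Nat.card_congr CharCore.linearEquivHom, CharCore.card_linearCharacters]
      exact Subgroup.one_lt_index_of_ne_top hne
    obtain ⟨f, hf⟩ : ∃ f : G →* ℂˣ, f ≠ 1 := by
      by_contra hall
      push Not at hall
      have : Subsingleton (G →* ℂˣ) := ⟨fun a b => (hall a).trans (hall b).symm⟩
      rw [Nat.card_unique] at hcard
      exact lt_irrefl _ hcard
    have : Finite f.range := Finite.of_surjective _ f.rangeRestrict_surjective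
    obtain ⟨z, hz⟩ := IsCyclic.exists_generator (α := f.range)
    set m := orderOf z with hm
    have hm1 : m ≠ 1 := by
      intro h1
      rw [hm, orderOf_eq_one_iff] at h1
      refine hf (MonoidHom.ext fun g => ?_)
      have := hz ⟨f g, g, rfl⟩
      rw [h1, Subgroup.zpowers_one_eq_bot, Subgroup.mem_bot] at this
      exact congrArg Subtype.val this
    have hm0 : 0 < m := orderOf_pos z
    set q := m.minFac with hq
    have hqp : q.Prime := Nat.minFac_prime hm1
    let f' : G →* ℂˣ := (powMonoidHom (m / q)).comp f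
    have hrange : Nat.card f'.range = q := by
      have h1 : f'.range = Subgroup.zpowers ((z : ℂˣ) ^ (m / q)) := by
        rw [MonoidHom.range_comp]
        have h2 : f.range = Subgroup.zpowers (z : ℂˣ) := by
          ext x
          constructor
          · intro hx
            obtain ⟨k, hk⟩ := hz ⟨x, hx⟩
            exact ⟨k, by simpa using congrArg Subtype.val hk⟩
          · rintro ⟨k, rfl⟩
            exact zpow_mem z.2 k
        refine (congrArg (Subgroup.map (powMonoidHom (m / q))) h2).trans ?_
        rw [MonoidHom.map_zpowers, powMonoidHom_apply]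
      rw [h1, Nat.card_zpowers, orderOf_pow' _ (Nat.div_pos (Nat.minFac_le hm0) hqp.pos).ne',
        Subgroup.orderOf_coe, ← hm, Nat.gcd_eq_right (Nat.div_dvd_of_dvd (Nat.minFac_dvd m)),
        Nat.div_div_self (Nat.minFac_dvd m) hm0.ne']
    let χ : Cfsg.IrrCharacter G := ⟨_, CharCore.isIrrCharacter_hom f'⟩
    refine h χ ?_
    have hd : Cfsg.charDegree (χ : G → ℂ) = 1 := by simp [Cfsg.charDegree, χ]
    have hk : Nat.card {g : G // (χ : G → ℂ) g = (χ : G → ℂ) 1} = Nat.card f'.ker :=
      Nat.card_congr (Equiv.subtypeEquivRight fun g => by simp [χ])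
    rw [hd, hk, mul_one, ← f'.ker.card_mul_index, Nat.mul_div_cancel_left _ Nat.card_pos,
      Subgroup.index_ker, hrange]
    exact hqp

end Cfsg.Agent.S4797
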