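import Cfsg.Statements.S4798
import Cfsg.Agent.BC86.Constituent
import Cfsg.Agent.Lib.CharInd.Char
import Mathlib.GroupTheory.Sylow

set_option autoImplicit false
open Cfsg

namespace Cfsg.Agent.S4798

/-- Let p be a prime and χ a faithful irreducible complex character of the finite group G (χ(g) = χ(1) only for g = 1), so that its codegree is #G / χ(1). Then #G / χ(1) is a power of p if and only if χ is induced from a character of a Sylow p-subgroup of G. -/
theorem result {G : Type*} [Group G] [Fintype G] (p : ℕ) [Fact p.Prime] (χ : Cfsg.IrrCharacter G) (hfaith : ∀ g : G, (χ : G → ℂ) g = (χ : G → ℂ) 1 → g = 1) : (∃ k : ℕ, Nat.card G = p ^ k * Cfsg.charDegree (χ : G → ℂ)) ↔ ∃ (P : Sylow p G) (θ : ↥(P : Subgroup G) → ℂ), Cfsg.IsCharacter ↥(P : Subgroup G) θ ∧ (χ : G → ℂ) = Cfsg.indFun (P : Subgroup G) θ := by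
  classical
  have hp : p.Prime := Fact.out
  constructor
  · rintro ⟨k, hk⟩
    obtain ⟨P⟩ : Nonempty (Sylow p G) := inferInstance
    set d := Cfsg.charDegree (χ : G → ℂ) with hd
    have hd0 : d ≠ 0 := BC86.charDegree_ne_zero χ
    set e := d.factorization p with he
    have hidx : d = (P : Subgroup G).index * p ^ e := by
      have h1 := (P : Subgroup G).card_mul_index
      rw [P.card_eq_multiplicity] at h1
      have hfac : (Nat.card G).factorization p = k + e := by
        rw [hk, Nat.factorization_mul (pow_ne_zero _ hp.ne_zero) hd0, Finsupp.add_apply,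
          Nat.factorization_pow, Finsupp.smul_apply, hp.factorization_self, smul_eq_mul, mul_one]
      rw [hfac, pow_add] at h1
      refine Nat.eq_of_mul_eq_mul_left (pow_pos hp.pos k) ?_
      rw [← hk, ← h1]; ring
    obtain ⟨θ, hθ, hθd⟩ := BC86.exists_constituent_not_dvd (n := d) (q := p ^ (e + 1))
      (CharCore.isCharacter_restrict (CharCore.irr_isCharacter χ) (P : Subgroup G))
      (by simp [hd, BC86.charDegree_cast]) (Nat.pow_succ_factorization_not_dvd hd0 hp)
    refine ⟨P, θ, CharCore.irr_isCharacter θ, ?_⟩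
    obtain ⟨i, -, hi⟩ := (Nat.dvd_prime_pow hp).mp
      (P.card_eq_multiplicity ▸ BC86.degree_dvd_card θ)
    have hie : i ≤ e := by
      by_contra h
      exact hθd (hi ▸ pow_dvd_pow p (by omega))
    refine (BC86.eq_of_classInner_ne_zero_of_degree_le
      (CharInd.isCharacter_indFun (P : Subgroup G) (CharCore.irr_isCharacter θ)) χ
      (n := (P : Subgroup G).index * p ^ i) ?_ ?_ ?_).symm
    · rw [CharInd.classInner_indFun_left _ _ (CharCore.irr_isClassFunction χ)]
      intro h
      apply hθ
      rw [← CharInd.classInner_swap, h, map_zero]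
    · rw [CharInd.indFun_apply_one, ← BC86.charDegree_cast, hi]
      push_cast; ring
    · rw [← hd, hidx]
      exact Nat.mul_le_mul_left _ (Nat.pow_le_pow_right hp.pos hie)
  · rintro ⟨P, θ, hθ, hχ⟩
    obtain ⟨t, ht⟩ := CharCore.IsCharacter.exists_degree hθ
    have h1 : Cfsg.charDegree (χ : G → ℂ) = (P : Subgroup G).index * t := by
      have h := BC86.charDegree_cast χ
      rw [congrFun hχ 1, CharInd.indFun_apply_one, ht] at h
      exact_mod_cast h
    obtain ⟨c, hc⟩ := BC86.degree_dvd_card χ
    have h2 := (P : Subgroup G).card_mul_index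
    have hcP : c ∣ Nat.card P := by
      refine ⟨t, Nat.eq_of_mul_eq_mul_right (Nat.pos_of_ne_zero
        (Subgroup.index_ne_zero_of_finite (H := (P : Subgroup G)))) ?_⟩
      rw [h2, hc, h1]; ring
    obtain ⟨i, -, hi⟩ := (Nat.dvd_prime_pow hp).mp (P.card_eq_multiplicity ▸ hcP)
    exact ⟨i, by rw [hc, hi, mul_comm]⟩

end Cfsg.Agent.S4798
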