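import Cfsg.Statements.S4801
import Cfsg.Agent.BC86.Codegree
import Cfsg.Agent.Lib.CharCore.Complete

set_option autoImplicit false
open Cfsg

namespace Cfsg.Agent.S4801

/-- The codegree of an irreducible complex character χ of a finite group G is [G : ker χ] / χ(1), where ker χ is the set of elements at which χ takes the value χ(1). Let S be a finite simple group and G a finite group such that every codegree of an irreducible character of S is a codegree of an irreducible character of G. Then the order of S divides the order of G. -/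
theorem result {S : Type*} [Group S] [Finite S] (hS : IsSimpleGroup S) {G : Type*} [Group G] [Finite G] (hsub : ∀ χ : Cfsg.IrrCharacter S, ∃ ψ : Cfsg.IrrCharacter G, (Nat.card S / (Nat.card {g : S // (χ : S → ℂ) g = (χ : S → ℂ) 1} * Cfsg.charDegree (χ : S → ℂ))) = (Nat.card G / (Nat.card {g : G // (ψ : G → ℂ) g = (ψ : G → ℂ) 1} * Cfsg.charDegree (ψ : G → ℂ)))) : Nat.card S ∣ Nat.card G := by
  haveI := hS
  classical
  refine (Nat.factorization_le_iff_dvd Nat.card_pos.ne' Nat.card_pos.ne').mp fun r => ?_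
  rcases eq_or_ne ((Nat.card S).factorization r) 0 with h0 | h0
  · simp [h0]
  have hr : r.Prime := Nat.prime_of_mem_primeFactors (by
    rw [← Nat.support_factorization]; exact Finsupp.mem_support_iff.mpr h0)
  have hrS : r ∣ Nat.card S := Nat.dvd_of_factorization_pos h0
  obtain ⟨χ, hχ1, hχr⟩ : ∃ χ : Cfsg.IrrCharacter S, (χ : S → ℂ) ≠ 1 ∧
      ¬ r ∣ Cfsg.charDegree (χ : S → ℂ) := by
    by_contra hcon
    push Not at hcon
    let one : Cfsg.IrrCharacter S := ⟨1, CharCore.isIrrCharacter_one⟩
    have := Fintype.ofFinite S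
    have h := CharCore.sum_degree_sq (G := S)
    simp only [← BC86.charDegree_cast] at h
    have h' : ∑ χ : Cfsg.IrrCharacter S, Cfsg.charDegree (χ : S → ℂ) ^ 2 = Nat.card S := by
      exact_mod_cast h
    rw [← Finset.add_sum_erase _ _ (Finset.mem_univ one)] at h'
    have h1 : Cfsg.charDegree ((one : Cfsg.IrrCharacter S) : S → ℂ) = 1 := by
      simp [Cfsg.charDegree, one]
    rw [h1, one_pow] at h'
    have h2 : r ∣ ∑ χ ∈ Finset.univ.erase one, Cfsg.charDegree (χ : S → ℂ) ^ 2 :=
      Finset.dvd_sum fun χ hχ => dvd_pow (hcon χ fun h => (Finset.mem_erase.mp hχ).1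
        (Subtype.ext h)) two_ne_zero
    exact hr.ne_one (Nat.dvd_one.mp ((Nat.dvd_add_left h2).mp (h' ▸ hrS)))
  obtain ⟨ψ, hψ⟩ := hsub χ
  rw [BC86.card_kernel_of_isSimpleGroup χ hχ1, one_mul] at hψ
  have h1 : r ^ (Nat.card S).factorization r ∣
      Nat.card S / Cfsg.charDegree (χ : S → ℂ) := by
    refine (Nat.Coprime.pow_left _ ((Nat.Prime.coprime_iff_not_dvd hr).mpr hχr)).dvd_of_dvd_mul_left
      ?_
    rw [Nat.mul_div_cancel' (BC86.degree_dvd_card χ)]
    exact Nat.ordProj_dvd _ _
  rw [hψ] at h1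
  exact (hr.pow_dvd_iff_le_factorization Nat.card_pos.ne').mp
    (h1.trans (Nat.div_dvd_of_dvd (BC86.card_kernel_mul_degree_dvd ψ)))

end Cfsg.Agent.S4801
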