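import Cfsg.Statements.S4802
import Cfsg.Agent.BC86.KernelSum

set_option autoImplicit false
open Cfsg

namespace Cfsg.Agent.S4802

/-- Let N < M be normal subgroups of the finite group G and g ∈ M ∖ N. Then the conjugacy class of g is exactly M ∖ N if and only if every irreducible complex character of G whose kernel contains N takes the same value at all elements of M ∖ N, and every irreducible complex character of G whose kernel does not contain N vanishes at g. -/
theorem result {G : Type*} [Group G] [Finite G] (N M : Subgroup G) [N.Normal] [M.Normal] (hNM : N < M) (g : G) (hgM : g ∈ M) (hgN : g ∉ N) : {h : G | IsConj g h} = (M : Set G) \ (N : Set G) ↔ ((∀ χ : Cfsg.IrrCharacter G, (∀ x ∈ N, (χ : G → ℂ) x = (χ : G → ℂ) 1) → ∀ x ∈ M, x ∉ N → ∀ y ∈ M, y ∉ N → (χ : G → ℂ) x = (χ : G → ℂ) y) ∧ (∀ χ : Cfsg.IrrCharacter G, (∃ x ∈ N, (χ : G → ℂ) x ≠ (χ : G → ℂ) 1) → (χ : G → ℂ) g = 0)) := by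
  classical
  have := Fintype.ofFinite G
  have := Fintype.ofFinite N
  have hcl : ∀ (χ : Cfsg.IrrCharacter G) {u v : G}, IsConj u v → (χ : G → ℂ) u = (χ : G → ℂ) v := by
    intro χ u v h
    obtain ⟨c, rfl⟩ := isConj_iff.mp h
    exact (CharCore.irr_isClassFunction χ u c).symm
  constructor
  · intro hset
    have hconj : ∀ x ∈ M, x ∉ N → IsConj g x := fun x hx hxN =>
      (Set.ext_iff.mp hset x).mpr ⟨hx, hxN⟩
    refine ⟨fun χ _ x hxM hxN y hyM hyN =>
      (hcl χ (hconj x hxM hxN)).symm.trans (hcl χ (hconj y hyM hyN)), fun χ hχ => ?_⟩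
    have h := BC86.sum_coset_eq_zero χ N hχ g
    rw [Finset.sum_congr rfl fun (n : N) _ => (hcl χ (hconj (g * n) (mul_mem hgM (hNM.le n.2))
      fun hn => hgN ((Subgroup.mul_mem_cancel_right N n.2).mp hn))).symm, Finset.sum_const,
      Finset.card_univ, nsmul_eq_mul] at h
    simpa [Fintype.card_ne_zero] using h
  · rintro ⟨h1, h2⟩
    ext h
    constructor
    · intro hc
      obtain ⟨c, rfl⟩ := isConj_iff.mp hc
      refine ⟨Subgroup.Normal.conj_mem ‹M.Normal› g hgM c, fun hn => hgN ?_⟩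
      simpa [mul_assoc] using Subgroup.Normal.conj_mem ‹N.Normal› _ hn c⁻¹
    · rintro ⟨hhM, hhN⟩
      by_contra hnc
      have ho := BC86.col_orth h g
      rw [if_neg fun e => hnc e.symm] at ho
      have hg := BC86.col_orth g g
      rw [if_pos (IsConj.refl g)] at hg
      have heq : ∀ χ : Cfsg.IrrCharacter G, (χ : G → ℂ) h * (starRingEnd ℂ) ((χ : G → ℂ) g)
          = (χ : G → ℂ) g * (starRingEnd ℂ) ((χ : G → ℂ) g) := by
        intro χ
        by_cases hk : ∃ x ∈ N, (χ : G → ℂ) x ≠ (χ : G → ℂ) 1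
        · simp [h2 χ hk]
        · push Not at hk
          rw [h1 χ hk h hhM hhN g hgM hgN]
      simp only [heq, hg] at ho
      exact Nat.card_pos.ne' (Nat.cast_eq_zero.mp ho)

end Cfsg.Agent.S4802
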