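import Cfsg.Statements.S4807
import Cfsg.Agent.PMcKay87.Main
import Cfsg.Agent.PMcKay87.Triple

set_option autoImplicit false
open Cfsg

namespace Cfsg.Agent.S4807

/-- Let p be a prime and G a finite p-solvable group, L a normal subgroup of G, S a Sylow p-subgroup of G and P the subgroup generated by L and S (so P/L is a Sylow p-subgroup of G/L), and let ν be an irreducible complex character of L that is invariant under conjugation by every element of P. Let N be the normalizer of P in G (it contains L). Then the number of irreducible characters of G of degree prime to p lying over ν (restriction to L not orthogonal to ν) equals the number of irreducible characters of N of degree prime to p lying over ν. -/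
theorem result {G : Type*} [Group G] [Finite G] (p : ℕ) [Fact p.Prime] (hG : Cfsg.IsPSolvable p G) (L : Subgroup G) [L.Normal] (S : Sylow p G) (P : Subgroup G) (hP : P = L ⊔ (S : Subgroup G)) (hLN : L ≤ (Subgroup.normalizer ((P : Subgroup G) : Set G))) (ν : Cfsg.IrrCharacter ↥L) (hν : ∀ x ∈ P, Cfsg.IsConjCharOf L x (ν : ↥L → ℂ) (ν : ↥L → ℂ)) : Nat.card {χ : Cfsg.IrrCharacter G // ¬ p ∣ Cfsg.charDegree (χ : G → ℂ) ∧ (∑ᶠ l : ↥L, (χ : G → ℂ) (l : G) * (starRingEnd ℂ) ((ν : ↥L → ℂ) l)) ≠ 0} = Nat.card {ψ : Cfsg.IrrCharacter ↥(Subgroup.normalizer ((P : Subgroup G) : Set G)) // ¬ p ∣ Cfsg.charDegree (ψ : ↥(Subgroup.normalizer ((P : Subgroup G) : Set G)) → ℂ) ∧ (∑ᶠ l : ↥L, (ψ : ↥(Subgroup.normalizer ((P : Subgroup G) : Set G)) → ℂ) (Subgroup.inclusion hLN l) * (starRingEnd ℂ) ((ν : ↥L → ℂ) l)) ≠ 0} := by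
  have hgen := PMcKay87.general (p := p)
    (fun G _ _ L _ ν hν hinv => PMcKay87.exists_central_triple p L ν hν hinv) L.index G L ν S rfl
    (Thompson.isPSolvable_quotient L hG)
    (fun g hg k k' hk => hν g (hP ▸ Subgroup.mem_sup_right hg) k k' hk)
  rw [← hP] at hgen
  letI := Fintype.ofFinite L
  have key : ∀ f : L → ℂ, (∑ᶠ l : L, f l * (starRingEnd ℂ) ((ν : L → ℂ) l)) ≠ 0 ↔
      Cfsg.classInner f (ν : L → ℂ) ≠ 0 := fun f => by
    rw [finsum_eq_sum_of_fintype, CharCore.classInner_def, mul_ne_zero_iff]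
    exact ⟨fun h => ⟨inv_ne_zero (Nat.cast_ne_zero.mpr Nat.card_pos.ne'), h⟩, fun h => h.2⟩
  refine Eq.trans ?_ (hgen.trans ?_)
  · refine Nat.card_congr ((PMcKay87.irrEquiv (Subgroup.topEquiv (G := G))).subtypeEquiv fun χ => ?_)
    rw [PMcKay87.charDegree_irrEquiv, key]
    refine and_congr_right fun _ => iff_of_eq (congrArg (fun f : L → ℂ =>
      Cfsg.classInner f (ν : L → ℂ) ≠ 0) (funext fun l => ?_))
    rw [CharInd.extendByZero_mem _ (Subgroup.mem_top ((l : L) : G))]
    rfl
  · refine Nat.card_congr (Equiv.subtypeEquivRight fun χ => ?_)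
    rw [key]
    refine and_congr_right fun _ => iff_of_eq (congrArg (fun f : L → ℂ =>
      Cfsg.classInner f (ν : L → ℂ) ≠ 0) (funext fun l => ?_))
    exact CharInd.extendByZero_mem _ (hLN l.2)

end Cfsg.Agent.S4807
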