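import Cfsg.Statements.S4808
import Cfsg.Agent.BC87.Basic

set_option autoImplicit false
open Cfsg

namespace Cfsg.Agent.S4808

theorem card_ker_mul_degree_dvd {G : Type*} [Group G] [Finite G] (χ : Cfsg.IrrCharacter G) :
    Nat.card (BC87.kerChar χ) * Cfsg.charDegree (χ : G → ℂ) ∣ Nat.card G := by
  obtain ⟨θ, hθ⟩ := (BC87.inflEquiv (BC87.kerChar χ)).surjective ⟨χ, le_rfl⟩
  have h1 : Cfsg.charDegree (χ : G → ℂ) = Cfsg.charDegree (θ : G ⧸ BC87.kerChar χ → ℂ) := by
    rw [show (χ : G → ℂ) = ((BC87.inflEquiv (BC87.kerChar χ) θ).1 : G → ℂ) by rw [hθ]]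
    rfl
  rw [Subgroup.card_eq_card_quotient_mul_card_subgroup (BC87.kerChar χ), h1, mul_comm]
  exact mul_dvd_mul (BC87.charDegree_dvd_card θ) dvd_rfl

theorem card_kerChar {G : Type*} [Group G] [Finite G] (χ : Cfsg.IrrCharacter G) :
    Nat.card {g : G // (χ : G → ℂ) g = (χ : G → ℂ) 1} = Nat.card (BC87.kerChar χ) := rfl

/-- The codegree of an irreducible complex character χ of a finite group G is [G : ker χ] / χ(1), where ker χ is the set of elements at which χ takes the value χ(1). A prime divides the order of G if and only if it divides the codegree of some irreducible complex character of G. -/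
theorem result {G : Type*} [Group G] [Finite G] (p : ℕ) (hp : p.Prime) : p ∣ Nat.card G ↔ ∃ χ : Cfsg.IrrCharacter G, p ∣ (Nat.card G / (Nat.card {g : G // (χ : G → ℂ) g = (χ : G → ℂ) 1} * Cfsg.charDegree (χ : G → ℂ))) := by
  classical
  have := Fintype.ofFinite G
  constructor
  swap
  · rintro ⟨χ, hχ⟩
    rw [card_kerChar] at hχ
    exact hχ.trans (Nat.div_dvd_of_dvd (card_ker_mul_degree_dvd χ))
  intro hdvd
  have := Fact.mk hp
  by_contra hcon
  push Not at hcon
  obtain ⟨x, hx⟩ := exists_prime_orderOf_dvd_card' p hdvd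
  have hx1 : x ≠ 1 := fun h => hp.ne_one (by rw [← hx, h, orderOf_one])
  obtain ⟨N, -, ⟨hN, hxN⟩, hmax⟩ := Finite.exists_le_maximal
    (p := fun N : Subgroup G => N.Normal ∧ x ∉ N) (a := ⊥) ⟨inferInstance, by simpa using hx1⟩
  let M := N ⊔ Subgroup.normalClosure {x}
  have hxM : x ∈ M := Subgroup.mem_sup_right (Subgroup.subset_normalClosure rfl)
  have hMn : M.Normal := Subgroup.sup_normal _ _
  let X := Finset.univ.filter fun χ : Cfsg.IrrCharacter G => N ≤ BC87.kerChar χ
  have hsum : ∑ χ ∈ X, (χ : G → ℂ) 1 * (χ : G → ℂ) x = 0 := by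
    rw [Finset.sum_subtype X (p := fun χ => N ≤ BC87.kerChar χ) (fun χ => by simp [X]),
      ← Equiv.sum_comp (BC87.inflEquiv N)]
    simp only [BC87.inflEquiv_apply]
    have := CharCore.sum_degree_mul_apply (x : G ⧸ N)
    rwa [if_neg fun h => hxN ((QuotientGroup.eq_one_iff x).mp h)] at this
  have hS1 : ∑ χ ∈ X.filter (fun χ => x ∈ BC87.kerChar χ), (χ : G → ℂ) 1 * (χ : G → ℂ) x =
      (Nat.card (G ⧸ M) : ℂ) := by
    rw [← CharCore.sum_degree_sq (G := G ⧸ M)]
    rw [Finset.sum_congr rfl fun χ hχ => by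
      rw [BC87.mem_kerChar.mp (Finset.mem_filter.mp hχ).2, ← sq]]
    rw [Finset.sum_subtype _ (p := fun χ => M ≤ BC87.kerChar χ) (fun χ => ?_),
      ← Equiv.sum_comp (BC87.inflEquiv M)]
    · simp only [BC87.inflEquiv_apply]
      rfl
    · simp only [X, Finset.mem_filter, Finset.mem_univ, true_and, M, sup_le_iff]
      exact and_congr_right' ⟨fun h => Subgroup.normalClosure_le_normal
        (Set.singleton_subset_iff.mpr h), fun h => h (Subgroup.subset_normalClosure rfl)⟩
  set a := (Nat.card (G ⧸ N)).factorization p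
  have hdeg : ∀ χ ∈ X.filter (fun χ => x ∉ BC87.kerChar χ),
      p ^ a ∣ Cfsg.charDegree (χ : G → ℂ) := by
    intro χ hχ
    simp only [X, Finset.mem_filter, Finset.mem_univ, true_and] at hχ
    have hker : BC87.kerChar χ = N :=
      le_antisymm (hmax ⟨inferInstance, hχ.2⟩ hχ.1) hχ.1
    have h1 := hcon χ
    rw [card_kerChar, hker, Subgroup.card_eq_card_quotient_mul_card_subgroup N, mul_comm _
      (Nat.card N), Nat.mul_div_mul_left _ _ Nat.card_pos] at h1
    have h2 := card_ker_mul_degree_dvd χ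
    rw [hker, Subgroup.card_eq_card_quotient_mul_card_subgroup N, mul_comm _ (Nat.card N),
      Nat.mul_dvd_mul_iff_left Nat.card_pos] at h2
    have h3 : p ^ a ∣ Cfsg.charDegree (χ : G → ℂ) *
        (Nat.card (G ⧸ N) / Cfsg.charDegree (χ : G → ℂ)) := by
      rw [Nat.mul_div_cancel' h2]; exact Nat.ordProj_dvd _ _
    exact ((hp.coprime_iff_not_dvd.mpr h1).pow_left a).dvd_of_dvd_mul_right h3
  rw [← Finset.sum_filter_add_sum_filter_not X (fun χ => x ∈ BC87.kerChar χ), hS1] at hsum
  obtain ⟨z, hz, hz'⟩ : ∃ z : ℂ, IsIntegral ℤ z ∧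
      ∑ χ ∈ X.filter (fun χ => x ∉ BC87.kerChar χ), (χ : G → ℂ) 1 * (χ : G → ℂ) x =
        (p ^ a : ℕ) * z := by
    choose! k hk using hdeg
    refine ⟨∑ χ ∈ X.filter (fun χ => x ∉ BC87.kerChar χ), (k χ : ℂ) * (χ : G → ℂ) x,
      IsIntegral.sum _ fun χ _ => ?_, ?_⟩
    · exact (isIntegral_algebraMap (x := (k χ : ℤ))).mul
        (CharCore.IsCharacter.isIntegral (CharCore.irr_isCharacter χ) x)
    · rw [Finset.mul_sum]
      refine Finset.sum_congr rfl fun χ hχ => ?_
      rw [BC87.apply_one_eq, hk χ hχ]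
      push_cast
      ring
  rw [hz'] at hsum
  have hdiv : p ^ a ∣ Nat.card (G ⧸ M) :=
    CharClifford.dvd_of_mul_isIntegral hz.neg (by linear_combination hsum)
  have hNM : N.relIndex M * Nat.card (G ⧸ M) = Nat.card (G ⧸ N) := by
    rw [← Subgroup.index_eq_card, ← Subgroup.index_eq_card]
    exact Subgroup.relIndex_mul_index (le_sup_left)
  have hp' : p ∣ N.relIndex M := by
    have h1 : p ∣ Nat.card (M.map (QuotientGroup.mk' N)) := by
      have h2 : orderOf (x : G ⧸ N) ∣ p := hx ▸ orderOf_map_dvd (QuotientGroup.mk' N) x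
      have h3 : orderOf (x : G ⧸ N) ≠ 1 := fun h =>
        hxN ((QuotientGroup.eq_one_iff x).mp (orderOf_eq_one_iff.mp h))
      rw [← (hp.eq_one_or_self_of_dvd _ h2).resolve_left h3]
      exact Subgroup.orderOf_dvd_natCard _ ⟨x, hxM, rfl⟩
    have h4 : N.relIndex M = Nat.card (M.map (QuotientGroup.mk' N)) := by
      have h5 := Subgroup.index_map_eq M (QuotientGroup.mk'_surjective N)
        (by rw [QuotientGroup.ker_mk']; exact le_sup_left)
      have h6 := Subgroup.card_mul_index (M.map (QuotientGroup.mk' N))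
      rw [h5] at h6
      have h7 : N.relIndex M * M.index = Nat.card (G ⧸ N) := by
        rw [Subgroup.relIndex_mul_index le_sup_left, Subgroup.index_eq_card]
      exact Nat.eq_of_mul_eq_mul_right (Nat.pos_of_ne_zero Subgroup.index_ne_zero_of_finite)
        (h7.trans h6.symm)
    rwa [h4]
  have : p ^ (a + 1) ∣ Nat.card (G ⧸ N) := by
    rw [← hNM, pow_succ']; exact mul_dvd_mul hp' hdiv
  exact Nat.pow_succ_factorization_not_dvd Nat.card_pos.ne' hp this

end Cfsg.Agent.S4808
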