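import Cfsg.Statements.S4811
import Cfsg.Agent.BC86.RelGraph.Main
import Cfsg.Agent.Coherence.SeqInd
import Cfsg.Agent.CharDeep.Deg.TwoDeg

set_option autoImplicit false
open Cfsg

namespace Cfsg.Agent.S4811

/-- A nonlinear character degree is a degree relative to the commutator subgroup. -/
theorem mem_rel {G : Type*} [Group G] [Finite G] {d : ℕ} (hd : d ∈ Cfsg.charDegrees G)
    (h1 : d ≠ 1) : d ∈ Cfsg.relCharDegrees (commutator G) := by
  haveI := Fintype.ofFinite G
  obtain ⟨χ, hχ⟩ := hd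
  refine ⟨χ, ?_, hχ⟩
  by_contra hk
  push Not at hk
  have hdb := Cfsg.Agent.Coherence.degree_bound χ.2 (commutator G) ⊤ ⊤ le_rfl
    (fun x _ y _ => by
      rw [commutator_def]
      exact Subgroup.commutator_mem_commutator (Subgroup.mem_top x) (Subgroup.mem_top y)) hk
  rw [Cfsg.Agent.CharDeep.Deg.apply_one χ, hχ, Complex.natCast_re, Subgroup.card_top] at hdb
  have hdb' : d ^ 2 * Nat.card G * Nat.card G ≤ Nat.card G ^ 2 := by exact_mod_cast hdb
  have hd0 : d ≠ 0 := fun h => CharCore.irr_apply_one_ne_zero χ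
    (by rw [Cfsg.Agent.CharDeep.Deg.apply_one χ, hχ, h, Nat.cast_zero])
  have hle : d ^ 2 ≤ 1 := by
    refine Nat.le_of_mul_le_mul_right ?_ (Nat.mul_pos (Nat.card_pos (α := G)) (Nat.card_pos (α := G)))
    rw [one_mul, ← mul_assoc, ← sq (Nat.card G)]
    exact hdb'
  have := (Nat.pow_le_one_iff (by norm_num : (2 : ℕ) ≠ 0)).1 hle
  omega

/-- For every finite solvable group G the character degree graph of G (vertices: the primes dividing some irreducible complex character degree; edges: distinct primes whose product divides some degree) has at most two connected components. -/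
theorem result {G : Type*} [Group G] [Finite G] [Group.IsSolvable G] : Nat.card ((Cfsg.degreeGraph G).induce (Cfsg.degreePrimes G)).ConnectedComponent ≤ 2 := by
  classical
  set N := commutator G with hN
  set Γ := (Cfsg.degreeGraph G).induce (Cfsg.degreePrimes G)
  set Δ := Cfsg.commonDivisorGraph.induce (Cfsg.relCharDegrees N)
  have hmem : ∀ {p d : ℕ}, p.Prime → d ∈ Cfsg.charDegrees G → p ∣ d →
      d ∈ Cfsg.relCharDegrees N := fun {p d} hp hd hpd =>
    mem_rel hd (fun h => hp.ne_one (Nat.dvd_one.mp (h ▸ hpd)))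
  have hchoice : ∀ p : ↥(Cfsg.degreePrimes G), ∃ v : ↥(Cfsg.relCharDegrees N), (p : ℕ) ∣ v.1 ∧
      v.1 ∈ Cfsg.charDegrees G := fun p => by
    obtain ⟨hp, d, hd, hpd⟩ := p.2
    exact ⟨⟨d, hmem hp hd hpd⟩, hpd, hd⟩
  by_cases hne : IsEmpty ↥(Cfsg.degreePrimes G)
  · have : IsEmpty Γ.ConnectedComponent := ⟨fun c => c.ind (fun v => hne.elim v)⟩
    simp [Nat.card_of_isEmpty]
  rw [not_isEmpty_iff] at hne
  have hN' : ⁅N, N⁆ < N := by
    refine IsSolvable.commutator_lt_of_ne_bot fun hbot => ?_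
    obtain ⟨p⟩ := hne
    obtain ⟨⟨d, ⟨χ, ⟨x, hxN, hx⟩, -⟩⟩, -⟩ := hchoice p
    rw [hbot, Subgroup.mem_bot] at hxN
    exact hx (by rw [hxN])
  have hΔ : Nat.card Δ.ConnectedComponent ≤ 2 := by
    haveI := Fintype.ofFinite N
    exact Cfsg.Agent.BC86.RelGraph.card_components_le N hN' le_rfl
  have hsame : ∀ (v : ↥(Cfsg.relCharDegrees N)) (p q : ↥(Cfsg.degreePrimes G)),
      v.1 ∈ Cfsg.charDegrees G → (p : ℕ) ∣ v.1 → (q : ℕ) ∣ v.1 → Γ.Reachable p q := by
    intro v p q hv hp hq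
    by_cases hpq : p = q
    · rw [hpq]
    · refine SimpleGraph.Adj.reachable ⟨fun h => hpq (Subtype.ext h), p.2.1, q.2.1, v.1, hv, ?_⟩
      exact ((Nat.coprime_primes p.2.1 q.2.1).mpr (fun h => hpq (Subtype.ext h))).mul_dvd_of_dvd_of_dvd hp hq
  have hwalk : ∀ {u w : ↥(Cfsg.relCharDegrees N)}, Δ.Walk u w → ∀ p q : ↥(Cfsg.degreePrimes G),
      u.1 ∈ Cfsg.charDegrees G → (p : ℕ) ∣ u.1 → (q : ℕ) ∣ w.1 → Γ.Reachable p q := by
    intro u w W
    induction W with
    | nil => exact fun p q hu hp hq => hsame _ p q hu hp hq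
    | @cons u v w hadj W ih =>
      intro p q hu hp hq
      obtain ⟨-, hgcd⟩ := hadj
      obtain ⟨r, hr, hrd⟩ := Nat.exists_prime_and_dvd (show Nat.gcd u.1 v.1 ≠ 1 from ne_of_gt hgcd)
      obtain ⟨hru, hrv⟩ := Nat.dvd_gcd_iff.mp hrd
      have hv : v.1 ∈ Cfsg.charDegrees G := by
        obtain ⟨χ, -, hχ⟩ := v.2
        exact ⟨χ, hχ⟩
      exact (hsame u p ⟨r, hr, u.1, hu, hru⟩ hu hp hru).trans (ih ⟨r, hr, u.1, hu, hru⟩ q hv hrv hq)
  choose f hf hfd using hchoice
  let F : Γ.ConnectedComponent → Δ.ConnectedComponent := fun c =>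
    Δ.connectedComponentMk (f c.out)
  have hF : Function.Injective F := by
    intro c c' h
    obtain ⟨W⟩ := SimpleGraph.ConnectedComponent.exact h
    have hr := hwalk W c.out c'.out (hfd _) (hf _) (hf _)
    rw [← SimpleGraph.ConnectedComponent.eq] at hr
    exact (Quot.out_eq c).symm.trans (hr.trans (Quot.out_eq c'))
  have hfin : Finite Δ.ConnectedComponent := by
    have : (Cfsg.relCharDegrees N).Finite := by
      haveI := Fintype.ofFinite G
      refine (Set.finite_range fun χ : Cfsg.IrrCharacter G => Cfsg.charDegree (χ : G → ℂ)).subset ?_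
      rintro d ⟨χ, -, rfl⟩
      exact ⟨χ, rfl⟩
    haveI := this.to_subtype
    exact Quot.finite _
  exact le_trans (Nat.card_le_card_of_injective F hF) hΔ

end Cfsg.Agent.S4811
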