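import Cfsg.Statements.S4814
import Cfsg.Agent.BC87.Commutator
import Cfsg.Agent.BC87.Basic

set_option autoImplicit false
open Cfsg

namespace Cfsg.Agent.S4814

open scoped ComplexConjugate

/-- Averaging over a conjugacy class inside an irreducible character. -/
theorem sum_conj_apply {G : Type*} [Group G] [Fintype G] (χ : Cfsg.IrrCharacter G) (h g : G) :
    ∑ b : G, (χ : G → ℂ) (h * (b * g * b⁻¹)) =
      (Nat.card G : ℂ) * ((χ : G → ℂ) h * (χ : G → ℂ) g / (χ : G → ℂ) 1) := by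
  obtain ⟨n, ρ, hρ, hχ⟩ := χ.2
  obtain ⟨c, hc⟩ := CharClifford.exists_scalar_of_commute ρ (∑ b : G, ρ (b * g * b⁻¹))
    (fun a => by
      show _ * _ = _ * _
      rw [Finset.sum_mul, Finset.mul_sum]
      refine Fintype.sum_equiv (Equiv.mulLeft a⁻¹) _ _ fun b => ?_
      rw [← map_mul, ← map_mul]
      congr 1
      simp only [Equiv.coe_mulLeft]
      group)
  have htr : c * (χ : G → ℂ) 1 = (Nat.card G : ℂ) * (χ : G → ℂ) g := by
    have h1 := congrArg (LinearMap.trace ℂ (Fin n → ℂ)) hc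
    rw [map_sum, map_smul, LinearMap.trace_one, smul_eq_mul, ← ρ.char_one, hχ] at h1
    have e : ∀ b : G, LinearMap.trace ℂ (Fin n → ℂ) (ρ (b * g * b⁻¹)) = (χ : G → ℂ) g :=
      fun b => by rw [← hχ]; exact ρ.char_conj g b
    rw [← h1, Finset.sum_congr rfl fun b _ => e b, Finset.sum_const, Finset.card_univ,
      nsmul_eq_mul, Nat.card_eq_fintype_card]
  calc ∑ b : G, (χ : G → ℂ) (h * (b * g * b⁻¹))
      = LinearMap.trace ℂ (Fin n → ℂ) (ρ h * ∑ b : G, ρ (b * g * b⁻¹)) := by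
        rw [← hχ]
        simp [Finset.mul_sum, Representation.character, map_mul]
    _ = c * (χ : G → ℂ) h := by
        rw [hc, mul_smul_comm, mul_one, map_smul, smul_eq_mul, ← hχ]; rfl
    _ = _ := by
        rw [mul_div, eq_div_iff (CharCore.irr_apply_one_ne_zero χ), mul_right_comm, htr]
        ring

/-- Let G be a finite group such that the sum, over the irreducible complex characters χ of G, of 1/χ(1)² is less than 2. Then every element of G is a product of two commutators. -/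
theorem result {G : Type*} [Group G] [Finite G]
    (h : ∑ᶠ χ : Cfsg.IrrCharacter G, 1 / ‖(χ : G → ℂ) 1‖ ^ 2 < (2 : ℝ)) (g : G) :
    ∃ a b c d : G, (a * b * a⁻¹ * b⁻¹) * (c * d * c⁻¹ * d⁻¹) = g := by
  classical
  have := Fintype.ofFinite G
  rw [CharCore.finsum_irr] at h
  by_contra hno
  push Not at hno
  let f : G → ℂ := fun z => (Nat.card {xy : G × G // xy.1 * xy.2 * xy.1⁻¹ * xy.2⁻¹ = z} : ℂ)
  have hf : ∀ z, f z = (Nat.card G : ℂ) *
      ∑ χ : Cfsg.IrrCharacter G, (χ : G → ℂ) z / (χ : G → ℂ) 1 := fun z => by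
    simp only [f, BC87.card_commutator_eq, CharCore.finsum_irr]
  have hfeq : f = ∑ χ : Cfsg.IrrCharacter G,
      ((Nat.card G : ℂ) / (χ : G → ℂ) 1) • (χ : G → ℂ) := by
    funext z
    rw [hf, Finset.sum_apply, Finset.mul_sum]
    exact Finset.sum_congr rfl fun χ _ => by rw [Pi.smul_apply, smul_eq_mul]; ring
  have hzero : ∀ z b : G, f z * f (z⁻¹ * (b * g * b⁻¹)) = 0 := by
    intro z b
    by_contra hne
    obtain ⟨⟨⟨a₁, a₂⟩, ha⟩⟩ := (Nat.card_ne_zero.mp
      (Nat.cast_ne_zero.mp (left_ne_zero_of_mul hne))).1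
    obtain ⟨⟨⟨a₃, a₄⟩, ha'⟩⟩ := (Nat.card_ne_zero.mp
      (Nat.cast_ne_zero.mp (right_ne_zero_of_mul hne))).1
    refine hno (b⁻¹ * a₁ * b) (b⁻¹ * a₂ * b) (b⁻¹ * a₃ * b) (b⁻¹ * a₄ * b) ?_
    calc _ = b⁻¹ * ((a₁ * a₂ * a₁⁻¹ * a₂⁻¹) * (a₃ * a₄ * a₃⁻¹ * a₄⁻¹)) * b := by group
      _ = g := by simp only at ha ha'; rw [ha, ha']; group
  have hS : ∑ z : G, ∑ b : G, f z * f (z⁻¹ * (b * g * b⁻¹)) =
      (Nat.card G : ℂ) ^ 4 * ∑ χ : Cfsg.IrrCharacter G, (χ : G → ℂ) g / (χ : G → ℂ) 1 ^ 3 := by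
    have h1 : ∀ z : G, ∑ b : G, f z * f (z⁻¹ * (b * g * b⁻¹)) =
        ∑ χ : Cfsg.IrrCharacter G, (Nat.card G : ℂ) ^ 2 * ((χ : G → ℂ) g / (χ : G → ℂ) 1 ^ 2) *
          (f z * conj ((χ : G → ℂ) z)) := fun z => by
      rw [← Finset.mul_sum]
      simp only [hf (z⁻¹ * _), ← Finset.mul_sum]
      rw [Finset.sum_comm]
      simp only [← Finset.sum_div, sum_conj_apply]
      rw [Finset.mul_sum, Finset.mul_sum]
      refine Finset.sum_congr rfl fun χ _ => ?_
      rw [CharCore.irr_apply_inv χ z]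
      have := CharCore.irr_apply_one_ne_zero χ
      field_simp
    rw [Finset.sum_congr rfl fun z _ => h1 z, Finset.sum_comm, Finset.mul_sum]
    refine Finset.sum_congr rfl fun χ _ => ?_
    rw [← Finset.mul_sum]
    have h2 := CharCore.classInner_sum_all (G := G)
      (fun χ => (Nat.card G : ℂ) / (χ : G → ℂ) 1) χ
    rw [← hfeq, CharCore.classInner_def, inv_mul_eq_iff_eq_mul₀
      (Nat.cast_ne_zero.mpr Nat.card_pos.ne')] at h2
    rw [h2]
    have := CharCore.irr_apply_one_ne_zero χ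
    field_simp
  rw [Finset.sum_eq_zero fun z _ => Finset.sum_eq_zero fun b _ => hzero z b] at hS
  have hsum := ((mul_eq_zero.mp hS.symm).resolve_left
    (pow_ne_zero _ (Nat.cast_ne_zero.mpr Nat.card_pos.ne')))
  rw [← Finset.add_sum_erase _ _ (Finset.mem_univ (BC87.triv G))] at hsum
  rw [← Finset.add_sum_erase _ _ (Finset.mem_univ (BC87.triv G))] at h
  simp only [BC87.triv_apply, norm_one, one_pow, div_one] at h hsum
  have hlt : ‖∑ χ ∈ Finset.univ.erase (BC87.triv G), (χ : G → ℂ) g / (χ : G → ℂ) 1 ^ 3‖ < 1 := by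
    refine lt_of_le_of_lt ((norm_sum_le _ _).trans (Finset.sum_le_sum fun χ _ => ?_))
      (by linarith : ∑ χ ∈ Finset.univ.erase (BC87.triv G), 1 / ‖(χ : G → ℂ) 1‖ ^ 2 < 1)
    have hpos : 0 < ‖(χ : G → ℂ) 1‖ := norm_pos_iff.mpr (CharCore.irr_apply_one_ne_zero χ)
    have hle := CharCore.IsCharacter.norm_apply_le (CharCore.irr_isCharacter χ) g
    rw [norm_div, norm_pow, div_le_div_iff₀ (by positivity) (by positivity)]
    nlinarith [pow_nonneg hpos.le 2]
  rw [eq_neg_of_add_eq_zero_right hsum, norm_neg, norm_one] at hlt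
  exact lt_irrefl _ hlt

end Cfsg.Agent.S4814
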