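import Cfsg.Statements.S4825
import Cfsg.Agent.Lib.BlocksCore.SecondMain
import Cfsg.Agent.Lib.CharClifford.Clifford
import Cfsg.Agent.Blocks88.Modular
import Cfsg.Agent.BC87.Basic

set_option autoImplicit false
open Cfsg

namespace Cfsg.Agent.S4825

open BlocksCore BC87
open scoped ComplexConjugate

variable {G : Type*} [Group G] [Fintype G] {p : ℕ} {M : Ideal Cfsg.AlgInt}
  {N : Subgroup G} [N.Normal] [Fintype N]

/-- The degree over a constituent. -/
theorem degree_eq (χ : Cfsg.IrrCharacter G) (θ : Cfsg.IrrCharacter N) {a : ℕ}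
    (ha : Cfsg.classInner (fun n : N => (χ : G → ℂ) n) (θ : N → ℂ) = a) (ha0 : a ≠ 0) :
    Cfsg.charDegree (χ : G → ℂ) =
      a * ((CharClifford.conjOrbit N (θ : N → ℂ)).card * Cfsg.charDegree (θ : N → ℂ)) := by
  classical
  obtain ⟨θ₀, e, hθ₀, he, hin, heq⟩ := CharClifford.clifford_restrict N χ.2
  obtain ⟨x, hx⟩ := CharClifford.exists_conjFun_eq_of_constituents N χ.2 hθ₀ θ.2
    (by rw [hin]; exact_mod_cast he.ne') (by rw [ha]; exact_mod_cast ha0)
  have hae : a = e := by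
    have := CharClifford.classInner_restrict_conjFun N (CharCore.irr_isClassFunction χ) θ₀ x
    rw [← hx, ha, hin] at this
    exact_mod_cast this
  have horb : CharClifford.conjOrbit N (θ : N → ℂ) = CharClifford.conjOrbit N θ₀ := by
    ext ψ
    simp only [CharClifford.mem_conjOrbit, hx]
    constructor
    · rintro ⟨y, rfl⟩; exact ⟨x * y, (CharClifford.conjFun_conjFun N _ _ _).symm⟩
    · rintro ⟨y, rfl⟩
      refine ⟨x⁻¹ * y, ?_⟩
      rw [CharClifford.conjFun_conjFun, mul_inv_cancel_left]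
  have hdeg : ∀ ψ ∈ CharClifford.conjOrbit N (θ : N → ℂ), ψ 1 = (θ : N → ℂ) 1 := by
    intro ψ hψ
    obtain ⟨y, rfl⟩ := (CharClifford.mem_conjOrbit N).mp hψ
    rw [CharClifford.conjFun_apply]
    refine congrArg (θ : N → ℂ) (Subtype.ext ?_)
    simp
  refine charDegree_eq ?_
  have h1 := congrFun heq 1
  simp only [Pi.smul_apply, Finset.sum_apply, smul_eq_mul, OneMemClass.coe_one, ← horb] at h1
  rw [h1, Finset.sum_congr rfl hdeg, Finset.sum_const, nsmul_eq_mul, hae, apply_one_eq]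
  push_cast
  ring

/-- The multiplicities weighted by the degrees add up to a multiple of `p`. -/
theorem dvd_sum [Fact p.Prime] (hM : Cfsg.IsPModular p M) (B : Finset (Cfsg.IrrCharacter G))
    (hB : Cfsg.IsPBlock M (B : Set (Cfsg.IrrCharacter G))) (θ : Cfsg.IrrCharacter N) {x : G}
    {k : ℕ} (hk : orderOf x = p ^ k) (hx : x ∉ N) (a : Cfsg.IrrCharacter G → ℕ)
    (ha : ∀ χ : Cfsg.IrrCharacter G,
      Cfsg.classInner (fun n : N => (χ : G → ℂ) n) (θ : N → ℂ) = a χ) :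
    p ∣ ∑ χ ∈ B, a χ * Cfsg.charDegree (χ : G → ℂ) := by
  classical
  have := isPrime hM
  have hp : p.Prime := Fact.out
  have hz : ∑ χ ∈ B, (a χ : ℂ) * (χ : G → ℂ) x = 0 := by
    simp only [← ha, CharCore.classInner_def, Finset.sum_mul, mul_assoc]
    rw [← Finset.mul_sum, Finset.sum_comm]
    convert mul_zero (Nat.card N : ℂ)⁻¹ using 2
    refine Finset.sum_eq_zero fun n _ => ?_
    obtain ⟨y, hy⟩ := exists_pPart hp ((n : G)⁻¹)
    have hyN : y ∈ N := by
      obtain ⟨z, hz, hcomm, ⟨j, hj⟩, hreg⟩ := hy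
      have hj1 : y ^ p ^ j = 1 := by rw [← hj]; exact pow_orderOf_eq_one y
      have h1 : y ^ orderOf z ∈ N := by
        have := N.pow_mem (N.inv_mem n.2) (orderOf z)
        rwa [← hz, hcomm.mul_pow, pow_orderOf_eq_one, mul_one] at this
      have h2 : y ^ p ^ j ∈ N := hj1 ▸ N.one_mem
      have h3 : (QuotientGroup.mk y : G ⧸ N) = 1 := by
        have e1 : (QuotientGroup.mk y : G ⧸ N) ^ orderOf z = 1 := by
          rw [← QuotientGroup.mk_pow, QuotientGroup.eq_one_iff]; exact h1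
        have e2 : (QuotientGroup.mk y : G ⧸ N) ^ p ^ j = 1 := by
          rw [← QuotientGroup.mk_pow, QuotientGroup.eq_one_iff]; exact h2
        have := pow_gcd_eq_one.mpr ⟨e1, e2⟩
        rwa [Nat.Coprime.gcd_eq_one
          (((Nat.Prime.coprime_iff_not_dvd hp).mpr hreg).symm.pow_right j), pow_one] at this
      exact (QuotientGroup.eq_one_iff y).mp h3
    have horth := blockOrth_sections hM hB (g := x) (h := (n : G)⁻¹) (x := x) (y := y)
      ⟨1, mul_one x, Commute.one_right x, ⟨k, hk⟩, by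
        rw [orderOf_one]; exact hp.not_dvd_one⟩ hy
      (fun hc => by
        obtain ⟨c, hc⟩ := isConj_iff.mp hc.symm
        exact hx (hc ▸ Subgroup.Normal.conj_mem inferInstance y hyN c))
    rw [inv_inv, finsum_mem_coe_finset] at horth
    have e : ∀ χ : Cfsg.IrrCharacter G,
        (χ : G → ℂ) n * (conj ((θ : N → ℂ) n) * (χ : G → ℂ) x) =
          conj ((θ : N → ℂ) n) * ((χ : G → ℂ) x * (χ : G → ℂ) n) := fun χ => by ring
    simp only [e, ← Finset.mul_sum, horth, mul_zero]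
  rw [← memLocalIdeal_natCast_iff hM, Nat.cast_sum,
    ← sub_zero (∑ χ ∈ B, ((a χ * Cfsg.charDegree (χ : G → ℂ) : ℕ) : ℂ)), ← hz,
    ← Finset.sum_sub_distrib]
  refine memLocalIdeal_sum fun χ _ => ?_
  rw [Nat.cast_mul, ← apply_one_eq, ← mul_sub, ← neg_sub, mul_neg]
  exact memLocalIdeal_neg (memLocalIdeal_mul_left (memLocalRing_natCast _)
    (Blocks88.char_sub_degree_mem hM (CharCore.irr_isCharacter χ) hk))

/-- Let p be a prime, G a finite group with Sylow p-subgroup P, M a maximal ideal of the algebraic integers containing p, and B a p-block of G with defect group P. Let N be a normal subgroup of G not containing P and θ an irreducible character of N. Then the number of irreducible characters in B of degree prime to p lying over θ (having θ as a constituent on restriction to N) is either 0 or at least 2, and when p ≤ 3 it is divisible by p. -/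
theorem result {G : Type*} [Group G] [Fintype G] (p : ℕ) [Fact p.Prime] (P : Sylow p G) (M : Ideal Cfsg.AlgInt) (hM : Cfsg.IsPModular p M) (B : Set (Cfsg.IrrCharacter G)) (hB : Cfsg.IsPBlock M B) (hBP : Cfsg.IsDefectGroup p M B P) (N : Subgroup G) [N.Normal] [Fintype N] (hPN : ¬ (P : Subgroup G) ≤ N) (θ : Cfsg.IrrCharacter N) :
    (Nat.card {χ : Cfsg.IrrCharacter G // χ ∈ B ∧ ¬ p ∣ Cfsg.charDegree (χ : G → ℂ) ∧ Cfsg.classInner (fun n : N => (χ : G → ℂ) n) (θ : N → ℂ) ≠ 0} = 0 ∨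
      2 ≤ Nat.card {χ : Cfsg.IrrCharacter G // χ ∈ B ∧ ¬ p ∣ Cfsg.charDegree (χ : G → ℂ) ∧ Cfsg.classInner (fun n : N => (χ : G → ℂ) n) (θ : N → ℂ) ≠ 0}) ∧
    (p ≤ 3 → p ∣ Nat.card {χ : Cfsg.IrrCharacter G // χ ∈ B ∧ ¬ p ∣ Cfsg.charDegree (χ : G → ℂ) ∧ Cfsg.classInner (fun n : N => (χ : G → ℂ) n) (θ : N → ℂ) ≠ 0}) := by
  classical
  have hp : p.Prime := Fact.out
  haveI := finite_irr (G := G)
  haveI := Fintype.ofFinite (Cfsg.IrrCharacter G)
  have hnat : ∀ χ : Cfsg.IrrCharacter G, ∃ k : ℕ,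
      Cfsg.classInner (fun n : N => (χ : G → ℂ) n) (θ : N → ℂ) = k := fun χ =>
    CharCore.IsCharacter.exists_classInner_irr_eq_natCast
      (CharCore.isCharacter_restrict (CharCore.irr_isCharacter χ) N) θ
  choose a ha using hnat
  obtain ⟨x, hxP, hxN⟩ := SetLike.not_le_iff_exists.mp hPN
  obtain ⟨k, hk⟩ := IsPGroup.iff_orderOf.mp P.isPGroup' ⟨x, hxP⟩
  rw [Subgroup.orderOf_mk] at hk
  have hsum := dvd_sum hM B.toFinset (by rwa [Set.coe_toFinset]) θ hk hxN a ha
  set S := Finset.univ.filter fun χ : Cfsg.IrrCharacter G =>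
    χ ∈ B ∧ ¬ p ∣ Cfsg.charDegree (χ : G → ℂ) ∧
      Cfsg.classInner (fun n : N => (χ : G → ℂ) n) (θ : N → ℂ) ≠ 0 with hS
  rw [Nat.card_eq_fintype_card, Fintype.card_subtype, ← hS]
  rcases S.eq_empty_or_nonempty with h0 | ⟨χ₀, hχ₀⟩
  · simp [h0]
  have hmem : ∀ χ ∈ S, χ ∈ B ∧ ¬ p ∣ Cfsg.charDegree (χ : G → ℂ) ∧ a χ ≠ 0 := fun χ hχ => by
    obtain ⟨h1, h2, h3⟩ := (Finset.mem_filter.mp hχ).2
    exact ⟨h1, h2, fun h => h3 (by rw [ha, h, Nat.cast_zero])⟩
  set c := (CharClifford.conjOrbit N (θ : N → ℂ)).card * Cfsg.charDegree (θ : N → ℂ)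
  have hdeg : ∀ χ, a χ ≠ 0 → Cfsg.charDegree (χ : G → ℂ) = a χ * c := fun χ h =>
    degree_eq χ θ (ha χ) h
  have hc : ¬ p ∣ c := fun h => (hmem χ₀ hχ₀).2.1 (by
    rw [hdeg χ₀ (hmem χ₀ hχ₀).2.2]; exact h.mul_left _)
  have hap : ∀ χ ∈ S, ¬ p ∣ a χ := fun χ hχ h => (hmem χ hχ).2.1 (by
    rw [hdeg χ (hmem χ hχ).2.2]; exact h.mul_right _)
  have hsq : p ∣ ∑ χ ∈ S, a χ * a χ := by
    have h1 : ((∑ χ ∈ B.toFinset, a χ * Cfsg.charDegree (χ : G → ℂ) : ℕ) : ZMod p) =
        ((c * ∑ χ ∈ S, a χ * a χ : ℕ) : ZMod p) := by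
      rw [Finset.mul_sum, Nat.cast_sum, Nat.cast_sum]
      symm
      refine Finset.sum_subset_zero_on_sdiff (fun χ hχ => Set.mem_toFinset.mpr (hmem χ hχ).1)
        (fun χ hχ => ?_) (fun χ hχ => by rw [hdeg χ (hmem χ hχ).2.2]; push_cast; ring)
      rw [Finset.mem_sdiff, Set.mem_toFinset] at hχ
      rw [ZMod.natCast_eq_zero_iff]
      by_cases h : a χ = 0
      · simp [h]
      · by_cases hd : p ∣ Cfsg.charDegree (χ : G → ℂ)
        · exact hd.mul_left _
        · exact absurd (Finset.mem_filter.mpr ⟨Finset.mem_univ _, hχ.1, hd,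
            fun h' => h (by rw [ha] at h'; exact_mod_cast h')⟩) hχ.2
    rw [(ZMod.natCast_eq_zero_iff _ p).mpr hsum, eq_comm, ZMod.natCast_eq_zero_iff] at h1
    exact (hp.dvd_mul.mp h1).resolve_left hc
  refine ⟨Or.inr ?_, fun hp3 => ?_⟩
  · by_contra hlt
    have h1 : S.card = 1 := by
      have := Finset.card_pos.mpr ⟨χ₀, hχ₀⟩
      omega
    obtain ⟨χ, hχ⟩ := Finset.card_eq_one.mp h1
    rw [hχ, Finset.sum_singleton] at hsq
    exact hap χ (hχ ▸ Finset.mem_singleton_self χ) ((hp.dvd_mul.mp hsq).elim id id)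
  · have hone : ∀ z : ZMod p, z ≠ 0 → z * z = 1 := by
      have h2 := hp.two_le
      interval_cases p <;> decide +revert
    have h1 : ((∑ χ ∈ S, a χ * a χ : ℕ) : ZMod p) = (S.card : ZMod p) := by
      rw [Nat.cast_sum, Finset.card_eq_sum_ones, Nat.cast_sum]
      refine Finset.sum_congr rfl fun χ hχ => ?_
      rw [Nat.cast_mul, Nat.cast_one, hone]
      rw [Ne, ZMod.natCast_eq_zero_iff]
      exact hap χ hχ
    rw [(ZMod.natCast_eq_zero_iff _ p).mpr hsq, eq_comm, ZMod.natCast_eq_zero_iff] at h1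
    exact h1

end Cfsg.Agent.S4825
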