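import Cfsg.Statements.S4828
import Cfsg.Agent.BC85.Pairs.Stabilizer
import Cfsg.Agent.Lib.BlocksDefect.Central
import Cfsg.Agent.Lib.BlocksDefect.Pairing
import Cfsg.Agent.Lib.BlocksCore.Inflate
import Cfsg.Agent.Lib.BlocksCore.DefectZero

set_option autoImplicit false
open Cfsg

namespace Cfsg.Agent.S4828

open BlocksCore BlocksDefect BC85
open scoped Classical

section Generic

variable {K : Type*} [Group K] [Fintype K] {p : ℕ} [Fact p.Prime] {M : Ideal AlgInt}

/-- A defect group contained in a central subgroup is unique. -/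
theorem eq_of_le_center {e : Set (IrrCharacter K)} (hM : IsPModular p M) (he : IsPBlock M e)
    {Z : Subgroup K} (hZ : Z ≤ Subgroup.center K) (hD : IsDefectGroup p M e Z) {D : Subgroup K}
    (hD' : IsDefectGroup p M e D) : D = Z := by
  obtain ⟨x, rfl⟩ := isConj_defectGroup hM he hD hD'
  ext z
  constructor
  · rintro ⟨u, hu, rfl⟩
    show x * u * x⁻¹ ∈ Z
    rwa [Subgroup.mem_center_iff.mp (hZ hu) x, mul_inv_cancel_right]
  · intro hz
    exact ⟨z, hz, show x * z * x⁻¹ = z by
      rw [Subgroup.mem_center_iff.mp (hZ hz) x, mul_inv_cancel_right]⟩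

/-- A block with central defect group contains a character of defect zero of the quotient. -/
theorem exists_defectZero (hM : IsPModular p M) {e : Set (IrrCharacter K)} (he : IsPBlock M e)
    {Z : Subgroup K} [Z.Normal] (hD : IsDefectGroup p M e Z) :
    ∃ θ ∈ e, (∀ z ∈ Z, (θ : K → ℂ) z = (θ : K → ℂ) 1) ∧
      (charDegree (θ : K → ℂ)).factorization p + (Nat.card Z).factorization p =
        (Nat.card K).factorization p := by
  obtain ⟨η, hη⟩ := BlocksCore.exists_inflate_mem hM he Z (isPGroup_of_isDefectGroup hD)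
  refine ⟨_, hη, fun z hz => ?_, ?_⟩
  · rw [BlocksCore.inflate_apply, BlocksCore.inflate_apply, map_one]
    exact congrArg _ ((QuotientGroup.eq_one_iff z).mpr hz)
  have hdeg : charDegree (BlocksCore.inflate Z η : K → ℂ) = charDegree (η : K ⧸ Z → ℂ) := by
    rw [charDegree, charDegree, BlocksCore.inflate_apply, map_one]
  have := Fintype.ofFinite (K ⧸ Z)
  have h1 := (Nat.factorization_le_iff_dvd (charDegree_pos η).ne' Nat.card_pos.ne').mpr
    (charDegree_dvd_card η) p
  rw [← hdeg, ← Subgroup.index_eq_card] at h1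
  have h2 : (Nat.card Z).factorization p + Z.index.factorization p =
      (Nat.card K).factorization p := by
    rw [← Subgroup.card_mul_index Z, Nat.factorization_mul Nat.card_pos.ne'
      Subgroup.FiniteIndex.index_ne_zero, Finsupp.add_apply]
  have h3 : (Nat.card Z).factorization p = blockDefect p e := by
    rw [defectGroup_natCard hM he hD, Nat.Prime.factorization_pow Fact.out, Finsupp.single_eq_same]
  unfold blockDefect at h3
  have h4 : sInf ((fun ψ : IrrCharacter K => (charDegree (ψ : K → ℂ)).factorization p) '' e) ≤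
      (charDegree (BlocksCore.inflate Z η : K → ℂ)).factorization p := Nat.sInf_le ⟨_, hη, rfl⟩
  omega

theorem centralChar_pullIrr (σ : K ≃* K) (θ : IrrCharacter K) (g : K) :
    centralChar (pullIrr σ θ : K → ℂ) g = centralChar (θ : K → ℂ) (σ g) := by
  rw [centralChar, centralChar, pullIrr_apply, pullIrr_apply, map_one, ← natCard_isConj,
    ← natCard_isConj]
  congr 3
  refine Nat.card_congr (σ.toEquiv.subtypeEquiv fun y => ⟨fun h => σ.toMonoidHom.map_isConj h,
    fun h => ?_⟩)
  have h' : IsConj (σ.symm (σ g)) (σ.symm (σ y)) := σ.symm.toMonoidHom.map_isConj h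
  rwa [σ.symm_apply_apply, σ.symm_apply_apply] at h'

/-- A `p`-group of automorphisms fixing a block fixes a class at which the block idempotent is
a unit. -/
theorem exists_fixed_unit_class {X : Type*} [Group X] [Finite X] (hX : IsPGroup p X)
    (φ : X →* MulAut K) (hM : IsPModular p M) {e : Set (IrrCharacter K)} (he : IsPBlock M e)
    (hinv : ∀ (u : X) (k : K), blockCoeff e (φ u k) = blockCoeff e k) :
    ∃ c, ¬ MemLocalIdeal M (blockCoeff e c) ∧ ∀ u : X, IsConj c (φ u c) := by
  have := isPrime hM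
  obtain ⟨θ, hθ⟩ := isPBlock_nonempty he
  let α := ConjClasses K
  have : Finite α := Finite.of_surjective _ ConjClasses.mk_surjective
  have := Fintype.ofFinite α
  let _ : MulAction X α :=
    { smul := fun u C => ConjClasses.map (φ u).toMonoidHom C
      one_smul := fun C => by
        obtain ⟨k, rfl⟩ := ConjClasses.mk_surjective C
        show ConjClasses.mk (φ 1 k) = _
        rw [map_one]; rfl
      mul_smul := fun u v C => by
        obtain ⟨k, rfl⟩ := ConjClasses.mk_surjective C
        show ConjClasses.mk (φ (u * v) k) = ConjClasses.mk (φ u (φ v k))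
        rw [map_mul]; rfl }
  have hint := isIntClassFun_blockCoeff hM he
  let w : K → ℂ := fun k => blockCoeff e k * centralChar (θ : K → ℂ) k
  have hwR : ∀ k, MemLocalRing M (w k) := fun k =>
    (localRing M).mul_mem (hint.2 k) (centralChar_memLocalRing θ k)
  have hwc : ∀ {k k' : K}, IsConj k k' → w k = w k' := by
    intro k k' h
    show _ * _ = _ * _
    rw [classFun_eq_of_isConj hint.1 h, centralChar, centralChar,
      classFun_eq_of_isConj (irr_class θ) h, ← natCard_isConj, ← natCard_isConj]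
    congr 4
    exact Nat.card_congr (Equiv.subtypeEquivRight fun y =>
      ⟨fun hy => h.symm.trans hy, fun hy => h.trans hy⟩)
  let v : α → ℂ := fun C => w (Quotient.out C)
  have hout : ∀ k : K, IsConj k (Quotient.out (ConjClasses.mk k)) := fun k =>
    ConjClasses.mk_eq_mk_iff_isConj.mp (Quotient.out_eq (ConjClasses.mk k)).symm
  have hv : ∀ k : K, v (ConjClasses.mk k) = w k := fun k => (hwc (hout k)).symm
  have hmod : ∀ (u : X) (C : α), MemLocalIdeal M (v (u • C) - v C) := by
    intro u C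
    obtain ⟨k, rfl⟩ := ConjClasses.mk_surjective C
    show MemLocalIdeal M (v (ConjClasses.mk (φ u k)) - v (ConjClasses.mk k))
    have hmem : pullIrr (φ u) θ ∈ e := by
      have h : pullIrr (φ u) '' e = e := blockCoeff_injective (by
        rw [blockCoeff_image_pullIrr]; exact funext (hinv u))
      exact h.le ⟨θ, hθ, rfl⟩
    have h := sameBlock_of_mem he hmem hθ k
    rw [centralChar_pullIrr] at h
    rw [hv, hv]
    show MemLocalIdeal M (_ * _ - _ * _)
    rw [hinv, ← mul_sub]
    exact memLocalIdeal_mul_left (hint.2 k) h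
  let v' : α → ℂ := fun C => v (Quotient.mk (MulAction.orbitRel X α) C).out
  have hd : ∀ C, MemLocalIdeal M (v' C - v C) := by
    intro C
    obtain ⟨u, hu⟩ : (Quotient.mk (MulAction.orbitRel X α) C).out ∈ MulAction.orbit X C :=
      MulAction.orbitRel_apply.mp (Quotient.exact (Quotient.out_eq _))
    show MemLocalIdeal M (v _ - v C)
    rw [← hu]
    exact hmod u C
  have key := memLocalIdeal_sum_sub_fixed (α := α) (P := X) hM hX v' (fun u C => by
    show v _ = v _
    rw [Quotient.sound (s := MulAction.orbitRel X α) (MulAction.mem_orbit C u)])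
    fun C => hwR _
  have hsum : ∑ C, v C = 1 := by
    show ∑ C : α, blockCoeff e (Quotient.out C) * centralChar (θ : K → ℂ) (Quotient.out C) = 1
    rw [← BlocksDefect.omega_eq_sum_classes θ hint.1, omega_blockCoeff, Set.indicator_of_mem hθ, Pi.one_apply]
  obtain ⟨C, hC, hu⟩ : ∃ C ∈ MulAction.fixedPoints X α, ¬ MemLocalIdeal M (v C) := by
    by_contra hno
    push Not at hno
    have h0 : MemLocalIdeal M (∑ C, (v' C - v C)) := memLocalIdeal_sum fun C _ => hd C
    have h1 : MemLocalIdeal M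
        (∑ C ∈ Finset.univ.filter (· ∈ MulAction.fixedPoints X α), v' C) :=
      memLocalIdeal_sum fun C hC => by
        have h := memLocalIdeal_add (hd C) (hno C (Finset.mem_filter.mp hC).2)
        rwa [sub_add_cancel] at h
    have h2 := memLocalIdeal_sub (memLocalIdeal_add key h1) h0
    rw [sub_add_cancel, Finset.sum_sub_distrib, sub_sub_cancel, hsum] at h2
    exact not_memLocalIdeal_one (M := M) h2
  refine ⟨Quotient.out C,
    fun h => hu (memLocalIdeal_mul_right h (centralChar_memLocalRing θ _)), fun u => ?_⟩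
  refine ConjClasses.mk_eq_mk_iff_isConj.mp ?_
  have h1 : ConjClasses.mk (Quotient.out C) = C := Quotient.out_eq C
  have h2 : u • ConjClasses.mk (Quotient.out C) = ConjClasses.mk (Quotient.out C) := by
    rw [h1]; exact hC u
  exact h2.symm

end Generic

section Pairs

universe u

variable {G : Type u} [Group G] [Fintype G] {p : ℕ} [Fact p.Prime] {M : Ideal AlgInt}
  {Q : Subgroup G}

local notation "C[" Q "]" => Subgroup.centralizer (Q : Set G)

theorem subgroupOf_le_center (Q : Subgroup G) :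
    Q.subgroupOf C[Q] ≤ Subgroup.center C[Q] := fun z hz =>
  Subgroup.mem_center_iff.mpr fun c =>
    Subtype.ext (Subgroup.mem_centralizer_iff.mp c.2 z hz).symm

theorem eq_of_step (hM : IsPModular p M) {B : Set (IrrCharacter G)}
    {e : Set (IrrCharacter C[Q])} (hmax : IsMaximalBrauerPair p M B Q e) {R : Subgroup G}
    (hR : IsPGroup p R) (hQR : Q ≤ R) (hRN : R ≤ Subgroup.normalizer (Q : Set G))
    (hinv : R ≤ invSubgroup (bp ⟨Q, e⟩)) {c : G} (hc : c ∈ C[R])
    (hu : ¬ MemLocalIdeal M (bp ⟨Q, e⟩ c)) : R = Q := by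
  obtain ⟨g, hg⟩ := exists_step_of_unit hM hmax.1.1 hR hQR hRN hinv hc hu
  exact hmax.2 R g ((normalSubpair_pairOf_iff hM hg B).mpr hmax.1)
    (Relation.ReflTransGen.single hg)

/-- The block of a maximal pair has the center of `Q` as defect group. -/
theorem maximal_defect (hM : IsPModular p M) {B : Set (IrrCharacter G)}
    {e : Set (IrrCharacter C[Q])} (hmax : IsMaximalBrauerPair p M B Q e) :
    IsDefectGroup p M e (Q.subgroupOf C[Q]) := by
  have hQ : IsPGroup p Q := hmax.1.1.1
  obtain ⟨D, hD⟩ := exists_isDefectGroup hM hmax.1.1.2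
  haveI : (Q.subgroupOf C[Q]).Normal :=
    BlocksDefect.normal_of_le_center (subgroupOf_le_center Q)
  have hge := BlocksDefect.le_defectGroup _ hM (BC85.isPGroup_subgroupOf hQ C[Q]) hmax.1.1.2 hD
  obtain ⟨g, hg, hS⟩ := isDefectGroup_iff.mp hD
  set D₁ := D.map (C[Q]).subtype with hD₁
  have hD₁C : D₁ ≤ C[Q] := Subgroup.map_subtype_le D
  have hD₁N := hD₁C.trans (BlocksCore.centralizer_le_normalizer' Q)
  have hc : (g : G) ∈ C[(Q ⊔ D₁ : Subgroup G)] := by
    refine mem_centralizer_sup g.2 (Subgroup.mem_centralizer_iff.mpr ?_)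
    rintro _ ⟨d, hd, rfl⟩
    exact congrArg Subtype.val (Subgroup.mem_centralizer_iff.mp hS.mem_centralizer d hd)
  have hEq := eq_of_step hM hmax (hQ.to_sup_of_normal_left' (hS.isPGroup.map _) hD₁N) le_sup_left
    (sup_le Subgroup.le_normalizer hD₁N)
    ((sup_le le_sup_left (hD₁C.trans le_sup_right)).trans (le_invSubgroup_self Q e)) hc
    (by rw [bp_apply_coe]; exact hg.2.1)
  have hle : D ≤ Q.subgroupOf C[Q] := fun d hd =>
    hEq.le ((le_sup_right : D₁ ≤ Q ⊔ D₁) ⟨d, hd, rfl⟩)
  rwa [← le_antisymm hle hge]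

/-- A `p`-element stabilizing the block of a maximal pair lies in `Q C(Q)`. -/
theorem maximal_stabilizer (hM : IsPModular p M) {B : Set (IrrCharacter G)}
    {e : Set (IrrCharacter C[Q])} (hmax : IsMaximalBrauerPair p M B Q e) {x : G}
    (hxN : x ∈ Subgroup.normalizer (Q : Set G)) (hx : StabilizesBlock C[Q] e x) {k : ℕ}
    (hk : orderOf x = p ^ k) : x ∈ Q ⊔ C[Q] := by
  by_contra hxS
  have hQ : IsPGroup p Q := hmax.1.1.1
  have hCN := BlocksCore.centralizer_le_normalizer' Q
  have hxC : x ∈ Subgroup.normalizer (C[Q] : Set G) := hx.1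
  have hxinv : x ∈ invSubgroup (bp ⟨Q, e⟩) := by
    rw [← inv_inv x]
    exact Subgroup.inv_mem _ fun g => by rw [inv_inv]; exact ((stabilizesBlock_iff e x).mp hx).2 g
  let φ : Subgroup.zpowers x →* MulAut C[Q] :=
    (Subgroup.normalizerMonoidHom C[Q]).comp
      (Subgroup.inclusion (Subgroup.zpowers_le.mpr hxC))
  have hφ : ∀ (u : Subgroup.zpowers x) (c : C[Q]),
      ((φ u c : C[Q]) : G) = (u : G) * c * (u : G)⁻¹ := fun u c => rfl
  have hX : IsPGroup p (Subgroup.zpowers x) := IsPGroup.of_card ((Nat.card_zpowers x).trans hk)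
  obtain ⟨c, hu, hfix⟩ := exists_fixed_unit_class hX φ hM hmax.1.1.2 fun u d => by
    rw [← bp_apply_coe Q e, ← bp_apply_coe Q e, hφ]
    exact Subgroup.zpowers_le.mpr hxinv u.2 (d : G)
  obtain ⟨m, hm⟩ := isConj_iff.mp (hfix ⟨x, Subgroup.mem_zpowers x⟩)
  have hm' : (m : G) * (c : G) * (m : G)⁻¹ = x * (c : G) * x⁻¹ :=
    (congrArg Subtype.val hm).trans (hφ ⟨x, Subgroup.mem_zpowers x⟩ c)
  obtain ⟨t, ht⟩ : ∃ t, t = (m : G)⁻¹ * x := ⟨_, rfl⟩
  have htc : t * c = c * t := by
    rw [ht]
    calc (m : G)⁻¹ * x * c = (m : G)⁻¹ * (x * c * x⁻¹) * x := by group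
      _ = c * ((m : G)⁻¹ * x) := by rw [← hm']; group
  have hpow : ∀ j : ℕ, t ^ j * (x ^ j)⁻¹ ∈ C[Q] := by
    intro j
    induction j with
    | zero => simp
    | succ j ih =>
      have h := mul_mem (inv_mem m.2) ((Subgroup.mem_normalizer_iff.mp hxC _).mp ih)
      convert h using 1
      rw [pow_succ' t, pow_succ' x]
      conv_lhs => rw [show t * t ^ j = (m : G)⁻¹ * x * t ^ j by rw [← ht]]
      group
  have htS : t ∉ Q ⊔ C[Q] := fun h => hxS (by
    have h' := Subgroup.mul_mem _ ((le_sup_right : C[Q] ≤ Q ⊔ C[Q]) m.2) h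
    rwa [ht, mul_inv_cancel_left] at h')
  obtain ⟨a, r, hr, hord⟩ := Nat.exists_eq_pow_mul_and_not_dvd (orderOf_pos t).ne' p
    (Fact.out : p.Prime).ne_one
  have hyp : IsPGroup p (Subgroup.zpowers (t ^ r)) := by
    obtain ⟨b, -, hb⟩ := (Nat.dvd_prime_pow (Fact.out : p.Prime)).mp
      (orderOf_dvd_of_pow_eq_one (show (t ^ r) ^ p ^ a = 1 by
        rw [← pow_mul, mul_comm r, ← hord, pow_orderOf_eq_one]))
    exact IsPGroup.of_card ((Nat.card_zpowers _).trans hb)
  have hxr : x ^ p ^ k = 1 := by rw [← hk, pow_orderOf_eq_one]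
  have htk : t ^ p ^ k ∈ C[Q] := by simpa [hxr] using hpow (p ^ k)
  have hyN : t ∈ Subgroup.normalizer (Q : Set G) := by
    rw [ht]; exact mul_mem (inv_mem (hCN m.2)) hxN
  have hyinv : t ∈ invSubgroup (bp ⟨Q, e⟩) := by
    rw [ht]
    exact mul_mem (inv_mem (((le_sup_right : C[Q] ≤ Q ⊔ C[Q]).trans
      (le_invSubgroup_self Q e)) m.2)) hxinv
  have hYN : Subgroup.zpowers (t ^ r) ≤ Subgroup.normalizer (Q : Set G) :=
    Subgroup.zpowers_le.mpr (pow_mem hyN r)
  have hc : (c : G) ∈ C[(Q ⊔ Subgroup.zpowers (t ^ r) : Subgroup G)] := by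
    refine mem_centralizer_sup c.2 ((le_centralizer_singleton_iff (y := (c : G))).mp ?_)
    exact Subgroup.zpowers_le.mpr
      (pow_mem (Subgroup.mem_centralizer_singleton_iff.mpr htc) r)
  have hEq := eq_of_step hM hmax (hQ.to_sup_of_normal_left' hyp hYN) le_sup_left
    (sup_le Subgroup.le_normalizer hYN)
    (sup_le (le_sup_left.trans (le_invSubgroup_self Q e))
      (Subgroup.zpowers_le.mpr (pow_mem hyinv r))) hc (by rwa [bp_apply_coe])
  have hy : t ^ r ∈ Q ⊔ C[Q] := (le_sup_left : Q ≤ Q ⊔ C[Q])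
    (hEq.le ((le_sup_right : Subgroup.zpowers (t ^ r) ≤ Q ⊔ _) (Subgroup.mem_zpowers _)))
  refine htS ?_
  have hco : Nat.Coprime (p ^ k) r :=
    ((Nat.Prime.coprime_iff_not_dvd Fact.out).mpr hr).pow_left k
  have hb : ((Nat.gcd (p ^ k) r : ℕ) : ℤ) = _ := Nat.gcd_eq_gcd_ab (p ^ k) r
  rw [hco.gcd_eq_one, Nat.cast_one] at hb
  have := Subgroup.mul_mem _
    (Subgroup.zpow_mem _ ((le_sup_right : C[Q] ≤ Q ⊔ C[Q]) htk) (Nat.gcdA (p ^ k) r))
    (Subgroup.zpow_mem _ hy (Nat.gcdB (p ^ k) r))
  rwa [← zpow_natCast t, ← zpow_natCast t, ← zpow_mul, ← zpow_mul, ← zpow_add, ← hb,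
    zpow_one] at this

theorem eq_of_criterion (hM : IsPModular p M) {e : Set (IrrCharacter C[Q])}
    (he : IsBrauerPair p M Q e) (hD : IsDefectGroup p M e (Q.subgroupOf C[Q]))
    (hstab : ∀ g : G, g ∈ Subgroup.normalizer (Q : Set G) → StabilizesBlock C[Q] e g →
      (∃ k : ℕ, orderOf g = p ^ k) → g ∈ Q ⊔ C[Q])
    {R : Subgroup G} {g : Set (IrrCharacter C[R])} (hle : SubpairLE p M Q e R g) : R = Q := by
  have := isPrime hM
  by_contra hne
  obtain ⟨⟨R', g'⟩, hlt, hstep, -⟩ := exists_strict_step hM hle (Ne.symm hne)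
  obtain ⟨-, hR', hQR, hRN, hinv, hsub⟩ := (isNormalSubpair_iff hM).mp hstep
  obtain ⟨c₀, hc₀, hu⟩ := exists_unit_of_subset_cset hM
    (isBrFun_bp hM (isBlockUnion_isPBlock he.2) hQR hinv) (isPBlock_nonempty hR'.2) hsub
  have hRS : R' ≤ Q ⊔ C[Q] := fun x hx => hstab x (hRN hx) (hstep.2.2.2.2.1 x hx)
    (by
      obtain ⟨k, hk⟩ := IsPGroup.iff_orderOf.mp hR'.1 ⟨x, hx⟩
      exact ⟨k, by rwa [← Subgroup.orderOf_coe] at hk⟩)
  refine hlt.not_ge fun x hx => ?_
  obtain ⟨q, hq, c, hc, rfl⟩ : ∃ q ∈ Q, ∃ c ∈ C[Q], q * c = x := by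
    have h : x ∈ ((Q ⊔ C[Q] : Subgroup G) : Set G) := hRS hx
    rw [Subgroup.coe_mul_of_right_le_normalizer_left Q C[Q]
      (BlocksCore.centralizer_le_normalizer' Q)] at h
    exact Set.mem_mul.mp h
  have hcR : c ∈ R' := by
    simpa using mul_mem (inv_mem (hQR hq)) hx
  refine mul_mem hq ?_
  have hc₀Q : c₀ ∈ C[Q] := centralizer_anti hQR hc₀
  obtain ⟨D, hD', hSD⟩ := exists_defectGroup_ge_of_unit hM he.2
    (isPGroup_subgroupOf (hR'.1.to_le inf_le_left) C[Q]) (S := (R' ⊓ C[Q]).subgroupOf C[Q])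
    (c := ⟨c₀, hc₀Q⟩)
    ((mem_centralizer_subgroupOf inf_le_right _).mpr (centralizer_anti inf_le_left hc₀))
    (by rwa [← bp_apply_coe Q e])
  rw [eq_of_le_center hM he.2 (subgroupOf_le_center Q) hD hD'] at hSD
  exact hSD (show (⟨c, hc⟩ : C[Q]) ∈ (R' ⊓ C[Q]).subgroupOf C[Q] from ⟨hcR, hc⟩)

end Pairs

/-- Let p be a prime, M a maximal ideal of the algebraic integers containing p, and (Q, e) a Brauer pair of the finite group G (Q a p-subgroup, e a block of C_G(Q)). Then (Q, e) is a maximal Brauer pair of some block of G if and only if e contains an irreducible character θ such that θ takes the value θ(1) at every element of Z(Q) = Q ∩ C_G(Q), the p-part of θ(1) times the p-part of the order of Z(Q) equals the p-part of the order of C_G(Q) (θ has defect zero as a character of C_G(Q)/Z(Q)), and every element of N_G(Q) of p-power order that stabilizes e lies in Q·C_G(Q) (the stabilizer of e in N_G(Q) has index prime to p over Q·C_G(Q)). -/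
theorem result {G : Type*} [Group G] [Finite G] (p : ℕ) [Fact p.Prime] (M : Ideal Cfsg.AlgInt) (hM : Cfsg.IsPModular p M) (Q : Subgroup G) (e : Set (Cfsg.IrrCharacter (Subgroup.centralizer (Q : Set G)))) (he : Cfsg.IsBrauerPair p M Q e) :
    (∃ B : Set (Cfsg.IrrCharacter G), Cfsg.IsMaximalBrauerPair p M B Q e) ↔
      ∃ θ ∈ e, (∀ z : Subgroup.centralizer (Q : Set G), (z : G) ∈ Q → (θ : Subgroup.centralizer (Q : Set G) → ℂ) z = (θ : Subgroup.centralizer (Q : Set G) → ℂ) 1) ∧
        (Cfsg.charDegree (θ : Subgroup.centralizer (Q : Set G) → ℂ)).factorization p + (Nat.card ↥(Q ⊓ Subgroup.centralizer (Q : Set G))).factorization p = (Nat.card (Subgroup.centralizer (Q : Set G))).factorization p ∧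
        (∀ g : G, g ∈ Subgroup.normalizer (Q : Set G) → Cfsg.StabilizesBlock (Subgroup.centralizer (Q : Set G)) e g → (∃ k : ℕ, orderOf g = p ^ k) → g ∈ Q ⊔ Subgroup.centralizer (Q : Set G)) := by
  have := Fintype.ofFinite G
  have := isPrime hM
  have hcard : Nat.card ↥(Q ⊓ Subgroup.centralizer (Q : Set G)) =
      Nat.card (Q.subgroupOf (Subgroup.centralizer (Q : Set G))) := by
    rw [← Subgroup.inf_subgroupOf_right]
    exact (Nat.card_congr (Subgroup.subgroupOfEquivOfLe inf_le_right).toEquiv).symm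
  constructor
  · rintro ⟨B, hB⟩
    haveI := BlocksDefect.normal_of_le_center (subgroupOf_le_center Q)
    obtain ⟨θ, hθ, hker, hdeg⟩ := exists_defectZero hM he.2 (maximal_defect hM hB)
    exact ⟨θ, hθ, fun z hz => hker z hz, by rw [hcard]; exact hdeg,
      fun g hg hs ⟨k, hk⟩ => maximal_stabilizer hM hB hg hs hk⟩
  · rintro ⟨θ, hθ, -, hdeg, hstab⟩
    obtain ⟨B, hB, -⟩ := existsUnique_block_of_pair hM he
    refine ⟨B, hB, fun R g _ hle => eq_of_criterion hM he ?_ hstab hle⟩
    rw [hcard, ← Subgroup.card_mul_index (Q.subgroupOf (Subgroup.centralizer (Q : Set G))),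
      Nat.factorization_mul Nat.card_pos.ne' Subgroup.FiniteIndex.index_ne_zero,
      Finsupp.add_apply] at hdeg
    rw [isPBlock_eq_blockOf he.2 hθ]
    exact (laradji (subgroupOf_le_center Q) hM (isPGroup_subgroupOf he.1 _) θ (by omega)).1

end Cfsg.Agent.S4828
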