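import Cfsg.Statements.S4837
import Cfsg.Agent.BC87.Gagola

set_option autoImplicit false
open Cfsg

namespace Cfsg.Agent.S4837

open scoped ComplexConjugate

/-- The stabilizer of a nonprincipal character of `N` has index equal to the class size. -/
theorem exists_stabilizer {G : Type*} [Group G] [Finite G] {χ : Cfsg.IrrCharacter G} {x : G}
    (h : BC87.Gag χ x) (μ : Cfsg.IrrCharacter (BC87.gagN χ))
    (hμ : (μ : BC87.gagN χ → ℂ) ≠ (fun _ => (1 : ℂ))) :
    ∃ T : Subgroup G, T.index = BC87.classSize x ∧ ∀ g, g ∈ T ↔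
      ∀ n n' : BC87.gagN χ, (n' : G) = g * n * g⁻¹ →
        (μ : BC87.gagN χ → ℂ) n' = (μ : BC87.gagN χ → ℂ) n := by
  classical
  have := Fintype.ofFinite G
  let N := BC87.gagN χ
  have hcomm : ∀ a b : N, a * b = b * a := fun a b => Subtype.ext (h.commute a.2 b.2).eq
  let c : G → N → N := fun g n => (MulAut.conjNormal g : MulAut N) n
  let Φ : G → (N → ℂ) := fun g n => (μ : N → ℂ) (c g⁻¹ n)
  have hc : ∀ g g' n, c (g * g') n = c g (c g' n) := fun g g' n => by simp [c]
  have hΦirr : ∀ g, Cfsg.IsIrrCharacter N (Φ g) := fun g =>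
    CharCore.isIrrCharacter_comp_surjective μ.2 (MulAut.conjNormal g⁻¹ : MulAut N).toMonoidHom
      (MulAut.conjNormal g⁻¹ : MulAut N).surjective
  let T : Subgroup G :=
    { carrier := {g | ∀ n, (μ : N → ℂ) (c g n) = (μ : N → ℂ) n}
      mul_mem' := fun {a b} ha hb n => by rw [hc, ha, hb]
      one_mem' := fun n => by simp [c]
      inv_mem' := fun {a} ha n => by
        have := ha (c a⁻¹ n)
        rw [← hc, mul_inv_cancel] at this
        simpa [c] using this.symm }
  refine ⟨T, ?_, fun g => ?_⟩
  · let O : Finset (N → ℂ) := Finset.univ.image Φ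
    let all' : Finset (Cfsg.IrrCharacter N) := Finset.univ.erase (BC87.triv N)
    have hO : O = all'.image (fun ν : Cfsg.IrrCharacter N => (ν : N → ℂ)) := by
      have hmemO : ∀ φ ∈ O, ∃ ν ∈ all', (ν : N → ℂ) = φ := by
        intro φ hφ
        obtain ⟨g, -, rfl⟩ := Finset.mem_image.mp hφ
        refine ⟨⟨_, hΦirr g⟩, Finset.mem_erase.mpr ⟨fun he => hμ ?_, Finset.mem_univ _⟩, rfl⟩
        funext n
        have := congrFun (congrArg Subtype.val he) (c g n)
        simp only [Φ, BC87.triv_apply] at this
        rw [← hc, inv_mul_cancel] at this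
        simpa [c] using this
      refine Finset.Subset.antisymm (fun φ hφ => Finset.mem_image.mpr (hmemO φ hφ)) fun φ hφ => ?_
      obtain ⟨ν, hν, rfl⟩ := Finset.mem_image.mp hφ
      by_contra hnot
      let f : N → ℂ := fun n => ∑ φ ∈ O, φ n
      have hinv : ∀ g n, f (c g n) = f n := fun g n => by
        refine Finset.sum_bij (fun φ _ => fun m => φ (c g m)) (fun φ hφ => ?_) ?_ ?_ (fun φ _ => rfl)
        · obtain ⟨a, -, rfl⟩ := Finset.mem_image.mp hφ
          refine Finset.mem_image.mpr ⟨g⁻¹ * a, Finset.mem_univ _, funext fun m => ?_⟩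
          simp only [Φ, mul_inv_rev, inv_inv, hc]
        · intro φ₁ _ φ₂ _ he
          funext m
          simpa [← hc, c] using congrFun he (c g⁻¹ m)
        · intro φ hφ
          obtain ⟨a, -, rfl⟩ := Finset.mem_image.mp hφ
          exact ⟨Φ (g * a), Finset.mem_image.mpr ⟨g * a, Finset.mem_univ _, rfl⟩, funext fun m => by
            simp only [Φ, mul_inv_rev, ← hc, inv_mul_cancel_right]⟩
      let xN : N := ⟨x, h.self_mem⟩
      have hconst : ∀ n : N, n ≠ 1 → f n = f xN := fun n hn => by
        obtain ⟨g, hg⟩ := isConj_iff.mp (h.conj_of_mem h.self_mem h.ne_one n.2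
          (fun e => hn (Subtype.ext e)))
        rw [show n = c g xN from Subtype.ext hg.symm, hinv]
      have hf1 : f 1 = O.card := by
        rw [Finset.card_eq_sum_ones]
        push_cast
        refine Finset.sum_congr rfl fun φ hφ => ?_
        obtain ⟨a, -, rfl⟩ := Finset.mem_image.mp hφ
        simp [Φ, c, BC87.apply_one_eq_one_of_comm hcomm]
      have hinner : ∀ ν' : Cfsg.IrrCharacter N, (ν' : N → ℂ) ∉ O →
          ∑ n : N, f n * conj ((ν' : N → ℂ) n) = 0 := fun ν' hν' => by
        simp only [f, Finset.sum_mul]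
        rw [Finset.sum_comm]
        refine Finset.sum_eq_zero fun φ hφ => ?_
        obtain ⟨ν₀, -, rfl⟩ := hmemO φ hφ
        have := CharCore.classInner_irr_of_ne (χ := ν₀) (ψ := ν') (fun e => hν' (e ▸ hφ))
        rw [CharCore.classInner_def, mul_eq_zero] at this
        exact this.resolve_left (inv_ne_zero (Nat.cast_ne_zero.mpr Nat.card_pos.ne'))
      have htriv : (BC87.triv N : N → ℂ) ∉ O := fun hm => by
        obtain ⟨ν', hν', he⟩ := hmemO _ hm
        exact Finset.ne_of_mem_erase hν' (Subtype.ext he)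
      have h1 := hinner _ htriv
      have h2 := hinner _ hnot
      have h3 := CharCore.classInner_irr_of_ne (Finset.ne_of_mem_erase hν)
      rw [CharCore.classInner_def, mul_eq_zero] at h3
      have h4 := h3.resolve_left (inv_ne_zero (Nat.cast_ne_zero.mpr Nat.card_pos.ne'))
      simp only [BC87.triv_apply, map_one, mul_one] at h1 h4
      have hone : (ν : N → ℂ) 1 = 1 := BC87.apply_one_eq_one_of_comm hcomm ν
      rw [← Finset.add_sum_erase _ _ (Finset.mem_univ (1 : N))] at h1 h2 h4
      rw [hone] at h4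
      rw [hone, map_one, mul_one, hf1, Finset.sum_congr rfl fun n hn => by
        rw [hconst n (Finset.ne_of_mem_erase hn)], ← Finset.mul_sum, ← map_sum] at h2
      rw [hf1, Finset.sum_congr rfl fun n hn => hconst n (Finset.ne_of_mem_erase hn),
        Finset.sum_const, nsmul_eq_mul] at h1
      rw [eq_neg_of_add_eq_zero_right h4, map_neg, map_one, mul_neg, mul_one] at h2
      have h5 : f xN = O.card := by linear_combination -h2
      rw [h5] at h1
      have h6 : O.card + ((Finset.univ : Finset N).erase 1).card * O.card = 0 := by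
        exact_mod_cast h1
      have h7 : O.card ≠ 0 :=
        (Finset.card_pos.mpr (Finset.univ_nonempty.image Φ)).ne'
      omega
    have hcardO : O.card = BC87.classSize x := by
      rw [hO, Finset.card_image_of_injective _ Subtype.val_injective,
        Finset.card_erase_of_mem (Finset.mem_univ _), Finset.card_univ, ← Nat.card_eq_fintype_card,
        CharCore.card_irr]
      let _ : CommGroup N := { (inferInstance : Group N) with mul_comm := hcomm }
      rw [Nat.card_congr ConjClasses.mkEquiv.symm, h.card_gagN, Nat.add_sub_cancel]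
    have hΦ : ∀ a b : G, Φ a = Φ b ↔ a⁻¹ * b ∈ T := fun a b => by
      constructor
      · intro he n
        have := congrFun he (c b n)
        simp only [Φ] at this
        rw [← hc, ← hc, inv_mul_cancel] at this
        simpa [c] using this
      · intro hT
        funext n
        have := hT (c b⁻¹ n)
        simp only [Φ]
        rw [← hc, mul_assoc, mul_inv_cancel, mul_one] at this
        exact this
    rw [← hcardO, Subgroup.index_eq_card]
    let F : G ⧸ T → {φ // φ ∈ O} := Quotient.lift
      (fun g => ⟨Φ g, Finset.mem_image_of_mem Φ (Finset.mem_univ g)⟩)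
      fun a b hab => Subtype.ext ((hΦ a b).mpr (QuotientGroup.leftRel_apply.mp hab))
    rw [← Fintype.card_coe, ← Nat.card_eq_fintype_card]
    refine Nat.card_congr (Equiv.ofBijective F ⟨fun q₁ q₂ => ?_, fun ⟨φ, hφ⟩ => ?_⟩)
    · induction q₁ using Quotient.ind
      induction q₂ using Quotient.ind
      exact fun he => Quotient.sound
        (QuotientGroup.leftRel_apply.mpr ((hΦ _ _).mp (congrArg Subtype.val he)))
    · obtain ⟨g, -, rfl⟩ := Finset.mem_image.mp hφ
      exact ⟨Quotient.mk _ g, rfl⟩
  · refine ⟨fun hg n n' hn => ?_, fun hg n => hg n (c g n) rfl⟩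
    rw [show n' = c g n from Subtype.ext hn]
    exact hg n

/-- Let G be a finite group of order greater than 2 with an irreducible character χ nonzero on exactly two conjugacy classes, and let N be the set of elements where χ is nonzero, given as a nontrivial normal p-subgroup of G for the prime p. Then for every nonidentity x in N the centralizer C_G(x) is a Sylow p-subgroup of G, and for every irreducible character λ ≠ 1 of N the stabilizer of λ in G (its inertia group) is a Sylow p-subgroup of G. -/
theorem result {G : Type*} [Group G] [Finite G] (hG : 2 < Nat.card G) (χ : Cfsg.IrrCharacter G) (hχ : Nat.card {C : ConjClasses G // ∃ g ∈ C.carrier, (χ : G → ℂ) g ≠ 0} = 2) (p : ℕ) [Fact p.Prime] (N : Subgroup G) [N.Normal] (hN : ∀ g : G, g ∈ N ↔ (χ : G → ℂ) g ≠ 0) (hNp : IsPGroup p N) (hN1 : N ≠ ⊥) :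
    (∀ x ∈ N, x ≠ 1 → ∃ P : Sylow p G, Subgroup.centralizer ({x} : Set G) = P) ∧
      (∀ μ : Cfsg.IrrCharacter N, (μ : N → ℂ) ≠ (fun _ => (1 : ℂ)) → ∃ P : Sylow p G, ∀ g : G, g ∈ (P : Subgroup G) ↔ ∀ n n' : N, (n' : G) = g * n * g⁻¹ → (μ : N → ℂ) n' = (μ : N → ℂ) n) := by
  obtain ⟨x, h⟩ := BC87.exists_gag hG χ hχ
  obtain rfl := h.eq_gagN hN
  refine ⟨fun a ha ha1 => ⟨(h.of_mem ha ha1).centralizerSylow hNp,
    ((h.of_mem ha ha1).coe_centralizerSylow hNp).symm⟩, fun μ hμ => ?_⟩
  obtain ⟨T, hT, hmem⟩ := exists_stabilizer h μ hμ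
  have hcard : Nat.card T = Nat.card (h.centralizerSylow hNp : Subgroup G) := by
    rw [h.coe_centralizerSylow]
    apply Nat.eq_of_mul_eq_mul_left (BC87.classSize_pos x)
    rw [← hT, Subgroup.index_mul_card, hT]
    exact (BC87.card_isConj_mul_card_centralizer x).symm
  have hTp : IsPGroup p T := by
    obtain ⟨k, hk⟩ := (h.centralizerSylow hNp).isPGroup'.exists_card_eq
    exact IsPGroup.of_card (n := k) (hcard.trans hk)
  exact ⟨hTp.toSylow (hT ▸ h.not_dvd_classSize hNp), fun g => by
    rw [IsPGroup.toSylow_coe]; exact hmem g⟩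

end Cfsg.Agent.S4837
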