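import Cfsg.Statements.S4838
import Cfsg.Agent.BC87.Gagola

set_option autoImplicit false
open Cfsg

namespace Cfsg.Agent.S4838

open scoped commutatorElement

/-- The order of `N` divides the class size of an element outside `N`. -/
theorem card_dvd_classSize {G : Type*} [Group G] [Finite G] {χ : Cfsg.IrrCharacter G} {x : G}
    (h : BC87.Gag χ x) {y : G} (hy : y ∉ BC87.gagN χ) :
    Nat.card (BC87.gagN χ) ∣ Nat.card {g : G // IsConj y g} := by
  let N := BC87.gagN χ
  have hout : ∀ g, IsConj y g → g ∉ N := fun g hg hm => by
    obtain ⟨c, hc⟩ := isConj_iff.mp hg.symm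
    exact hy (hc ▸ Subgroup.Normal.conj_mem inferInstance g hm c)
  let S : Set (G ⧸ N) := {q | ∃ g : G, IsConj y g ∧ (g : G ⧸ N) = q}
  have hsat : ∀ g : G, (g : G ⧸ N) ∈ S → IsConj y g := by
    rintro g ⟨g', hg', he⟩
    have hmem := QuotientGroup.eq.mp he
    simpa using hg'.trans (h.isConj_mul (hout g' hg') hmem)
  have : Nat.card {g : G // IsConj y g} = Nat.card N * Nat.card S := by
    rw [← Nat.card_prod, ← Nat.card_congr (QuotientGroup.preimageMkEquivSubgroupProdSet N S)]
    exact Nat.card_congr (Equiv.subtypeEquivRight fun g =>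
      ⟨fun hg => ⟨g, hg, rfl⟩, fun hg => hsat g hg⟩)
  exact this ▸ dvd_mul_right _ _

/-- Let G be a finite group of order greater than 2 with an irreducible character χ nonzero on exactly two conjugacy classes, N the normal p-subgroup of elements where χ is nonzero, and P a Sylow p-subgroup of G. Then (a) for every x outside N the centralizer of x in G has the same order as the centralizer of xN in G/N; (b) the centre of P lies in N, and equals N exactly when P is normal in G; (c) N, viewed inside P, is a term of the upper central series of P. -/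
theorem result {G : Type*} [Group G] [Finite G] (hG : 2 < Nat.card G) (χ : Cfsg.IrrCharacter G) (hχ : Nat.card {C : ConjClasses G // ∃ g ∈ C.carrier, (χ : G → ℂ) g ≠ 0} = 2) (p : ℕ) [Fact p.Prime] (N : Subgroup G) [N.Normal] (hN : ∀ g : G, g ∈ N ↔ (χ : G → ℂ) g ≠ 0) (hNp : IsPGroup p N) (hN1 : N ≠ ⊥) (P : Sylow p G) :
    (∀ x : G, x ∉ N → Nat.card (Subgroup.centralizer ({x} : Set G)) = Nat.card (Subgroup.centralizer ({(x : G ⧸ N)} : Set (G ⧸ N)))) ∧
      ((Subgroup.center ↥(P : Subgroup G)).map (P : Subgroup G).subtype ≤ N ∧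
        ((Subgroup.center ↥(P : Subgroup G)).map (P : Subgroup G).subtype = N ↔ (P : Subgroup G).Normal)) ∧
      (∃ i : ℕ, Subgroup.upperCentralSeries ↥(P : Subgroup G) i = N.subgroupOf (P : Subgroup G)) := by
  obtain ⟨x, h⟩ := BC87.exists_gag hG χ hχ
  obtain rfl := h.eq_gagN hN
  have hNP : BC87.gagN χ ≤ P := IsPGroup.le_sylow_of_normal hNp P
  have hfac : ∀ {y : G}, y ∉ BC87.gagN χ → ∀ (H : Subgroup G), IsPGroup p H →
      H ≤ Subgroup.centralizer ({y} : Set G) →
      Nat.card H * Nat.card (BC87.gagN χ) ∣ Nat.card (P : Subgroup G) := by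
    intro y hy H hH hle
    obtain ⟨a, ha⟩ := hH.exists_card_eq
    obtain ⟨b, hb⟩ := hNp.exists_card_eq
    have h1 : Nat.card H * Nat.card (BC87.gagN χ) ∣ Nat.card G := by
      rw [← BC87.card_isConj_mul_card_centralizer y, mul_comm (Nat.card H)]
      exact mul_dvd_mul (card_dvd_classSize h hy) (Subgroup.card_dvd_of_le hle)
    rw [ha, hb, ← pow_add] at h1 ⊢
    exact P.pow_dvd_card_of_pow_dvd_card h1
  have hq : 1 < Nat.card (BC87.gagN χ) := by
    have := BC87.classSize_pos x
    rw [h.card_gagN]; omega
  refine ⟨fun y hy => ?_, ⟨?_, ?_⟩, ?_⟩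
  · classical
    have := Fintype.ofFinite G
    have h1 := BC87.sum_norm_sq_eq_card_centralizer y
    have h2 := BC87.sum_norm_sq_eq_card_centralizer (y : G ⧸ BC87.gagN χ)
    rw [← Finset.sum_subset (Finset.subset_univ
      (Finset.univ.filter fun ψ => BC87.gagN χ ≤ BC87.kerChar ψ))] at h1
    · rw [Finset.sum_subtype (Finset.univ.filter fun ψ => BC87.gagN χ ≤ BC87.kerChar ψ)
        (p := fun ψ => BC87.gagN χ ≤ BC87.kerChar ψ) (fun ψ => by simp)] at h1
      rw [← Equiv.sum_comp (BC87.inflEquiv (BC87.gagN χ))] at h1
      simp only [BC87.inflEquiv_apply] at h1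
      exact_mod_cast h1.symm.trans h2
    · intro ψ _ hψ
      have hψχ : ψ = χ := by
        by_contra hne
        exact hψ (Finset.mem_filter.mpr ⟨Finset.mem_univ _,
          fun g hg => BC87.mem_gagN'.mp hg ψ hne⟩)
      have h0 : (χ : G → ℂ) y = 0 := by
        by_contra h0
        exact hy (h.mem_gagN.mpr h0)
      simp [hψχ, h0]
  · rintro _ ⟨y, hy, rfl⟩
    by_contra hyN
    have h1 := hfac hyN (P : Subgroup G) P.isPGroup' fun g hg => by
      rw [Subgroup.mem_centralizer_iff]
      rintro _ rfl
      exact congrArg Subtype.val (Subgroup.mem_center_iff.mp hy ⟨g, hg⟩).symm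
    have h2 := Nat.le_of_dvd Nat.card_pos h1
    have h3 : 0 < Nat.card (P : Subgroup G) := Nat.card_pos
    nlinarith
  · constructor
    · intro heq
      have hC : (P : Subgroup G) ≤ Subgroup.centralizer ((BC87.gagN χ : Subgroup G) : Set G) := by
        intro g hg
        rw [Subgroup.mem_centralizer_iff]
        intro n hn
        rw [SetLike.mem_coe, ← heq] at hn
        obtain ⟨z, hz, rfl⟩ := hn
        exact congrArg Subtype.val (Subgroup.mem_center_iff.mp hz ⟨g, hg⟩).symm
      have hle : Subgroup.centralizer ((BC87.gagN χ : Subgroup G) : Set G) ≤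
          (h.centralizerSylow hNp : Subgroup G) := fun g hg => by
        rw [h.coe_centralizerSylow, Subgroup.mem_centralizer_iff]
        rintro _ rfl
        exact Subgroup.mem_centralizer_iff.mp hg _ h.self_mem
      have hP : (P : Subgroup G) = Subgroup.centralizer ((BC87.gagN χ : Subgroup G) : Set G) :=
        le_antisymm hC (P.3 ((h.centralizerSylow hNp).isPGroup'.to_le hle) hC).le
      rw [hP]
      infer_instance
    · intro hP
      refine le_antisymm ?_ (h.le_of_normal ConjAct.normal_of_characteristic_of_normal ?_)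
      · rintro _ ⟨y, hy, rfl⟩
        by_contra hyN
        have h1 := hfac hyN (P : Subgroup G) P.isPGroup' fun g hg => by
          rw [Subgroup.mem_centralizer_iff]
          rintro _ rfl
          exact congrArg Subtype.val (Subgroup.mem_center_iff.mp hy ⟨g, hg⟩).symm
        have h2 := Nat.le_of_dvd Nat.card_pos h1
        have h3 : 0 < Nat.card (P : Subgroup G) := Nat.card_pos
        nlinarith
      · rw [Ne, Subgroup.map_eq_bot_iff_of_injective _ (Subgroup.subtype_injective _)]
        intro hb0
        have : Nontrivial (P : Subgroup G) := (Subgroup.nontrivial_iff_ne_bot _).mpr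
          (fun hb => h.gagN_ne_bot (le_bot_iff.mp (hb ▸ hNP)))
        have := P.isPGroup'.center_nontrivial
        exact not_nontrivial (⊥ : Subgroup (P : Subgroup G)) (hb0 ▸ this)
  · by_contra hcon
    push Not at hcon
    have hall : ∀ i, Subgroup.upperCentralSeries (P : Subgroup G) i ≤
        (BC87.gagN χ).subgroupOf P := by
      intro i
      induction i with
      | zero => simp
      | succ i ih =>
        intro y hy
        by_contra hyN
        have hlt : Nat.card (Subgroup.upperCentralSeries (P : Subgroup G) i) <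
            Nat.card (BC87.gagN χ) := by
          rw [← Nat.card_congr (Subgroup.subgroupOfEquivOfLe hNP).toEquiv]
          exact lt_of_not_ge fun hge => hcon i (Subgroup.eq_of_le_of_card_ge ih hge)
        have hcls : Nat.card {g : (P : Subgroup G) // IsConj y g} ≤
            Nat.card (Subgroup.upperCentralSeries (P : Subgroup G) i) := by
          refine Nat.card_le_card_of_injective (fun g => ⟨y⁻¹ * g.1, ?_⟩) fun a b hab => ?_
          · obtain ⟨c, hc⟩ := isConj_iff.mp g.2
            rw [← hc, ← mul_assoc, ← mul_assoc]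
            have := Subgroup.mem_upperCentralSeries_succ_iff.mp (inv_mem hy) c
            rwa [commutatorElement_def, inv_inv] at this
          · exact Subtype.ext (mul_left_cancel (congrArg Subtype.val hab))
        have hle : (Subgroup.centralizer ({y} : Set (P : Subgroup G))).map (P : Subgroup G).subtype ≤
            Subgroup.centralizer ({(y : G)} : Set G) := by
          rintro _ ⟨c, hc, rfl⟩
          rw [Subgroup.mem_centralizer_iff]
          rintro _ rfl
          exact congrArg Subtype.val (Subgroup.mem_centralizer_iff.mp hc y rfl)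
        have hdvd := hfac (fun hm => hyN hm) _ ((P.isPGroup'.to_subgroup _).map _) hle
        rw [Subgroup.card_map_of_injective (Subgroup.subtype_injective _)] at hdvd
        have h1 := BC87.card_isConj_mul_card_centralizer y
        have h2 := Nat.le_of_dvd Nat.card_pos hdvd
        have h3 : 0 < Nat.card (Subgroup.centralizer ({y} : Set (P : Subgroup G))) := Nat.card_pos
        nlinarith
    have : Group.IsNilpotent (P : Subgroup G) := P.isPGroup'.isNilpotent
    obtain ⟨n, hn⟩ := Group.IsNilpotent.nilpotent' (G := (P : Subgroup G))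
    refine hcon n (le_antisymm (hall n) (hn ▸ le_top))

end Cfsg.Agent.S4838
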