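import Cfsg.Statements.S4839
import Cfsg.Agent.BC87.Gagola
import Cfsg.Agent.Lib.Involution.BaerSuzuki
import Cfsg.Agent.Lib.Involution.Dihedral
import Mathlib.GroupTheory.SchurZassenhaus

set_option autoImplicit false
open Cfsg

namespace Cfsg.Agent.S4839

open Subgroup
open scoped Pointwise

variable {G : Type*} [Group G] [Finite G] {χ : Cfsg.IrrCharacter G} {x : G}

/-- If `e = 1`, the centralizer of any nonidentity element of `N` is `N`. -/
theorem centralizer_eq (h : BC87.Gag χ x) {n : G} (hn : n ∈ BC87.gagN χ) (hn1 : n ≠ 1)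
    (hG : Nat.card G = BC87.classSize x * Nat.card (BC87.gagN χ)) :
    BC87.gagN χ = Subgroup.centralizer ({n} : Set G) := by
  refine Subgroup.eq_of_le_of_card_ge (fun m hm => ?_) ?_
  · rw [Subgroup.mem_centralizer_iff]
    rintro _ rfl
    exact (h.commute hn hm).eq
  · have hc : BC87.classSize n = BC87.classSize x := by
      have h1 := (h.of_mem hn hn1).card_gagN
      rw [h.card_gagN] at h1
      omega
    refine le_of_eq (Nat.eq_of_mul_eq_mul_left (BC87.classSize_pos x) ?_)
    rw [← hG, ← hc]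
    exact BC87.card_isConj_mul_card_centralizer n

/-- `N = O_p(G)` forces `C_G(x) = N`. -/
theorem centralizer_le_of_pCore (h : BC87.Gag χ x) {p : ℕ} [Fact p.Prime]
    (hNp : IsPGroup p (BC87.gagN χ)) (hO : BC87.gagN χ = Cfsg.pCore p G) :
    Subgroup.centralizer ({x} : Set G) ≤ BC87.gagN χ := by
  have hcent : ∀ b : G, (∀ n ∈ BC87.gagN χ, b * n * b⁻¹ = n) → b ∈ BC87.gagN χ := by
    intro b hb
    rw [hO]
    have hle : Subgroup.centralizer ((BC87.gagN χ : Subgroup G) : Set G) ≤
        Subgroup.centralizer ({x} : Set G) :=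
      Subgroup.centralizer_le (Set.singleton_subset_iff.mpr h.self_mem)
    have hnorm : (Subgroup.centralizer ((BC87.gagN χ : Subgroup G) : Set G)).Normal := inferInstance
    refine (le_sSup ⟨hnorm, (h.isPGroup_centralizer hNp).to_le hle⟩ :
      Subgroup.centralizer ((BC87.gagN χ : Subgroup G) : Set G) ≤ Cfsg.pCore p G) ?_
    rw [Subgroup.mem_centralizer_iff]
    intro n hn
    exact (mul_inv_eq_iff_eq_mul.mp (hb n hn)).symm
  have hfix : ∀ w n : G, n ∈ BC87.gagN χ → w * n * w⁻¹ = n → n ≠ 1 →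
      ∃ k, orderOf w = p ^ k := by
    intro w n hn hw hn1
    have hm : w ∈ Subgroup.centralizer ({n} : Set G) := by
      rw [Subgroup.mem_centralizer_iff]
      rintro _ rfl
      exact (mul_inv_eq_iff_eq_mul.mp hw).symm
    obtain ⟨k, hk⟩ := IsPGroup.iff_orderOf.mp ((h.of_mem hn hn1).isPGroup_centralizer hNp) ⟨w, hm⟩
    exact ⟨k, by rwa [Subgroup.orderOf_mk] at hk⟩
  obtain ⟨q, hq, hxq, -, hexp⟩ := h.exists_prime
  have hqp : q = p := by
    obtain ⟨k, hk⟩ := IsPGroup.iff_orderOf.mp hNp ⟨x, h.self_mem⟩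
    rw [Subgroup.orderOf_mk, hxq] at hk
    exact (Nat.prime_dvd_prime_iff_eq hq Fact.out).mp (hq.dvd_of_dvd_pow hk.dvd)
  intro z hz
  by_contra hzN
  by_cases hp2 : p = 2
  · subst hqp hp2
    obtain ⟨t, ht⟩ : ∃ t : G ⧸ BC87.gagN χ, orderOf t = 2 := by
      refine exists_prime_orderOf_dvd_card' 2 (dvd_trans ?_ (orderOf_dvd_natCard (z : G ⧸ _)))
      obtain ⟨k, hk⟩ := IsPGroup.iff_orderOf.mp (h.isPGroup_centralizer hNp) ⟨z, hz⟩
      rw [Subgroup.orderOf_mk] at hk
      have hd : orderOf (z : G ⧸ BC87.gagN χ) ∣ 2 ^ k :=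
        hk ▸ orderOf_map_dvd (QuotientGroup.mk' _) z
      obtain ⟨j, -, hj⟩ := (Nat.dvd_prime_pow Nat.prime_two).mp hd
      rw [hj]
      refine dvd_pow_self 2 ?_
      rintro rfl
      exact hzN ((QuotientGroup.eq_one_iff z).mp (orderOf_eq_one_iff.mp (by simpa using hj)))
    obtain ⟨y, rfl⟩ := QuotientGroup.mk_surjective t
    have hyy : ((y : G ⧸ BC87.gagN χ)) * y = 1 := Involution.mul_self_of_orderOf ht
    have hyN : y ∉ BC87.gagN χ := fun hm =>
      Involution.ne_one_of_orderOf ht ((QuotientGroup.eq_one_iff y).mpr hm)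
    have hn0 : y * y ∈ BC87.gagN χ := (QuotientGroup.eq_one_iff _).mp hyy
    have hinvN : ∀ n ∈ BC87.gagN χ, n⁻¹ = n := fun n hn =>
      inv_eq_of_mul_eq_one_right (by rw [← sq]; exact hexp n hn)
    have hno : ∀ n ∈ BC87.gagN χ, (y * n) * (y * n) ≠ 1 := by
      intro n hn h1
      have hall : ∀ m ∈ BC87.gagN χ, (y * m) * (y * m) = 1 := by
        intro m hm
        obtain ⟨c, hc⟩ := isConj_iff.mp (((h.isConj_mul hyN hn).symm).trans (h.isConj_mul hyN hm))
        calc (y * m) * (y * m) = c * (y * n * (y * n)) * c⁻¹ := by rw [← hc]; group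
          _ = 1 := by rw [h1, mul_one, mul_inv_cancel]
      have hy2 : y * y = 1 := by simpa using hall 1 (one_mem _)
      refine hyN (hcent y fun m hm => ?_)
      rw [inv_eq_of_mul_eq_one_right hy2]
      calc y * m * y = y * m * (y * m) * m⁻¹ := by group
        _ = m := by rw [hall m hm, one_mul, hinvN m hm]
    have hodd : ∀ r : G ⧸ BC87.gagN χ, Odd (orderOf r) →
        (y : G ⧸ BC87.gagN χ) * r * (y : G ⧸ BC87.gagN χ)⁻¹ = r⁻¹ → r = 1 := by
      intro r hr hinv
      obtain ⟨w, rfl⟩ := QuotientGroup.mk_surjective r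
      by_contra hr1
      obtain ⟨k, hk⟩ := hr
      let _ : CommGroup (BC87.gagN χ) :=
        { (inferInstance : Group (BC87.gagN χ)) with
          mul_comm := fun a b => Subtype.ext (h.commute a.2 b.2).eq }
      let φ : G →* MulAut (BC87.gagN χ) := MulAut.conjNormal
      have hker : BC87.gagN χ ≤ φ.ker := fun a ha => by
        ext m
        simp [φ, (h.commute ha m.2).eq]
      have hφeq : ∀ a b : G, (a : G ⧸ BC87.gagN χ) = b → φ a = φ b := fun a b hab => by
        have := hker (QuotientGroup.eq.mp hab)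
        rwa [MonoidHom.mem_ker, map_mul, map_inv, inv_mul_eq_one] at this
      let T : MulAut (BC87.gagN χ) := φ w
      let S : MulAut (BC87.gagN χ) := φ y
      have hTm : T ^ (2 * k + 1) = 1 := by
        rw [← map_pow, ← map_one φ]
        exact hφeq _ _ (by rw [QuotientGroup.mk_pow, ← hk, pow_orderOf_eq_one]; rfl)
      have hST : S * T * S⁻¹ = T⁻¹ := by
        rw [← map_inv, ← map_inv, ← map_mul, ← map_mul]
        exact hφeq _ _ (by simpa using hinv)
      have hSTi : ∀ i : ℕ, S * T ^ i = (T⁻¹) ^ i * S := fun i => by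
        rw [← hST, conj_pow, inv_mul_cancel_right]
      let n0 : BC87.gagN χ := ⟨y * y, hn0⟩
      have hS0 : S n0 = n0 := Subtype.ext (by simp [S, φ, n0, mul_assoc])
      let f : ℕ → BC87.gagN χ := fun i => (T ^ (i + 1)) n0
      let v := ∏ i ∈ Finset.range k, f i
      have hSv : S v = ∏ i ∈ Finset.range k, f (k + i) := by
        rw [map_prod, ← Finset.prod_range_reflect (fun i => f (k + i)) k]
        refine Finset.prod_congr rfl fun i hi => ?_
        have hi' := Finset.mem_range.mp hi
        show (S * T ^ (i + 1)) n0 = (T ^ (k + (k - 1 - i) + 1)) n0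
        rw [hSTi, MulAut.mul_apply, hS0]
        congr 1
        rw [inv_pow, inv_eq_iff_mul_eq_one, ← pow_add,
          show i + 1 + (k + (k - 1 - i) + 1) = 2 * k + 1 by omega, hTm]
      let P := ∏ i ∈ Finset.range (2 * k + 1), (T ^ i) n0
      have hTP : T P = P := by
        simp only [P, map_prod]
        rw [Finset.prod_range_succ, Finset.prod_range_succ' (fun i => (T ^ i) n0)]
        congr 1
        · refine Finset.prod_congr rfl fun i _ => ?_
          rw [pow_succ', MulAut.mul_apply]
        · rw [← MulAut.mul_apply, ← pow_succ', hTm, pow_zero]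
      have hP1 : P = 1 := by
        by_contra hP
        obtain ⟨j, hj⟩ := hfix w P.1 P.2 (by simpa [T, φ] using congrArg Subtype.val hTP)
          fun e => hP (Subtype.ext e)
        have hd := orderOf_map_dvd (QuotientGroup.mk' (BC87.gagN χ)) w
        rw [QuotientGroup.mk'_apply, hk, hj] at hd
        obtain ⟨i, -, hi⟩ := (Nat.dvd_prime_pow Nat.prime_two).mp hd
        rcases i with _ | i
        · exact hr1 (orderOf_eq_one_iff.mp (by rw [hk, hi, pow_zero]))
        · rw [pow_succ'] at hi; omega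
      have hprod : v * S v = n0 := by
        have h1 : n0 * (v * S v) = 1 := by
          rw [hSv, ← Finset.prod_range_add, ← two_mul, ← hP1]
          simp only [P]
          rw [Finset.prod_range_succ' (fun i => (T ^ i) n0), mul_comm, pow_zero, MulAut.one_apply]
        exact (inv_eq_of_mul_eq_one_right h1).symm.trans (Subtype.ext (hinvN _ hn0))
      refine hno v v.2 ?_
      have h2 : (v : G) * (y * v * y⁻¹) = y * y := by
        simpa [S, φ, n0] using congrArg Subtype.val hprod
      have hsq : y * y * (y * y) = 1 := by rw [← sq]; exact hexp _ hn0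
      have hcomm : (v : G) * (y * v * y⁻¹) = (y * v * y⁻¹) * v :=
        (h.commute v.2 (Subgroup.Normal.conj_mem inferInstance _ v.2 y)).eq
      have hcomm2 : (y * y) * (v : G) = v * (y * y) := (h.commute hn0 v.2).eq
      calc y * (v : G) * (y * v) = (y * v * y⁻¹) * ((y * y) * v) := by group
        _ = (v * (y * v * y⁻¹)) * (y * y) := by rw [hcomm2, ← mul_assoc, hcomm]
        _ = 1 := by rw [h2, hsq]
    obtain ⟨M, hMn, hM2, hyM⟩ := Involution.baerSuzuki (p := 2) (y : G ⧸ BC87.gagN χ) (by
      intro g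
      set t : G ⧸ BC87.gagN χ := (y : G ⧸ BC87.gagN χ)
      set s := g * t * g⁻¹
      have hs : s * s = 1 := by
        simp only [s]
        rw [show g * t * g⁻¹ * (g * t * g⁻¹) = g * (t * t) * g⁻¹ by group, hyy]
        group
      obtain ⟨a, m, hm, hom⟩ := Nat.exists_eq_pow_mul_and_not_dvd (orderOf_pos (t * s)).ne' 2 (by norm_num)
      have hr1 : (t * s) ^ (2 ^ a) = 1 := by
        refine hodd _ ?_ ?_
        · rw [orderOf_pow' _ (by positivity), hom, Nat.gcd_eq_right (dvd_mul_right _ _),
            Nat.mul_div_cancel_left _ (by positivity)]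
          exact Nat.odd_iff.mpr (by omega)
        · rw [← conj_pow, Involution.inverts_mul hyy hs, inv_pow]
      intro d
      obtain ⟨i, hd | hd⟩ := (Involution.mem_closure_pair_involutions hyy hs).mp d.2
      · refine ⟨a, Subtype.ext ?_⟩
        rw [SubmonoidClass.coe_pow, hd, ← zpow_natCast, ← zpow_mul, mul_comm, zpow_mul,
          zpow_natCast, hr1, one_zpow]
        rfl
      · refine ⟨1, Subtype.ext ?_⟩
        rw [SubmonoidClass.coe_pow, hd, pow_one, sq, Involution.left_mul_zpow_sq hyy hs]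
        rfl)
    have hK2 : IsPGroup 2 (M.comap (QuotientGroup.mk' (BC87.gagN χ))) :=
      hM2.comap_of_ker_isPGroup _ (by rwa [QuotientGroup.ker_mk'])
    exact hyN (hO ▸ (le_sSup ⟨hMn.comap _, hK2⟩ : _ ≤ Cfsg.pCore 2 G) hyM)
  · subst hqp
    have hqodd : Odd (Nat.card (BC87.gagN χ)) := by
      obtain ⟨k, hk⟩ := hNp.exists_card_eq
      rw [hk]
      exact (hq.odd_of_ne_two hp2).pow
    obtain ⟨y, hy⟩ : ∃ y : G, orderOf y = 2 := by
      refine exists_prime_orderOf_dvd_card' 2 (dvd_trans ?_
        ⟨_, (BC87.card_isConj_mul_card_centralizer x).symm⟩)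
      rw [h.card_gagN] at hqodd
      show 2 ∣ BC87.classSize x
      obtain ⟨k, hk⟩ := hqodd
      omega
    have hy2 := Involution.mul_self_of_orderOf hy
    have hyi := Involution.inv_of_orderOf hy
    have hcj : ∀ g n : G, n ∈ BC87.gagN χ → g * n * g⁻¹ ∈ BC87.gagN χ := fun g n hn =>
      Subgroup.Normal.conj_mem inferInstance n hn g
    have hinv : ∀ n ∈ BC87.gagN χ, y * n * y = n⁻¹ := by
      intro n hn
      have hm : y * n * y ∈ BC87.gagN χ := by simpa [hyi] using hcj y n hn
      have hfix' : y * (n * (y * n * y)) * y⁻¹ = n * (y * n * y) := by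
        calc y * (n * (y * n * y)) * y⁻¹ = (y * n * y) * n := by group
          _ = n * (y * n * y) := (h.commute hm hn).eq
      by_contra hne
      obtain ⟨k, hk⟩ := hfix y _ (mul_mem hn hm) hfix'
        (fun e => hne (inv_eq_of_mul_eq_one_right e).symm)
      have h2 : (2 : ℕ) ∣ q ^ k := by rw [← hk, hy]
      exact hp2 ((Nat.prime_dvd_prime_iff_eq Nat.prime_two hq).mp
        (Nat.prime_two.dvd_of_dvd_pow h2)).symm
    have hcop : (Nat.card (BC87.gagN χ)).Coprime 2 := Nat.coprime_two_right.mpr hqodd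
    have hsqrt : ∀ a ∈ BC87.gagN χ, ∃ n ∈ BC87.gagN χ, n * n = a := fun a ha => by
      obtain ⟨n, hn⟩ := (powCoprime hcop).surjective ⟨a, ha⟩
      exact ⟨n, n.2, by simpa [sq] using congrArg Subtype.val hn⟩
    have hinj : ∀ a ∈ BC87.gagN χ, ∀ b ∈ BC87.gagN χ, a * a = b * b → a = b :=
      fun a ha b hb e => congrArg Subtype.val
        ((powCoprime hcop).injective (a₁ := ⟨a, ha⟩) (a₂ := ⟨b, hb⟩)
          (Subtype.ext (by simpa [sq] using e)))
    have hadj : ∀ g : G, ∃ n ∈ BC87.gagN χ, y * (g * n) * y = g * n := by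
      intro g
      have hb : y * g * y * g⁻¹ ∈ BC87.gagN χ := hcent _ fun n hn => by
        have h1 : g⁻¹ * n * g ∈ BC87.gagN χ := by simpa using hcj g⁻¹ n hn
        calc y * g * y * g⁻¹ * n * (y * g * y * g⁻¹)⁻¹
            = y * g * (y * (g⁻¹ * n * g) * y⁻¹) * g⁻¹ * y⁻¹ := by group
          _ = y * g * (y * (g⁻¹ * n * g) * y) * g⁻¹ * y := by rw [hyi]
          _ = y * n⁻¹ * y := by rw [hinv _ h1]; group
          _ = n := by rw [hinv _ (inv_mem hn), inv_inv]
      obtain ⟨n, hn, hnn⟩ := hsqrt (g⁻¹ * (y * g * y * g⁻¹) * g) (by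
        simpa using hcj g⁻¹ _ hb)
      refine ⟨n, hn, ?_⟩
      have e1 : y * g * y = g * (n * n) := by rw [hnn]; group
      calc y * (g * n) * y = y * g * (y * y) * n * y := by rw [hy2]; group
        _ = (y * g * y) * (y * n * y) := by group
        _ = g * n := by rw [e1, hinv n hn]; group
    obtain ⟨n₀, hn₀, hz'y⟩ := hadj z
    set z' := z * n₀
    have hz'N : z' ∉ BC87.gagN χ := fun hm => hzN (by simpa [z'] using mul_mem hm (inv_mem hn₀))
    have hz' : z' * x = x * z' := by
      have h1 : x * z = z * x := Subgroup.mem_centralizer_iff.mp hz x rfl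
      simp only [z']
      rw [mul_assoc, ← (h.commute h.self_mem hn₀).eq, ← mul_assoc, ← h1, mul_assoc]
    let φ : BC87.gagN χ → BC87.gagN χ := fun m => ⟨z'⁻¹ * (m : G)⁻¹ * z' * m,
      mul_mem (by simpa using hcj z'⁻¹ _ (inv_mem m.2)) m.2⟩
    have hsurj : Function.Surjective φ := by
      rintro ⟨a, ha⟩
      obtain ⟨g, hg⟩ := isConj_iff.mp (h.isConj_mul hz'N ha)
      obtain ⟨n, hn, hgy⟩ := hadj g
      set g' := g * n
      have hm0 : z'⁻¹ * n⁻¹ * z' * n ∈ BC87.gagN χ :=
        mul_mem (by simpa using hcj z'⁻¹ _ (inv_mem hn)) hn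
      set m0 := z'⁻¹ * n⁻¹ * z' * n with hm0def
      have h1 : g' * (z' * m0) * g'⁻¹ = z' * a := by
        rw [← hg]; simp only [g', hm0def]; group
      have hyc : ∀ u v : G, y * (u * v) * y = (y * u * y) * (y * v * y) := fun u v => by
        calc y * (u * v) * y = y * u * (y * y) * v * y := by rw [hy2]; group
          _ = _ := by group
      have hg'i : y * g'⁻¹ * y = g'⁻¹ := by
        calc y * g'⁻¹ * y = (y⁻¹ * g' * y⁻¹)⁻¹ := by group
          _ = g'⁻¹ := by rw [hyi, hgy]
      have h2 : g' * (z' * m0⁻¹) * g'⁻¹ = z' * a⁻¹ := by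
        have := congrArg (fun u => y * u * y) h1
        simp only [hyc, hgy, hz'y, hg'i, hinv _ hm0, hinv _ ha] at this
        exact this
      have h3 : (g' * m0 * g'⁻¹) * (g' * m0 * g'⁻¹) = a * a := by
        calc _ = (g' * (z' * m0⁻¹) * g'⁻¹)⁻¹ * (g' * (z' * m0) * g'⁻¹) := by group
          _ = a * a := by rw [h1, h2]; group
      have h4 : g' * m0 * g'⁻¹ = a := hinj _ (hcj g' m0 hm0) _ ha h3
      have h5 : g' * z' * g'⁻¹ = z' := by
        calc g' * z' * g'⁻¹ = (g' * (z' * m0) * g'⁻¹) * (g' * m0 * g'⁻¹)⁻¹ := by group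
          _ = z' := by rw [h1, h4]; group
      refine ⟨⟨g' * n * g'⁻¹, hcj g' n hn⟩, Subtype.ext ?_⟩
      show z'⁻¹ * (g' * n * g'⁻¹)⁻¹ * z' * (g' * n * g'⁻¹) = a
      calc _ = (g' * z' * g'⁻¹)⁻¹ * (g' * n * g'⁻¹)⁻¹ * (g' * z' * g'⁻¹) *
            (g' * n * g'⁻¹) := by rw [h5]
        _ = g' * m0 * g'⁻¹ := by simp only [hm0def]; group
        _ = a := h4
    have hφ := (Finite.injective_iff_surjective.mpr hsurj) (a₁ := ⟨x, h.self_mem⟩) (a₂ := 1)
      (Subtype.ext (by
        show z'⁻¹ * x⁻¹ * z' * x = z'⁻¹ * (1 : G)⁻¹ * z' * 1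
        rw [mul_assoc _ z' x, hz']; group))
    exact h.ne_one (congrArg Subtype.val hφ)

/-- Let G be a finite group of order greater than 2 with an irreducible character χ nonzero on exactly two conjugacy classes, and let N be the normal p-subgroup of elements where χ is nonzero. Then N is the whole p-core O_p(G) if and only if G is a doubly transitive Frobenius group with kernel N: G has a Frobenius complement H whose Frobenius kernel is N and whose order is one less than that of N. -/
theorem result {G : Type*} [Group G] [Finite G] (hG : 2 < Nat.card G) (χ : Cfsg.IrrCharacter G) (hχ : Nat.card {C : ConjClasses G // ∃ g ∈ C.carrier, (χ : G → ℂ) g ≠ 0} = 2) (p : ℕ) [Fact p.Prime] (N : Subgroup G) [N.Normal] (hN : ∀ g : G, g ∈ N ↔ (χ : G → ℂ) g ≠ 0) (hNp : IsPGroup p N) (hN1 : N ≠ ⊥) :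
    N = Cfsg.pCore p G ↔ ∃ H : Subgroup G, Cfsg.IsFrobeniusComplement H ∧ Cfsg.frobeniusKernel H = (N : Set G) ∧ Nat.card H + 1 = Nat.card N := by
  obtain ⟨x, h⟩ := BC87.exists_gag hG χ hχ
  obtain rfl := h.eq_gagN hN
  have hNcard : Nat.card (BC87.gagN χ) = BC87.classSize x + 1 := h.card_gagN
  constructor
  · intro hO
    have hC := centralizer_le_of_pCore h hNp hO
    obtain ⟨e, he, -, hCe, hGe⟩ := h.exists_e
    have he1 : Nat.card G = BC87.classSize x * Nat.card (BC87.gagN χ) := by
      rw [hGe, ← hCe]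
      congr 1
      refine Nat.card_congr (Equiv.setCongr (congrArg SetLike.coe (le_antisymm hC fun n hn => ?_)))
      rw [Subgroup.mem_centralizer_iff]
      rintro _ rfl
      exact (h.commute h.self_mem hn).eq
    have hidx : (BC87.gagN χ).index = BC87.classSize x := by
      apply Nat.eq_of_mul_eq_mul_right (Nat.card_pos (α := BC87.gagN χ))
      rw [Subgroup.index_mul_card, he1]
    obtain ⟨H, hH⟩ := Subgroup.exists_right_complement'_of_coprime (N := BC87.gagN χ) (by
      rw [hidx, hNcard]; exact Nat.coprime_self_add_left.mpr (Nat.coprime_one_left _) )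
    have hHc : Nat.card H = BC87.classSize x := by rw [← hidx]; exact hH.symm.index_eq_card.symm
    have hcl2 : 1 < BC87.classSize x := by
      rcases Nat.lt_or_ge 1 (BC87.classSize x) with h1 | h1
      · exact h1
      · have h2 := BC87.classSize_pos x
        rw [hNcard, show BC87.classSize x = 1 by omega] at he1
        omega
    have hdec : ∀ g : G, ∃ n ∈ BC87.gagN χ, ∃ k ∈ H, n * k = g := fun g => by
      obtain ⟨⟨n, k⟩, hnk⟩ := hH.existsUnique g |>.exists
      exact ⟨n, n.2, k, k.2, hnk⟩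
    have hdisj : ∀ a, a ∈ BC87.gagN χ → a ∈ H → a = 1 := fun a ha hb => by
      simpa using hH.disjoint.le_bot ⟨ha, hb⟩
    have hmal : ∀ n ∈ BC87.gagN χ, ∀ a ∈ H, n * a * n⁻¹ ∈ H → a = 1 ∨ n = 1 := by
      intro n hn a ha hna
      by_contra hcon
      push Not at hcon
      have h1 : n * (a * n⁻¹ * a⁻¹) = 1 := hdisj _
        (mul_mem hn (Subgroup.Normal.conj_mem inferInstance _ (inv_mem hn) a))
        (by simpa [mul_assoc] using mul_mem hna (inv_mem ha))
      refine hcon.1 (hdisj a ?_ ha)
      rw [centralizer_eq h hn hcon.2 he1, Subgroup.mem_centralizer_iff]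
      intro m hm
      rw [Set.mem_singleton_iff] at hm
      subst m
      calc n * a = n * (a * n⁻¹ * a⁻¹) * (a * n) := by group
        _ = a * n := by rw [h1, one_mul]
    refine ⟨H, ⟨?_, ?_, ?_⟩, ?_, by omega⟩
    · intro hb
      rw [hb, Subgroup.card_bot] at hHc
      omega
    · intro ht
      rw [ht, Subgroup.card_top] at hHc
      rw [hHc, hNcard] at he1
      nlinarith
    · intro g hg
      rw [eq_bot_iff]
      rintro a ⟨ha, hag⟩
      rw [Subgroup.mem_bot]
      obtain ⟨n, hn, k, hk, rfl⟩ := hdec g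
      obtain ⟨b, hb, rfl⟩ := hag
      have hb' : k * b * k⁻¹ ∈ H := mul_mem (mul_mem hk hb) (inv_mem hk)
      have heq : (MulAut.conj (n * k)) b = n * (k * b * k⁻¹) * n⁻¹ := by simp [mul_assoc]
      change (MulAut.conj (n * k)) b ∈ H at ha
      change (MulAut.conj (n * k)) b = 1
      rw [heq] at ha ⊢
      rcases hmal n hn _ hb' ha with h1 | h1
      · rw [h1]; group
      · exact absurd (by simpa [h1] using hk) hg
    · ext a
      constructor
      · rintro (rfl | ha)
        · exact one_mem _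
        · by_contra haN
          obtain ⟨m, hm, k, hk, rfl⟩ := hdec a
          let φ : BC87.gagN χ → BC87.gagN χ := fun n => ⟨(n : G) * (k * (n : G)⁻¹ * k⁻¹),
            mul_mem n.2 (Subgroup.Normal.conj_mem inferInstance _ (inv_mem n.2) k)⟩
          have hinj : Function.Injective φ := by
            intro a b hab
            have h1 : (b : G)⁻¹ * a * k * ((b : G)⁻¹ * a)⁻¹ = k := by
              calc _ = (b : G)⁻¹ * ((a : G) * (k * (a : G)⁻¹ * k⁻¹)) * k * b := by group
                _ = k := by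
                    rw [show (a : G) * (k * (a : G)⁻¹ * k⁻¹) = b * (k * (b : G)⁻¹ * k⁻¹) from
                      congrArg Subtype.val hab]
                    group
            rcases hmal _ (mul_mem (inv_mem b.2) a.2) k hk (h1.symm ▸ hk) with h2 | h2
            · exact absurd (by simpa [h2] using hm) haN
            · exact Subtype.ext (inv_mul_eq_one.mp h2).symm
          obtain ⟨n, hn⟩ := (Finite.injective_iff_surjective.mp hinj) ⟨m, hm⟩
          refine ha (n : G) ⟨k, hk, ?_⟩
          show (n : G) * k * (n : G)⁻¹ = m * k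
          rw [show m = (n : G) * (k * (n : G)⁻¹ * k⁻¹) from (congrArg Subtype.val hn).symm]
          group
      · intro ha
        refine (em (a = 1)).imp id fun ha1 g hg => ?_
        obtain ⟨b, hb, hba⟩ := hg
        have hba' : g * b * g⁻¹ = a := hba
        refine ha1 ?_
        have hbN : b ∈ BC87.gagN χ := by
          have := Subgroup.Normal.conj_mem (H := BC87.gagN χ) inferInstance _ ha g⁻¹
          rw [← hba'] at this
          simpa [mul_assoc] using this
        rw [← hba', hdisj b hbN hb]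
        group
  · rintro ⟨H, hH, hker, hHc⟩
    have hdisj : ∀ a, a ∈ BC87.gagN χ → a ∈ H → a = 1 := by
      intro a ha hb
      have hk : a ∈ Cfsg.frobeniusKernel H := hker ▸ ha
      rcases hk with rfl | hk
      · rfl
      · exact absurd ⟨a, hb, by simp⟩ (hk 1)
    have hpick : ∀ a : G, ∃ qh : (G ⧸ H) × H, a ∉ BC87.gagN χ →
        qh.2 ≠ 1 ∧ qh.1.out * qh.2 * qh.1.out⁻¹ = a := by
      intro a
      by_cases ha : a ∈ BC87.gagN χ
      · exact ⟨(((1 : G) : G ⧸ H), 1), fun h' => absurd ha h'⟩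
      · have hk : a ∉ Cfsg.frobeniusKernel H := by rw [hker]; exact ha
        simp only [Cfsg.frobeniusKernel, Set.mem_setOf_eq, not_or, not_forall, not_not] at hk
        obtain ⟨ha1, g, b, hb, hba⟩ := hk
        have hba' : g * b * g⁻¹ = a := hba
        obtain ⟨t, ht⟩ := QuotientGroup.mk_out_eq_mul H g
        refine ⟨((g : G ⧸ H), ⟨(t : G)⁻¹ * b * t, mul_mem (mul_mem (inv_mem t.2) hb) t.2⟩),
          fun _ => ⟨fun e => ha1 ?_, ?_⟩⟩
        · have e' : (t : G)⁻¹ * b * t = 1 := congrArg Subtype.val e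
          rw [← hba']
          calc g * b * g⁻¹ = g * t * ((t : G)⁻¹ * b * t) * (g * t)⁻¹ := by group
            _ = 1 := by rw [e']; group
        · show (g : G ⧸ H).out * ((t : G)⁻¹ * b * t) * ((g : G ⧸ H).out)⁻¹ = a
          rw [ht, ← hba']
          group
    choose qh hqh using hpick
    let F : {a : G // a ∉ BC87.gagN χ} → (G ⧸ H) × {b : H // b ≠ 1} := fun a =>
      ((qh a).1, ⟨(qh a).2, (hqh a a.2).1⟩)
    have hF : Function.Injective F := fun a b hab => by
      obtain ⟨h1, h2⟩ := Prod.ext_iff.mp hab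
      have h2' : (qh a).2 = (qh b).2 := congrArg Subtype.val h2
      apply Subtype.ext
      rw [← (hqh a a.2).2, ← (hqh b b.2).2, show (qh a).1 = (qh b).1 from h1, h2']
    have hle := Nat.card_le_card_of_injective F hF
    classical
    have := Fintype.ofFinite G
    have h1 : Nat.card {a : G // a ∉ BC87.gagN χ} + Nat.card (BC87.gagN χ) = Nat.card G := by
      rw [← Nat.card_congr (Equiv.sumCompl (· ∈ BC87.gagN χ)), Nat.card_sum, add_comm]
    have h2 : Nat.card {b : H // b ≠ 1} + 1 = Nat.card H := by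
      rw [Nat.card_eq_fintype_card, Nat.card_eq_fintype_card, Fintype.card_subtype_compl,
        Fintype.card_subtype_eq]
      have : 0 < Fintype.card H := Fintype.card_pos
      omega
    rw [Nat.card_prod, ← Subgroup.index_eq_card] at hle
    have h3 := Subgroup.index_mul_card H
    have h4 := congrArg (fun k => H.index * k) h2
    simp only [Nat.mul_add, Nat.mul_one] at h4
    have h5 : Nat.card (BC87.gagN χ) * Nat.card H ≤ Nat.card G := by
      rw [← Nat.card_prod]
      refine Nat.card_le_card_of_injective (fun ab => (ab.1 : G) * ab.2) fun ab cd he => ?_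
      have h6 : (cd.1 : G)⁻¹ * ab.1 = cd.2 * (ab.2 : G)⁻¹ := by
        have he' : (ab.1 : G) * ab.2 = cd.1 * cd.2 := he
        calc (cd.1 : G)⁻¹ * ab.1 = (cd.1 : G)⁻¹ * (ab.1 * ab.2) * (ab.2 : G)⁻¹ := by group
          _ = _ := by rw [he']; group
      have h7 := hdisj _ (mul_mem (inv_mem cd.1.2) ab.1.2)
        (h6 ▸ mul_mem cd.2.2 (inv_mem ab.2.2))
      exact Prod.ext (Subtype.ext (inv_mul_eq_one.mp h7).symm)
        (Subtype.ext (mul_inv_eq_one.mp (h6.symm.trans h7)).symm)
    obtain ⟨e, he, -, hCe, hGe⟩ := h.exists_e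
    have hHeq : Nat.card H = BC87.classSize x := by omega
    have hGq : Nat.card G = BC87.classSize x * Nat.card (BC87.gagN χ) := by
      rw [← hHeq]; nlinarith
    have hNC : BC87.gagN χ = (h.centralizerSylow hNp : Subgroup G) := by
      rw [h.coe_centralizerSylow]
      exact centralizer_eq h h.self_mem h.ne_one hGq
    refine le_antisymm (le_sSup ⟨inferInstance, hNp⟩) (sSup_le fun K hK => ?_)
    rw [hNC]
    have := hK.1
    exact IsPGroup.le_sylow_of_normal hK.2 _

end Cfsg.Agent.S4839
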