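import Cfsg.Statements.S4840
import Cfsg.Agent.BC87.Gagola
import Cfsg.Agent.BC87.TransitiveQuot

set_option autoImplicit false
open Cfsg

namespace Cfsg.Agent.S4840

/-- Let G be a finite solvable group of order greater than 2 with an irreducible character nonzero on exactly two conjugacy classes. Then there is exactly one prime p with O_p(G) ≠ 1, and the quotient G/O_p(G) has a normal p-complement and commutative Sylow p-subgroups. -/
theorem result {G : Type*} [Group G] [Finite G] [hs : Group.IsSolvable G] (hG : 2 < Nat.card G) (χ : Cfsg.IrrCharacter G) (hχ : Nat.card {C : ConjClasses G // ∃ g ∈ C.carrier, (χ : G → ℂ) g ≠ 0} = 2) :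
    ∃ p : ℕ, p.Prime ∧ (∀ q : ℕ, q.Prime → (Cfsg.pCore q G ≠ ⊥ ↔ q = p)) ∧
      Cfsg.HasNormalPComplement p (G ⧸ Cfsg.pCore p G) ∧ ∀ Q : Sylow p (G ⧸ Cfsg.pCore p G), IsMulCommutative (Q : Subgroup (G ⧸ Cfsg.pCore p G)) := by
  obtain ⟨x, h⟩ := BC87.exists_gag hG χ hχ
  obtain ⟨p, hp, -, hN, hexp⟩ := h.exists_prime
  haveI := Fact.mk hp
  set N := BC87.gagN χ with hNdef
  have hNU : N ≤ Cfsg.pCore p G := Fitting.le_pCore (BC87.gagN_normal χ) hN
  have hUne : Cfsg.pCore p G ≠ ⊥ := fun hb => h.gagN_ne_bot (le_bot_iff.mp (hb ▸ hNU))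
  haveI : Nontrivial (Cfsg.pCore p G) := (Subgroup.nontrivial_iff_ne_bot _).mpr hUne
  have hcent : ∀ u ∈ Cfsg.pCore p G, ∀ n ∈ N, u * n = n * u := by
    intro u hu n hn
    have hne : (Subgroup.center (Cfsg.pCore p G)).map (Cfsg.pCore p G).subtype ≠ ⊥ := by
      rw [Ne, Subgroup.map_eq_bot_iff_of_injective _ (Subgroup.subtype_injective _)]
      intro hb
      have := (Fitting.pCore_isPGroup (G := G) p).center_nontrivial
      exact not_nontrivial (⊥ : Subgroup (Cfsg.pCore p G)) (hb ▸ this)
    obtain ⟨z, hz, rfl⟩ := h.le_of_normal (Fitting.normal_map_subtype_of_characteristic _) hne hn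
    exact congrArg Subtype.val (Subgroup.mem_center_iff.mp hz ⟨u, hu⟩)
  let ψ : G →* MulAut N := MulAut.conjNormal
  have hker : Cfsg.pCore p G = ψ.ker := by
    refine le_antisymm (fun u hu => ?_) (Fitting.le_pCore (MonoidHom.normal_ker _) ?_)
    · refine MulEquiv.ext fun n => Subtype.ext ?_
      show ((ψ u n : N) : G) = n
      rw [MulAut.conjNormal_apply, hcent u hu n n.2, mul_inv_cancel_right]
    · refine (h.isPGroup_centralizer hN).to_le fun g hg => ?_
      rw [Subgroup.mem_centralizer_singleton_iff]
      have h1 := congrArg Subtype.val (DFunLike.congr_fun hg ⟨x, h.self_mem⟩)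
      rw [MulAut.conjNormal_apply] at h1
      exact mul_inv_eq_iff_eq_mul.mp h1
  letI : CommGroup N :=
    { (inferInstance : Group N) with mul_comm := fun a b => Subtype.ext (h.commute a.2 b.2).eq }
  let φ : G ⧸ Cfsg.pCore p G →* MulAut N := QuotientGroup.lift _ ψ hker.le
  have S : BC87.TransQuot.Setup φ p :=
    { inj := by
        refine (injective_iff_map_eq_one φ).mpr fun a ha => ?_
        induction a using QuotientGroup.induction_on with
        | _ g => exact (QuotientGroup.eq_one_iff g).mpr (hker ▸ (show g ∈ ψ.ker from ha))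
      nontriv := (Subgroup.nontrivial_iff_ne_bot _).mpr h.gagN_ne_bot
      expo := fun v => Subtype.ext (by simpa using hexp v v.2)
      trans := fun v w hv hw => by
        obtain ⟨g, hg⟩ := isConj_iff.mp (h.conj_of_mem v.2 (fun he => hv (Subtype.ext he)) w.2
          (fun he => hw (Subtype.ext he)))
        exact ⟨g, Subtype.ext ((MulAut.conjNormal_apply g v).trans hg)⟩
      stab := fun a v hv ha => by
        induction a using QuotientGroup.induction_on with
        | _ g =>
          have hgv : g ∈ Subgroup.centralizer ({(v : G)} : Set G) := by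
            rw [Subgroup.mem_centralizer_singleton_iff]
            exact mul_inv_eq_iff_eq_mul.mp
              ((MulAut.conjNormal_apply g v).symm.trans (congrArg Subtype.val ha))
          obtain ⟨k, hk⟩ :=
            (h.of_mem v.2 fun he => hv (Subtype.ext he)).isPGroup_centralizer hN ⟨g, hgv⟩
          have hk' : g ^ p ^ k = 1 := by simpa using congrArg Subtype.val hk
          exact ⟨k, by rw [← QuotientGroup.mk_pow, hk', QuotientGroup.mk_one]⟩
      core := by
        have hle := Fitting.le_pCore
          ((Fitting.pCore_normal (G := G ⧸ Cfsg.pCore p G) p).comap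
            (QuotientGroup.mk' (Cfsg.pCore p G)))
          ((Fitting.pCore_isPGroup p).comap_of_ker_isPGroup _
            (by rw [QuotientGroup.ker_mk']; exact Fitting.pCore_isPGroup p))
        rw [eq_bot_iff]
        intro a ha
        induction a using QuotientGroup.induction_on with
        | _ g => exact (QuotientGroup.eq_one_iff g).mpr (hle ha) }
  refine ⟨p, hp, fun q hq => ⟨fun hne => ?_, fun he => he ▸ hUne⟩, S.conclusion⟩
  by_contra hqp
  haveI := Fact.mk hq
  exact h.gagN_ne_bot (le_bot_iff.mp ((IsPGroup.disjoint_of_ne p q (Ne.symm hqp) N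
    (Cfsg.pCore q G) hN (Fitting.pCore_isPGroup q)).le_bot.trans'
      (le_inf le_rfl (h.le_of_normal (Fitting.pCore_normal q) hne))))

end Cfsg.Agent.S4840
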