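import Cfsg.Statements.S4843
import Cfsg.Agent.Lib.CharCore.Basic
import Cfsg.Agent.Lib.CharClifford.Galois
import Mathlib.LinearAlgebra.Matrix.Kronecker
import Mathlib.GroupTheory.Nilpotent
import Mathlib.Tactic.LinearCombination

set_option autoImplicit false
open Cfsg

namespace Cfsg.Agent.S4843

open Matrix
open scoped Kronecker ComplexConjugate commutatorElement

variable {G : Type*} [Group G] [Finite G]

/-- If `χ` and its twist by the `k`-th power have an irreducible product, an element `b` of a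
normal subgroup `N` commuting with all `a ∈ N` for which `χ (a * b) ≠ 0` is central. -/
theorem mem_center_of_commute (χ : Cfsg.IrrCharacter G)
    (hfaith : ∀ g : G, (χ : G → ℂ) g = (χ : G → ℂ) 1 → g = 1) (k : ℕ)
    (hk : Nat.Coprime k (Nat.card G))
    (hirr : Cfsg.IsIrrCharacter G (fun g => (χ : G → ℂ) g * (χ : G → ℂ) (g ^ k)))
    (N : Subgroup G) [N.Normal] {b : G} (hb : b ∈ N)
    (hcomm : ∀ a ∈ N, (χ : G → ℂ) (a * b) ≠ 0 → Commute a b) : b ∈ Subgroup.center G := by
  classical
  have := Fintype.ofFinite G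
  obtain ⟨n, ρ, hρ, hρχ⟩ := χ.2
  obtain ⟨σ, hσ⟩ := CharClifford.exists_ringHom_map_isCharacter (G := G) hk
  obtain ⟨m, hm⟩ : ∃ m : ℕ, ∀ a : G, a ^ (m * k) = a⁻¹ := by
    have hk' := hk
    obtain ⟨j, hj⟩ : ∃ j, ∀ a : G, a ^ (j * k) = a := by
      rcases Nat.lt_or_ge 1 (Nat.card G) with h1 | h1
      · obtain ⟨j, -, hj⟩ := Nat.exists_mul_mod_eq_one_of_coprime hk' h1
        refine ⟨j, fun a => ?_⟩
        rw [mul_comm, ← pow_mod_natCard, hj, pow_one]
      · exact ⟨0, fun a => (Finite.card_le_one_iff_subsingleton.mp h1).elim _ _⟩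
    refine ⟨j * (Nat.card G - 1), fun a => ?_⟩
    rw [mul_right_comm, pow_mul, hj, eq_inv_iff_mul_eq_one, ← pow_succ,
      Nat.sub_add_cancel Nat.card_pos, pow_card_eq_one']
  let A : G →* Matrix (Fin n) (Fin n) ℂ :=
    { toFun := fun g => LinearMap.toMatrix' (ρ g)
      map_one' := by rw [map_one, Module.End.one_eq_id, LinearMap.toMatrix'_id]
      map_mul' := fun g h => by rw [map_mul, LinearMap.toMatrix'_mul] }
  let A' : G →* Matrix (Fin n) (Fin n) ℂ := σ.mapMatrix.toMonoidHom.comp A
  have hA : ∀ g, (A g).trace = (χ : G → ℂ) g := fun g => by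
    rw [← hρχ, ← Matrix.trace_toLin'_eq]
    simp [A, Representation.character]
  have hA' : ∀ g, (A' g).trace = (χ : G → ℂ) (g ^ k) := fun g => by
    rw [← hσ _ (CharCore.irr_isCharacter χ), ← hA]
    simp [A', Matrix.trace, map_sum]
  let T : Representation ℂ G (Fin n × Fin n → ℂ) :=
    { toFun := fun g => Matrix.toLin' (A g ⊗ₖ A' g)
      map_one' := by
        rw [map_one, map_one, Matrix.one_kronecker_one, Matrix.toLin'_one]; rfl
      map_mul' := fun g h => by
        rw [map_mul, map_mul, Matrix.mul_kronecker_mul, Matrix.toLin'_mul]; rfl }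
  have hT : T.character = fun g => (χ : G → ℂ) g * (χ : G → ℂ) (g ^ k) := by
    funext g
    show LinearMap.trace ℂ _ (Matrix.toLin' (A g ⊗ₖ A' g)) = _
    rw [Matrix.trace_toLin'_eq, Matrix.trace_kronecker, hA, hA']
  have hTirr : T.IsIrreducible := by
    rw [CharCore.isIrreducible_iff, hT]
    exact (CharCore.isIrrCharacter_iff.mp hirr).2
  let X : Matrix (Fin n × Fin n) (Fin n × Fin n) ℂ := ∑ a : N, A a ⊗ₖ A' ((a : G) ^ m)
  have hX : ∀ g, (A g ⊗ₖ A' g) * X = X * (A g ⊗ₖ A' g) := by
    intro g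
    let e : N ≃ N :=
      { toFun := fun a => ⟨g * a * g⁻¹, Subgroup.Normal.conj_mem inferInstance _ a.2 g⟩
        invFun := fun a => ⟨g⁻¹ * a * g, by
          simpa using Subgroup.Normal.conj_mem (H := N) inferInstance _ a.2 g⁻¹⟩
        left_inv := fun a => by ext; simp [mul_assoc]
        right_inv := fun a => by ext; simp [mul_assoc] }
    simp only [X, Finset.mul_sum, Finset.sum_mul]
    refine Fintype.sum_equiv e _ _ fun a => ?_
    rw [← Matrix.mul_kronecker_mul, ← Matrix.mul_kronecker_mul, ← map_mul, ← map_mul, ← map_mul,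
      ← map_mul]
    show _ = A (g * a * g⁻¹ * g) ⊗ₖ A' ((g * a * g⁻¹) ^ m * g)
    rw [conj_pow]
    simp [mul_assoc]
  obtain ⟨c, hc⟩ : ∃ c : ℂ, X = c • 1 := by
    let φ : Representation.IntertwiningMap T T :=
      ⟨Matrix.toLin' X, fun g => by
        show Matrix.toLin' X ∘ₗ Matrix.toLin' _ = Matrix.toLin' _ ∘ₗ Matrix.toLin' X
        rw [← Matrix.toLin'_mul, ← Matrix.toLin'_mul, hX]⟩
    obtain ⟨c, hc⟩ :=
      (Representation.IsIrreducible.algebraMap_intertwiningMap_bijective_of_isAlgClosed).2 φ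
    refine ⟨c, Matrix.toLin'.injective ?_⟩
    rw [map_smul, Matrix.toLin'_one]
    have h1 := congrArg Representation.IntertwiningMap.toLinearMap hc
    refine h1.symm.trans ?_
    simp [Algebra.algebraMap_eq_smul_one]
    rfl
  have htr : ∀ y z : G, ∑ a : N, (χ : G → ℂ) (a * y) * (χ : G → ℂ) (((a : G) ^ m * z) ^ k) =
      c * ((χ : G → ℂ) y * (χ : G → ℂ) (z ^ k)) := by
    intro y z
    have h1 := congrArg (fun M => (M * (A y ⊗ₖ A' z)).trace) hc
    simpa only [X, Finset.sum_mul, Matrix.trace_sum, ← Matrix.mul_kronecker_mul, ← map_mul,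
      Matrix.trace_kronecker, hA, hA', Matrix.trace_smul, smul_mul_assoc, one_mul,
      smul_eq_mul] using h1
  set S : ℂ := ∑ a : N, (χ : G → ℂ) a * (χ : G → ℂ) (a : G)⁻¹ with hS
  have hS1 : S = c * ((χ : G → ℂ) 1 * (χ : G → ℂ) 1) := by
    have h1 := htr 1 1
    simpa [← pow_mul, hm, ← hS] using h1
  have hS2 : S = c * ((χ : G → ℂ) b * (χ : G → ℂ) b⁻¹) := by
    have h1 := htr b (b ^ m)
    rw [← pow_mul, hm] at h1
    rw [← h1, hS]
    refine (Fintype.sum_equiv (Equiv.mulRight (⟨b, hb⟩ : N)) _ _ fun a => ?_).symm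
    simp only [Equiv.coe_mulRight, Subgroup.coe_mul]
    by_cases h0 : (χ : G → ℂ) (a * b) = 0
    · simp [h0]
    · rw [← (hcomm a a.2 h0).mul_pow, ← pow_mul, hm]
  have hS0 : S ≠ 0 := by
    have hterm : ∀ a : G, (χ : G → ℂ) a * (χ : G → ℂ) a⁻¹ =
        ((‖(χ : G → ℂ) a‖ ^ 2 : ℝ) : ℂ) := fun a => by
      rw [CharCore.irr_apply_inv, Complex.mul_conj, Complex.normSq_eq_norm_sq]
    rw [hS]
    simp only [hterm, ← Complex.ofReal_sum]
    rw [Complex.ofReal_ne_zero]
    refine (Finset.sum_pos' (fun a _ => by positivity) ⟨1, Finset.mem_univ _, ?_⟩).ne'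
    have := CharCore.irr_apply_one_ne_zero χ
    simp only [OneMemClass.coe_one]
    positivity
  have hc0 : c ≠ 0 := by rintro rfl; simp [hS1] at hS0
  have hnorm : ‖(χ : G → ℂ) b‖ = ‖(χ : G → ℂ) 1‖ := by
    have h1 := mul_left_cancel₀ hc0 (hS1.symm.trans hS2)
    have h2 := congrArg (fun z : ℂ => ‖z‖) h1
    rw [CharCore.irr_apply_inv, norm_mul, norm_mul, Complex.norm_conj] at h2
    nlinarith [norm_nonneg ((χ : G → ℂ) b), norm_nonneg ((χ : G → ℂ) 1)]
  obtain ⟨l, hl⟩ := (CharCore.norm_character_eq_iff ρ b).mp (by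
    rw [hρχ, hnorm, ← hρχ, Representation.char_one, Complex.norm_natCast])
  rw [Subgroup.mem_center_iff]
  intro g
  have h1 : ρ (g * b * (b * g)⁻¹) = 1 := by
    have h2 : ρ (g * b) = ρ (b * g) := by
      rw [map_mul, map_mul, hl]
      ext v
      simp
    rw [map_mul, h2, ← map_mul, mul_inv_cancel, map_one]
  have h3 := hfaith _ (show (χ : G → ℂ) (g * b * (b * g)⁻¹) = (χ : G → ℂ) 1 by
    rw [← hρχ]; simp only [Representation.character, h1, map_one])
  exact mul_inv_eq_one.mp h3

/-- Every nilpotent normal subgroup is central. -/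
theorem le_center (χ : Cfsg.IrrCharacter G)
    (hfaith : ∀ g : G, (χ : G → ℂ) g = (χ : G → ℂ) 1 → g = 1) (k : ℕ)
    (hk : Nat.Coprime k (Nat.card G))
    (hirr : Cfsg.IsIrrCharacter G (fun g => (χ : G → ℂ) g * (χ : G → ℂ) (g ^ k)))
    (N : Subgroup G) [N.Normal] (hN : Group.IsNilpotent N) : N ≤ Subgroup.center G := by
  have habel : ∀ B : Subgroup G, B.Normal → (∀ x ∈ B, ∀ y ∈ B, Commute x y) →
      B ≤ Subgroup.center G := fun B hB hc b hb => by
    have := hB
    exact mem_center_of_commute χ hfaith k hk hirr B hb fun a ha _ => hc a ha b hb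
  let A : Subgroup G := (Subgroup.upperCentralSeries N 2).map N.subtype
  let Z : Subgroup G := (Subgroup.center N).map N.subtype
  have hZn : Z.Normal := ConjAct.normal_of_characteristic_of_normal
  have hAn : A.Normal := ConjAct.normal_of_characteristic_of_normal
  have hZ : Z ≤ Subgroup.center G := habel Z hZn (by
    rintro _ ⟨x, hx, rfl⟩ _ ⟨y, _, rfl⟩
    exact congrArg Subtype.val (Subgroup.mem_center_iff.mp hx y).symm)
  have hZc : ∀ x : N, (x : G) ∈ Subgroup.center G → x ∈ Subgroup.center N := fun x hx =>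
    Subgroup.mem_center_iff.mpr fun y => Subtype.ext (Subgroup.mem_center_iff.mp hx y)
  obtain ⟨n, ρ, hρ, hρχ⟩ := χ.2
  have hvan : ∀ a ∈ A, a ∉ Subgroup.center G → (χ : G → ℂ) a = 0 := by
    rintro _ ⟨x, hx, rfl⟩ hxc
    obtain ⟨y, hy⟩ : ∃ y : N, y * x ≠ x * y := by
      by_contra hcon
      push Not at hcon
      exact hxc (hZ ⟨x, Subgroup.mem_center_iff.mpr hcon, rfl⟩)
    have hz : ⁅x, y⁆ ∈ Subgroup.center N := by
      rw [← Subgroup.upperCentralSeries_one]
      exact Subgroup.mem_upperCentralSeries_succ_iff.mp hx y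
    have hzG : (⁅x, y⁆ : N).1 ∈ Subgroup.center G := hZ ⟨_, hz, rfl⟩
    set z : G := (⁅x, y⁆ : N).1 with hzdef
    have hz1 : z ≠ 1 := fun h => hy (by
      have : ⁅x, y⁆ = 1 := Subtype.ext h
      exact (commutatorElement_eq_one_iff_commute.mp this).eq.symm)
    obtain ⟨c, hc⟩ : ∃ c : ℂ, ρ z = c • LinearMap.id := by
      let φ : Representation.IntertwiningMap ρ ρ := ⟨ρ z, fun g => by
        show ρ z * ρ g = ρ g * ρ z
        rw [← map_mul, ← map_mul, ← Subgroup.mem_center_iff.mp hzG g]⟩
      obtain ⟨c, hc⟩ :=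
        (Representation.IsIrreducible.algebraMap_intertwiningMap_bijective_of_isAlgClosed).2 φ
      refine ⟨c, ?_⟩
      have h1 := congrArg Representation.IntertwiningMap.toLinearMap hc
      refine h1.symm.trans ?_
      simp [Algebra.algebraMap_eq_smul_one]
      rfl
    have hc1 : c ≠ 1 := by
      rintro rfl
      refine hz1 (hfaith z ?_)
      rw [← hρχ]
      simp [Representation.character, hc]
    have h2 : (χ : G → ℂ) (x : G) = c * (χ : G → ℂ) (x : G) := by
      have hzeq : (y : G) * x * (y : G)⁻¹ = z⁻¹ * x := by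
        rw [hzdef]; simp [commutatorElement_def, mul_assoc]
      have h3 := CharCore.irr_isClassFunction χ (z⁻¹ * x : G) 1
      have h4 : (χ : G → ℂ) (z * (z⁻¹ * x)) = c * (χ : G → ℂ) (z⁻¹ * x) := by
        rw [← hρχ]
        simp only [Representation.character, map_mul, hc]
        rw [smul_mul_assoc, map_smul, smul_eq_mul]
        rfl
      rw [mul_inv_cancel_left] at h4
      rw [← CharCore.irr_isClassFunction χ (x : G) (y : G), hzeq]
      rw [← CharCore.irr_isClassFunction χ (x : G) (y : G), hzeq] at h4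
      exact h4
    show (χ : G → ℂ) (x : G) = 0
    have h5 : (1 - c) * (χ : G → ℂ) (x : G) = 0 := by linear_combination h2
    exact (mul_eq_zero.mp h5).resolve_left (sub_ne_zero.mpr (Ne.symm hc1))
  have hA : A ≤ Subgroup.center G := fun b hb => by
    refine mem_center_of_commute χ hfaith k hk hirr A hb fun a ha h0 => ?_
    by_contra hne
    refine h0 (hvan _ (mul_mem ha hb) fun hab => hne ?_)
    exact mul_left_cancel (a := a) (by
      rw [Subgroup.mem_center_iff.mp hab a, mul_assoc])
  have hall : ∀ i, Subgroup.upperCentralSeries N i ≤ Subgroup.center N := by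
    intro i
    induction i with
    | zero => simp
    | succ i ih =>
      intro x hx
      refine hZc x (hA ⟨x, ?_, rfl⟩)
      refine Subgroup.mem_upperCentralSeries_succ_iff.mpr fun y => ?_
      rw [Subgroup.upperCentralSeries_one]
      exact ih (Subgroup.mem_upperCentralSeries_succ_iff.mp hx y)
  obtain ⟨i, hi⟩ := hN.nilpotent'
  intro x hx
  exact hZ ⟨⟨x, hx⟩, hall i (hi ▸ Subgroup.mem_top _), rfl⟩

/-- Let G be a finite group with a faithful irreducible character χ (taking the value χ(1) only at the identity) and let k be prime to the order of G, so that g ↦ χ(g^k) is a Galois conjugate of χ. If the pointwise product g ↦ χ(g)·χ(g^k) is again an irreducible character, then the Fitting subgroup of G equals its centre. -/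
theorem result {G : Type*} [Group G] [Finite G] (χ : Cfsg.IrrCharacter G) (hfaith : ∀ g : G, (χ : G → ℂ) g = (χ : G → ℂ) 1 → g = 1) (k : ℕ) (hk : Nat.Coprime k (Nat.card G)) (hirr : Cfsg.IsIrrCharacter G (fun g => (χ : G → ℂ) g * (χ : G → ℂ) (g ^ k))) : Cfsg.fittingSubgroup G = Subgroup.center G := by
  refine le_antisymm (sSup_le fun N hN => ?_) (le_sSup ⟨inferInstance, ?_⟩)
  · have := hN.1
    exact le_center χ hfaith k hk hirr N hN.2
  · let _ : CommGroup (Subgroup.center G) :=
      { (inferInstance : Group (Subgroup.center G)) with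
        mul_comm := fun a b => Subtype.ext (Subgroup.mem_center_iff.mp b.2 a) }
    infer_instance

end Cfsg.Agent.S4843
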