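import Cfsg.Statements.S4845
import Cfsg.Agent.BC87.PGroupGalois
import Cfsg.Agent.Lib.PGroup.Basic
import Mathlib.GroupTheory.Commutator.Basic

set_option autoImplicit false
open Cfsg

namespace Cfsg.Agent.S4845

open BC87
open scoped commutatorElement

variable {P : Type*} [Group P] [Finite P] {p : ℕ} [hp : Fact p.Prime]

theorem map_commutator_mk (N : Subgroup P) [N.Normal] :
    (commutator P).map (QuotientGroup.mk' N) = commutator (P ⧸ N) := by
  rw [commutator_def, commutator_def, Subgroup.map_commutator,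
    Subgroup.map_top_of_surjective _ (QuotientGroup.mk'_surjective N)]

theorem card_commutator_quotient (N : Subgroup P) [N.Normal] (hN : N ≤ commutator P) :
    Nat.card (commutator (P ⧸ N)) * Nat.card N = Nat.card (commutator P) := by
  have h1 := Subgroup.index_map_eq (commutator P) (QuotientGroup.mk'_surjective N)
    (by rwa [QuotientGroup.ker_mk'])
  rw [map_commutator_mk] at h1
  have h2 := (commutator (P ⧸ N)).card_mul_index
  rw [h1] at h2
  have h3 := (commutator P).card_mul_index
  rw [N.card_eq_card_quotient_mul_card_subgroup, ← h2, mul_right_comm] at h3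
  exact (Nat.eq_of_mul_eq_mul_right (Nat.pos_of_ne_zero Subgroup.index_ne_zero_of_finite) h3).symm

/-- The preimage of the centre of `P ⧸ N`. -/
def Z2 (N : Subgroup P) [N.Normal] : Subgroup P :=
  (Subgroup.center (P ⧸ N)).comap (QuotientGroup.mk' N)

omit [Finite P] in
theorem mem_Z2 {N : Subgroup P} [N.Normal] {z : P} : z ∈ Z2 N ↔ ∀ g : P, ⁅z, g⁆ ∈ N := by
  rw [Z2, Subgroup.mem_comap, Subgroup.mem_center_iff]
  constructor
  · intro h g
    rw [← QuotientGroup.eq_one_iff, ← QuotientGroup.mk'_apply, map_commutatorElement,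
      commutatorElement_eq_one_iff_mul_comm]
    exact (h _).symm
  · intro h x
    obtain ⟨g, rfl⟩ := QuotientGroup.mk'_surjective N x
    refine (commutatorElement_eq_one_iff_mul_comm.mp ?_).symm
    rw [← map_commutatorElement, QuotientGroup.mk'_apply, QuotientGroup.eq_one_iff]
    exact h g

theorem card_Z2 (N : Subgroup P) [N.Normal] :
    Nat.card (Z2 N) = Nat.card (Subgroup.center (P ⧸ N)) * Nat.card N := by
  have h1 := (Z2 N).card_mul_index
  rw [Z2, Subgroup.index_comap_of_surjective _ (QuotientGroup.mk'_surjective N),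
    N.card_eq_card_quotient_mul_card_subgroup,
    ← (Subgroup.center (P ⧸ N)).card_mul_index, mul_right_comm] at h1
  exact Nat.eq_of_mul_eq_mul_right (Nat.pos_of_ne_zero Subgroup.index_ne_zero_of_finite) h1

/-- A section with derived subgroup of order `p`. -/
theorem section_data (hP : IsPGroup p P) (hyp : EqualDegreeGalois P) (N : Subgroup P) [N.Normal]
    (hD : Nat.card (commutator (P ⧸ N)) = p) :
    IsCyclic (Subgroup.center (P ⧸ N)) ∧ ∃ χ : Cfsg.IrrCharacter P,
      Cfsg.charDegree (χ : P → ℂ) ≠ 1 ∧ N ≤ kerChar χ ∧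
      Cfsg.charDegree (χ : P → ℂ) ^ 2 * Nat.card (Z2 N) = Nat.card P := by
  have hQ := hP.to_quotient N
  refine ⟨isCyclic_center hQ hD (equalDegreeGalois_quotient hyp N), ?_⟩
  have hne : commutator (P ⧸ N) ≠ ⊥ := fun h => by
    rw [h, Subgroup.card_bot] at hD; exact hp.out.one_lt.ne hD
  obtain ⟨θ, hθ⟩ := exists_nonlinear hne
  refine ⟨(inflEquiv N θ).1, by rwa [charDegree_inflEquiv], (inflEquiv N θ).2, ?_⟩
  rw [charDegree_inflEquiv, card_Z2, ← mul_assoc, degree_sq_mul_card_center hQ hD hθ,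
    ← N.card_eq_card_quotient_mul_card_subgroup]

omit [Finite P] hp in
theorem comm_mul_left {x y g : P} (h : ⁅y, g⁆ ∈ Subgroup.center P) :
    ⁅x * y, g⁆ = ⁅x, g⁆ * ⁅y, g⁆ := by
  have h1 := Subgroup.mem_center_iff.mp h
  have e : ⁅x * y, g⁆ = x * ⁅y, g⁆ * x⁻¹ * ⁅x, g⁆ := by simp only [commutatorElement_def]; group
  rw [e, h1 x, mul_inv_cancel_right, h1]

omit [Finite P] hp in
theorem comm_pow_left {x g : P} (hcen : ⁅x, g⁆ ∈ Subgroup.center P) :
    ∀ i : ℕ, ⁅x ^ i, g⁆ = ⁅x, g⁆ ^ i := by
  intro i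
  induction i with
  | zero => simp
  | succ i ih => rw [pow_succ, comm_mul_left hcen, ih, pow_succ]

section Square

variable (hP : IsPGroup p P) (hyp : EqualDegreeGalois P)
  (hD : Nat.card (commutator P) = p * p) (N : Subgroup P) [hN : N.Normal]
  (hNle : N ≤ commutator P) (hNc : Nat.card N = p)

include hD hNle hNc in
omit hN in
theorem exists_decomp {u : P} (hu : u ∈ commutator P) (huN : u ∉ N) :
    ∀ c ∈ commutator P, ∃ (i : ℤ) (n : P), n ∈ N ∧ c = n * u ^ i ∧
      n ∈ commutator P := by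
  intro c hc
  have hKle : N.subgroupOf (commutator P) ⊔ Subgroup.zpowers (⟨u, hu⟩ : commutator P) = ⊤ := by
    have hidx : (N.subgroupOf (commutator P)).index = p := by
      have h := (N.subgroupOf (commutator P)).card_mul_index
      rw [Nat.card_congr (Subgroup.subgroupOfEquivOfLe hNle).toEquiv, hNc, hD] at h
      exact Nat.eq_of_mul_eq_mul_left hp.out.pos h
    refine (PGroup.isCoatom_of_index_prime (hidx.symm ▸ hp.out)).2 _
      (lt_of_le_of_ne le_sup_left fun he => huN ?_)
    have : (⟨u, hu⟩ : commutator P) ∈ N.subgroupOf (commutator P) := by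
      rw [he]; exact Subgroup.mem_sup_right (Subgroup.mem_zpowers _)
    exact Subgroup.mem_subgroupOf.mp this
  haveI : (N.subgroupOf (commutator P)).Normal := by
    haveI : IsMulCommutative (commutator P) :=
      IsPGroup.isMulCommutative_of_card_eq_prime_sq (p := p) (by rw [hD, sq])
    infer_instance
  obtain ⟨n, hn, y, hy, hny⟩ := Subgroup.mem_sup_of_normal_left.mp
    (show (⟨c, hc⟩ : commutator P) ∈
      N.subgroupOf (commutator P) ⊔ Subgroup.zpowers (⟨u, hu⟩ : commutator P) from
      hKle ▸ Subgroup.mem_top _)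
  obtain ⟨i, rfl⟩ := Subgroup.mem_zpowers_iff.mp hy
  exact ⟨i, n, Subgroup.mem_subgroupOf.mp hn, by
    simpa using (congrArg Subtype.val hny).symm, n.2⟩

include hP hD hNle hNc in
/-- The quotient by `N` has derived subgroup of order `p`. -/
theorem card_quot : Nat.card (commutator (P ⧸ N)) = p := by
  have h := card_commutator_quotient N hNle
  rw [hNc, hD] at h
  exact Nat.eq_of_mul_eq_mul_right hp.out.pos h

include hP hyp hD hNle hNc in
/-- The central case with derived subgroup of exponent `p`. -/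
theorem card_Z2_eq (hc : commutator P ≤ Subgroup.center P)
    (hexp : ∀ d ∈ commutator P, d ^ p = 1) :
    Nat.card (Z2 N) = Nat.card (Subgroup.center P) ∨
      Nat.card (Z2 N) = p * Nat.card (Subgroup.center P) := by
  obtain ⟨hcyc, -⟩ := section_data hP hyp N (card_quot hP hD N hNle hNc)
  obtain ⟨z', hz'⟩ := hcyc.exists_generator
  obtain ⟨z, hz⟩ := QuotientGroup.mk'_surjective N (z' : P ⧸ N)
  have hzmem : z ∈ Z2 N := Subgroup.mem_comap.mpr (by rw [hz]; exact z'.2)
  have hzp : z ^ p ∈ Subgroup.center P := Subgroup.mem_center_iff.mpr fun g =>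
    (commutatorElement_eq_one_iff_mul_comm.mp (show ⁅z ^ p, g⁆ = 1 by
      have hcm : ⁅z, g⁆ ∈ commutator P := Subgroup.commutator_mem_commutator trivial trivial
      rw [comm_pow_left (hc hcm), hexp _ hcm])).symm
  set π := QuotientGroup.mk' (Subgroup.center P)
  have hmap : (Z2 N).map π = Subgroup.zpowers (π z) := by
    refine le_antisymm ?_ (Subgroup.zpowers_le.mpr ⟨z, hzmem, rfl⟩)
    rintro _ ⟨w, hw, rfl⟩
    obtain ⟨i, hi⟩ := Subgroup.mem_zpowers_iff.mp
      (hz' ⟨QuotientGroup.mk' N w, Subgroup.mem_comap.mp hw⟩)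
    have hi' : QuotientGroup.mk' N (z ^ i) = QuotientGroup.mk' N w := by
      rw [map_zpow, hz]
      simpa using congrArg Subtype.val hi
    rw [QuotientGroup.mk'_apply, QuotientGroup.mk'_apply, QuotientGroup.eq] at hi'
    refine Subgroup.mem_zpowers_iff.mpr ⟨i, ?_⟩
    rw [← map_zpow, QuotientGroup.mk'_apply, QuotientGroup.mk'_apply, QuotientGroup.eq]
    exact hc (hNle hi')
  have hle : Subgroup.center P ≤ Z2 N := fun c hc' => mem_Z2.mpr fun g => by
    rw [commutatorElement_eq_one_iff_mul_comm.mpr (Subgroup.mem_center_iff.mp hc' g).symm]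
    exact one_mem _
  have hcard : Nat.card (Z2 N) =
      Nat.card ((Z2 N).map π) * Nat.card (Subgroup.center P) := by
    have h1 := Subgroup.index_map_eq (Z2 N) (QuotientGroup.mk'_surjective (Subgroup.center P))
      (by rwa [QuotientGroup.ker_mk'])
    have h2 := ((Z2 N).map π).card_mul_index
    rw [h1] at h2
    have h3 := (Z2 N).card_mul_index
    rw [(Subgroup.center P).card_eq_card_quotient_mul_card_subgroup, ← h2, mul_right_comm] at h3
    exact Nat.eq_of_mul_eq_mul_right (Nat.pos_of_ne_zero Subgroup.index_ne_zero_of_finite) h3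
  rw [hmap, Nat.card_zpowers] at hcard
  rcases (Nat.dvd_prime hp.out).mp (orderOf_dvd_of_pow_eq_one (x := π z) (n := p) (by
    rw [← map_pow, QuotientGroup.mk'_apply, QuotientGroup.eq_one_iff]; exact hzp)) with h | h
  · left; rw [hcard, h, one_mul]
  · right; rw [hcard, h]

include hP hyp hD hNle hNc in
/-- The central case needs exponent `p`. -/
theorem pow_eq_one_of_central (hc : commutator P ≤ Subgroup.center P) :
    ∀ d ∈ commutator P, d ^ p = 1 := by
  have hq := card_quot hP hD N hNle hNc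
  have hpN : ∀ d ∈ commutator P, d ^ p ∈ N := by
    intro d hd
    have hmem : QuotientGroup.mk' N d ∈ commutator (P ⧸ N) := by
      rw [← map_commutator_mk]; exact ⟨d, hd, rfl⟩
    have h := pow_card_eq_one' (x := (⟨_, hmem⟩ : commutator (P ⧸ N)))
    rw [hq] at h
    rw [← QuotientGroup.eq_one_iff]
    simpa using congrArg Subtype.val h
  have hgen : ∀ x y : P, ⁅x, y⁆ ^ p = 1 := by
    intro x y
    by_contra hne
    obtain ⟨hcyc, -⟩ := section_data hP hyp N hq
    obtain ⟨z', hz'⟩ := hcyc.exists_generator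
    obtain ⟨z, hz⟩ := QuotientGroup.mk'_surjective N (z' : P ⧸ N)
    have hzmem : z ∈ Z2 N := Subgroup.mem_comap.mpr (by rw [hz]; exact z'.2)
    have hcm : ∀ a b : P, ⁅a, b⁆ ∈ commutator P := fun a b =>
      Subgroup.commutator_mem_commutator trivial trivial
    have hpow : ∀ a g : P, ⁅a ^ p, g⁆ = ⁅a, g⁆ ^ p := fun a g => comm_pow_left (hc (hcm a g)) p
    classical
    have hmemZ : ∀ a : P, ∃ i : ℕ, ∀ g : P, ⁅a ^ p, g⁆ = ⁅z, g⁆ ^ i := by
      intro a
      have ha : a ^ p ∈ Z2 N := mem_Z2.mpr fun g => by rw [hpow]; exact hpN _ (hcm a g)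
      obtain ⟨i, -, hi⟩ := Finset.mem_image.mp (mem_zpowers_iff_mem_range_orderOf.mp
        (hz' ⟨QuotientGroup.mk' N (a ^ p), Subgroup.mem_comap.mp ha⟩))
      have hi' : QuotientGroup.mk' N (z ^ i) = QuotientGroup.mk' N (a ^ p) := by
        rw [map_pow, hz]
        simpa using congrArg Subtype.val hi
      rw [QuotientGroup.mk'_apply, QuotientGroup.mk'_apply, QuotientGroup.eq] at hi'
      refine ⟨i, fun g => ?_⟩
      have hn := hc (hNle hi')
      have e : a ^ p = z ^ i * ((z ^ i)⁻¹ * a ^ p) := by group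
      rw [e, comm_mul_left (hc (hcm _ g)), comm_pow_left (hc (hcm z g)),
        commutatorElement_eq_one_iff_mul_comm.mpr (Subgroup.mem_center_iff.mp hn g).symm, mul_one]
    classical
    obtain ⟨i, hi⟩ := hmemZ x
    obtain ⟨j, hj⟩ := hmemZ y
    have hzN : ∀ g : P, ⁅z, g⁆ ^ p = 1 := fun g => by
      have h := pow_card_eq_one' (x := (⟨_, mem_Z2.mp hzmem g⟩ : N))
      rw [hNc] at h
      simpa using congrArg Subtype.val h
    have hi1 : ⁅z, y⁆ ^ i ≠ 1 := fun h => hne (by rw [← hpow, hi, h])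
    have hpi : ¬ p ∣ i := fun ⟨t, ht⟩ => hi1 (by rw [ht, pow_mul, hzN, one_pow])
    have hix : ⁅z, x⁆ ^ i = 1 := by
      rw [← hi, hpow, commutatorElement_self, one_pow]
    have hzx : ⁅z, x⁆ = 1 := PGroup.eq_one_of_pow_coprime hP
      ((Nat.Prime.coprime_iff_not_dvd hp.out).mpr hpi) hix
    have h2 : ⁅y, x⁆ ^ p = 1 := by rw [← hpow, hj, hzx, one_pow]
    apply hne
    rw [← commutatorElement_inv y x, inv_pow, h2, inv_one]
  intro d hd
  haveI : IsMulCommutative (commutator P) := ⟨⟨fun a b =>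
    Subtype.ext (Subgroup.mem_center_iff.mp (hc b.2) a)⟩⟩
  rw [commutator_def, Subgroup.commutator_def] at hd
  induction hd using Subgroup.closure_induction with
  | mem w hw =>
    obtain ⟨a, -, b, -, rfl⟩ := hw
    exact hgen a b
  | one => exact one_pow p
  | mul a b ha hb h1 h2 =>
    have hb' : b ∈ commutator P := by
      rw [commutator_def, Subgroup.commutator_def]; exact hb
    rw [Commute.mul_pow (Subgroup.mem_center_iff.mp (hc hb') a), h1, h2, one_mul]
  | inv a _ h1 => rw [inv_pow, h1, inv_one]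

include hP hyp hD hNle hNc in
/-- The non-central case. -/
theorem false_of_not_central (hc : ¬ commutator P ≤ Subgroup.center P) : False := by
  obtain ⟨u, hu, huc⟩ := SetLike.not_le_iff_exists.mp hc
  have hNcen := PGroup.le_center_of_card_eq_prime hP hNc
  have huN : u ∉ N := fun h => huc (hNcen h)
  have hq := card_quot hP hD N hNle hNc
  have hdec := exists_decomp hD N hNle hNc hu huN
  have hDmem : ∀ a b : P, ⁅a, b⁆ ∈ commutator P := fun a b =>
    Subgroup.commutator_mem_commutator trivial trivial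
  have hDab : ∀ a ∈ commutator P, ∀ b ∈ commutator P, Commute a b := by
    intro a ha b hb
    haveI : IsMulCommutative (commutator P) :=
      IsPGroup.isMulCommutative_of_card_eq_prime_sq (p := p) (by rw [hD, sq])
    have h := mul_comm' (⟨a, ha⟩ : commutator P) ⟨b, hb⟩
    exact congrArg Subtype.val h
  have hcq : commutator (P ⧸ N) ≤ Subgroup.center (P ⧸ N) :=
    PGroup.le_center_of_card_eq_prime (hP.to_quotient N) hq
  have hDZ2 : commutator P ≤ Z2 N := fun d hd => Subgroup.mem_comap.mpr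
    (hcq (by rw [← map_commutator_mk]; exact ⟨d, hd, rfl⟩))
  have huZ2 := hDZ2 hu
  obtain ⟨hcyc, χ₁, hχ₁, hker₁, -⟩ := section_data hP hyp N hq
  obtain ⟨z', hz'⟩ := hcyc.exists_generator
  obtain ⟨z, hz⟩ := QuotientGroup.mk'_surjective N (z' : P ⧸ N)
  have hzmem : z ∈ Z2 N := Subgroup.mem_comap.mpr (by rw [hz]; exact z'.2)
  -- the preimage of the centre is the derived subgroup
  have hZ2 : Z2 N ≤ commutator P := by
    classical
    obtain ⟨k, -, hk⟩ := Finset.mem_image.mp (mem_zpowers_iff_mem_range_orderOf.mp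
      (hz' ⟨QuotientGroup.mk' N u, Subgroup.mem_comap.mp huZ2⟩))
    have hk' : QuotientGroup.mk' N (z ^ k) = QuotientGroup.mk' N u := by
      rw [map_pow, hz]
      simpa using congrArg Subtype.val hk
    rw [QuotientGroup.mk'_apply, QuotientGroup.mk'_apply, QuotientGroup.eq] at hk'
    have hkd : z ^ k ∈ commutator P := by
      have := mul_mem hu (inv_mem (hNle hk'))
      rwa [mul_inv_rev, inv_inv, mul_inv_cancel_left] at this
    have hpk : ¬ p ∣ k := by
      rintro ⟨t, rfl⟩
      apply huc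
      rw [Subgroup.mem_center_iff]
      intro g
      refine (commutatorElement_eq_one_iff_mul_comm.mp ?_).symm
      have hzg : ⁅z, g⁆ ∈ Subgroup.center P := hNcen (mem_Z2.mp hzmem g)
      have hn := hNcen hk'
      have e : u = z ^ (p * t) * ((z ^ (p * t))⁻¹ * u) := by group
      rw [e, comm_mul_left (by
          rw [commutatorElement_eq_one_iff_mul_comm.mpr (Subgroup.mem_center_iff.mp hn g).symm]
          exact one_mem _),
        commutatorElement_eq_one_iff_mul_comm.mpr (Subgroup.mem_center_iff.mp hn g).symm, mul_one,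
        comm_pow_left hzg, pow_mul]
      have h := pow_card_eq_one' (x := (⟨_, mem_Z2.mp hzmem g⟩ : N))
      rw [hNc] at h
      rw [show ⁅z, g⁆ ^ p = 1 by simpa using congrArg Subtype.val h, one_pow]
    have hzD : z ∈ commutator P := by
      obtain ⟨m, hm⟩ := IsPGroup.iff_orderOf.mp hP z
      obtain ⟨l, hl⟩ := exists_pow_eq_self_of_coprime (x := z) (n := k)
        (by rw [hm]; exact ((Nat.Prime.coprime_iff_not_dvd hp.out).mpr hpk).symm.pow_right m)
      exact hl ▸ Subgroup.pow_mem _ hkd l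
    intro w hw
    obtain ⟨i, hi⟩ := Subgroup.mem_zpowers_iff.mp
      (hz' ⟨QuotientGroup.mk' N w, Subgroup.mem_comap.mp hw⟩)
    have hi' : QuotientGroup.mk' N (z ^ i) = QuotientGroup.mk' N w := by
      rw [map_zpow, hz]
      simpa using congrArg Subtype.val hi
    rw [QuotientGroup.mk'_apply, QuotientGroup.mk'_apply, QuotientGroup.eq] at hi'
    have := mul_mem (Subgroup.zpow_mem _ hzD i) (hNle hi')
    rwa [mul_inv_cancel_left] at this
  -- the centralizer of `u`
  have hgu : ∀ g : P, ⁅g, u⁆ ∈ N := fun g => by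
    rw [← commutatorElement_inv u g]; exact inv_mem (mem_Z2.mp huZ2 g)
  let φ : P →* N :=
    { toFun := fun g => ⟨⁅g, u⁆, hgu g⟩
      map_one' := Subtype.ext (commutatorElement_one_left u)
      map_mul' := fun a b => Subtype.ext (comm_mul_left (hNcen (hgu b))) }
  set C := φ.ker with hCdef
  have hC : ∀ c : P, c ∈ C ↔ c * u = u * c := fun c => by
    rw [hCdef, MonoidHom.mem_ker, ← commutatorElement_eq_one_iff_mul_comm]
    exact Subtype.ext_iff
  have hCidx : C.index = p := by
    rw [hCdef, Subgroup.index_ker]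
    rcases (Nat.dvd_prime hp.out).mp (hNc ▸ Subgroup.card_subgroup_dvd_card φ.range) with h | h
    · exfalso
      apply huc
      rw [Subgroup.mem_center_iff]
      intro g
      have h0 := Subgroup.eq_bot_of_card_eq _ h
      have : φ g = 1 := by
        have : φ g ∈ φ.range := ⟨g, rfl⟩
        rwa [h0, Subgroup.mem_bot] at this
      exact commutatorElement_eq_one_iff_mul_comm.mp (congrArg Subtype.val this)
    · exact h
  have hDC : commutator P ≤ C := fun d hd => (hC d).mpr (hDab d hd u hu)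
  haveI hCn : C.Normal := by rw [hCdef]; infer_instance
  have hCD : ∀ c ∈ C, ∀ d ∈ commutator P, Commute c d := by
    intro c hc' d hd
    obtain ⟨i, n, hn, rfl, -⟩ := hdec d hd
    exact Commute.mul_right (Subgroup.mem_center_iff.mp (hNcen hn) c)
      (Commute.zpow_right ((hC c).mp hc') i)
  -- commutators in `C` lie in `N`
  have hCN : ∀ x ∈ C, ∀ y ∈ C, ⁅x, y⁆ ∈ N := by
    intro x hx y hy
    have h0 : ⁅⁅C, (⊤ : Subgroup P)⁆, C⁆ = ⊥ := by
      rw [eq_bot_iff, Subgroup.commutator_le]
      intro a ha b hb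
      rw [Subgroup.mem_bot, commutatorElement_eq_one_iff_mul_comm]
      exact (hCD b hb a (Subgroup.commutator_mono le_top le_rfl ha)).symm
    have h3 := Subgroup.commutator_commutator_eq_bot_of_rotate
      (H₁ := C) (H₂ := C) (H₃ := (⊤ : Subgroup P)) h0
      (by rw [Subgroup.commutator_comm ⊤ C]; exact h0)
    obtain ⟨i, n, hn, he, -⟩ := hdec _ (hDmem x y)
    by_contra hne
    have hcen : ⁅x, y⁆ ∈ Subgroup.center P := Subgroup.mem_center_iff.mpr fun g =>
      (commutatorElement_eq_one_iff_mul_comm.mp (Subgroup.mem_bot.mp (h3 ▸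
        Subgroup.commutator_mem_commutator (Subgroup.commutator_mem_commutator hx hy)
          (Subgroup.mem_top g)))).symm
    apply hc
    intro d hd
    obtain ⟨j, n', hn', rfl, -⟩ := exists_decomp hD N hNle hNc (hDmem x y) hne d hd
    exact mul_mem (hNcen hn') (Subgroup.zpow_mem _ hcen j)
  -- `C` is abelian
  obtain ⟨g, hg⟩ : ∃ g, g ∉ C := by
    by_contra! h
    rw [(Subgroup.eq_top_iff' C).mpr h, Subgroup.index_top] at hCidx
    exact hp.out.one_lt.ne hCidx
  let ψ : C →* P ⧸ N :=
    { toFun := fun c => QuotientGroup.mk' N ⁅(c : P), g⁆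
      map_one' := by simp
      map_mul' := fun a b => by
        rw [← map_mul]
        congr 1
        have hbg : ⁅(b : P), g⁆ ∈ commutator P := hDmem _ _
        have e : ⁅((a * b : C) : P), g⁆ = (a : P) * ⁅(b : P), g⁆ * (a : P)⁻¹ * ⁅(a : P), g⁆ := by
          simp only [Subgroup.coe_mul, commutatorElement_def]; group
        rw [e, (hCD _ a.2 _ hbg).eq, mul_inv_cancel_right, (hDab _ hbg _ (hDmem _ _)).eq] }
  have hψker : ∀ c : C, ψ c = 1 → (c : P) ∈ commutator P := by
    intro c hc1
    refine hZ2 ?_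
    let S := (Subgroup.centralizer {QuotientGroup.mk' N (c : P)}).comap (QuotientGroup.mk' N)
    have hmemS : ∀ h : P, ⁅(c : P), h⁆ ∈ N → h ∈ S := fun h hh => by
      rw [Subgroup.mem_comap, Subgroup.mem_centralizer_singleton_iff]
      refine commutatorElement_eq_one_iff_mul_comm.mp ?_ |>.symm
      rw [← map_commutatorElement, QuotientGroup.mk'_apply, QuotientGroup.eq_one_iff]
      exact hh
    have hS : S = ⊤ := (PGroup.isCoatom_of_index_prime (hCidx.symm ▸ hp.out)).2 S
      (lt_of_le_of_ne (fun h hh => hmemS h (hCN _ c.2 h hh))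
        (fun he => hg (he ▸ hmemS g ((QuotientGroup.eq_one_iff _).mp hc1))))
    refine mem_Z2.mpr fun h => ?_
    have : h ∈ S := hS ▸ Subgroup.mem_top h
    rw [Subgroup.mem_comap, Subgroup.mem_centralizer_singleton_iff] at this
    rw [← QuotientGroup.eq_one_iff, ← QuotientGroup.mk'_apply, map_commutatorElement,
      commutatorElement_eq_one_iff_mul_comm]
    exact this.symm
  have hab : ∀ a ∈ C, ∀ b ∈ C, a * b = b * a := by
    intro a ha b hb
    by_cases ha1 : ψ ⟨a, ha⟩ = 1
    · exact ((hCD b hb a (hψker _ ha1)).eq).symm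
    · have hmem : ∀ c : C, ψ c ∈ commutator (P ⧸ N) := fun c => by
        rw [← map_commutator_mk]; exact ⟨_, hDmem _ _, rfl⟩
      obtain ⟨i, hi⟩ := Subgroup.mem_zpowers_iff.mp
        (mem_zpowers_of_prime_card hq (g := (⟨_, hmem ⟨a, ha⟩⟩ : commutator (P ⧸ N)))
          (g' := ⟨_, hmem ⟨b, hb⟩⟩) (fun e => ha1 (congrArg Subtype.val e)))
      have hi' : ψ ⟨a, ha⟩ ^ i = ψ ⟨b, hb⟩ := by simpa using congrArg Subtype.val hi
      have hd := hψker ((⟨a, ha⟩ : C) ^ (-i) * ⟨b, hb⟩) (by
        rw [map_mul, map_zpow, zpow_neg, hi', inv_mul_cancel])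
      have hcomm : Commute a (a ^ (-i) * b) := hCD a ha _ (by simpa using hd)
      have e : b = a ^ i * (a ^ (-i) * b) := by group
      rw [e]
      exact ((Commute.refl a).zpow_right i).mul_right hcomm
  -- degrees
  have hdeg : ∀ χ : Cfsg.IrrCharacter P, Cfsg.charDegree (χ : P → ℂ) ≠ 1 →
      Cfsg.charDegree (χ : P → ℂ) = p := by
    intro χ hχ
    haveI := Fintype.ofFinite P
    obtain ⟨d, hd1, hd2⟩ := Blocks88.charDegree_dvd_index χ C hab
    rw [charDegree_eq hd1] at hχ ⊢
    rw [hCidx] at hd2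
    exact ((Nat.dvd_prime hp.out).mp hd2).resolve_left hχ
  have hNne : N ≠ ⊥ := fun h => by
    rw [h, Subgroup.card_bot] at hNc; exact hp.out.one_lt.ne hNc
  obtain ⟨n, hn, hn1⟩ := (Subgroup.bot_or_exists_ne_one N).resolve_left hNne
  obtain ⟨χ₂, h₂, hn₂⟩ := exists_nonlinear_notMem
    (fun h => by rw [h, Subgroup.card_bot] at hD; nlinarith [hp.out.two_le]) hn1
  apply hn₂
  rw [← kerChar_eq_of_galois hyp hχ₁ ((hdeg χ₁ hχ₁).trans (hdeg χ₂ h₂).symm)]
  exact hker₁ hn

end Square

theorem false_of_sq (hP : IsPGroup p P) (hyp : EqualDegreeGalois P)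
    (hD : Nat.card (commutator P) = p * p) : False := by
  obtain ⟨N, hNle, hN, hNc⟩ := PGroup.exists_normal_le_card hP (commutator P) (n := 2) 1
    (by rw [hD, sq]) (by norm_num)
  rw [pow_one] at hNc
  by_cases hc : commutator P ≤ Subgroup.center P
  swap; · exact false_of_not_central hP hyp hD N hNle hNc hc
  have hexp := pow_eq_one_of_central hP hyp hD N hNle hNc hc
  obtain ⟨u, hu, huN⟩ : ∃ u ∈ commutator P, u ∉ N := by
    by_contra! h
    have := Subgroup.card_le_of_le (show commutator P ≤ N from h)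
    rw [hD, hNc] at this
    nlinarith [hp.out.two_le]
  have hu1 : u ≠ 1 := fun h => huN (h ▸ one_mem N)
  set N' := Subgroup.zpowers u with hN'
  haveI : N'.Normal := ⟨fun a ha g => by
    rw [Subgroup.mem_center_iff.mp (hc (Subgroup.zpowers_le.mpr hu ha)) g, mul_inv_cancel_right]
    exact ha⟩
  have hN'le : N' ≤ commutator P := Subgroup.zpowers_le.mpr hu
  have hN'c : Nat.card N' = p := by rw [Nat.card_zpowers, orderOf_eq_prime (hexp u hu) hu1]
  obtain ⟨-, χ, hχ, hker, hs⟩ := section_data hP hyp N (card_quot hP hD N hNle hNc)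
  obtain ⟨-, χ', hχ', hker', hs'⟩ := section_data hP hyp N' (card_quot hP hD N' hN'le hN'c)
  obtain ⟨m, hm⟩ := IsPGroup.iff_card.mp hP
  obtain ⟨a, -, ha⟩ := (Nat.dvd_prime_pow hp.out).mp (hm ▸ BC87.charDegree_dvd_card χ)
  obtain ⟨a', -, ha'⟩ := (Nat.dvd_prime_pow hp.out).mp (hm ▸ BC87.charDegree_dvd_card χ')
  have hz : 0 < Nat.card (Subgroup.center P) := Nat.card_pos
  have hexpo : ∀ {K : Subgroup P} [K.Normal], K ≤ commutator P → Nat.card K = p →
      ∃ e ≤ 1, Nat.card (Z2 K) = p ^ e * Nat.card (Subgroup.center P) := by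
    intro K _ hle hKc
    rcases card_Z2_eq hP hyp hD K hle hKc hc hexp with h | h
    · exact ⟨0, zero_le_one, by rw [h, pow_zero, one_mul]⟩
    · exact ⟨1, le_rfl, by rw [h, pow_one]⟩
  obtain ⟨e, he, hZe⟩ := hexpo hNle hNc
  obtain ⟨e', he', hZe'⟩ := hexpo hN'le hN'c
  have hh : p ^ (2 * a + e) = p ^ (2 * a' + e') := by
    have h := hs.trans hs'.symm
    rw [hZe, hZe', ha, ha', ← mul_assoc, ← mul_assoc] at h
    have h' := Nat.eq_of_mul_eq_mul_right hz h
    rw [← pow_mul, ← pow_mul, ← pow_add, ← pow_add] at h'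
    rw [mul_comm 2 a, mul_comm 2 a']
    exact h'
  have hee := Nat.pow_right_injective hp.out.two_le hh
  have hk := kerChar_eq_of_galois hyp hχ (ha.trans ((congrArg (p ^ ·)
    (show a = a' by omega)).trans ha'.symm))
  refine not_commutator_le_kerChar hχ fun d hd => ?_
  obtain ⟨i, n, hn, rfl, -⟩ := exists_decomp hD N hNle hNc hu huN d hd
  exact mul_mem (hker hn) (Subgroup.zpow_mem _ (hk ▸ hker' (Subgroup.mem_zpowers u)) i)

/-- Let p be a prime and P a finite non-commutative p-group. Then every two irreducible characters of P of the same degree greater than 1 are Galois conjugate (one is obtained from the other by composing with g ↦ g^k for some k prime to the order of P) if and only if the centre of P is cyclic and the derived subgroup of P has order p. -/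
theorem result {P : Type*} [Group P] [Finite P] (p : ℕ) [Fact p.Prime] (hP : IsPGroup p P) (hna : ¬ IsMulCommutative P) :
    (∀ χ ψ : Cfsg.IrrCharacter P, Cfsg.charDegree (χ : P → ℂ) ≠ 1 → Cfsg.charDegree (χ : P → ℂ) = Cfsg.charDegree (ψ : P → ℂ) → ∃ k : ℕ, Nat.Coprime k (Nat.card P) ∧ ∀ g : P, (ψ : P → ℂ) g = (χ : P → ℂ) (g ^ k)) ↔
      (IsCyclic (Subgroup.center P) ∧ Nat.card (commutator P) = p) := by
  have hna' : commutator P ≠ ⊥ := fun h => hna ⟨⟨fun a b =>
    commutatorElement_eq_one_iff_mul_comm.mp (Subgroup.mem_bot.mp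
      (h ▸ Subgroup.commutator_mem_commutator (Subgroup.mem_top a) (Subgroup.mem_top b)))⟩⟩
  constructor
  · intro hyp
    obtain ⟨n, hn⟩ := PGroup.exists_card_eq_pow hP (commutator P)
    have hn1 : n = 1 := by
      by_contra hne
      have hn0 : n ≠ 0 := fun h => hna' (Subgroup.eq_bot_of_card_eq _ (by rw [hn, h, pow_zero]))
      obtain ⟨N, hNle, hN, hNc⟩ := PGroup.exists_normal_le_card hP (commutator P) (n := n) (n - 2)
        hn (by omega)
      have h := card_commutator_quotient N hNle
      rw [hn, hNc, show p ^ n = p * p * p ^ (n - 2) by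
        rw [← sq, ← pow_add]; congr 1; omega] at h
      exact false_of_sq (hP.to_quotient N) (equalDegreeGalois_quotient hyp N)
        (Nat.eq_of_mul_eq_mul_right (Nat.pow_pos (Fact.out : p.Prime).pos) h)
    rw [hn1, pow_one] at hn
    exact ⟨isCyclic_center hP hn hyp, hn⟩
  · rintro ⟨hZ, hD⟩
    exact galois_of_cyclic_center hP hD hZ

end Cfsg.Agent.S4845
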