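import Cfsg.Statements.S4850
import Cfsg.Agent.BC86.VanMain
import Cfsg.Agent.Lib.Subnormal.Zipper

set_option autoImplicit false
open Cfsg

namespace Cfsg.Agent.S4850

/-- Let p be a prime and G a finite solvable group whose vanishing elements (elements at which some irreducible character is zero) of order divisible by p all have the same order, with at least one such element. Let P be a Sylow p-subgroup of G. Then the derived subgroup of P is subnormal in G and the image of P in G/O_p(G) is cyclic. -/
theorem result {G : Type*} [Group G] [Finite G] [hs : Group.IsSolvable G] (p : ℕ) [Fact p.Prime] (b : ℕ) (hvo : {n : ℕ | p ∣ n ∧ ∃ (g : G) (χ : Cfsg.IrrCharacter G), orderOf g = n ∧ (χ : G → ℂ) g = 0} = {b}) (P : Sylow p G) :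
    ((commutator ↥(P : Subgroup G)).map (P : Subgroup G).subtype).IsSubnormal ∧ IsCyclic ↥((P : Subgroup G).map (QuotientGroup.mk' (Cfsg.pCore p G))) := by
  classical
  have hp : p.Prime := Fact.out
  set R := Cfsg.pCore p G
  haveI : R.Normal := Fitting.pCore_normal p
  let π := QuotientGroup.mk' R
  have hπ : Function.Surjective π := QuotientGroup.mk'_surjective R
  have hb : ∀ x : G, BC86.Vanishing.Van x → p ∣ orderOf x → orderOf x = b := by
    rintro x ⟨χ, hχ⟩ hpx
    have h : orderOf x ∈ {n : ℕ | p ∣ n ∧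
        ∃ (g : G) (χ : Cfsg.IrrCharacter G), orderOf g = n ∧ (χ : G → ℂ) g = 0} :=
      ⟨hpx, x, χ, rfl, hχ⟩
    rw [hvo] at h
    exact h
  have hH : BC86.Vanishing.Hyp p G := by
    refine ⟨fun x y hx hy hpx hpy => by rw [hb x hx hpx, hb y hy hpy], fun x k hk hx hxp => ?_⟩
    by_contra hne
    have hk2 : 2 ≤ k := by
      by_contra h
      apply hne
      rw [← orderOf_dvd_iff_pow_eq_one, hk]
      exact (pow_dvd_pow p (by omega : k ≤ 1)).trans (by rw [pow_one])
    obtain ⟨j, rfl⟩ : ∃ j, k = j + 2 := ⟨k - 2, by omega⟩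
    have h2 : orderOf (x ^ p) = p ^ (j + 1) := by
      rw [orderOf_pow' _ hp.ne_zero, hk, Nat.gcd_eq_right (dvd_pow_self p (by omega))]
      rw [pow_succ, Nat.mul_div_cancel _ hp.pos]
    have e1 := hb x hx (hk ▸ dvd_pow_self p (by omega))
    have e2 := hb (x ^ p) hxp (h2 ▸ dvd_pow_self p (by omega))
    rw [← e1, h2, hk] at e2
    have := Nat.pow_right_injective hp.two_le e2
    omega
  let PX : Sylow p (G ⧸ R) := P.mapSurjective hπ
  have hcyc : IsCyclic ↥((P : Subgroup G).map π) :=
    BC86.Vanishing.isCyclic_sylow hp _ (G ⧸ R) rfl inferInstance (hH.map π hπ hp)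
      Thompson.pCore_quotient_pCore PX
  refine ⟨?_, hcyc⟩
  have hle : (commutator ↥(P : Subgroup G)).map (P : Subgroup G).subtype ≤ R := by
    haveI := hcyc
    let f := π.subgroupMap (P : Subgroup G)
    have h1 : (commutator ↥(P : Subgroup G)) ≤ f.ker := by
      rw [commutator_def, Subgroup.commutator_le]
      intro a _ c _
      rw [MonoidHom.mem_ker, map_commutatorElement, commutatorElement_eq_one_iff_mul_comm]
      exact IsCyclic.commutative.is_comm.comm _ _
    rintro _ ⟨x, hx, rfl⟩
    exact (QuotientGroup.eq_one_iff (N := R) (x : G)).mp (congrArg Subtype.val (h1 hx))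
  have hnil : Group.IsNilpotent R := (Fitting.pCore_isPGroup p).isNilpotent
  exact Subgroup.IsSubnormal.trans hle (Subnormal.isSubnormal_of_isNilpotent _) ‹R.Normal›.isSubnormal

end Cfsg.Agent.S4850
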