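import Cfsg.Statements.S4859
import Cfsg.Agent.BC87.FrobeniusSchur

set_option autoImplicit false
open Cfsg

namespace Cfsg.Agent.S4859

/-- Let p be an odd prime, G a finite group and x an element of G whose order is a power of p (possibly 1) and whose centralizer has even order. Let y be a 2-element of the centralizer of x whose order is largest among the 2-elements of that centralizer. Then x * y is not a square in G, and some non-principal real-valued irreducible character of G does not vanish at x * y. -/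
theorem result {G : Type*} [Group G] [Finite G] (p : ℕ) [Fact p.Prime] (hp : p ≠ 2) (x : G) (hx : ∃ k : ℕ, orderOf x = p ^ k) (heven : Even (Nat.card (Subgroup.centralizer ({x} : Set G)))) (y : G) (hy : y ∈ Subgroup.centralizer ({x} : Set G)) (hy2 : ∃ k : ℕ, orderOf y = 2 ^ k) (hmax : ∀ z ∈ Subgroup.centralizer ({x} : Set G), (∃ k : ℕ, orderOf z = 2 ^ k) → orderOf z ≤ orderOf y) : (¬ ∃ u : G, u * u = x * y) ∧ ∃ χ : Cfsg.IrrCharacter G, ¬ ((χ : G → ℂ) = fun _ => (1 : ℂ)) ∧ (∀ g : G, ((χ : G → ℂ) g).im = 0) ∧ (χ : G → ℂ) (x * y) ≠ 0 := by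
  classical
  have hno : ¬ ∃ u : G, u * u = x * y := by
    rintro ⟨u, hu⟩
    obtain ⟨k, hk⟩ := hx
    obtain ⟨l, hl⟩ := hy2
    have hc : Commute x y := Subgroup.mem_centralizer_iff.mp hy x rfl
    have hcop : (p ^ k).Coprime (2 ^ l) := Nat.Coprime.pow k l ((Nat.coprime_primes Fact.out Nat.prime_two).mpr hp)
    -- `y` is a power of `x * y`, hence of `u`
    obtain ⟨c, hcn⟩ : ∃ c, y ^ ((p ^ k) * c) = y := by
      rcases Nat.lt_or_ge 1 (2 ^ l) with h1 | h1
      · obtain ⟨c, -, hc'⟩ := Nat.exists_mul_mod_eq_one_of_coprime hcop h1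
        exact ⟨c, by rw [← pow_mod_orderOf, hl, hc', pow_one]⟩
      · refine ⟨0, ?_⟩
        have : orderOf y = 1 := by rw [hl]; have : 0 < (2 ^ l) := by positivity
                                   omega
        simp [orderOf_eq_one_iff.mp this]
    have hxn : x ^ (p ^ k) = 1 := by rw [← hk]; exact pow_orderOf_eq_one x
    set z := u ^ ((p ^ k) * c)
    have hz : z * z = y := by
      show u ^ ((p ^ k) * c) * u ^ ((p ^ k) * c) = y
      rw [← (Commute.refl u).mul_pow, hu, hc.mul_pow, pow_mul, hxn, one_pow, one_mul, hcn]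
    have hzx : z ∈ Subgroup.centralizer ({x} : Set G) := by
      rw [Subgroup.mem_centralizer_iff]
      intro x' hx'
      rw [Set.mem_singleton_iff] at hx'
      subst x'
      obtain ⟨d, hd⟩ : ∃ d, x ^ ((2 ^ l) * d) = x := by
        rcases Nat.lt_or_ge 1 (p ^ k) with h1 | h1
        · obtain ⟨d, -, hd'⟩ := Nat.exists_mul_mod_eq_one_of_coprime hcop.symm h1
          exact ⟨d, by rw [← pow_mod_orderOf, hk, hd', pow_one]⟩
        · refine ⟨0, ?_⟩
          have : orderOf x = 1 := by rw [hk]; have : 0 < (p ^ k) := pow_pos (Fact.out : p.Prime).pos k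
                                     omega
          simp [orderOf_eq_one_iff.mp this]
      have hxu : Commute x u := by
        have h1 : (x * y) ^ ((2 ^ l) * d) = x := by
          rw [hc.mul_pow, hd, pow_mul, show y ^ (2 ^ l) = 1 by rw [show (2 ^ l) = orderOf y from hl.symm,
            pow_orderOf_eq_one], one_pow, mul_one]
        have h2 : Commute ((x * y) ^ ((2 ^ l) * d)) u := by
          rw [← hu]
          exact (((Commute.refl u).mul_left (Commute.refl u)).pow_left _)
        rwa [h1] at h2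
      exact (hxu.pow_right _).eq
    have hzo : orderOf z ∣ 2 ^ (l + 1) := by
      rw [pow_succ', orderOf_dvd_iff_pow_eq_one, pow_mul, sq, hz, ← hl, pow_orderOf_eq_one]
    obtain ⟨j, hj, hzj⟩ := (Nat.dvd_prime_pow Nat.prime_two).mp hzo
    have hle := hmax z hzx ⟨j, hzj⟩
    rcases Nat.eq_zero_or_pos l with h0 | h0
    · -- the centralizer has an involution
      obtain ⟨t, ht⟩ := exists_prime_orderOf_dvd_card' (G := Subgroup.centralizer ({x} : Set G)) 2
        (even_iff_two_dvd.mp heven)
      have h2 := hmax t t.2 ⟨1, by rw [Subgroup.orderOf_coe, ht, pow_one]⟩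
      rw [Subgroup.orderOf_coe, ht, hl, h0] at h2
      simp at h2
    · have hy1 : y ^ 2 ^ (l - 1) ≠ 1 := fun h => by
        have := Nat.le_of_dvd (by positivity) (orderOf_dvd_of_pow_eq_one h)
        rw [hl, Nat.pow_le_pow_iff_right (le_refl 2)] at this
        omega
      have hz1 : z ^ 2 ^ l ≠ 1 := fun h => hy1 (by
        rw [← hz, ← sq, ← pow_mul, ← pow_succ', Nat.sub_add_cancel h0, h])
      rw [hzj, hl, Nat.pow_le_pow_iff_right (le_refl 2)] at hle
      exact hz1 (orderOf_dvd_iff_pow_eq_one.mp (hzj ▸ pow_dvd_pow 2 hle))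
  refine ⟨hno, ?_⟩
  by_contra hcon
  push Not at hcon
  have h := BC87.card_sqrt (x * y)
  have h0 : Nat.card {s : G // s * s = x * y} = 0 :=
    Nat.card_eq_zero.mpr (Or.inl ⟨fun s => hno ⟨s.1, s.2⟩⟩)
  rw [h0, Nat.cast_zero, Finset.sum_eq_single (BC87.triv G)] at h
  · have := Fintype.ofFinite G
    simp [BC87.nu_eq] at h
  · intro χ _ hne
    by_cases hν : BC87.nu (χ : G → ℂ) = 0
    · rw [hν, zero_mul]
    · rw [hcon χ (fun e => hne (Subtype.ext e)) (BC87.nu_real hν), mul_zero]
  · simp

end Cfsg.Agent.S4859
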