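import Cfsg.Statements.S4860
import Cfsg.Agent.BC87.FrobeniusSchur
import Cfsg.Agent.BC86.Principal
import Cfsg.Agent.Lib.CharClifford.Galois

set_option autoImplicit false
open Cfsg

namespace Cfsg.Agent.S4860

open Cfsg.Agent

universe u

variable {G : Type u} [Group G] [Finite G]

omit [Finite G] in
theorem dvd_orderOf_sq {p : ℕ} (hpp : p.Prime) (hp : p ≠ 2) (h : G) :
    p ∣ orderOf (h * h) ↔ p ∣ orderOf h := by
  constructor
  · intro hd
    refine hd.trans (orderOf_dvd_of_pow_eq_one ?_)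
    rw [(Commute.refl h).mul_pow, pow_orderOf_eq_one, one_mul]
  · intro hd
    have h2 : orderOf h ∣ 2 * orderOf (h * h) := by
      refine orderOf_dvd_of_pow_eq_one ?_
      rw [pow_mul, pow_two, pow_orderOf_eq_one]
    rcases hpp.dvd_mul.mp (hd.trans h2) with h3 | h3
    · exact absurd ((Nat.prime_dvd_prime_iff_eq hpp Nat.prime_two).mp h3) hp
    · exact h3

open scoped Classical in
/-- The sum of the indicators times the sums on `p`-regular elements. -/
theorem sum_nu_mul_regSum [Fintype G] [Fintype (Cfsg.IrrCharacter G)] {p : ℕ} (hpp : p.Prime)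
    (hp : p ≠ 2) :
    ∑ χ : Cfsg.IrrCharacter G, BC87.nu (χ : G → ℂ) *
        ∑ g : G, (if p ∣ orderOf g then 0 else (χ : G → ℂ) g) =
      ∑ g : G, (if p ∣ orderOf g then 0 else (1 : ℂ)) := by
  calc ∑ χ : Cfsg.IrrCharacter G, BC87.nu (χ : G → ℂ) *
        ∑ g : G, (if p ∣ orderOf g then 0 else (χ : G → ℂ) g)
      = ∑ g : G, (if p ∣ orderOf g then 0 else (Nat.card {s : G // s * s = g} : ℂ)) := by
        simp only [Finset.mul_sum]
        rw [Finset.sum_comm]
        refine Finset.sum_congr rfl fun g _ => ?_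
        split_ifs with hg
        · simp
        · convert (BC87.card_sqrt g).symm
    _ = ∑ g : G, ∑ s : G, (if s * s = g then (if p ∣ orderOf g then 0 else (1 : ℂ)) else 0) := by
        refine Finset.sum_congr rfl fun g _ => ?_
        rw [← Finset.sum_filter, Finset.sum_const, nsmul_eq_mul, Nat.card_eq_fintype_card,
          Fintype.card_subtype]
        split_ifs <;> simp
    _ = _ := by
        rw [Finset.sum_comm]
        refine Finset.sum_congr rfl fun s _ => ?_
        rw [Finset.sum_ite_eq Finset.univ (s * s), if_pos (Finset.mem_univ _)]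
        exact if_congr (dvd_orderOf_sq hpp hp s) rfl rfl

/-- Let G be a finite group, p an odd prime and M a maximal ideal of the algebraic integers containing p. If the principal p-block of G contains a non-principal real-valued irreducible character α, then it contains a non-principal real-valued irreducible character β different from α, and β may be chosen so that no field automorphism of ℂ carries α to β. -/
theorem result {G : Type*} [Group G] [Finite G] (p : ℕ) [Fact p.Prime] (hp : p ≠ 2) (M : Ideal Cfsg.AlgInt) (hM : Cfsg.IsPModular p M) (α : Cfsg.IrrCharacter G) (hα : α ∈ Cfsg.principalBlock M G) (hα1 : ¬ ((α : G → ℂ) = fun _ => (1 : ℂ))) (hαr : (∀ g : G, ((α : G → ℂ) g).im = 0)) : ∃ β : Cfsg.IrrCharacter G, β ∈ Cfsg.principalBlock M G ∧ ¬ ((β : G → ℂ) = fun _ => (1 : ℂ)) ∧ (∀ g : G, ((β : G → ℂ) g).im = 0) ∧ β ≠ α ∧ ∀ σ : ℂ ≃+* ℂ, (β : G → ℂ) ≠ (σ : ℂ → ℂ) ∘ (α : G → ℂ) := by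
  classical
  have := Fintype.ofFinite G
  have := Fintype.ofFinite (Cfsg.IrrCharacter G)
  have hpp : p.Prime := Fact.out
  let R : (G → ℂ) → ℂ := fun f => ∑ g : G, (if p ∣ orderOf g then 0 else f g)
  let one : Cfsg.IrrCharacter G := BC87.triv G
  have hone : BC87.nu (one : G → ℂ) = 1 := by
    rw [BC87.nu_eq]
    simp [one, Nat.card_eq_fintype_card]
  have hreal : ∀ χ : Cfsg.IrrCharacter G, BC87.nu (χ : G → ℂ) * R χ ≠ 0 →
      χ ∈ Cfsg.principalBlock M G ∧ ∀ g, ((χ : G → ℂ) g).im = 0 := fun χ h =>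
    ⟨(BC86.mem_principalBlock_iff hM χ).mpr (right_ne_zero_of_mul h),
      BC87.nu_real (left_ne_zero_of_mul h)⟩
  -- the indicator and the sum on regular elements are invariant under automorphisms
  have hinv : ∀ (χ : Cfsg.IrrCharacter G) (σ : ℂ ≃+* ℂ),
      (χ : G → ℂ) = (σ : ℂ → ℂ) ∘ (α : G → ℂ) →
      BC87.nu (χ : G → ℂ) * R χ = BC87.nu (α : G → ℂ) * R α := by
    intro χ σ hχ
    obtain ⟨m, hm, hσ⟩ := CharClifford.exists_coprime_map_isCharacter
      (CharCore.irr_isCharacter α) σ.toRingHom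
    let e : G ≃ G := Equiv.ofBijective _ (CharClifford.bijective_pow_of_coprime hm)
    have he : ∀ g, (χ : G → ℂ) g = (α : G → ℂ) (e g) := fun g => by
      rw [hχ]; exact hσ g
    congr 1
    · rw [BC87.nu_eq, BC87.nu_eq]
      congr 1
      refine Fintype.sum_equiv e _ _ fun g => ?_
      rw [he, ← pow_two]
      show (α : G → ℂ) ((g ^ 2) ^ m) = (α : G → ℂ) (g ^ m * g ^ m)
      rw [← pow_two, ← pow_mul, ← pow_mul, mul_comm]
    · refine Fintype.sum_equiv e _ _ fun g => ?_
      have ho : orderOf (e g) = orderOf g :=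
        (Nat.Coprime.orderOf_pow ((hm.coprime_dvd_right (orderOf_dvd_natCard g)).symm))
      rw [he, ho]
  by_contra hno
  push Not at hno
  have hsum := sum_nu_mul_regSum (G := G) hpp hp
  have hR1 : R (one : G → ℂ) = ∑ g : G, (if p ∣ orderOf g then 0 else (1 : ℂ)) := by
    simp [R, one]
  rw [← Finset.add_sum_erase _ _ (Finset.mem_univ one), hone, one_mul] at hsum
  change R (one : G → ℂ) + _ = _ at hsum
  rw [hR1] at hsum
  have h0 := add_eq_left.mp hsum
  set T := ((Finset.univ : Finset (Cfsg.IrrCharacter G)).erase one).filter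
    fun χ => BC87.nu ((χ : Cfsg.IrrCharacter G) : G → ℂ) * R χ ≠ 0 with hT
  set z := BC87.nu (α : G → ℂ) * R α with hz
  have hzne : z ≠ 0 := by
    refine mul_ne_zero ?_ ((BC86.mem_principalBlock_iff hM α).mp hα)
    rcases BC87.nu_eq_one_or hαr with h | h <;> rw [h] <;> norm_num
  have hmem : α ∈ T := by
    rw [hT, Finset.mem_filter, Finset.mem_erase]
    exact ⟨⟨fun h => hα1 (by rw [h]; rfl), Finset.mem_univ _⟩, hzne⟩
  have hall : ∀ χ ∈ T, BC87.nu (χ : G → ℂ) * R χ = z := by
    intro χ hχ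
    rw [hT, Finset.mem_filter, Finset.mem_erase] at hχ
    obtain ⟨⟨hne, -⟩, hnz⟩ := hχ
    obtain ⟨hB, hr⟩ := hreal χ hnz
    by_cases hαe : χ = α
    · rw [hαe]
    obtain ⟨σ, hσ⟩ := hno χ hB (fun h => hne (Subtype.ext (h.trans (by rfl)))) hr hαe
    exact hinv χ σ hσ
  have hfilter : ∑ χ ∈ T, BC87.nu ((χ : Cfsg.IrrCharacter G) : G → ℂ) * R χ = 0 := by
    rw [hT, Finset.sum_filter_ne_zero]
    exact h0
  rw [Finset.sum_congr rfl hall, Finset.sum_const, nsmul_eq_mul] at hfilter
  exact mul_ne_zero (Nat.cast_ne_zero.mpr (Finset.card_pos.mpr ⟨α, hmem⟩).ne') hzne hfilter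

end Cfsg.Agent.S4860
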