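import Cfsg.Statements.S4862
import Cfsg.Agent.BC87.RealOver
import Cfsg.Agent.BC87.RealDegree
import Cfsg.Agent.BC84.DegreeKernel

set_option autoImplicit false
open Cfsg
open scoped commutatorElement

namespace Cfsg.Agent.S4862

universe u

open BC87.RealDeg in
/-- A minimal normal subgroup inside the derived group of a `p`-subgroup is centralised by the
`2`-elements. -/
theorem centralizes_of_minimal {G : Type u} [Group G] [Finite G] {p : ℕ} [Fact p.Prime] (hp : p ≠ 2)
    (hreal : HReal p G) (P : Subgroup G) (hP : IsPGroup p P) (N : Subgroup G) [N.Normal]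
    (hNP : N ≤ ⁅P, P⁆) (hmin : ∀ K : Subgroup G, K.Normal → K ≤ N → K = ⊥ ∨ K = N)
    (y : G) (k : ℕ) (hy : y ^ 2 ^ k = 1) : ∀ n ∈ N, y * n = n * y := by
  classical
  haveI := Fintype.ofFinite G
  haveI := Fintype.ofFinite N
  have hle : ⁅P, P⁆ ≤ P := Subgroup.commutator_le.mpr fun a ha b hb => by
    rw [commutatorElement_def]
    exact P.mul_mem (P.mul_mem (P.mul_mem ha hb) (P.inv_mem ha)) (P.inv_mem hb)
  by_contra hcent
  have hN1 : N ≠ ⊥ := fun h => hcent fun n hn => by
    rw [h, Subgroup.mem_bot] at hn; rw [hn, mul_one, one_mul]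
  have hNp : IsPGroup p N := hP.to_le (hNP.trans hle)
  haveI : Group.IsSolvable N := by
    haveI := hNp.isNilpotent
    infer_instance
  haveI hNc : IsMulCommutative N := Solvable.isMulCommutative_of_minimal_normal N hN1 hmin
  letI : CommGroup N := { (inferInstance : Group N) with mul_comm := hNc.is_comm.comm }
  haveI : HasEnoughRootsOfUnity ℂ (Monoid.exponent N) := inferInstance
  have hodd : ¬ 2 ∣ Nat.card N := by
    obtain ⟨c, hc⟩ := hNp.exists_card_eq
    rw [hc]
    exact fun h => hp ((Nat.prime_dvd_prime_iff_eq Nat.prime_two Fact.out).mp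
      (Nat.prime_two.dvd_of_dvd_pow h)).symm
  -- a power of `y` acting as an involution
  let a : MulAut N := MulAut.conjNormal y
  have ha : a ≠ 1 := fun h => hcent fun n hn => by
    have h1 := congrArg Subtype.val (MulEquiv.ext_iff.mp h ⟨n, hn⟩)
    rw [MulAut.conjNormal_apply] at h1
    calc y * n = y * n * y⁻¹ * y := by group
      _ = n * y := by rw [h1]; rfl
  have hak : a ^ 2 ^ k = 1 := by rw [← map_pow, hy, map_one]
  obtain ⟨c, -, hc⟩ := (Nat.dvd_prime_pow Nat.prime_two).mp (orderOf_dvd_of_pow_eq_one hak)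
  obtain ⟨i, rfl⟩ : ∃ i, c = i + 1 := by
    refine ⟨c - 1, ?_⟩
    rcases Nat.eq_zero_or_pos c with rfl | h
    · rw [pow_zero, orderOf_eq_one_iff] at hc; exact absurd hc ha
    · omega
  set z := y ^ 2 ^ i with hz
  have hb : (MulAut.conjNormal z : MulAut N) = a ^ 2 ^ i := map_pow _ _ _
  obtain ⟨x, hx⟩ : ∃ x : N, (MulAut.conjNormal z : MulAut N) x ≠ x := by
    by_contra! h
    have h1 : a ^ 2 ^ i = 1 := hb ▸ MulEquiv.ext h
    have h2 := Nat.le_of_dvd (by positivity) (hc ▸ orderOf_dvd_of_pow_eq_one h1)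
    exact absurd ((Nat.pow_le_pow_iff_right (by norm_num)).mp h2) (by omega)
  obtain ⟨μ, hμ⟩ := CommGroup.exists_apply_ne_one_of_hasEnoughRootsOfUnity N ℂ
    (fun h => hx (div_eq_one.mp h))
  let l : N →* ℂˣ := μ.comp (MulAut.conjNormal z : MulAut N).toMonoidHom / μ
  have hl : l ≠ 1 := fun h => hμ (by
    rw [map_div]; exact DFunLike.congr_fun h x)
  have hzl : ∀ n : N, l ⟨z * n * z⁻¹, (inferInstance : N.Normal).conj_mem (n : G) n.2 z⟩ = (l n)⁻¹ := by
    intro n
    have e : (⟨z * n * z⁻¹, (inferInstance : N.Normal).conj_mem (n : G) n.2 z⟩ : N) =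
        (MulAut.conjNormal z : MulAut N) n := Subtype.ext (MulAut.conjNormal_apply z n).symm
    have h2 : (MulAut.conjNormal z : MulAut N) ((MulAut.conjNormal z : MulAut N) n) = n := by
      rw [← MulAut.mul_apply, hb, ← pow_add, ← two_mul, ← pow_succ', ← hc, pow_orderOf_eq_one,
        MulAut.one_apply]
    rw [e]
    show μ _ / μ _ = (μ _ / μ _)⁻¹
    rw [inv_div, MulEquiv.coe_toMonoidHom, h2]
  have hzp : z ^ 2 ^ k = 1 := by rw [hz, ← pow_mul, mul_comm, pow_mul, hy, one_pow]
  obtain ⟨χ, hχr, hχl⟩ := BC87.RealOver.exists_real_over N hodd l z k hzp hzl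
  obtain ⟨Q, hQ⟩ := hP.exists_le_sylow
  haveI := Fintype.ofFinite (Q : Subgroup G)
  obtain ⟨f, hf⟩ := BC84.exists_linear_constituent Q χ (hreal χ hχr)
  have hNQ : N ≤ Q := (hNP.trans hle).trans hQ
  have hfN : ∀ n : N, f ⟨(n : G), hNQ n.2⟩ = 1 := by
    intro n
    have hker : ⁅P, P⁆ ≤ f.ker.map (Q : Subgroup G).subtype := Subgroup.commutator_le.mpr
      fun u hu v hv => ⟨⁅(⟨u, hQ hu⟩ : (Q : Subgroup G)), ⟨v, hQ hv⟩⁆, by
        rw [SetLike.mem_coe, MonoidHom.mem_ker, map_commutatorElement,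
          commutatorElement_eq_one_iff_mul_comm]
        exact mul_comm _ _, rfl⟩
    obtain ⟨w, hw, hwn⟩ := hker (hNP n.2)
    rw [show (⟨(n : G), hNQ n.2⟩ : (Q : Subgroup G)) = w from Subtype.ext hwn.symm]
    exact hw
  -- hence `χ` has the trivial constituent on `N`
  obtain ⟨m, hm⟩ := CharCore.IsCharacter.exists_sum
    (CharCore.isCharacter_restrict (CharCore.irr_isCharacter χ) (Q : Subgroup G))
  let F : Cfsg.IrrCharacter (Q : Subgroup G) := ⟨_, CharCore.isIrrCharacter_hom f⟩
  let one : Cfsg.IrrCharacter N := ⟨1, CharCore.isIrrCharacter_one⟩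
  choose e he using fun ψ : Cfsg.IrrCharacter (Q : Subgroup G) =>
    CharCore.IsCharacter.exists_classInner_irr_eq_natCast
      (CharCore.isCharacter_comp (CharCore.irr_isCharacter ψ) (Subgroup.inclusion hNQ)) one
  have hmF : m F ≠ 0 := fun h => hf (by
    rw [show (fun x : (Q : Subgroup G) => (f x : ℂ)) = (F : _ → ℂ) from rfl, hm,
      CharCore.classInner_sum_all (fun ψ => (m ψ : ℂ)) F, h, Nat.cast_zero])
  have heF : e F ≠ 0 := fun h => by
    have h1 := he F
    have e1 : (fun g : N => (F : ↥(Q : Subgroup G) → ℂ) (Subgroup.inclusion hNQ g)) =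
        (one : N → ℂ) := funext fun g => by
      show (f ⟨(g : G), hNQ g.2⟩ : ℂ) = 1
      rw [hfN, Units.val_one]
    erw [e1] at h1
    rw [CharCore.classInner_irr_self, h, Nat.cast_zero] at h1
    exact one_ne_zero h1
  have hone : Cfsg.classInner (fun n : N => (χ : G → ℂ) n) (one : N → ℂ) ≠ 0 := by
    have h : (fun n : N => (χ : G → ℂ) n) = ∑ ψ : Cfsg.IrrCharacter (Q : Subgroup G),
        (m ψ : ℂ) • fun n : N => (ψ : ↥(Q : Subgroup G) → ℂ) (Subgroup.inclusion hNQ n) := by
      funext n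
      simpa [Finset.sum_apply, Subgroup.inclusion] using congrFun hm ⟨(n : G), hNQ n.2⟩
    rw [h, CharCore.classInner_sum_left]
    simp only [CharCore.classInner_smul_left, he]
    intro h0
    norm_cast at h0
    exact mul_ne_zero hmF heF (Finset.sum_eq_zero_iff.mp h0 F (Finset.mem_univ _))
  obtain ⟨g, hg⟩ := CharClifford.exists_conjFun_eq_of_constituents N χ.2 one.2
    (CharCore.isIrrCharacter_hom l) hone hχl
  exact hl (MonoidHom.ext fun n => Units.ext (congrFun hg n))

open BC87.RealDeg in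
/-- Normal subgroups inside the derived group of a `p`-subgroup commute with the `2`-elements. -/
theorem centralizes {p : ℕ} [Fact p.Prime] (hp : p ≠ 2) : ∀ (N : ℕ) (G : Type u) [Group G] [Finite G],
    Nat.card G = N → HReal p G → ∀ P : Subgroup G, IsPGroup p P → ∀ M : Subgroup G, M.Normal →
      M ≤ ⁅P, P⁆ → ∀ (y : G) (k : ℕ), y ^ 2 ^ k = 1 → ∀ m ∈ M, y * m = m * y := by
  intro c
  induction c using Nat.strong_induction_on with
  | _ c ih =>
  intro G _ _ hc hreal P hP M hM hMP y k hy m hm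
  by_cases hM1 : M = ⊥
  · rw [hM1, Subgroup.mem_bot] at hm; rw [hm, mul_one, one_mul]
  obtain ⟨N, hNn, hN1, hNM, hmin⟩ := Solvable.exists_minimal_normal_le M hM1
  have hlt : Nat.card (G ⧸ N) < c := by
    rw [← hc, ← Subgroup.index_eq_card, ← N.index_mul_card]
    exact lt_mul_of_one_lt_right (Nat.pos_of_ne_zero Subgroup.index_ne_zero_of_finite)
      (Subgroup.one_lt_card_iff_ne_bot _ |>.mpr hN1)
  have hq := ih _ hlt (G ⧸ N) rfl (hreal.quotient N) _ (hP.map (QuotientGroup.mk' N))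
    (M.map (QuotientGroup.mk' N)) (hM.map _ (QuotientGroup.mk'_surjective N))
    (by rw [← Subgroup.map_commutator]; exact Subgroup.map_mono hMP) (QuotientGroup.mk' N y) k
    (by rw [← map_pow, hy, map_one]) _ (Subgroup.mem_map_of_mem _ hm)
  rw [← map_mul, ← map_mul, eq_comm] at hq
  obtain ⟨n, hn, hnm⟩ : ∃ n ∈ N, y * m * y⁻¹ = m * n := by
    refine ⟨m⁻¹ * (y * m * y⁻¹), (QuotientGroup.eq_one_iff (N := N) _).mp ?_, by group⟩
    show QuotientGroup.mk' N (m⁻¹ * (y * m * y⁻¹)) = 1
    rw [map_mul, map_mul (QuotientGroup.mk' N) (y * m), ← hq, ← map_mul, ← map_mul]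
    simp
  have hyn := centralizes_of_minimal hp hreal P hP N (hNM.trans hMP) hmin y k hy n hn
  have hj : ∀ j : ℕ, y ^ j * m * (y ^ j)⁻¹ = m * n ^ j := by
    intro j
    induction j with
    | zero => simp
    | succ j ihj =>
      have hcomm : y * n ^ j * y⁻¹ = n ^ j := by
        rw [mul_inv_eq_iff_eq_mul]; exact (Commute.pow_right (hyn : Commute y n) j)
      calc y ^ (j + 1) * m * (y ^ (j + 1))⁻¹ = y * (y ^ j * m * (y ^ j)⁻¹) * y⁻¹ := by
            rw [pow_succ']; group
        _ = (y * m * y⁻¹) * (y * n ^ j * y⁻¹) := by rw [ihj]; group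
        _ = m * n ^ (j + 1) := by rw [hnm, hcomm, mul_assoc, ← pow_succ']
  have h1 := hj (2 ^ k)
  rw [hy, one_mul, inv_one, mul_one] at h1
  have h2 : n ^ 2 ^ k = 1 := left_eq_mul.mp h1
  have hNp : IsPGroup p N := hP.to_le (hNM.trans (hMP.trans (Subgroup.commutator_le.mpr
    fun a ha b hb => by
      rw [commutatorElement_def]
      exact P.mul_mem (P.mul_mem (P.mul_mem ha hb) (P.inv_mem ha)) (P.inv_mem hb))))
  obtain ⟨t, ht⟩ := IsPGroup.iff_orderOf.mp hNp ⟨n, hn⟩
  rw [Subgroup.orderOf_mk] at ht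
  have h3 : n = 1 := orderOf_eq_one_iff.mp <| Nat.eq_one_of_dvd_one <| by
    have hco : Nat.Coprime (p ^ t) (2 ^ k) :=
      ((Nat.coprime_primes Fact.out Nat.prime_two).mpr hp).pow _ _
    rw [← hco.gcd_eq_one]
    exact Nat.dvd_gcd ht.dvd (orderOf_dvd_of_pow_eq_one h2)
  rw [h3, mul_one, mul_inv_eq_iff_eq_mul] at hnm
  exact hnm

/-- Let p be an odd prime and G a finite group such that the subgroup generated by the p-elements of G is solvable and every real-valued irreducible complex character of G has degree prime to p. Let K be the subgroup generated by the 2-elements of G and P a Sylow p-subgroup of G. Then every normal subgroup M of G contained in K and in the derived subgroup of P is centralized by K. -/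
theorem result {G : Type*} [Group G] [Finite G] (p : ℕ) [Fact p.Prime] (hp : p ≠ 2) (hsolv : Group.IsSolvable ↥(Subgroup.closure {g : G | ∃ k : ℕ, orderOf g = p ^ k})) (hreal : ∀ χ : Cfsg.IrrCharacter G, (∀ g : G, ((χ : G → ℂ) g).im = 0) → ¬ p ∣ Cfsg.charDegree (χ : G → ℂ)) (P : Sylow p G) (M : Subgroup G) (hM : M.Normal) (hMK : M ≤ (Subgroup.closure {g : G | ∃ k : ℕ, orderOf g = 2 ^ k})) (hMP : M ≤ ⁅(P : Subgroup G), (P : Subgroup G)⁆) : (Subgroup.closure {g : G | ∃ k : ℕ, orderOf g = 2 ^ k}) ≤ Subgroup.centralizer (M : Set G) := by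
  refine (Subgroup.closure_le _).mpr fun y hy => ?_
  obtain ⟨k, hk⟩ := hy
  exact Subgroup.mem_centralizer_iff.mpr fun m hm => (centralizes hp _ G rfl hreal (P : Subgroup G)
    P.2 M hM hMP y k (hk ▸ pow_orderOf_eq_one y) m hm).symm

end Cfsg.Agent.S4862
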