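import Cfsg.Statements.S4864
import Cfsg.Agent.BC87.RealClasses

set_option autoImplicit false
open Cfsg

namespace Cfsg.Agent.S4864

/-- Let p be a prime and G a finite group such that the subgroup generated by the p-elements of G is solvable and every real-valued irreducible complex character of G has degree prime to p. Then the normalizer of a Sylow p-subgroup of G contains an element of every real conjugacy class of G: every element conjugate to its inverse is conjugate to an element of that normalizer. -/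
theorem result {G : Type*} [Group G] [Finite G] (p : ℕ) [Fact p.Prime] (hsolv : Group.IsSolvable ↥(Subgroup.closure {g : G | ∃ k : ℕ, orderOf g = p ^ k})) (hreal : ∀ χ : Cfsg.IrrCharacter G, (∀ g : G, ((χ : G → ℂ) g).im = 0) → ¬ p ∣ Cfsg.charDegree (χ : G → ℂ)) (P : Sylow p G) (x : G) (hx : IsConj x x⁻¹) : ∃ y ∈ Subgroup.normalizer ((P : Subgroup G) : Set G), IsConj x y := by
  haveI := Fact.mk Nat.prime_two
  obtain ⟨R, hR, hRK, hRp, hRi⟩ := BC87.RealDeg.core_of_hreal _ G rfl hsolv hreal _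
    (BC87.RealDeg.gen_normal 2) le_rfl ⟨0, by rw [Subgroup.relIndex_self, pow_zero]⟩
  haveI := hR
  set K := (BC87.RealDeg.gen 2 G).map (QuotientGroup.mk' R)
  haveI : K.Normal := (BC87.RealDeg.gen_normal 2).map _ (QuotientGroup.mk'_surjective R)
  have hodd : Odd K.index := by
    obtain ⟨S⟩ : Nonempty (Sylow 2 G) := inferInstance
    rw [Subgroup.index_map, QuotientGroup.ker_mk', sup_eq_left.mpr hRK,
      MonoidHom.range_eq_top.mpr (QuotientGroup.mk'_surjective R), Subgroup.index_top, mul_one,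
      Nat.odd_iff, ← Nat.two_dvd_ne_zero]
    exact fun h => S.not_dvd_index (h.trans
      (Subgroup.index_dvd_of_le fun z hz => BC87.RealDeg.mem_gen_of_isPGroup S.2 hz))
  have hpK : ¬ p ∣ Nat.card K := by rwa [← Thompson.relIndex_eq_card_map_mk']
  let P' : Sylow p (G ⧸ R) := P.mapSurjective (f := QuotientGroup.mk' R)
    (QuotientGroup.mk'_surjective R)
  have hxr : IsConj (x : G ⧸ R) (x : G ⧸ R)⁻¹ := by
    have h := (QuotientGroup.mk' R).map_isConj hx
    rwa [map_inv] at h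
  obtain ⟨y, hy, hxy⟩ := BC87.RealClasses.exists_conj_centralized K hodd hpK
    (BC87.RealDeg.HReal.quotient hreal R) P' (x : G ⧸ R) hxr
  obtain ⟨g, hg⟩ := isConj_iff.mp hxy
  obtain ⟨g, rfl⟩ := QuotientGroup.mk_surjective g
  refine ⟨g * x * g⁻¹, ?_, isConj_iff.mpr ⟨g, rfl⟩⟩
  have hRP : R ≤ (P : Subgroup G) := IsPGroup.le_sylow_of_normal hRp P
  have hkey : ∀ n : G, ((n : G) : G ⧸ R) ∈
      Subgroup.centralizer ((P' : Subgroup (G ⧸ R)) : Set (G ⧸ R)) →
      ∀ z ∈ (P : Subgroup G), n * z * n⁻¹ ∈ (P : Subgroup G) := by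
    intro n hn z hz
    have h := Subgroup.mem_centralizer_iff.mp hn (z : G ⧸ R) ⟨z, hz, rfl⟩
    have h1 : z⁻¹ * (n * z * n⁻¹) ∈ R := by
      refine (QuotientGroup.eq_one_iff (N := R) _).mp ?_
      rw [QuotientGroup.mk_mul, QuotientGroup.mk_mul, QuotientGroup.mk_mul, QuotientGroup.mk_inv,
        QuotientGroup.mk_inv, ← h, mul_inv_cancel_right, inv_mul_cancel]
    simpa using (P : Subgroup G).mul_mem hz (hRP h1)
  have hc : ((g * x * g⁻¹ : G) : G ⧸ R) ∈
      Subgroup.centralizer ((P' : Subgroup (G ⧸ R)) : Set (G ⧸ R)) := by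
    rw [QuotientGroup.mk_mul, QuotientGroup.mk_mul, QuotientGroup.mk_inv, hg]
    exact hy
  refine Subgroup.mem_normalizer_iff.mpr fun z => ⟨hkey _ hc z, fun h => ?_⟩
  have h2 := hkey _ (show (((g * x * g⁻¹)⁻¹ : G) : G ⧸ R) ∈ _ from
    QuotientGroup.mk_inv R _ ▸ Subgroup.inv_mem _ hc) _ h
  rwa [show (g * x * g⁻¹)⁻¹ * (g * x * g⁻¹ * z * (g * x * g⁻¹)⁻¹) * (g * x * g⁻¹)⁻¹⁻¹ = z by group]
    at h2

end Cfsg.Agent.S4864
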