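import Cfsg.Statements.S4870
import Cfsg.Agent.BC87.CliffordCorr
import Cfsg.Agent.BC87.Basic
import Cfsg.Agent.CharDeep.Ext.Avg

set_option autoImplicit false
open Cfsg

namespace Cfsg.Agent.S4870

open BC87 CharDeep.Ext
open scoped ComplexConjugate

variable {G : Type*} [Group G] [Finite G]

/-- At most `[G : I]` linear characters agree on `I` with a given one. -/
theorem card_fiber_le (I : Subgroup G) (a : G →* ℂˣ) (S : Finset (Cfsg.IrrCharacter G))
    (hS : ∀ χ ∈ S, ∃ b : G →* ℂˣ, (χ : G → ℂ) = (fun g => (b g : ℂ)) ∧ ∀ i ∈ I, b i = a i) :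
    S.card ≤ I.index := by
  classical
  haveI := Fintype.ofFinite (G ⧸ I)
  let Φ : (G ⧸ I → ℂ) →ₗ[ℂ] (G → ℂ) :=
    { toFun := fun f g => f (g : G ⧸ I) * (a g : ℂ)
      map_add' := fun f f' => funext fun g => by simp [add_mul]
      map_smul' := fun c f => funext fun g => by simp [mul_assoc] }
  have hrange : ∀ χ : S, ((χ : Cfsg.IrrCharacter G) : G → ℂ) ∈ LinearMap.range Φ := by
    intro χ
    obtain ⟨b, hb, hI⟩ := hS χ χ.2
    refine ⟨Quotient.lift (fun g => (b g : ℂ) / (a g : ℂ)) (fun x y hxy => ?_), funext fun g => ?_⟩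
    · have h := hI _ (QuotientGroup.leftRel_apply.mp hxy)
      have hy : y = x * (x⁻¹ * y) := by group
      show (b x : ℂ) / (a x : ℂ) = (b y : ℂ) / (a y : ℂ)
      rw [hy, map_mul b x (x⁻¹ * y), map_mul a x (x⁻¹ * y), h, Units.val_mul, Units.val_mul,
        mul_div_mul_right _ _ (Units.ne_zero _)]
    · show (b g : ℂ) / (a g : ℂ) * (a g : ℂ) = _
      rw [div_mul_cancel₀ _ (Units.ne_zero _), hb]
  choose f hf using hrange
  have hli : LinearIndependent ℂ (Φ ∘ f) := by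
    have : Φ ∘ f = fun χ : S => ((χ : Cfsg.IrrCharacter G) : G → ℂ) := funext hf
    rw [this]
    exact CharCore.linearIndependent_irr.comp _ Subtype.val_injective
  have := hli.of_comp.fintype_card_le_finrank
  rw [Fintype.card_coe, Module.finrank_fintype_fun_eq_card, ← Nat.card_eq_fintype_card] at this
  exact this

/-- Let G be a finite group with a non-abelian minimal normal subgroup N, and let φ be an irreducible complex character of N with stabilizer I in G (the elements g with φ(g n g⁻¹) = φ(n) for all n ∈ N) such that φ extends to an irreducible character of I. Put d = φ(1)·[G : I]. Then the number of linear characters of G is at most [G : I] times the number of irreducible characters of G of degree d. -/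
theorem result {G : Type*} [Group G] [Finite G] (N : Subgroup G) (hN : N.Normal) (hN1 : N ≠ ⊥) (hmin : ∀ M : Subgroup G, M.Normal → M ≤ N → M = ⊥ ∨ M = N) (hna : ¬ IsMulCommutative ↥N) (φ : Cfsg.IrrCharacter ↥N) (I : Subgroup G) (hI : ∀ g : G, g ∈ I ↔ ∀ n n' : ↥N, (n' : G) = g * (n : G) * g⁻¹ → (φ : ↥N → ℂ) n' = (φ : ↥N → ℂ) n) (hNI : N ≤ I) (hext : ∃ ψ : Cfsg.IrrCharacter ↥I, ∀ n : ↥N, (ψ : ↥I → ℂ) (Subgroup.inclusion hNI n) = (φ : ↥N → ℂ) n) : Nat.card {χ : Cfsg.IrrCharacter G // Cfsg.charDegree (χ : G → ℂ) = 1} ≤ I.index * Nat.card {χ : Cfsg.IrrCharacter G // Cfsg.charDegree (χ : G → ℂ) = Cfsg.charDegree (φ : ↥N → ℂ) * I.index} := by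
  classical
  haveI := Fintype.ofFinite G
  haveI := Fintype.ofFinite ↥N
  haveI := Fintype.ofFinite ↥I
  haveI := Fintype.ofFinite (Cfsg.IrrCharacter G)
  obtain ⟨ψ, hψ⟩ := hext
  have hperf : ⁅N, N⁆ = N := by
    rcases hmin ⁅N, N⁆ inferInstance (Subgroup.commutator_le_self N) with h | h
    · refine absurd ⟨⟨fun x y => Subtype.ext ?_⟩⟩ hna
      exact Subgroup.mem_centralizer_iff.mp
        (Subgroup.commutator_eq_bot_iff_le_centralizer.mp h y.2) x x.2
    · exact h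
  have hker : ∀ (b : G →* ℂˣ) (n : G), n ∈ N → b n = 1 := fun b n hn =>
    Abelianization.commutator_subset_ker b
      (Subgroup.commutator_mono le_top le_top (hperf.symm ▸ hn : n ∈ ⁅N, N⁆))
  have hT : ∀ g : G, g ∈ I ↔ ∀ n : ↥N,
      (φ : ↥N → ℂ) ⟨g * n * g⁻¹, hN.conj_mem (n : G) n.2 g⟩ = (φ : ↥N → ℂ) n := fun g => by
    rw [hI g]
    exact ⟨fun h n => h n _ rfl, fun h n n' e => by
      rw [show n' = ⟨g * n * g⁻¹, hN.conj_mem (n : G) n.2 g⟩ from Subtype.ext e]; exact h n⟩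
  have hhom : ∀ χ : {χ : Cfsg.IrrCharacter G // Cfsg.charDegree (χ : G → ℂ) = 1},
      ∃ b : G →* ℂˣ, (χ.1 : G → ℂ) = fun g => (b g : ℂ) := fun χ =>
    CharCore.IsCharacter.exists_hom_of_degree_one (CharCore.irr_isCharacter χ.1)
      (by rw [apply_one_eq, χ.2, Nat.cast_one])
  choose b hb using hhom
  let N' := N.subgroupOf I
  haveI := Fintype.ofFinite ↥N'
  have hψN' : Cfsg.IsIrrCharacter ↥N' (fun n : ↥N' => (ψ : ↥I → ℂ) n) := by
    have h := CharCore.isIrrCharacter_comp_surjective φ.2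
      (Subgroup.subgroupOfEquivOfLe hNI).toMonoidHom (Subgroup.subgroupOfEquivOfLe hNI).surjective
    convert h using 1
    funext n
    exact hψ (Subgroup.subgroupOfEquivOfLe hNI n)
  have hirr : ∀ χ, Cfsg.IsIrrCharacter ↥I
      (fun i : ↥I => (b χ i : ℂ) * (ψ : ↥I → ℂ) i) := fun χ =>
    CharCore.isIrrCharacter_hom_mul ((b χ).comp I.subtype) ψ.2
  let η := fun χ => (⟨_, hirr χ⟩ : Cfsg.IrrCharacter ↥I)
  have hover : ∀ χ, Cfsg.classInner (fun n : ↥N => (η χ : ↥I → ℂ) ⟨(n : G), hNI n.2⟩)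
      (φ : ↥N → ℂ) ≠ 0 := by
    intro χ
    rw [show (fun n : ↥N => (η χ : ↥I → ℂ) ⟨(n : G), hNI n.2⟩) = (φ : ↥N → ℂ) from funext fun n => by
      show (b χ (n : G) : ℂ) * (ψ : ↥I → ℂ) ⟨(n : G), hNI n.2⟩ = _
      rw [hker _ _ n.2, Units.val_one, one_mul]
      exact hψ n, (CharCore.isIrrCharacter_iff.mp φ.2).2]
    exact one_ne_zero
  let F := fun χ => (⟨_, isIrrCharacter_indFun_inertia φ.2 hT hNI (η χ) (hover χ)⟩ :
    Cfsg.IrrCharacter G)
  have hFdeg : ∀ χ, Cfsg.charDegree (F χ : G → ℂ) =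
      Cfsg.charDegree (φ : ↥N → ℂ) * I.index := by
    intro χ
    refine charDegree_eq ?_
    show Cfsg.indFun I (η χ : ↥I → ℂ) 1 = _
    rw [CharInd.indFun_apply_one]
    show (I.index : ℂ) * ((b χ ((1 : ↥I) : G) : ℂ) * (ψ : ↥I → ℂ) 1) = _
    have h1 := hψ 1
    rw [map_one] at h1
    rw [h1, apply_one_eq, OneMemClass.coe_one, map_one, Units.val_one]
    push_cast
    ring
  rw [Nat.card_eq_fintype_card, Nat.card_eq_fintype_card, Fintype.card, Fintype.card]
  refine Finset.card_le_mul_card_image_of_maps_to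
    (f := fun χ => (⟨F χ, hFdeg χ⟩ : {χ : Cfsg.IrrCharacter G //
      Cfsg.charDegree (χ : G → ℂ) = Cfsg.charDegree (φ : ↥N → ℂ) * I.index}))
    (fun χ _ => Finset.mem_univ _) I.index fun c _ => ?_
  set S := Finset.univ.filter fun χ => (⟨F χ, hFdeg χ⟩ : {χ : Cfsg.IrrCharacter G //
      Cfsg.charDegree (χ : G → ℂ) = Cfsg.charDegree (φ : ↥N → ℂ) * I.index}) = c
  rcases S.eq_empty_or_nonempty with h0 | ⟨χ₀, hχ₀⟩
  · simp [h0]
  rw [← Finset.card_map (Function.Embedding.subtype _)]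
  refine card_fiber_le I (b χ₀) _ fun x hx => ?_
  obtain ⟨χ, hχ, rfl⟩ := Finset.mem_map.mp hx
  refine ⟨b χ, hb χ, fun i hi => ?_⟩
  have hFF : Cfsg.indFun I (η χ : ↥I → ℂ) = Cfsg.indFun I (η χ₀ : ↥I → ℂ) :=
    congrArg (fun z : {χ : Cfsg.IrrCharacter G //
      Cfsg.charDegree (χ : G → ℂ) = Cfsg.charDegree (φ : ↥N → ℂ) * I.index} => (z.1 : G → ℂ))
      ((Finset.mem_filter.mp hχ).2.trans (Finset.mem_filter.mp hχ₀).2.symm)
  have hη := indFun_inertia_injective φ.2 hT hNI _ _ (hover χ) (hover χ₀) hFF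
  let ν : ↥I →* ℂˣ := ((b χ₀).comp I.subtype)⁻¹ * (b χ).comp I.subtype
  have hνψ : ∀ j : ↥I, (ν j : ℂ) * (ψ : ↥I → ℂ) j = (ψ : ↥I → ℂ) j := fun j => by
    have h := congrFun (congrArg Subtype.val hη) j
    change (b χ j : ℂ) * _ = (b χ₀ j : ℂ) * _ at h
    simp only [ν, MonoidHom.mul_apply, MonoidHom.inv_apply, MonoidHom.comp_apply,
      Subgroup.coe_subtype, Units.val_mul, Units.val_inv_eq_inv_val, mul_assoc, h]
    rw [← mul_assoc, inv_mul_cancel₀ (Units.ne_zero _), one_mul]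
  have hν : ∀ j, (ν j : ℂ) = 1 := by
    have h := classInner_avg N' (f := fun g => (ψ : ↥I → ℂ) g * conj ((ψ : ↥I → ℂ) g))
      (β := fun g => (ν g : ℂ)) (fun n g => by
        have hn : ν (n : ↥I) = 1 := by
          simp [ν, hker _ _ (Subgroup.mem_subgroupOf.mp n.2)]
        simp [map_mul, hn])
    rw [avg_mul_conj_self ψ.2 hψN'] at h
    have h' : Cfsg.classInner (1 : ↥I → ℂ) (fun g => (ν g : ℂ)) = 1 := by
      rw [h]
      refine Eq.trans ?_ (CharCore.isIrrCharacter_iff.mp ψ.2).2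
      simp only [CharCore.classInner_def]
      congr 1
      refine Finset.sum_congr rfl fun g _ => ?_
      conv_rhs => arg 2; rw [← hνψ g]
      rw [map_mul]
      ring
    intro j
    by_contra hj
    have h2 := CharCore.classInner_irr_of_ne (χ := (triv ↥I))
      (ψ := ⟨_, CharCore.isIrrCharacter_hom ν⟩) (fun e => hj
        (congrFun (congrArg Subtype.val e) j).symm)
    exact one_ne_zero (h'.symm.trans h2)
  have hi1 : ν ⟨i, hi⟩ = 1 := Units.ext (hν ⟨i, hi⟩)
  have hi2 : (b χ₀ i)⁻¹ * b χ i = 1 := hi1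
  exact (inv_mul_eq_one.mp hi2).symm

end Cfsg.Agent.S4870
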