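import Cfsg.Statements.S4871
import Cfsg.Agent.BC87.FrobeniusSchur
import Cfsg.Agent.BC87.Basic
import Cfsg.Agent.Lib.CharCore.Linear
import Cfsg.Agent.Lib.CharInd.Classes
import Cfsg.Agent.Lib.PGroup.Basic
import Cfsg.Agent.Lib.CharClifford.Clifford

set_option autoImplicit false
open Cfsg

namespace Cfsg.Agent.S4871

open BC87
open scoped ComplexConjugate

variable {G : Type*} [Group G] [Finite G] (N P : Subgroup G) [hN : N.Normal]

/-- A character over `lam` and over the principal character of a complement, uniquely. -/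
theorem exists_unique_over (hdisj : N ⊓ P = ⊥) (hprod : N ⊔ P = ⊤) [Fintype N] [Fintype P]
    (lam : Cfsg.IrrCharacter N) (h1 : (lam : N → ℂ) 1 = 1) :
    ∃ χ : Cfsg.IrrCharacter G,
      Cfsg.classInner (fun x : P => (χ : G → ℂ) x) 1 = 1 ∧
      Cfsg.classInner (fun n : N => (χ : G → ℂ) n) (lam : N → ℂ) ≠ 0 ∧
      ∀ χ' : Cfsg.IrrCharacter G, Cfsg.classInner (fun x : P => (χ' : G → ℂ) x) 1 ≠ 0 →
        Cfsg.classInner (fun n : N => (χ' : G → ℂ) n) (lam : N → ℂ) ≠ 0 → χ' = χ := by
  classical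
  haveI := Fintype.ofFinite G
  have hc : Cfsg.IsCharacter G (Cfsg.indFun P (1 : P → ℂ)) :=
    CharInd.isCharacter_indFun P (CharCore.IsIrrCharacter.isCharacter CharCore.isIrrCharacter_one)
  obtain ⟨a, ha⟩ := CharCore.IsCharacter.exists_sum hc
  have hnat : ∀ χ : Cfsg.IrrCharacter G, ∃ k : ℕ,
      Cfsg.classInner (fun n : N => (χ : G → ℂ) n) (lam : N → ℂ) = k := fun χ =>
    CharCore.IsCharacter.exists_classInner_irr_eq_natCast
      (CharCore.isCharacter_restrict (CharCore.irr_isCharacter χ) N) lam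
  choose b hb using hnat
  have hab : ∀ χ : Cfsg.IrrCharacter G,
      Cfsg.classInner (fun x : P => (χ : G → ℂ) x) 1 = (a χ : ℂ) := by
    intro χ
    rw [← CharCore.conj_classInner (1 : P → ℂ),
      ← CharInd.classInner_indFun_left P (1 : P → ℂ) (CharCore.irr_isClassFunction χ), ha,
      CharCore.classInner_sum_all (fun φ => (a φ : ℂ)) χ, map_natCast]
  have hPi : P.index = Nat.card N := by
    have hc' : Subgroup.IsComplement' N P := Subgroup.isComplement'_of_disjoint_and_mul_eq_univ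
      (disjoint_iff.mpr hdisj) (by rw [← Subgroup.normal_mul, hprod, Subgroup.coe_top])
    exact hc'.index_eq_card
  have hval : ∀ n : N, n ≠ 1 → Cfsg.indFun P (1 : P → ℂ) (n : G) = 0 := by
    intro n hn
    refine CharInd.indFun_eq_zero_of_forall_notMem P _ fun x hx => hn ?_
    have hm : x⁻¹ * (n : G) * x ∈ N ⊓ P :=
      ⟨by simpa using hN.conj_mem _ n.2 x⁻¹, hx⟩
    rw [hdisj, Subgroup.mem_bot] at hm
    refine Subtype.ext ?_
    rw [OneMemClass.coe_one]
    calc (n : G) = x * (x⁻¹ * (n : G) * x) * x⁻¹ := by group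
      _ = 1 := by rw [hm, mul_one, mul_inv_cancel]
  have hreg : Cfsg.classInner (fun n : N => Cfsg.indFun P (1 : P → ℂ) n) (lam : N → ℂ) = 1 := by
    rw [CharCore.classInner_def, Fintype.sum_eq_single (1 : N) fun n hn => by
      rw [hval n hn, zero_mul]]
    rw [OneMemClass.coe_one, CharInd.indFun_apply_one, hPi, h1]
    simp
  have hsum : ∑ χ : Cfsg.IrrCharacter G, a χ * b χ = 1 := by
    have e : (fun n : N => Cfsg.indFun P (1 : P → ℂ) n) =
        ∑ χ : Cfsg.IrrCharacter G, (a χ : ℂ) • fun n : N => (χ : G → ℂ) n := by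
      funext n
      simp [ha, Finset.sum_apply]
    rw [e, CharCore.classInner_sum_left] at hreg
    simp only [CharCore.classInner_smul_left, hb] at hreg
    exact_mod_cast hreg
  obtain ⟨χ, -, hχ⟩ := Finset.exists_ne_zero_of_sum_ne_zero (hsum.trans_ne one_ne_zero)
  obtain ⟨hχa, hχb⟩ := mul_ne_zero_iff.mp hχ
  have hone : ∀ φ, a φ * b φ ≤ 1 := fun φ =>
    hsum ▸ Finset.single_le_sum (f := fun ψ => a ψ * b ψ) (fun _ _ => Nat.zero_le _)
      (Finset.mem_univ φ)
  refine ⟨χ, ?_, ?_, fun χ' h₁ h₂ => ?_⟩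
  · rw [hab]
    have h2 := hone χ
    have h3 : 1 ≤ b χ := Nat.one_le_iff_ne_zero.mpr hχb
    have h4 : a χ ≤ a χ * b χ := Nat.le_mul_of_pos_right _ h3
    have : a χ = 1 := by omega
    rw [this, Nat.cast_one]
  · rw [hb]; exact_mod_cast hχb
  · by_contra hne
    rw [hab, Nat.cast_ne_zero] at h₁
    rw [hb, Nat.cast_ne_zero] at h₂
    have h5 : a χ' * b χ' + a χ * b χ ≤ 1 := by
      calc _ = ∑ φ ∈ ({χ', χ} : Finset _), a φ * b φ := by rw [Finset.sum_pair hne]
        _ ≤ _ := (Finset.sum_le_sum_of_subset (Finset.subset_univ _)).trans hsum.le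
    have h6 : 0 < a χ' * b χ' := Nat.pos_of_ne_zero (mul_ne_zero h₁ h₂)
    have h7 : 0 < a χ * b χ := Nat.pos_of_ne_zero hχ
    omega

omit hN in
/-- A linear character with indicator one squares to one. -/
theorem hom_sq_eq_one {b : G →* ℂˣ} (χ : Cfsg.IrrCharacter G)
    (hχ : (χ : G → ℂ) = fun g => (b g : ℂ)) (h : nu (χ : G → ℂ) = 1) (g : G) : b g * b g = 1 := by
  have hr := nu_real (χ := χ) (by rw [h]; exact one_ne_zero) g
  have hn : ‖(b g : ℂ)‖ = 1 := Complex.norm_eq_one_of_pow_eq_one (n := Nat.card G)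
    (by rw [← Units.val_pow_eq_pow_val, ← map_pow, pow_card_eq_one', map_one, Units.val_one])
    Nat.card_pos.ne'
  rw [congrFun hχ g] at hr
  apply Units.ext
  rw [Units.val_mul, Units.val_one]
  calc (b g : ℂ) * (b g : ℂ) = (b g : ℂ) * conj (b g : ℂ) := by
        rw [Complex.conj_eq_iff_im.mpr hr]
    _ = 1 := by rw [Complex.mul_conj, Complex.normSq_eq_norm_sq, hn]; norm_num

/-- Let G be a finite group that is the semidirect product of a normal elementary abelian subgroup N of odd order by a non-trivial 2-subgroup P, with N the unique minimal normal subgroup of G. Consider the strongly real irreducible complex characters of G (Frobenius–Schur indicator +1) whose degree is 1 or even. Then their average degree is at least 4/3: four times their number is at most three times the sum of their degrees. -/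
theorem result {G : Type*} [Group G] [Finite G] (N P : Subgroup G) (hN : N.Normal) (q : ℕ) [Fact q.Prime] (hq : q ≠ 2) (hNel : Cfsg.IsElementaryAbelian q N) (hP : IsPGroup 2 ↥P) (hP1 : P ≠ ⊥) (hdisj : N ⊓ P = ⊥) (hprod : N ⊔ P = ⊤) (hmin : N ≠ ⊥ ∧ ∀ M : Subgroup G, M.Normal → M ≠ ⊥ → N ≤ M) : 4 * Nat.card {χ : Cfsg.IrrCharacter G // (Cfsg.charDegree (χ : G → ℂ) = 1 ∨ 2 ∣ Cfsg.charDegree (χ : G → ℂ)) ∧ (Nat.card G : ℂ)⁻¹ * ∑ᶠ g : G, (χ : G → ℂ) (g * g) = 1} ≤ 3 * (∑ᶠ χ : {χ : Cfsg.IrrCharacter G // (Cfsg.charDegree (χ : G → ℂ) = 1 ∨ 2 ∣ Cfsg.charDegree (χ : G → ℂ)) ∧ (Nat.card G : ℂ)⁻¹ * ∑ᶠ g : G, (χ : G → ℂ) (g * g) = 1}, Cfsg.charDegree (χ.1 : G → ℂ)) := by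
  classical
  haveI := hN
  haveI := Fintype.ofFinite G
  haveI := Fintype.ofFinite ↥N
  haveI := Fintype.ofFinite ↥P
  have hqp : q.Prime := Fact.out
  obtain ⟨hNne, hmin⟩ := hmin
  -- an involution in the centre of `P`
  obtain ⟨z, hz, hz1, hz2⟩ : ∃ z ∈ Subgroup.center ↥P, z ≠ 1 ∧ z ^ 2 = 1 := by
    haveI : Nontrivial ↥P := (Subgroup.nontrivial_iff_ne_bot P).mpr hP1
    exact PGroup.exists_mem_pow_eq_one hP
      (fun h => PGroup.inf_center_ne_bot hP (N := ⊤) top_ne_bot (by rw [top_inf_eq]; exact h))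
  -- fixed points of `z` on `N`
  let F : Subgroup G := N ⊓ Subgroup.centralizer {(z : G)}
  have hdec : ∀ g : G, ∃ n ∈ N, ∃ x ∈ P, n * x = g := fun g => by
    have hg : g ∈ ((N ⊔ P : Subgroup G) : Set G) := by rw [hprod]; trivial
    rw [Subgroup.normal_mul] at hg
    obtain ⟨n, hn, x, hx, rfl⟩ := hg
    exact ⟨n, hn, x, hx, rfl⟩
  have hzx : ∀ x ∈ P, x * (z : G) = (z : G) * x := fun x hx =>
    congrArg Subtype.val (Subgroup.mem_center_iff.mp hz ⟨x, hx⟩)
  have hNcomm : ∀ a ∈ N, ∀ b ∈ N, a * b = b * a := fun a ha b hb => by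
    haveI := hNel.1
    exact congrArg Subtype.val (mul_comm' (⟨a, ha⟩ : ↥N) ⟨b, hb⟩)
  have hFn : F.Normal := ⟨fun a ha g => by
    obtain ⟨n, hn, x, hx, rfl⟩ := hdec g
    have hx' : x * a * x⁻¹ ∈ N := hN.conj_mem _ ha.1 x
    have hxz : x * a * x⁻¹ * z = z * (x * a * x⁻¹) := by
      have h1 := Subgroup.mem_centralizer_singleton_iff.mp ha.2
      calc x * a * x⁻¹ * z = x * (a * z) * x⁻¹ := by
            rw [mul_assoc (x * a), hzx _ (P.inv_mem hx)]; group
        _ = x * (z * a) * x⁻¹ := by rw [h1]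
        _ = z * (x * a * x⁻¹) := by rw [← mul_assoc x, hzx x hx]; group
    have e : n * x * a * (n * x)⁻¹ = x * a * x⁻¹ := by
      calc n * x * a * (n * x)⁻¹ = n * (x * a * x⁻¹) * n⁻¹ := by group
        _ = x * a * x⁻¹ := by rw [hNcomm n hn _ hx', mul_inv_cancel_right]
    rw [e]
    exact ⟨hx', Subgroup.mem_centralizer_singleton_iff.mpr hxz⟩⟩
  have hF : F = ⊥ := by
    by_contra hne
    have hle := hmin F hFn hne
    have hzc : (z : G) ∈ Subgroup.center G := Subgroup.mem_center_iff.mpr fun g => by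
      obtain ⟨n, hn, x, hx, rfl⟩ := hdec g
      rw [mul_assoc, hzx x hx, ← mul_assoc,
        Subgroup.mem_centralizer_singleton_iff.mp (hle hn).2, mul_assoc]
    have hZn : (Subgroup.zpowers (z : G)).Normal := ⟨fun a ha g => by
      rw [Subgroup.mem_center_iff.mp (Subgroup.zpowers_le.mpr hzc ha) g, mul_inv_cancel_right]
      exact ha⟩
    have h2 := hmin _ hZn (by
      rw [ne_eq, Subgroup.zpowers_eq_bot]
      exact fun h => hz1 (Subtype.ext h))
    have : N ≤ ⊥ := hdisj ▸ le_inf le_rfl (h2.trans (Subgroup.zpowers_le.mpr z.2))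
    exact hNne (le_bot_iff.mp this)
  have hinv : ∀ n ∈ N, (z : G) * n * (z : G)⁻¹ = n⁻¹ := by
    intro n hn
    have hz2' : (z : G) * z = 1 := by
      have := congrArg Subtype.val hz2
      simpa [sq] using this
    have hzi : (z : G)⁻¹ = z := inv_eq_of_mul_eq_one_right hz2'
    have hm : (z : G) * n * (z : G)⁻¹ ∈ N := hN.conj_mem _ hn z
    have hfix : n * (z * n * (z : G)⁻¹) ∈ F := by
      refine ⟨mul_mem hn hm, Subgroup.mem_centralizer_singleton_iff.mpr ?_⟩
      rw [hzi] at hm ⊢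
      have h3 := hNcomm n hn _ hm
      calc n * (z * n * z) * z = n * z * n * (z * z) := by group
        _ = n * z * n := by rw [hz2', mul_one]
        _ = (z * z) * n * z * n := by rw [hz2', one_mul]
        _ = z * (z * n * z * n) := by group
        _ = z * (n * (z * n * z)) := by rw [← h3]
    rw [hF, Subgroup.mem_bot] at hfix
    exact (inv_eq_of_mul_eq_one_right hfix).symm
  -- a non-principal character of `N`
  obtain ⟨lam, hlam⟩ : ∃ lam : Cfsg.IrrCharacter ↥N, lam ≠ triv ↥N := by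
    by_contra! h
    obtain ⟨n, hn, hn1⟩ := (Subgroup.bot_or_exists_ne_one N).resolve_left hNne
    have := mem_of_forall_kerChar (⊥ : Subgroup ↥N) (g := ⟨n, hn⟩) fun χ _ => by
      rw [h χ, mem_kerChar]; rfl
    exact hn1 (congrArg Subtype.val (Subgroup.mem_bot.mp this))
  have hNab : ∀ a b : ↥N, a * b = b * a := fun a b => Subtype.ext (hNcomm a a.2 b b.2)
  have hlam1 := apply_one_eq_one_of_comm hNab lam
  obtain ⟨l, hl⟩ := CharCore.IsCharacter.exists_hom_of_degree_one
    (CharCore.irr_isCharacter lam) hlam1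
  have hlq : ∀ n, l n ^ q = 1 := fun n => by
    rw [← map_pow, show n ^ q = 1 from Subtype.ext (by simpa using hNel.2 n n.2), map_one]
  have hqodd : Odd q := hqp.odd_of_ne_two hq
  have hord : ∀ u : ℂˣ, u ^ q = 1 → u * u = 1 → u = 1 := fun u hu h2 => by
    obtain ⟨i, hi⟩ := hqodd
    rw [hi, pow_succ, pow_mul, sq, h2, one_pow, one_mul] at hu
    exact hu
  obtain ⟨χ₀, hP1', hN0, huniq⟩ := exists_unique_over N P hdisj hprod lam hlam1
  obtain ⟨x₀, hconjN⟩ : ∃ x : G, ∀ n : ↥N,
      (χ₀ : G → ℂ) ((z : G) * n * (z : G)⁻¹) = (χ₀ : G → ℂ) n :=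
    ⟨1, fun n => CharCore.irr_isClassFunction χ₀ _ _⟩
  have hreal : ∀ g, ((χ₀ : G → ℂ) g).im = 0 := by
    let χc : Cfsg.IrrCharacter G :=
      ⟨fun g => conj ((χ₀ : G → ℂ) g), CharCore.isIrrCharacter_star χ₀.2⟩
    have hc : χc = χ₀ := by
      refine huniq χc ?_ ?_
      · have h := congrArg (starRingEnd ℂ) hP1'
        rw [CharCore.classInner_def, map_mul, map_inv₀, map_natCast, map_sum, map_one] at h
        simp only [map_mul, Pi.one_apply, map_one, mul_one] at h
        rw [CharCore.classInner_def]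
        simp only [Pi.one_apply, map_one, mul_one]
        show (Nat.card ↥P : ℂ)⁻¹ * ∑ x : ↥P, conj ((χ₀ : G → ℂ) x) ≠ 0
        rw [h]
        exact one_ne_zero
      · have e : ∀ n : ↥N, conj ((χ₀ : G → ℂ) n) = (χ₀ : G → ℂ) n := fun n => by
          rw [← CharCore.irr_apply_inv, ← hinv n n.2, hconjN]
        show Cfsg.classInner (fun n : ↥N => conj ((χ₀ : G → ℂ) n)) (lam : ↥N → ℂ) ≠ 0
        rw [show (fun n : ↥N => conj ((χ₀ : G → ℂ) n)) = fun n : ↥N => (χ₀ : G → ℂ) n from funext e]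
        exact hN0
    intro g
    exact Complex.conj_eq_iff_im.mp (congrFun (congrArg Subtype.val hc) g)
  have hν : nu (χ₀ : G → ℂ) = 1 :=
    nu_eq_one_of_odd hreal P odd_one (by rw [hP1', Nat.cast_one])
  -- its degree is even
  set d := Cfsg.charDegree (χ₀ : G → ℂ)
  have hd : 2 ∣ d := by
    obtain ⟨θ, e, hθ, he, hin, heq⟩ := CharClifford.clifford_restrict N χ₀.2
    have hdeg : d = e * (CharClifford.conjOrbit N θ).card := by
      refine charDegree_eq ?_
      have h1 := congrFun heq 1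
      simp only [Pi.smul_apply, Finset.sum_apply, smul_eq_mul, OneMemClass.coe_one] at h1
      rw [h1, Finset.sum_congr rfl fun ψ hψ => ?_, Finset.sum_const, nsmul_one]
      · push_cast; ring
      · obtain ⟨y, rfl⟩ := (CharClifford.mem_conjOrbit N).mp hψ
        exact apply_one_eq_one_of_comm hNab
          ⟨_, CharClifford.isIrrCharacter_conjFun N hθ y⟩
    obtain ⟨x, hx⟩ := CharClifford.exists_conjFun_eq_of_constituents N χ₀.2 hθ lam.2
      (by rw [hin]; exact_mod_cast he.ne') hN0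
    let St : Subgroup G :=
      { carrier := {g | CharClifford.conjFun N g θ = θ}
        mul_mem' := fun {a b} ha hb => by
          show CharClifford.conjFun N (a * b) θ = θ
          rw [← CharClifford.conjFun_conjFun N b a, ha, hb]
        one_mem' := CharClifford.conjFun_one N θ
        inv_mem' := fun {a} ha => by
          show CharClifford.conjFun N a⁻¹ θ = θ
          conv_lhs => rw [← ha]
          rw [CharClifford.conjFun_conjFun, mul_inv_cancel, CharClifford.conjFun_one] }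
    have hcard : (CharClifford.conjOrbit N θ).card = St.index := by
      let f : G ⧸ St → (CharClifford.conjOrbit N θ : Set (↥N → ℂ)) :=
        fun c => ⟨CharClifford.conjFun N (Quotient.out c)⁻¹ θ,
          (CharClifford.mem_conjOrbit N).mpr ⟨_, rfl⟩⟩
      have hf : ∀ g : G, (f (g : G ⧸ St) : ↥N → ℂ) = CharClifford.conjFun N g⁻¹ θ := by
        intro g
        obtain ⟨s, hs⟩ := QuotientGroup.mk_out_eq_mul St g
        show CharClifford.conjFun N (Quotient.out (g : G ⧸ St))⁻¹ θ = _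
        rw [hs, mul_inv_rev, ← CharClifford.conjFun_conjFun N g⁻¹ (s : G)⁻¹,
          show CharClifford.conjFun N (s : G)⁻¹ θ = θ from St.inv_mem s.2]
      have hbij : Function.Bijective f := by
        refine ⟨fun c c' h => ?_, fun ψ => ?_⟩
        · obtain ⟨g, rfl⟩ := QuotientGroup.mk_surjective c
          obtain ⟨g', rfl⟩ := QuotientGroup.mk_surjective c'
          have h' := congrArg Subtype.val h
          rw [hf, hf] at h'
          rw [QuotientGroup.eq]
          show CharClifford.conjFun N (g⁻¹ * g') θ = θ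
          rw [← CharClifford.conjFun_conjFun N g' g⁻¹, h', CharClifford.conjFun_conjFun,
            inv_mul_cancel, CharClifford.conjFun_one]
        · obtain ⟨g, hg⟩ := (CharClifford.mem_conjOrbit N).mp (Finset.mem_coe.mp ψ.2)
          exact ⟨((g⁻¹ : G) : G ⧸ St), Subtype.ext (by rw [hf, inv_inv, hg])⟩
      rw [Subgroup.index, Nat.card_congr (Equiv.ofBijective f hbij)]
      simp
    have hne : St ≠ ⊤ := by
      intro htop
      have hall : ∀ g, CharClifford.conjFun N g θ = θ := fun g => by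
        have : g ∈ St := htop ▸ Subgroup.mem_top g
        exact this
      rw [hall x] at hx
      apply hlam
      refine Subtype.ext (funext fun n => ?_)
      rw [hl]
      show (l n : ℂ) = 1
      have h1 := congrFun (hall (z : G)) n
      rw [← hx, CharClifford.conjFun_apply, hl] at h1
      have h2 : l n⁻¹ = l n := Units.ext (by
        rw [show n⁻¹ = ⟨(z : G) * n * (z : G)⁻¹, hN.conj_mem _ n.2 _⟩ from
          Subtype.ext (hinv n n.2).symm]
        exact h1)
      rw [map_inv] at h2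
      rw [hord (l n) (hlq n) (inv_eq_iff_mul_eq_one.mp h2), Units.val_one]
    have hNSt : N ≤ St := fun n hn =>
      CharClifford.conjFun_of_mem N (CharCore.IsCharacter.isClassFunction
        (CharCore.IsIrrCharacter.isCharacter hθ)) hn
    have hdvd : St.index ∣ Nat.card ↥P := by
      refine (Subgroup.index_dvd_of_le hNSt).trans ?_
      have hc' : Subgroup.IsComplement' N P := Subgroup.isComplement'_of_disjoint_and_mul_eq_univ
        (disjoint_iff.mpr hdisj) (by rw [← Subgroup.normal_mul, hprod, Subgroup.coe_top])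
      rw [hc'.symm.index_eq_card]
    obtain ⟨m, hm⟩ := IsPGroup.iff_card.mp hP
    obtain ⟨j, -, hj⟩ := (Nat.dvd_prime_pow Nat.prime_two).mp (hm ▸ hdvd)
    rw [hdeg, hcard, hj]
    refine (dvd_pow_self 2 ?_).mul_left e
    rintro rfl
    exact hne (Subgroup.index_eq_one.mp (by rw [hj, pow_zero]))
  have hd1 : d ≠ 1 := fun h => by rw [h] at hd; norm_num at hd
  have hd0 : 0 < d := charDegree_pos χ₀
  -- twisting by linear characters
  let good : Cfsg.IrrCharacter G → Prop := fun χ =>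
    (Cfsg.charDegree (χ : G → ℂ) = 1 ∨ 2 ∣ Cfsg.charDegree (χ : G → ℂ)) ∧ nu (χ : G → ℂ) = 1
  let L := Finset.univ.filter fun χ : Cfsg.IrrCharacter G =>
    good χ ∧ Cfsg.charDegree (χ : G → ℂ) = 1
  let E := Finset.univ.filter fun χ : Cfsg.IrrCharacter G =>
    good χ ∧ Cfsg.charDegree (χ : G → ℂ) ≠ 1
  have hhom : ∀ χ : L, ∃ b : G →* ℂˣ, ((χ : Cfsg.IrrCharacter G) : G → ℂ) = fun g => (b g : ℂ) :=
    fun χ => CharCore.IsCharacter.exists_hom_of_degree_one (CharCore.irr_isCharacter χ.1)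
      (by rw [apply_one_eq, (Finset.mem_filter.mp χ.2).2.2, Nat.cast_one])
  choose b hb using hhom
  have hbsq : ∀ χ g, b χ g * b χ g = 1 := fun χ g =>
    hom_sq_eq_one χ.1 (hb χ) (Finset.mem_filter.mp χ.2).2.1.2 g
  have hbN : ∀ χ, ∀ n ∈ N, b χ n = 1 := fun χ n hn =>
    hord _ (by rw [← map_pow, hNel.2 n hn, map_one]) (hbsq χ n)
  let tw : L → Cfsg.IrrCharacter G := fun χ => ⟨_, CharCore.isIrrCharacter_hom_mul (b χ) χ₀.2⟩
  have htwd : ∀ χ, Cfsg.charDegree (tw χ : G → ℂ) = d := fun χ => charDegree_eq (by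
    show (b χ 1 : ℂ) * (χ₀ : G → ℂ) 1 = _
    rw [map_one, Units.val_one, one_mul, apply_one_eq])
  have htwE : ∀ χ, tw χ ∈ E := fun χ => Finset.mem_filter.mpr ⟨Finset.mem_univ _,
    ⟨Or.inr (by rw [htwd]; exact hd), by
      rw [← hν, nu, nu]
      congr 1
      refine finsum_congr fun g => ?_
      show (b χ (g * g) : ℂ) * _ = _
      rw [map_mul, hbsq, Units.val_one, one_mul]⟩, by rw [htwd]; exact hd1⟩
  have hfib : ∀ c : Cfsg.IrrCharacter G, (Finset.univ.filter fun χ => tw χ = c).card ≤ d := by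
    intro c
    rcases (Finset.univ.filter fun χ => tw χ = c).eq_empty_or_nonempty with h0 | ⟨χ₁, hχ₁⟩
    · rw [h0]; exact Nat.zero_le _
    obtain ⟨m, hm⟩ := CharCore.IsCharacter.exists_sum
      (CharCore.isCharacter_restrict (CharCore.irr_isCharacter χ₀) P)
    let r : L → Cfsg.IrrCharacter ↥P := fun χ =>
      ⟨_, CharCore.isIrrCharacter_hom ((b χ * b χ₁).comp P.subtype)⟩
    have hr1 : ∀ χ ∈ Finset.univ.filter (fun χ => tw χ = c),
        (r χ : ↥P → ℂ) 1 = 1 ∧ m (r χ) ≠ 0 := by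
      intro χ hχ
      refine ⟨by simp [r], ?_⟩
      have heq := congrArg Subtype.val ((Finset.mem_filter.mp hχ).2.trans
        (Finset.mem_filter.mp hχ₁).2.symm)
      have h3 : Cfsg.classInner (fun x : ↥P => (χ₀ : G → ℂ) x) (r χ : ↥P → ℂ) = 1 := by
        rw [← hP1', CharCore.classInner_def, CharCore.classInner_def]
        congr 1
        refine Finset.sum_congr rfl fun x _ => ?_
        have hxx := congrFun heq (x : G)
        change (b χ (x : G) : ℂ) * _ = (b χ₁ (x : G) : ℂ) * _ at hxx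
        have hr' : ∀ χ', conj (b χ' (x : G) : ℂ) = (b χ' (x : G) : ℂ) := fun χ' =>
          Complex.conj_eq_iff_im.mpr (by
            rw [← congrFun (hb χ') (x : G)]
            exact nu_real (χ := χ'.1) (by
              rw [(Finset.mem_filter.mp χ'.2).2.1.2]; exact one_ne_zero) _)
        show (χ₀ : G → ℂ) x * conj ((b χ (x : G) * b χ₁ (x : G) : ℂˣ) : ℂ) = _
        rw [Units.val_mul, map_mul, hr', hr', Pi.one_apply, map_one, mul_one]
        have h1 : (b χ₁ (x : G) : ℂ) * (b χ₁ (x : G) : ℂ) = 1 := by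
          rw [← Units.val_mul, hbsq, Units.val_one]
        linear_combination (b χ₁ (x : G) : ℂ) * hxx + (χ₀ : G → ℂ) x * h1
      intro h
      rw [hm, CharCore.classInner_sum_all (fun φ => (m φ : ℂ)) (r χ), h, Nat.cast_zero] at h3
      exact zero_ne_one h3
    have hinj : Set.InjOn r ↑(Finset.univ.filter fun χ => tw χ = c) := by
      intro χ _ χ' _ h
      refine Subtype.ext (Subtype.ext ?_)
      rw [hb, hb]
      funext g
      obtain ⟨n, hn, x, hx, rfl⟩ := hdec g
      have h1 := congrFun (congrArg Subtype.val h) ⟨x, hx⟩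
      change ((b χ x * b χ₁ x : ℂˣ) : ℂ) = ((b χ' x * b χ₁ x : ℂˣ) : ℂ) at h1
      rw [map_mul, map_mul, hbN χ n hn, hbN χ' n hn, one_mul, one_mul,
        mul_right_cancel (Units.ext h1)]
    rw [← Finset.card_image_of_injOn hinj]
    have hdsum : (d : ℂ) = ∑ φ : Cfsg.IrrCharacter ↥P, (m φ : ℂ) * (φ : ↥P → ℂ) 1 := by
      rw [← apply_one_eq]
      simpa [Finset.sum_apply] using congrFun hm 1
    have hdsum' : d = ∑ φ : Cfsg.IrrCharacter ↥P, m φ * Cfsg.charDegree (φ : ↥P → ℂ) := by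
      simp only [apply_one_eq] at hdsum
      exact_mod_cast hdsum
    rw [hdsum', Finset.card_eq_sum_ones]
    refine le_trans (Finset.sum_le_sum fun φ hφ => ?_)
      (Finset.sum_le_sum_of_subset (Finset.subset_univ _))
    obtain ⟨χ, hχ, rfl⟩ := Finset.mem_image.mp hφ
    exact Nat.one_le_iff_ne_zero.mpr (mul_ne_zero (hr1 χ hχ).2 (charDegree_pos _).ne')
  have hLE : L.card ≤ ∑ χ ∈ E, Cfsg.charDegree (χ : G → ℂ) := by
    have h1 := Finset.card_le_mul_card_image (Finset.univ : Finset L) (f := tw) d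
      (fun c _ => hfib c)
    rw [Finset.card_univ, Fintype.card_coe] at h1
    refine h1.trans ?_
    calc d * (Finset.univ.image tw).card
        = ∑ χ ∈ Finset.univ.image tw, Cfsg.charDegree (χ : G → ℂ) := by
          rw [Finset.sum_congr rfl fun χ hχ => ?_, Finset.sum_const, smul_eq_mul, mul_comm]
          obtain ⟨χ', -, rfl⟩ := Finset.mem_image.mp hχ
          exact htwd χ'
      _ ≤ _ := Finset.sum_le_sum_of_subset fun χ hχ => by
          obtain ⟨χ', -, rfl⟩ := Finset.mem_image.mp hχ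
          exact htwE χ'
  have hE2 : 2 * E.card ≤ ∑ χ ∈ E, Cfsg.charDegree (χ : G → ℂ) := by
    rw [mul_comm, ← smul_eq_mul, ← Finset.sum_const]
    refine Finset.sum_le_sum fun χ hχ => ?_
    obtain ⟨⟨h1, -⟩, h2⟩ := (Finset.mem_filter.mp hχ).2
    exact Nat.le_of_dvd (charDegree_pos χ) (h1.resolve_left h2)
  show 4 * Nat.card {χ : Cfsg.IrrCharacter G // good χ} ≤
    3 * ∑ᶠ χ : {χ : Cfsg.IrrCharacter G // good χ}, Cfsg.charDegree (χ.1 : G → ℂ)
  haveI := Fintype.ofFinite {χ : Cfsg.IrrCharacter G // good χ}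
  rw [finsum_eq_sum_of_fintype, Nat.card_eq_fintype_card,
    ← Finset.sum_subtype (Finset.univ.filter good) (fun χ => by simp)
      (fun χ : Cfsg.IrrCharacter G => Cfsg.charDegree (χ : G → ℂ)),
    Fintype.card_of_subtype (Finset.univ.filter good) (fun χ => by simp),
    ← Finset.sum_filter_add_sum_filter_not (Finset.univ.filter good)
      (fun χ : Cfsg.IrrCharacter G => Cfsg.charDegree (χ : G → ℂ) = 1),
    ← Finset.card_filter_add_card_filter_not (s := Finset.univ.filter good)
      (fun χ : Cfsg.IrrCharacter G => Cfsg.charDegree (χ : G → ℂ) = 1),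
    Finset.filter_filter, Finset.filter_filter]
  change 4 * (L.card + E.card) ≤ 3 * (∑ χ ∈ L, _ + ∑ χ ∈ E, _)
  rw [Finset.sum_congr rfl (fun χ hχ => (Finset.mem_filter.mp hχ).2.2), Finset.sum_const,
    smul_eq_mul, mul_one]
  omega

end Cfsg.Agent.S4871
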