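import Cfsg.Statements.S4872
import Cfsg.Agent.BC87.FrobeniusSchur
import Cfsg.Agent.Lib.BlocksCore.DefectZero
import Cfsg.Agent.Lib.CharClifford.Clifford
import Cfsg.Agent.Lib.PGroup.Basic
import Mathlib.Algebra.BigOperators.Group.Finset.Basic
import Mathlib.Algebra.CharP.Two
import Mathlib.Data.ZMod.Basic

set_option autoImplicit false
set_option maxHeartbeats 1000000
open Cfsg

namespace Cfsg.Agent.S4872

open scoped ComplexConjugate

universe u

theorem exists_modular {p : ℕ} (hp : p.Prime) :
    ∃ M : Ideal Cfsg.AlgInt, Cfsg.IsPModular p M := by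
  have hne : Ideal.span {(p : Cfsg.AlgInt)} ≠ ⊤ := by
    rw [Ne, Ideal.span_singleton_eq_top, isUnit_iff_exists_inv]
    rintro ⟨b, hb⟩
    have hb' : (p : ℂ) * (b : ℂ) = 1 := by
      have := congrArg Subtype.val hb
      simpa using this
    have hd := CharClifford.dvd_of_mul_isIntegral (a := p) (b := 1) b.2
      (by push_cast; exact hb'.symm)
    exact hp.ne_one (Nat.dvd_one.mp hd)
  obtain ⟨M, hM, hle⟩ := Ideal.exists_le_maximal _ hne
  exact ⟨M, hp, hM, hle (Ideal.subset_span rfl)⟩

theorem eq_zero_of_defectZero {H : Type u} [Group H] [Finite H] (φ : Cfsg.IrrCharacter H)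
    (hdef : 2 ^ (Nat.card H).factorization 2 ∣ Cfsg.charDegree (φ : H → ℂ)) {g : H}
    (hg : 2 ∣ orderOf g) : (φ : H → ℂ) g = 0 := by
  have := Fintype.ofFinite H
  obtain ⟨M, hM⟩ := exists_modular Nat.prime_two
  refine BlocksCore.eq_zero_of_blockOf_eq_singleton hM φ
    (BlocksCore.blockOf_eq_singleton_of_not_dvd hM φ fun h2 => ?_) hg
  have h3 := Nat.mul_dvd_mul hdef h2
  rw [Nat.mul_div_cancel' (BC87.charDegree_dvd_card φ), ← pow_succ] at h3
  exact Nat.pow_succ_factorization_not_dvd Nat.card_pos.ne' Nat.prime_two h3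

/-- Over a normal subgroup with a `2`-group quotient, degree ratios are powers of two. -/
theorem exists_pow_degree : ∀ (i : ℕ) (G : Type u) [Group G] [Finite G] (N : Subgroup G)
    [N.Normal] [Fintype N], N.index ≤ i → IsPGroup 2 (G ⧸ N) →
    ∀ (χ : Cfsg.IrrCharacter G) (φ : Cfsg.IrrCharacter N),
      Cfsg.classInner (fun n : N => (χ : G → ℂ) n) φ ≠ 0 →
        ∃ j : ℕ, (χ : G → ℂ) 1 = 2 ^ j * (φ : N → ℂ) 1 := by
  intro i
  induction i with
  | zero =>
    intro G _ _ N _ _ hi
    exact absurd (Nat.le_zero.mp hi) Subgroup.index_ne_zero_of_finite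
  | succ i ih =>
    intro G _ _ N _ _ hi h2 χ φ hne
    classical
    have := Fintype.ofFinite G
    by_cases hN : N = ⊤
    · subst hN
      have hirr : Cfsg.IsIrrCharacter (⊤ : Subgroup G) (fun n : (⊤ : Subgroup G) => (χ : G → ℂ) n) :=
        CharCore.isIrrCharacter_comp_surjective χ.2 (⊤ : Subgroup G).subtype
          fun g => ⟨⟨g, trivial⟩, rfl⟩
      have heq : (⟨_, hirr⟩ : Cfsg.IrrCharacter (⊤ : Subgroup G)) = φ := by
        by_contra h
        exact hne (CharCore.classInner_irr_of_ne h)
      refine ⟨0, ?_⟩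
      rw [← heq]
      simp
    · have hnt : Nontrivial (Subgroup (G ⧸ N)) := by
        obtain ⟨x, -, hx⟩ := SetLike.exists_of_lt (lt_top_iff_ne_top.mpr hN)
        rw [Subgroup.nontrivial_iff]
        exact ⟨⟨(x : G ⧸ N), 1, fun h => hx ((QuotientGroup.eq_one_iff x).mp h)⟩⟩
      obtain ⟨M, hM, -⟩ := (eq_top_or_exists_le_coatom (⊥ : Subgroup (G ⧸ N))).resolve_left
        bot_ne_top
      have hMn := PGroup.normal_of_isCoatom h2 hM
      have hMi := PGroup.index_eq_prime_of_isCoatom h2 hM
      set H := M.comap (QuotientGroup.mk' N)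
      have hHn : H.Normal := hMn.comap _
      have hHi : H.index = 2 := by
        rw [Subgroup.index_comap_of_surjective _ (QuotientGroup.mk'_surjective N), hMi]
      have hNH : N ≤ H := fun n hn => by
        show (n : G ⧸ N) ∈ M
        rw [(QuotientGroup.eq_one_iff n).mpr hn]
        exact one_mem _
      -- restriction to `H`
      obtain ⟨θ, e, hθ, he, -, hres⟩ := CharClifford.clifford_restrict H χ.2
      set O := CharClifford.conjOrbit H θ
      have hOirr : ∀ ψ ∈ O, Cfsg.IsIrrCharacter H ψ := fun ψ hψ => by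
        obtain ⟨x, rfl⟩ := (CharClifford.mem_conjOrbit H).mp hψ
        exact CharClifford.isIrrCharacter_conjFun H hθ x
      have hnorm : (e : ℂ) ^ 2 * (O.card : ℂ) = Cfsg.classInner (fun h : H => (χ : G → ℂ) h)
          (fun h : H => (χ : G → ℂ) h) := by
        rw [hres, CharCore.classInner_smul_left, CharCore.classInner_smul_right, map_natCast,
          CharCore.classInner_sum_left, Finset.sum_congr rfl fun a ha => by
            rw [CharCore.classInner_sum_right, Finset.sum_eq_single a (fun b hb hab =>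
              CharCore.classInner_irr_of_ne (χ := ⟨a, hOirr a ha⟩) (ψ := ⟨b, hOirr b hb⟩)
                fun h => hab (congrArg Subtype.val h).symm) (fun h => absurd ha h),
              CharCore.classInner_irr_self ⟨a, hOirr a ha⟩],
          Finset.sum_const, nsmul_eq_mul, mul_one]
        ring
      have hnle : e ^ 2 * O.card ≤ 2 := by
        have h1 := CharCore.classInner_irr_self χ
        rw [CharCore.classInner_def, inv_mul_eq_one₀ (Nat.cast_ne_zero.mpr Nat.card_pos.ne')]
          at h1
        rw [CharCore.classInner_def, eq_inv_mul_iff_mul_eq₀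
          (Nat.cast_ne_zero.mpr Nat.card_pos.ne')] at hnorm
        have h3 : ((Nat.card H * (e ^ 2 * O.card) : ℕ) : ℝ) ≤ (Nat.card G : ℝ) := by
          have ha := congrArg Complex.re hnorm
          have hb := congrArg Complex.re h1
          simp only [Complex.re_sum, Complex.mul_conj, Complex.ofReal_re] at ha hb
          rw [Complex.natCast_re] at hb
          rw [hb]
          have : ((Nat.card H : ℂ) * ((e : ℂ) ^ 2 * (O.card : ℂ))) =
              ((Nat.card H * (e ^ 2 * O.card) : ℕ) : ℂ) := by push_cast; ring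
          rw [this, Complex.natCast_re] at ha
          rw [ha, ← Finset.sum_subtype (Finset.univ.filter (· ∈ H)) (fun x => by simp)
            (fun g => Complex.normSq ((χ : G → ℂ) g))]
          exact Finset.sum_le_sum_of_subset_of_nonneg (Finset.filter_subset _ _)
            fun g _ _ => Complex.normSq_nonneg _
        have h4 : Nat.card H * (e ^ 2 * O.card) ≤ Nat.card G := by exact_mod_cast h3
        rw [← Subgroup.index_mul_card H, hHi, mul_comm 2] at h4
        exact Nat.le_of_mul_le_mul_left h4 Nat.card_pos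
      have hdeg : ∀ ψ ∈ O, ψ 1 = θ 1 := fun ψ hψ => by
        obtain ⟨x, rfl⟩ := (CharClifford.mem_conjOrbit H).mp hψ
        rw [CharClifford.conjFun_apply]
        congr 1
        ext
        simp
      have hχ1 : (χ : G → ℂ) 1 = ((e * O.card : ℕ) : ℂ) * θ 1 := by
        have := congrFun hres 1
        simp only [OneMemClass.coe_one, Pi.smul_apply, Finset.sum_apply, smul_eq_mul] at this
        rw [this, Finset.sum_congr rfl hdeg, Finset.sum_const, nsmul_eq_mul]
        push_cast; ring
      obtain ⟨j₀, hj₀⟩ : ∃ j₀, e * O.card = 2 ^ j₀ := by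
        have h0 : 0 < O.card := Finset.card_pos.mpr ⟨θ, (CharClifford.mem_conjOrbit H).mpr
          ⟨1, CharClifford.conjFun_one H θ⟩⟩
        have h1 : e * O.card ≤ 2 := le_trans (Nat.mul_le_mul_right _ (Nat.le_self_pow two_ne_zero e)) hnle
        have h2' : 0 < e * O.card := Nat.mul_pos he h0
        rcases Nat.lt_or_ge (e * O.card) 2 with h | h
        · exact ⟨0, by rw [pow_zero]; omega⟩
        · exact ⟨1, by omega⟩
      -- a constituent of `χ|H` over `φ`
      let N' := N.subgroupOf H
      let ι := (Subgroup.subgroupOfEquivOfLe hNH)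
      have := Fintype.ofFinite N'
      let φ' : Cfsg.IrrCharacter N' :=
        ⟨_, CharCore.isIrrCharacter_comp_surjective φ.2 ι.toMonoidHom ι.surjective⟩
      have hinner : ∀ f : G → ℂ, Cfsg.classInner (fun a : N' => f ((a : H) : G)) φ' =
          Cfsg.classInner (fun n : N => f n) φ := by
        intro f
        rw [CharCore.classInner_def, CharCore.classInner_def, Nat.card_congr ι.toEquiv]
        congr 1
        exact Fintype.sum_equiv ι.toEquiv _ _ fun a => rfl
      obtain ⟨ψ, hψ, hψφ⟩ : ∃ ψ ∈ O, Cfsg.classInner (fun a : N' => ψ (a : H)) φ' ≠ 0 := by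
        by_contra hcon
        push Not at hcon
        refine hne ?_
        rw [← hinner, show (fun a : N' => (χ : G → ℂ) ((a : H) : G)) =
          (e : ℂ) • ∑ ψ ∈ O, fun a : N' => ψ (a : H) from funext fun a => by
            have := congrFun hres (a : H)
            simpa [Finset.sum_apply] using this,
          CharCore.classInner_smul_left, CharCore.classInner_sum_left,
          Finset.sum_eq_zero hcon, mul_zero]
      have hN' : N'.index ≤ i := by
        have h1 : N.relIndex H * H.index = N.index := Subgroup.relIndex_mul_index hNH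
        have h0 : 0 < N.relIndex H := Nat.pos_of_ne_zero (Subgroup.index_ne_zero_of_finite (H := N'))
        have h3 : N'.index = N.relIndex H := rfl
        rw [hHi] at h1
        omega
      have h2' : IsPGroup 2 (H ⧸ N') :=
        h2.of_injective (QuotientGroup.map N' N H.subtype fun a ha => ha) (by
          rw [← MonoidHom.ker_eq_bot_iff, eq_bot_iff]
          intro q hq
          obtain ⟨a, rfl⟩ := QuotientGroup.mk_surjective q
          rw [Subgroup.mem_bot, QuotientGroup.eq_one_iff]
          exact (QuotientGroup.eq_one_iff (a : G)).mp hq)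
      obtain ⟨j, hj⟩ := ih H N' hN' h2' ⟨ψ, hOirr ψ hψ⟩ φ' hψφ
      refine ⟨j₀ + j, ?_⟩
      have hφ1 : (φ' : N' → ℂ) 1 = (φ : N → ℂ) 1 := by simp [φ']
      simp only [hdeg ψ hψ, hφ1] at hj
      rw [hχ1, hj₀, hj, pow_add]
      push_cast; ring

/-- Let N be a normal subgroup of the finite group G with G/N a 2-group, and let φ be an irreducible complex character of N of 2-defect zero (the 2-part of #N divides φ(1)) whose complex conjugate is G-conjugate to φ. Then some irreducible character of G with Frobenius–Schur indicator +1 contains φ with multiplicity exactly one on restriction to N. -/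
theorem result {G : Type*} [Group G] [Finite G] (N : Subgroup G) [N.Normal] (h2 : IsPGroup 2 (G ⧸ N)) (φ : Cfsg.IrrCharacter ↥N) (hdef : 2 ^ (Nat.card ↥N).factorization 2 ∣ Cfsg.charDegree (φ : ↥N → ℂ)) (hconj : ∃ g : G, ∀ n n' : ↥N, (n' : G) = g * (n : G) * g⁻¹ → (φ : ↥N → ℂ) n' = (starRingEnd ℂ) ((φ : ↥N → ℂ) n)) : ∃ χ : Cfsg.IrrCharacter G, (Nat.card G : ℂ)⁻¹ * ∑ᶠ g : G, (χ : G → ℂ) (g * g) = 1 ∧ (Nat.card ↥N : ℂ)⁻¹ * ∑ᶠ n : ↥N, (χ : G → ℂ) n * (starRingEnd ℂ) ((φ : ↥N → ℂ) n) = 1 := by
  classical
  have := Fintype.ofFinite G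
  have := Fintype.ofFinite N
  let S : Sylow 2 G := default
  have := Fintype.ofFinite (S : Subgroup G)
  obtain ⟨g₀, hg₀⟩ := hconj
  have hφ' : CharClifford.conjFun N g₀ (φ : N → ℂ) = fun n => conj ((φ : N → ℂ) n) :=
    funext fun n => hg₀ n _ rfl
  choose m hm using fun χ : Cfsg.IrrCharacter G =>
    CharCore.IsCharacter.exists_classInner_irr_eq_natCast
      (CharCore.isCharacter_restrict (CharCore.irr_isCharacter χ) N) φ
  choose a ha using fun χ : Cfsg.IrrCharacter G =>
    CharCore.IsCharacter.exists_classInner_irr_eq_natCast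
      (CharCore.isCharacter_restrict (CharCore.irr_isCharacter χ) (S : Subgroup G))
      (BC87.triv (S : Subgroup G))
  -- the total is odd
  have hvan : ∀ (n : N) (s : (S : Subgroup G)), (φ : N → ℂ) n ≠ 0 → IsConj (n : G) (s : G) →
      n = 1 ∧ s = 1 := by
    intro n s hn hns
    obtain ⟨c, hc⟩ := isConj_iff.mp hns
    have hord : orderOf (n : G) = orderOf (s : G) := by
      rw [← hc]; exact (MulEquiv.orderOf_eq (MulAut.conj c) (n : G)).symm
    obtain ⟨j, hj⟩ := IsPGroup.iff_orderOf.mp S.isPGroup' s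
    rw [← Subgroup.orderOf_coe] at hj
    rw [hj, Subgroup.orderOf_coe] at hord
    have hn1 : n = 1 := by
      rcases Nat.eq_zero_or_pos j with rfl | h0
      · exact orderOf_eq_one_iff.mp (by simpa using hord)
      · exact absurd (eq_zero_of_defectZero φ hdef (hord ▸ dvd_pow_self 2 h0.ne')) hn
    refine ⟨hn1, Subtype.ext ?_⟩
    rw [← hc, hn1]
    simp
  have htot : ((∑ χ, m χ * a χ : ℕ) : ℂ) * ((Nat.card N : ℂ) * Nat.card (S : Subgroup G)) =
      (Cfsg.charDegree (φ : N → ℂ) : ℂ) * Nat.card G := by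
    push_cast
    have h1 : ∀ χ : Cfsg.IrrCharacter G, (m χ : ℂ) * (a χ : ℂ) *
        ((Nat.card N : ℂ) * Nat.card (S : Subgroup G)) = ∑ n : N, ∑ s : (S : Subgroup G),
          conj ((φ : N → ℂ) n) * ((χ : G → ℂ) n * conj ((χ : G → ℂ) s)) := by
      intro χ
      have e1 : (a χ : ℂ) = conj (a χ : ℂ) := (Complex.conj_natCast _).symm
      rw [e1, ← hm χ, ← ha χ, CharCore.classInner_def, CharCore.classInner_def, map_mul, map_inv₀,
        Complex.conj_natCast, map_sum]
      simp only [BC87.triv_apply, map_one, mul_one]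
      have hN0 : (Nat.card N : ℂ) ≠ 0 := Nat.cast_ne_zero.mpr Nat.card_pos.ne'
      have hS0 : (Nat.card (S : Subgroup G) : ℂ) ≠ 0 := Nat.cast_ne_zero.mpr Nat.card_pos.ne'
      field_simp
      rw [Finset.sum_mul_sum]
      exact Finset.sum_congr rfl fun n _ => Finset.sum_congr rfl fun s _ => by ring
    rw [Finset.sum_mul, Finset.sum_congr rfl fun χ _ => h1 χ, Finset.sum_comm]
    rw [Finset.sum_congr rfl fun n _ => Finset.sum_comm]
    simp only [← Finset.mul_sum, CharCore.sum_apply_mul_conj, mul_ite, mul_zero]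
    rw [Finset.sum_eq_single (1 : N) (fun n _ hn => Finset.sum_eq_zero fun s _ => ?_) (by simp),
      Finset.sum_eq_single (1 : (S : Subgroup G)) (fun s _ hs => ?_) (by simp)]
    · rw [if_pos (by simp), BC87.apply_one_eq, Complex.conj_natCast]
      congr 2
      rw [show Subgroup.centralizer ({((1 : N) : G)} : Set G) = ⊤ from by
        ext; simp [Subgroup.mem_centralizer_iff]]
      exact Subgroup.card_top
    · split_ifs with hc
      · exact absurd (hvan 1 s (CharCore.irr_apply_one_ne_zero φ) hc).2 hs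
      · rfl
    · split_ifs with hc
      · by_contra h0
        exact hn (hvan n s (fun e => h0 (by simp [e])) hc).1
      · rfl
  have hnat : (∑ χ, m χ * a χ) * (Nat.card N * Nat.card (S : Subgroup G)) =
      Cfsg.charDegree (φ : N → ℂ) * Nat.card G := by exact_mod_cast htot
  have hodd : Odd (∑ χ, m χ * a χ) := by
    rw [← Nat.not_even_iff_odd, even_iff_two_dvd]
    intro h2d
    have hS := S.card_eq_multiplicity
    have hd0 := (BC87.charDegree_pos φ).ne'
    have h3 : (Cfsg.charDegree (φ : N → ℂ)).factorization 2 ≤ (Nat.card N).factorization 2 :=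
      (Nat.factorization_le_iff_dvd hd0 Nat.card_pos.ne').mpr (BC87.charDegree_dvd_card φ) 2
    have h4 : 2 ^ ((Nat.card N).factorization 2 + (Nat.card G).factorization 2 + 1) ∣
        Cfsg.charDegree (φ : N → ℂ) * Nat.card G := by
      rw [← hnat, hS, pow_succ', pow_add]
      exact Nat.mul_dvd_mul h2d (Nat.mul_dvd_mul (Nat.ordProj_dvd _ _) dvd_rfl)
    have h5 := (Nat.prime_two.pow_dvd_iff_le_factorization
      (Nat.mul_ne_zero hd0 Nat.card_pos.ne')).mp h4
    rw [Nat.factorization_mul hd0 Nat.card_pos.ne', Finsupp.add_apply] at h5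
    omega
  -- complex conjugation
  let σ : Cfsg.IrrCharacter G → Cfsg.IrrCharacter G := fun χ =>
    ⟨fun g => conj ((χ : G → ℂ) g), CharCore.isIrrCharacter_star χ.2⟩
  have hσm : ∀ χ, m (σ χ) = m χ := fun χ => by
    have h1 := hm χ
    rw [← CharClifford.classInner_restrict_conjFun N (CharCore.irr_isClassFunction χ) _ g₀,
      hφ'] at h1
    have h2 := congrArg conj h1
    rw [Complex.conj_natCast] at h2
    have h3 := hm (σ χ)
    simp only [CharCore.classInner_def, map_mul, map_sum, map_inv₀, Complex.conj_natCast,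
      Complex.conj_conj] at h2 h3
    exact_mod_cast h3.symm.trans h2
  have hσa : ∀ χ, a (σ χ) = a χ := fun χ => by
    have h2 := congrArg conj (ha χ)
    rw [Complex.conj_natCast] at h2
    have h3 := ha (σ χ)
    simp only [CharCore.classInner_def, map_mul, map_sum, map_inv₀, Complex.conj_natCast,
      BC87.triv_apply, map_one] at h2 h3
    exact_mod_cast h3.symm.trans h2
  obtain ⟨χ, hreal, hma⟩ : ∃ χ : Cfsg.IrrCharacter G, σ χ = χ ∧ Odd (m χ * a χ) := by
    by_contra hcon
    push Not at hcon
    have h0 : ((∑ χ, m χ * a χ : ℕ) : ZMod 2) = 0 := by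
      rw [Nat.cast_sum]
      refine Finset.sum_involution (fun χ _ => σ χ) (fun χ _ => ?_) (fun χ _ hne heq => hne ?_)
        (fun χ _ => Finset.mem_univ _) (fun χ _ => Subtype.ext (funext fun g => Complex.conj_conj _))
      · rw [hσm, hσa, CharTwo.add_self_eq_zero]
      · exact ZMod.natCast_eq_zero_iff_even.mpr (Nat.not_odd_iff_even.mp (hcon χ heq))
    exact Nat.not_even_iff_odd.mpr hodd (ZMod.natCast_eq_zero_iff_even.mp h0)
  obtain ⟨hmo, hao⟩ := Nat.odd_mul.mp hma
  have hr : ∀ g, ((χ : G → ℂ) g).im = 0 := fun g =>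
    Complex.conj_eq_iff_im.mp (congrFun (congrArg Subtype.val hreal) g)
  refine ⟨χ, BC87.nu_eq_one_of_odd hr (S : Subgroup G) hao (ha χ), ?_⟩
  have hmφ : Cfsg.classInner (fun n : N => (χ : G → ℂ) n) φ ≠ 0 := by
    rw [hm]; exact Nat.cast_ne_zero.mpr hmo.pos.ne'
  obtain ⟨j, hj⟩ := exists_pow_degree N.index G N le_rfl h2 χ φ hmφ
  obtain ⟨θ, e, hθ, he, heq, hres⟩ := CharClifford.clifford_restrict N χ.2
  obtain ⟨x, hx⟩ := CharClifford.exists_conjFun_eq_of_constituents N χ.2 hθ φ.2
    (by rw [heq]; exact Nat.cast_ne_zero.mpr he.ne') hmφ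
  have hem : e = m χ := by
    have h1 := CharClifford.classInner_restrict_conjFun N (CharCore.irr_isClassFunction χ) θ x
    rw [← hx, hm, heq] at h1
    exact_mod_cast h1.symm
  have hdvd : m χ ∣ 2 ^ j := by
    refine ⟨(CharClifford.conjOrbit N θ).card, ?_⟩
    have hdeg : ∀ ψ ∈ CharClifford.conjOrbit N θ, ψ 1 = (φ : N → ℂ) 1 := fun ψ hψ => by
      obtain ⟨y, rfl⟩ := (CharClifford.mem_conjOrbit N).mp hψ
      rw [hx, CharClifford.conjFun_apply, CharClifford.conjFun_apply]
      congr 1
      ext
      simp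
    have := congrFun hres 1
    simp only [OneMemClass.coe_one, Pi.smul_apply, Finset.sum_apply, smul_eq_mul] at this
    rw [hj, Finset.sum_congr rfl hdeg, Finset.sum_const, nsmul_eq_mul, ← mul_assoc, hem] at this
    exact_mod_cast mul_right_cancel₀ (CharCore.irr_apply_one_ne_zero φ) this
  obtain ⟨k, -, hk⟩ := (Nat.dvd_prime_pow Nat.prime_two).mp hdvd
  have hm1 : m χ = 1 := by
    rcases k with _ | k
    · simpa using hk
    · exact absurd hmo (Nat.not_odd_iff_even.mpr (hk ▸ (Nat.even_pow.mpr ⟨even_two, by omega⟩)))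
  have := hm χ
  rw [hm1, Nat.cast_one, CharCore.classInner_def] at this
  rw [finsum_eq_sum_of_fintype]
  exact this

end Cfsg.Agent.S4872
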