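import Cfsg.Statements.S4873
import Cfsg.Agent.BC87.FrobeniusSchur
import Cfsg.Agent.BC87.RealOrbits
import Cfsg.Agent.S0160

set_option autoImplicit false
open Cfsg

namespace Cfsg.Agent.S4873

open scoped ComplexConjugate

variable {G : Type*} [Group G] [Finite G] (N : Subgroup G) [N.Normal]

/-- `∑ ν(χ) [χ|N, θ] = ν(θ)` for a normal subgroup of odd index. -/
theorem sum_nu_mul [Fintype N] (hodd : Odd N.index) (θ : Cfsg.IrrCharacter N) :
    ∑ χ : Cfsg.IrrCharacter G,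
      BC87.nu (χ : G → ℂ) * Cfsg.classInner (fun n : N => (χ : G → ℂ) n) θ =
      BC87.nu (θ : N → ℂ) := by
  have hmem : ∀ s : G, s * s ∈ N → s ∈ N := fun s hs => by
    obtain ⟨i, hi⟩ := hodd
    have := Subgroup.pow_index_mem N s
    rw [hi, pow_succ, pow_mul, sq] at this
    exact (Subgroup.mul_mem_cancel_left N (N.pow_mem hs i)).mp this
  have hfun : ∑ χ : Cfsg.IrrCharacter G, BC87.nu (χ : G → ℂ) • (fun n : N => (χ : G → ℂ) n) =
      ∑ η : Cfsg.IrrCharacter N, BC87.nu (η : N → ℂ) • (η : N → ℂ) := by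
    funext n
    simp only [Finset.sum_apply, Pi.smul_apply, smul_eq_mul]
    rw [← BC87.card_sqrt, ← BC87.card_sqrt]
    congr 1
    exact Nat.card_congr
      { toFun := fun s => ⟨⟨s.1, hmem s.1 (by rw [s.2]; exact n.2)⟩, Subtype.ext s.2⟩
        invFun := fun s => ⟨s.1.1, congrArg Subtype.val s.2⟩
        left_inv := fun s => rfl
        right_inv := fun s => rfl }
  have h := congrArg (fun f => Cfsg.classInner f (θ : N → ℂ)) hfun
  simp only [CharCore.classInner_sum_left, CharCore.classInner_smul_left] at h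
  rw [h]
  classical
  simp [CharCore.classInner_irr]

omit [Finite G] in
/-- A real element of `G` lies in `N` and is real there. -/
theorem real_mem (hodd : Odd N.index) {g : G} (h : IsConj g g⁻¹) :
    ∃ hg : g ∈ N, IsConj (⟨g, hg⟩ : N) ⟨g, hg⟩⁻¹ := by
  obtain ⟨c, hc⟩ := isConj_iff.mp h
  obtain ⟨i, hi⟩ := hodd
  have hc' : Commute (c * c) g := by
    have : c * c * g * (c * c)⁻¹ = g := by
      calc c * c * g * (c * c)⁻¹ = c * (c * g * c⁻¹) * c⁻¹ := by group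
        _ = c * g⁻¹ * c⁻¹ := by rw [hc]
        _ = (c * g * c⁻¹)⁻¹ := by group
        _ = g := by rw [hc, inv_inv]
    exact mul_inv_eq_iff_eq_mul.mp this
  have hd : c ^ N.index * g * (c ^ N.index)⁻¹ = g⁻¹ := by
    rw [hi, pow_succ', pow_mul, sq, mul_inv_rev]
    calc c * (c * c) ^ i * g * (((c * c) ^ i)⁻¹ * c⁻¹)
        = c * ((c * c) ^ i * g * ((c * c) ^ i)⁻¹) * c⁻¹ := by group
      _ = g⁻¹ := by rw [(hc'.pow_left i).eq, mul_inv_cancel_right, hc]
  have hmem : g ∈ N := by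
    have hc0 : ((c ^ N.index : G) : G ⧸ N) = 1 :=
      (QuotientGroup.eq_one_iff _).mpr (Subgroup.pow_index_mem N c)
    have h1 : (g : G ⧸ N) = (g : G ⧸ N)⁻¹ := by
      have := congrArg (fun x : G => (x : G ⧸ N)) hd
      simpa [hc0] using this
    have h2 : (g : G ⧸ N) ^ 2 = 1 := by rw [sq]; exact eq_inv_iff_mul_eq_one.mp h1
    have h4 : (g : G ⧸ N) ^ (2 * i + 1) = 1 := by
      rw [← hi, ← QuotientGroup.mk_pow]
      exact (QuotientGroup.eq_one_iff _).mpr (Subgroup.pow_index_mem N g)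
    rw [pow_succ, pow_mul, h2, one_pow, one_mul] at h4
    exact (QuotientGroup.eq_one_iff g).mp h4
  exact ⟨hmem, isConj_iff.mpr ⟨⟨_, Subgroup.pow_index_mem N c⟩, Subtype.ext hd⟩⟩

/-- Let N be a normal subgroup of odd index in the finite group G. Then every irreducible complex character of N with Frobenius–Schur indicator +1 lies under exactly one irreducible character of G with Frobenius–Schur indicator +1. -/
theorem result {G : Type*} [Group G] [Finite G] (N : Subgroup G) [N.Normal] (hodd : Odd N.index) (φ : Cfsg.IrrCharacter ↥N) (hφ : (Nat.card ↥N : ℂ)⁻¹ * ∑ᶠ g : ↥N, (φ : ↥N → ℂ) (g * g) = 1) : ∃! χ : Cfsg.IrrCharacter G, (Nat.card G : ℂ)⁻¹ * ∑ᶠ g : G, (χ : G → ℂ) (g * g) = 1 ∧ (∑ᶠ n : ↥N, (χ : G → ℂ) n * (starRingEnd ℂ) ((φ : ↥N → ℂ) n)) ≠ 0 := by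
  classical
  have := Fintype.ofFinite G
  have := Fintype.ofFinite N
  let m : Cfsg.IrrCharacter G → Cfsg.IrrCharacter N → ℂ := fun χ θ =>
    Cfsg.classInner (fun n : N => (χ : G → ℂ) n) θ
  have hm : ∀ χ : Cfsg.IrrCharacter G,
      (∑ᶠ n : N, (χ : G → ℂ) n * (starRingEnd ℂ) ((φ : N → ℂ) n)) ≠ 0 ↔ m χ φ ≠ 0 := fun χ => by
    rw [finsum_eq_sum_of_fintype]
    simp [m, CharCore.classInner_def]
  let Rθ := {θ : Cfsg.IrrCharacter N // ∀ k : N, ((θ : N → ℂ) k).im = 0}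
  let r : Rθ → Rθ → Prop := fun θ η => ∃ g : G, ∀ k k' : N, (k' : G) = g * (k : G) * g⁻¹ →
    (η.1 : N → ℂ) k' = (θ.1 : N → ℂ) k
  have hex : ∀ θ : Rθ, ∃ χ : {χ : Cfsg.IrrCharacter G // ∀ g : G, ((χ : G → ℂ) g).im = 0},
      m χ.1 θ.1 ≠ 0 := fun θ => by
    have h := sum_nu_mul N hodd θ.1
    obtain ⟨χ, -, hχ⟩ := Finset.exists_ne_zero_of_sum_ne_zero (s := Finset.univ) (by
      rw [h]; rcases BC87.nu_eq_one_or θ.2 with h1 | h1 <;> simp [h1])
    exact ⟨⟨χ, BC87.nu_real (left_ne_zero_of_mul hχ)⟩, right_ne_zero_of_mul hχ⟩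
  choose Ψ hΨ using hex
  let F : Quot r → {χ : Cfsg.IrrCharacter G // ∀ g : G, ((χ : G → ℂ) g).im = 0} :=
    fun o => Ψ o.out
  have hF : Function.Injective F := by
    intro o o' he
    rw [← o.out_eq, ← o'.out_eq]
    refine Quot.sound ?_
    have h2 := hΨ o'.out
    rw [show Ψ o'.out = Ψ o.out from he.symm] at h2
    obtain ⟨x, hx⟩ := CharClifford.exists_conjFun_eq_of_constituents N (Ψ o.out).1.2 o'.out.1.2
      o.out.1.2 h2 (hΨ o.out)
    refine ⟨x, fun k k' hk => ?_⟩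
    rw [hx]
    exact congrArg (o'.out.1 : N → ℂ) (Subtype.ext hk)
  have hcard : Nat.card (Quot r) =
      Nat.card {χ : Cfsg.IrrCharacter G // ∀ g : G, ((χ : G → ℂ) g).im = 0} := by
    rw [BC87.card_real_orbits N hodd, S0160.result]
    let Q := fun x y : {x : N // IsConj x x⁻¹} => ∃ g : G, (y.1 : G) = g * x.1 * g⁻¹
    let toC : Quot Q → {C : ConjClasses G // ∀ g : G, ConjClasses.mk g = C → IsConj g g⁻¹} :=
      Quot.lift (fun x => ⟨ConjClasses.mk (x.1 : G), fun g hg => by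
        have h1 := ConjClasses.mk_eq_mk_iff_isConj.mp hg
        have h2 : IsConj (x.1 : G) (x.1 : G)⁻¹ := N.subtype.map_isConj x.2
        exact h1.trans (h2.trans (BC87.isConj_inv h1).symm)⟩)
        fun x y ⟨g, hg⟩ => Subtype.ext (ConjClasses.mk_eq_mk_iff_isConj.mpr
          (isConj_iff.mpr ⟨g, hg.symm⟩))
    refine Nat.card_congr (Equiv.ofBijective toC ⟨?_, ?_⟩)
    · intro a b
      induction a using Quot.ind with
      | _ x =>
      induction b using Quot.ind with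
      | _ y =>
      intro he
      obtain ⟨c, hc⟩ := isConj_iff.mp
        (ConjClasses.mk_eq_mk_iff_isConj.mp (congrArg Subtype.val he))
      exact Quot.sound ⟨c, hc.symm⟩
    · rintro ⟨C, hC⟩
      obtain ⟨g, rfl⟩ := ConjClasses.exists_rep C
      obtain ⟨hg, hgr⟩ := real_mem N hodd (hC g rfl)
      exact ⟨Quot.mk _ ⟨⟨g, hg⟩, hgr⟩, rfl⟩
  have hbij : Function.Bijective F := (Nat.bijective_iff_injective_and_card F).mpr ⟨hF, hcard⟩
  have hνeq : BC87.nu (φ : N → ℂ) = 1 := hφ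
  have hφr : ∀ k : N, ((φ : N → ℂ) k).im = 0 := BC87.nu_real (by rw [hνeq]; exact one_ne_zero)
  have huniq : ∀ χ : Cfsg.IrrCharacter G, ∀ hr : (∀ g : G, ((χ : G → ℂ) g).im = 0),
      m χ φ ≠ 0 → (⟨χ, hr⟩ : {χ : Cfsg.IrrCharacter G // ∀ g : G, ((χ : G → ℂ) g).im = 0}) =
        F (Quot.mk r ⟨φ, hφr⟩) := by
    intro χ hr hne
    obtain ⟨o, ho⟩ := hbij.2 ⟨χ, hr⟩
    rw [← ho]
    congr 1
    rw [← o.out_eq]
    refine (Quot.sound ?_).symm
    have h1 := hΨ o.out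
    rw [show Ψ o.out = ⟨χ, hr⟩ from ho] at h1
    obtain ⟨x, hx⟩ := CharClifford.exists_conjFun_eq_of_constituents N χ.2 o.out.1.2 φ.2 h1 hne
    refine ⟨x, fun k k' hk => ?_⟩
    show (o.out.1 : N → ℂ) k' = (φ : N → ℂ) k
    rw [hx]
    exact congrArg (o.out.1 : N → ℂ) (Subtype.ext hk)
  have hsum := sum_nu_mul N hodd φ
  rw [hνeq] at hsum
  set χ₀ := (F (Quot.mk r ⟨φ, hφr⟩)).1
  have honly : ∀ χ : Cfsg.IrrCharacter G, BC87.nu (χ : G → ℂ) ≠ 0 → m χ φ ≠ 0 → χ = χ₀ :=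
    fun χ hν hne => congrArg Subtype.val (huniq χ (BC87.nu_real hν) hne)
  rw [Finset.sum_eq_single χ₀ (fun χ _ hne => by
    by_contra h0
    exact hne (honly χ (left_ne_zero_of_mul h0) (right_ne_zero_of_mul h0))) (by simp)] at hsum
  have hm0 : m χ₀ φ ≠ 0 := fun h0 => by
    simp only [m] at h0
    simp [h0] at hsum
  refine ⟨χ₀, ⟨?_, (hm χ₀).mpr hm0⟩, fun χ hχ => ?_⟩
  · obtain ⟨k, hk⟩ := CharCore.IsCharacter.exists_classInner_irr_eq_natCast
      (CharCore.isCharacter_restrict (CharCore.irr_isCharacter χ₀) N) φ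
    rw [hk] at hsum
    rcases BC87.nu_eq_one_or (χ := χ₀) (F (Quot.mk r ⟨φ, hφr⟩)).2 with h1 | h1
    · exact h1
    · exfalso
      rw [h1] at hsum
      have h2 : ((k + 1 : ℕ) : ℂ) = 0 := by push_cast; linear_combination -hsum
      exact Nat.succ_ne_zero k (by exact_mod_cast h2)
  · refine honly χ ?_ ((hm χ).mp hχ.2)
    have h1 : BC87.nu (χ : G → ℂ) = 1 := hχ.1
    rw [h1]; exact one_ne_zero

end Cfsg.Agent.S4873
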