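import Cfsg.Statements.S4885
import Cfsg.Agent.BC87.CommSylowBlock

set_option autoImplicit false
open Cfsg

namespace Cfsg.Agent.S4885

/-- Let p and q be primes dividing the order of the finite group G, and suppose G is p-solvable and q-solvable. Fix maximal ideals of the algebraic integers containing p and q, defining the principal p-block and the principal q-block. If the irreducible characters of degree prime to p in the principal p-block are exactly the irreducible characters of degree prime to q in the principal q-block, then p = q. -/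
theorem result {G : Type*} [Group G] [Finite G] (p q : ℕ) [Fact p.Prime] [Fact q.Prime] (hp : p ∣ Nat.card G) (hq : q ∣ Nat.card G) (hps : Cfsg.IsPSolvable p G) (hqs : Cfsg.IsPSolvable q G) (Mp Mq : Ideal Cfsg.AlgInt) (hMp : Cfsg.IsPModular p Mp) (hMq : Cfsg.IsPModular q Mq) (h : ∀ χ : Cfsg.IrrCharacter G, (χ ∈ Cfsg.principalBlock Mp G ∧ ¬ p ∣ Cfsg.charDegree (χ : G → ℂ)) ↔ (χ ∈ Cfsg.principalBlock Mq G ∧ ¬ q ∣ Cfsg.charDegree (χ : G → ℂ))) : p = q := by
  by_contra hpq
  have hc : BC87.CommSylow.Commuting p q G := BC87.CommSylow.commuting_of_hdeg hpq _ G rfl hps hqs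
    (fun χ hχ hd => ((h χ).mp
      ⟨(BC87.CommSylow.mem_principalBlock_iff_le_kerChar hMp hps χ).mpr hχ, hd⟩).2)
    (fun χ hχ hd => ((h χ).mpr
      ⟨(BC87.CommSylow.mem_principalBlock_iff_le_kerChar hMq hqs χ).mpr hχ, hd⟩).2)
  have h2 := BC87.CommSylow.not_dvd_index_of_commuting (Ne.symm hpq) hqs hc.symm
  set N := Cfsg.pPrimeCore p G with hN
  have hπ : Function.Surjective (QuotientGroup.mk' N) := QuotientGroup.mk'_surjective N
  let R := (Cfsg.pPrimeCore q G).map (QuotientGroup.mk' N)
  haveI : R.Normal := Thompson.instPPrimeCoreNormal.map _ hπ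
  refine BC87.CommSylow.not_dvd_card_of_forall_le_kerChar (p := p) R
    (fun hd => h2 (hd.trans (Subgroup.index_map_dvd _ hπ))) (fun θ hθ => ?_) ?_
  · rintro _ ⟨x, hx, rfl⟩
    let χ := (BC87.inflEquiv N θ).1
    have hker : N ≤ BC87.kerChar χ := (BC87.inflEquiv N θ).2
    have hd : Cfsg.charDegree (χ : G → ℂ) = Cfsg.charDegree (θ : G ⧸ N → ℂ) :=
      BC87.charDegree_eq (by
        rw [BC87.inflEquiv_apply, QuotientGroup.mk_one]; exact BC87.apply_one_eq θ)
    have hχ := (h χ).mp
      ⟨(BC87.CommSylow.mem_principalBlock_iff_le_kerChar hMp hps χ).mpr hker, by rw [hd]; exact hθ⟩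
    have hk := (BC87.CommSylow.mem_principalBlock_iff_le_kerChar hMq hqs χ).mp hχ.1 hx
    rw [BC87.mem_kerChar, BC87.inflEquiv_apply, BC87.inflEquiv_apply, QuotientGroup.mk_one] at hk
    exact hk
  · rw [← Subgroup.index_eq_card]
    rw [← Subgroup.index_mul_card N] at hp
    exact ((Fact.out : p.Prime).dvd_mul.mp hp).resolve_right
      ((Fact.out : p.Prime).coprime_iff_not_dvd.mp
        (Thompson.card_pPrimeCore_coprime (p := p) (G := G)).symm)

end Cfsg.Agent.S4885
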