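import Cfsg.Statements.S4888
import Cfsg.Agent.Lib.BlocksDefect.Covering
import Cfsg.Agent.Lib.BlocksDefect.Congruence
import Cfsg.Agent.Lib.Transfer.Residual
import Cfsg.Agent.Blocks88.Modular
import Cfsg.Agent.CharDeep.Ext.Wrap
import Cfsg.Agent.BC84.Covering
import Cfsg.Agent.BC87.Basic

set_option autoImplicit false
open Cfsg

namespace Cfsg.Agent.S4888

open BlocksCore BlocksDefect BC87 Transfer

variable {G : Type*} [Group G] [Finite G] {p : ℕ} {M : Ideal Cfsg.AlgInt}

omit [Finite G] in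
theorem triv_eq : (triv G : G → ℂ) = fun _ => (1 : ℂ) := rfl

theorem one_mem_principalBlock [M.IsPrime] : triv G ∈ Cfsg.principalBlock M G :=
  sameBlock_refl (fun _ : G => (1 : ℂ))

theorem blockHeight_principal [M.IsPrime] (χ : Cfsg.IrrCharacter G) :
    Cfsg.blockHeight p (Cfsg.principalBlock M G) (χ : G → ℂ) =
      (Cfsg.charDegree (χ : G → ℂ)).factorization p := by
  have h : sInf ((fun ψ : Cfsg.IrrCharacter G =>
      (Cfsg.charDegree (ψ : G → ℂ)).factorization p) '' Cfsg.principalBlock M G) = 0 := by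
    refine Nat.le_zero.mp (Nat.sInf_le ⟨triv G, one_mem_principalBlock, ?_⟩)
    simp [charDegree_eq (χ := (triv G : G → ℂ)) (n := 1) (by simp)]
  rw [Cfsg.blockHeight, h, Nat.sub_zero]

variable [hp : Fact p.Prime]

/-- With a normal complement the characters of height zero in the principal block are linear. -/
theorem degree_eq_one_of_complement (hM : Cfsg.IsPModular p M)
    (h : Cfsg.HasNormalPComplement p G) (χ : Cfsg.IrrCharacter G)
    (hχ : χ ∈ Cfsg.principalBlock M G)
    (h0 : Cfsg.blockHeight p (Cfsg.principalBlock M G) (χ : G → ℂ) = 0) :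
    Cfsg.charDegree (χ : G → ℂ) = 1 := by
  have := isPrime hM
  set K := Cfsg.pResidual p G with hK
  have hker : K ≤ kerChar χ := fun k hk =>
    kernel_of_sameBlock hM (χ := triv G) (ψ := χ) hχ K (hasNormalPComplement_iff_not_dvd.mp h)
      (fun n _ => by simp) k hk
  obtain ⟨θ, hθ⟩ := (inflEquiv K).surjective ⟨χ, hker⟩
  have h1 : (θ : G ⧸ K → ℂ) 1 = (χ : G → ℂ) 1 :=
    congrArg (fun ψ : {χ : Cfsg.IrrCharacter G // K ≤ kerChar χ} => (ψ.1 : G → ℂ) 1) hθ
  have hd : Cfsg.charDegree (θ : G ⧸ K → ℂ) = Cfsg.charDegree (χ : G → ℂ) := by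
    unfold Cfsg.charDegree; rw [h1]
  obtain ⟨n, hn⟩ := (IsPGroup.iff_card (p := p)).mp
    (isPGroup_quotient_pResidual (p := p) (G := G))
  have hdvd := BC87.charDegree_dvd_card θ
  rw [hd, hn] at hdvd
  obtain ⟨j, -, hj⟩ := (Nat.dvd_prime_pow hp.out).mp hdvd
  rw [blockHeight_principal, hj, Nat.factorization_pow, Finsupp.smul_apply,
    hp.out.factorization_self, smul_eq_mul, mul_one] at h0
  rw [hj, h0, pow_zero]

omit hp [Finite G] in
/-- The homomorphisms to the units which lie in the principal block form a group. -/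
theorem linear_block_mul [M.IsPrime] {a b : G →* ℂˣ}
    (ha : Cfsg.SameBlock M (fun _ : G => (1 : ℂ)) (fun g => (a g : ℂ)))
    (hb : Cfsg.SameBlock M (fun _ : G => (1 : ℂ)) (fun g => (b g : ℂ)))
    (hint : ∀ g, IsIntegral ℤ (a g : ℂ)) :
    Cfsg.SameBlock M (fun _ : G => (1 : ℂ)) (fun g => ((a * b) g : ℂ)) := by
  intro g
  have h := memLocalIdeal_add (ha g)
    (memLocalIdeal_mul_left (memLocalRing_of_isIntegral (hint g)) (hb g))
  simp only [Cfsg.centralChar, map_one, MonoidHom.mul_apply, Units.val_mul, Units.val_one, div_one,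
    mul_one] at h ⊢
  convert h using 1
  ring

omit hp [Finite G] in
theorem linear_block_inv [M.IsPrime] {a : G →* ℂˣ}
    (ha : Cfsg.SameBlock M (fun _ : G => (1 : ℂ)) (fun g => (a g : ℂ)))
    (hint : ∀ g, IsIntegral ℤ ((a g)⁻¹ : ℂˣ).val) :
    Cfsg.SameBlock M (fun _ : G => (1 : ℂ)) (fun g => (a⁻¹ g : ℂ)) := by
  intro g
  have h := memLocalIdeal_neg
    (memLocalIdeal_mul_left (memLocalRing_of_isIntegral (hint g)) (ha g))
  have h0 : (a g : ℂ) ≠ 0 := Units.ne_zero _
  simp only [Cfsg.centralChar, map_one, MonoidHom.inv_apply, Units.val_inv_eq_inv_val,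
    Units.val_one, div_one, mul_one] at h ⊢
  convert h using 1
  field_simp
  ring

theorem isIntegral_hom (a : G →* ℂˣ) (g : G) : IsIntegral ℤ (a g : ℂ) := by
  refine IsIntegral.of_pow (Nat.card_pos (α := G)) ?_
  rw [← Units.val_pow_eq_pow_val, ← map_pow, pow_card_eq_one', map_one, Units.val_one]
  exact isIntegral_one

theorem not_dvd_card_pResidual_of_linear (hM : Cfsg.IsPModular p M)
    (h : ∀ χ : Cfsg.IrrCharacter G, χ ∈ Cfsg.principalBlock M G →
      ¬ p ∣ Cfsg.charDegree (χ : G → ℂ) → Cfsg.charDegree (χ : G → ℂ) = 1) :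
    ¬ p ∣ Nat.card (Cfsg.pResidual p G) := by
  classical
  intro hpK
  have := isPrime hM
  have := Fintype.ofFinite G
  set K := Cfsg.pResidual p G with hKdef
  have := Fintype.ofFinite K
  have := finite_irr (G := K)
  have := Fintype.ofFinite (Cfsg.IrrCharacter K)
  have hperf : Cfsg.pResidual p K = ⊤ := pResidual_pResidual
  obtain ⟨P⟩ := (inferInstance : Nonempty (Sylow p G))
  let b := {θ : Cfsg.IrrCharacter K // θ ∈ Cfsg.principalBlock M K}
  have hconj : ∀ (g : G) (θ : Cfsg.IrrCharacter K), θ ∈ Cfsg.principalBlock M K →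
      BlocksDefect.conjIrr g θ ∈ Cfsg.principalBlock M K := by
    intro g θ hθ n
    have hn := hθ ((MulAut.conjNormal g : MulAut K) n)
    have he : (Subgroup.centralizer {(MulAut.conjNormal g : MulAut K) n}).index =
        (Subgroup.centralizer {n}).index :=
      BC84.index_centralizer_mulEquiv (MulAut.conjNormal g : MulAut K) n
    simp only [Cfsg.centralChar, he] at hn
    have e : ∀ x : K, (BlocksDefect.conjIrr g θ : K → ℂ) x =
        (θ : K → ℂ) ((MulAut.conjNormal g : MulAut K) x) := fun x =>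
      congrArg (θ : K → ℂ) (Subtype.ext (MulAut.conjNormal_apply g x).symm)
    simp only [Cfsg.centralChar, e, map_one]
    exact hn
  let act : MulAction (P : Subgroup G) b :=
    { smul := fun u θ => ⟨BlocksDefect.conjIrr ((u : G)⁻¹) θ.1, hconj _ _ θ.2⟩
      one_smul := fun θ => Subtype.ext (Subtype.ext (by
        show BlocksDefect.conjFun ((1 : (P : Subgroup G)) : G)⁻¹ _ = _
        rw [OneMemClass.coe_one, inv_one, BlocksDefect.conjFun_one]))
      mul_smul := fun u v θ => Subtype.ext (by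
        show BlocksDefect.conjIrr _ θ.1 =
          BlocksDefect.conjIrr _ (BlocksDefect.conjIrr _ θ.1)
        rw [BlocksDefect.conjIrr_conjIrr, Subgroup.coe_mul, mul_inv_rev]) }
  have hsmul : ∀ (u : (P : Subgroup G)) (θ : b) (k : K), ((u • θ).1 : K → ℂ) k =
      (θ.1 : K → ℂ) ⟨(u : G)⁻¹ * k * u, by
        simpa using Subgroup.Normal.conj_mem inferInstance (k : G) k.2 (u : G)⁻¹⟩ := fun u θ k => by
    show (θ.1 : K → ℂ) ⟨(u : G)⁻¹ * k * (u : G)⁻¹⁻¹, _⟩ = _
    exact congrArg (θ.1 : K → ℂ) (Subtype.ext (by simp only [inv_inv]))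
  let f : b → ℂ := fun θ => (θ.1 : K → ℂ) 1 * (θ.1 : K → ℂ) 1
  -- the squares of the degrees add up to a multiple of p
  have htot : Cfsg.MemLocalIdeal M (∑ θ : b, f θ) := by
    obtain ⟨y, hy⟩ := exists_prime_orderOf_dvd_card' p hpK
    have hz : ∑ θ : b, (θ.1 : K → ℂ) 1 * (θ.1 : K → ℂ) y = 0 := by
      have h1 := sum_degree_mul_eq_blockCoeff (Cfsg.principalBlock M K) y
      rw [blockCoeff_eq_zero_of_dvd_orderOf hM (p := p)
        (show Cfsg.IsPBlock M (Cfsg.principalBlock M K) from isPBlock_blockOf (triv K))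
        (by rw [orderOf_inv, hy]), mul_zero] at h1
      rw [← h1, ← Finset.sum_subtype (Finset.univ.filter (· ∈ Cfsg.principalBlock M K))
        (fun x => by simp) (fun θ => (θ : K → ℂ) 1 * (θ : K → ℂ) y), Finset.sum_filter]
      exact Finset.sum_congr rfl fun θ _ => by
        by_cases hθ : θ ∈ Cfsg.principalBlock M K <;> simp [hθ]
    rw [← sub_zero (∑ θ : b, f θ), ← hz, ← Finset.sum_sub_distrib]
    refine memLocalIdeal_sum fun θ _ => ?_
    rw [← mul_sub, ← neg_sub, mul_neg]
    refine memLocalIdeal_neg (memLocalIdeal_mul_left ?_ ?_)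
    · rw [apply_one_eq]; exact memLocalRing_natCast _
    · exact Blocks88.char_sub_degree_mem hM (CharCore.irr_isCharacter θ.1)
        (k := 1) (by rw [hy, pow_one])
  have hfix' := memLocalIdeal_sum_sub_fixed hM P.isPGroup' f
    (fun u θ => by
      have h1 := hsmul u θ 1
      simp only [OneMemClass.coe_one, mul_one, inv_mul_cancel] at h1
      show ((u • θ).1 : K → ℂ) 1 * _ = (θ.1 : K → ℂ) 1 * _
      rw [h1]
      rfl)
    (fun θ => by
      show Cfsg.MemLocalRing M ((θ.1 : K → ℂ) 1 * (θ.1 : K → ℂ) 1)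
      rw [apply_one_eq, ← Nat.cast_mul]; exact memLocalRing_natCast _)
  have hfix := memLocalIdeal_sub htot hfix'
  rw [sub_sub_cancel] at hfix
  -- fixed characters of degree prime to p are linear
  obtain ⟨n, hidx⟩ := exists_index_pResidual (p := p) (G := G)
  have hlin : ∀ θ : b, θ ∈ MulAction.fixedPoints (P : Subgroup G) b →
      ¬ p ∣ Cfsg.charDegree (θ.1 : K → ℂ) → Cfsg.charDegree (θ.1 : K → ℂ) = 1 := by
    intro θ hθ hd
    have hinv : CharDeep.Ext.Inv K (θ.1 : K → ℂ) := by
      intro g m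
      have hg : g ∈ (P : Subgroup G) ⊔ K := by
        rw [hKdef, sylow_sup_pResidual_eq_top]; trivial
      rw [sup_comm, ← SetLike.mem_coe, Subgroup.normal_mul] at hg
      obtain ⟨k, hk, u, hu, rfl⟩ := hg
      have h1 := congrArg (fun ψ : b => (ψ.1 : K → ℂ)) (hθ ⟨u⁻¹, Subgroup.inv_mem _ hu⟩)
      have h2 := congrFun h1 m
      simp only [hsmul, inv_inv] at h2
      have h3 := CharCore.irr_isClassFunction θ.1
        ⟨u * m * u⁻¹, Subgroup.Normal.conj_mem inferInstance _ m.2 u⟩ ⟨k, hk⟩
      rw [← h2]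
      refine Eq.trans (congrArg (θ.1 : K → ℂ) (Subtype.ext ?_)) h3
      simp [mul_assoc]
    have hdet : ¬ p ∣ Cfsg.detOrder (θ.1 : K → ℂ) := by
      rw [CharDeep.Ext.detOrder_eq]
      intro hpo
      set m := CharDeep.Ext.detHom (θ.1 : K → ℂ)
      have hpos : 0 < orderOf m := orderOf_pos_iff.mpr (isOfFinOrder_iff_pow_eq_one.mpr
        ⟨Nat.card K, Nat.card_pos, MonoidHom.ext fun k => by
          rw [MonoidHom.pow_apply, ← map_pow, pow_card_eq_one', map_one, MonoidHom.one_apply]⟩)
      have ho : orderOf (m ^ (orderOf m / p)) = p :=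
        orderOf_pow_orderOf_div hpos.ne' hpo
      set m' := m ^ (orderOf m / p)
      have hpg : IsPGroup p m'.range := by
        rintro ⟨_, k, rfl⟩
        refine ⟨1, Subtype.ext ?_⟩
        rw [pow_one, SubmonoidClass.coe_pow, ← MonoidHom.pow_apply, ← ho, pow_orderOf_eq_one]
        rfl
      have : m' = 1 := MonoidHom.ext fun k =>
        congrArg Subtype.val (eq_one_of_pResidual_eq_top hperf m'.rangeRestrict hpg k)
      rw [this, orderOf_one] at ho
      exact hp.out.one_lt.ne ho
    obtain ⟨χ, ⟨hχ, hres, -⟩, -⟩ := CharDeep.Ext.exists_ext_detOrder K θ.1.2 hinv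
      (apply_one_eq θ.1) (by
        rw [hidx]
        exact Nat.Coprime.pow_left _ ((Nat.Prime.coprime_iff_not_dvd hp.out).mpr
          fun hh => (hp.out.dvd_mul.mp hh).elim hdet hd))
    have hdeg : Cfsg.charDegree χ = Cfsg.charDegree (θ.1 : K → ℂ) :=
      charDegree_eq (by rw [← apply_one_eq, ← hres 1]; rfl)
    have hmem : (⟨χ, hχ⟩ : Cfsg.IrrCharacter G) ∈ Cfsg.principalBlock M G := by
      refine mem_of_covers (θ := θ.1) (θ' := triv K) (χ := ⟨χ, hχ⟩) (χ' := triv G) hM ⟨n, hidx⟩
        (show Cfsg.IsPBlock M (Cfsg.principalBlock M K) from isPBlock_blockOf (triv K))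
        θ.2 one_mem_principalBlock ?_ ?_
      · show Cfsg.classInner (fun m : K => χ m) (θ.1 : K → ℂ) ≠ 0
        rw [show (fun m : K => χ m) = (θ.1 : K → ℂ) from funext hres,
          (CharCore.isIrrCharacter_iff.mp θ.1.2).2]
        exact one_ne_zero
      · show Cfsg.classInner (fun _ : K => (1 : ℂ)) (triv K : K → ℂ) ≠ 0
        rw [show (fun _ : K => (1 : ℂ)) = (triv K : K → ℂ) from rfl,
          (CharCore.isIrrCharacter_iff.mp (triv K).2).2]
        exact one_ne_zero
    rw [← hdeg]
    exact h _ hmem (by rw [hdeg]; exact hd)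
  -- the fixed linear characters in the block
  let L := {θ : b // θ ∈ MulAction.fixedPoints (P : Subgroup G) b ∧
    Cfsg.charDegree (θ.1 : K → ℂ) = 1}
  have hcard : p ∣ Nat.card L := by
    rw [← memLocalIdeal_natCast_iff hM]
    have e : (Nat.card L : ℂ) = ∑ θ ∈ Finset.univ.filter
        (· ∈ MulAction.fixedPoints (P : Subgroup G) b),
        if Cfsg.charDegree (θ.1 : K → ℂ) = 1 then (1 : ℂ) else 0 := by
      rw [Finset.sum_boole, Finset.filter_filter, Nat.card_eq_fintype_card,
        Fintype.card_subtype]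
    rw [e]
    have := memLocalIdeal_sub hfix (memLocalIdeal_sum (M := M)
      (s := Finset.univ.filter (· ∈ MulAction.fixedPoints (P : Subgroup G) b))
      (f := fun θ => f θ - if Cfsg.charDegree (θ.1 : K → ℂ) = 1 then (1 : ℂ) else 0)
      fun θ hθ => by
        simp only [f, apply_one_eq]
        split_ifs with h1
        · rw [h1, Nat.cast_one, mul_one, sub_self]; exact memLocalIdeal_zero
        · rw [sub_zero, ← Nat.cast_mul, memLocalIdeal_natCast_iff hM]
          by_contra hnd
          exact h1 (hlin θ (Finset.mem_filter.mp hθ).2 fun hd => hnd (hd.mul_right _)))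
    rwa [Finset.sum_sub_distrib, sub_sub_cancel] at this
  let S : Subgroup (K →* ℂˣ) :=
    { carrier := {a | Cfsg.SameBlock M (fun _ : K => (1 : ℂ)) (fun k => (a k : ℂ)) ∧
        ∀ (u : (P : Subgroup G)) (k : K),
          a ⟨(u : G)⁻¹ * k * u, by
            simpa using Subgroup.Normal.conj_mem inferInstance (k : G) k.2 (u : G)⁻¹⟩ = a k}
      mul_mem' := fun ha hb => ⟨linear_block_mul ha.1 hb.1 (isIntegral_hom _), fun u k => by
        simp only [MonoidHom.mul_apply, ha.2 u k, hb.2 u k]⟩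
      one_mem' := ⟨by
        simpa using (sameBlock_refl (fun _ : K => (1 : ℂ)) (M := M)), fun _ _ => rfl⟩
      inv_mem' := fun {a} ha => ⟨linear_block_inv ha.1 (fun k => by
        rw [← map_inv]; exact isIntegral_hom a _), fun u k => by
        simp only [MonoidHom.inv_apply, ha.2 u k]⟩ }
  have hmemS : ∀ θ : L, ∃ a : S, ∀ k, ((a : K →* ℂˣ) k : ℂ) = (θ.1.1 : K → ℂ) k := by
    intro θ
    obtain ⟨a, ha⟩ := CharCore.IsCharacter.exists_hom_of_degree_one
      (CharCore.irr_isCharacter θ.1.1) (by rw [apply_one_eq, θ.2.2, Nat.cast_one])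
    refine ⟨⟨a, ?_, fun u k => Units.ext ?_⟩, fun k => (congrFun ha k).symm⟩
    · have h2 := θ.1.2
      change Cfsg.SameBlock M _ _ at h2
      rw [ha] at h2
      exact h2
    · have h2 := congrFun (congrArg (fun ψ : b => (ψ.1 : K → ℂ)) (θ.2.1 u)) k
      simp only [hsmul, ha] at h2
      exact h2
  choose toS htoS using hmemS
  have hbij : Function.Bijective toS := by
    refine ⟨fun θ θ' e => Subtype.ext (Subtype.ext (Subtype.ext (funext fun k => ?_))),
      fun a => ?_⟩
    · rw [← htoS θ, ← htoS θ', e]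
    · let θ : Cfsg.IrrCharacter K :=
        ⟨fun k => ((a : K →* ℂˣ) k : ℂ), CharCore.isIrrCharacter_hom (a : K →* ℂˣ)⟩
      refine ⟨⟨⟨θ, a.2.1⟩, fun u => Subtype.ext (Subtype.ext (funext fun k => ?_)),
        charDegree_eq (by simp [θ])⟩, Subtype.ext (MonoidHom.ext fun k => Units.ext ?_)⟩
      · rw [hsmul]
        exact congrArg Units.val (a.2.2 u k)
      · exact htoS _ k
  have := Finite.of_surjective toS hbij.2
  rw [Nat.card_congr (Equiv.ofBijective toS hbij)] at hcard
  obtain ⟨a, ha⟩ := exists_prime_orderOf_dvd_card' p hcard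
  rw [← Subgroup.orderOf_coe] at ha
  have hpg : IsPGroup p (a : K →* ℂˣ).range := by
    rintro ⟨_, k, rfl⟩
    refine ⟨1, Subtype.ext ?_⟩
    rw [pow_one, SubmonoidClass.coe_pow, ← MonoidHom.pow_apply, ← ha, pow_orderOf_eq_one]
    rfl
  have h1 : (a : K →* ℂˣ) = 1 := MonoidHom.ext fun k =>
    congrArg Subtype.val (eq_one_of_pResidual_eq_top hperf (a : K →* ℂˣ).rangeRestrict hpg k)
  rw [h1, orderOf_one] at ha
  exact hp.out.one_lt.ne ha

/-- Let G be a finite group, p a prime and M a maximal ideal of the algebraic integers containing p. Then all height-zero irreducible characters of the principal p-block of G (equivalently, all its characters of degree prime to p) have the same degree if and only if G has a normal p-complement. -/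
theorem result {G : Type*} [Group G] [Finite G] (p : ℕ) [Fact p.Prime] (M : Ideal Cfsg.AlgInt) (hM : Cfsg.IsPModular p M) : (∃ d : ℕ, ∀ χ : Cfsg.IrrCharacter G, χ ∈ (Cfsg.principalBlock M G) → Cfsg.blockHeight p (Cfsg.principalBlock M G) (χ : G → ℂ) = 0 → Cfsg.charDegree (χ : G → ℂ) = d) ↔ Cfsg.HasNormalPComplement p G := by
  have := BlocksCore.isPrime hM
  constructor
  · rintro ⟨d, hd⟩
    have h1 : d = 1 := by
      rw [← hd _ one_mem_principalBlock (by
        rw [blockHeight_principal, charDegree_eq (χ := (triv G : G → ℂ)) (n := 1) (by simp)]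
        simp)]
      exact charDegree_eq (by simp)
    subst h1
    refine hasNormalPComplement_iff_not_dvd.mpr (not_dvd_card_pResidual_of_linear hM ?_)
    intro χ hχ hp'
    exact hd χ hχ (by rw [blockHeight_principal, Nat.factorization_eq_zero_of_not_dvd hp'])
  · exact fun h => ⟨1, degree_eq_one_of_complement hM h⟩

end Cfsg.Agent.S4888
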