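import Cfsg.Statements.S4911
import Cfsg.Agent.Blocks88.FixedTable
import Cfsg.Agent.Blocks88.Modular
import Mathlib.GroupTheory.PGroup

set_option autoImplicit false
open Cfsg

namespace Cfsg.Agent.S4911

open Blocks88

/-- Let P and K be subgroups of a finite group with P a p-group normalizing K and K of order prime to p. Then the number of P-invariant real-valued irreducible complex characters of K equals the number of conjugacy classes of K that are real (closed under inversion) and P-invariant. Moreover, if every real-valued irreducible character of K is P-invariant, then every real element of K (one conjugate in K to its inverse) is conjugate in K to an element centralized by P. -/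
theorem result {G : Type*} [Group G] [Finite G] (p : ℕ) [Fact p.Prime] (P K : Subgroup G) (hP : IsPGroup p ↥P) (hK : ¬ p ∣ Nat.card ↥K) (hPK : P ≤ Subgroup.normalizer (K : Set G)) : Nat.card {θ : Cfsg.IrrCharacter ↥K // (∀ k : ↥K, ((θ : ↥K → ℂ) k).im = 0) ∧ (∀ x ∈ P, ∀ k k' : ↥K, (k' : G) = x * (k : G) * x⁻¹ → (θ : ↥K → ℂ) k' = (θ : ↥K → ℂ) k)} = Nat.card {c : ConjClasses ↥K // (∀ k : ↥K, ConjClasses.mk k = c → IsConj k k⁻¹) ∧ ∀ k : ↥K, ConjClasses.mk k = c → ∀ x ∈ P, ∀ k' : ↥K, (k' : G) = x * (k : G) * x⁻¹ → ConjClasses.mk k' = c} ∧ ((∀ θ : Cfsg.IrrCharacter ↥K, (∀ k : ↥K, ((θ : ↥K → ℂ) k).im = 0) → (∀ x ∈ P, ∀ k k' : ↥K, (k' : G) = x * (k : G) * x⁻¹ → (θ : ↥K → ℂ) k' = (θ : ↥K → ℂ) k)) → ∀ k : ↥K, IsConj k k⁻¹ → ∃ k' : ↥K, IsConj k k' ∧ ∀ x ∈ P, x * (k' : G) * x⁻¹ = (k' : G)) := by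
  classical
  have := Fintype.ofFinite ↥K
  obtain ⟨M, hM⟩ := Blocks88.exists_isPModular (p := p) Fact.out
  let α : ↥P →* MulAut ↥K := K.normalizerMonoidHom.comp (Subgroup.inclusion hPK)
  have hα : ∀ (x : ↥P) (k : ↥K), ((α x k : ↥K) : G) = x * k * (x : G)⁻¹ := fun x k => rfl
  have hθiff : ∀ θ : IrrCharacter ↥K,
      ((∀ k : ↥K, ((θ : ↥K → ℂ) k).im = 0) ∧ (∀ x ∈ P, ∀ k k' : ↥K,
        (k' : G) = x * (k : G) * x⁻¹ → (θ : ↥K → ℂ) k' = (θ : ↥K → ℂ) k)) ↔
      ((∀ k, (starRingEnd ℂ) ((θ : ↥K → ℂ) k) = (θ : ↥K → ℂ) k) ∧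
        ∀ (x : ↥P) k, (θ : ↥K → ℂ) (α x k) = (θ : ↥K → ℂ) k) := by
    refine fun θ => ⟨fun h => ⟨fun k => Complex.conj_eq_iff_im.mpr (h.1 k),
      fun x k => h.2 x x.2 k _ (hα x k)⟩,
      fun h => ⟨fun k => Complex.conj_eq_iff_im.mp (h.1 k), fun x hx k k' hk => ?_⟩⟩
    rw [show k' = α ⟨x, hx⟩ k from Subtype.ext hk]
    exact h.2 ⟨x, hx⟩ k
  have hciff : ∀ c : ConjClasses ↥K,
      (∀ k : ↥K, ConjClasses.mk k = c → ∀ x ∈ P, ∀ k' : ↥K,
        (k' : G) = x * (k : G) * x⁻¹ → ConjClasses.mk k' = c) ↔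
      ∀ (x : ↥P) k, ConjClasses.mk k = c → ConjClasses.mk (α x k) = c := by
    refine fun c => ⟨fun h x k hk => h k hk x x.2 _ (hα x k), fun h k hk x hx k' hk' => ?_⟩
    rw [show k' = α ⟨x, hx⟩ k from Subtype.ext hk']
    exact h ⟨x, hx⟩ k hk
  have h1 := card_fixed_real α hP hK hM
  have h0 := card_fixed_real (1 : Unit →* MulAut ↥K) (IsPGroup.of_card (n := 0) (by simp)) hK hM
  refine ⟨?_, fun hall k hk => ?_⟩
  · rw [Nat.card_congr (Equiv.subtypeEquivRight hθiff),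
      Nat.card_congr (Equiv.subtypeEquivRight fun c => and_congr_right fun _ => hciff c), h1]
  -- every real class is invariant
  have hcard : Nat.card {c : ConjClasses ↥K // (∀ k, ConjClasses.mk k = c → IsConj k k⁻¹) ∧
      ∀ (x : ↥P) k, ConjClasses.mk k = c → ConjClasses.mk (α x k) = c} =
      Nat.card {c : ConjClasses ↥K // ∀ k, ConjClasses.mk k = c → IsConj k k⁻¹} := by
    rw [← h1]
    refine (Nat.card_congr (Equiv.subtypeEquivRight fun θ => ?_)).trans (h0.trans ?_)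
    · refine ⟨fun h => ⟨h.1, fun _ _ => rfl⟩, fun h => ⟨h.1, fun x k' => ?_⟩⟩
      exact hall θ (fun a => Complex.conj_eq_iff_im.mp (h.1 a)) x x.2 k' _ (hα x k')
    · exact Nat.card_congr (Equiv.subtypeEquivRight fun c => ⟨fun h => h.1, fun h => ⟨h, fun _ _ h => h⟩⟩)
  have hfix : ∀ (x : ↥P) (a : ↥K), IsConj k a → IsConj k (α x a) := by
    let f : {c : ConjClasses ↥K // (∀ k, ConjClasses.mk k = c → IsConj k k⁻¹) ∧
      ∀ (x : ↥P) k, ConjClasses.mk k = c → ConjClasses.mk (α x k) = c} →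
      {c : ConjClasses ↥K // ∀ k, ConjClasses.mk k = c → IsConj k k⁻¹} := fun c => ⟨c.1, c.2.1⟩
    have hbij := (Function.Injective.bijective_of_nat_card_le (f := f)
      (fun a b h => Subtype.ext (congrArg Subtype.val h : (f a).1 = (f b).1)) hcard.ge)
    obtain ⟨c, hc⟩ := hbij.2 ⟨ConjClasses.mk k, fun a ha => by
      obtain ⟨g, hg⟩ := isConj_iff.mp hk
      obtain ⟨b, hb⟩ := isConj_iff.mp (ConjClasses.mk_eq_mk_iff_isConj.mp ha)
      have hbk : IsConj a⁻¹ k⁻¹ := isConj_iff.mpr ⟨b, by rw [← hb]; group⟩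
      exact ((ConjClasses.mk_eq_mk_iff_isConj.mp ha).trans hk).trans hbk.symm⟩
    have hck : c.1 = ConjClasses.mk k := congrArg Subtype.val hc
    intro x a ha
    refine ConjClasses.mk_eq_mk_iff_isConj.mp ?_
    rw [← hck]
    exact (c.2.2 x a (by rw [hck]; exact ConjClasses.mk_eq_mk_iff_isConj.mpr ha.symm)).symm
  let _ : MulAction ↥P {a : ↥K // IsConj k a} :=
    { smul := fun x a => ⟨α x a.1, hfix x a.1 a.2⟩
      one_smul := fun a => Subtype.ext (by show α 1 a.1 = a.1; rw [map_one]; rfl)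
      mul_smul := fun x y a => Subtype.ext (by
        show α (x * y) a.1 = α x (α y a.1)
        rw [map_mul]; rfl) }
  have hnd : ¬ p ∣ Nat.card {a : ↥K // IsConj k a} := fun h => hK (by
    rw [BlocksDefect.natCard_isConj] at h
    exact h.trans (Subgroup.index_dvd_card _))
  obtain ⟨a, ha⟩ := hP.nonempty_fixed_point_of_prime_not_dvd_card _ hnd
  exact ⟨a.1, a.2, fun x hx => congrArg Subtype.val (congrArg Subtype.val (ha ⟨x, hx⟩))⟩

end Cfsg.Agent.S4911
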