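import Cfsg.Statements.S4912
import Cfsg.Agent.Blocks88.CliffordGallagher
import Cfsg.Agent.Lib.CharInd.BilinearForm
import Cfsg.Agent.Lib.CharCore.Equiv
import Cfsg.Agent.S0158
import Mathlib.LinearAlgebra.LinearIndependent.Lemmas

set_option autoImplicit false
open Cfsg

namespace Cfsg.Agent.S4912

open scoped ComplexConjugate
open Matrix

attribute [local instance] Fintype.ofFinite

/-- A real irreducible character containing a symmetric one exactly once is symmetric. -/
theorem indicator_of_mult_one {G : Type*} [Group G] [Fintype G] (I : Subgroup G) [Fintype I]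
    {χ : G → ℂ} (hχ : IsIrrCharacter G χ) (hreal : ∀ g, conj (χ g) = χ g)
    {ψ : I → ℂ} (hψ : IsIrrCharacter I ψ) (hψreal : ∀ g, conj (ψ g) = ψ g)
    (hν : (Nat.card I : ℂ)⁻¹ * ∑ g : I, ψ (g * g) = 1)
    (hmult : classInner (fun i : I => χ i) ψ = 1) :
    (Nat.card G : ℂ)⁻¹ * ∑ g : G, χ (g * g) = 1 := by
  obtain ⟨n, ρ, hρ, rfl⟩ := hχ
  obtain ⟨m, σ, hσ, rfl⟩ := hψ
  obtain ⟨W, ε, hW0, hW, hWu, -, hWT, hνρ⟩ := CharInd.exists_invariant_form_indicator ρ hreal
  obtain ⟨S, ε', -, hS, hSu, -, hST, hνσ⟩ := CharInd.exists_invariant_form_indicator σ hψreal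
  rw [hν] at hνσ
  rw [← hνσ, one_smul] at hST
  let ρI : Representation ℂ I (Fin n → ℂ) := ρ.comp I.subtype
  have hdim : Module.finrank ℂ (Representation.IntertwiningMap σ ρI) = 1 := by
    have h := CharCore.classInner_eq_finrank_intertwiningMap σ ρI
    rw [show ρI.character = fun i : I => ρ.character i from rfl, hmult] at h
    exact_mod_cast h.symm
  have : Nontrivial (Representation.IntertwiningMap σ ρI) :=
    Module.nontrivial_of_finrank_pos (R := ℂ) (by omega)
  obtain ⟨f, hf⟩ := exists_ne (0 : Representation.IntertwiningMap σ ρI)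
  have hinj : Function.Injective f :=
    (Representation.IsIrreducible.injective_or_eq_zero f).resolve_right hf
  obtain ⟨P₀, hP₀⟩ := f.toLinearMap.exists_leftInverse_of_injective (LinearMap.ker_eq_bot.mpr hinj)
  set A : I → Matrix (Fin n) (Fin n) ℂ := fun i => LinearMap.toMatrix' (ρ (i : G)) with hA
  set B : I → Matrix (Fin m) (Fin m) ℂ := fun i => LinearMap.toMatrix' (σ i) with hB
  have hAmul : ∀ i j, A (i * j) = A i * A j := fun i j => CharInd.toMatrix'_rep_mul ρ i j
  have hBmul : ∀ i j, B (i * j) = B i * B j := fun i j => CharInd.toMatrix'_rep_mul σ i j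
  have hA1 : A 1 = 1 := by
    simp only [hA, OneMemClass.coe_one, map_one, Module.End.one_eq_id, LinearMap.toMatrix'_id]
  have hB1 : B 1 = 1 := by
    simp only [hB, map_one, Module.End.one_eq_id, LinearMap.toMatrix'_id]
  set T : Matrix (Fin n) (Fin m) ℂ := LinearMap.toMatrix' f.toLinearMap with hT
  have hTi : ∀ i, A i * T = T * B i := by
    intro i
    rw [hA, hB, hT, ← LinearMap.toMatrix'_comp, ← LinearMap.toMatrix'_comp]
    exact congrArg LinearMap.toMatrix' (f.isIntertwining' i).symm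
  set R : Matrix (Fin m) (Fin n) ℂ := LinearMap.toMatrix' P₀ with hR
  have hRT : R * T = 1 := by
    rw [hR, hT, ← LinearMap.toMatrix'_comp, hP₀, LinearMap.toMatrix'_id]
  set P : Matrix (Fin m) (Fin n) ℂ := (Nat.card I : ℂ)⁻¹ • ∑ i : I, B i * R * A i⁻¹ with hP
  have hPi : ∀ i, P * A i = B i * P := by
    intro i
    rw [hP, Matrix.smul_mul, Matrix.mul_smul, Matrix.sum_mul, Matrix.mul_sum]
    congr 1
    refine Fintype.sum_equiv (Equiv.mulLeft i⁻¹) _ _ fun j => ?_
    simp only [Equiv.coe_mulLeft, _root_.mul_inv_rev, inv_inv, hAmul, hBmul, ← Matrix.mul_assoc]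
    rw [← hBmul i i⁻¹, mul_inv_cancel, hB1, Matrix.one_mul]
  have hPT : P * T = 1 := by
    rw [hP, Matrix.smul_mul, Matrix.sum_mul, Finset.sum_congr rfl (g := fun _ => (1 : Matrix (Fin m) (Fin m) ℂ))
      fun i _ => by rw [Matrix.mul_assoc, hTi, Matrix.mul_assoc, ← Matrix.mul_assoc R, hRT, Matrix.one_mul, ← hBmul,
        mul_inv_cancel, hB1],
      Finset.sum_const, Finset.card_univ, Fintype.card_eq_nat_card, ← Nat.cast_smul_eq_nsmul ℂ,
      smul_smul, inv_mul_cancel₀ (Nat.cast_ne_zero.mpr Nat.card_pos.ne'), one_smul]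
  -- `W Pᵀ S⁻¹` is an intertwiner
  set U : Matrix (Fin n) (Fin m) ℂ := W * Pᵀ * S⁻¹ with hU
  have hWA : ∀ i, A i * W = W * (A i⁻¹)ᵀ := by
    intro i
    have h1 : A i * W * (A i)ᵀ = W := hW (i : G)
    conv_rhs => rw [← h1]
    rw [Matrix.mul_assoc, ← Matrix.transpose_mul, ← hAmul, inv_mul_cancel, hA1,
      Matrix.transpose_one, Matrix.mul_one]
  have hSB : ∀ i, (B i⁻¹)ᵀ * S⁻¹ = S⁻¹ * B i := by
    intro i
    have h1 : B i * S * (B i)ᵀ = S := hS i
    have h2 : B i * S = S * (B i⁻¹)ᵀ := by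
      conv_rhs => rw [← h1]
      rw [Matrix.mul_assoc, ← Matrix.transpose_mul, ← hBmul, inv_mul_cancel, hB1,
        Matrix.transpose_one, Matrix.mul_one]
    calc (B i⁻¹)ᵀ * S⁻¹ = S⁻¹ * (S * (B i⁻¹)ᵀ) * S⁻¹ := by
          rw [Matrix.nonsing_inv_mul_cancel_left _ _ hSu]
      _ = S⁻¹ * B i := by
          rw [← h2, Matrix.mul_assoc, Matrix.mul_assoc, Matrix.mul_nonsing_inv _ hSu, Matrix.mul_one]
  have hUi : ∀ i, A i * U = U * B i := by
    intro i
    rw [hU, ← Matrix.mul_assoc, ← Matrix.mul_assoc, hWA, Matrix.mul_assoc W, ← Matrix.transpose_mul,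
      hPi, Matrix.transpose_mul, Matrix.mul_assoc, Matrix.mul_assoc, Matrix.mul_assoc, hSB]
    simp only [Matrix.mul_assoc]
  let u : Representation.IntertwiningMap σ ρI := ⟨Matrix.toLin' U, fun i => by
    have h : Matrix.toLin' (A i * U) = Matrix.toLin' (U * B i) := by rw [hUi i]
    simp only [hA, hB, Matrix.toLin'_mul, Matrix.toLin'_toMatrix'] at h
    exact h.symm⟩
  obtain ⟨c, hc⟩ := (finrank_eq_one_iff_of_nonzero' f hf).mp hdim u
  have hUc : U = c • T := by
    have h := congrArg (fun z => LinearMap.toMatrix' (Representation.IntertwiningMap.toLinearMap z)) hc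
    simpa [u, hT, Representation.IntertwiningMap.toLinearMap_smul] using h.symm
  have hkey : Tᵀ * W⁻¹ * U = S⁻¹ := by
    rw [hU, Matrix.mul_assoc, ← Matrix.mul_assoc W⁻¹, ← Matrix.mul_assoc W⁻¹,
      Matrix.nonsing_inv_mul _ hWu, Matrix.one_mul, ← Matrix.mul_assoc, ← Matrix.transpose_mul,
      hPT, Matrix.transpose_one, Matrix.one_mul]
  rw [hUc, Matrix.mul_smul] at hkey
  have hm0 : S⁻¹ ≠ 0 := by
    intro h0
    have h := Matrix.mul_nonsing_inv S hSu
    rw [h0, Matrix.mul_zero] at h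
    obtain ⟨i⟩ : Nonempty (Fin m) := by
      refine ⟨⟨0, Nat.pos_of_ne_zero fun hm => ?_⟩⟩
      subst hm
      have := CharCore.finrank_pos_of_irreducible σ
      simp at this
    have := congrFun (congrFun h i) i
    simp at this
  have hc0 : c ≠ 0 := fun h => hm0 (by rw [← hkey, h, zero_smul])
  set X : Matrix (Fin m) (Fin m) ℂ := Tᵀ * W⁻¹ * T with hX
  have hXT : Xᵀ = X := by
    have h : (c • X)ᵀ = c • X := by rw [hkey, Matrix.transpose_nonsing_inv, hST]
    rw [Matrix.transpose_smul] at h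
    exact (smul_right_injective _ hc0) h
  have hWiT : ε • (W⁻¹)ᵀ = W⁻¹ := by
    rw [Matrix.transpose_nonsing_inv]
    have h1 : Wᵀ * (ε • W⁻¹) = (ε * ε) • 1 := by
      rw [hWT, Matrix.smul_mul, Matrix.mul_smul, Matrix.mul_nonsing_inv _ hWu, smul_smul]
    have hεε : ε * ε = 1 := by
      have h := congrArg Matrix.transpose hWT
      rw [Matrix.transpose_transpose, Matrix.transpose_smul, hWT, smul_smul] at h
      exact smul_left_injective ℂ hW0 (show (ε * ε) • W = (1 : ℂ) • W by rw [one_smul, ← h])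
    rw [hεε, one_smul] at h1
    rw [Matrix.inv_eq_right_inv h1, smul_smul, hεε, one_smul]
  have hε : ε = 1 := by
    have h : ε • Xᵀ = X := by
      rw [hX, Matrix.transpose_mul, Matrix.transpose_mul, Matrix.transpose_transpose,
        ← Matrix.mul_assoc, ← Matrix.smul_mul, ← Matrix.mul_smul, hWiT]
    rw [hXT] at h
    have hX0 : X ≠ 0 := fun h0 => hm0 (by rw [← hkey, h0, smul_zero])
    exact smul_left_injective ℂ hX0 (show ε • X = (1 : ℂ) • X by rw [one_smul, h])
  rw [hνρ, hε]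

/-- Let G be a finite group with a non-abelian minimal normal subgroup N, and let φ be an irreducible complex character of N with stabilizer I in G such that φ extends to an irreducible character of I with Frobenius–Schur indicator +1. Put d = φ(1)·[G : I]. Then the number of linear characters of G with Frobenius–Schur indicator +1 is at most [G : I] times the number of irreducible characters of G of degree d with Frobenius–Schur indicator +1. -/
theorem result {G : Type*} [Group G] [Finite G] (N : Subgroup G) (hN : N.Normal) (hN1 : N ≠ ⊥) (hmin : ∀ M : Subgroup G, M.Normal → M ≤ N → M = ⊥ ∨ M = N) (hna : ¬ IsMulCommutative ↥N) (φ : Cfsg.IrrCharacter ↥N) (I : Subgroup G) (hI : ∀ g : G, g ∈ I ↔ ∀ n n' : ↥N, (n' : G) = g * (n : G) * g⁻¹ → (φ : ↥N → ℂ) n' = (φ : ↥N → ℂ) n) (hNI : N ≤ I) (hext : ∃ ψ : Cfsg.IrrCharacter ↥I, (Nat.card ↥I : ℂ)⁻¹ * ∑ᶠ g : ↥I, (ψ : ↥I → ℂ) (g * g) = 1 ∧ ∀ n : ↥N, (ψ : ↥I → ℂ) (Subgroup.inclusion hNI n) = (φ : ↥N → ℂ) n) : Nat.card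 {χ : Cfsg.IrrCharacter G // Cfsg.charDegree (χ : G → ℂ) = 1 ∧ (Nat.card G : ℂ)⁻¹ * ∑ᶠ g : G, (χ : G → ℂ) (g * g) = 1} ≤ I.index * Nat.card {χ : Cfsg.IrrCharacter G // Cfsg.charDegree (χ : G → ℂ) = Cfsg.charDegree (φ : ↥N → ℂ) * I.index ∧ (Nat.card G : ℂ)⁻¹ * ∑ᶠ g : G, (χ : G → ℂ) (g * g) = 1} := by
  obtain ⟨⟨ψ, hψ⟩, hν, hψN⟩ := hext
  simp only [finsum_eq_sum_of_fintype] at hν ⊢
  -- reality
  have hψreal : ∀ g, conj (ψ g) = ψ g := by
    obtain ⟨m, σ, hσ, rfl⟩ := hψ
    intro g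
    rw [Complex.conj_eq_iff_im]
    by_contra h
    have h0 := (S0158.result σ).2.mpr ⟨g, h⟩
    rw [hν] at h0
    exact one_ne_zero h0
  -- `N` is perfect
  have hperf : ⁅N, N⁆ = N := by
    refine (hmin _ inferInstance (Subgroup.commutator_le_self N)).resolve_left fun h => hna ?_
    refine ⟨⟨fun a b => Subtype.ext ?_⟩⟩
    have := Subgroup.commutator_mem_commutator a.2 b.2
    rw [h, Subgroup.mem_bot] at this
    exact commutatorElement_eq_one_iff_mul_comm.mp this
  let Lin := {χ : IrrCharacter G // charDegree (χ : G → ℂ) = 1 ∧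
    (Nat.card G : ℂ)⁻¹ * ∑ g : G, (χ : G → ℂ) (g * g) = 1}
  have hlin : ∀ χ : Lin, ∃ l : G →* ℂˣ, (χ.1 : G → ℂ) = (fun g => (l g : ℂ)) ∧
      ∀ g, (l g : ℂ) * l g = 1 := by
    intro χ
    obtain ⟨d, -, hd⟩ := CharCore.IsIrrCharacter.exists_degree χ.1.2
    have h1 := χ.2.1
    rw [charDegree, hd, Complex.natCast_re, Nat.floor_natCast] at h1
    subst h1
    obtain ⟨l, hl⟩ := CharCore.IsCharacter.exists_hom_of_degree_one (CharCore.irr_isCharacter χ.1)
      (by rw [hd, Nat.cast_one])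
    refine ⟨l, hl, ?_⟩
    have hsq : Cfsg.classInner (fun g => ((l * l) g : ℂ)) 1 = 1 := by
      rw [CharCore.classInner_def]
      refine Eq.trans ?_ χ.2.2
      congr 1
      refine Finset.sum_congr rfl fun g _ => ?_
      rw [hl]
      simp
    by_contra h
    push Not at h
    obtain ⟨g, hg⟩ := h
    rw [CharCore.classInner_irr_of_ne
      (χ := (⟨_, CharCore.isIrrCharacter_hom (l * l)⟩ : IrrCharacter G))
      (ψ := ⟨1, CharCore.isIrrCharacter_one⟩)
      (fun e => hg (by simpa using congrFun (congrArg Subtype.val e) g))] at hsq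
    exact zero_ne_one hsq
  choose l hl hl2 using hlin
  have hlN : ∀ χ, ∀ n ∈ N, l χ n = 1 := by
    intro χ n hn
    have h : N ≤ (l χ).ker := by
      conv_lhs => rw [← hperf]
      rw [Subgroup.commutator_le]
      intro a _ b _
      rw [MonoidHom.mem_ker, map_commutatorElement, commutatorElement_eq_one_iff_mul_comm]
      exact mul_comm _ _
    exact h hn
  have hlreal : ∀ χ g, conj (l χ g : ℂ) = l χ g := by
    intro χ g
    rcases mul_self_eq_one_iff.mp (hl2 χ g) with h | h <;> simp [h]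
  let β : Lin → I → ℂ := fun χ i => (l χ i : ℂ)
  have hβ : ∀ χ, IsIrrCharacter I (β χ) := fun χ =>
    CharCore.isIrrCharacter_hom ((l χ).comp I.subtype)
  have hinv : ∀ χ (n : N.subgroupOf I) t, β χ ((n : I) * t) = β χ t := fun χ n t => by
    show ((l χ (((n : I) : G) * (t : G)) : ℂˣ) : ℂ) = _
    rw [map_mul, hlN χ ((n : I) : G) n.2, one_mul]
  have hT : ∀ g : G, g ∈ I ↔ ∀ n : N,
      (φ : N → ℂ) ⟨g * n * g⁻¹, hN.conj_mem (n : G) n.2 g⟩ = (φ : N → ℂ) n := fun g =>
    (hI g).trans ⟨fun h n => h n _ rfl, fun h n n' he => by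
      rw [show n' = ⟨g * n * g⁻¹, hN.conj_mem (n : G) n.2 g⟩ from Subtype.ext he]; exact h n⟩
  have hspec := fun χ => Blocks88.ind_spec N φ.2 I hT hNI hψ hψN (hβ χ) (hinv χ)
  let Tgt := {χ : IrrCharacter G // charDegree (χ : G → ℂ) = charDegree (φ : N → ℂ) * I.index ∧
    (Nat.card G : ℂ)⁻¹ * ∑ g : G, (χ : G → ℂ) (g * g) = 1}
  have hmem : ∀ χ : Lin, charDegree (indFun I (β χ * ψ)) = charDegree (φ : N → ℂ) * I.index ∧
      (Nat.card G : ℂ)⁻¹ * ∑ g : G, indFun I (β χ * ψ) (g * g) = 1 := by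
    intro χ
    have hirr : IsIrrCharacter I (β χ * ψ) :=
      CharCore.isIrrCharacter_hom_mul ((l χ).comp I.subtype) hψ
    refine ⟨?_, indicator_of_mult_one I (hspec χ).1 (fun g => ?_) hirr (fun g => ?_) ?_ ?_⟩
    · obtain ⟨d, -, hd⟩ := CharCore.IsIrrCharacter.exists_degree φ.2
      have hψ1 : ψ 1 = d := by
        rw [← hd, ← hψN 1, map_one]
      have h : indFun I (β χ * ψ) 1 = ((d * I.index : ℕ) : ℂ) := by
        rw [CharInd.indFun_apply_one, Pi.mul_apply, hψ1]
        simp [β]; ring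
      simp only [charDegree, h, hd, Complex.natCast_re, Nat.floor_natCast]
    · rw [CharInd.indFun_apply, map_mul, map_inv₀, map_natCast, map_sum]
      congr 1
      refine Finset.sum_congr rfl fun x _ => ?_
      by_cases hx : x⁻¹ * g * x ∈ I
      · rw [CharInd.extendByZero_mem _ hx, Pi.mul_apply, map_mul, hψreal]
        congr 1
        exact hlreal χ _
      · rw [CharInd.extendByZero_notMem _ hx, map_zero]
    · rw [Pi.mul_apply, map_mul, hψreal]
      congr 1
      exact hlreal χ _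
    · refine Eq.trans ?_ hν
      congr 1
      refine Finset.sum_congr rfl fun g _ => ?_
      show (l χ ((g : G) * g) : ℂ) * ψ (g * g) = _
      rw [map_mul, Units.val_mul, hl2, one_mul]
    · rw [← CharInd.classInner_indFun_right I _ (CharCore.IsCharacter.isClassFunction
        (CharCore.IsIrrCharacter.isCharacter (hspec χ).1))]
      exact (CharCore.isIrrCharacter_iff.mp (hspec χ).1).2
  let F : Lin → Tgt := fun χ => ⟨⟨_, (hspec χ).1⟩, hmem χ⟩
  have hF : ∀ χ μ, F χ = F μ → ∀ i ∈ I, l χ i = l μ i := by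
    intro χ μ h i hi
    have h1 : indFun I (β χ * ψ) = indFun I (β μ * ψ) :=
      congrArg (fun z : Tgt => ((z.1 : IrrCharacter G) : G → ℂ)) h
    have h2 : β χ = β μ := by rw [← (hspec χ).2.2, ← (hspec μ).2.2, h1]
    exact Units.ext (congrFun h2 ⟨i, hi⟩)
  have hfib : ∀ t : Tgt, Nat.card {χ : Lin // F χ = t} ≤ I.index := by
    intro t
    rcases isEmpty_or_nonempty {χ : Lin // F χ = t} with h | h
    · simp
    obtain ⟨χ₀⟩ := h
    let q : {χ : Lin // F χ = t} → (G ⧸ I) → ℂ := fun χ => Quotient.lift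
      (fun g => ((l χ.1 * (l χ₀.1)⁻¹) g : ℂ)) (fun a b hab => by
        have h1 : a⁻¹ * b ∈ I := QuotientGroup.leftRel_apply.mp hab
        have h2 : (l χ.1 * (l χ₀.1)⁻¹) (a⁻¹ * b) = 1 := by
          rw [MonoidHom.mul_apply, MonoidHom.inv_apply, hF χ.1 χ₀.1 (χ.2.trans χ₀.2.symm) _ h1,
            mul_inv_cancel]
        rw [map_mul, map_inv, inv_mul_eq_one] at h2
        rw [h2])
    let toHom : {χ : Lin // F χ = t} → (G →* ℂ) := fun χ =>
      (Units.coeHom ℂ).comp (l χ.1 * (l χ₀.1)⁻¹)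
    have hinj : Function.Injective toHom := by
      intro a b hab
      have h1 : l a.1 * (l χ₀.1)⁻¹ = l b.1 * (l χ₀.1)⁻¹ :=
        MonoidHom.ext fun g => Units.ext (DFunLike.congr_fun hab g)
      exact Subtype.ext (Subtype.ext (Subtype.ext (by rw [hl, hl, mul_right_cancel h1])))
    have hind : LinearIndependent ℂ q := by
      refine LinearIndependent.of_comp
        (LinearMap.funLeft ℂ ℂ (QuotientGroup.mk : G → G ⧸ I)) ?_
      exact (linearIndependent_monoidHom G ℂ).comp toHom hinj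
    have := hind.fintype_card_le_finrank
    rw [Module.finrank_fintype_fun_eq_card, Fintype.card_eq_nat_card, Fintype.card_eq_nat_card,
      ← Subgroup.index] at this
    exact this
  show Nat.card Lin ≤ I.index * Nat.card Tgt
  calc Nat.card Lin = Nat.card (Σ t : Tgt, {χ : Lin // F χ = t}) :=
        (Nat.card_congr (Equiv.sigmaFiberEquiv F)).symm
    _ = ∑ t : Tgt, Nat.card {χ : Lin // F χ = t} := Nat.card_sigma
    _ ≤ ∑ _t : Tgt, I.index := Finset.sum_le_sum fun t _ => hfib t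
    _ = I.index * Nat.card Tgt := by
        rw [Finset.sum_const, Finset.card_univ, Fintype.card_eq_nat_card, smul_eq_mul, mul_comm]

end Cfsg.Agent.S4912
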