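import Cfsg.Statements.S4914
import Cfsg.Agent.Blocks88.GlauberSylow
import Cfsg.Agent.Blocks88.FixedTable
import Cfsg.Agent.Blocks88.Defect

set_option autoImplicit false
open Cfsg

namespace Cfsg.Agent.S4914

open Blocks88

attribute [local instance] Fintype.ofFinite

/-- The degrees of corresponding characters agree up to sign modulo `p`. -/
theorem degree_congr {K : Type*} [Group K] [Fintype K] {P : Type*} [Group P] [Finite P]
    {φ : P →* MulAut K} {Q C : Subgroup K} {p : ℕ} [Fact p.Prime] (S : SylowSetup φ Q C p)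
    (χ : IrrCharacter K) (hχ : ∀ a k, (χ : K → ℂ) (φ a k) = (χ : K → ℂ) k)
    (ξ₀ : IrrCharacter C) (hξ₀ : InvOn φ C (ξ₀ : C → ℂ)) (m₀ : ℕ)
    (hm₀ : classInner (fun c : C => (χ : K → ℂ) c) ξ₀ = m₀)
    (hoth : ∀ ξ : IrrCharacter C, InvOn φ C (ξ : C → ℂ) → ξ ≠ ξ₀ →
      ∃ m : ℕ, classInner (fun c : C => (χ : K → ℂ) c) ξ = m ∧ p ∣ m) :
    (charDegree (χ : K → ℂ) : ZMod p) = (m₀ : ZMod p) * (charDegree (ξ₀ : C → ℂ) : ZMod p) := by
  have := Classical.decEq (IrrCharacter C)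
  obtain ⟨m, hm⟩ := CharCore.IsCharacter.exists_sum
    (CharCore.isCharacter_restrict (CharCore.irr_isCharacter χ) C)
  have hcoef : ∀ ξ : IrrCharacter C, classInner (fun c : C => (χ : K → ℂ) c) ξ = m ξ := fun ξ => by
    rw [hm, CharCore.classInner_sum_all]
  have hdeg : charDegree (χ : K → ℂ) = ∑ ξ : IrrCharacter C, m ξ * charDegree (ξ : C → ℂ) := by
    apply Nat.cast_injective (R := ℂ)
    have h := congrFun hm 1
    simp only [OneMemClass.coe_one, Finset.sum_apply, Pi.smul_apply, smul_eq_mul] at h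
    push_cast
    rw [← charDegree_cast, h]
    exact Finset.sum_congr rfl fun ξ _ => by rw [charDegree_cast]
  let α : P →* MulAut C := CharCore.restrictAut φ C (fun a c hc => S.map_mem a hc)
  let act : MulAction P (IrrCharacter C) := CharCore.irrAction α
  have hval : ∀ (a : P) (ξ : IrrCharacter C) (c : C),
      ((a • ξ : IrrCharacter C) : C → ℂ) (α a c) = (ξ : C → ℂ) c := fun a ξ c => by
    show (ξ : C → ℂ) ((α a)⁻¹ (α a c)) = _
    rw [MulAut.inv_apply_self]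
  have hfix : ∀ ξ : IrrCharacter C, InvOn φ C (ξ : C → ℂ) ↔
      ξ ∈ MulAction.fixedPoints P (IrrCharacter C) := fun ξ => by
    constructor
    · intro h a
      refine Subtype.ext (funext fun c => ?_)
      obtain ⟨d, rfl⟩ := (α a).surjective c
      rw [hval a ξ d]
      exact (h a d (α a d) rfl).symm
    · intro h a c c' hc
      rw [show c' = α a c from Subtype.ext hc]
      conv_lhs => rw [← h a]
      exact hval a ξ c
  have hg : ∀ (a : P) ξ, ((m (a • ξ) * charDegree ((a • ξ : IrrCharacter C) : C → ℂ) : ℕ) : ZMod p) =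
      ((m ξ * charDegree (ξ : C → ℂ) : ℕ) : ZMod p) := by
    intro a ξ
    have h1 : m (a • ξ) = m ξ := by
      apply Nat.cast_injective (R := ℂ)
      rw [← hcoef, ← hcoef]
      simp only [CharCore.classInner_def]
      congr 1
      refine (Fintype.sum_equiv (α a).toEquiv _ _ fun c => ?_).symm
      show _ = (χ : K → ℂ) (φ a (c : K)) * (starRingEnd ℂ) (((a • ξ : IrrCharacter C) : C → ℂ) (α a c))
      rw [hχ, hval]
    have h2 : charDegree ((a • ξ : IrrCharacter C) : C → ℂ) = charDegree (ξ : C → ℂ) := by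
      have h := hval a ξ 1
      rw [map_one] at h
      simp only [charDegree, h]
    rw [h1, h2]
  rw [hdeg, Nat.cast_sum, sum_eq_sum_fixed (p := p) (R := ZMod p) S.isPGroupP
    (fun ξ : IrrCharacter C => ((m ξ * charDegree (ξ : C → ℂ) : ℕ) : ZMod p)) hg]
  rw [Finset.sum_eq_single (⟨ξ₀, (hfix ξ₀).mp hξ₀⟩ : MulAction.fixedPoints P (IrrCharacter C))]
  · rw [Nat.cast_mul]
    congr 2
    exact Nat.cast_injective (R := ℂ) ((hcoef ξ₀).symm.trans hm₀)
  · intro ξ _ hne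
    obtain ⟨k, hk, hpk⟩ := hoth ξ.1 ((hfix ξ.1).mpr ξ.2) (fun h => hne (Subtype.ext h))
    rw [hcoef, Nat.cast_inj] at hk
    rw [Nat.cast_mul, hk, (ZMod.natCast_eq_zero_iff k p).mpr hpk, zero_mul]
  · intro h; exact (h (by simp)).elim

/-- Let P and K be subgroups of a finite group G with P a p-group normalizing K, and suppose K has a normal Sylow p-subgroup Q. Let C be the subgroup of those k ∈ K whose commutator with every element of P lies in Q (so that C/Q is the fixed-point subgroup of P on K/Q). Then there is a bijection f from the P-invariant irreducible complex characters of K onto the P-invariant irreducible complex characters of C such that, for every P-invariant irreducible character χ of K, the multiplicity of f(χ) in the restriction of χ to C is a natural number congruent to 1 or to −1 modulo p, every other P-invariant irreducible character of C occurs in that restriction with multiplicity divisible by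 p, and the degrees of χ and f(χ) are congruent modulo p up to sign. -/
theorem result {G : Type*} [Group G] [Finite G] (p : ℕ) [Fact p.Prime] (P K Q C : Subgroup G) (hP : IsPGroup p ↥P) (hPK : P ≤ Subgroup.normalizer (K : Set G)) (hQK : Q ≤ K) (hQn : ∀ k ∈ K, ∀ q ∈ Q, k * q * k⁻¹ ∈ Q) (hQp : ∃ a : ℕ, Nat.card ↥Q = p ^ a) (hQsyl : ¬ p ∣ Q.relIndex K) (hCK : C ≤ K) (hC : ∀ k : G, k ∈ C ↔ (k ∈ K ∧ ∀ x ∈ P, x * k * x⁻¹ * k⁻¹ ∈ Q)) : ∃ f : {χ : Cfsg.IrrCharacter ↥K // (∀ x ∈ P, ∀ k k' : ↥K, (k' : G) = x * (k : G) * x⁻¹ → (χ : ↥K → ℂ) k' = (χ : ↥K → ℂ) k)} → {ξ : Cfsg.IrrCharacter ↥C // (∀ x ∈ P, ∀ k k' : ↥C, (k' : G) = x * (k : G) * x⁻¹ → (ξ : ↥C → ℂ) k' = (ξ : ↥C → ℂ) k)}, Function.Bijective f ∧ ∀ χ, (∀ ξ : {ξ : Cfsg.IrrCharacter ↥C // (∀ x ∈ P, ∀ k k' : ↥C, (k' : G) = x * (k : G) * x⁻¹ → (ξ : ↥C → ℂ) k' = (ξ : ↥C → ℂ) k)}, ∃ m : ℕ, (Nat.card ↥C : ℂ)⁻¹ * ∑ᶠ c : ↥C, (χ.1 : ↥K → ℂ) (Subgroup.inclusion hCK c) * (starRingEnd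 ℂ) ((ξ.1 : ↥C → ℂ) c) = (m : ℂ) ∧ (ξ = f χ → ((m : ZMod p) = 1 ∨ (m : ZMod p) = -1)) ∧ (ξ ≠ f χ → p ∣ m)) ∧ ((Cfsg.charDegree ((f χ).1 : ↥C → ℂ) : ZMod p) = (Cfsg.charDegree (χ.1 : ↥K → ℂ) : ZMod p) ∨ (Cfsg.charDegree ((f χ).1 : ↥C → ℂ) : ZMod p) = -(Cfsg.charDegree (χ.1 : ↥K → ℂ) : ZMod p)) := by
  let φ : ↥P →* MulAut ↥K := K.normalizerMonoidHom.comp (Subgroup.inclusion hPK)
  have hφ : ∀ (x : ↥P) (k : ↥K), ((φ x k : ↥K) : G) = x * k * (x : G)⁻¹ := fun x k => rfl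
  -- `Q` is invariant under `P`, being the normal Sylow subgroup of `K`
  have hQinv : ∀ x ∈ P, ∀ q ∈ Q, x * q * x⁻¹ ∈ Q := by
    intro x hx q hq
    set Q' : Subgroup ↥K := Q.subgroupOf K
    have : Q'.Normal := ⟨fun n hn g => hQn g g.2 n hn⟩
    let f := (φ ⟨x, hx⟩).toMonoidHom
    obtain ⟨a, ha⟩ := hQp
    have hQ'p : IsPGroup p Q' := IsPGroup.of_card (n := a)
      (by rw [← ha]; exact Nat.card_congr (Subgroup.subgroupOfEquivOfLe hQK).toEquiv)
    have hle : Q'.map f ≤ Q' := by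
      have h1 : Nat.Coprime (Nat.card (Q'.map f)) Q'.index := by
        obtain ⟨b, hb⟩ := (hQ'p.map f).exists_card_eq
        rw [hb]
        exact Nat.Coprime.pow_left b ((Fact.out : p.Prime).coprime_iff_not_dvd.mpr hQsyl)
      intro y hy
      rw [← QuotientGroup.eq_one_iff (N := Q'), ← orderOf_eq_one_iff]
      refine Nat.eq_one_of_dvd_coprimes h1 ?_ ?_
      · exact (orderOf_map_dvd (QuotientGroup.mk' Q') y).trans (Subgroup.orderOf_dvd_natCard _ hy)
      · rw [Subgroup.index_eq_card]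
        exact orderOf_dvd_natCard _
    have h : ((φ ⟨x, hx⟩ ⟨q, hQK hq⟩ : ↥K) : G) ∈ Q :=
      hle ⟨⟨q, hQK hq⟩, hq, rfl⟩
    exact h
  set Q' : Subgroup ↥K := Q.subgroupOf K with hQ'
  set C' : Subgroup ↥K := C.subgroupOf K with hC'
  have S : SylowSetup φ Q' C' p :=
    { normal := ⟨fun n hn g => hQn g g.2 n hn⟩
      isPGroupP := hP
      isPGroupQ := by
        obtain ⟨a, ha⟩ := hQp
        exact IsPGroup.of_card (n := a)
          (by rw [← ha]; exact Nat.card_congr (Subgroup.subgroupOfEquivOfLe hQK).toEquiv)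
      not_dvd := hQsyl
      inv := fun x q hq => hQinv x x.2 q hq
      mem_iff := fun k => ⟨fun h x => ((hC (k : G)).mp h).2 x x.2,
        fun h => (hC (k : G)).mpr ⟨k.2, fun x hx => h ⟨x, hx⟩⟩⟩ }
  obtain ⟨f, hfb, hf⟩ := glauber_sylow S
  let e : ↥C' ≃* ↥C := Subgroup.subgroupOfEquivOfLe hCK
  have hχiff : ∀ χ : IrrCharacter ↥K,
      (∀ x ∈ P, ∀ k k' : ↥K, (k' : G) = x * (k : G) * x⁻¹ → (χ : ↥K → ℂ) k' = (χ : ↥K → ℂ) k) ↔
        ∀ (a : ↥P) k, (χ : ↥K → ℂ) (φ a k) = (χ : ↥K → ℂ) k := fun χ =>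
    ⟨fun h a k => h a a.2 k _ (hφ a k), fun h x hx k k' hk => by
      rw [show k' = φ ⟨x, hx⟩ k from Subtype.ext hk]; exact h ⟨x, hx⟩ k⟩
  let toC : {ξ : IrrCharacter ↥C' // InvOn φ C' (ξ : ↥C' → ℂ)} ≃
      {ξ : IrrCharacter ↥C // (∀ x ∈ P, ∀ k k' : ↥C, (k' : G) = x * (k : G) * x⁻¹ →
        (ξ : ↥C → ℂ) k' = (ξ : ↥C → ℂ) k)} :=
    { toFun := fun ξ => ⟨⟨fun c => (ξ.1 : ↥C' → ℂ) (e.symm c),
          CharCore.isIrrCharacter_comp_surjective ξ.1.2 e.symm.toMonoidHom e.symm.surjective⟩,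
        fun x hx k k' hk => ξ.2 ⟨x, hx⟩ (e.symm k) (e.symm k') (Subtype.ext hk)⟩
      invFun := fun ξ => ⟨⟨fun c => (ξ.1 : ↥C → ℂ) (e c),
          CharCore.isIrrCharacter_comp_surjective ξ.1.2 e.toMonoidHom e.surjective⟩,
        fun a h h' hh => ξ.2 a a.2 (e h) (e h') (congrArg Subtype.val hh :)⟩
      left_inv := fun ξ => Subtype.ext (Subtype.ext (funext fun c =>
        congrArg (ξ.1 : ↥C' → ℂ) (e.symm_apply_apply c)))
      right_inv := fun ξ => Subtype.ext (Subtype.ext (funext fun c =>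
        congrArg (ξ.1 : ↥C → ℂ) (e.apply_symm_apply c))) }
  let eX := Equiv.subtypeEquivRight hχiff
  refine ⟨fun χ => toC (f (eX χ)), toC.bijective.comp (hfb.comp eX.bijective),
    fun χ => ⟨fun ξ => ?_, ?_⟩⟩
  · obtain ⟨m, hm, h1, h2⟩ := hf (eX χ) (toC.symm ξ)
    refine ⟨m, ?_, fun he => ?_, fun hne => h2 fun h => hne (by show ξ = toC (f (eX χ)); rw [← h, toC.apply_symm_apply])⟩
    · rw [← hm, CharCore.classInner_def, finsum_eq_sum_of_fintype, Nat.card_congr e.toEquiv]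
      congr 1
      exact (Fintype.sum_equiv e.toEquiv _ _ fun c => rfl).symm
    · rcases h1 (by simp [he]) with h | h
      · exact Or.inl (by simpa using (ZMod.intCast_eq_intCast_iff (m : ℤ) 1 p).mpr h)
      · exact Or.inr (by simpa using (ZMod.intCast_eq_intCast_iff (m : ℤ) (-1) p).mpr h)
  · obtain ⟨m₀, hm₀, hsgn, -⟩ := hf (eX χ) (f (eX χ))
    have hd := degree_congr S (eX χ).1 (eX χ).2 (f (eX χ)).1 (f (eX χ)).2 m₀ hm₀
      (fun ξ hξ hne => by
        obtain ⟨m, hm, -, h2⟩ := hf (eX χ) ⟨ξ, hξ⟩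
        exact ⟨m, hm, h2 fun h => hne (congrArg Subtype.val h)⟩)
    have hdeg : charDegree ((toC (f (eX χ))).1 : ↥C → ℂ) =
        charDegree ((f (eX χ)).1 : ↥C' → ℂ) := by
      simp [charDegree, toC]
    rw [hdeg]
    change _ = (charDegree ((eX χ).1 : ↥K → ℂ) : ZMod p) ∨
      _ = -(charDegree ((eX χ).1 : ↥K → ℂ) : ZMod p)
    rcases hsgn rfl with h | h
    · have h' : (m₀ : ZMod p) = 1 := by simpa using (ZMod.intCast_eq_intCast_iff (m₀ : ℤ) 1 p).mpr h
      rw [hd, h', one_mul]; exact Or.inl rfl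
    · have h' : (m₀ : ZMod p) = -1 := by
        simpa using (ZMod.intCast_eq_intCast_iff (m₀ : ℤ) (-1) p).mpr h
      rw [hd, h', neg_one_mul, neg_neg]; exact Or.inr rfl

end Cfsg.Agent.S4914
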