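import Cfsg.Statements.S4916
import Cfsg.Agent.Blocks88.Modular
import Cfsg.Agent.Lib.BlocksCore.WeakOrth
import Cfsg.Agent.Lib.CharCore.Complete
-- import your own Cfsg.Agent.* helpers here

set_option autoImplicit false
open Cfsg

namespace Cfsg.Agent.S4916

/-- Let G be a finite group, p a prime and M a maximal ideal of the algebraic integers containing p. Then the principal character is the only irreducible character of degree prime to p in the principal p-block of G if and only if p does not divide the order of G. -/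
theorem result {G : Type*} [Group G] [Finite G] (p : ℕ) [Fact p.Prime] (M : Ideal Cfsg.AlgInt) (hM : Cfsg.IsPModular p M) : (∀ χ : Cfsg.IrrCharacter G, χ ∈ Cfsg.principalBlock M G → ¬ p ∣ Cfsg.charDegree (χ : G → ℂ) → (χ : G → ℂ) = fun _ => (1 : ℂ)) ↔ ¬ p ∣ Nat.card G := by
  classical
  have := Fintype.ofFinite G
  have := BlocksCore.isPrime hM
  have hp : p.Prime := Fact.out
  let one : Cfsg.IrrCharacter G := ⟨fun _ => 1, CharCore.isIrrCharacter_one⟩
  have hone : one ∈ Cfsg.principalBlock M G := BlocksCore.sameBlock_refl _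
  have hB : Cfsg.IsPBlock M (Cfsg.principalBlock M G) := ⟨one, rfl⟩
  constructor
  · intro h hdvd
    obtain ⟨y, hy⟩ := exists_prime_orderOf_dvd_card' p hdvd
    have h0 := BlocksCore.weakOrth hM hB (x := 1) (y := y)
      (by rw [orderOf_one]; exact hp.not_dvd_one) (by rw [hy])
    rw [finsum_mem_eq_toFinset_sum] at h0
    apply BlocksCore.not_memLocalIdeal_one (M := M)
    have hsum : MemLocalIdeal M (∑ χ ∈ (Cfsg.principalBlock M G).toFinset, (χ : G → ℂ) 1 ^ 2) := by
      have hdiff : MemLocalIdeal M (∑ χ ∈ (Cfsg.principalBlock M G).toFinset,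
          ((χ : G → ℂ) 1 ^ 2 - (χ : G → ℂ) 1 * starRingEnd ℂ ((χ : G → ℂ) y))) := by
        refine BlocksCore.memLocalIdeal_sum fun χ _ => ?_
        rw [sq, ← mul_sub, ← CharCore.IsCharacter.apply_inv (CharCore.irr_isCharacter χ)]
        refine BlocksCore.memLocalIdeal_mul_left
          (BlocksCore.memLocalRing_of_isIntegral
            (CharCore.IsCharacter.isIntegral (CharCore.irr_isCharacter χ) 1)) ?_
        rw [← neg_sub]
        exact BlocksCore.memLocalIdeal_neg (Blocks88.char_sub_degree_mem hM
          (CharCore.irr_isCharacter χ) (k := 1) (by rw [orderOf_inv, hy, pow_one]))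
      rwa [Finset.sum_sub_distrib, h0, sub_zero] at hdiff
    rw [← Finset.add_sum_erase _ _ (Set.mem_toFinset.mpr hone)] at hsum
    have hrest : MemLocalIdeal M (∑ χ ∈ (Cfsg.principalBlock M G).toFinset.erase one,
        (χ : G → ℂ) 1 ^ 2) := by
      refine BlocksCore.memLocalIdeal_sum fun χ hχ => ?_
      obtain ⟨hne, hmem⟩ := Finset.mem_erase.mp hχ
      have hd : p ∣ Cfsg.charDegree (χ : G → ℂ) := by
        by_contra hnd
        exact hne (Subtype.ext (h χ (Set.mem_toFinset.mp hmem) hnd))
      rw [sq, BlocksCore.irr_one_eq χ]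
      exact BlocksCore.memLocalIdeal_mul_right
        ((BlocksCore.memLocalIdeal_natCast_iff hM _).mpr hd) (BlocksCore.memLocalRing_natCast _)
    simpa [one] using BlocksCore.memLocalIdeal_sub hsum hrest
  · intro hnd χ hχ _
    have hA : ∀ g, MemLocalRing M (Cfsg.blockCoeff ({one} : Set (Cfsg.IrrCharacter G)) g) := fun g => by
      rw [Cfsg.blockCoeff, finsum_mem_singleton]
      simpa [one] using BlocksCore.memLocalRing_natCast_inv hM hnd
    exact congrArg Subtype.val
      (BlocksCore.blockOf_subset_of_integral hM hA (Set.mem_singleton one) hχ)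

end Cfsg.Agent.S4916
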