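import Cfsg.Statements.S4923
import Cfsg.Agent.Lib.PGroup.MaximalClassTwo
import Cfsg.Agent.Lib.CharCore.Complete
import Cfsg.Agent.Lib.CharCore.Eigen
import Mathlib.NumberTheory.Cyclotomic.Gal

set_option autoImplicit false
open Cfsg

namespace Cfsg.Agent.S4923

open Subgroup
open scoped IntermediateField commutatorElement

variable {G : Type*} [Group G] [Finite G]

/-- The field of the values at `g`. -/
noncomputable abbrev valField (g : G) : IntermediateField ℚ ℂ :=
  IntermediateField.adjoin ℚ {z : ℂ | ∃ χ : Cfsg.IrrCharacter G, (χ : G → ℂ) g = z}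

/-- Values as sums of powers of a root of unity. -/
theorem exists_exponents (g : G) {N : ℕ} [NeZero N] (hg : g ^ N = 1) {ξ : ℂ}
    (hξ : IsPrimitiveRoot ξ N) (χ : Cfsg.IrrCharacter G) :
    ∃ (d : ℕ) (e : Fin d → ℕ), ∀ k : ℕ, (χ : G → ℂ) (g ^ k) = ∑ i, (ξ ^ e i) ^ k := by
  obtain ⟨n, ρ, -, hχ⟩ := χ.2
  obtain ⟨b, ω, hω, -, -, htr⟩ := CharCore.exists_eigenvalues ρ g
  have h : ∀ i, ∃ j, ξ ^ j = ω i := fun i => by
    obtain ⟨j, -, hj⟩ := hξ.eq_pow_of_pow_eq_one (orderOf_dvd_iff_pow_eq_one.mp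
      ((orderOf_dvd_of_pow_eq_one (hω i)).trans (orderOf_dvd_of_pow_eq_one hg)))
    exact ⟨j, hj⟩
  choose e he using h
  exact ⟨_, e, fun k => by rw [← hχ, htr]; simp only [he]⟩

/-- `η ^ k + θ ^ k` lies in any field containing `η + θ` and `η * θ`. -/
theorem pow_add_pow_mem {K : IntermediateField ℚ ℂ} {η θ : ℂ} (h1 : η + θ ∈ K) (h2 : η * θ ∈ K) :
    ∀ k : ℕ, η ^ k + θ ^ k ∈ K ∧ η ^ (k + 1) + θ ^ (k + 1) ∈ K := by
  intro k
  induction k with
  | zero => exact ⟨by simpa using add_mem (one_mem K) (one_mem K), by simpa using h1⟩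
  | succ k ih =>
    refine ⟨ih.2, ?_⟩
    have : η ^ (k + 1 + 1) + θ ^ (k + 1 + 1) =
        (η + θ) * (η ^ (k + 1) + θ ^ (k + 1)) - (η * θ) * (η ^ k + θ ^ k) := by ring
    rw [this]
    exact sub_mem (mul_mem h1 ih.2) (mul_mem h2 ih.1)

/-- Solutions of `x² ≡ 1` modulo a power of two. -/
theorem dvd_of_sq (m : ℕ) (hm : 1 ≤ m) (k : ℤ) (h : (2 : ℤ) ^ m ∣ (k - 1) * (k + 1)) :
    (2 : ℤ) ^ (m - 1) ∣ k - 1 ∨ (2 : ℤ) ^ (m - 1) ∣ k + 1 := by
  have hp : Prime (2 : ℤ) := Int.prime_two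
  have he : (2 : ℤ) ^ m = 2 * 2 ^ (m - 1) := by rw [← pow_succ']; congr 1; omega
  have hpar : (2 : ℤ) ∣ k - 1 := by
    rcases hp.dvd_or_dvd ((dvd_mul_right (2 : ℤ) (2 ^ (m - 1))).trans (he ▸ h)) with h' | h' <;>
      omega
  obtain ⟨a, ha⟩ := hpar
  rcases Nat.eq_zero_or_pos (m - 1) with h0 | h0
  · exact Or.inl (by rw [h0, pow_zero]; exact one_dvd _)
  rcases Int.even_or_odd a with ⟨b, hb⟩ | ⟨b, hb⟩
  · refine Or.inl ?_
    have hco : IsCoprime ((2 : ℤ) ^ (m - 1)) (2 * b + 1) :=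
      IsCoprime.pow_left ⟨-b, 1, by ring⟩
    refine hco.dvd_of_dvd_mul_right ?_
    have e : (k - 1) * (k + 1) = 2 * ((k - 1) * (2 * b + 1)) := by
      rw [show k + 1 = 2 * (2 * b + 1) by omega]; ring
    rw [e, he] at h
    exact (mul_dvd_mul_iff_left two_ne_zero).mp h
  · refine Or.inr ?_
    have hco : IsCoprime ((2 : ℤ) ^ (m - 1)) (2 * b + 1) :=
      IsCoprime.pow_left ⟨-b, 1, by ring⟩
    refine hco.dvd_of_dvd_mul_right ?_
    have e : (k - 1) * (k + 1) = 2 * ((k + 1) * (2 * b + 1)) := by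
      rw [show k - 1 = 2 * (2 * b + 1) by omega]; ring
    rw [e, he] at h
    exact (mul_dvd_mul_iff_left two_ne_zero).mp h

/-- Exponents of a root of unity only matter modulo its order. -/
theorem zpow_emod_root {η : ℂ} {M : ℕ} [NeZero M] (h : IsPrimitiveRoot η M) (k : ℤ) :
    η ^ (k % (M : ℤ)) = η ^ k := by
  conv_rhs => rw [← Int.emod_add_mul_ediv k M, zpow_add₀ (h.ne_zero (NeZero.ne M)), zpow_mul,
    zpow_natCast, h.pow_eq_one, one_zpow, mul_one]

/-- At most one non-trivial action on a cyclic subgroup of order `2 ^ (n - 1)`. -/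
theorem conj_eq_conj {n : ℕ} (hn : 3 ≤ n) {P : Sylow 2 G} (hP : Nat.card P = 2 ^ n) {g : G}
    (hg : orderOf g = 2 ^ (n - 1)) {x y : G} (hx : x * g * x⁻¹ ∈ zpowers g)
    (hy : y * g * y⁻¹ ∈ zpowers g) (hxg : x * g * x⁻¹ ≠ g) (hyg : y * g * y⁻¹ ≠ g) :
    x * g * x⁻¹ = y * g * y⁻¹ := by
  set N : Subgroup G := normalizer (zpowers g : Set G) with hN
  set C : Subgroup G := centralizer (zpowers g : Set G) with hC
  have hmem : ∀ z : G, z * g * z⁻¹ ∈ zpowers g → z ∈ N := fun z hz => by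
    refine (Subgroup.mem_normalizer_iff_map_conj_eq (H := zpowers g)).mpr ?_
    refine Subgroup.eq_of_le_of_card_ge ?_ (card_map_of_injective (MulAut.conj z).injective).ge
    rw [MonoidHom.map_zpowers, zpowers_le]
    exact hz
  have hCmem : ∀ z : G, z ∈ C ↔ z * g * z⁻¹ = g := fun z => by
    rw [hC, zpowers_eq_closure, centralizer_closure, mem_centralizer_singleton_iff,
      mul_inv_eq_iff_eq_mul]
  let φ : N →* MulAut ((zpowers g).subgroupOf N) := MulAut.conjNormal
  have hker : C.subgroupOf N = φ.ker := by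
    ext z
    rw [mem_subgroupOf, hCmem, MonoidHom.mem_ker]
    refine ⟨fun h => ?_, fun h => ?_⟩
    · ext ⟨⟨u, hu⟩, hu'⟩
      obtain ⟨k, rfl⟩ := mem_zpowers_iff.mp (mem_subgroupOf.mp hu')
      show (z : G) * g ^ k * (z : G)⁻¹ = g ^ k
      rw [← conj_zpow, h]
    · have hgN : g ∈ N := Subgroup.le_normalizer (mem_zpowers g)
      have := congrArg (fun t : MulAut ((zpowers g).subgroupOf N) =>
        (((t ⟨⟨g, hgN⟩, mem_subgroupOf.mpr (mem_zpowers g)⟩ : (zpowers g).subgroupOf N) : N) : G)) h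
      exact this
  haveI : IsCyclic ((zpowers g).subgroupOf N) :=
    (subgroupOfEquivOfLe (show zpowers g ≤ N from Subgroup.le_normalizer)).symm.isCyclic.mp inferInstance
  obtain ⟨i, -, hi⟩ := (Nat.dvd_prime_pow Nat.prime_two (m := n - 2)).mp (show
    Nat.card φ.range ∣ 2 ^ (n - 2) by
      refine (Subgroup.card_subgroup_dvd_card _).trans ?_
      rw [IsCyclic.card_mulAut, Nat.card_congr
        (subgroupOfEquivOfLe (show zpowers g ≤ N from Subgroup.le_normalizer)).toEquiv,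
        Nat.card_zpowers, hg, Nat.totient_prime_pow Nat.prime_two (by omega)]
      simp [show n - 1 - 1 = n - 2 by omega])
  have hrel : C.relIndex N = 2 ^ i := by
    rw [Subgroup.relIndex, hker, Subgroup.index_ker, hi]
  have hi2 : 2 ^ (n - 1 + i) ∣ Nat.card G := by
    refine dvd_trans ?_ (Subgroup.card_subgroup_dvd_card N)
    rw [← relIndex_bot_left, ← Subgroup.inf_relIndex_right, bot_inf_eq]
    rw [← Subgroup.relIndex_mul_relIndex ⊥ (C ⊓ N) N bot_le inf_le_right, inf_relIndex_right,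
      hrel, pow_add, relIndex_bot_left]
    refine mul_dvd_mul_right ?_ _
    rw [← hg, ← Nat.card_zpowers]
    refine Subgroup.card_dvd_of_le (le_inf ?_ Subgroup.le_normalizer)
    rw [zpowers_le, hCmem, mul_inv_cancel_right]
  have hi1 : i ≤ 1 := by
    have h1 := P.card_eq_multiplicity
    rw [hP] at h1
    have h2 := Nat.pow_right_injective (le_refl 2) h1
    have h3 := (Nat.Prime.pow_dvd_iff_le_factorization Nat.prime_two Nat.card_pos.ne').mp hi2
    omega
  have hxN := hmem x hx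
  have hyN := hmem y hy
  have hne : ∀ z : G, ∀ hz : z ∈ N, z * g * z⁻¹ ≠ g → (⟨z, hz⟩ : N) ∉ C.subgroupOf N :=
    fun z hz h h' => h ((hCmem z).mp (mem_subgroupOf.mp h'))
  have h2 : (C.subgroupOf N).index = 2 := by
    have : i = 1 := by
      rcases Nat.le_one_iff_eq_zero_or_eq_one.mp hi1 with h | h
      · exfalso
        rw [h, pow_zero] at hrel
        exact hne x hxN hxg (mem_subgroupOf.mpr (relIndex_eq_one.mp hrel hxN))
      · exact h
    rw [this] at hrel
    simpa [Subgroup.relIndex] using hrel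
  have h3 := (mul_mem_iff_of_index_two h2 (a := (⟨y, hyN⟩ : N)⁻¹) (b := ⟨x, hxN⟩)).mpr
    (iff_of_false (by rw [inv_mem_iff]; exact hne y hyN hyg) (hne x hxN hxg))
  have h4 := (hCmem (y⁻¹ * x)).mp (mem_subgroupOf.mp h3)
  calc x * g * x⁻¹ = y * ((y⁻¹ * x) * g * (y⁻¹ * x)⁻¹) * y⁻¹ := by group
    _ = _ := by rw [h4]

/-- Field automorphisms permute the values as the powers of `g`. -/
theorem algHom_val {g : G} {N : ℕ} [NeZero N] (hg : g ^ N = 1) {ξ : ℂ}
    (hξ : IsPrimitiveRoot ξ N) {E : IntermediateField ℚ ℂ} (hξE : ξ ∈ E) (σ : E →ₐ[ℚ] ℂ) {a : ℕ}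
    (hσ : σ ⟨ξ, hξE⟩ = ξ ^ a) (χ : Cfsg.IrrCharacter G) :
    ∃ v : E, (v : ℂ) = (χ : G → ℂ) g ∧ σ v = (χ : G → ℂ) (g ^ a) := by
  obtain ⟨d, e, he⟩ := exists_exponents g hg hξ χ
  refine ⟨∑ i, (⟨ξ, hξE⟩ : E) ^ e i, ?_, ?_⟩
  · rw [← pow_one g, he 1]
    simp only [pow_one]
    rw [show ((∑ i, (⟨ξ, hξE⟩ : E) ^ e i : E) : ℂ) = E.val (∑ i, (⟨ξ, hξE⟩ : E) ^ e i) from rfl,
      map_sum]
    simp
  · rw [he a, map_sum]
    exact Finset.sum_congr rfl fun i _ => by rw [map_pow, hσ, ← pow_mul, ← pow_mul, mul_comm]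

set_option maxHeartbeats 1000000 in
theorem forward (P : Sylow 2 G) (n : ℕ) (hn : 3 ≤ n) (hP : Nat.card P = 2 ^ n) (ζ : ℂ) (hζ : IsPrimitiveRoot ζ (2 ^ (n - 1))) (h4 : (commutator ↥P).index = 4) :
      ∃ g : G, g ∈ (P : Subgroup G) ∧ 2 ∣ (Subgroup.centralizer ({g} : Set G)).index ∧
        (IntermediateField.adjoin ℚ {z : ℂ | ∃ χ : Cfsg.IrrCharacter G, (χ : G → ℂ) g = z} = IntermediateField.adjoin ℚ ({ζ + ζ⁻¹} : Set ℂ) ∨
          IntermediateField.adjoin ℚ {z : ℂ | ∃ χ : Cfsg.IrrCharacter G, (χ : G → ℂ) g = z} = IntermediateField.adjoin ℚ ({ζ - ζ⁻¹} : Set ℂ)) := by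
  classical
  haveI : Fact (Nat.Prime 2) := ⟨Nat.prime_two⟩
  have hPp : IsPGroup 2 P := P.isPGroup'
  haveI : NeZero (2 ^ n) := ⟨by positivity⟩
  obtain ⟨ξ, hξ2⟩ := IsAlgClosed.exists_pow_nat_eq ζ (by norm_num : 0 < 2)
  have hζ0 : ζ ≠ 0 := hζ.ne_zero (by positivity)
  have hhalf : ζ ^ 2 ^ (n - 2) = -1 := by
    have h : IsPrimitiveRoot (ζ ^ 2 ^ (n - 2)) 2 := by
      refine hζ.pow (by positivity) ?_
      rw [← pow_succ]; congr 1; omega
    exact h.eq_neg_one_of_two_right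
  have hξ : IsPrimitiveRoot ξ (2 ^ n) := by
    refine IsPrimitiveRoot.iff_orderOf.mpr (orderOf_eq_prime_pow (n := n - 1) ?_ ?_) |> (fun h => by
      rwa [show n - 1 + 1 = n by omega] at h)
    · rw [show n - 1 = (n - 2) + 1 by omega, pow_succ', pow_mul, hξ2, hhalf]
      norm_num
    · rw [pow_succ', pow_mul, hξ2, hζ.pow_eq_one]
  have hint : IsIntegral ℚ ξ := hξ.isIntegral (NeZero.pos (2 ^ n)) |>.tower_top
  set E : IntermediateField ℚ ℂ := ℚ⟮ξ⟯ with hE
  have hξE : ξ ∈ E := IntermediateField.mem_adjoin_simple_self ℚ ξ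
  have hζE : ζ ∈ E := hξ2 ▸ pow_mem hξE 2
  haveI : IsCyclotomicExtension {(2 ^ n)} ℚ E := by
    change IsCyclotomicExtension {(2 ^ n)} ℚ E.toSubalgebra
    rw [hE, IntermediateField.adjoin_simple_toSubalgebra_of_isAlgebraic hint.isAlgebraic]
    exact hξ.adjoin_isCyclotomicExtension ℚ
  haveI : IsGalois ℚ E := IsCyclotomicExtension.isGalois {(2 ^ n)} ℚ E
  haveI : FiniteDimensional ℚ E := IsCyclotomicExtension.finiteDimensional {(2 ^ n)} ℚ E
  obtain ⟨c, x, hc, hci, hxc, -, hZ, -⟩ := PGroup.structure_of_commutator_index hn hP h4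
  set g : G := (c : G) with hg
  have hgo : orderOf g = 2 ^ (n - 1) := by rw [hg, Subgroup.orderOf_coe, hc]
  have hgN : g ^ (2 ^ n) = 1 :=
    orderOf_dvd_iff_pow_eq_one.mp (hgo ▸ pow_dvd_pow 2 (Nat.sub_le n 1))
  haveI : (zpowers c).Normal := normal_of_index_eq_two hci
  obtain ⟨k, hk⟩ := mem_zpowers_iff.mp (Normal.conj_mem inferInstance c (mem_zpowers c) x)
  have hne : x * c * x⁻¹ ≠ c := by
    intro h
    have hall : zpowers c ⊔ zpowers x = ⊤ :=
      (PGroup.isCoatom_of_index_prime (by rw [hci]; exact Nat.prime_two)).2 _ (lt_of_le_of_ne le_sup_left fun he =>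
        hxc (he.symm ▸ (le_sup_right (a := zpowers c)) (mem_zpowers x)))
    have hcz : c ∈ center P := mem_center_iff.mpr fun u => by
      have : zpowers c ⊔ zpowers x ≤ centralizer {c} :=
        sup_le (zpowers_le.mpr (mem_centralizer_singleton_iff.mpr rfl))
          (zpowers_le.mpr (mem_centralizer_singleton_iff.mpr (mul_inv_eq_iff_eq_mul.mp h)))
      exact mem_centralizer_singleton_iff.mp (this (hall ▸ mem_top u))
    have h1 := Subgroup.orderOf_dvd_natCard _ hcz
    rw [hZ, hc] at h1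
    have := (Nat.pow_dvd_pow_iff_le_right (le_refl 2)).mp (h1.trans (dvd_of_eq (pow_one 2).symm))
    omega
  have hk2 : ((2 : ℤ) ^ (n - 1)) ∣ (k - 1) * (k + 1) := by
    have h1 : x * x ∈ zpowers c := by
      have := (mul_mem_iff_of_index_two hci (a := x) (b := x)).mpr Iff.rfl
      exact this
    obtain ⟨t, ht⟩ := mem_zpowers_iff.mp h1
    have h2 : c ^ (k * k) = c := by
      rw [zpow_mul, hk, conj_zpow, hk, ← mul_assoc, ← mul_assoc, mul_assoc _ x⁻¹ x⁻¹,
        ← mul_inv_rev, ← ht, (Commute.refl c).zpow_left t, mul_inv_cancel_right]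
    have h3 : c ^ (k * k - 1) = 1 := by rw [zpow_sub_one, h2, mul_inv_cancel]
    rw [← orderOf_dvd_iff_zpow_eq_one, hc] at h3
    push_cast at h3
    rwa [show (k - 1) * (k + 1) = k * k - 1 by ring]
  have hk1 : (2 : ℤ) ^ (n - 2) ∣ k + 1 := by
    rcases dvd_of_sq (n - 1) (by omega) k hk2 with h | h <;>
      rw [show n - 1 - 1 = n - 2 by omega] at h
    · -- then `c²` is central
      rcases Nat.lt_or_ge n 4 with hn4 | hn4
      · rw [show n - 2 = 1 by omega, pow_one] at h ⊢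
        omega
      exfalso
      have hc2 : x * c ^ 2 * x⁻¹ = c ^ 2 := by
        rw [← conj_pow, ← hk, ← zpow_natCast, ← zpow_mul, ← mul_inv_eq_one,
          ← zpow_natCast c 2, ← zpow_sub, ← orderOf_dvd_iff_zpow_eq_one, hc]
        push_cast
        rw [show k * 2 - 2 = 2 * (k - 1) by ring, show n - 1 = n - 2 + 1 by omega, pow_succ']
        exact mul_dvd_mul_left 2 h
      have hcz : c ^ 2 ∈ center P := mem_center_iff.mpr fun u => by
        have hall : zpowers c ⊔ zpowers x = ⊤ :=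
          (PGroup.isCoatom_of_index_prime (by rw [hci]; exact Nat.prime_two)).2 _ (lt_of_le_of_ne le_sup_left
            fun he => hxc (he.symm ▸ (le_sup_right (a := zpowers c)) (mem_zpowers x)))
        have : zpowers c ⊔ zpowers x ≤ centralizer {c ^ 2} :=
          sup_le (zpowers_le.mpr (mem_centralizer_singleton_iff.mpr (Commute.self_pow c 2).eq))
            (zpowers_le.mpr (mem_centralizer_singleton_iff.mpr (mul_inv_eq_iff_eq_mul.mp hc2)))
        exact mem_centralizer_singleton_iff.mp (this (hall ▸ mem_top u))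
      have h1 := Subgroup.orderOf_dvd_natCard _ hcz
      rw [hZ] at h1
      have h2 : c ^ (2 * 2) = 1 := by
        rw [pow_mul]; exact orderOf_dvd_iff_pow_eq_one.mp h1
      rw [← orderOf_dvd_iff_pow_eq_one, hc, ← sq] at h2
      have := (Nat.pow_dvd_pow_iff_le_right (le_refl 2)).mp h2
      omega
    · exact h
  obtain ⟨m, hm⟩ := hk1
  have hzk : ζ ^ k = (-1) ^ m * ζ⁻¹ := by
    have h5 : ζ ^ (k + 1) = (-1) ^ m := by
      rw [hm, zpow_mul, show ((2 : ℤ) ^ (n - 2)) = ((2 ^ (n - 2) : ℕ) : ℤ) by norm_num,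
        zpow_natCast, hhalf]
    rw [zpow_add_one₀ hζ0] at h5
    rw [← h5, mul_inv_cancel_right₀ hζ0]
  set ε : ℂ := (-1) ^ m with hε
  have hε1 : ε = 1 ∨ ε = -1 := (Int.even_or_odd m).imp Even.neg_one_zpow Odd.neg_one_zpow
  have hgk : (x : G) * g * (x : G)⁻¹ = g ^ k := congrArg Subtype.val hk.symm
  refine ⟨g, c.2, ?_, ?_⟩
  · -- the class has even size
    by_contra hodd
    obtain ⟨S⟩ : Nonempty (Sylow 2 (centralizer ({g} : Set G))) := inferInstance
    set S' : Subgroup G := (S : Subgroup (centralizer ({g} : Set G))).map (Subgroup.subtype _)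
      with hS'
    have hSp : IsPGroup 2 S' := S.isPGroup'.map _
    have hScard : Nat.card S' = 2 ^ n := by
      rw [hS', card_map_of_injective (Subgroup.subtype_injective _), S.card_eq_multiplicity]
      congr 1
      have h1 := P.card_eq_multiplicity
      rw [hP] at h1
      have h2 := Nat.pow_right_injective (le_refl 2) h1
      have h3 := congrArg (fun t : ℕ => t.factorization 2)
        (Subgroup.card_mul_index (centralizer ({g} : Set G)))
      simp only [Nat.factorization_mul Nat.card_pos.ne' Subgroup.index_ne_zero_of_finite,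
        Finsupp.add_apply, Nat.factorization_eq_zero_of_not_dvd hodd, add_zero] at h3
      omega
    obtain ⟨Q, hQ⟩ := hSp.exists_le_sylow
    have hQe : S' = (Q : Subgroup G) := by
      refine Subgroup.eq_of_le_of_card_ge hQ ?_
      rw [hScard, ← hP, Sylow.card_eq_multiplicity, Sylow.card_eq_multiplicity]
    have hgS : g ∈ (Q : Subgroup G) := by
      have hgC : g ∈ centralizer ({g} : Set G) := mem_centralizer_singleton_iff.mpr rfl
      set g' : centralizer ({g} : Set G) := ⟨g, hgC⟩ with hg'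
      haveI : (zpowers g').Normal := by
        refine ⟨fun u hu z => ?_⟩
        obtain ⟨j, rfl⟩ := mem_zpowers_iff.mp hu
        rw [← conj_zpow, show z * g' * z⁻¹ = g' from Subtype.ext (mul_inv_eq_iff_eq_mul.mpr
          (mem_centralizer_singleton_iff.mp z.2))]
        exact zpow_mem (mem_zpowers g') j
      have hp' : IsPGroup 2 (zpowers g') := IsPGroup.of_card (n := n - 1) (by
        rw [Nat.card_zpowers, hg', Subgroup.orderOf_mk, hgo])
      rw [← hQe, hS']
      exact ⟨g', hp'.le_sylow_of_normal S (mem_zpowers g'), rfl⟩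
    let e := P.equiv Q
    set q : Q := ⟨g, hgS⟩ with hq
    have hqz : e.symm q ∈ center P := mem_center_iff.mpr fun u => e.injective (by
      rw [map_mul, map_mul, e.apply_symm_apply]
      have hu : ((e u : Q) : G) ∈ S' := by rw [hQe]; exact (e u).2
      obtain ⟨w, -, hw⟩ := Subgroup.mem_map.mp (hS' ▸ hu)
      refine Subtype.ext ?_
      show ((e u : Q) : G) * g = g * ((e u : Q) : G)
      rw [← hw]
      exact mem_centralizer_singleton_iff.mp w.2)
    have h1 := Subgroup.orderOf_dvd_natCard _ hqz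
    rw [hZ, MulEquiv.orderOf_eq, hq, Subgroup.orderOf_mk, hgo] at h1
    have := (Nat.pow_dvd_pow_iff_le_right (le_refl 2)).mp (h1.trans (dvd_of_eq (pow_one 2).symm))
    omega
  have hkey : valField g = IntermediateField.adjoin ℚ ({ζ + ε * ζ⁻¹} : Set ℂ) := by
    refine le_antisymm ?_ ?_
    · rw [IntermediateField.adjoin_le_iff]
      rintro _ ⟨χ, rfl⟩
      show (χ : G → ℂ) g ∈ IntermediateField.adjoin ℚ ({ζ + ε * ζ⁻¹} : Set ℂ)
      haveI : NeZero (2 ^ (n - 1)) := ⟨by positivity⟩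
      obtain ⟨d, e, he⟩ := exists_exponents g (hgo ▸ pow_orderOf_eq_one g) hζ χ
      obtain ⟨l, hl⟩ := Int.eq_ofNat_of_zero_le (Int.emod_nonneg k
        (show ((2 ^ (n - 1) : ℕ) : ℤ) ≠ 0 by positivity))
      have hgl : g ^ l = g ^ k := by
        rw [← zpow_natCast, ← hl, ← hgo, zpow_mod_orderOf]
      have hζl : ζ ^ l = ε * ζ⁻¹ := by
        rw [← hzk, ← zpow_natCast, ← hl]
        exact zpow_emod_root hζ k
      have h1 : (χ : G → ℂ) (g ^ l) = (χ : G → ℂ) g :=
        ((CharCore.isConj_iff_forall_irr _ _).mp (isConj_iff.mpr ⟨(x : G), by rw [hgk, hgl]⟩ : IsConj g (g ^ l)) χ).symm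
      have h2 : (χ : G → ℂ) g = (2 : ℂ)⁻¹ * ∑ i, (ζ ^ e i + (ε * ζ⁻¹) ^ e i) := by
        rw [Finset.sum_add_distrib]
        have ha := he 1
        have hb := he l
        simp only [pow_one] at ha
        simp only [← pow_mul, mul_comm _ l] at hb
        simp only [pow_mul, hζl] at hb
        rw [← ha, ← hb, h1]
        ring
      rw [h2]
      rw [show (2 : ℂ) = ((2 : ℕ) : ℂ) from Nat.cast_ofNat.symm]
      refine mul_mem (inv_mem (natCast_mem _ 2)) (sum_mem fun i _ => ?_)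
      refine (pow_add_pow_mem (η := ζ) (θ := ε * ζ⁻¹) (IntermediateField.mem_adjoin_simple_self ℚ _) ?_ (e i)).1
      rw [mul_left_comm, mul_inv_cancel₀ hζ0, mul_one]
      rcases hε1 with h | h <;> rw [h]
      · exact one_mem _
      · exact neg_mem (one_mem _)
    · rw [IntermediateField.adjoin_le_iff, Set.singleton_subset_iff]
      let F : IntermediateField ℚ E := (valField g).comap E.val
      let z : E := ⟨ζ, hζE⟩ + algebraMap ℚ E ((-1) ^ m) * (⟨ζ, hζE⟩ : E)⁻¹
      have hzval : (z : ℂ) = ζ + ε * ζ⁻¹ := by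
        show ζ + algebraMap ℚ ℂ ((-1) ^ m) * ζ⁻¹ = _
        rw [map_zpow₀, map_neg, map_one]
      suffices h : z ∈ F by
        show ζ + ε * ζ⁻¹ ∈ valField g
        rw [← hzval]
        exact h
      rw [← IsGalois.fixedField_fixingSubgroup F, IntermediateField.mem_fixedField_iff]
      intro τ hτ
      have hτξ : ((τ ⟨ξ, hξE⟩ : E) : ℂ) ^ (2 ^ n) = 1 := by
        rw [← SubmonoidClass.coe_pow, ← map_pow,
          show (⟨ξ, hξE⟩ : E) ^ (2 ^ n) = 1 from Subtype.ext hξ.pow_eq_one, map_one]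
        rfl
      obtain ⟨j, -, hj⟩ := hξ.eq_pow_of_pow_eq_one hτξ
      have hconj : IsConj g (g ^ j) := by
        rw [CharCore.isConj_iff_forall_irr]
        intro χ
        obtain ⟨v, hv, hv'⟩ := algHom_val hgN hξ hξE (E.val.comp τ.toAlgHom) (a := j) hj.symm χ
        have hvF : v ∈ F := by
          show (v : ℂ) ∈ valField g
          rw [hv]
          exact IntermediateField.subset_adjoin ℚ _ ⟨χ, rfl⟩
        have hfix : τ v = v := (IntermediateField.mem_fixingSubgroup_iff F τ).mp hτ v hvF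
        rw [← hv', ← hv]
        exact congrArg Subtype.val hfix.symm
      obtain ⟨y, hy⟩ := isConj_iff.mp hconj
      have hcase : g ^ j = g ∨ g ^ j = g ^ k := by
        by_cases h : y * g * y⁻¹ = g
        · exact Or.inl (hy ▸ h)
        refine Or.inr ?_
        rw [← hy, ← hgk]
        exact conj_eq_conj hn hP hgo (hy ▸ pow_mem (mem_zpowers g) j)
          (hgk ▸ zpow_mem (mem_zpowers g) k) h fun h' => hne (Subtype.ext h')
      have hτζ : ((τ ⟨ζ, hζE⟩ : E) : ℂ) = ζ ^ j := by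
        have e2 : (⟨ζ, hζE⟩ : E) = ⟨ξ, hξE⟩ ^ 2 := Subtype.ext hξ2.symm
        rw [e2, map_pow, SubmonoidClass.coe_pow, ← hj, ← pow_mul, mul_comm, pow_mul, hξ2]
      have htz : ((τ z : E) : ℂ) = ζ ^ j + ε * (ζ ^ j)⁻¹ := by
        simp only [z, map_add, map_mul, map_inv₀, AlgEquiv.commutes]
        show ((τ ⟨ζ, hζE⟩ : E) : ℂ) + algebraMap ℚ ℂ ((-1) ^ m) * ((τ ⟨ζ, hζE⟩ : E) : ℂ)⁻¹ = _
        rw [hτζ, map_zpow₀, map_neg, map_one]
      refine Subtype.ext ?_
      show ((τ z : E) : ℂ) = (z : ℂ)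
      rw [htz, hzval]
      rcases hcase with h | h
      · have : ζ ^ j = ζ := by
          have h' : j ≡ 1 [MOD 2 ^ (n - 1)] := hgo ▸ pow_eq_pow_iff_modEq.mp (h.trans (pow_one g).symm)
          rw [pow_eq_pow_mod j hζ.pow_eq_one, h', ← pow_eq_pow_mod 1 hζ.pow_eq_one, pow_one]
        rw [this]
      · have : ζ ^ j = ε * ζ⁻¹ := by
          rw [← hzk]
          rw [← zpow_natCast, zpow_eq_zpow_iff_modEq, hgo] at h
          rw [← zpow_natCast ζ j, ← zpow_emod_root hζ, ← zpow_emod_root hζ k, h.eq]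
        rw [this, mul_inv, inv_inv]
        rcases hε1 with h1 | h1 <;> rw [h1] <;> ring
  rcases hε1 with h | h
  · left; change valField g = _; rw [hkey, h, one_mul]
  · right; change valField g = _; rw [hkey, h, neg_one_mul, ← sub_eq_add_neg]

set_option maxHeartbeats 1000000 in
theorem converse (P : Sylow 2 G) (n : ℕ) (hn : 3 ≤ n) (hP : Nat.card P = 2 ^ n) (ζ : ℂ) (hζ : IsPrimitiveRoot ζ (2 ^ (n - 1))) :
    (∃ g : G, g ∈ (P : Subgroup G) ∧ 2 ∣ (Subgroup.centralizer ({g} : Set G)).index ∧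
        (IntermediateField.adjoin ℚ {z : ℂ | ∃ χ : Cfsg.IrrCharacter G, (χ : G → ℂ) g = z} = IntermediateField.adjoin ℚ ({ζ + ζ⁻¹} : Set ℂ) ∨
          IntermediateField.adjoin ℚ {z : ℂ | ∃ χ : Cfsg.IrrCharacter G, (χ : G → ℂ) g = z} = IntermediateField.adjoin ℚ ({ζ - ζ⁻¹} : Set ℂ))) → (commutator ↥P).index = 4 := by
  classical
  haveI : Fact (Nat.Prime 2) := ⟨Nat.prime_two⟩
  have hPp : IsPGroup 2 P := P.isPGroup'
  haveI : NeZero (2 ^ n) := ⟨by positivity⟩
  obtain ⟨ξ, hξ2⟩ := IsAlgClosed.exists_pow_nat_eq ζ (by norm_num : 0 < 2)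
  have hζ0 : ζ ≠ 0 := hζ.ne_zero (by positivity)
  have hhalf : ζ ^ 2 ^ (n - 2) = -1 := by
    have h : IsPrimitiveRoot (ζ ^ 2 ^ (n - 2)) 2 := by
      refine hζ.pow (by positivity) ?_
      rw [← pow_succ]; congr 1; omega
    exact h.eq_neg_one_of_two_right
  have hξ : IsPrimitiveRoot ξ (2 ^ n) := by
    refine IsPrimitiveRoot.iff_orderOf.mpr (orderOf_eq_prime_pow (n := n - 1) ?_ ?_) |> (fun h => by
      rwa [show n - 1 + 1 = n by omega] at h)
    · rw [show n - 1 = (n - 2) + 1 by omega, pow_succ', pow_mul, hξ2, hhalf]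
      norm_num
    · rw [pow_succ', pow_mul, hξ2, hζ.pow_eq_one]
  have hint : IsIntegral ℚ ξ := hξ.isIntegral (NeZero.pos (2 ^ n)) |>.tower_top
  set E : IntermediateField ℚ ℂ := ℚ⟮ξ⟯ with hE
  have hξE : ξ ∈ E := IntermediateField.mem_adjoin_simple_self ℚ ξ
  have hζE : ζ ∈ E := hξ2 ▸ pow_mem hξE 2
  haveI : IsCyclotomicExtension {(2 ^ n)} ℚ E := by
    change IsCyclotomicExtension {(2 ^ n)} ℚ E.toSubalgebra
    rw [hE, IntermediateField.adjoin_simple_toSubalgebra_of_isAlgebraic hint.isAlgebraic]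
    exact hξ.adjoin_isCyclotomicExtension ℚ
  haveI : IsGalois ℚ E := IsCyclotomicExtension.isGalois {(2 ^ n)} ℚ E
  haveI : FiniteDimensional ℚ E := IsCyclotomicExtension.finiteDimensional {(2 ^ n)} ℚ E
  rintro ⟨g, hgP, heven, hfield⟩
  show (commutator ↥(P : Subgroup G)).index = 4
  obtain ⟨y, hyP, hy⟩ : ∃ y ∈ (P : Subgroup G), y * g * y⁻¹ ≠ g := by
    by_contra h
    push Not at h
    have hle : (P : Subgroup G) ≤ centralizer ({g} : Set G) := fun y hy =>
      mem_centralizer_singleton_iff.mpr (mul_inv_eq_iff_eq_mul.mp (h y hy))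
    exact P.not_dvd_index (heven.trans (index_dvd_of_le hle))
  set g' : (P : Subgroup G) := ⟨g, hgP⟩ with hg'
  set y' : (P : Subgroup G) := ⟨y, hyP⟩ with hy'
  have hnc : y' * g' ≠ g' * y' := fun h => hy (mul_inv_eq_iff_eq_mul.mpr (congrArg Subtype.val h))
  have hge : ¬ (commutator P).index ≤ 2 := by
    intro hle
    have hfr : (frattini P).index ≤ 2 := le_trans
      (Nat.le_of_dvd (Nat.pos_of_ne_zero index_ne_zero_of_finite)
        (index_dvd_of_le (PGroup.commutator_le_frattini hPp))) hle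
    haveI := PGroup.isCyclic_of_index_frattini_le hPp hfr
    exact hnc (mul_comm' y' g')
  have hupper : (commutator P).index ≤ 4 := by
    rcases Nat.lt_or_ge n 4 with hn4 | hn4
    · have h1 := (commutator P).card_mul_index
      rw [hP, show n = 3 by omega] at h1
      have h2 : 2 ≤ Nat.card (commutator P) := by
        refine PGroup.le_card_of_ne_bot hPp fun hb => hnc ?_
        have := (show ⁅y', g'⁆ ∈ commutator (P : Subgroup G) from commutator_mem_commutator (mem_top y') (mem_top g'))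
        rw [hb] at this
        exact commutatorElement_eq_one_iff_mul_comm.mp (mem_bot.mp this)
      nlinarith
    obtain ⟨b, hb⟩ := IsPGroup.iff_orderOf.mp hPp g'
    have hbg : orderOf g = 2 ^ b := by rw [← hb, hg', Subgroup.orderOf_mk]
    have hbn : b < n := by
      have h1 : 2 ^ b ∣ 2 ^ n := hb ▸ hP ▸ orderOf_dvd_natCard g'
      refine lt_of_le_of_ne ((Nat.pow_dvd_pow_iff_le_right (le_refl 2)).mp h1) fun h => hnc ?_
      have htop : zpowers g' = ⊤ := eq_top_of_card_eq _ (by rw [Nat.card_zpowers, hb, hP, h])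
      obtain ⟨j, hj⟩ := mem_zpowers_iff.mp (htop ▸ mem_top y')
      rw [← hj]
      exact ((Commute.refl g').zpow_left j).eq
    have hgN : g ^ (2 ^ n) = 1 := orderOf_dvd_iff_pow_eq_one.mp (hbg ▸ pow_dvd_pow 2 hbn.le)
    have hroot : ∀ a : ℕ, Odd a → ∃ σ : E →ₐ[ℚ] ℂ, σ ⟨ξ, hξE⟩ = ξ ^ a := by
      intro a ha
      have h1 : IsPrimitiveRoot (ξ ^ a) (2 ^ n) :=
        hξ.pow_of_coprime a ((Nat.coprime_pow_right_iff (by omega) _ _).mpr
          (Nat.coprime_two_right.mpr ha))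
      refine ⟨(IntermediateField.algHomAdjoinIntegralEquiv ℚ hint).symm ⟨ξ ^ a, ?_⟩, ?_⟩
      · rw [Polynomial.mem_aroots]
        refine ⟨minpoly.ne_zero hint, ?_⟩
        rw [← Polynomial.cyclotomic_eq_minpoly_rat hξ (NeZero.pos (2 ^ n)),
          Polynomial.cyclotomic_eq_minpoly_rat h1 (NeZero.pos (2 ^ n)), minpoly.aeval]
      · exact IntermediateField.algHomAdjoinIntegralEquiv_symm_apply_gen ℚ hint _
    have hσz : ∀ (a : ℕ) (σ : E →ₐ[ℚ] ℂ), σ ⟨ξ, hξE⟩ = ξ ^ a → σ ⟨ζ, hζE⟩ = ζ ^ a := by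
      intro a σ h
      rw [show (⟨ζ, hζE⟩ : E) = ⟨ξ, hξE⟩ ^ 2 from Subtype.ext hξ2.symm, map_pow, h, ← pow_mul,
        mul_comm, pow_mul, hξ2]
    obtain ⟨δ, hδ, hF⟩ : ∃ δ : ℕ, δ ≤ 1 ∧
        valField g = IntermediateField.adjoin ℚ ({ζ + (-1) ^ δ * ζ⁻¹} : Set ℂ) := by
      rcases hfield with h | h
      · exact ⟨0, zero_le_one, by rw [pow_zero, one_mul]; exact h⟩
      · exact ⟨1, le_rfl, by rw [pow_one, neg_one_mul, ← sub_eq_add_neg]; exact h⟩
    set w : ℂ := ζ + (-1) ^ δ * ζ⁻¹ with hw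
    let w' : E := ⟨ζ, hζE⟩ + (-1) ^ δ * (⟨ζ, hζE⟩ : E)⁻¹
    have hw' : (w' : ℂ) = w := rfl
    have hsw : ∀ σ : E →ₐ[ℚ] ℂ, σ w' = σ ⟨ζ, hζE⟩ + (-1) ^ δ * (σ ⟨ζ, hζE⟩)⁻¹ := fun σ => by
      simp only [w', map_add, map_mul, map_pow, map_neg, map_one, map_inv₀]
    have hagree : ∀ σ : E →ₐ[ℚ] ℂ,
        (∀ (χ : Cfsg.IrrCharacter G) (v : E), (v : ℂ) = (χ : G → ℂ) g → σ v = v) →
        ∀ v : E, (v : ℂ) ∈ valField g → σ v = v := by
      intro σ hgen v hv
      have : ∀ z ∈ valField g, ∃ h : z ∈ E, σ ⟨z, h⟩ = z := by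
        intro z hz
        induction hz using IntermediateField.adjoin_induction with
        | mem z hz =>
          obtain ⟨χ, rfl⟩ := hz
          obtain ⟨u, hu⟩ := exists_exponents g hgN hξ χ
          obtain ⟨e, he⟩ := hu
          have hzE : (χ : G → ℂ) g ∈ E := by
            have := he 1
            simp only [pow_one] at this
            rw [this]
            exact sum_mem fun i _ => pow_mem hξE _
          exact ⟨hzE, hgen χ ⟨_, hzE⟩ rfl⟩
        | algebraMap q => exact ⟨E.algebraMap_mem q, σ.commutes q⟩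
        | add z z' _ _ h h' =>
          obtain ⟨h, e⟩ := h; obtain ⟨h', e'⟩ := h'
          exact ⟨add_mem h h', by
            rw [show (⟨z + z', add_mem h h'⟩ : E) = ⟨z, h⟩ + ⟨z', h'⟩ from rfl, map_add, e, e']⟩
        | inv z _ h =>
          obtain ⟨h, e⟩ := h
          exact ⟨inv_mem h, by
            rw [show (⟨z⁻¹, inv_mem h⟩ : E) = (⟨z, h⟩ : E)⁻¹ from rfl, map_inv₀, e]⟩
        | mul z z' _ _ h h' =>
          obtain ⟨h, e⟩ := h; obtain ⟨h', e'⟩ := h'
          exact ⟨mul_mem h h', by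
            rw [show (⟨z * z', mul_mem h h'⟩ : E) = ⟨z, h⟩ * ⟨z', h'⟩ from rfl, map_mul, e, e']⟩
      obtain ⟨h, e⟩ := this v hv
      exact e
    have hwF : w ∈ valField g := hF ▸ IntermediateField.subset_adjoin ℚ _ rfl
    have hb1 : n - 1 ≤ b := by
      by_contra hlt
      have hg1 : g ^ 2 ^ (n - 2) = 1 :=
        orderOf_dvd_iff_pow_eq_one.mp (hbg ▸ pow_dvd_pow 2 (by omega))
      set a := 2 ^ (n - 2) + 1 with ha
      obtain ⟨σ, hσ⟩ := hroot a ((Nat.even_pow.mpr ⟨even_two, by omega⟩).add_one)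
      have h1 := hagree σ (fun χ v hv => by
        obtain ⟨v', hv', hv''⟩ := algHom_val hgN hξ hξE σ hσ χ
        rw [Subtype.ext (hv.trans hv'.symm) (a1 := v) (a2 := v'), hv'', hv', ha, pow_succ, hg1,
          one_mul]) w' (hw' ▸ hwF)
      rw [hsw, hσz a σ hσ, hw', hw, ha, pow_succ, hhalf, neg_one_mul, inv_neg] at h1
      have h2 : ζ + (-1) ^ δ * ζ⁻¹ = 0 := by linear_combination (-1 / 2 : ℂ) * h1
      have h3 : ζ ^ (2 * 2) = 1 := by
        have h4 : ζ ^ 2 = -(-1) ^ δ := by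
          have := congrArg (· * ζ) h2
          simp only [zero_mul, add_mul, inv_mul_cancel_right₀ hζ0] at this
          linear_combination this
        rw [pow_mul, h4, neg_sq, ← pow_mul, mul_comm, pow_mul, neg_one_sq, one_pow]
      have h5 := (hζ.pow_eq_one_iff_dvd _).mp h3
      rw [← sq] at h5
      have := (Nat.pow_dvd_pow_iff_le_right (le_refl 2)).mp h5
      omega
    have hgo : orderOf g = 2 ^ (n - 1) := by rw [hbg]; congr 1; omega
    obtain ⟨r, hr⟩ : ∃ r, n = r + 4 := ⟨n - 4, by omega⟩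
    set t := 2 ^ r with ht
    have ht1 : 2 ^ (n - 1) = 8 * t := by rw [hr, ht, show r + 4 - 1 = r + 3 by omega, pow_add]; ring
    have ht2 : 2 ^ (n - 2) = 4 * t := by rw [hr, ht, show r + 4 - 2 = r + 2 by omega, pow_add]; ring
    set q := 4 * t - 1 + δ * (2 * t) with hq
    have ht0 : 1 ≤ t := Nat.one_le_two_pow
    have hqodd : Odd q := by
      refine Nat.odd_iff.mpr ?_
      rw [hq, mul_left_comm]
      omega
    set a := 2 * q + 1 with ha
    have ha' : a + 1 = 2 ^ (n - 1) + δ * 2 ^ (n - 2) := by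
      rw [ha, hq, ht1, ht2, show δ * (4 * t) = 2 * (δ * (2 * t)) by ring]
      omega
    obtain ⟨σ, hσ⟩ := hroot a ⟨q, rfl⟩
    have hζa : ζ ^ a = (-1) ^ δ * ζ⁻¹ := by
      have h1 : ζ ^ a * ζ = (-1) ^ δ := by
        rw [← pow_succ, ha', pow_add, hζ.pow_eq_one, one_mul, mul_comm δ, pow_mul, hhalf]
      rw [← h1, mul_inv_cancel_right₀ hζ0]
    have hσw : σ w' = w := by
      rw [hsw, hσz a σ hσ, hζa, hw, mul_inv, inv_inv]
      interval_cases δ <;> ring
    have hfix : ∀ v : E, (v : ℂ) ∈ valField g → σ v = v := by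
      intro v hv
      have : ∀ z ∈ valField g, ∃ h : z ∈ E, σ ⟨z, h⟩ = z := by
        intro z hz
        rw [hF] at hz
        induction hz using IntermediateField.adjoin_induction with
        | mem z hz =>
          obtain rfl := hz
          exact ⟨w'.2, hσw⟩
        | algebraMap q => exact ⟨E.algebraMap_mem q, σ.commutes q⟩
        | add z z' _ _ h h' =>
          obtain ⟨h, e⟩ := h; obtain ⟨h', e'⟩ := h'
          exact ⟨add_mem h h', by
            rw [show (⟨z + z', add_mem h h'⟩ : E) = ⟨z, h⟩ + ⟨z', h'⟩ from rfl, map_add, e, e']⟩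
        | inv z _ h =>
          obtain ⟨h, e⟩ := h
          exact ⟨inv_mem h, by
            rw [show (⟨z⁻¹, inv_mem h⟩ : E) = (⟨z, h⟩ : E)⁻¹ from rfl, map_inv₀, e]⟩
        | mul z z' _ _ h h' =>
          obtain ⟨h, e⟩ := h; obtain ⟨h', e'⟩ := h'
          exact ⟨mul_mem h h', by
            rw [show (⟨z * z', mul_mem h h'⟩ : E) = ⟨z, h⟩ * ⟨z', h'⟩ from rfl, map_mul, e, e']⟩
      obtain ⟨h, e⟩ := this v hv
      exact e
    have hconj : IsConj g (g ^ a) := by
      rw [CharCore.isConj_iff_forall_irr]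
      intro χ
      obtain ⟨v, hv, hv'⟩ := algHom_val hgN hξ hξE σ hσ χ
      rw [← hv', hfix v (hv ▸ IntermediateField.subset_adjoin ℚ _ ⟨χ, rfl⟩), hv]
    obtain ⟨x, hx⟩ := isConj_iff.mp hconj
    have hxg : x * g * x⁻¹ ≠ g := by
      intro h
      rw [hx] at h
      have h1 : g ^ (2 * q) = 1 := by
        rw [ha, pow_succ] at h
        exact mul_eq_right.mp h
      rw [← orderOf_dvd_iff_pow_eq_one, hgo, ht1, show 8 * t = 2 * (4 * t) by ring] at h1
      have h2 := (mul_dvd_mul_iff_left two_ne_zero).mp h1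
      have h3 : 2 ∣ q := (Dvd.intro (2 * t) (by ring)).trans h2
      rw [Nat.odd_iff] at hqodd
      omega
    haveI : ((zpowers g').Normal) := by
      refine normal_of_index_eq_two ?_
      have h1 := (zpowers g').card_mul_index
      rw [Nat.card_zpowers, hP, ← Subgroup.orderOf_coe, hgo,
        show n = n - 1 + 1 by omega, pow_succ, Nat.add_sub_cancel] at h1
      exact Nat.eq_of_mul_eq_mul_left (pow_pos two_pos _) h1
    have hyz : y * g * y⁻¹ ∈ zpowers g := by
      obtain ⟨j, hj⟩ := mem_zpowers_iff.mp (Normal.conj_mem inferInstance g' (mem_zpowers g') y')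
      exact mem_zpowers_iff.mpr ⟨j, congrArg Subtype.val hj⟩
    have hya : y * g * y⁻¹ = g ^ a := by
      rw [← conj_eq_conj hn hP hgo (hx ▸ pow_mem (mem_zpowers g) a) hyz hxg hy, hx]
    have hu : y' * g' * y'⁻¹ * g'⁻¹ = g' ^ (2 * q) := by
      refine Subtype.ext ?_
      show y * g * y⁻¹ * g⁻¹ = g ^ (2 * q)
      rw [hya, ha, pow_succ, mul_inv_cancel_right]
    have hord : orderOf (g' ^ (2 * q)) = 2 ^ (r + 1 + 1) := by
      refine orderOf_eq_prime_pow ?_ ?_
      · rw [← pow_mul, ← orderOf_dvd_iff_pow_eq_one, ← Subgroup.orderOf_coe, hgo, ht1]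
        intro h
        rw [show 2 * q * 2 ^ (r + 1) = 4 * t * q by rw [ht, pow_succ]; ring,
          show 8 * t = 4 * t * 2 by ring] at h
        have h3 : 2 ∣ q := (mul_dvd_mul_iff_left (by omega)).mp h
        rw [Nat.odd_iff] at hqodd
        omega
      · rw [← pow_mul, ← orderOf_dvd_iff_pow_eq_one, ← Subgroup.orderOf_coe, hgo, ht1]
        exact Dvd.intro q (by rw [ht, pow_succ, pow_succ]; ring)
    have hdvd : 2 ^ (r + 1 + 1) ∣ Nat.card (commutator P) := by
      rw [← hord, ← hu]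
      refine Subgroup.orderOf_dvd_natCard _ ?_
      rw [← commutatorElement_def]
      exact commutator_mem_commutator (mem_top y') (mem_top g')
    have h1 := (commutator P).card_mul_index
    rw [hP, hr] at h1
    have h2 := Nat.le_of_dvd Nat.card_pos hdvd
    have h3 : 2 ^ (r + 4) = 4 * 2 ^ (r + 1 + 1) := by rw [show r + 4 = 2 + (r + 1 + 1) by omega, pow_add]; norm_num
    nlinarith [Nat.two_pow_pos (r + 1 + 1)]
  obtain ⟨i, hi⟩ := hPp.index (commutator P)
  rw [hi] at hge hupper ⊢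
  have h1 : i ≤ 2 := (Nat.pow_le_pow_iff_right one_lt_two).mp (hupper.trans_eq rfl)
  interval_cases i <;> simp_all

/-- Let G be a finite group with Sylow 2-subgroup P of order 2^n ≥ 8, and let ζ be a primitive 2^(n−1)-th root of unity in ℂ. Then the commutator subgroup of P has index 4 in P if and only if there is an element g of P whose conjugacy class in G has even size and such that the field generated over ℚ by the values at g of all irreducible complex characters of G equals ℚ(ζ + ζ⁻¹) or ℚ(ζ − ζ⁻¹). -/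
theorem result {G : Type*} [Group G] [Finite G] (P : Sylow 2 G) (n : ℕ) (hn : 3 ≤ n) (hP : Nat.card P = 2 ^ n) (ζ : ℂ) (hζ : IsPrimitiveRoot ζ (2 ^ (n - 1))) :
    (commutator ↥P).index = 4 ↔
      ∃ g : G, g ∈ (P : Subgroup G) ∧ 2 ∣ (Subgroup.centralizer ({g} : Set G)).index ∧
        (IntermediateField.adjoin ℚ {z : ℂ | ∃ χ : Cfsg.IrrCharacter G, (χ : G → ℂ) g = z} = IntermediateField.adjoin ℚ ({ζ + ζ⁻¹} : Set ℂ) ∨
          IntermediateField.adjoin ℚ {z : ℂ | ∃ χ : Cfsg.IrrCharacter G, (χ : G → ℂ) g = z} = IntermediateField.adjoin ℚ ({ζ - ζ⁻¹} : Set ℂ)) := by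
  exact ⟨forward P n hn hP ζ hζ, converse P n hn hP ζ hζ⟩

end Cfsg.Agent.S4923
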