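import Cfsg.Statements.S4930
import Mathlib
import Cfsg.Agent.CharDeep.Deg.Basic
import Cfsg.Agent.CharDeep.Deg.Supplement
import Cfsg.Agent.Lib.CharCore.Glauberman
import Cfsg.Agent.Lib.CharCore.Linear
import Cfsg.Agent.Lib.CharCore.Rep
import Cfsg.Agent.Lib.CharClifford.Clifford
import Cfsg.Agent.Lib.Transfer.Tate
import Cfsg.Agent.Lib.Transfer.Residual
import Cfsg.Agent.Lib.PGroup.Basic
import Mathlib.GroupTheory.Transfer

set_option autoImplicit false
open Cfsg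

namespace Cfsg.Agent.S4930

open Cfsg.Agent
open scoped ComplexConjugate commutatorElement

universe u v

theorem mem_iff_odd_order {H : Type*} [Group H] [Finite H] {N : Subgroup H} [N.Normal]
    (hN : ¬ 2 ∣ Nat.card N) (hq : IsPGroup 2 (H ⧸ N)) (x : H) : x ∈ N ↔ Odd (orderOf x) := by
  constructor
  · intro hx
    rw [← Nat.not_even_iff_odd, even_iff_two_dvd]
    exact fun h => hN (h.trans (Subgroup.orderOf_dvd_natCard N hx))
  · intro hx
    obtain ⟨k, hk⟩ := IsPGroup.iff_orderOf.mp hq (QuotientGroup.mk' N x)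
    have hd : 2 ^ k ∣ orderOf x := hk ▸ orderOf_map_dvd _ _
    rw [← QuotientGroup.eq_one_iff (N := N), ← orderOf_eq_one_iff]
    rcases Nat.eq_zero_or_pos k with rfl | hk0
    · simpa using hk
    · exact absurd ((dvd_pow_self 2 hk0.ne').trans hd)
        (by rw [← even_iff_two_dvd, Nat.not_even_iff_odd]; exact hx)

theorem map_odd_complement {H : Type*} [Group H] [Finite H] (L : Subgroup H) [L.Normal]
    (Q₀ : Subgroup L) [Q₀.Normal] (hodd : ¬ 2 ∣ Nat.card Q₀) (hq : IsPGroup 2 (L ⧸ Q₀)) :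
    (Q₀.map L.subtype).Normal ∧
      ∀ x, x ∈ Q₀.map L.subtype ↔ x ∈ L ∧ Odd (orderOf x) := by
  have hmem : ∀ x, x ∈ Q₀.map L.subtype ↔ x ∈ L ∧ Odd (orderOf x) := by
    intro x
    constructor
    · rintro ⟨y, hy, rfl⟩
      refine ⟨y.2, ?_⟩
      rw [Subgroup.coe_subtype, Subgroup.orderOf_coe]
      exact (mem_iff_odd_order hodd hq y).mp hy
    · rintro ⟨hx, hx'⟩
      refine ⟨⟨x, hx⟩, (mem_iff_odd_order hodd hq _).mpr ?_, rfl⟩
      rwa [← Subgroup.orderOf_coe]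
  refine ⟨⟨fun x hx g => ?_⟩, hmem⟩
  rw [hmem] at hx ⊢
  refine ⟨Subgroup.Normal.conj_mem inferInstance x hx.1 g, ?_⟩
  have : orderOf (g * x * g⁻¹) = orderOf x := (MulAut.conj g).orderOf_eq x
  rw [this]
  exact hx.2

theorem exists_fixed_of_sum {p : ℕ} [Fact p.Prime] {A : Type*} [Group A] (hA : IsPGroup p A)
    {X : Type*} [Fintype X] [MulAction A X] (f : X → ℕ) (hf : ∀ (a : A) x, f (a • x) = f x)
    (h : ¬ p ∣ ∑ x, f x) : ∃ x, (∀ a : A, a • x = x) ∧ f x ≠ 0 := by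
  classical
  by_contra hne
  push Not at hne
  apply h
  rw [← Finset.sum_fiberwise_of_maps_to (g := f) (t := Finset.univ.image f)
    (fun x _ => Finset.mem_image_of_mem f (Finset.mem_univ x))]
  refine Finset.dvd_sum fun n _ => ?_
  rw [Finset.sum_congr rfl (fun x hx => (Finset.mem_filter.mp hx).2), Finset.sum_const,
    smul_eq_mul]
  rcases Nat.eq_zero_or_pos n with rfl | hn
  · simp
  refine Dvd.dvd.mul_right ?_ n
  let _ : MulAction A {x : X // f x = n} :=
    { smul := fun a x => ⟨a • (x : X), by rw [hf, x.2]⟩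
      one_smul := fun x => Subtype.ext (one_smul A (x : X))
      mul_smul := fun a b x => Subtype.ext (mul_smul a b (x : X)) }
  have hmod := hA.card_modEq_card_fixedPoints {x : X // f x = n}
  have h0 : Nat.card (MulAction.fixedPoints A {x : X // f x = n}) = 0 := by
    have : IsEmpty (MulAction.fixedPoints A {x : X // f x = n}) := by
      refine ⟨fun x => ?_⟩
      obtain ⟨⟨x, hx⟩, hfix⟩ := x
      have := hne x fun a => congrArg Subtype.val (hfix a)
      omega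
    exact Nat.card_of_isEmpty
  rw [h0, Nat.modEq_zero_iff_dvd, Nat.card_eq_fintype_card, Fintype.card_subtype] at hmod
  exact hmod

theorem exists_mult {H : Type u} [Group H] [Finite H] (M : Subgroup H) [Fintype M]
    (χ : Cfsg.IrrCharacter H) : ∃ m : Cfsg.IrrCharacter M → ℕ,
      (∀ ψ : Cfsg.IrrCharacter M,
        Cfsg.classInner (fun x : M => (χ : H → ℂ) x) (ψ : M → ℂ) = (m ψ : ℂ)) ∧
      (∀ x : M, (χ : H → ℂ) x = ∑ ψ : Cfsg.IrrCharacter M, (m ψ : ℂ) * (ψ : M → ℂ) x) ∧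
      Cfsg.charDegree (χ : H → ℂ) =
        ∑ ψ : Cfsg.IrrCharacter M, m ψ * Cfsg.charDegree (ψ : M → ℂ) := by
  have hc := CharCore.isCharacter_restrict (CharCore.irr_isCharacter χ) M
  choose m hm using fun ψ => CharCore.IsCharacter.exists_classInner_irr_eq_natCast hc ψ
  have hval : ∀ x : M, (χ : H → ℂ) x =
      ∑ ψ : Cfsg.IrrCharacter M, (m ψ : ℂ) * (ψ : M → ℂ) x := by
    intro x
    have h := congrFun (CharCore.IsCharacter.eq_sum_classInner hc) x
    simpa [Finset.sum_apply, hm] using h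
  refine ⟨m, hm, hval, ?_⟩
  have h := hval 1
  simp only [OneMemClass.coe_one, CharDeep.Deg.apply_one] at h
  exact_mod_cast h

/-- Odd degree characters are trivial on odd order normal subgroups without nontrivial
`P`-fixed points. -/
theorem odd_trivial_on {H : Type u} [Group H] [Finite H] (P : Subgroup H) (hP : IsPGroup 2 P)
    (K : Subgroup H) [K.Normal] (hK : ¬ 2 ∣ Nat.card K)
    (hC : ∀ k ∈ K, (∀ x ∈ P, x * k = k * x) → k = 1) (χ : Cfsg.IrrCharacter H)
    (hχ : ¬ 2 ∣ Cfsg.charDegree (χ : H → ℂ)) {k : H} (hk : k ∈ K) :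
    (χ : H → ℂ) k = (χ : H → ℂ) 1 := by
  classical
  let _ := Fintype.ofFinite H
  let _ := Fintype.ofFinite K
  have : Fact (Nat.Prime 2) := ⟨Nat.prime_two⟩
  let φ : P →* MulAut K := (MulAut.conjNormal : H →* MulAut K).comp P.subtype
  have hφ : ∀ (a : P) (x : K), ((φ a x : K) : H) = (a : H) * x * (a : H)⁻¹ := fun a x => rfl
  let _ : MulAction P (Cfsg.IrrCharacter K) := CharCore.irrAction φ
  have hsmul : ∀ (a : P) (θ : Cfsg.IrrCharacter K) (x : K),
      ((a • θ : Cfsg.IrrCharacter K) : K → ℂ) x = (θ : K → ℂ) ((φ a)⁻¹ x) := fun a θ x => rfl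
  obtain ⟨m, hm, hval, hdeg⟩ := exists_mult K χ
  have hinv : ∀ (a : P) (θ : Cfsg.IrrCharacter K), m (a • θ) = m θ := by
    intro a θ
    have : (m (a • θ) : ℂ) = m θ := by
      rw [← hm, ← hm]
      unfold Cfsg.classInner
      congr 1
      refine Fintype.sum_equiv ((φ a)⁻¹ : MulAut K).toEquiv _ _ fun x => ?_
      show (χ : H → ℂ) x * conj (((a • θ : Cfsg.IrrCharacter K) : K → ℂ) x) =
        (χ : H → ℂ) (((φ a)⁻¹ x : K) : H) * conj ((θ : K → ℂ) ((φ a)⁻¹ x))
      have h := hφ a ((φ a)⁻¹ x)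
      rw [MulAut.apply_inv_self] at h
      rw [hsmul, h, CharCore.irr_isClassFunction χ]
    exact_mod_cast this
  have hd : ∀ (a : P) (θ : Cfsg.IrrCharacter K),
      Cfsg.charDegree ((a • θ : Cfsg.IrrCharacter K) : K → ℂ) = Cfsg.charDegree (θ : K → ℂ) := by
    intro a θ
    unfold Cfsg.charDegree
    rw [hsmul, map_one]
  obtain ⟨θ, hθfix, hθ⟩ := exists_fixed_of_sum hP
    (fun θ => m θ * Cfsg.charDegree (θ : K → ℂ)) (fun a θ => by simp only [hinv, hd])
    (hdeg ▸ hχ)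
  have hθinv : CharCore.IsInvFun φ (θ : K → ℂ) := by
    intro a g
    have := congrArg (fun t : Cfsg.IrrCharacter K => (t : K → ℂ) g) (hθfix a⁻¹)
    simp only [hsmul, map_inv, inv_inv] at this
    exact this
  let C : Subgroup K := ⊥
  have : Subsingleton C := by
    constructor
    rintro ⟨x, hx⟩ ⟨y, hy⟩
    exact Subtype.ext ((Subgroup.mem_bot.mp hx).trans (Subgroup.mem_bot.mp hy).symm)
  let _ := Fintype.ofFinite C
  have hC' : ∀ g : K, g ∈ C.subtype.range ↔ ∀ a, φ a g = g := by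
    intro g
    rw [Subgroup.range_subtype, Subgroup.mem_bot]
    constructor
    · rintro rfl a
      rw [map_one]
    · intro h
      refine Subtype.ext (hC g g.2 fun x hx => ?_)
      have := congrArg Subtype.val (h ⟨x, hx⟩)
      rw [hφ] at this
      exact mul_inv_eq_iff_eq_mul.mp this
  let one' : Cfsg.IrrCharacter K := ⟨1, CharCore.isIrrCharacter_one⟩
  have hone : CharCore.IsInvFun φ (one' : K → ℂ) := fun _ _ => rfl
  obtain ⟨β, hβ⟩ := CharCore.exists_glauber C.subtype_injective hC' hP hK hθinv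
  obtain ⟨β', hβ'⟩ := CharCore.exists_glauber C.subtype_injective hC' hP hK hone
  have hsub : Subsingleton (Cfsg.IrrCharacter C) := by
    have : Subsingleton (ConjClasses C) := Quot.Subsingleton
    have hne : Nonempty (ConjClasses C) := ⟨ConjClasses.mk 1⟩
    have h1 : Nat.card (Cfsg.IrrCharacter C) = 1 := by
      rw [CharCore.card_irr, Nat.card_eq_one_iff_unique]
      exact ⟨inferInstance, hne⟩
    exact (Nat.card_eq_one_iff_unique.mp h1).1
  rw [Subsingleton.elim β' β] at hβ'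
  have hθ1 : θ = one' :=
    CharCore.glauber_injective C.subtype_injective hC' hP hK hθinv hone hβ hβ'
  have hm0 : m θ ≠ 0 := fun h => hθ (by simp [h])
  rw [show k = ((⟨k, hk⟩ : K) : H) from rfl, hval, ← OneMemClass.coe_one K, hval]
  refine Finset.sum_congr rfl fun η _ => ?_
  rcases Nat.eq_zero_or_pos (m η) with h0 | h0
  · simp [h0]
  · obtain ⟨x, hx⟩ := CharClifford.exists_conjFun_eq_of_constituents K χ.2 θ.2 η.2
      (by rw [hm]; exact_mod_cast hm0) (by rw [hm]; exact_mod_cast h0.ne')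
    rw [hx, hθ1]
    rfl

/-- A self-centred abelian Sylow `2`-subgroup is normal when odd characters separate. -/
theorem sylow_normal_of_separated {H : Type u} [Group H] [Finite H] (P : Sylow 2 H)
    (hab : ∀ a ∈ (P : Subgroup H), ∀ b ∈ (P : Subgroup H), a * b = b * a)
    (hsep : ∀ x : H, (∀ χ : Cfsg.IrrCharacter H, ¬ 2 ∣ Cfsg.charDegree (χ : H → ℂ) →
      (χ : H → ℂ) x = (χ : H → ℂ) 1) → x = 1)
    (hLN : ∀ x ∈ Subgroup.normalClosure ((P : Subgroup H) : Set H),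
      x ∈ Subgroup.normalizer ((P : Subgroup H) : Set H) → x ∈ (P : Subgroup H)) :
    (P : Subgroup H).Normal := by
  have : Fact (Nat.Prime 2) := ⟨Nat.prime_two⟩
  set L := Subgroup.normalClosure ((P : Subgroup H) : Set H) with hL
  have hPL : (P : Subgroup H) ≤ L := Subgroup.subset_normalClosure
  set PL : Sylow 2 L := P.subtype hPL with hPLdef
  have hmem : ∀ x : L, x ∈ (PL : Subgroup L) ↔ (x : H) ∈ (P : Subgroup H) := fun x => Iff.rfl
  have hnorm : ∀ x : L, x ∈ Subgroup.normalizer ((PL : Subgroup L) : Set L) →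
      (x : H) ∈ (P : Subgroup H) := by
    intro x hx
    refine hLN x x.2 (Subgroup.mem_normalizer_iff.mpr fun y => ?_)
    have hx' := Subgroup.mem_normalizer_iff.mp hx
    constructor
    · intro hy
      exact (hmem _).mp ((hx' ⟨y, hPL hy⟩).mp ((hmem _).mpr hy))
    · intro hy
      have hyL : y ∈ L := by
        have := L.mul_mem (L.mul_mem (L.inv_mem x.2) (hPL hy)) x.2
        simpa [mul_assoc] using this
      exact (hmem _).mp ((hx' ⟨y, hyL⟩).mpr ((hmem _).mpr hy))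
  have hle : Subgroup.normalizer ((PL : Subgroup L) : Set L) ≤
      Subgroup.centralizer ((PL : Subgroup L) : Set L) := fun x hx =>
    Subgroup.mem_centralizer_iff.mpr fun y hy =>
      Subtype.ext (hab y ((hmem y).mp hy) x (hnorm x hx))
  set Q₀ := (MonoidHom.transferSylow PL hle).ker with hQ₀
  have hcompl := MonoidHom.ker_transferSylow_isComplement' PL hle
  have hQodd := MonoidHom.not_dvd_card_ker_transferSylow PL hle
  have hq : IsPGroup 2 (L ⧸ Q₀) := by
    obtain ⟨n, hn⟩ := IsPGroup.iff_card.mp PL.2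
    exact IsPGroup.of_card (n := n) (by rw [← Subgroup.index_eq_card, hcompl.symm.index_eq_card, hn])
  set Q := Q₀.map L.subtype with hQ
  have : L.Normal := Subgroup.normalClosure_normal
  obtain ⟨hQn, hQmem⟩ := map_odd_complement L Q₀ hQodd hq
  have hQcard : ¬ 2 ∣ Nat.card Q := by
    rw [hQ, Subgroup.card_map_of_injective L.subtype_injective]
    exact hQodd
  have hQC : ∀ k ∈ Q, (∀ x ∈ (P : Subgroup H), x * k = k * x) → k = 1 := by
    intro k hk hc
    have hkN : k ∈ Subgroup.normalizer ((P : Subgroup H) : Set H) :=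
      Subgroup.centralizer_le_normalizer _ (Subgroup.mem_centralizer_iff.mpr hc)
    have hkP := hLN k ((hQmem k).mp hk).1 hkN
    exact Transfer.eq_one_of_coprime_of_mem P.2 hkP
      ((Nat.coprime_two_right).mpr ((hQmem k).mp hk).2)
  have hQbot : Q₀ = ⊥ := by
    rw [Subgroup.eq_bot_iff_forall]
    intro x hx
    have hxQ : (x : H) ∈ Q := ⟨x, hx, rfl⟩
    exact Subtype.ext (hsep x fun χ hχ =>
      odd_trivial_on (P : Subgroup H) P.2 Q hQcard hQC χ hχ hxQ)
  rw [← hQ₀, hQbot, Subgroup.isComplement'_bot_left] at hcompl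
  have hLP : L ≤ (P : Subgroup H) := fun x hx =>
    (hmem ⟨x, hx⟩).mp (hcompl.symm ▸ Subgroup.mem_top _)
  rw [le_antisymm hPL hLP]
  exact Subgroup.normalClosure_normal

theorem fiber_bound {ι : Type*} [Fintype ι] (s : Finset ι) (a m : ι → ℕ) (d : ℕ)
    (hm : ∀ i ∈ s, m i ≠ 0) (hd : d = ∑ i, m i * a i) :
    ∑ i ∈ s, a i ^ 2 ≤ d ^ 2 ∧
      (∑ i ∈ s, a i ^ 2 = d ^ 2 → 0 < d → ∃ i ∈ s, a i = d) := by
  have h1 : ∑ i ∈ s, a i ≤ d := by
    rw [hd]
    refine le_trans (Finset.sum_le_sum fun i hi => ?_)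
      (Finset.sum_le_sum_of_subset (Finset.subset_univ s))
    exact Nat.le_mul_of_pos_left _ (Nat.pos_of_ne_zero (hm i hi))
  have h2 : ∀ i ∈ s, a i ≤ d := fun i hi =>
    (Finset.single_le_sum (fun _ _ => Nat.zero_le _) hi).trans h1
  have h3 : ∑ i ∈ s, a i ^ 2 ≤ ∑ i ∈ s, a i * d :=
    Finset.sum_le_sum fun i hi => by rw [pow_two]; exact Nat.mul_le_mul_left _ (h2 i hi)
  have h4 : ∑ i ∈ s, a i * d ≤ d ^ 2 := by
    rw [← Finset.sum_mul, pow_two]; exact Nat.mul_le_mul_right _ h1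
  refine ⟨h3.trans h4, fun he hd0 => ?_⟩
  have hex : ∃ i ∈ s, a i ≠ 0 := by
    by_contra hne
    push Not at hne
    rw [Finset.sum_eq_zero fun i hi => by rw [hne i hi, zero_pow two_ne_zero]] at he
    exact absurd he.symm (pow_ne_zero 2 hd0.ne')
  obtain ⟨i, hi, hi0⟩ := hex
  refine ⟨i, hi, ?_⟩
  have heq : ∑ j ∈ s, a j ^ 2 = ∑ j ∈ s, a j * d := le_antisymm h3 (he ▸ h4)
  have := (Finset.sum_eq_sum_iff_of_le fun j hj => by
    rw [pow_two]; exact Nat.mul_le_mul_left _ (h2 j hj)).mp heq i hi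
  rw [pow_two] at this
  exact Nat.eq_of_mul_eq_mul_left (Nat.pos_of_ne_zero hi0) this

section Local

variable {G : Type u} [Group G] [Finite G] (P : Sylow 2 G)

local notation "NP" => Subgroup.normalizer ((P : Subgroup G) : Set G)

/-- The derived group of `P` inside the normalizer. -/
def der : Subgroup ↥NP :=
  ⁅(P : Subgroup G).subgroupOf NP, (P : Subgroup G).subgroupOf NP⁆

theorem normal_PN : ((P : Subgroup G).subgroupOf NP).Normal :=
  Subgroup.normal_in_normalizer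

instance der_normal : (der P).Normal := by
  have := normal_PN P
  unfold der
  infer_instance

theorem map_der : (der P).map (Subgroup.subtype NP) = (commutator ↥P).map (P : Subgroup G).subtype := by
  rw [der, Subgroup.map_commutator, Subgroup.subgroupOf_map_subtype,
    inf_of_le_left Subgroup.le_normalizer]
  exact (Subgroup.map_subtype_commutator _).symm

theorem card_der : Nat.card (der P) = Nat.card (commutator ↥P) := by
  rw [← Subgroup.card_map_of_injective (Subgroup.subtype_injective NP), map_der,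
    Subgroup.card_map_of_injective (Subgroup.subtype_injective (P : Subgroup G))]
  rfl

theorem der_le : der P ≤ (P : Subgroup G).subgroupOf NP := by
  have := normal_PN P
  exact Subgroup.commutator_le_left _ _

theorem index_odd : ¬ 2 ∣ (Subgroup.normalizer ((P : Subgroup G) : Set G)).index :=
  fun h => P.not_dvd_index (h.trans (Subgroup.index_dvd_of_le Subgroup.le_normalizer))

/-- Odd degree irreducible characters of `N` have `P'` in the kernel. -/
theorem der_ker_of_odd (ψ : Cfsg.IrrCharacter ↥NP)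
    (hψ : ¬ 2 ∣ Cfsg.charDegree (ψ : ↥NP → ℂ)) :
    ∀ d ∈ der P, (ψ : ↥NP → ℂ) d = (ψ : ↥NP → ℂ) 1 := by
  classical
  have : Fact (Nat.Prime 2) := ⟨Nat.prime_two⟩
  let PN := (P : Subgroup G).subgroupOf NP
  have hPNn : PN.Normal := normal_PN P
  let _ := Fintype.ofFinite ↥NP
  let _ := Fintype.ofFinite ↥PN
  obtain ⟨m, hm, hval, -⟩ := exists_mult PN ψ
  have hlin : ∀ θ : Cfsg.IrrCharacter ↥PN, m θ ≠ 0 → (θ : ↥PN → ℂ) 1 = 1 := by
    intro θ hθ
    have hd1 : Cfsg.charDegree (θ : ↥PN → ℂ) ∣ Cfsg.charDegree (ψ : ↥NP → ℂ) :=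
      CharDeep.Ext.dvd_degree_of_constituent PN θ.2 ψ.2 (CharDeep.Deg.apply_one θ)
        (CharDeep.Deg.apply_one ψ) (by rw [hm]; exact_mod_cast hθ)
    obtain ⟨d, -, hdvd, hd⟩ := CharClifford.exists_degree_dvd_card θ.2
    rw [CharDeep.Deg.degree_of_eq hd] at hd1
    obtain ⟨n, hn⟩ := IsPGroup.iff_card.mp P.2
    rw [Nat.card_congr (Subgroup.subgroupOfEquivOfLe Subgroup.le_normalizer).toEquiv, hn] at hdvd
    obtain ⟨i, -, rfl⟩ := (Nat.dvd_prime_pow Nat.prime_two).mp hdvd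
    rcases Nat.eq_zero_or_pos i with rfl | hi
    · simpa using hd
    · exact absurd ((dvd_pow_self 2 hi.ne').trans hd1) hψ
  intro d hd
  have hdP : d ∈ PN := der_le P hd
  have hdc : (⟨d, hdP⟩ : ↥PN) ∈ commutator ↥PN := by
    have : d ∈ (commutator ↥PN).map PN.subtype := by
      rw [Subgroup.map_subtype_commutator]; exact hd
    obtain ⟨y, hy, rfl⟩ := this
    exact hy
  show (ψ : ↥NP → ℂ) ((⟨d, hdP⟩ : ↥PN) : ↥NP) = _
  rw [hval, ← OneMemClass.coe_one PN, hval]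
  refine Finset.sum_congr rfl fun θ _ => ?_
  rcases Nat.eq_zero_or_pos (m θ) with h0 | h0
  · simp [h0]
  congr 1
  obtain ⟨f, hf⟩ := CharCore.IsCharacter.exists_hom_of_degree_one
    (CharCore.irr_isCharacter θ) (hlin θ h0.ne')
  have hker : commutator ↥PN ≤ f.ker := Abelianization.commutator_subset_ker f
  have hfd : f ⟨d, hdP⟩ = 1 := hker hdc
  simp [hf, hfd]

/-- Irreducible characters of `N` with `P'` in the kernel have odd degree. -/
theorem odd_of_der_ker (ψ : Cfsg.IrrCharacter ↥NP)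
    (hψ : ∀ d ∈ der P, (ψ : ↥NP → ℂ) d = (ψ : ↥NP → ℂ) 1) :
    ¬ 2 ∣ Cfsg.charDegree (ψ : ↥NP → ℂ) := by
  have : Fact (Nat.Prime 2) := ⟨Nat.prime_two⟩
  obtain ⟨η, -, hirr, hη⟩ :=
    CharCore.IsCharacter.exists_quotient (CharCore.irr_isCharacter ψ) (der P) hψ
  let η' : Cfsg.IrrCharacter (↥NP ⧸ der P) := ⟨η, hirr ψ.2⟩
  let PN := (P : Subgroup G).subgroupOf NP
  have hPNn : PN.Normal := normal_PN P
  let A := PN.map (QuotientGroup.mk' (der P))
  have : A.Normal := hPNn.map _ (QuotientGroup.mk'_surjective _)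
  have hA : ∀ a ∈ A, ∀ b ∈ A, a * b = b * a := by
    rintro _ ⟨a, ha, rfl⟩ _ ⟨b, hb, rfl⟩
    rw [← map_mul, ← map_mul, QuotientGroup.mk'_eq_mk']
    refine ⟨(a * b)⁻¹ * (b * a), ?_, by group⟩
    have : (a * b)⁻¹ * (b * a) = ⁅b⁻¹, a⁻¹⁆ := by simp [commutatorElement_def, mul_assoc]
    rw [this]
    exact Subgroup.commutator_mem_commutator (PN.inv_mem hb) (PN.inv_mem ha)
  have hdvd := CharDeep.Deg.degree_dvd_index η' A hA
  have heq : Cfsg.charDegree (ψ : ↥NP → ℂ) = Cfsg.charDegree (η' : ↥NP ⧸ der P → ℂ) := by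
    unfold Cfsg.charDegree
    rw [hη 1, map_one]
  rw [heq]
  intro h
  have h2 : 2 ∣ PN.index :=
    (h.trans hdvd).trans (Subgroup.index_map_dvd _ (QuotientGroup.mk'_surjective _))
  have : (P : Subgroup G).relIndex NP ∣ (P : Subgroup G).index :=
    Subgroup.relIndex_dvd_index_of_le Subgroup.le_normalizer
  exact P.not_dvd_index (h2.trans this)

theorem eq_mem_of_forall (S : Subgroup ↥NP) [S.Normal] {n : ↥NP}
    (h : ∀ ψ : Cfsg.IrrCharacter ↥NP,
    (∀ d ∈ S, (ψ : ↥NP → ℂ) d = (ψ : ↥NP → ℂ) 1) →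
    (ψ : ↥NP → ℂ) n = (ψ : ↥NP → ℂ) 1) : n ∈ S := by
  rw [← QuotientGroup.eq_one_iff (N := S)]
  refine CharDeep.Ext.eq_one_of_forall_irr fun η => ?_
  obtain ⟨ψ, -, hψ⟩ := CharDeep.Deg.exists_inflate S η
  have := h ψ fun d hd => by
    rw [hψ, hψ, map_one, QuotientGroup.mk'_apply, (QuotientGroup.eq_one_iff d).mpr hd]
  rw [hψ, hψ, map_one] at this
  exact this

theorem sum_sq_der [Fintype {ψ : Cfsg.IrrCharacter ↥NP //
    ∀ d ∈ der P, (ψ : ↥NP → ℂ) d = (ψ : ↥NP → ℂ) 1}] :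
    ∑ ψ : {ψ : Cfsg.IrrCharacter ↥NP //
      ∀ d ∈ der P, (ψ : ↥NP → ℂ) d = (ψ : ↥NP → ℂ) 1},
      Cfsg.charDegree (ψ.1 : ↥NP → ℂ) ^ 2 = Nat.card (↥NP ⧸ der P) := by
  classical
  let _ := Fintype.ofFinite (↥NP ⧸ der P)
  let _ := Fintype.ofFinite (Cfsg.IrrCharacter (↥NP ⧸ der P))
  choose inf hinf hinfv using fun η : Cfsg.IrrCharacter (↥NP ⧸ der P) =>
    CharDeep.Deg.exists_inflate (der P) η
  have hker : ∀ η, ∀ d ∈ der P, ((inf η) : ↥NP → ℂ) d = ((inf η) : ↥NP → ℂ) 1 := fun η d hd => by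
    rw [hinfv, hinfv, map_one, QuotientGroup.mk'_apply, (QuotientGroup.eq_one_iff d).mpr hd]
  have hbij : Function.Bijective fun η => (⟨inf η, hker η⟩ :
      {ψ : Cfsg.IrrCharacter ↥NP //
        ∀ d ∈ der P, (ψ : ↥NP → ℂ) d = (ψ : ↥NP → ℂ) 1}) := by
    constructor
    · intro η η' h
      refine Subtype.ext (funext fun x => ?_)
      obtain ⟨g, rfl⟩ := QuotientGroup.mk'_surjective (der P) x
      have h' : inf η = inf η' := congrArg Subtype.val h
      rw [← hinfv, ← hinfv, h']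
    · rintro ⟨ψ, hψ⟩
      obtain ⟨η, -, hirr, hη⟩ :=
        CharCore.IsCharacter.exists_quotient (CharCore.irr_isCharacter ψ) (der P) hψ
      refine ⟨⟨η, hirr ψ.2⟩, Subtype.ext (Subtype.ext (funext fun g => ?_))⟩
      exact (hinfv _ g).trans (hη g).symm
  rw [← hbij.sum_comp]
  simp only [hinf]
  have h : ((∑ η : Cfsg.IrrCharacter (↥NP ⧸ der P),
      Cfsg.charDegree (η : ↥NP ⧸ der P → ℂ) ^ 2 : ℕ) : ℂ) = (Nat.card (↥NP ⧸ der P) : ℂ) := by
    rw [← CharCore.sum_degree_sq]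
    push_cast
    exact Finset.sum_congr rfl fun η _ => by rw [← CharDeep.Deg.apply_one]
  exact_mod_cast h

/-- Odd degree irreducible characters. -/
abbrev oddChar (G : Type u) [Group G] : Type u :=
  {χ : Cfsg.IrrCharacter G // ¬ 2 ∣ Cfsg.charDegree (χ : G → ℂ)}

/-- Irreducible characters of the normalizer with `P'` in the kernel. -/
abbrev derChar : Type u :=
  {ψ : Cfsg.IrrCharacter ↥NP // ∀ d ∈ der P, (ψ : ↥NP → ℂ) d = (ψ : ↥NP → ℂ) 1}

theorem sum_bound [Fintype (oddChar G)] [Fintype (derChar P)] :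
    (∑ ψ : derChar P, Cfsg.charDegree (ψ.1 : ↥NP → ℂ) ^ 2 ≤
      ∑ χ : oddChar G, Cfsg.charDegree (χ.1 : G → ℂ) ^ 2) ∧
    (∑ ψ : derChar P, Cfsg.charDegree (ψ.1 : ↥NP → ℂ) ^ 2 =
      ∑ χ : oddChar G, Cfsg.charDegree (χ.1 : G → ℂ) ^ 2 →
      (∀ χ : oddChar G, ∃ ψ : derChar P, ∀ n : ↥NP,
        (χ.1 : G → ℂ) n = (ψ.1 : ↥NP → ℂ) n) ∧
      (∀ ψ : derChar P, ∃ χ : oddChar G, ∀ n : ↥NP,
        (χ.1 : G → ℂ) n = (ψ.1 : ↥NP → ℂ) n)) := by
  classical
  let _ := Fintype.ofFinite G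
  let _ := Fintype.ofFinite ↥NP
  choose m hm hval hdeg using fun χ : Cfsg.IrrCharacter G => exists_mult NP χ
  have hex : ∀ ψ : derChar P, ∃ χ : oddChar G, m χ.1 ψ.1 ≠ 0 := by
    intro ψ
    have hind := CharInd.isCharacter_indFun NP (CharCore.irr_isCharacter ψ.1)
    obtain ⟨c, hc⟩ := CharCore.IsCharacter.exists_sum hind
    have h1 : (NP).index * Cfsg.charDegree (ψ.1 : ↥NP → ℂ) =
        ∑ χ : Cfsg.IrrCharacter G, c χ * Cfsg.charDegree (χ : G → ℂ) := by
      have h := congrFun hc 1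
      rw [CharInd.indFun_apply_one] at h
      simp only [Finset.sum_apply, Pi.smul_apply, smul_eq_mul, CharDeep.Deg.apply_one] at h
      exact_mod_cast h
    have hodd : ¬ 2 ∣ ∑ χ : Cfsg.IrrCharacter G, c χ * Cfsg.charDegree (χ : G → ℂ) := by
      rw [← h1, Nat.prime_two.dvd_mul, not_or]
      exact ⟨index_odd P, odd_of_der_ker P ψ.1 ψ.2⟩
    obtain ⟨χ, -, hχ⟩ : ∃ χ ∈ Finset.univ,
        ¬ 2 ∣ c χ * Cfsg.charDegree (χ : G → ℂ) := by
      by_contra hne
      push Not at hne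
      exact hodd (Finset.dvd_sum hne)
    rw [Nat.prime_two.dvd_mul, not_or] at hχ
    refine ⟨⟨χ, hχ.2⟩, fun h0 => hχ.1 ?_⟩
    have hcm : (c χ : ℂ) = 0 := by
      rw [← CharCore.classInner_sum_all (fun η => (c η : ℂ)) χ, ← hc,
        CharInd.classInner_indFun_left _ _ (CharCore.irr_isClassFunction χ),
        ← CharInd.classInner_swap, hm, h0]
      simp
    rw [Nat.cast_eq_zero.mp hcm]
    exact dvd_zero 2
  choose f hf using hex
  have key : ∀ χ : oddChar G,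
      (∑ ψ ∈ Finset.univ.filter fun ψ => f ψ = χ, Cfsg.charDegree (ψ.1 : ↥NP → ℂ) ^ 2 ≤
        Cfsg.charDegree (χ.1 : G → ℂ) ^ 2) ∧
      (∑ ψ ∈ Finset.univ.filter fun ψ => f ψ = χ, Cfsg.charDegree (ψ.1 : ↥NP → ℂ) ^ 2 =
        Cfsg.charDegree (χ.1 : G → ℂ) ^ 2 → ∃ ψ : derChar P, f ψ = χ ∧
          ∀ n : ↥NP, (χ.1 : G → ℂ) n = (ψ.1 : ↥NP → ℂ) n) := by
    intro χ
    have hb := fiber_bound
      ((Finset.univ.filter fun ψ : derChar P => f ψ = χ).map ⟨Subtype.val, Subtype.val_injective⟩)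
      (fun θ : Cfsg.IrrCharacter ↥NP => Cfsg.charDegree (θ : ↥NP → ℂ)) (m χ.1) _ (by
        intro θ hθ
        obtain ⟨ψ, hψ, rfl⟩ := Finset.mem_map.mp hθ
        rw [← (Finset.mem_filter.mp hψ).2]
        exact hf ψ) (hdeg χ.1)
    simp only [Finset.sum_map, Function.Embedding.coeFn_mk] at hb
    refine ⟨hb.1, fun he => ?_⟩
    obtain ⟨θ, hθ, hθd⟩ := hb.2 he (CharDeep.Deg.degree_pos χ.1)
    obtain ⟨ψ, hψ, rfl⟩ := Finset.mem_map.mp hθ
    obtain ⟨-, hfψ⟩ := Finset.mem_filter.mp hψ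
    refine ⟨ψ, hfψ, fun n => ?_⟩
    have hne : Cfsg.classInner (fun x : ↥NP => (χ.1 : G → ℂ) x) (ψ.1 : ↥NP → ℂ) ≠ 0 := by
      rw [hm, Nat.cast_ne_zero, ← hfψ]
      exact hf ψ
    rcases CharDeep.Deg.eq_or_degree_lt
      (CharCore.isCharacter_restrict (CharCore.irr_isCharacter χ.1) NP) ψ.1 hne
      (CharDeep.Deg.apply_one ψ.1) (b := Cfsg.charDegree (χ.1 : G → ℂ))
      (CharDeep.Deg.apply_one χ.1) with h | h
    · exact congrFun h n
    · exact absurd hθd h.ne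
  have hsum : ∑ ψ : derChar P, Cfsg.charDegree (ψ.1 : ↥NP → ℂ) ^ 2 =
      ∑ χ : oddChar G, ∑ ψ ∈ Finset.univ.filter fun ψ => f ψ = χ,
        Cfsg.charDegree (ψ.1 : ↥NP → ℂ) ^ 2 :=
    (Finset.sum_fiberwise _ _ _).symm
  refine ⟨hsum ▸ Finset.sum_le_sum fun χ _ => (key χ).1, fun he => ?_⟩
  have heach := (Finset.sum_eq_sum_iff_of_le fun χ _ => (key χ).1).mp (hsum.symm.trans he)
  refine ⟨fun χ => ?_, fun ψ => ⟨f ψ, ?_⟩⟩
  · obtain ⟨ψ, -, h⟩ := (key χ).2 (heach χ (Finset.mem_univ _))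
    exact ⟨ψ, h⟩
  · obtain ⟨ψ', -, h⟩ := (key (f ψ)).2 (heach (f ψ) (Finset.mem_univ _))
    suffices ψ'.1 = ψ.1 by rw [this] at h; exact h
    by_contra hne
    refine hf ψ ?_
    have h0 := CharCore.classInner_irr_of_ne hne
    have : (m (f ψ).1 ψ.1 : ℂ) = 0 := by
      rw [← hm, funext h, h0]
    exact_mod_cast this

theorem eq_of_complement [Fintype (oddChar G)] [Fintype (derChar P)] (K : Subgroup G) [K.Normal]
    (hinf : K ⊓ NP = ⊥) (hsup : K ⊔ NP = ⊤) :
    ∑ ψ : derChar P, Cfsg.charDegree (ψ.1 : ↥NP → ℂ) ^ 2 =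
      ∑ χ : oddChar G, Cfsg.charDegree (χ.1 : G → ℂ) ^ 2 := by
  have : Fact (Nat.Prime 2) := ⟨Nat.prime_two⟩
  have hdec : ∀ g : G, ∃ k ∈ K, ∃ n ∈ NP, k * n = g := fun g =>
    Subgroup.mem_sup_of_normal_left.mp (hsup ▸ Subgroup.mem_top g)
  let e : ↥NP →* G ⧸ K := (QuotientGroup.mk' K).comp (Subgroup.subtype NP)
  have he : Function.Bijective e := by
    refine ⟨(injective_iff_map_eq_one e).mpr fun n hn => ?_, fun x => ?_⟩
    · have hnK : (n : G) ∈ K := (QuotientGroup.eq_one_iff _).mp hn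
      have hb : (n : G) ∈ K ⊓ NP := Subgroup.mem_inf.2 ⟨hnK, n.2⟩
      rw [hinf, Subgroup.mem_bot] at hb
      exact Subtype.ext hb
    · obtain ⟨g, rfl⟩ := QuotientGroup.mk'_surjective K x
      obtain ⟨k, hk, n, hn, rfl⟩ := hdec g
      refine ⟨⟨n, hn⟩, ?_⟩
      show QuotientGroup.mk' K n = _
      rw [map_mul, QuotientGroup.mk'_apply, QuotientGroup.mk'_apply,
        (QuotientGroup.eq_one_iff k).mpr hk, one_mul]
  let π : G →* ↥NP := (MulEquiv.ofBijective e he).symm.toMonoidHom.comp (QuotientGroup.mk' K)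
  have hπn : ∀ n : ↥NP, π n = n := fun n =>
    (MulEquiv.ofBijective e he).symm_apply_apply n
  have hπk : ∀ k ∈ K, π k = 1 := fun k hk => by
    show (MulEquiv.ofBijective e he).symm (QuotientGroup.mk' K k) = 1
    rw [QuotientGroup.mk'_apply, (QuotientGroup.eq_one_iff k).mpr hk, map_one]
  have hπ : Function.Surjective π := fun n => ⟨n, hπn n⟩
  let g : derChar P → oddChar G := fun ψ =>
    ⟨⟨fun x => (ψ.1 : ↥NP → ℂ) (π x), CharCore.isIrrCharacter_comp_surjective ψ.1.2 π hπ⟩, by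
      have h : Cfsg.charDegree (fun x => (ψ.1 : ↥NP → ℂ) (π x)) =
          Cfsg.charDegree (ψ.1 : ↥NP → ℂ) := by
        show ⌊((ψ.1 : ↥NP → ℂ) (π 1)).re⌋₊ = _
        rw [map_one]; rfl
      show ¬ 2 ∣ Cfsg.charDegree (fun x => (ψ.1 : ↥NP → ℂ) (π x))
      rw [h]
      exact odd_of_der_ker P ψ.1 ψ.2⟩
  have hKodd : ¬ 2 ∣ Nat.card K := by
    have hc : K.IsComplement' NP := Subgroup.isComplement'_of_disjoint_and_mul_eq_univ
      (disjoint_iff.mpr hinf) (by rw [← Subgroup.normal_mul, hsup, Subgroup.coe_top])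
    rw [← hc.index_eq_card]
    exact index_odd P
  have hKC : ∀ k ∈ K, (∀ x ∈ (P : Subgroup G), x * k = k * x) → k = 1 := by
    intro k hk hc
    have hb : k ∈ K ⊓ NP := Subgroup.mem_inf.2 ⟨hk,
      Subgroup.centralizer_le_normalizer _ (Subgroup.mem_centralizer_iff.mpr hc)⟩
    rwa [hinf, Subgroup.mem_bot] at hb
  have hg : Function.Bijective g := by
    refine ⟨fun ψ ψ' h => Subtype.ext (Subtype.ext (funext fun n => ?_)), fun χ => ?_⟩
    · have := congrFun (congrArg (fun χ : oddChar G => (χ.1 : G → ℂ)) h) (n : G)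
      simpa [g, hπn] using this
    · have htriv : ∀ k ∈ K, (χ.1 : G → ℂ) k = (χ.1 : G → ℂ) 1 := fun k hk =>
        odd_trivial_on (P : Subgroup G) P.2 K hKodd hKC χ.1 χ.2 hk
      obtain ⟨η, -, hirr, hη⟩ :=
        CharCore.IsCharacter.exists_quotient (CharCore.irr_isCharacter χ.1) K htriv
      let ψ : Cfsg.IrrCharacter ↥NP :=
        ⟨fun n => η (e n), CharCore.isIrrCharacter_comp_surjective (hirr χ.1.2) e he.2⟩
      have hψd : ¬ 2 ∣ Cfsg.charDegree (ψ : ↥NP → ℂ) := by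
        have h : Cfsg.charDegree (ψ : ↥NP → ℂ) = Cfsg.charDegree (χ.1 : G → ℂ) := by
          unfold Cfsg.charDegree
          rw [hη 1]
          simp [ψ]
        rw [h]
        exact χ.2
      refine ⟨⟨ψ, der_ker_of_odd P ψ hψd⟩, Subtype.ext (Subtype.ext (funext fun x => ?_))⟩
      show η (e (π x)) = _
      rw [hη]
      exact congrArg η ((MulEquiv.ofBijective e he).apply_symm_apply _)
  refine Fintype.sum_bijective g hg _ _ fun ψ => ?_
  show _ = ⌊((ψ.1 : ↥NP → ℂ) (π 1)).re⌋₊ ^ 2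
  rw [map_one]
  rfl

theorem complement_of_restrict
    (hA : ∀ χ : oddChar G, ∃ ψ : derChar P, ∀ n : ↥NP,
      (χ.1 : G → ℂ) n = (ψ.1 : ↥NP → ℂ) n)
    (hB : ∀ ψ : derChar P, ∃ χ : oddChar G, ∀ n : ↥NP,
      (χ.1 : G → ℂ) n = (ψ.1 : ↥NP → ℂ) n) :
    ∃ K : Subgroup G, K.Normal ∧ K ⊓ NP = ⊥ ∧ K ⊔ NP = ⊤ := by
  have : Fact (Nat.Prime 2) := ⟨Nat.prime_two⟩
  set K : Subgroup G :=
    ⨅ χ : oddChar G, CharCore.charKernel (CharCore.irr_isCharacter χ.1) with hK
  have hKn : K.Normal := Subgroup.normal_iInf_normal fun χ => inferInstance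
  have hmemK : ∀ x, x ∈ K ↔ ∀ χ : oddChar G, (χ.1 : G → ℂ) x = (χ.1 : G → ℂ) 1 := fun x => by
    simp only [hK, Subgroup.mem_iInf, CharCore.mem_charKernel]
  have hval1 : ∀ (χ : oddChar G) (ψ : derChar P),
      (∀ n : ↥NP, (χ.1 : G → ℂ) n = (ψ.1 : ↥NP → ℂ) n) →
      (χ.1 : G → ℂ) 1 = (ψ.1 : ↥NP → ℂ) 1 := fun χ ψ h => h 1
  have hKN : ∀ n : ↥NP, (n : G) ∈ K → n ∈ der P := fun n hn =>
    eq_mem_of_forall P (der P) fun ψ hψ => by
      obtain ⟨χ, hχ⟩ := hB ⟨ψ, hψ⟩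
      have := (hmemK _).mp hn χ
      rwa [hχ n, hval1 χ ⟨ψ, hψ⟩ hχ] at this
  have hDK : ∀ n : ↥NP, n ∈ der P → (n : G) ∈ K := fun n hn => (hmemK _).mpr fun χ => by
    obtain ⟨ψ, hψ⟩ := hA χ
    rw [hψ n, hval1 χ ψ hψ]
    exact ψ.2 n hn
  have hπs : Function.Surjective (QuotientGroup.mk' K) := QuotientGroup.mk'_surjective K
  set Pb : Sylow 2 (G ⧸ K) := P.mapSurjective hπs with hPb
  have hPbc : (Pb : Subgroup (G ⧸ K)) = (P : Subgroup G).map (QuotientGroup.mk' K) :=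
    Sylow.coe_mapSurjective _ P
  have hab : ∀ a ∈ (Pb : Subgroup (G ⧸ K)), ∀ b ∈ (Pb : Subgroup (G ⧸ K)), a * b = b * a := by
    rw [hPbc]
    rintro _ ⟨a, ha, rfl⟩ _ ⟨b, hb, rfl⟩
    have hPN : (P : Subgroup G) ≤ NP := Subgroup.le_normalizer
    have hd : ⁅(⟨a, hPN ha⟩ : ↥NP), (⟨b, hPN hb⟩ : ↥NP)⁆ ∈ der P :=
      Subgroup.commutator_mem_commutator (show (⟨a, hPN ha⟩ : ↥NP) ∈
        (P : Subgroup G).subgroupOf NP from ha) (show (⟨b, hPN hb⟩ : ↥NP) ∈
        (P : Subgroup G).subgroupOf NP from hb)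
    have hk : ⁅a, b⁆ ∈ K := hDK _ hd
    have h1 : QuotientGroup.mk' K ⁅a, b⁆ = 1 := (QuotientGroup.eq_one_iff _).mpr hk
    rw [map_commutatorElement] at h1
    exact commutatorElement_eq_one_iff_mul_comm.mp h1
  have hsep : ∀ x : G ⧸ K, (∀ η : Cfsg.IrrCharacter (G ⧸ K),
      ¬ 2 ∣ Cfsg.charDegree (η : G ⧸ K → ℂ) →
      (η : G ⧸ K → ℂ) x = (η : G ⧸ K → ℂ) 1) → x = 1 := by
    intro x hx
    obtain ⟨g, rfl⟩ := hπs x
    refine (QuotientGroup.eq_one_iff g).mpr ((hmemK g).mpr fun χ => ?_)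
    obtain ⟨η, -, hirr, hη⟩ := CharCore.IsCharacter.exists_quotient
      (CharCore.irr_isCharacter χ.1) K (fun k hk => (hmemK k).mp hk χ)
    have h := hx ⟨η, hirr χ.1.2⟩ (by
      have h' : Cfsg.charDegree η = Cfsg.charDegree (χ.1 : G → ℂ) := by
        unfold Cfsg.charDegree; rw [hη 1, map_one]
      exact h' ▸ χ.2)
    rw [hη, hη, map_one]
    exact h
  have hLN : ∀ x ∈ Subgroup.normalClosure ((Pb : Subgroup (G ⧸ K)) : Set (G ⧸ K)),
      x ∈ Subgroup.normalizer ((Pb : Subgroup (G ⧸ K)) : Set (G ⧸ K)) →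
        x ∈ (Pb : Subgroup (G ⧸ K)) := by
    rw [hPbc, Subgroup.coe_map, ← Subgroup.map_normalClosure _ _ hπs]
    rintro _ ⟨l, hl, rfl⟩ hn
    have hker : ∀ z : G, QuotientGroup.mk' K z ∈ (P : Subgroup G).map (QuotientGroup.mk' K) →
        z ∈ (P : Subgroup G) ⊔ K := by
      rintro z ⟨y, hy, hyz⟩
      have hk : y⁻¹ * z ∈ K := by
        rw [← QuotientGroup.eq_one_iff (N := K)]
        show QuotientGroup.mk' K (y⁻¹ * z) = 1
        rw [map_mul, map_inv, hyz, inv_mul_cancel]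
      have := Subgroup.mul_mem_sup hy hk
      rwa [mul_inv_cancel_left] at this
    rw [← Subgroup.coe_map] at hn
    have hle : ((l • P : Sylow 2 G) : Subgroup G) ≤ (P : Subgroup G) ⊔ K := by
      rw [Sylow.coe_subgroup_smul]
      rintro _ ⟨y, hy, rfl⟩
      refine hker _ ?_
      show QuotientGroup.mk' K (l * y * l⁻¹) ∈ _
      rw [map_mul, map_mul, map_inv]
      exact (Subgroup.mem_normalizer_iff.mp hn _).mp (Subgroup.mem_map_of_mem _ hy)
    obtain ⟨k, hk⟩ := MulAction.exists_smul_eq ↥((P : Subgroup G) ⊔ K)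
      ((l • P : Sylow 2 G).subtype hle) (P.subtype le_sup_left)
    rw [Sylow.smul_subtype] at hk
    have hkl : (k : G) * l ∈ NP := by
      have h' : ((k : G) * l) • P = P := by
        rw [mul_smul]
        exact Sylow.subtype_injective hk
      exact Sylow.smul_eq_iff_mem_normalizer.mp h' 
    have hklP : (k : G) * l ∈ (P : Subgroup G) := by
      have : (P : Subgroup G).subgroupOf NP |>.Normal := normal_PN P
      refine (eq_mem_of_forall P ((P : Subgroup G).subgroupOf NP)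
        (n := ⟨(k : G) * l, hkl⟩) fun ψ hψ => ?_ :)
      obtain ⟨χ, hχ⟩ := hB ⟨ψ, fun d hd => hψ d (der_le P hd)⟩
      set Kχ := CharCore.charKernel (CharCore.irr_isCharacter χ.1)
      have hPχ : (P : Subgroup G) ≤ Kχ := fun p hp => by
        rw [CharCore.mem_charKernel, hval1 χ _ hχ]
        exact (hχ ⟨p, Subgroup.le_normalizer hp⟩).trans (hψ _ hp)
      have hkK : (k : G) ∈ Kχ := (sup_le hPχ (iInf_le _ χ)) k.2
      have hlK : l ∈ Kχ := Subgroup.normalClosure_le_normal hPχ hl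
      have hmem := (CharCore.mem_charKernel (CharCore.irr_isCharacter χ.1) _).mp
        (Kχ.mul_mem hkK hlK)
      rw [hval1 χ _ hχ] at hmem
      exact (hχ ⟨(k : G) * l, hkl⟩).symm.trans hmem
    have hl' : l ∈ (P : Subgroup G) ⊔ K := by
      have := Subgroup.mul_mem _ (Subgroup.inv_mem _ k.2) (Subgroup.mem_sup_left (T := K) hklP)
      rwa [inv_mul_cancel_left] at this
    obtain ⟨p, hp, k', hk', rfl⟩ := Subgroup.mem_sup_of_normal_right.mp hl'
    refine ⟨p, hp, ?_⟩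
    have h1 : QuotientGroup.mk' K k' = 1 := (QuotientGroup.eq_one_iff (N := K) k').mpr hk'
    rw [map_mul, h1, mul_one]
  have hnormal := sylow_normal_of_separated Pb hab hsep hLN
  have hPK : ((P : Subgroup G) ⊔ K).Normal := by
    have h := hnormal.comap (QuotientGroup.mk' K)
    rwa [hPbc, Subgroup.comap_map_eq, QuotientGroup.ker_mk'] at h
  have htop : NP ⊔ K = ⊤ := by
    have h := Sylow.normalizer_sup_eq_top' (N := (P : Subgroup G) ⊔ K) P le_sup_left
    rw [← sup_assoc] at h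
    rw [eq_top_iff, ← h]
    exact sup_le (sup_le le_sup_left ((Subgroup.le_normalizer (H := (P : Subgroup G))).trans le_sup_left)) le_sup_right
  have htate : K ⊓ (P : Subgroup G) ≤ (frattini ↥P).map (P : Subgroup G).subtype := by
    rintro x ⟨hxK, hxP⟩
    have hd := hKN ⟨x, Subgroup.le_normalizer hxP⟩ hxK
    have hx' : x ∈ (commutator ↥P).map (P : Subgroup G).subtype :=
      map_der P ▸ Subgroup.mem_map_of_mem (Subgroup.subtype NP) hd
    exact Subgroup.map_mono (PGroup.commutator_le_frattini P.2) hx'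
  obtain ⟨S, K₀, hK₀n, hcompl⟩ := Transfer.hasNormalPComplement_of_inf_le_frattini P K htate
  have hodd : ¬ 2 ∣ Nat.card K₀ := hcompl.index_eq_card ▸ S.not_dvd_index
  have hq : IsPGroup 2 (↥K ⧸ K₀) := by
    obtain ⟨n, hn⟩ := IsPGroup.iff_card.mp S.2
    exact IsPGroup.of_card (n := n)
      (by rw [← Subgroup.index_eq_card, hcompl.symm.index_eq_card, hn])
  obtain ⟨hn', hmem'⟩ := map_odd_complement K K₀ hodd hq
  refine ⟨K₀.map K.subtype, hn', ?_, ?_⟩
  · rw [Subgroup.eq_bot_iff_forall]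
    intro x hx
    obtain ⟨hx0, hxN⟩ := Subgroup.mem_inf.1 hx
    obtain ⟨hxK, hxodd⟩ := (hmem' x).mp hx0
    have hxP : x ∈ (P : Subgroup G) := der_le P (hKN ⟨x, hxN⟩ hxK)
    exact Transfer.eq_one_of_coprime_of_mem P.2 hxP (Nat.coprime_two_right.mpr hxodd)
  · have hS2 : IsPGroup 2 ↥((S : Subgroup ↥K).map K.subtype) := S.2.map _
    obtain ⟨R, hR⟩ := hS2.exists_le_sylow
    obtain ⟨g, hg⟩ := MulAction.exists_smul_eq G R P
    rw [eq_top_iff, ← htop]
    refine sup_le le_sup_right fun k hk => ?_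
    have hk' : g⁻¹ * k * g ∈ K := by
      simpa using hKn.conj_mem k hk g⁻¹
    obtain ⟨a, ha, s, hs, has⟩ := Subgroup.mem_sup_of_normal_left.mp
      (hcompl.sup_eq_top ▸ Subgroup.mem_top (⟨_, hk'⟩ : ↥K))
    have has' : (a : G) * s = g⁻¹ * k * g := congrArg Subtype.val has
    have hsP : g * (s : G) * g⁻¹ ∈ (P : Subgroup G) := by
      rw [← hg, Sylow.coe_subgroup_smul]
      exact ⟨(s : G), hR ⟨s, hs, rfl⟩, rfl⟩
    have heq : k = (g * (a : G) * g⁻¹) * (g * (s : G) * g⁻¹) := by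
      calc k = g * (g⁻¹ * k * g) * g⁻¹ := by group
        _ = g * ((a : G) * s) * g⁻¹ := by rw [has']
        _ = _ := by group
    rw [heq]
    exact Subgroup.mul_mem_sup (hn'.conj_mem _ ⟨a, ha, rfl⟩ g) (Subgroup.le_normalizer hsP)

end Local

/-- Let G be a finite group, P a Sylow 2-subgroup of G with normalizer N, and P′ the commutator subgroup of P. Then the sum of the squares of the degrees of the irreducible complex characters of G of odd degree is at least the index of P′ in N (the order of N divided by the order of P′), and equality holds if and only if N has a normal complement in G: a normal subgroup K of G with K ∩ N = 1 and KN = G. -/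
theorem result {G : Type*} [Group G] [Finite G] (P : Sylow 2 G) :
    Nat.card (Subgroup.normalizer ((P : Subgroup G) : Set G)) ≤ Nat.card (commutator ↥P) * (∑ᶠ χ : {χ : Cfsg.IrrCharacter G // ¬ 2 ∣ Cfsg.charDegree (χ : G → ℂ)}, Cfsg.charDegree (χ.1 : G → ℂ) ^ 2) ∧
    (Nat.card (Subgroup.normalizer ((P : Subgroup G) : Set G)) = Nat.card (commutator ↥P) * (∑ᶠ χ : {χ : Cfsg.IrrCharacter G // ¬ 2 ∣ Cfsg.charDegree (χ : G → ℂ)}, Cfsg.charDegree (χ.1 : G → ℂ) ^ 2) ↔
      ∃ K : Subgroup G, K.Normal ∧ K ⊓ Subgroup.normalizer ((P : Subgroup G) : Set G) = ⊥ ∧ K ⊔ Subgroup.normalizer ((P : Subgroup G) : Set G) = ⊤) := by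
  classical
  let _ := Fintype.ofFinite (oddChar G)
  let _ := Fintype.ofFinite (derChar P)
  rw [finsum_eq_sum_of_fintype]
  have hN : Nat.card ↥(Subgroup.normalizer ((P : Subgroup G) : Set G)) =
      Nat.card ↥(commutator ↥P) *
        ∑ ψ : derChar P, Cfsg.charDegree
          (ψ.1 : ↥(Subgroup.normalizer ((P : Subgroup G) : Set G)) → ℂ) ^ 2 := by
    rw [sum_sq_der, ← card_der, mul_comm]
    exact Subgroup.card_eq_card_quotient_mul_card_subgroup _
  obtain ⟨hle, heq⟩ := sum_bound P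
  refine ⟨hN ▸ Nat.mul_le_mul_left _ hle, ?_, ?_⟩
  · intro h
    obtain ⟨hA, hB⟩ := heq (Nat.eq_of_mul_eq_mul_left Nat.card_pos (hN.symm.trans h))
    exact complement_of_restrict P hA hB
  · rintro ⟨K, hKn, hinf, hsup⟩
    rw [hN, eq_of_complement P K hinf hsup]

end Cfsg.Agent.S4930
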