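import Cfsg.Statements.S4931
import Cfsg.Agent.Lib.Transfer.Tate
import Cfsg.Agent.Lib.PGroup.Basic
import Cfsg.Agent.Lib.CharCore.Linear
import Cfsg.Agent.Lib.CharCore.Complete
import Cfsg.Agent.Blocks88.Basic
import Mathlib.GroupTheory.Transfer

set_option autoImplicit false
open Cfsg

namespace Cfsg.Agent.S4931

open scoped Pointwise

attribute [local instance] Fintype.ofFinite

/-- The irreducible characters of a quotient separate its elements from `1`. -/
theorem mem_of_forall_irr {H : Type*} [Group H] [Finite H] (N : Subgroup H) [N.Normal] (x : H)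
    (h : ∀ θ : IrrCharacter H, (∀ n ∈ N, (θ : H → ℂ) n = (θ : H → ℂ) 1) →
      (θ : H → ℂ) x = (θ : H → ℂ) 1) : x ∈ N := by
  rw [← QuotientGroup.eq_one_iff (N := N)]
  have hconj : IsConj (1 : H ⧸ N) (QuotientGroup.mk x) := by
    rw [CharCore.isConj_iff_forall_irr]
    intro ψ
    have h' := h ⟨(ψ : H ⧸ N → ℂ) ∘ QuotientGroup.mk,
      CharCore.isIrrCharacter_comp_surjective ψ.2 (QuotientGroup.mk' N) (QuotientGroup.mk'_surjective N)⟩
      (fun n hn => by
        show (ψ : H ⧸ N → ℂ) n = (ψ : H ⧸ N → ℂ) ((1 : H) : H ⧸ N)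
        rw [(QuotientGroup.eq_one_iff n).mpr hn]; rfl)
    exact h'.symm
  exact (isConj_one_right.mp hconj :)

/-- Characters trivial on `[P, P]` for a normal Sylow `P` have degree prime to `p`. -/
theorem not_dvd_degree {H : Type*} [Group H] [Finite H] {p : ℕ} [Fact p.Prime] (P : Sylow p H)
    [(P : Subgroup H).Normal] (θ : IrrCharacter H)
    (hθ : ∀ n ∈ ⁅(P : Subgroup H), (P : Subgroup H)⁆, (θ : H → ℂ) n = (θ : H → ℂ) 1) :
    ¬ p ∣ charDegree (θ : H → ℂ) := by
  intro hd
  set N := ⁅(P : Subgroup H), (P : Subgroup H)⁆ with hN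
  obtain ⟨ψ, -, hirr, he⟩ := CharCore.IsCharacter.exists_quotient (CharCore.irr_isCharacter θ) N hθ
  have hab : IsMulCommutative ((P : Subgroup H).map (QuotientGroup.mk' N)) := by
    refine ⟨⟨fun a b => Subtype.ext ?_⟩⟩
    obtain ⟨a, ha, hea⟩ := a.2
    obtain ⟨b, hb, heb⟩ := b.2
    show (_ : H ⧸ N) * _ = _ * _
    rw [← hea, ← heb, ← commutatorElement_eq_one_iff_mul_comm, ← map_commutatorElement]
    exact (QuotientGroup.eq_one_iff _).mpr (Subgroup.commutator_mem_commutator ha hb)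
  have : ((P : Subgroup H).map (QuotientGroup.mk' N)).Normal :=
    Subgroup.Normal.map inferInstance _ (QuotientGroup.mk'_surjective N)
  have h1 : charDegree (ψ : H ⧸ N → ℂ) ∣ ((P : Subgroup H).map (QuotientGroup.mk' N)).index := by
    obtain ⟨d, hd1, hdvd⟩ := Blocks88.charDegree_dvd_index ⟨ψ, hirr θ.2⟩
      ((P : Subgroup H).map (QuotientGroup.mk' N)) (fun a ha b hb =>
        congrArg Subtype.val (hab.is_comm.comm ⟨a, ha⟩ ⟨b, hb⟩))
    simp only [charDegree, show ψ 1 = (d : ℂ) from hd1, Complex.natCast_re, Nat.floor_natCast]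
    exact hdvd
  have h2 : charDegree (ψ : H ⧸ N → ℂ) = charDegree (θ : H → ℂ) := by
    simp only [charDegree, he 1, map_one]
  rw [h2] at h1
  exact P.not_dvd_index ((hd.trans h1).trans
    (Subgroup.index_map_dvd _ (QuotientGroup.mk'_surjective N)))

/-- A group whose abelian Sylow image is self-normalising modulo `J` is `p`-nilpotent when `J`
meets the Sylow subgroup in its derived subgroup. -/
theorem exists_complement_of_self_normalizing {K : Type*} [Group K] [Finite K] {p : ℕ}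
    [Fact p.Prime] (P : Sylow p K) (J : Subgroup K) [J.Normal]
    (hN : Subgroup.normalizer ((P : Subgroup K) : Set K) ≤ P)
    (hJ : (P : Subgroup K) ⊓ J ≤ ⁅(P : Subgroup K), (P : Subgroup K)⁆)
    (hab : ⁅(P : Subgroup K), (P : Subgroup K)⁆ ≤ J) :
    ¬ p ∣ Nat.card (pResidual p K) := by
  let π := QuotientGroup.mk' J
  have hπ : Function.Surjective π := QuotientGroup.mk'_surjective J
  let PQ : Sylow p (K ⧸ J) := P.mapSurjective hπ
  have hPQ : (PQ : Subgroup (K ⧸ J)) = (P : Subgroup K).map π := rfl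
  have hNC : Subgroup.normalizer ((PQ : Subgroup (K ⧸ J)) : Set (K ⧸ J)) ≤
      Subgroup.centralizer ((PQ : Subgroup (K ⧸ J)) : Set (K ⧸ J)) := by
    intro y hy
    obtain ⟨k, rfl⟩ := hπ y
    set W := ((P : Subgroup K).map π).comap π with hW
    have hPW : (P : Subgroup K) ≤ W := Subgroup.le_comap_map π _
    have hkPW : ((k • P : Sylow p K) : Subgroup K) ≤ W := by
      intro z hz
      rw [Sylow.coe_subgroup_smul] at hz
      obtain ⟨u, hu, rfl⟩ := hz
      show π (k * u * k⁻¹) ∈ (PQ : Subgroup (K ⧸ J))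
      rw [map_mul, map_mul, map_inv]
      exact (Subgroup.mem_normalizer_iff.mp hy (π u)).mp (Subgroup.mem_map_of_mem π hu)
    obtain ⟨w, hw⟩ := MulAction.exists_smul_eq W ((k • P).subtype hkPW) (P.subtype hPW)
    rw [Sylow.smul_subtype] at hw
    have hwk : ((w : K) * k) • P = P := by
      rw [mul_smul]
      exact Sylow.subtype_injective hw
    have hwkP : (w : K) * k ∈ (P : Subgroup K) := hN (Sylow.smul_eq_iff_mem_normalizer.mp hwk)
    have hkW : k ∈ W := by simpa using W.mul_mem (W.inv_mem w.2) (hPW hwkP)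
    obtain ⟨u, hu, hue⟩ := (hkW : π k ∈ (P : Subgroup K).map π)
    rw [Subgroup.mem_centralizer_iff, hPQ]
    rintro _ ⟨v, hv, rfl⟩
    rw [← hue, ← commutatorElement_eq_one_iff_mul_comm, ← map_commutatorElement]
    exact (QuotientGroup.eq_one_iff _).mpr (hab (Subgroup.commutator_mem_commutator hv hu))
  have hcomp := MonoidHom.ker_transferSylow_isComplement' PQ hNC
  have hnpc : HasNormalPComplement p (K ⧸ J) := ⟨PQ, _, inferInstance, hcomp⟩
  have hPR : (P : Subgroup K) ⊓ pResidual p K ≤ ⁅(P : Subgroup K), (P : Subgroup K)⁆ := by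
    intro x hx
    refine hJ ⟨hx.1, ?_⟩
    show x ∈ J
    rw [← QuotientGroup.eq_one_iff]
    exact Transfer.eq_one_of_coprime_of_mem PQ.2 (Subgroup.mem_map_of_mem π hx.1)
      ((Transfer.mem_pResidual_iff_coprime hnpc).mp
        (Transfer.map_pResidual_le π (Subgroup.mem_map_of_mem π hx.2)))
  have hfr : pResidual p K ⊓ (P : Subgroup K) ≤ (frattini P).map (P : Subgroup K).subtype := by
    rw [inf_comm]
    refine hPR.trans ?_
    rw [← Subgroup.map_subtype_commutator]
    exact Subgroup.map_mono (PGroup.commutator_le_frattini P.2)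
  have h := Transfer.hasNormalPComplement_of_inf_le_frattini P _ hfr
  rw [Transfer.hasNormalPComplement_iff_not_dvd, Transfer.pResidual_pResidual,
    Subgroup.card_top] at h
  exact h

/-- Let G be a finite group, p a prime and P a Sylow p-subgroup of G with normalizer N. Then every irreducible complex character of N of degree not divisible by p is the restriction of an irreducible character of G if and only if there is a normal subgroup K of G with KN = G and K ∩ N = 1. -/
theorem result {G : Type*} [Group G] [Finite G] (p : ℕ) [Fact p.Prime] (P : Sylow p G) :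
    (∀ θ : Cfsg.IrrCharacter ↥(Subgroup.normalizer ((P : Subgroup G) : Set G)), ¬ p ∣ Cfsg.charDegree (θ : ↥(Subgroup.normalizer ((P : Subgroup G) : Set G)) → ℂ) →
        ∃ χ : Cfsg.IrrCharacter G, ∀ x : ↥(Subgroup.normalizer ((P : Subgroup G) : Set G)), (χ : G → ℂ) x = (θ : ↥(Subgroup.normalizer ((P : Subgroup G) : Set G)) → ℂ) x) ↔
      ∃ K : Subgroup G, K.Normal ∧ K ⊔ Subgroup.normalizer ((P : Subgroup G) : Set G) = ⊤ ∧ K ⊓ Subgroup.normalizer ((P : Subgroup G) : Set G) = ⊥ := by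
  set H := Subgroup.normalizer ((P : Subgroup G) : Set G) with hH
  constructor
  swap
  · rintro ⟨K, hK, hsup, hinf⟩ θ -
    let f : H →* G ⧸ K := (QuotientGroup.mk' K).comp H.subtype
    have hf : Function.Bijective f := by
      refine ⟨(injective_iff_map_eq_one f).mpr fun x hx => ?_, fun q => ?_⟩
      · have hxK : (x : G) ∈ K := (QuotientGroup.eq_one_iff _).mp hx
        exact Subtype.ext ((Subgroup.eq_bot_iff_forall _).mp hinf x ⟨hxK, x.2⟩)
      · obtain ⟨g, rfl⟩ := QuotientGroup.mk'_surjective K q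
        obtain ⟨k, hk, h, hh, rfl⟩ := Subgroup.mem_sup_of_normal_left.mp
          (hsup.ge (Subgroup.mem_top g))
        refine ⟨⟨h, hh⟩, ?_⟩
        show ((h : G) : G ⧸ K) = ((k * h : G) : G ⧸ K)
        rw [QuotientGroup.mk_mul, (QuotientGroup.eq_one_iff k).mpr hk, one_mul]
    let e := MulEquiv.ofBijective f hf
    refine ⟨⟨fun g => (θ : H → ℂ) (e.symm (QuotientGroup.mk' K g)),
      CharCore.isIrrCharacter_comp_surjective θ.2 (e.symm.toMonoidHom.comp (QuotientGroup.mk' K))
        (e.symm.surjective.comp (QuotientGroup.mk'_surjective K))⟩, fun x => ?_⟩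
    exact congrArg (θ : H → ℂ) (e.symm_apply_apply x)
  intro hext
  have hPH : (P : Subgroup G) ≤ H := Subgroup.le_normalizer
  let PH : Sylow p H := P.subtype hPH
  have hPHn : (PH : Subgroup H).Normal := Subgroup.normal_in_normalizer
  have hext' : ∀ θ : IrrCharacter H,
      (∀ n ∈ ⁅(PH : Subgroup H), (PH : Subgroup H)⁆, (θ : H → ℂ) n = (θ : H → ℂ) 1) →
      ∃ χ : IrrCharacter G, ∀ x : H, (χ : G → ℂ) x = (θ : H → ℂ) x := fun θ hθ =>
    hext θ (not_dvd_degree PH θ hθ)
  choose χ hχ using hext'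
  let ker := fun (θ : IrrCharacter H) h => CharCore.charKernel (CharCore.irr_isCharacter (χ θ h))
  have hkern : ∀ θ h, (ker θ h).Normal := fun θ h => ⟨fun n hn g => by
    rw [CharCore.mem_charKernel] at hn ⊢
    rw [CharCore.irr_isClassFunction (χ θ h) n g, hn]⟩
  have hkH : ∀ θ h (x : H), (x : G) ∈ ker θ h ↔ (θ : H → ℂ) x = (θ : H → ℂ) 1 := fun θ h x => by
    show (x : G) ∈ CharCore.charKernel _ ↔ _
    rw [CharCore.mem_charKernel, hχ θ h x, ← hχ θ h 1]
    rfl
  have hDP : ⁅(PH : Subgroup H), (PH : Subgroup H)⁆ ≤ (PH : Subgroup H) :=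
    Subgroup.commutator_le_self _
  let K₀ : Subgroup G := ⨅ (θ : IrrCharacter H)
    (h : ∀ n ∈ (PH : Subgroup H), (θ : H → ℂ) n = (θ : H → ℂ) 1), ker θ (fun n hn => h n (hDP hn))
  let J₀ : Subgroup G := K₀ ⊓ ⨅ (θ : IrrCharacter H) (h : _), ker θ h
  have hK₀n : K₀.Normal := Subgroup.normal_iInf_normal fun θ => Subgroup.normal_iInf_normal fun h =>
    hkern _ _
  have hJ₀n : J₀.Normal := by
    have : (⨅ (θ : IrrCharacter H) (h : _), ker θ h).Normal :=
      Subgroup.normal_iInf_normal fun θ => Subgroup.normal_iInf_normal fun h => hkern _ _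
    exact inferInstance
  have hK₀H : ∀ x : H, (x : G) ∈ K₀ ↔ x ∈ (PH : Subgroup H) := by
    intro x
    simp only [K₀, Subgroup.mem_iInf]
    constructor
    · intro h
      refine mem_of_forall_irr _ x fun θ hθ => ?_
      exact (hkH θ _ x).mp (h θ hθ)
    · intro h θ hθ
      exact (hkH θ _ x).mpr (hθ x h)
  have hJ₀H : ∀ x : H, (x : G) ∈ J₀ ↔ x ∈ ⁅(PH : Subgroup H), (PH : Subgroup H)⁆ := by
    intro x
    simp only [J₀, Subgroup.mem_inf, Subgroup.mem_iInf]
    constructor
    · intro h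
      have : ⁅(PH : Subgroup H), (PH : Subgroup H)⁆.Normal := inferInstance
      refine mem_of_forall_irr _ x fun θ hθ => ?_
      exact (hkH θ hθ x).mp (h.2 θ hθ)
    · intro h
      refine ⟨(hK₀H x).mpr (hDP h), fun θ hθ => (hkH θ hθ x).mpr (hθ x h)⟩
  have hPK : (P : Subgroup G) ≤ K₀ := fun x hx =>
    (hK₀H ⟨x, hPH hx⟩).mpr (by exact hx)
  let PK : Sylow p K₀ := P.subtype hPK
  have hNK : Subgroup.normalizer ((PK : Subgroup K₀) : Set K₀) ≤ PK := by
    intro k hk
    have hkH' : (k : G) ∈ H := by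
      rw [hH, Subgroup.mem_normalizer_iff]
      intro u
      constructor
      · intro hu
        exact (Subgroup.mem_normalizer_iff.mp hk ⟨u, hPK hu⟩).mp hu
      · intro hu
        have huK : u ∈ K₀ := by
          simpa [mul_assoc] using hK₀n.conj_mem _ (hPK hu) (k : G)⁻¹
        exact (Subgroup.mem_normalizer_iff.mp hk ⟨u, huK⟩).mpr hu
    exact (hK₀H ⟨k, hkH'⟩).mp k.2
  have hcomm : ∀ x : G, x ∈ ⁅(P : Subgroup G), (P : Subgroup G)⁆ ↔
      ∃ y : H, y ∈ ⁅(PH : Subgroup H), (PH : Subgroup H)⁆ ∧ (y : G) = x := by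
    intro x
    have e : (PH : Subgroup H).map H.subtype = (P : Subgroup G) :=
      Subgroup.map_subgroupOf_eq_of_le hPH
    rw [← e, ← Subgroup.map_commutator]
    rfl
  have hcommK : ∀ x : K₀, x ∈ ⁅(PK : Subgroup K₀), (PK : Subgroup K₀)⁆ ↔
      (x : G) ∈ ⁅(P : Subgroup G), (P : Subgroup G)⁆ := by
    intro x
    have e : (PK : Subgroup K₀).map K₀.subtype = (P : Subgroup G) :=
      Subgroup.map_subgroupOf_eq_of_le hPK
    rw [← e, ← Subgroup.map_commutator]
    exact ⟨fun h => ⟨x, h, rfl⟩, fun ⟨y, hy, he⟩ => by rwa [← K₀.subtype_injective he]⟩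
  have hres := exists_complement_of_self_normalizing PK (J₀.subgroupOf K₀) hNK
    (fun x hx => (hcommK x).mpr ((hcomm x).mpr
      ⟨⟨(x : G), hPH hx.1⟩, (hJ₀H _).mp hx.2, rfl⟩))
    (fun x hx => by
      obtain ⟨y, hy, he⟩ := (hcomm x).mp ((hcommK x).mp hx)
      show (x : G) ∈ J₀
      rw [← he]; exact (hJ₀H y).mpr hy)
  set R : Subgroup G := (pResidual p K₀).map K₀.subtype with hR
  have hRK : R ≤ K₀ := Subgroup.map_subtype_le _
  refine ⟨R, ⟨fun n hn g => ?_⟩, ?_, ?_⟩
  · obtain ⟨m, hm, rfl⟩ := hn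
    refine ⟨(MulAut.conjNormal g : MulAut K₀) m, ?_, MulAut.conjNormal_apply g m⟩
    have h := Transfer.map_pResidual_equiv (p := p) (MulAut.conjNormal g : MulAut K₀)
    rw [← h]
    exact Subgroup.mem_map_of_mem _ hm
  · rw [eq_top_iff]
    have h1 : K₀ ≤ R ⊔ H := by
      intro k hk
      have h2 := (Transfer.sylow_sup_pResidual_eq_top PK).ge (Subgroup.mem_top ⟨k, hk⟩)
      obtain ⟨u, hu, r, hr, he⟩ := Subgroup.mem_sup_of_normal_right.mp h2
      have he' : (u : G) * (r : G) = k := congrArg Subtype.val he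
      rw [← he']
      exact mul_mem (Subgroup.mem_sup_right (hPH hu)) (Subgroup.mem_sup_left ⟨r, hr, rfl⟩)
    have h3 := Sylow.normalizer_sup_eq_top PK
    have e : (PK : Subgroup K₀).map K₀.subtype = (P : Subgroup G) :=
      Subgroup.map_subgroupOf_eq_of_le hPK
    rw [e] at h3
    rw [← h3]
    exact sup_le le_sup_right h1
  · rw [Subgroup.eq_bot_iff_forall]
    rintro x ⟨hxR, hxH⟩
    obtain ⟨m, hm, rfl⟩ := hxR
    have hxP : (m : G) ∈ (P : Subgroup G) := (hK₀H ⟨(m : G), hxH⟩).mp m.2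
    have : m = 1 := Transfer.eq_one_of_coprime_of_mem PK.2 (show m ∈ (PK : Subgroup K₀) from hxP)
      ((((Fact.out : p.Prime).coprime_iff_not_dvd.mpr hres).symm).coprime_dvd_left
        (Subgroup.orderOf_dvd_natCard _ hm))
    rw [this]
    rfl

end Cfsg.Agent.S4931
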