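import Cfsg.Statements.S4949
import Cfsg.Agent.Bead29.AltHeights

set_option autoImplicit false
open Cfsg

namespace Cfsg.Agent.S4949

theorem sign_addRight_one : Equiv.Perm.sign (Equiv.addRight (1 : ZMod 2)) ≠ 1 := by decide +kernel

set_option maxHeartbeats 1000000 in
/-- Let n be a natural number, p a prime, M a maximal ideal of the algebraic integers containing p, B a p-block of the alternating group of degree n and D a defect group of B. Then either B contains an irreducible character of height 1 and D has an irreducible complex character of degree p, or every irreducible character of B has height zero and D is commutative (so the least positive height in B and the least positive exponent of a character degree of D are both 1 or both absent). -/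
theorem result (n : ℕ) (p : ℕ) [Fact p.Prime] (M : Ideal Cfsg.AlgInt) (hM : Cfsg.IsPModular p M) (B : Set (Cfsg.IrrCharacter ↥(alternatingGroup (Fin n)))) (hB : Cfsg.IsPBlock M B) (D : Subgroup ↥(alternatingGroup (Fin n))) (hD : Cfsg.IsDefectGroup p M B D) :
    ((∃ χ : Cfsg.IrrCharacter ↥(alternatingGroup (Fin n)), χ ∈ B ∧ Cfsg.blockHeight p B (χ : ↥(alternatingGroup (Fin n)) → ℂ) = 1) ∧ (∃ φ : Cfsg.IrrCharacter ↥D, Cfsg.charDegree (φ : ↥D → ℂ) = p)) ∨
    ((∀ χ : Cfsg.IrrCharacter ↥(alternatingGroup (Fin n)), χ ∈ B → Cfsg.blockHeight p B (χ : ↥(alternatingGroup (Fin n)) → ℂ) = 0) ∧ IsMulCommutative D) := by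
  classical
  have hp := (Fact.out : p.Prime)
  have := Cfsg.Agent.BlocksCore.isPrime hM
  rcases Nat.lt_or_ge n 2 with hn | hn
  · -- the trivial group
    right
    have : Subsingleton (Fin n) := Fin.subsingleton_iff_le_one.mpr (by omega)
    refine ⟨fun χ _ => ?_, ⟨⟨fun a b => Subsingleton.elim _ _⟩⟩⟩
    have h1 : Cfsg.charDegree (χ : ↥(alternatingGroup (Fin n)) → ℂ) = 1 := by
      have h := Cfsg.Agent.BlocksCore.charDegree_dvd_card χ
      rwa [Nat.card_unique, Nat.dvd_one] at h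
    simp [Cfsg.blockHeight, h1]
  obtain ⟨θ0, hθ0⟩ := Cfsg.Agent.BlocksCore.isPBlock_nonempty hB
  obtain ⟨χ, hχθ⟩ := Cfsg.Agent.CharCore.exists_over (N := alternatingGroup (Fin n)) θ0
  set C := Cfsg.blockOf M (χ : Equiv.Perm (Fin n) → ℂ) with hCdef
  have hC : Cfsg.IsPBlock M C := Cfsg.Agent.BlocksCore.isPBlock_blockOf χ
  have hχ : χ ∈ C := Cfsg.Agent.BlocksCore.mem_blockOf_self χ
  set N := p * (2 * n + 1) with hNdef
  have hN : n + n ≤ N := by
    have := Nat.le_mul_of_pos_left (2 * n + 1) hp.pos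
    omega
  have hNw : p * n + n ≤ N := by
    have h1 : p * (2 * n + 1) = p * n + (p * n + p) := by ring
    have := Nat.le_mul_of_pos_left n hp.pos
    omega
  have hpN : p ∣ N := ⟨2 * n + 1, hNdef⟩
  obtain ⟨b, hb, eb⟩ := Cfsg.Agent.Bead29.exists_chr_eq hN χ
  set w := ∑ r, Cfsg.Agent.Bead29.exc p b r with hwdef
  obtain ⟨hdb, hsb⟩ := Cfsg.Agent.Bead29.mem_cfg.mp hb
  have hKb : Cfsg.Agent.Bead29.baseK (Cfsg.Agent.Bead29.cnt p b) + p * w =
      Cfsg.Agent.Bead29.base N + n := by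
    rw [← hdb]; exact (Cfsg.Agent.Bead29.deg_eq_baseK hp.pos hsb.injective).symm
  have hcge : ∀ r, n ≤ Cfsg.Agent.Bead29.cnt p b r := fun r =>
    Cfsg.Agent.Bead29.le_cnt (n := n) hp.pos hNw hsb.injective hdb.le r
  obtain ⟨Q⟩ : Nonempty (Sylow p (Equiv.Perm (Fin w))) := inferInstance
  set T : Subgroup (Equiv.Perm (Fin n)) := D.map (alternatingGroup (Fin n)).subtype with hT
  obtain ⟨P, hP, hPT⟩ := Cfsg.Agent.BlocksDefect.exists_defectGroup_inf_eq hM hB
    (Subgroup.map_subtype_le D) (Q := T) (by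
      rw [hT, show (D.map (alternatingGroup (Fin n)).subtype).subgroupOf (alternatingGroup (Fin n)) = D
        from Subgroup.comap_map_eq_self_of_injective (Subgroup.subtype_injective _) D]
      exact hD) hC ⟨χ, hχ, θ0, hθ0, hχθ⟩
  obtain ⟨⟨ι, g, hPeq⟩, χ1, hχ1, b1, hb1, eb1, hht1⟩ :=
    Cfsg.Agent.Bead29.exists_defect hM hN hC hP hχ hb eb rfl Q
  have hwn : p * w ≤ n := by
    have : NeZero p := ⟨hp.pos.ne'⟩
    have := Fintype.card_le_of_embedding ι
    simpa [mul_comm] using this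
  have : NeZero p := ⟨hp.pos.ne'⟩
  -- the defect group is the even part of the wreath model
  set K := Cfsg.Agent.Bead29.wr (Q : Subgroup (Equiv.Perm (Fin w))) p with hK
  let Φ : Equiv.Perm (Fin w × ZMod p) →* Equiv.Perm (Fin n) :=
    (MulAut.conj g).toMonoidHom.comp (Equiv.Perm.viaEmbeddingHom ι)
  have hΦ : Function.Injective Φ :=
    (MulAut.conj g).injective.comp (Equiv.Perm.viaEmbeddingHom_injective ι)
  have hsign : ∀ s, Equiv.Perm.sign (Φ s) = Equiv.Perm.sign s := fun s => by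
    show Equiv.Perm.sign (g * s.viaEmbedding ι * g⁻¹) = _
    rw [map_mul, map_mul, map_inv, mul_comm (Equiv.Perm.sign g), mul_assoc, mul_inv_cancel, mul_one,
      Equiv.Perm.viaEmbedding, Equiv.Perm.sign_extendDomain]
  set K0 := K ⊓ alternatingGroup (Fin w × ZMod p) with hK0
  have hmapK : K0.map Φ = T := by
    rw [← hPT, hPeq, Subgroup.map_map]
    ext x
    constructor
    · rintro ⟨s, hs, rfl⟩
      exact ⟨⟨s, hs.1, rfl⟩,
        Equiv.Perm.mem_alternatingGroup.mpr ((hsign s).trans (Equiv.Perm.mem_alternatingGroup.mp hs.2))⟩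
    · rintro ⟨⟨s, hs, rfl⟩, hx⟩
      exact ⟨s, ⟨hs, Equiv.Perm.mem_alternatingGroup.mpr
        ((hsign s).symm.trans (Equiv.Perm.mem_alternatingGroup.mp hx))⟩, rfl⟩
  let eD : D ≃* K0 := (Subgroup.equivMapOfInjective D _ (Subgroup.subtype_injective _)).trans
    ((MulEquiv.subgroupCongr hmapK.symm).trans (Subgroup.equivMapOfInjective K0 Φ hΦ).symm)
  -- valuations
  have hval : ∀ θ ∈ B, ∃ χ' ∈ C, ∃ b' ∈ Cfsg.Agent.Bead29.cfg N (Cfsg.Agent.Bead29.base N + n),
      (χ' : Equiv.Perm (Fin n) → ℂ) = Cfsg.Agent.Bead29.chr n b' ∧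
      ∑ r, Cfsg.Agent.Bead29.exc p b' r = w ∧
      Cfsg.Agent.Bead29.cnt p b' = Cfsg.Agent.Bead29.cnt p b ∧
      Cfsg.Agent.Bead29.vp p (Cfsg.charDegree (θ : ↥(alternatingGroup (Fin n)) → ℂ)) + w +
          Cfsg.Agent.Bead29.vp p w.factorial =
        Cfsg.Agent.Bead29.vp p n.factorial + Cfsg.Agent.Bead29.ht p w b' -
          Cfsg.Agent.Bead29.dlt p χ' := by
    intro θ hθ
    obtain ⟨χ', hχ', hov⟩ := Cfsg.Agent.BC87.CoveringBlock.exists_over_of_covers hM hC hB
      ⟨χ, hχ, θ0, hθ0, hχθ⟩ hθ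
    obtain ⟨b', hb', eb'⟩ := Cfsg.Agent.Bead29.exists_chr_eq hN χ'
    have hc := Cfsg.Agent.Bead29.cnt_eq_of_mem hM hC hχ' hχ hb' hb eb' eb
    have hsum := Cfsg.Agent.Bead29.sum_exc_eq hp.pos hb hb' hc
    refine ⟨χ', hχ', b', hb', eb', hsum, hc, ?_⟩
    rw [Cfsg.Agent.Bead29.val_constituent hp hn χ' hov,
      ← Cfsg.Agent.Bead29.charDegree_val hp hb' eb' hsum]
    ring
  have hheight : ∀ θ ∈ B, ∀ V : ℤ,
      (∀ η ∈ B, V ≤ Cfsg.Agent.Bead29.vp p (Cfsg.charDegree (η : ↥(alternatingGroup (Fin n)) → ℂ))) →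
      (∃ η ∈ B, V = Cfsg.Agent.Bead29.vp p (Cfsg.charDegree (η : ↥(alternatingGroup (Fin n)) → ℂ))) →
      ((Cfsg.blockHeight p B (θ : ↥(alternatingGroup (Fin n)) → ℂ) : ℕ) : ℤ) =
        Cfsg.Agent.Bead29.vp p (Cfsg.charDegree (θ : ↥(alternatingGroup (Fin n)) → ℂ)) - V := by
    intro θ hθ V h1 h2
    obtain ⟨η, hη, hV⟩ := h2
    have hinf : sInf ((fun ψ : Cfsg.IrrCharacter ↥(alternatingGroup (Fin n)) =>
        (Cfsg.charDegree (ψ : ↥(alternatingGroup (Fin n)) → ℂ)).factorization p) '' B) =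
        (Cfsg.charDegree (η : ↥(alternatingGroup (Fin n)) → ℂ)).factorization p := by
      refine le_antisymm (Nat.sInf_le ⟨η, hη, rfl⟩) (le_csInf ⟨_, η, hη, rfl⟩ ?_)
      rintro _ ⟨ψ, hψ, rfl⟩
      have := h1 ψ hψ
      simp only [Cfsg.Agent.Bead29.vp] at this hV ⊢
      omega
    have := h1 θ hθ
    rw [Cfsg.blockHeight, hinf]
    simp only [Cfsg.Agent.Bead29.vp] at this hV ⊢
    omega
  have hdlt0 : ∀ χ' : Cfsg.IrrCharacter (Equiv.Perm (Fin n)), p ≠ 2 →
      Cfsg.Agent.Bead29.dlt p χ' = 0 := fun χ' h => by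
    rw [Cfsg.Agent.Bead29.dlt, if_neg fun e => h e.1]
  have hdlt_le : ∀ χ' : Cfsg.IrrCharacter (Equiv.Perm (Fin n)),
      0 ≤ Cfsg.Agent.Bead29.dlt p χ' ∧ Cfsg.Agent.Bead29.dlt p χ' ≤ 1 := fun χ' => by
    rw [Cfsg.Agent.Bead29.dlt]; split_ifs <;> simp
  by_cases hw0 : p = 2 ∧ w = 0
  · -- a block of defect zero
    obtain ⟨rfl, hw0⟩ := hw0
    right
    refine ⟨fun θ hθ => ?_, ⟨⟨fun a b => ?_⟩⟩⟩
    · have hconst : ∀ η ∈ B, Cfsg.Agent.Bead29.vp 2 (Cfsg.charDegree (η : ↥(alternatingGroup (Fin n)) → ℂ)) =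
          Cfsg.Agent.Bead29.vp 2 n.factorial - Cfsg.Agent.Bead29.dlt 2 χ := by
        intro η hη
        obtain ⟨χ', hχ', b', hb', eb', hsum, hc, hv⟩ := hval η hη
        have hbb : b' = b := Cfsg.Agent.Bead29.eq_of_exc_eq_zero two_pos
          (Cfsg.Agent.Bead29.mem_cfg.mp hb').2 hsb hc (hsum.trans hw0) hw0
        obtain rfl : χ' = χ := Subtype.ext (by rw [eb', eb, hbb])
        rw [Cfsg.Agent.Bead29.ht_lt hp (by omega) (Cfsg.Agent.Bead29.mem_cfg.mp hb').2.injective hsum,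
          hw0, Nat.factorial_zero, Cfsg.Agent.Bead29.vp_one] at hv
        simpa using hv
      have h := hheight θ hθ _ (fun η hη => (hconst η hη).symm.le) ⟨θ, hθ, (hconst θ hθ).symm⟩
      rw [hconst θ hθ, sub_self] at h
      exact_mod_cast h
    · refine eD.injective (Subtype.ext ?_)
      rw [map_mul, map_mul, Subgroup.coe_mul, Subgroup.coe_mul]
      exact Cfsg.Agent.Bead29.commute_wr Q (by omega) _ (eD a).2.1 _ (eD b).2.1
  -- `dlt` never exceeds the height
  have hdle : ∀ (χ' : Cfsg.IrrCharacter (Equiv.Perm (Fin n))) (b' : Fin N → ℕ),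
      b' ∈ Cfsg.Agent.Bead29.cfg N (Cfsg.Agent.Bead29.base N + n) →
      (χ' : Equiv.Perm (Fin n) → ℂ) = Cfsg.Agent.Bead29.chr n b' →
      ∑ r, Cfsg.Agent.Bead29.exc p b' r = w →
      Cfsg.Agent.Bead29.dlt p χ' ≤ Cfsg.Agent.Bead29.ht p w b' := by
    intro χ' b' hb' eb' hsum
    have hs' := (Cfsg.Agent.Bead29.mem_cfg.mp hb').2
    rw [Cfsg.Agent.Bead29.dlt]
    split_ifs with h
    · obtain ⟨rfl, hS⟩ := h
      exact Cfsg.Agent.Bead29.ht_pos_of_sym hpN (by
        by_contra h0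
        exact hw0 ⟨rfl, by omega⟩) hs'
        (Cfsg.Agent.Bead29.sym_of_selfTwist hb' eb' hS) hsum
    · exact Cfsg.Agent.Bead29.ht_nonneg hs'.injective hsum
  set V : ℤ := Cfsg.Agent.Bead29.vp p n.factorial - w - Cfsg.Agent.Bead29.vp p w.factorial with hV
  have hVle : ∀ η ∈ B, V ≤ Cfsg.Agent.Bead29.vp p (Cfsg.charDegree (η : ↥(alternatingGroup (Fin n)) → ℂ)) := by
    intro η hη
    obtain ⟨χ', hχ', b', hb', eb', hsum, hc, hv⟩ := hval η hη
    have := hdle χ' b' hb' eb' hsum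
    omega
  have hsum1 : ∑ r, Cfsg.Agent.Bead29.exc p b1 r = w := Cfsg.Agent.Bead29.sum_exc_eq hp.pos hb hb1
    (Cfsg.Agent.Bead29.cnt_eq_of_mem hM hC hχ1 hχ hb1 hb eb1 eb)
  have hunder : ∀ χ' ∈ C, ∀ b' ∈ Cfsg.Agent.Bead29.cfg N (Cfsg.Agent.Bead29.base N + n),
      (χ' : Equiv.Perm (Fin n) → ℂ) = Cfsg.Agent.Bead29.chr n b' →
      ∑ r, Cfsg.Agent.Bead29.exc p b' r = w →
      ∃ η ∈ B, Cfsg.Agent.Bead29.vp p (Cfsg.charDegree (η : ↥(alternatingGroup (Fin n)) → ℂ)) =
        V + Cfsg.Agent.Bead29.ht p w b' - Cfsg.Agent.Bead29.dlt p χ' := by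
    intro χ' hχ' b' hb' eb' hsum
    obtain ⟨η, hη, hov⟩ := Cfsg.Agent.Bead29.exists_under hM hB hC hχ hθ0 hχθ hχ'
    refine ⟨η, hη, ?_⟩
    rw [Cfsg.Agent.Bead29.val_constituent hp hn χ' hov, hV]
    have := Cfsg.Agent.Bead29.charDegree_val hp hb' eb' hsum
    omega
  have hht1' : Cfsg.Agent.Bead29.ht p w b1 = 0 := hht1
  obtain ⟨η1, hη1, hV1⟩ : ∃ η ∈ B,
      V = Cfsg.Agent.Bead29.vp p (Cfsg.charDegree (η : ↥(alternatingGroup (Fin n)) → ℂ)) := by
    obtain ⟨η, hη, h⟩ := hunder χ1 hχ1 b1 hb1 eb1 hsum1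
    have := hdle χ1 b1 hb1 eb1 hsum1
    have := (hdlt_le χ1).1
    exact ⟨η, hη, by omega⟩
  by_cases hsmall : w < p ∨ (p = 2 ∧ w = 2)
  · right
    refine ⟨fun θ hθ => ?_, ⟨⟨fun x y => ?_⟩⟩⟩
    · obtain ⟨χ', hχ', b', hb', eb', hsum, hc, hv⟩ := hval θ hθ
      have h := hheight θ hθ V hVle ⟨η1, hη1, hV1⟩
      have hs' := (Cfsg.Agent.Bead29.mem_cfg.mp hb').2
      have hkey : Cfsg.Agent.Bead29.ht p w b' = Cfsg.Agent.Bead29.dlt p χ' := by
        rcases hsmall with hlt | ⟨rfl, hw2⟩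
        · have h0 := Cfsg.Agent.Bead29.ht_lt hp hlt hs'.injective hsum
          have := hdle χ' b' hb' eb' hsum
          have := (hdlt_le χ').1
          omega
        · rw [hw2] at hsum ⊢
          have hc2 : ∀ r, 2 ≤ Cfsg.Agent.Bead29.cnt 2 b' r := fun r => by
            rw [hc]; exact hn.trans (hcge r)
          rcases Cfsg.Agent.Bead29.weight_two_cases hs'.injective hc2 hsum with h0 | ⟨h0, -⟩
          · have := hdle χ' b' hb' eb' (hsum.trans hw2.symm)
            rw [hw2] at this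
            have := (hdlt_le χ').1
            omega
          · rw [h0, Cfsg.Agent.Bead29.dlt, if_pos ⟨rfl,
              Cfsg.Agent.Bead29.selfTwist_of_ht_one hN hNw hb' eb' hsum hn h0⟩]
      rw [hV] at h
      omega
    · refine eD.injective ?_
      rw [map_mul, map_mul]
      rcases hsmall with hlt | ⟨rfl, hw2⟩
      · refine Subtype.ext ?_
        rw [Subgroup.coe_mul, Subgroup.coe_mul]
        exact Cfsg.Agent.Bead29.commute_wr Q hlt _ (eD x).2.1 _ (eD y).2.1
      · have hcardK : Nat.card K = 2 ^ 3 := by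
          rw [hK, Cfsg.Agent.Bead29.card_wr_sylow]
          congr 1
          rw [hw2, Nat.factorial_two, Nat.prime_two.factorization_self]
        have hne : ¬ K ≤ alternatingGroup (Fin w × ZMod 2) := by
          intro hle
          have i0 : Fin w := ⟨0, by omega⟩
          have := Equiv.Perm.mem_alternatingGroup.mp (hle (show
            Cfsg.Agent.Bead29.shear (1 : Equiv.Perm (Fin w)) (Pi.single i0 (1 : ZMod 2)) ∈ K from
            ⟨1, Subgroup.one_mem _, _, rfl⟩))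
          rw [Cfsg.Agent.Bead29.sign_shear_two, Finset.prod_eq_single i0 (fun i _ hi => by
            rw [Pi.single_eq_of_ne hi, Equiv.addRight_zero]; exact map_one _) (by simp),
            Pi.single_eq_same] at this
          exact sign_addRight_one this
        obtain ⟨k, hk3, hk⟩ := (Nat.dvd_prime_pow Nat.prime_two).mp
          (hcardK ▸ Subgroup.card_dvd_of_le (inf_le_left : K0 ≤ K))
        have hk2 : k ≤ 2 := by
          by_contra h3
          have e : K0 = K := Subgroup.eq_of_le_of_card_ge inf_le_left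
            (by rw [hk, hcardK]; exact Nat.pow_le_pow_right two_pos (by omega))
          exact hne (e ▸ inf_le_right)
        rcases (show k ≤ 1 ∨ k = 2 by omega) with h | h
        · have : IsCyclic K0 := by
            rcases (show k = 0 ∨ k = 1 by omega) with rfl | rfl
            · have : Subsingleton K0 := (Nat.card_eq_one_iff_unique.mp (by rw [hk, pow_zero])).1
              exact isCyclic_of_subsingleton
            · exact isCyclic_of_prime_card (p := 2) (by rw [hk, pow_one])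
          letI := IsCyclic.commGroup (α := K0)
          exact mul_comm _ _
        · have := IsPGroup.isMulCommutative_of_card_eq_prime_sq (p := 2) (G := K0) (by rw [hk, h])
          exact mul_comm' _ _
  · left
    push Not at hsmall
    obtain ⟨hwp, hw2⟩ := hsmall
    have hwc : ∀ r, w ≤ Cfsg.Agent.Bead29.cnt p b r := fun r => by
      have := hcge r
      have := Nat.le_mul_of_pos_left w hp.pos
      omega
    obtain ⟨x, hxs, hxc, hxd, hxw, hxh, hxsym⟩ : ∃ x : Fin N → ℕ, StrictMono x ∧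
        Cfsg.Agent.Bead29.cnt p x = Cfsg.Agent.Bead29.cnt p b ∧
        Cfsg.Agent.Bead29.deg x = Cfsg.Agent.Bead29.baseK (Cfsg.Agent.Bead29.cnt p b) + p * w ∧
        ∑ r, Cfsg.Agent.Bead29.exc p x r = w ∧ Cfsg.Agent.Bead29.ht p w x = 1 ∧
        (p = 2 → ¬ Cfsg.Agent.Bead29.Sym x) := by
      by_cases hp2 : p = 2
      · subst hp2
        obtain ⟨x, h1, h2, h3, h4, h5, h6⟩ := Cfsg.Agent.Bead29.exists_ht_one_two hpN
          (Cfsg.Agent.Bead29.cnt 2 b) (Cfsg.Agent.Bead29.sum_cnt two_pos b) w hwc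
          (by have := hw2 rfl; omega)
        exact ⟨x, h1, h2, h3, h4, h5, fun _ => h6⟩
      · obtain ⟨x, h1, h2, h3, h4, h5⟩ := Cfsg.Agent.Bead29.exists_ht_one_odd hp hp2
          (Cfsg.Agent.Bead29.cnt p b) (Cfsg.Agent.Bead29.sum_cnt hp.pos b) w hwc hwp
        exact ⟨x, h1, h2, h3, h4, h5, fun h => absurd h hp2⟩
    have hx : x ∈ Cfsg.Agent.Bead29.cfg N (Cfsg.Agent.Bead29.base N + n) :=
      Cfsg.Agent.Bead29.mem_cfg.mpr ⟨hxd.trans hKb, hxs⟩
    set χx : Cfsg.IrrCharacter (Equiv.Perm (Fin n)) :=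
      ⟨Cfsg.Agent.Bead29.chr n x, Cfsg.Agent.Bead29.isIrr_chr hN hx⟩ with hχx
    have hχxC : χx ∈ C := Cfsg.Agent.Bead29.mem_of_cnt hM hN hNw hC hχ hb hx eb rfl hxc
    have hd0 : Cfsg.Agent.Bead29.dlt p χx = 0 := by
      rw [Cfsg.Agent.Bead29.dlt, if_neg fun h => hxsym h.1
        (Cfsg.Agent.Bead29.sym_of_selfTwist hx rfl h.2)]
    refine ⟨?_, ?_⟩
    · obtain ⟨η, hη, hv⟩ := hunder χx hχxC x hx rfl hxw
      refine ⟨η, hη, ?_⟩
      have h := hheight η hη V hVle ⟨η1, hη1, hV1⟩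
      omega
    · by_cases hp2 : p = 2
      · subst hp2
        exact Cfsg.Agent.Bead29.mulEquiv_degree eD
          (Cfsg.Agent.Bead29.exists_degree_wr_alt Q (by have := hw2 rfl; omega))
      · have hall : K0 = K := inf_eq_left.mpr fun s hs => by
          obtain ⟨j, hj⟩ := Cfsg.Agent.Bead29.isPGroup_wr Q ⟨s, hs⟩
          rw [Equiv.Perm.mem_alternatingGroup]
          have hodd : Odd (p ^ j) := (hp.odd_of_ne_two hp2).pow
          have h1 : Equiv.Perm.sign s ^ (p ^ j) = 1 := by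
            rw [← map_pow, show s ^ (p ^ j) = 1 from congrArg Subtype.val hj, map_one]
          rcases Int.units_eq_one_or (Equiv.Perm.sign s) with h | h
          · exact h
          · rw [h, hodd.neg_one_pow] at h1; exact absurd h1 (by decide)
        exact Cfsg.Agent.Bead29.mulEquiv_degree (eD.trans (MulEquiv.subgroupCongr hall))
          (Cfsg.Agent.Bead29.exists_degree_wr Q hwp)

end Cfsg.Agent.S4949
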