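import Cfsg.Statements.S4955
import Cfsg.Agent.Blocks88.Basic
import Cfsg.Agent.Blocks88.Modular
-- import your own Cfsg.Agent.* helpers here

set_option autoImplicit false
open Cfsg

namespace Cfsg.Agent.S4955

/-- Let X be a finite group with an abelian normal Sylow p-subgroup V (a normal p-subgroup of index prime to p in which any two elements commute), and let G be a complement to V in X. Then for every v in V, writing C for the centralizer of v in G, the number k(X) of conjugacy classes of X satisfies k(X) ≤ (order of C)·(order of V) − ((order of G) − k(G)); the statement is written with the subtracted term moved to the left. In particular, if some v in V is centralized by no nonidentity element of G, then k(X) is at most the order of V. -/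
theorem result {X : Type*} [Group X] [Finite X] (p : ℕ) [Fact p.Prime] (V : Subgroup X) [V.Normal] (hVp : IsPGroup p V) (hidx : ¬ p ∣ V.index) (hab : ∀ a ∈ V, ∀ b ∈ V, a * b = b * a) (G : Subgroup X) (hGV : Subgroup.IsComplement' V G) (v : X) (hv : v ∈ V) : Nat.card (ConjClasses X) + Nat.card G ≤ Nat.card ↥(G ⊓ Subgroup.centralizer ({v} : Set X)) * Nat.card V + Nat.card (ConjClasses G) := by
  classical
  have := Fintype.ofFinite X
  have := Fintype.ofFinite G
  have hVX : ∀ x : X, ∃ g ∈ G, ∃ u ∈ V, x = u * g := fun x => by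
    obtain ⟨⟨u, g⟩, h⟩ := hGV.2 x
    exact ⟨g, g.2, u, u.2, h.symm⟩
  have hVG : ∀ x : X, x ∈ V → x ∈ G → x = 1 := fun x h1 h2 => by
    simpa using hGV.disjoint.le_bot ⟨h1, h2⟩
  -- the centralizer of v
  have hC : Nat.card ↥(Subgroup.centralizer ({v} : Set X)) =
      Nat.card V * Nat.card ↥(G ⊓ Subgroup.centralizer ({v} : Set X)) := by
    rw [← Nat.card_prod]
    refine (Nat.card_eq_of_bijective
      (fun z : ↥V × ↥(G ⊓ Subgroup.centralizer ({v} : Set X)) =>
        (⟨(z.1 : X) * z.2, Subgroup.mul_mem _ (fun y hy => by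
          rw [Set.mem_singleton_iff.mp hy]; exact hab v hv _ z.1.2) (Subgroup.mem_inf.mp z.2.2).2⟩ :
          ↥(Subgroup.centralizer ({v} : Set X)))) ⟨?_, ?_⟩).symm
    · rintro ⟨a, b⟩ ⟨c, d⟩ h
      have h := congrArg Subtype.val h
      have := hVG ((c : X)⁻¹ * a) (V.mul_mem (V.inv_mem c.2) a.2) (by
        have e : (c : X)⁻¹ * a = d * (b : X)⁻¹ := by
          rw [eq_mul_inv_iff_mul_eq, mul_assoc, inv_mul_eq_iff_eq_mul]; exact h
        rw [e]; exact G.mul_mem (Subgroup.mem_inf.mp d.2).1 (G.inv_mem (Subgroup.mem_inf.mp b.2).1))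
      have hac : a = c := Subtype.ext (inv_mul_eq_one.mp this).symm
      subst hac
      exact Prod.ext rfl (Subtype.ext (mul_left_cancel h))
    · rintro ⟨x, hx⟩
      obtain ⟨g, hg, u, hu, rfl⟩ := hVX x
      refine ⟨(⟨u, hu⟩, ⟨g, Subgroup.mem_inf.mpr ⟨hg, ?_⟩⟩), rfl⟩
      have hu' : u ∈ Subgroup.centralizer ({v} : Set X) := fun y hy => by
        rw [Set.mem_singleton_iff.mp hy]; exact hab v hv u hu
      have := Subgroup.mul_mem _ (Subgroup.inv_mem _ hu') hx
      rwa [inv_mul_cancel_left] at this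
  -- the projection onto the complement
  let e : G ≃* X ⧸ V := MulEquiv.ofBijective ((QuotientGroup.mk' V).comp G.subtype) ⟨by
    rw [injective_iff_map_eq_one]
    exact fun g hg => Subtype.ext (hVG g ((QuotientGroup.eq_one_iff (g : X)).mp hg) g.2), fun q => by
    obtain ⟨x, rfl⟩ := QuotientGroup.mk_surjective q
    obtain ⟨g, hg, u, hu, rfl⟩ := hVX x
    exact ⟨⟨g, hg⟩, by simp [(QuotientGroup.eq_one_iff u).mpr hu]⟩⟩
  let π : X →* G := e.symm.toMonoidHom.comp (QuotientGroup.mk' V)
  have hπs : Function.Surjective π := fun g => ⟨g, e.symm_apply_apply g⟩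
  have hπv : π v = 1 := by simp [π, (QuotientGroup.eq_one_iff v).mpr hv]
  let infl : Cfsg.IrrCharacter G → Cfsg.IrrCharacter X := fun θ =>
    ⟨(θ : G → ℂ) ∘ π, CharCore.isIrrCharacter_comp_surjective θ.2 π hπs⟩
  have hinfl : Function.Injective infl := fun θ θ' h => Subtype.ext (funext fun g => by
    obtain ⟨x, rfl⟩ := hπs g
    exact congrFun (congrArg Subtype.val h) x)
  let T : Finset (Cfsg.IrrCharacter X) := Finset.univ.image infl
  have hp : p.Prime := Fact.out
  have hnz : ∀ χ : Cfsg.IrrCharacter X, (χ : X → ℂ) v ≠ 0 := by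
    intro χ h0
    obtain ⟨d, hd, hdvd⟩ := Blocks88.charDegree_dvd_index χ V hab
    obtain ⟨k, hk⟩ := IsPGroup.iff_orderOf.mp hVp ⟨v, hv⟩
    rw [Subgroup.orderOf_mk] at hk
    obtain ⟨M, hM⟩ := Blocks88.exists_isPModular hp
    have hmem := Blocks88.char_sub_degree_mem hM (CharCore.irr_isCharacter χ) hk
    rw [h0, zero_sub, hd] at hmem
    have := BlocksCore.isPrime hM
    exact hidx ((Dvd.dvd.trans · hdvd) ((BlocksCore.memLocalIdeal_natCast_iff hM d).mp
      (by simpa using BlocksCore.memLocalIdeal_neg hmem)))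
  have hrest : ((Finset.univ \ T).card : ℝ) ≤ ∑ χ ∈ Finset.univ \ T, ‖(χ : X → ℂ) v ^ 2‖ := by
    refine Blocks88.card_le_sum_norm _ _
      (fun χ _ => (CharCore.IsCharacter.isIntegral (CharCore.irr_isCharacter χ) v).pow 2)
      (fun χ _ => pow_ne_zero 2 (hnz χ)) fun σ => ⟨Blocks88.galoisIrr σ, fun χ hχ => ?_,
        (Blocks88.galoisIrr_injective σ).injOn, fun χ _ => by rw [map_pow]; rfl⟩
    refine Finset.mem_sdiff.mpr ⟨Finset.mem_univ _, fun hT => (Finset.mem_sdiff.mp hχ).2 ?_⟩
    have himg : T.image (Blocks88.galoisIrr σ) = T := by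
      refine Finset.eq_of_subset_of_card_le (Finset.image_subset_iff.mpr fun ψ hψ => ?_)
        (Finset.card_image_of_injective _ (Blocks88.galoisIrr_injective σ)).ge
      obtain ⟨θ, -, rfl⟩ := Finset.mem_image.mp hψ
      exact Finset.mem_image.mpr ⟨Blocks88.galoisIrr σ θ, Finset.mem_univ _, rfl⟩
    rw [← himg] at hT
    obtain ⟨ψ, hψ, he⟩ := Finset.mem_image.mp hT
    rwa [← Blocks88.galoisIrr_injective σ he]
  have hTsum : ∑ χ ∈ T, ‖(χ : X → ℂ) v ^ 2‖ = (Nat.card G : ℝ) := by
    rw [Finset.sum_image hinfl.injOn]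
    have h := CharCore.sum_degree_sq (G := G)
    have h1 : ∀ θ : Cfsg.IrrCharacter G, ((θ : G → ℂ) 1 ^ 2) =
        ((‖((infl θ : Cfsg.IrrCharacter X) : X → ℂ) v ^ 2‖ : ℝ) : ℂ) := by
      intro θ
      obtain ⟨n, hn⟩ := CharCore.IsCharacter.exists_degree (CharCore.irr_isCharacter θ)
      simp [infl, hπv, hn]
    simp only [h1] at h
    exact_mod_cast h
  have hcol : ∑ χ : Cfsg.IrrCharacter X, ‖(χ : X → ℂ) v ^ 2‖ =
      (Nat.card ↥(Subgroup.centralizer ({v} : Set X)) : ℝ) := by
    have h := CharCore.sum_apply_mul_conj v v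
    rw [if_pos (IsConj.refl v)] at h
    simp only [Complex.mul_conj'] at h
    simp only [norm_pow]
    exact_mod_cast h
  have hTcard : T.card = Nat.card (ConjClasses G) := by
    rw [Finset.card_image_of_injective _ hinfl, Finset.card_univ, ← Nat.card_eq_fintype_card,
      CharCore.card_irr]
  have hk : Nat.card (ConjClasses X) = T.card + (Finset.univ \ T).card := by
    rw [Finset.card_sdiff_of_subset (Finset.subset_univ T), Finset.card_univ,
      Nat.add_sub_cancel' (Finset.card_le_univ T), ← Nat.card_eq_fintype_card, CharCore.card_irr]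
  rw [← Finset.sum_sdiff (Finset.subset_univ T), hTsum, hC] at hcol
  push_cast at hcol
  have hfinal : ((Nat.card (ConjClasses X) + Nat.card G : ℕ) : ℝ) ≤
      ((Nat.card ↥(G ⊓ Subgroup.centralizer ({v} : Set X)) * Nat.card V + Nat.card (ConjClasses G) : ℕ) : ℝ) := by
    rw [hk, ← hTcard]
    push_cast
    linarith
  exact_mod_cast hfinal

end Cfsg.Agent.S4955
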