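import Cfsg.Statements.S4956
import Mathlib.Data.Nat.ModEq
import Mathlib.Data.Int.GCD
import Mathlib.GroupTheory.OrderOfElement
import Mathlib.Algebra.BigOperators.Finprod
import Mathlib.Algebra.Group.Subgroup.Finite
import Mathlib.Tactic.Group
import Mathlib.Algebra.BigOperators.Intervals
-- import your own Cfsg.Agent.* helpers here

set_option autoImplicit false
open Cfsg

namespace Cfsg.Agent.S4956

/-- averaging: in an abelian group with an automorphism of finite order prime to the group order,
every element is a fixed point times a coboundary -/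
lemma fixed_mul_cob {A : Type*} [CommGroup A] [Finite A] (T : A →* A) (n : ℕ)
    (hn : n.Coprime (Nat.card A)) (hT : ∀ u, (T^[n]) u = u) (u : A) :
    ∃ c z : A, T c = c ∧ T z * u = c * z := by
  obtain ⟨k0, hk0, hk1⟩ := Nat.chineseRemainder hn 0 1
  obtain ⟨k, rfl⟩ := Nat.modEq_zero_iff_dvd.mp hk0
  let P := ∏ i ∈ Finset.range n, (T^[i]) u
  let Z := ∏ i ∈ Finset.range n, ∏ j ∈ Finset.range i, (T^[j]) u
  have hshift : ∀ i, T (∏ j ∈ Finset.range i, (T^[j]) u) * u = ∏ j ∈ Finset.range (i + 1), (T^[j]) u := by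
    intro i
    rw [Finset.prod_range_succ', map_prod]
    simp [Function.iterate_succ_apply']
  have hP : T P = P := by
    have h1 := hshift n
    rw [Finset.prod_range_succ, hT u] at h1
    exact mul_right_cancel h1
  have hZ : T Z * u ^ n = P * Z := by
    calc T Z * u ^ n = ∏ i ∈ Finset.range n, (T (∏ j ∈ Finset.range i, (T^[j]) u) * u) := by
          rw [Finset.prod_mul_distrib, ← map_prod, Finset.prod_const, Finset.card_range]
      _ = ∏ i ∈ Finset.range n, ((∏ j ∈ Finset.range i, (T^[j]) u) * (T^[i]) u) :=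
          Finset.prod_congr rfl fun i _ => by rw [hshift, Finset.prod_range_succ]
      _ = P * Z := by rw [Finset.prod_mul_distrib, mul_comm]
  refine ⟨P ^ k, Z ^ k, by rw [map_pow, hP], ?_⟩
  have huk : u ^ (n * k) = u := by
    rw [pow_eq_pow_iff_modEq.mpr (hk1.of_dvd (orderOf_dvd_natCard u)), pow_one]
  rw [map_pow, ← mul_pow, ← hZ, mul_pow, ← pow_mul, huk]

/-- Let X be a finite group, V an abelian normal subgroup of X (any two elements of V commute) and G a complement to V in X whose order is coprime to that of V. Let S be a set of representatives of the orbits of G on V under conjugation: S lies in V and every element of V is conjugate under G to exactly one member of S. Then the number of conjugacy classes of X equals the sum, over s in S, of the number of conjugacy classes of the centralizer of s in G. -/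
theorem result {X : Type*} [Group X] [Finite X] (V : Subgroup X) [V.Normal] (hab : ∀ a ∈ V, ∀ b ∈ V, a * b = b * a) (G : Subgroup X) (hGV : Subgroup.IsComplement' V G) (hcop : (Nat.card V).Coprime (Nat.card G)) (S : Finset X) (hSV : ∀ s ∈ S, s ∈ V) (hrep : ∀ v ∈ V, ∃! s, s ∈ S ∧ ∃ g ∈ G, g * v * g⁻¹ = s) : Nat.card (ConjClasses X) = ∑ s ∈ S, Nat.card (ConjClasses ↥(G ⊓ Subgroup.centralizer ({s} : Set X))) := by
  classical
  have : ∀ t : X, Finite (ConjClasses ↥(G ⊓ Subgroup.centralizer ({t} : Set X))) := fun _ =>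
    Quotient.finite _
  have hVG : ∀ x : X, x ∈ V → x ∈ G → x = 1 := fun x h1 h2 => by
    have := hGV.disjoint.le_bot ⟨h1, h2⟩
    simpa using this
  have hdec : ∀ x : X, ∃ g ∈ G, ∃ u ∈ V, x = g * u := fun x => by
    obtain ⟨⟨u, g⟩, h⟩ := hGV.2 x
    refine ⟨g, g.2, (g : X)⁻¹ * u * g, ?_, ?_⟩
    · have := ‹V.Normal›.conj_mem (u : X) u.2 ((g : X)⁻¹)
      simpa using this
    · rw [← h]; group
  have hcomm : ∀ t : X, ∀ a : ↥(G ⊓ Subgroup.centralizer ({t} : Set X)), Commute (a : X) t :=
    fun t a => ((Subgroup.mem_inf.mp a.2).2 t rfl).symm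
  let Φ : (Σ t : S, ConjClasses ↥(G ⊓ Subgroup.centralizer ({(t : X)} : Set X))) → ConjClasses X :=
    fun q => Quotient.liftOn q.2 (fun a => ConjClasses.mk ((a : X) * (q.1 : X))) (fun a b hab => by
      obtain ⟨c, hc⟩ := isConj_iff.mp hab
      apply ConjClasses.mk_eq_mk_iff_isConj.mpr
      refine isConj_iff.mpr ⟨(c : X), ?_⟩
      rw [← hc]
      have := hcomm _ c
      simp only [Subgroup.coe_mul, Subgroup.coe_inv]
      rw [mul_assoc, mul_assoc, mul_assoc, mul_assoc, this.symm.inv_right.eq])
  have hΦ : ∀ (t : S) (a : ↥(G ⊓ Subgroup.centralizer ({(t : X)} : Set X))),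
      Φ ⟨t, ConjClasses.mk a⟩ = ConjClasses.mk ((a : X) * (t : X)) := fun _ _ => rfl
  have hbij : Function.Bijective Φ := by
    constructor
    · rintro ⟨⟨t, ht⟩, qa⟩ ⟨⟨t', ht'⟩, qb⟩ h
      obtain ⟨a, rfl⟩ := ConjClasses.exists_rep qa
      obtain ⟨b, rfl⟩ := ConjClasses.exists_rep qb
      rw [hΦ, hΦ] at h
      obtain ⟨x, hx⟩ := isConj_iff.mp (ConjClasses.mk_eq_mk_iff_isConj.mp h)
      dsimp only at hx
      obtain ⟨k, hk1, hk2⟩ := Nat.chineseRemainder hcop 1 0
      have part : ∀ (g v : X), g ∈ G → v ∈ V → Commute g v → (g * v) ^ k = v := by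
        intro g v hg hv hgv
        rw [hgv.mul_pow]
        have e1 : v ^ k = v := by
          have := (⟨v, hv⟩ : V)
          have hd : orderOf v ∣ Nat.card V := Subgroup.orderOf_dvd_natCard _ hv
          rw [pow_eq_pow_iff_modEq.mpr (hk1.of_dvd hd), pow_one]
        have e2 : g ^ k = 1 := by
          have hd : orderOf g ∣ Nat.card G := Subgroup.orderOf_dvd_natCard _ hg
          rw [pow_eq_pow_iff_modEq.mpr (hk2.of_dvd hd), pow_zero]
        rw [e1, e2, one_mul]
      have haG : (a : X) ∈ G := (Subgroup.mem_inf.mp a.2).1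
      have hbG : (b : X) ∈ G := (Subgroup.mem_inf.mp b.2).1
      have hxs : x * t * x⁻¹ = t' := by
        rw [← part _ _ hbG (hSV _ ht') (hcomm _ b), ← hx, conj_pow, part _ _ haG (hSV _ ht) (hcomm _ a)]
      have hxa : x * a * x⁻¹ = b := by
        apply mul_right_cancel (b := t')
        rw [← hx, ← hxs]; group
      obtain ⟨g, hg, u, hu, rfl⟩ := hdec x
      have hut : u * t * u⁻¹ = t := by rw [hab u hu t (hSV _ ht), mul_inv_cancel_right]
      have hgt : g * t * g⁻¹ = t' := by
        rw [← hxs]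
        calc g * t * g⁻¹ = g * (u * t * u⁻¹) * g⁻¹ := by rw [hut]
          _ = _ := by group
      have htt : t = t' := by
        obtain ⟨w, -, hw⟩ := hrep t (hSV _ ht)
        rw [hw t ⟨ht, 1, G.one_mem, by group⟩, hw t' ⟨ht', g, hg, hgt⟩]
      subst htt
      have hua : u * a * u⁻¹ = a := by
        have h1 : u * a * u⁻¹ * (a : X)⁻¹ ∈ V := by
          rw [mul_assoc, mul_assoc]
          refine V.mul_mem hu ?_
          rw [← mul_assoc]
          exact ‹V.Normal›.conj_mem _ (V.inv_mem hu) _
        have h2 : u * a * u⁻¹ * (a : X)⁻¹ ∈ G := by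
          refine G.mul_mem ?_ (G.inv_mem haG)
          have : u * a * u⁻¹ = g⁻¹ * b * g := by rw [← hxa]; group
          rw [this]
          exact G.mul_mem (G.mul_mem (G.inv_mem hg) hbG) hg
        exact mul_inv_eq_one.mp (hVG _ h1 h2)
      have hgC : g ∈ G ⊓ Subgroup.centralizer ({t} : Set X) := by
        refine Subgroup.mem_inf.mpr ⟨hg, ?_⟩
        rintro y rfl
        exact (mul_inv_eq_iff_eq_mul.mp hgt).symm
      congr 1
      apply ConjClasses.mk_eq_mk_iff_isConj.mpr
      refine isConj_iff.mpr ⟨⟨g, hgC⟩, Subtype.ext ?_⟩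
      show g * a * g⁻¹ = (b : X)
      rw [← hxa]
      calc g * a * g⁻¹ = g * (u * a * u⁻¹) * g⁻¹ := by rw [hua]
        _ = _ := by group
    · intro q
      obtain ⟨x, rfl⟩ := ConjClasses.exists_rep q
      obtain ⟨g, hg, u, hu, rfl⟩ := hdec x
      let instC : CommGroup V :=
        { (inferInstance : Group V) with mul_comm := fun a b => Subtype.ext (hab a a.2 b b.2) }
      let T : V →* V := (MulAut.conjNormal g⁻¹ : MulAut V).toMonoidHom
      have hTapp : ∀ w : V, ((T w : V) : X) = g⁻¹ * w * g := fun w => by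
        simp [T, MulAut.conjNormal_apply]
      have hiter : ∀ (i : ℕ) (w : V), (((T^[i]) w : V) : X) = (g⁻¹) ^ i * w * g ^ i := by
        intro i
        induction i with
        | zero => intro w; simp
        | succ i ih =>
          intro w
          rw [Function.iterate_succ_apply', hTapp, ih, pow_succ', pow_succ]
          group
      obtain ⟨c, z, hc, hz⟩ := fixed_mul_cob T (orderOf g)
        ((hcop.symm).coprime_dvd_left (Subgroup.orderOf_dvd_natCard _ hg))
        (fun w => Subtype.ext (by rw [hiter, inv_pow, pow_orderOf_eq_one]; simp)) ⟨u, hu⟩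
      have hz' : g⁻¹ * z * g * u = (c : X) * z := by
        rw [← hTapp]; exact congrArg Subtype.val hz
      have hgc : Commute g (c : X) := by
        have h1 : g⁻¹ * c * g = c := by rw [← hTapp, hc]
        show g * c = c * g
        conv_lhs => rw [← h1]
        group
      obtain ⟨t, ⟨ht, h, hh, hht⟩, -⟩ := hrep c c.2
      have ha : h * g * h⁻¹ ∈ G ⊓ Subgroup.centralizer ({t} : Set X) := by
        refine Subgroup.mem_inf.mpr ⟨G.mul_mem (G.mul_mem hh hg) (G.inv_mem hh), ?_⟩
        intro y hy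
        rw [Set.mem_singleton_iff.mp hy, ← hht]
        exact ((Commute.conj_iff h).mpr hgc).symm.eq
      refine ⟨⟨⟨t, ht⟩, ConjClasses.mk ⟨_, ha⟩⟩, ?_⟩
      rw [hΦ]
      apply ConjClasses.mk_eq_mk_iff_isConj.mpr
      apply IsConj.symm
      refine isConj_iff.mpr ⟨h * z, ?_⟩
      show h * z * (g * u) * (h * z)⁻¹ = h * g * h⁻¹ * t
      rw [← hht]
      calc h * (z : X) * (g * u) * (h * z)⁻¹ = h * g * (g⁻¹ * z * g * u) * (z : X)⁻¹ * h⁻¹ := by group
        _ = h * g * ((c : X) * z) * (z : X)⁻¹ * h⁻¹ := by rw [hz']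
        _ = _ := by group
  rw [← Nat.card_congr (Equiv.ofBijective Φ hbij), Nat.card_sigma,
    ← Finset.sum_coe_sort S (fun t => Nat.card (ConjClasses ↥(G ⊓ Subgroup.centralizer ({t} : Set X))))]

end Cfsg.Agent.S4956
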