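import Cfsg.Statements.S4959
import Cfsg.Agent.Blocks88.RealVector.Decompose
import Cfsg.Agent.Blocks88.Modular
import Cfsg.Agent.BC86.KBound
import Mathlib.GroupTheory.NoncommCoprod

set_option autoImplicit false
open Cfsg

namespace Cfsg.Agent.S4959

open Cfsg.Agent.Blocks88.RealVector Cfsg.Agent.BlocksCore
open scoped ComplexConjugate

universe u

variable {X : Type u} [Group X] [Finite X]

/-- The section of an irreducible character at `v`, tested against a class function of `H`. -/
noncomputable def qval (H : Subgroup X) [Fintype H] (v : X) (t : H → ℂ) (χ : Cfsg.IrrCharacter X) :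
    ℂ :=
  (Nat.card H : ℂ)⁻¹ * ∑ h : H, (χ : X → ℂ) (v * (h : X)) * t h

theorem map_qval (H : Subgroup X) [Fintype H] (v : X) (t : H → ℂ) (χ : Cfsg.IrrCharacter X)
    (σ : ℂ →+* ℂ) : σ (qval H v t χ) = qval H v (fun h => σ (t h)) (Blocks88.galoisIrr σ χ) := by
  simp [qval, Blocks88.galoisIrr, map_sum]

theorem map_conj_qval (H : Subgroup X) [Fintype H] (v : X) (t : H → ℂ) (χ : Cfsg.IrrCharacter X)
    (σ : ℂ →+* ℂ) (ht : ∀ h, σ (conj (t h)) = conj (σ (t h))) :
    σ (conj (qval H v t χ)) = conj (σ (qval H v t χ)) := by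
  have key : ∀ x : X, σ (conj ((χ : X → ℂ) x)) = conj (σ ((χ : X → ℂ) x)) := fun x => by
    rw [← CharCore.irr_apply_inv χ x]
    exact CharCore.irr_apply_inv (Blocks88.galoisIrr σ χ) x
  simp [qval, map_sum, key, ht]

theorem isIntegral_qval (H : Subgroup X) [Fintype H] (v : X) (hH : ∀ h ∈ H, v * h = h * v)
    {t : H → ℂ} (ht : IntVirt t) (χ : Cfsg.IrrCharacter X) : IsIntegral ℤ (qval H v t χ) := by
  classical
  have := Fintype.ofFinite (Subgroup.zpowers v)
  let Z := Subgroup.zpowers v
  let ι : Z × H →* X := MonoidHom.noncommCoprod Z.subtype H.subtype fun z h => by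
    obtain ⟨k, hk⟩ := Subgroup.mem_zpowers_iff.mp z.2
    have : Commute v (h : X) := hH _ h.2
    show Commute (z : X) (h : X)
    rw [← hk]
    exact this.zpow_left k
  let δ : Z → ℂ := fun z => if (z : X) = v then 1 else 0
  have hδ : IntVirt ((Nat.card Z : ℂ) • δ) := by
    refine IntVirt.card_smul (fun g k => ?_) fun z => ?_
    · rw [mul_comm' k g, mul_inv_cancel_right]
    · simp only [δ]
      split_ifs
      exacts [isIntegral_one, isIntegral_zero]
  have hF := ((IntVirt.of_isCharacter (CharCore.isCharacter_comp (CharCore.irr_isCharacter χ) ι)).mul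
    (hδ.comp (MonoidHom.fst Z H))).mul (ht.comp (MonoidHom.snd Z H))
  have h1 := hF.coeff ⟨1, CharCore.isIrrCharacter_one⟩
  convert h1 using 1
  rw [CharCore.classInner_def, qval, Nat.card_prod, Fintype.sum_prod_type,
    Finset.sum_eq_single (⟨v, Subgroup.mem_zpowers v⟩ : Z)]
  · have h0 : (Nat.card Z : ℂ) ≠ 0 := Nat.cast_ne_zero.mpr Nat.card_pos.ne'
    simp only [Pi.mul_apply, Function.comp_apply, MonoidHom.coe_fst, MonoidHom.coe_snd,
      Pi.smul_apply, Pi.one_apply, δ, if_pos rfl, smul_eq_mul, mul_one, map_one, ι,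
      MonoidHom.noncommCoprod_apply, Subgroup.coe_subtype, Nat.cast_mul, mul_inv, Finset.mul_sum]
    refine Finset.sum_congr rfl fun h _ => ?_
    simp only [if_true, mul_one]
    field_simp
  · intro z _ hz
    refine Finset.sum_eq_zero fun h _ => ?_
    have : (z : X) ≠ v := fun e => hz (Subtype.ext e)
    simp [δ, this]
  · simp
where
  mul_comm' {v : X} (k g : Subgroup.zpowers v) : k * g = g * k :=
    Subtype.ext (Subgroup.mem_zpowers_iff.mp k.2 |>.elim fun a ha =>
      Subgroup.mem_zpowers_iff.mp g.2 |>.elim fun b hb => by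
        show (k : X) * g = g * k
        rw [← ha, ← hb, ← zpow_add, ← zpow_add, add_comm])

/-- The sum of the squares of the sections. -/
theorem sum_qval_sq (p : ℕ) [Fact p.Prime] (V : Subgroup X) [V.Normal]
    (hVc : ∀ a ∈ V, ∀ b ∈ V, a * b = b * a) (G : Subgroup X) (hGV : Subgroup.IsComplement' V G)
    (hG : ¬ p ∣ Nat.card G) {v : X} (hv : v ∈ V) (hvp : v ^ p = 1) (H : Subgroup X) [Fintype H]
    (hH : ∀ g, g ∈ H ↔ g ∈ G ∧ g * v = v * g) {t : H → ℂ} (ht : Cfsg.IsClassFunction H t) :
    ∑ χ : Cfsg.IrrCharacter X, qval H v t χ * conj (qval H v t χ) =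
      (Nat.card H : ℂ)⁻¹ * ∑ h : H, t h * conj (t h) *
        (Nat.card {u : V // (u : X) * (h : X) = (h : X) * (u : X)} : ℂ) := by
  classical
  have hp : p.Prime := Fact.out
  have := Fintype.ofFinite X
  set C := Subgroup.centralizer ({v} : Set X) with hC
  have := Fintype.ofFinite C
  have := Fintype.ofFinite V
  have hCm : ∀ g : X, g ∈ C ↔ g * v = v * g := fun g => Subgroup.mem_centralizer_singleton_iff
  have hy : ∃ k : ℕ, orderOf v = p ^ k := by
    rcases (Nat.dvd_prime hp).mp (orderOf_dvd_of_pow_eq_one hvp) with h | h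
    · exact ⟨0, by rw [h, pow_zero]⟩
    · exact ⟨1, by rw [h, pow_one]⟩
  let toC : H → C := fun h => ⟨h, (hCm _).mpr ((hH _).mp h.2).2⟩
  have hreg : ∀ h : H, ¬ p ∣ orderOf (toC h) := by
    intro h hdvd
    rw [← Subgroup.orderOf_coe] at hdvd
    have : orderOf (h : X) ∣ Nat.card G := by
      rw [show orderOf (h : X) = orderOf (⟨(h : X), ((hH _).mp h.2).1⟩ : G) from
        (Subgroup.orderOf_coe (⟨(h : X), ((hH _).mp h.2).1⟩ : G))]
      exact orderOf_dvd_natCard _
    exact hG (hdvd.trans this)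
  -- factorisation of the centralizer
  have hmemC : ∀ (u : V) (g : H), (u : X) * g ∈ C := fun u g =>
    C.mul_mem ((hCm _).mpr (hVc _ u.2 _ hv)) (toC g).2
  have hbij : Function.Bijective fun x : V × H => (⟨(x.1 : X) * x.2, hmemC x.1 x.2⟩ : C) := by
    refine ⟨fun x y e => ?_, fun k => ?_⟩
    · have e' := congrArg Subtype.val e
      obtain ⟨e1, e2⟩ := Prod.mk.injEq .. ▸ hGV.1 (a₁ := (x.1, ⟨(x.2 : X), ((hH _).mp x.2.2).1⟩))
        (a₂ := (y.1, ⟨(y.2 : X), ((hH _).mp y.2.2).1⟩)) e'
      exact Prod.ext e1 (Subtype.ext (congrArg Subtype.val e2 :))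
    · obtain ⟨⟨u, g⟩, e⟩ := hGV.2 (k : X)
      have hu : (u : X) * v = v * u := hVc _ u.2 _ hv
      have hg : (g : X) * v = v * g := by
        have hk := (hCm _).mp k.2
        rw [← e] at hk
        have : (u : X) * ((g : X) * v) = u * (v * g) := by
          rw [← mul_assoc, hk, ← mul_assoc, ← hu, mul_assoc]
        exact mul_left_cancel this
      exact ⟨(u, ⟨g, (hH _).mpr ⟨g.2, hg⟩⟩), Subtype.ext e⟩
  have hcount : ∀ h h' : H, ∑ χ : Cfsg.IrrCharacter X,
      (χ : X → ℂ) (v * (h : X)) * conj ((χ : X → ℂ) (v * (h' : X))) =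
      ((Finset.univ.filter fun k : C => k * toC h * k⁻¹ = toC h').card : ℂ) := fun h h' =>
    BC86.card_translate (p := p) hCm hy (hreg h) (hreg h')
  have hinner : ∀ h : H, ∑ h' : H,
      conj (t h') * ((Finset.univ.filter fun k : C => k * toC h * k⁻¹ = toC h').card : ℂ) =
      ∑ g : H, conj (t h) * (Nat.card {u : V // (u : X) * ((g * h * g⁻¹ : H) : X) =
        ((g * h * g⁻¹ : H) : X) * (u : X)} : ℂ) := by
    intro h
    simp only [Finset.card_filter, Nat.cast_sum, Nat.cast_ite, Nat.cast_one, Nat.cast_zero,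
      Finset.mul_sum, mul_ite, mul_one, mul_zero]
    rw [Finset.sum_comm, ← (Equiv.ofBijective _ hbij).sum_comp, Fintype.sum_prod_type,
      Finset.sum_comm]
    refine Finset.sum_congr rfl fun g _ => ?_
    rw [Nat.card_eq_fintype_card, Fintype.card_subtype, Finset.card_filter, Nat.cast_sum,
      Finset.mul_sum]
    refine Finset.sum_congr rfl fun u _ => ?_
    set h₁ : H := g * h * g⁻¹ with hh₁
    have hconj : (Equiv.ofBijective _ hbij (u, g) * toC h * (Equiv.ofBijective _ hbij (u, g))⁻¹ :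
        C).1 = (u : X) * (h₁ : X) * (u : X)⁻¹ := by
      simp [hh₁, toC, mul_assoc]
    by_cases hcm : (u : X) * (h₁ : X) = (h₁ : X) * (u : X)
    · rw [Finset.sum_eq_single h₁]
      · rw [if_pos (Subtype.ext (by rw [hconj, hcm, mul_inv_cancel_right])), if_pos hcm,
          Nat.cast_one, mul_one]
        exact congrArg _ (ht h g)
      · intro h' _ hne
        refine if_neg fun e => hne ?_
        have := congrArg Subtype.val e
        rw [hconj, hcm, mul_inv_cancel_right] at this
        exact (Subtype.ext this).symm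
      · simp
    · rw [if_neg hcm, Nat.cast_zero, mul_zero]
      refine Finset.sum_eq_zero fun h' _ => if_neg fun e => hcm ?_
      have e' : (u : X) * (h₁ : X) * (u : X)⁻¹ = (h' : X) := hconj.symm.trans (congrArg Subtype.val e)
      have hG' : (h' : X) * (h₁ : X)⁻¹ ∈ G :=
        G.mul_mem ((hH _).mp h'.2).1 (G.inv_mem ((hH _).mp h₁.2).1)
      have hV' : (h' : X) * (h₁ : X)⁻¹ ∈ V := by
        rw [← e', mul_assoc ((u : X) * h₁), mul_assoc (u : X), ← mul_assoc (h₁ : X)]
        exact V.mul_mem u.2 (Subgroup.Normal.conj_mem inferInstance _ (V.inv_mem u.2) _)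
      have h1 : (h' : X) * (h₁ : X)⁻¹ = 1 :=
        Subgroup.mem_bot.mp (hGV.disjoint.le_bot ⟨hV', hG'⟩)
      rw [mul_inv_eq_one] at h1
      rw [h1] at e'
      exact mul_inv_eq_iff_eq_mul.mp e'
  have hS : ∑ χ : Cfsg.IrrCharacter X, qval H v t χ * conj (qval H v t χ) =
      (Nat.card H : ℂ)⁻¹ * (Nat.card H : ℂ)⁻¹ * ∑ h : H, t h * ∑ h' : H,
        conj (t h') * ((Finset.univ.filter fun k : C => k * toC h * k⁻¹ = toC h').card : ℂ) := by
    simp only [qval, map_mul, map_inv₀, map_natCast, map_sum, Finset.mul_sum, Finset.sum_mul,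
      ← hcount]
    rw [Finset.sum_comm]
    conv_lhs => enter [2, h']; rw [Finset.sum_comm]
    rw [Finset.sum_comm]
    exact Finset.sum_congr rfl fun h _ => Finset.sum_congr rfl fun h' _ =>
      Finset.sum_congr rfl fun χ _ => by ring
  rw [hS, Finset.sum_congr rfl fun h _ => by rw [hinner h, Finset.mul_sum], Finset.sum_comm]
  have hfix : ∀ g : H, ∑ h : H, t h * (conj (t h) *
      (Nat.card {u : V // (u : X) * ((g * h * g⁻¹ : H) : X) = ((g * h * g⁻¹ : H) : X) * (u : X)} : ℂ))
      = ∑ h : H, t h * conj (t h) * (Nat.card {u : V // (u : X) * (h : X) = (h : X) * (u : X)} : ℂ) := by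
    intro g
    conv_rhs => rw [← Equiv.sum_comp (MulAut.conj g).toEquiv]
    refine Finset.sum_congr rfl fun h _ => ?_
    show _ = t (g * h * g⁻¹) * conj (t (g * h * g⁻¹)) * _
    rw [ht h g]
    simp [mul_assoc, MulAut.conj_apply]
  rw [Finset.sum_congr rfl fun g _ => hfix g, Finset.sum_const, Finset.card_univ, nsmul_eq_mul,
    ← Nat.card_eq_fintype_card, ← mul_assoc, mul_assoc _ _ (Nat.card H : ℂ),
    inv_mul_cancel₀ (Nat.cast_ne_zero.mpr Nat.card_pos.ne'), mul_one]

/-- The counting step. -/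
theorem card_le_of_root (p : ℕ) [Fact p.Prime] {M : Ideal Cfsg.AlgInt} (hM : Cfsg.IsPModular p M)
    (V : Subgroup X) [V.Normal] (hVc : ∀ a ∈ V, ∀ b ∈ V, a * b = b * a) (hidx : ¬ p ∣ V.index)
    (G : Subgroup X) (hGV : Subgroup.IsComplement' V G) {v : X} (hv : v ∈ V) (hvp : v ^ p = 1)
    (H : Subgroup X) [Fintype H] (hH : ∀ g, g ∈ H ↔ g ∈ G ∧ g * v = v * g) (f : H → ℂ)
    (hfv : IntVirt f) (hfc : ∀ (σ : ℂ →+* ℂ) h, σ (conj (f h)) = conj (σ (f h))) (hf1 : f 1 = 1)
    (a b : H → ℕ) (hb : ∀ h, 0 < b h) (hfn : ∀ h, f h * conj (f h) * (b h : ℂ) = (a h : ℂ))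
    (hbound : ∀ h : H, Nat.card {u : V // (u : X) * (h : X) = (h : X) * (u : X)} * a h ≤
      Nat.card V * b h)
    (hsmall : ∀ h : H, h ≠ 1 → MemLocalIdeal M (f h)) :
    Nat.card (ConjClasses X) ≤ Nat.card V := by
  classical
  have hp : p.Prime := Fact.out
  have := isPrime hM
  have := Fintype.ofFinite V
  have hG : ¬ p ∣ Nat.card G := by rwa [← hGV.symm.index_eq_card]
  have hcomm : ∀ h ∈ H, v * h = h * v := fun h hh => ((hH h).mp hh).2.symm
  have hne : ∀ χ : Cfsg.IrrCharacter X, qval H v f χ ≠ 0 := by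
    intro χ h0
    have := Fintype.ofFinite X
    have hS : ∑ h : H, (χ : X → ℂ) (v * (h : X)) * f h = 0 :=
      (mul_eq_zero.mp h0).resolve_left (inv_ne_zero (Nat.cast_ne_zero.mpr Nat.card_pos.ne'))
    rw [← Finset.add_sum_erase Finset.univ _ (Finset.mem_univ 1), hf1, mul_one,
      OneMemClass.coe_one, mul_one] at hS
    have h1 : MemLocalIdeal M (∑ h ∈ Finset.univ.erase (1 : H), (χ : X → ℂ) (v * (h : X)) * f h) :=
      memLocalIdeal_sum fun h hh => memLocalIdeal_mul_left (memLocalRing_of_isIntegral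
        (CharCore.IsCharacter.isIntegral (CharCore.irr_isCharacter χ) _))
        (hsmall h (Finset.ne_of_mem_erase hh))
    obtain ⟨k, hk⟩ : ∃ k : ℕ, orderOf v = p ^ k := by
      rcases (Nat.dvd_prime hp).mp (orderOf_dvd_of_pow_eq_one hvp) with h | h
      · exact ⟨0, by rw [h, pow_zero]⟩
      · exact ⟨1, by rw [h, pow_one]⟩
    have h2 := Blocks88.char_sub_degree_mem hM (CharCore.irr_isCharacter χ) hk
    obtain ⟨d, hd, hdvd⟩ := Blocks88.charDegree_dvd_index χ V hVc
    have h3 : MemLocalIdeal M (-(d : ℂ)) := by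
      have := memLocalIdeal_add h2 h1
      rw [hd] at this
      convert this using 1
      linear_combination -hS
    have h4 := memLocalIdeal_neg h3
    rw [neg_neg, memLocalIdeal_natCast_iff hM] at h4
    exact hidx (h4.trans hdvd)
  -- Galois conjugates of `f`
  have hfin : (Set.range fun σ : ℂ →+* ℂ => fun h => σ (f h)).Finite := by
    refine (Set.Finite.pi' fun h : H => ((minpoly ℤ (f h)).rootSet_finite ℂ)).subset ?_
    rintro _ ⟨σ, rfl⟩ h
    show σ (f h) ∈ (minpoly ℤ (f h)).rootSet ℂ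
    rw [Polynomial.mem_rootSet_of_ne (minpoly.ne_zero (hfv.isIntegral h)),
      show σ (f h) = σ.toIntAlgHom (f h) from rfl, Polynomial.aeval_algHom_apply, minpoly.aeval,
      map_zero]
  set T := hfin.toFinset with hT
  have hT1 : 1 ≤ T.card :=
    Finset.card_pos.mpr ⟨_, hfin.mem_toFinset.mpr ⟨RingHom.id ℂ, rfl⟩⟩
  have hbnd : ∀ t ∈ T,
      ∑ χ : Cfsg.IrrCharacter X, ‖qval H v t χ * conj (qval H v t χ)‖ ≤ (Nat.card V : ℝ) := by
    intro t ht
    obtain ⟨σ, rfl⟩ := hfin.mem_toFinset.mp ht
    have htc : Cfsg.IsClassFunction H fun h => σ (f h) := fun g k => congrArg σ (hfv.cls g k)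
    have hsum := sum_qval_sq p V hVc G hGV hG hv hvp H hH htc
    have hn : ∀ h : H, σ (f h) * conj (σ (f h)) = (a h : ℂ) / (b h : ℂ) := fun h => by
      rw [eq_div_iff (Nat.cast_ne_zero.mpr (hb h).ne'), ← hfc, ← map_natCast σ (b h),
        ← map_mul, ← map_mul, hfn, map_natCast]
    simp only [hn] at hsum
    set r : ℝ := (Nat.card H : ℝ)⁻¹ * ∑ h : H, (a h : ℝ) / (b h : ℝ) *
      (Nat.card {u : V // (u : X) * (h : X) = (h : X) * (u : X)} : ℝ) with hr
    have h1 : ∑ χ : Cfsg.IrrCharacter X,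
        ‖qval H v (fun h => σ (f h)) χ * conj (qval H v (fun h => σ (f h)) χ)‖ = r := by
      rw [← Complex.ofReal_inj, Complex.ofReal_sum]
      refine (Finset.sum_congr rfl fun χ _ => ?_).trans (hsum.trans (by rw [hr]; push_cast; rfl))
      rw [Complex.mul_conj, Complex.norm_real, Real.norm_of_nonneg (Complex.normSq_nonneg _)]
    rw [h1, hr, inv_mul_le_iff₀ (by exact_mod_cast Nat.card_pos)]
    refine (Finset.sum_le_card_nsmul _ _ (Nat.card V : ℝ) fun h _ => ?_).trans (le_of_eq ?_)
    · rw [div_mul_eq_mul_div, div_le_iff₀ (by exact_mod_cast hb h), mul_comm]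
      exact_mod_cast hbound h
    · rw [Finset.card_univ, nsmul_eq_mul, Nat.card_eq_fintype_card, Nat.card_eq_fintype_card]
  have hint : ∀ χ, IsIntegral ℤ (qval H v f χ) := isIntegral_qval H v hcomm hfv
  have hsurj : ∀ σ : ℂ →+* ℂ, Function.Surjective (Blocks88.galoisIrr (G := X) σ) := fun σ =>
    Finite.surjective_of_injective (Blocks88.galoisIrr_injective σ)
  have key := Blocks88.card_le_sum_norm (T ×ˢ (Finset.univ : Finset (Cfsg.IrrCharacter X)))
    (fun x => qval H v x.1 x.2 * conj (qval H v x.1 x.2)) ?_ ?_ ?_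
  · rw [Finset.card_product, Finset.sum_product] at key
    have h2 := key.trans (Finset.sum_le_sum hbnd)
    rw [Finset.sum_const, nsmul_eq_mul, ← Nat.cast_mul, Nat.cast_le] at h2
    have h3 := Nat.le_of_mul_le_mul_left h2 hT1
    rwa [Finset.card_univ, ← Nat.card_eq_fintype_card, CharCore.card_irr] at h3
  · rintro ⟨t, χ⟩ hx
    obtain ⟨σ, rfl⟩ := hfin.mem_toFinset.mp (Finset.mem_product.mp hx).1
    obtain ⟨χ, rfl⟩ := hsurj σ χ
    rw [← map_qval]
    exact ((hint χ).map σ.toIntAlgHom).mul (isIntegral_conj ((hint χ).map σ.toIntAlgHom))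
  · rintro ⟨t, χ⟩ hx
    obtain ⟨σ, rfl⟩ := hfin.mem_toFinset.mp (Finset.mem_product.mp hx).1
    obtain ⟨χ, rfl⟩ := hsurj σ χ
    rw [← map_qval]
    exact mul_ne_zero (fun h => hne χ ((map_eq_zero σ).mp h))
      (fun h => hne χ ((map_eq_zero σ).mp ((map_eq_zero _).mp h)))
  · intro σ
    refine ⟨fun x => (fun h => σ (x.1 h), Blocks88.galoisIrr σ x.2), fun x hx => ?_,
      fun x _ y _ e => ?_, fun x hx => ?_⟩
    · obtain ⟨τ, hτ⟩ := hfin.mem_toFinset.mp (Finset.mem_product.mp hx).1
      exact Finset.mem_product.mpr ⟨hfin.mem_toFinset.mpr ⟨σ.comp τ, funext fun h => by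
        show σ (τ (f h)) = σ (x.1 h); rw [← hτ]⟩, Finset.mem_univ _⟩
    · simp only [Prod.mk.injEq] at e
      exact Prod.ext (funext fun h => σ.injective (congrFun e.1 h))
        (Blocks88.galoisIrr_injective σ e.2)
    · obtain ⟨τ, hτ⟩ := hfin.mem_toFinset.mp (Finset.mem_product.mp hx).1
      have hc : ∀ h, σ (conj (x.1 h)) = conj (σ (x.1 h)) := fun h => by
        rw [← hτ, ← hfc τ h]
        exact hfc (σ.comp τ) h
      show σ (_ * conj _) = _
      rw [map_mul, map_conj_qval H v x.1 x.2 σ hc, map_qval]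

/-- The action by conjugation on an abelian subgroup, written additively. -/
@[implicit_reducible]
def conjAct (H U : Subgroup X) (hinv : ∀ h ∈ H, ∀ u ∈ U, h * u * h⁻¹ ∈ U) :
    DistribMulAction H (Additive U) where
  smul h u := Additive.ofMul ⟨(h : X) * (Additive.toMul u : U) * (h : X)⁻¹,
    hinv h h.2 _ (Additive.toMul u).2⟩
  one_smul u := Additive.toMul.injective (Subtype.ext (by
    show ((1 : H) : X) * (Additive.toMul u : U) * ((1 : H) : X)⁻¹ = _; simp))
  mul_smul h k u := Additive.toMul.injective (Subtype.ext (by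
    show ((h * k : H) : X) * (Additive.toMul u : U) * ((h * k : H) : X)⁻¹ =
      (h : X) * ((k : X) * (Additive.toMul u : U) * (k : X)⁻¹) * (h : X)⁻¹
    simp [mul_assoc]))
  smul_zero h := Additive.toMul.injective (Subtype.ext (by
    show (h : X) * ((1 : U) : X) * (h : X)⁻¹ = _; simp))
  smul_add h u w := Additive.toMul.injective (Subtype.ext (by
    show (h : X) * ((Additive.toMul u : U) * (Additive.toMul w : U) : X) * (h : X)⁻¹ =
      ((h : X) * (Additive.toMul u : U) * (h : X)⁻¹) * ((h : X) * (Additive.toMul w : U) * (h : X)⁻¹)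
    group))

/-- Let X be a finite group and V a normal subgroup of X in which every element has order dividing the prime p, whose index in X is prime to p and which is its own centralizer in X; so V is an elementary abelian normal Sylow p-subgroup, and any complement G to V in X is a group of order prime to p acting faithfully on the vector space V by conjugation (the coprime linear setting of the k(GV) problem). Let G be a complement to V in X, let v be in V and let H be the centralizer of v in G. Suppose there is a subgroup U of V normalized by H, on which H acts faithfully, and carrying an H-invariant bi-additive pairing β with values in the integers modulo p that is nondegenerate on U (equivalently: the restriction of the module V to H has a faithful self-dual submodule; such a v is called a real vector for G). Then the number of conjugacy classes of X is at most the order of V (the real-vector criterion for the k(GV) problem). The pairing is given as a function on X whose relevant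 values are those on pairs from U. -/
theorem result {X : Type*} [Group X] [Finite X] (p : ℕ) [Fact p.Prime] (V : Subgroup X) [V.Normal] (hVexp : ∀ v ∈ V, v ^ p = 1) (hidx : ¬ p ∣ V.index) (hself : Subgroup.centralizer (V : Set X) = V) (G : Subgroup X) (hGV : Subgroup.IsComplement' V G) (v : X) (hv : v ∈ V) (U : Subgroup X) (hUV : U ≤ V) (hUinv : ∀ h ∈ G, h * v * h⁻¹ = v → ∀ u ∈ U, h * u * h⁻¹ ∈ U) (hUfaith : ∀ h ∈ G, h * v * h⁻¹ = v → (∀ u ∈ U, h * u * h⁻¹ = u) → h = 1) (β : X → X → ZMod p) (hβl : ∀ u ∈ U, ∀ u' ∈ U, ∀ w ∈ U, β (u * u') w = β u w + β u' w) (hβr : ∀ u ∈ U, ∀ w ∈ U, ∀ w' ∈ U, β u (w * w') = β u w + β u w') (hβinv : ∀ h ∈ G, h * v * h⁻¹ = v → ∀ u ∈ U, ∀ w ∈ U, β (h * u * h⁻¹) (h * w * h⁻¹) = β u w) (hβnd : ∀ u ∈ U, (∀ w ∈ U, β u w = 0) → u = 1) : Nat.card (ConjClasses X) ≤ Nat.card V := by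
  classical
  have hp : p.Prime := Fact.out
  obtain ⟨M, hM⟩ := Blocks88.exists_isPModular hp
  have hVc : ∀ a ∈ V, ∀ b ∈ V, a * b = b * a := fun a ha b hb => by
    have hb' : b ∈ Subgroup.centralizer (V : Set X) := by rw [hself]; exact hb
    exact Subgroup.mem_centralizer_iff.mp hb' a ha
  set H := G ⊓ Subgroup.centralizer ({v} : Set X) with hHdef
  have := Fintype.ofFinite H
  have hH : ∀ g, g ∈ H ↔ g ∈ G ∧ g * v = v * g := fun g => by
    rw [hHdef, Subgroup.mem_inf, Subgroup.mem_centralizer_singleton_iff]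
  have hfix : ∀ h ∈ H, h * v * h⁻¹ = v := fun h hh => by
    rw [((hH h).mp hh).2, mul_inv_cancel_right]
  letI : CommGroup U :=
    { (inferInstance : Group U) with
      mul_comm := fun a b => Subtype.ext (hVc a (hUV a.2) b (hUV b.2)) }
  letI := conjAct H U fun h hh u hu => hUinv h ((hH h).mp hh).1 (hfix h hh) u hu
  have hUp : ∀ u : Additive U, p • u = 0 := fun u =>
    Additive.toMul.injective (Subtype.ext (by simpa using hVexp _ (hUV (Additive.toMul u).2)))
  have hcop : (Nat.card H).Coprime p := by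
    refine (Nat.Prime.coprime_iff_not_dvd hp |>.mpr fun h => hidx ?_).symm
    rw [hGV.symm.index_eq_card]
    exact h.trans (Subgroup.card_dvd_of_le inf_le_left)
  let β' : Additive U → Additive U → ZMod p := fun x y =>
    β (Additive.toMul x : U) (Additive.toMul y : U)
  obtain ⟨W, f, hf, hfaith⟩ := exists_goodSub_faithful (H := H) (M := M) hUp hcop β'
    (fun x y z => hβl _ (Additive.toMul x).2 _ (Additive.toMul y).2 _ (Additive.toMul z).2)
    (fun x y z => hβr _ (Additive.toMul x).2 _ (Additive.toMul y).2 _ (Additive.toMul z).2)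
    (fun h x y => hβinv h ((hH h).mp h.2).1 (hfix h h.2) _ (Additive.toMul x).2 _
      (Additive.toMul y).2)
    hM
    (fun x hx => Additive.toMul.injective (Subtype.ext ((hβnd _ (Additive.toMul x).2
      fun w hw => hx (Additive.ofMul ⟨w, hw⟩)).trans rfl)))
  -- the subgroup of `X` given by `W`
  let φ : Multiplicative W →* X := MonoidHom.mk'
    (fun w => ((Additive.toMul ((Multiplicative.toAdd w : W) : Additive U) : U) : X))
    fun a b => rfl
  have hφ : Function.Injective φ := fun a b e =>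
    Multiplicative.toAdd.injective (Subtype.ext (Additive.toMul.injective (Subtype.ext e)))
  set W' : Subgroup X := φ.range with hW'
  have hW'V : W' ≤ V := by
    rintro _ ⟨w, rfl⟩
    exact hUV (Additive.toMul ((Multiplicative.toAdd w : W) : Additive U)).2
  refine card_le_of_root p hM V hVc hidx G hGV hv (hVexp v hv) H hH f hf.virt hf.cm hf.one
    (fun _ => Nat.card W) (fun h => Nat.card ↥(W ⊓ fixSub (Additive U) h))
    (fun h => Nat.card_pos) hf.norm (fun h => ?_) fun h hh => ?_
  · set A : Subgroup X := V ⊓ Subgroup.centralizer ({(h : X)} : Set X) with hA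
    have hcA : Nat.card {u : V // (u : X) * (h : X) = (h : X) * (u : X)} = Nat.card A :=
      Nat.card_congr
        { toFun := fun u => ⟨(u.1 : X), u.1.2, Subgroup.mem_centralizer_singleton_iff.mpr u.2⟩
          invFun := fun a => ⟨⟨(a : X), a.2.1⟩, Subgroup.mem_centralizer_singleton_iff.mp a.2.2⟩
          left_inv := fun _ => rfl
          right_inv := fun _ => rfl }
    have hcW : Nat.card W = Nat.card W' :=
      Nat.card_congr (Multiplicative.ofAdd.trans (MonoidHom.ofInjective hφ).toEquiv)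
    have hcAW : Nat.card ↥(A ⊓ W') = Nat.card ↥(W ⊓ fixSub (Additive U) h) := by
      refine (Nat.card_congr (Equiv.ofBijective
        (fun w : ↥(W ⊓ fixSub (Additive U) h) => (⟨φ (Multiplicative.ofAdd ⟨w, w.2.1⟩),
          ⟨⟨hW'V ⟨_, rfl⟩, Subgroup.mem_centralizer_singleton_iff.mpr ?_⟩, _, rfl⟩⟩ :
            ↥(A ⊓ W'))) ⟨fun w w' e => ?_, fun a => ?_⟩)).symm
      · have e := congrArg (fun x : Additive U => ((Additive.toMul x : U) : X)) (mem_fixSub.mp w.2.2)
        exact (mul_inv_eq_iff_eq_mul.mp e).symm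
      · have e' : φ (Multiplicative.ofAdd ⟨(w : Additive U), w.2.1⟩) =
            φ (Multiplicative.ofAdd ⟨(w' : Additive U), w'.2.1⟩) :=
          congrArg (fun x : ↥(A ⊓ W') => (x : X)) e
        exact Subtype.ext (congrArg (fun x : Multiplicative W => ((Multiplicative.toAdd x : W) : Additive U))
          (hφ e'))
      · obtain ⟨w, hw⟩ := a.2.2
        have hmem : ((Multiplicative.toAdd w : W) : Additive U) ∈ fixSub (Additive U) h := by
          rw [mem_fixSub]
          refine Additive.toMul.injective (Subtype.ext ?_)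
          show (h : X) * φ w * (h : X)⁻¹ = φ w
          rw [hw, mul_inv_eq_iff_eq_mul]
          exact (Subgroup.mem_centralizer_singleton_iff.mp a.2.1.2).symm
        exact ⟨⟨_, (Multiplicative.toAdd w).2, hmem⟩, Subtype.ext hw⟩
    show _ * Nat.card W ≤ _ * Nat.card ↥(W ⊓ fixSub (Additive U) h)
    rw [hcA, hcW, ← hcAW]
    have h1 : A.relIndex W' ≤ A.relIndex V := by
      refine Subgroup.relIndex_le_of_le_right hW'V ?_
      rw [Subgroup.relIndex]
      exact Subgroup.index_ne_zero_of_finite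
    have h2 : Nat.card ↥(A ⊓ W') * A.relIndex W' = Nat.card W' := by
      rw [← Subgroup.inf_relIndex_right, ← Subgroup.relIndex_bot_left,
        ← Subgroup.relIndex_bot_left, Subgroup.relIndex_mul_relIndex _ _ _ bot_le inf_le_right]
    have h3 : Nat.card A * A.relIndex V = Nat.card V := by
      rw [← Subgroup.relIndex_bot_left, ← Subgroup.relIndex_bot_left,
        Subgroup.relIndex_mul_relIndex _ _ _ bot_le inf_le_left]
    rw [← h2, ← h3]
    calc Nat.card A * (Nat.card ↥(A ⊓ W') * A.relIndex W')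
        ≤ Nat.card A * (Nat.card ↥(A ⊓ W') * A.relIndex V) :=
          Nat.mul_le_mul_left _ (Nat.mul_le_mul_left _ h1)
      _ = _ := by ring
  · refine hf.small h (hfaith h ?_)
    by_contra hc
    push Not at hc
    refine hh (Subtype.ext (hUfaith h ((hH h).mp h.2).1 (hfix h h.2) fun u hu => ?_))
    exact congrArg (fun x : Additive U => ((Additive.toMul x : U) : X)) (hc (Additive.ofMul ⟨u, hu⟩))

end Cfsg.Agent.S4959
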