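import Cfsg.Statements.S4964
import Cfsg.Agent.Lib.BlocksDefect.Quotient
import Cfsg.Agent.Lib.Coprime.Action
import Cfsg.Agent.Lib.PGroup.Basic

set_option autoImplicit false
open Cfsg

namespace Cfsg.Agent.S4964

open BlocksCore BlocksDefect

variable {G : Type*} [Group G] [Finite G] {p : ℕ} [Fact p.Prime]

/-- A `p`-regular element centralising `D` modulo `D'` centralises `D`. -/
theorem mem_centralizer_of_mk (D : Subgroup G) [D.Normal] (hD : IsPGroup p D) {x : G}
    (hx : ¬ p ∣ orderOf x)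
    (h : (QuotientGroup.mk x : G ⧸ ⁅D, D⁆) ∈
      Subgroup.centralizer ((D.map (QuotientGroup.mk' ⁅D, D⁆) : Subgroup (G ⧸ ⁅D, D⁆)) : Set (G ⧸ ⁅D, D⁆))) :
    x ∈ Subgroup.centralizer (D : Set G) := by
  have hp : p.Prime := Fact.out
  refine Coprime.le_centralizer_of_frattini (Subgroup.zpowers x) D ?_ ?_ ?_ (Subgroup.mem_zpowers x)
  · rw [Subgroup.normalizer_eq_top]; exact le_top
  · obtain ⟨k, hk⟩ := (hD.to_subgroup (frattini D)).exists_card_eq
    rw [Nat.card_zpowers, hk]
    exact Nat.Coprime.pow_right k (hp.coprime_iff_not_dvd.mpr hx).symm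
  · intro a ha k hk
    have hle : ⁅D, D⁆ ≤ (frattini D).map D.subtype := by
      rw [← Subgroup.map_subtype_commutator]
      exact Subgroup.map_mono (PGroup.commutator_le_frattini hD)
    apply hle
    rw [← QuotientGroup.eq_one_iff (N := ⁅D, D⁆)]
    have hc := Subgroup.mem_centralizer_iff.mp
      ((Subgroup.zpowers_le.mpr h) (show (QuotientGroup.mk a : G ⧸ ⁅D, D⁆) ∈
        Subgroup.zpowers (QuotientGroup.mk x : G ⧸ ⁅D, D⁆) by
          obtain ⟨i, rfl⟩ := Subgroup.mem_zpowers_iff.mp ha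
          exact Subgroup.mem_zpowers_iff.mpr ⟨i, (QuotientGroup.mk_zpow _ x i).symm⟩))
      (QuotientGroup.mk k) ⟨k, hk, rfl⟩
    simp only [QuotientGroup.mk_mul, QuotientGroup.mk_inv]
    rw [← hc, mul_inv_cancel_right, mul_inv_cancel]

/-- Inflation from `G ⧸ D'` reflects blocks. -/
theorem sameBlock_of_inflate_derived {M : Ideal AlgInt} (hM : IsPModular p M) (D : Subgroup G)
    [D.Normal] (hD : IsPGroup p D) {χ ψ : IrrCharacter (G ⧸ ⁅D, D⁆)}
    (h : SameBlock M (BlocksDefect.inflate ⁅D, D⁆ χ : G → ℂ) (BlocksDefect.inflate ⁅D, D⁆ ψ : G → ℂ)) :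
    SameBlock M (χ : G ⧸ ⁅D, D⁆ → ℂ) (ψ : G ⧸ ⁅D, D⁆ → ℂ) := by
  classical
  have := BlocksCore.isPrime hM
  set N := ⁅D, D⁆ with hNdef
  have hND : N ≤ D := Subgroup.commutator_le_self D
  have hN : IsPGroup p N := hD.to_le hND
  have := Fintype.ofFinite G
  have := Fintype.ofFinite (G ⧸ N)
  set DQ : Subgroup (G ⧸ N) := D.map (QuotientGroup.mk' N) with hDQdef
  have : DQ.Normal := Subgroup.Normal.map inferInstance _ (QuotientGroup.mk'_surjective N)
  have hDQ : IsPGroup p DQ := hD.map _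
  set CQ := Subgroup.centralizer (DQ : Set (G ⧸ N)) with hCQdef
  have hCQn : CQ.Normal := inferInstance
  have hconj : ∀ y z : G ⧸ N, z * y * z⁻¹ ∈ CQ ↔ y ∈ CQ := fun y z =>
    ⟨fun hy => by simpa [mul_assoc] using hCQn.conj_mem _ hy z⁻¹, fun hy => hCQn.conj_mem y hy z⟩
  set c := blockCoeff (blockOf M (χ : G ⧸ N → ℂ)) with hc
  have hci : IsIntClassFun M c := isIntClassFun_blockCoeff hM (isPBlock_blockOf χ)
  set c' : G ⧸ N → ℂ := fun q => if q ∈ CQ then c q else 0 with hc'def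
  have hc' : IsIntClassFun M c' := by
    refine ⟨fun g x => ?_, fun g => ?_⟩
    · simp only [hc'def, hconj, hci.1 _ _]
    · simp only [hc'def]; split_ifs
      · exact hci.2 g
      · exact memLocalRing_of_mem (zero_mem _)
  have hout : ∀ φ : IrrCharacter (G ⧸ N), MemLocalIdeal M
      (omega (φ : G ⧸ N → ℂ) c - omega (φ : G ⧸ N → ℂ) c') := by
    intro φ
    have hd : IsIntClassFun M (c + -c') :=
      ⟨fun g x => by simp only [Pi.add_apply, Pi.neg_apply, hci.1 g x, hc'.1 g x],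
        fun g => (localRing M).add_mem (hci.2 g) ((localRing M).neg_mem (hc'.2 g))⟩
    have e : omega (φ : G ⧸ N → ℂ) (c + -c') =
        omega (φ : G ⧸ N → ℂ) c - omega (φ : G ⧸ N → ℂ) c' := by
      rw [omega_add, omega_neg, sub_eq_add_neg]
    rw [← e]
    by_contra hne
    obtain ⟨q, hq, hqc⟩ := exists_unit_class hM φ hd hne
    apply hqc
    refine centralChar_memLocalIdeal_of_notMem DQ hM hDQ (fun z hz hmem => hq ?_) φ
    obtain ⟨w, hw⟩ := isConj_iff.mp hz
    have hqm : q ∈ CQ := (hconj q w).mp (hw ▸ hmem)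
    simp only [hc'def, Pi.add_apply, Pi.neg_apply, if_pos hqm, add_neg_cancel]
    exact memLocalIdeal_zero
  set a : G → ℂ := fun x => if ¬ p ∣ orderOf x ∧ (x : G ⧸ N) ∈ CQ then c x else 0 with hadef
  have hai : IsIntClassFun M a := by
    refine ⟨fun g x => ?_, fun g => ?_⟩
    · simp only [hadef, orderOf_conjugate, QuotientGroup.mk_mul, QuotientGroup.mk_inv, hconj,
        hci.1 _ _]
    · simp only [hadef]; split_ifs
      · exact hci.2 _
      · exact memLocalRing_of_mem (zero_mem _)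
  have hcen : ∀ x : G, ¬ p ∣ orderOf x → (x : G ⧸ N) ∈ CQ →
      x ∈ Subgroup.centralizer (N : Set G) := fun x hx hm =>
    Subgroup.centralizer_le (SetLike.coe_subset_coe.mpr hND) (mem_centralizer_of_mk D hD hx hm)
  have hpush : BlocksDefect.pushFun N a = c' := by
    funext q
    induction q using QuotientGroup.induction_on with
    | H g =>
      rw [BlocksDefect.pushFun_eq_sum]
      by_cases hg : p ∣ orderOf (QuotientGroup.mk g : G ⧸ N) ∨ (g : G ⧸ N) ∉ CQ
      · rw [Finset.sum_eq_zero]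
        · simp only [hc'def]
          split_ifs with h1
          · rw [hc, blockCoeff_eq_zero_of_dvd_orderOf hM (isPBlock_blockOf χ)
              (hg.resolve_right (not_not.mpr h1))]
          · rfl
        · intro x hx
          have hxg := (Finset.mem_filter.mp hx).2
          simp only [hadef]
          refine if_neg fun h2 => ?_
          rcases hg with hg | hg
          · exact h2.1 ((hg.trans (hxg ▸ dvd_refl _)).trans (orderOf_map_dvd (QuotientGroup.mk' N) x))
          · exact hg (hxg ▸ h2.2)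
      · push Not at hg
        obtain ⟨x₀, hx₀, hx₀g⟩ := exists_regular_in_coset hg.1
        rw [Finset.sum_eq_single x₀]
        · simp only [hadef, hc'def]
          rw [if_pos ⟨hx₀, hx₀g ▸ hg.2⟩, if_pos hg.2, hx₀g]
        · intro x hx hne
          simp only [hadef]
          refine if_neg fun h2 => hne ?_
          exact eq_of_regular_of_coset hN h2.1 hx₀ (hcen x h2.1 h2.2)
            ((Finset.mem_filter.mp hx).2.trans hx₀g.symm)
        · intro hn
          exact absurd hx₀g (by simpa using hn)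
  have hd := omega_sub_memLocalIdeal h hai
  rw [show ((BlocksDefect.inflate N χ : IrrCharacter G) : G → ℂ) =
      (χ : G ⧸ N → ℂ) ∘ QuotientGroup.mk from rfl,
    show ((BlocksDefect.inflate N ψ : IrrCharacter G) : G → ℂ) =
      (ψ : G ⧸ N → ℂ) ∘ QuotientGroup.mk from rfl,
    omega_comp_mk, omega_comp_mk, hpush] at hd
  have h2 := memLocalIdeal_add (memLocalIdeal_add (hout χ) hd) (memLocalIdeal_neg (hout ψ))
  have e : omega (χ : G ⧸ N → ℂ) c - omega (χ : G ⧸ N → ℂ) c' +
      (omega (χ : G ⧸ N → ℂ) c' - omega (ψ : G ⧸ N → ℂ) c') +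
      -(omega (ψ : G ⧸ N → ℂ) c - omega (ψ : G ⧸ N → ℂ) c') =
      omega (χ : G ⧸ N → ℂ) c - omega (ψ : G ⧸ N → ℂ) c := by ring
  rw [e, hc, omega_blockCoeff, omega_blockCoeff, Set.indicator_of_mem (mem_blockOf_self χ),
    Pi.one_apply] at h2
  by_contra hn
  rw [Set.indicator_of_notMem (by exact hn), sub_zero] at h2
  exact not_memLocalIdeal_one (M := M) h2

/-- Let D be a normal p-subgroup of the finite group G, let D′ be its commutator subgroup (normal in G), and fix a maximal ideal M of the algebraic integers containing p. Then (i) two irreducible characters of G ⧸ D′ lie in the same p-block if and only if their inflations to G do, and (ii) every p-block of G contains the inflation of some irreducible character of G ⧸ D′; so inflation induces a bijection between the p-blocks of G ⧸ D′ and the p-blocks of G. -/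
theorem result {G : Type*} [Group G] [Finite G] (p : ℕ) [Fact p.Prime] (M : Ideal Cfsg.AlgInt) (hM : Cfsg.IsPModular p M) (D : Subgroup G) [D.Normal] (hD : IsPGroup p D) : (∀ χ ψ : Cfsg.IrrCharacter (G ⧸ ⁅D, D⁆), Cfsg.SameBlock M (χ : G ⧸ ⁅D, D⁆ → ℂ) (ψ : G ⧸ ⁅D, D⁆ → ℂ) ↔ Cfsg.SameBlock M ((χ : G ⧸ ⁅D, D⁆ → ℂ) ∘ QuotientGroup.mk) ((ψ : G ⧸ ⁅D, D⁆ → ℂ) ∘ QuotientGroup.mk)) ∧ ∀ B : Set (Cfsg.IrrCharacter G), Cfsg.IsPBlock M B → ∃ χ : Cfsg.IrrCharacter (G ⧸ ⁅D, D⁆), ∃ θ ∈ B, (θ : G → ℂ) = (χ : G ⧸ ⁅D, D⁆ → ℂ) ∘ QuotientGroup.mk := by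
  refine ⟨fun χ ψ => ⟨fun h => BlocksDefect.sameBlock_inflate _ hM h,
    fun h => sameBlock_of_inflate_derived hM D hD h⟩, fun B hB => ?_⟩
  obtain ⟨θ, hθ, hker⟩ := exists_mem_kernel_pSubgroup hM hB ⁅D, D⁆
    (hD.to_le (Subgroup.commutator_le_self D))
  obtain ⟨χ, hχ⟩ := exists_inflate_eq ⁅D, D⁆ θ hker
  exact ⟨χ, θ, hθ, by rw [← hχ]; rfl⟩

end Cfsg.Agent.S4964
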