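import Cfsg.Statements.S4965
import Mathlib.Tactic.Group
import Mathlib.GroupTheory.CommutingProbability
-- import your own Cfsg.Agent.* helpers here

set_option autoImplicit false
open Cfsg

namespace Cfsg.Agent.S4965

/-- Let X be a finite group with an abelian normal subgroup V (any two elements of V commute), and let φ be the action of X ⧸ V on V induced by conjugation (well defined because V is abelian; the hypothesis hφ says that the class of x acts as conjugation by x). Then X has at most as many conjugacy classes as the semidirect product of V by X ⧸ V formed with this action: the split extension has the largest class number among extensions with the given action. -/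
theorem result {X : Type*} [Group X] [Finite X] (V : Subgroup X) [V.Normal] (hab : ∀ a ∈ V, ∀ b ∈ V, a * b = b * a) (φ : X ⧸ V →* MulAut ↥V) (hφ : ∀ (x : X) (v : ↥V), ((φ (QuotientGroup.mk x) v : ↥V) : X) = x * v * x⁻¹) : Nat.card (ConjClasses X) ≤ Nat.card (ConjClasses (SemidirectProduct ↥V (X ⧸ V) φ)) := by
  classical
  set Y := SemidirectProduct ↥V (X ⧸ V) φ
  let e : Y ≃ ↥V × (X ⧸ V) :=
    ⟨fun y => (y.left, y.right), fun q => ⟨q.1, q.2⟩, fun _ => rfl, fun _ => rfl⟩
  have : Finite Y := Finite.of_equiv _ e.symm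
  have hcard : Nat.card Y = Nat.card X := by
    rw [Nat.card_congr e, Nat.card_prod, mul_comm]
    exact (Subgroup.card_eq_card_quotient_mul_card_subgroup V).symm
  let Fib : (X ⧸ V) × (X ⧸ V) → Prop := fun q =>
    ∃ z : X × X, Commute z.1 z.2 ∧ QuotientGroup.mk z.1 = q.1 ∧ QuotientGroup.mk z.2 = q.2
  have main : Nat.card {z : X × X // Commute z.1 z.2} ≤ Nat.card {z : Y × Y // Commute z.1 z.2} := by
    have hq : ∀ z : {z : X × X // Commute z.1 z.2}, Fib (QuotientGroup.mk z.1.1, QuotientGroup.mk z.1.2) :=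
      fun z => ⟨z.1, z.2, rfl, rfl⟩
    let base : {q // Fib q} → X × X := fun q => q.2.choose
    have hbase : ∀ q : {q // Fib q}, Commute (base q).1 (base q).2 ∧
        QuotientGroup.mk (base q).1 = q.1.1 ∧ QuotientGroup.mk (base q).2 = q.1.2 :=
      fun q => q.2.choose_spec
    have hmem : ∀ x x0 : X, (QuotientGroup.mk x0 : X ⧸ V) = QuotientGroup.mk x → x * x0⁻¹ ∈ V :=
      fun x x0 h => Subgroup.Normal.mem_comm inferInstance (QuotientGroup.eq.mp h)
    let F : {z : X × X // Commute z.1 z.2} → Y × Y := fun z =>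
      let b := base ⟨_, hq z⟩
      (⟨⟨z.1.1 * b.1⁻¹, hmem _ _ (hbase ⟨_, hq z⟩).2.1⟩, QuotientGroup.mk z.1.1⟩,
       ⟨⟨z.1.2 * b.2⁻¹, hmem _ _ (hbase ⟨_, hq z⟩).2.2⟩, QuotientGroup.mk z.1.2⟩)
    have hF : ∀ z, Commute (F z).1 (F z).2 := by
      rintro ⟨⟨x, y⟩, hxy⟩
      obtain ⟨hc, h1, h2⟩ := hbase ⟨_, hq ⟨⟨x, y⟩, hxy⟩⟩
      set b := base ⟨_, hq ⟨⟨x, y⟩, hxy⟩⟩ with hb
      simp only at h1 h2
      apply SemidirectProduct.ext
      · rw [SemidirectProduct.mul_left, SemidirectProduct.mul_left]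
        apply Subtype.ext
        rw [Subgroup.coe_mul, Subgroup.coe_mul]
        show x * b.1⁻¹ * (φ (QuotientGroup.mk x) ⟨y * b.2⁻¹, hmem y b.2 h2⟩ : X) =
          y * b.2⁻¹ * (φ (QuotientGroup.mk y) ⟨x * b.1⁻¹, hmem x b.1 h1⟩ : X)
        have e1 := hφ b.1 ⟨y * b.2⁻¹, hmem y b.2 h2⟩
        have e2 := hφ b.2 ⟨x * b.1⁻¹, hmem x b.1 h1⟩
        rw [h1] at e1
        rw [h2] at e2
        rw [e1, e2]
        calc x * b.1⁻¹ * (b.1 * (y * b.2⁻¹) * b.1⁻¹)
            = x * y * (b.1 * b.2)⁻¹ := by group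
          _ = y * x * (b.2 * b.1)⁻¹ := by rw [hxy.eq, hc.eq]
          _ = y * b.2⁻¹ * (b.2 * (x * b.1⁻¹) * b.2⁻¹) := by group
      · rw [SemidirectProduct.mul_right, SemidirectProduct.mul_right]
        simp only [F]
        rw [← QuotientGroup.mk_mul, ← QuotientGroup.mk_mul, hxy.eq]
    refine Nat.card_le_card_of_injective (fun z => (⟨F z, hF z⟩ : {z : Y × Y // Commute z.1 z.2})) ?_
    intro z w h
    have h := Subtype.ext_iff.mp h
    have hx : z.1.1 * (base ⟨_, hq z⟩).1⁻¹ = w.1.1 * (base ⟨_, hq w⟩).1⁻¹ :=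
      congrArg (fun t : Y × Y => (t.1.left : X)) h
    have hy : z.1.2 * (base ⟨_, hq z⟩).2⁻¹ = w.1.2 * (base ⟨_, hq w⟩).2⁻¹ :=
      congrArg (fun t : Y × Y => (t.2.left : X)) h
    have qx : (QuotientGroup.mk z.1.1 : X ⧸ V) = QuotientGroup.mk w.1.1 :=
      congrArg (fun t : Y × Y => t.1.right) h
    have qy : (QuotientGroup.mk z.1.2 : X ⧸ V) = QuotientGroup.mk w.1.2 :=
      congrArg (fun t : Y × Y => t.2.right) h
    have hbeq : base ⟨_, hq z⟩ = base ⟨_, hq w⟩ :=
      congrArg base (Subtype.ext (Prod.ext qx qy))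
    rw [hbeq] at hx hy
    exact Subtype.ext (Prod.ext (mul_right_cancel hx) (mul_right_cancel hy))
  rw [card_comm_eq_card_conjClasses_mul_card, card_comm_eq_card_conjClasses_mul_card, hcard] at main
  exact Nat.le_of_mul_le_mul_right main Nat.card_pos

end Cfsg.Agent.S4965
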