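import Cfsg.Statements.S4966
import Mathlib.LinearAlgebra.Dual.Lemmas
import Mathlib.LinearAlgebra.Projection
import Mathlib.Tactic.LinearCombination
import Mathlib.Tactic.Abel

set_option autoImplicit false
set_option linter.unusedSectionVars false
open Cfsg

namespace Cfsg.Agent.S4966

variable {F : Type*} [Field F] {G : Type*} [Group G] [Finite G]
  {V : Type*} [AddCommGroup V] [Module F V] [FiniteDimensional F V] (ρ : Representation F G V)

/-- invariance of a submodule -/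
def Inv (U : Submodule F V) : Prop := ∀ g : G, ∀ u ∈ U, ρ g u ∈ U

variable {ρ}

lemma inv_cancel (g : G) (x : V) : ρ g (ρ g⁻¹ x) = x := by
  rw [← Module.End.mul_apply, ← map_mul, mul_inv_cancel, map_one, Module.End.one_apply]

lemma inv_cancel' (g : G) (x : V) : ρ g⁻¹ (ρ g x) = x := by
  rw [← Module.End.mul_apply, ← map_mul, inv_mul_cancel, map_one, Module.End.one_apply]

lemma Inv.sup {U W : Submodule F V} (hU : Inv ρ U) (hW : Inv ρ W) : Inv ρ (U ⊔ W) := by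
  intro g u hu
  obtain ⟨a, ha, b, hb, rfl⟩ := Submodule.mem_sup.mp hu
  rw [map_add]
  exact Submodule.add_mem_sup (hU g a ha) (hW g b hb)

lemma exists_proj {P R : Submodule F V} (h : Disjoint P R) :
    ∃ π : V →ₗ[F] V, (∀ x ∈ P, π x = x) ∧ (∀ x ∈ R, π x = 0) ∧ ∀ x, π x ∈ P := by
  obtain ⟨Q0, hQ0⟩ := (P ⊔ R).exists_isCompl
  have hc : IsCompl P (R ⊔ Q0) := by
    refine ⟨h.disjoint_sup_right_of_disjoint_sup_left hQ0.disjoint, ?_⟩
    rw [codisjoint_iff, ← sup_assoc]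
    exact hQ0.sup_eq_top
  refine ⟨P.projection (R ⊔ Q0) hc, fun x hx => Submodule.projection_apply_of_mem_left hc hx,
    fun x hx => ?_, Submodule.projection_apply_mem hc⟩
  exact (Submodule.projection_apply_eq_zero_iff hc).mpr (Submodule.mem_sup_left hx)

lemma exists_inv_compl (hcard : (Nat.card G : F) ≠ 0) {X R : Submodule F V} (hX : Inv ρ X)
    (hR : Inv ρ R) (hRX : R ≤ X) :
    ∃ C : Submodule F V, C ≤ X ∧ Inv ρ C ∧ C ⊓ R = ⊥ ∧ C ⊔ R = X := by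
  haveI := Fintype.ofFinite G
  obtain ⟨π, hπ, -, hπm⟩ := exists_proj (P := R) (R := ⊥) disjoint_bot_right
  let q : V →ₗ[F] V := (Nat.card G : F)⁻¹ • ∑ g : G, ρ g ∘ₗ π ∘ₗ ρ g⁻¹
  have hq : ∀ x, q x = (Nat.card G : F)⁻¹ • ∑ g : G, ρ g (π (ρ g⁻¹ x)) := by
    intro x; simp [q, LinearMap.sum_apply]
  have hqR : ∀ x ∈ R, q x = x := by
    intro x hx
    rw [hq]
    simp_rw [hπ _ (hR _ x hx), inv_cancel]
    rw [Finset.sum_const, Finset.card_univ, ← Nat.card_eq_fintype_card, ← Nat.cast_smul_eq_nsmul F,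
      inv_smul_smul₀ hcard]
  have hqm : ∀ x, q x ∈ R := by
    intro x; rw [hq]
    exact R.smul_mem _ (Submodule.sum_mem _ fun g _ => hR g _ (hπm _))
  have hqe : ∀ h x, q (ρ h x) = ρ h (q x) := by
    intro h x
    rw [hq, hq, map_smul, map_sum]
    congr 1
    refine (Fintype.sum_equiv (Equiv.mulLeft h) _ _ fun g => ?_).symm
    have h1 : (h * g)⁻¹ = g⁻¹ * h⁻¹ := mul_inv_rev h g
    simp only [Equiv.coe_mulLeft, h1, map_mul, Module.End.mul_apply, inv_cancel']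
  refine ⟨X ⊓ LinearMap.ker q, inf_le_left, ?_, ?_, ?_⟩
  · rintro g u ⟨hu1, hu2⟩
    exact ⟨hX g u hu1, by
      rw [SetLike.mem_coe, LinearMap.mem_ker] at hu2 ⊢; rw [hqe, hu2, map_zero]⟩
  · rw [Submodule.eq_bot_iff]
    rintro x ⟨⟨-, hx⟩, hxR⟩
    rw [← hqR x hxR]; exact hx
  · refine le_antisymm (sup_le inf_le_left hRX) fun x hx => ?_
    refine Submodule.mem_sup.mpr ⟨x - q x, ⟨X.sub_mem hx (hRX (hqm x)), ?_⟩, q x, hqm x,
      sub_add_cancel _ _⟩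
    rw [SetLike.mem_coe, LinearMap.mem_ker, map_sub, hqR _ (hqm x), sub_self]

lemma exists_minimal_inv : ∀ n : ℕ, ∀ X : Submodule F V, Module.finrank F X = n → Inv ρ X → X ≠ ⊥ →
    ∃ S : Submodule F V, S ≤ X ∧ Inv ρ S ∧ S ≠ ⊥ ∧ ∀ K, Inv ρ K → K ≤ S → K = ⊥ ∨ K = S := by
  intro n
  induction n using Nat.strong_induction_on with
  | _ n ih =>
    intro X hn hX hne
    by_cases h : ∀ K, Inv ρ K → K ≤ X → K = ⊥ ∨ K = X
    · exact ⟨X, le_rfl, hX, hne, h⟩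
    · push Not at h
      obtain ⟨K, hK, hKX, hK0, hKne⟩ := h
      have hlt : Module.finrank F K < n := hn ▸ Submodule.finrank_lt_finrank_of_lt (lt_of_le_of_ne hKX hKne)
      obtain ⟨S, hS, h'⟩ := ih _ hlt K rfl hK hK0
      exact ⟨S, hS.trans hKX, h'⟩

/-- left nondegeneracy on a subspace -/
def ND (B : LinearMap.BilinForm F V) (P : Submodule F V) : Prop :=
  ∀ x ∈ P, (∀ y ∈ P, B x y = 0) → x = 0

/-- restriction of `B x ·` to a subspace -/
noncomputable def toDual (B : LinearMap.BilinForm F V) (P : Submodule F V) :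
    P →ₗ[F] Module.Dual F P :=
  LinearMap.mk₂ F (fun x y => B (x : V) (y : V)) (fun a b c => by simp) (fun r a c => by simp)
    (fun a b c => by simp) (fun r a c => by simp)

lemma ND.surj {B : LinearMap.BilinForm F V} {P : Submodule F V} (h : ND B P) :
    Function.Surjective (toDual B P) := by
  refine (LinearMap.injective_iff_surjective_of_finrank_eq_finrank Subspace.dual_finrank_eq.symm).mp ?_
  rw [injective_iff_map_eq_zero]
  intro x hx
  exact Subtype.ext (h x x.2 fun y hy => LinearMap.congr_fun hx ⟨y, hy⟩)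

lemma ND.right {B : LinearMap.BilinForm F V} {P : Submodule F V} (h : ND B P) {y : V} (hy : y ∈ P)
    (h0 : ∀ x ∈ P, B x y = 0) : y = 0 := by
  have : (⟨y, hy⟩ : P) = 0 := by
    rw [← Module.forall_dual_apply_eq_zero_iff F]
    intro φ
    obtain ⟨x, rfl⟩ := h.surj φ
    exact h0 x x.2
  exact congrArg Subtype.val this

variable (ρ)

/-- carries an invariant nondegenerate alternating form -/
def AltT (U : Submodule F V) : Prop :=
  Inv ρ U ∧ ∃ A : LinearMap.BilinForm F V, (∀ x : V, A x x = 0) ∧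
    (∀ g : G, ∀ x ∈ U, ∀ y ∈ U, A (ρ g x) (ρ g y) = A x y) ∧ ND A U

/-- carries an invariant nondegenerate symmetric form, trivial action in characteristic two -/
def SymT (p : ℕ) (W : Submodule F V) : Prop :=
  Inv ρ W ∧ (∃ S : LinearMap.BilinForm F V, (∀ x y : V, S x y = S y x) ∧
    (∀ g : G, ∀ x ∈ W, ∀ y ∈ W, S (ρ g x) (ρ g y) = S x y) ∧ ND S W) ∧
    (p = 2 → ∀ g : G, ∀ w ∈ W, ρ g w = w)

variable {ρ}

lemma combine {U1 U2 : Submodule F V} (h1 : Inv ρ U1) (h2 : Inv ρ U2) (hd : Disjoint U1 U2)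
    (A1 A2 : LinearMap.BilinForm F V)
    (i1 : ∀ g : G, ∀ x ∈ U1, ∀ y ∈ U1, A1 (ρ g x) (ρ g y) = A1 x y) (n1 : ND A1 U1)
    (i2 : ∀ g : G, ∀ x ∈ U2, ∀ y ∈ U2, A2 (ρ g x) (ρ g y) = A2 x y) (n2 : ND A2 U2) :
    ∃ π1 π2 : V →ₗ[F] V,
      (∀ g : G, ∀ x ∈ U1 ⊔ U2, ∀ y ∈ U1 ⊔ U2,
        (A1.compl₁₂ π1 π1 + A2.compl₁₂ π2 π2) (ρ g x) (ρ g y) =
          (A1.compl₁₂ π1 π1 + A2.compl₁₂ π2 π2) x y) ∧
      ND (A1.compl₁₂ π1 π1 + A2.compl₁₂ π2 π2) (U1 ⊔ U2) := by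
  obtain ⟨π1, a1, b1, -⟩ := exists_proj hd
  obtain ⟨π2, a2, b2, -⟩ := exists_proj hd.symm
  refine ⟨π1, π2, ?_, ?_⟩
  · intro g x hx y hy
    obtain ⟨x1, hx1, x2, hx2, rfl⟩ := Submodule.mem_sup.mp hx
    obtain ⟨y1, hy1, y2, hy2, rfl⟩ := Submodule.mem_sup.mp hy
    simp only [LinearMap.add_apply, LinearMap.compl₁₂_apply, map_add,
      a1 _ hx1, a1 _ hy1, b1 _ hx2, b1 _ hy2, a2 _ hx2, a2 _ hy2, b2 _ hx1, b2 _ hy1,
      a1 _ (h1 g _ hx1), a1 _ (h1 g _ hy1), b1 _ (h2 g _ hx2), b1 _ (h2 g _ hy2),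
      a2 _ (h2 g _ hx2), a2 _ (h2 g _ hy2), b2 _ (h1 g _ hx1), b2 _ (h1 g _ hy1),
      add_zero, zero_add, i1 g _ hx1 _ hy1, i2 g _ hx2 _ hy2, map_zero, LinearMap.zero_apply]
  · intro x hx h0
    obtain ⟨x1, hx1, x2, hx2, rfl⟩ := Submodule.mem_sup.mp hx
    have e1 : x1 = 0 := n1 x1 hx1 fun y hy => by
      have := h0 y (Submodule.mem_sup_left hy)
      simpa [a1 _ hx1, a1 _ hy, b1 _ hx2, b2 _ hy] using this
    have e2 : x2 = 0 := n2 x2 hx2 fun y hy => by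
      have := h0 y (Submodule.mem_sup_right hy)
      simpa [a2 _ hx2, a2 _ hy, b2 _ hx1, b1 _ hy] using this
    rw [e1, e2, add_zero]

lemma AltT.sup {U1 U2 : Submodule F V} (h1 : AltT ρ U1) (h2 : AltT ρ U2) (hd : Disjoint U1 U2) :
    AltT ρ (U1 ⊔ U2) := by
  obtain ⟨v1, A1, z1, i1, n1⟩ := h1
  obtain ⟨v2, A2, z2, i2, n2⟩ := h2
  obtain ⟨π1, π2, hi, hn⟩ := combine v1 v2 hd A1 A2 i1 n1 i2 n2
  exact ⟨v1.sup v2, _, fun x => by simp [LinearMap.compl₁₂_apply, z1, z2], hi, hn⟩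

lemma SymT.sup {p : ℕ} {U1 U2 : Submodule F V} (h1 : SymT ρ p U1) (h2 : SymT ρ p U2)
    (hd : Disjoint U1 U2) : SymT ρ p (U1 ⊔ U2) := by
  obtain ⟨v1, ⟨A1, z1, i1, n1⟩, t1⟩ := h1
  obtain ⟨v2, ⟨A2, z2, i2, n2⟩, t2⟩ := h2
  obtain ⟨π1, π2, hi, hn⟩ := combine v1 v2 hd A1 A2 i1 n1 i2 n2
  refine ⟨v1.sup v2, ⟨_, fun x y => ?_, hi, hn⟩, fun hp g w hw => ?_⟩
  · simp only [LinearMap.add_apply, LinearMap.compl₁₂_apply]
    rw [z1, z2]
  · obtain ⟨a, ha, b, hb, rfl⟩ := Submodule.mem_sup.mp hw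
    rw [map_add, t1 hp g a ha, t2 hp g b hb]

lemma bot_altT : AltT ρ (⊥ : Submodule F V) :=
  ⟨fun g u hu => by simp_all, 0, fun _ => rfl, fun _ _ _ _ _ => rfl, fun x hx _ => by simpa using hx⟩

lemma bot_symT (p : ℕ) : SymT ρ p (⊥ : Submodule F V) :=
  ⟨fun g u hu => by simp_all,
    ⟨0, fun _ _ => rfl, fun _ _ _ _ _ => rfl, fun x hx _ => by simpa using hx⟩,
    fun _ g w hw => by simp_all⟩

lemma anisotropic_case {p : ℕ} [hp : Fact p.Prime] [CharP F p] (B : LinearMap.BilinForm F V)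
    (hBinv : ∀ g : G, ∀ x y : V, B (ρ g x) (ρ g y) = B x y) {S : Submodule F V} (hS : Inv ρ S)
    (hmin : ∀ K, Inv ρ K → K ≤ S → K = ⊥ ∨ K = S)
    (hne : ∃ x ∈ S, ∃ y ∈ S, B x y ≠ 0) : ND B S ∧ (AltT ρ S ∨ SymT ρ p S) := by
  have rad : ∀ C : LinearMap.BilinForm F V,
      (∀ g : G, ∀ x ∈ S, ∀ y ∈ S, C (ρ g x) (ρ g y) = C x y) →
      (∃ x ∈ S, ∃ y ∈ S, C x y ≠ 0) → ND C S := by
    intro C hC hCne x hx h0
    let K : Submodule F V :=
      { carrier := {x | x ∈ S ∧ ∀ y ∈ S, C x y = 0}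
        add_mem' := fun ha hb => ⟨S.add_mem ha.1 hb.1, fun y hy => by simp [ha.2 y hy, hb.2 y hy]⟩
        zero_mem' := ⟨S.zero_mem, fun y _ => by simp⟩
        smul_mem' := fun c a ha => ⟨S.smul_mem c ha.1, fun y hy => by simp [ha.2 y hy]⟩ }
    have hK : Inv ρ K := fun g u hu => ⟨hS g u hu.1, fun y hy => by
      have := hC g u hu.1 (ρ g⁻¹ y) (hS _ y hy)
      rw [inv_cancel] at this
      rw [this]; exact hu.2 _ (hS _ y hy)⟩
    rcases hmin K hK (fun u hu => hu.1) with h | h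
    · have hxK : x ∈ K := ⟨hx, h0⟩
      rw [h] at hxK; simpa using hxK
    · obtain ⟨a, ha, b, hb, hab⟩ := hCne
      exact absurd (((h ▸ ha) : a ∈ K).2 b hb) hab
  have hnd := rad B (fun g x _ y _ => hBinv g x y) hne
  refine ⟨hnd, ?_⟩
  obtain ⟨π, hπ, -, hπm⟩ := exists_proj (P := S) (R := ⊥) disjoint_bot_right
  have hflip : ∀ g : G, ∀ x ∈ S, ∀ y ∈ S, (B + B.flip) (ρ g x) (ρ g y) = (B + B.flip) x y := by
    intro g x _ y _; simp [hBinv]
  by_cases hsym : ∃ x ∈ S, ∃ y ∈ S, (B + B.flip) x y ≠ 0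
  · by_cases hp2 : p = 2
    · subst hp2
      left
      refine ⟨hS, _, fun x => ?_, hflip, rad _ hflip hsym⟩
      simp [CharTwo.add_self_eq_zero]
    · right
      refine ⟨hS, ⟨_, fun x y => ?_, hflip, rad _ hflip hsym⟩, fun h => absurd h hp2⟩
      simp [add_comm]
  · push Not at hsym
    by_cases hdiag : ∀ x ∈ S, B x x = 0
    · left
      refine ⟨hS, B.compl₁₂ π π, fun x => ?_, fun g x hx y hy => ?_, fun x hx h0 => hnd x hx fun y hy => ?_⟩
      · exact hdiag _ (hπm x)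
      · simp [hπ _ hx, hπ _ hy, hπ _ (hS g x hx), hπ _ (hS g y hy), hBinv]
      · simpa [hπ _ hx, hπ _ hy] using h0 y hy
    · right
      push Not at hdiag
      obtain ⟨z, hz, hzz⟩ := hdiag
      have hp2 : p = 2 := by
        by_contra hp2
        have h2 : ((2 : ℕ) : F) ≠ 0 := fun h =>
          hp2 ((Nat.prime_dvd_prime_iff_eq hp.out Nat.prime_two).mp ((CharP.cast_eq_zero_iff F p 2).mp h))
        have := hsym z hz z hz
        simp only [LinearMap.add_apply, LinearMap.BilinForm.flip_apply] at this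
        apply hzz
        have : ((2 : ℕ) : F) * B z z = 0 := by push_cast; linear_combination this
        exact (mul_eq_zero.mp this).resolve_left h2
      subst hp2
      have hBs : ∀ x ∈ S, ∀ y ∈ S, B x y = B y x := by
        intro x hx y hy
        have := hsym x hx y hy
        simp only [LinearMap.add_apply, LinearMap.BilinForm.flip_apply] at this
        exact CharTwo.add_eq_zero.mp this
      let K : Submodule F V :=
        { carrier := {x | x ∈ S ∧ B x x = 0}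
          add_mem' := fun {a b} ha hb => ⟨S.add_mem ha.1 hb.1, by
            simp [ha.2, hb.2, hBs b hb.1 a ha.1, CharTwo.add_self_eq_zero]⟩
          zero_mem' := ⟨S.zero_mem, by simp⟩
          smul_mem' := fun c a ha => ⟨S.smul_mem c ha.1, by simp [ha.2]⟩ }
      have hK : Inv ρ K := fun g u hu => ⟨hS g u hu.1, by rw [hBinv]; exact hu.2⟩
      have hK0 : K = ⊥ := (hmin K hK (fun u hu => hu.1)).resolve_right fun h =>
        hzz ((h ▸ hz : z ∈ K)).2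
      refine ⟨hS, ⟨B.compl₁₂ π π, fun x y => ?_, fun g x hx y hy => ?_,
        fun x hx h0 => hnd x hx fun y hy => ?_⟩, fun _ g w hw => ?_⟩
      · exact hBs _ (hπm x) _ (hπm y)
      · simp [hπ _ hx, hπ _ hy, hπ _ (hS g x hx), hπ _ (hS g y hy), hBinv]
      · simpa [hπ _ hx, hπ _ hy] using h0 y hy
      · have hm : ρ g w + w ∈ K := ⟨S.add_mem (hS g w hw) hw, by
          simp [hBinv, hBs w hw _ (hS g w hw), CharTwo.add_self_eq_zero]
          linear_combination (B w w + B (ρ g w) w) * (CharTwo.two_eq_zero : (2 : F) = 0)⟩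
        rw [hK0, Submodule.mem_bot] at hm
        have h2 : w + w = 0 := by rw [← two_smul F w, CharTwo.two_eq_zero, zero_smul]
        exact (eq_neg_of_add_eq_zero_left hm).trans (eq_neg_of_add_eq_zero_left h2).symm

lemma hyperbolic_case {S T : Submodule F V} (B : LinearMap.BilinForm F V)
    (hBinv : ∀ g : G, ∀ x y : V, B (ρ g x) (ρ g y) = B x y) (hS : Inv ρ S) (hT : Inv ρ T)
    (hiso : ∀ x ∈ S, ∀ y ∈ S, B x y = 0)
    (hTl : ∀ t ∈ T, (∀ s ∈ S, B t s = 0) → t = 0)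
    (hTr : ∀ t ∈ T, (∀ s ∈ S, B s t = 0) → t = 0)
    (hSr : ∀ s ∈ S, (∀ t ∈ T, B s t = 0) → s = 0) :
    AltT ρ (S ⊔ T) ∧ ND B (S ⊔ T) := by
  have hd : Disjoint S T := by
    rw [Submodule.disjoint_def]
    exact fun x hxS hxT => hTl x hxT fun s hs => hiso x hxS s hs
  obtain ⟨πS, aS, bS, -⟩ := exists_proj hd
  obtain ⟨πT, aT, bT, -⟩ := exists_proj hd.symm
  refine ⟨⟨hS.sup hT, B.compl₁₂ πS πT - (B.compl₁₂ πS πT).flip, fun x => by simp, ?_, ?_⟩, ?_⟩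
  · intro g x hx y hy
    obtain ⟨x1, hx1, x2, hx2, rfl⟩ := Submodule.mem_sup.mp hx
    obtain ⟨y1, hy1, y2, hy2, rfl⟩ := Submodule.mem_sup.mp hy
    simp [aS _ hx1, aS _ hy1, bS _ hx2, bS _ hy2, aT _ hx2, aT _ hy2, bT _ hx1, bT _ hy1,
      aS _ (hS g _ hx1), aS _ (hS g _ hy1), bS _ (hT g _ hx2), bS _ (hT g _ hy2),
      aT _ (hT g _ hx2), aT _ (hT g _ hy2), bT _ (hS g _ hx1), bT _ (hS g _ hy1), hBinv]
  · intro x hx h0
    obtain ⟨x1, hx1, x2, hx2, rfl⟩ := Submodule.mem_sup.mp hx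
    have e1 : x1 = 0 := hSr x1 hx1 fun t ht => by
      have := h0 t (Submodule.mem_sup_right ht)
      simpa [aS _ hx1, bS _ hx2, aT _ ht, bS _ ht, bT _ hx1, aT _ hx2] using this
    have e2 : x2 = 0 := hTr x2 hx2 fun s hs => by
      have := h0 s (Submodule.mem_sup_left hs)
      simpa [aS _ hs, bS _ hx2, aT _ hx2, bT _ hs, bT _ hx1, aS _ hx1] using this
    rw [e1, e2, add_zero]
  · intro x hx h0
    obtain ⟨x1, hx1, x2, hx2, rfl⟩ := Submodule.mem_sup.mp hx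
    have e2 : x2 = 0 := hTl x2 hx2 fun s hs => by
      have := h0 s (Submodule.mem_sup_left hs)
      simpa [hiso x1 hx1 s hs] using this
    subst e2
    have e1 : x1 = 0 := hSr x1 hx1 fun t ht => by
      have := h0 t (Submodule.mem_sup_right ht)
      simpa using this
    rw [e1, add_zero]

lemma find_piece {p : ℕ} [Fact p.Prime] [CharP F p] (hcard : (Nat.card G : F) ≠ 0)
    (B : LinearMap.BilinForm F V) (hBinv : ∀ g : G, ∀ x y : V, B (ρ g x) (ρ g y) = B x y)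
    {X : Submodule F V} (hX : Inv ρ X) (hnd : ND B X) (hne : X ≠ ⊥) :
    ∃ P, P ≤ X ∧ P ≠ ⊥ ∧ ND B P ∧ (AltT ρ P ∨ SymT ρ p P) := by
  obtain ⟨S, hSX, hS, hS0, hmin⟩ := exists_minimal_inv _ X rfl hX hne
  by_cases hiso : ∀ x ∈ S, ∀ y ∈ S, B x y = 0
  swap
  · push Not at hiso
    exact ⟨S, hSX, hS0, anisotropic_case B hBinv hS hmin hiso⟩
  obtain ⟨s0, hs0, hs00⟩ := (Submodule.ne_bot_iff S).mp hS0
  let R0 : Submodule F V :=
    { carrier := {x | x ∈ X ∧ ∀ s ∈ S, B s x = 0}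
      add_mem' := fun ha hb => ⟨X.add_mem ha.1 hb.1, fun s hs => by simp [ha.2 s hs, hb.2 s hs]⟩
      zero_mem' := ⟨X.zero_mem, fun s _ => by simp⟩
      smul_mem' := fun c a ha => ⟨X.smul_mem c ha.1, fun s hs => by simp [ha.2 s hs]⟩ }
  let L0 : Submodule F V :=
    { carrier := {x | x ∈ X ∧ ∀ s ∈ S, B x s = 0}
      add_mem' := fun ha hb => ⟨X.add_mem ha.1 hb.1, fun s hs => by simp [ha.2 s hs, hb.2 s hs]⟩
      zero_mem' := ⟨X.zero_mem, fun s _ => by simp⟩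
      smul_mem' := fun c a ha => ⟨X.smul_mem c ha.1, fun s hs => by simp [ha.2 s hs]⟩ }
  have hR0 : Inv ρ R0 := fun g u hu => ⟨hX g u hu.1, fun s hs => by
    rw [← inv_cancel (ρ := ρ) g s, hBinv]; exact hu.2 _ (hS _ s hs)⟩
  have hL0 : Inv ρ L0 := fun g u hu => ⟨hX g u hu.1, fun s hs => by
    rw [← inv_cancel (ρ := ρ) g s, hBinv]; exact hu.2 _ (hS _ s hs)⟩
  have hR0ne : ¬ X ≤ R0 := fun h => hs00 (hnd s0 (hSX hs0) fun y hy => (h hy).2 s0 hs0)
  have hL0ne : ¬ X ≤ L0 := fun h => hs00 (hnd.right (hSX hs0) fun y hy => (h hy).2 s0 hs0)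
  have sinj : ∀ T : Submodule F V, Inv ρ T → (∃ s ∈ S, ∃ t ∈ T, B s t ≠ 0) →
      ∀ s ∈ S, (∀ t ∈ T, B s t = 0) → s = 0 := by
    intro T hT hex s hs h0
    let K : Submodule F V :=
      { carrier := {x | x ∈ S ∧ ∀ t ∈ T, B x t = 0}
        add_mem' := fun ha hb => ⟨S.add_mem ha.1 hb.1, fun s hs => by simp [ha.2 s hs, hb.2 s hs]⟩
        zero_mem' := ⟨S.zero_mem, fun s _ => by simp⟩
        smul_mem' := fun c a ha => ⟨S.smul_mem c ha.1, fun s hs => by simp [ha.2 s hs]⟩ }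
    have hK : Inv ρ K := fun g u hu => ⟨hS g u hu.1, fun t ht => by
      rw [← inv_cancel (ρ := ρ) g t, hBinv]; exact hu.2 _ (hT _ t ht)⟩
    have hK0 : K = ⊥ := (hmin K hK fun u hu => hu.1).resolve_right fun h => by
      obtain ⟨a, ha, b, hb, hab⟩ := hex
      exact hab ((h ▸ ha : a ∈ K).2 b hb)
    have hsK : s ∈ K := ⟨hs, h0⟩
    rw [hK0] at hsK; simpa using hsK
  have sinj' : ∀ T : Submodule F V, Inv ρ T → (∃ s ∈ S, ∃ t ∈ T, B t s ≠ 0) →
      ∀ s ∈ S, (∀ t ∈ T, B t s = 0) → s = 0 := by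
    intro T hT hex s hs h0
    let K : Submodule F V :=
      { carrier := {x | x ∈ S ∧ ∀ t ∈ T, B t x = 0}
        add_mem' := fun ha hb => ⟨S.add_mem ha.1 hb.1, fun s hs => by simp [ha.2 s hs, hb.2 s hs]⟩
        zero_mem' := ⟨S.zero_mem, fun s _ => by simp⟩
        smul_mem' := fun c a ha => ⟨S.smul_mem c ha.1, fun s hs => by simp [ha.2 s hs]⟩ }
    have hK : Inv ρ K := fun g u hu => ⟨hS g u hu.1, fun t ht => by
      rw [← inv_cancel (ρ := ρ) g t, hBinv]; exact hu.2 _ (hT _ t ht)⟩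
    have hK0 : K = ⊥ := (hmin K hK fun u hu => hu.1).resolve_right fun h => by
      obtain ⟨a, ha, b, hb, hab⟩ := hex
      exact hab ((h ▸ ha : a ∈ K).2 b hb)
    have hsK : s ∈ K := ⟨hs, h0⟩
    rw [hK0] at hsK; simpa using hsK
  have build : ∀ T : Submodule F V, T ≤ X → Inv ρ T →
      (∀ t ∈ T, (∀ s ∈ S, B t s = 0) → t = 0) → (∀ t ∈ T, (∀ s ∈ S, B s t = 0) → t = 0) →
      (∀ s ∈ S, (∀ t ∈ T, B s t = 0) → s = 0) →
      ∃ P, P ≤ X ∧ P ≠ ⊥ ∧ ND B P ∧ (AltT ρ P ∨ SymT ρ p P) := by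
    intro T hTX hT a b c
    obtain ⟨h1, h2⟩ := hyperbolic_case B hBinv hS hT hiso a b c
    exact ⟨S ⊔ T, sup_le hSX hTX, fun h => hS0 (eq_bot_iff.mpr (h ▸ le_sup_left)), h2, Or.inl h1⟩
  obtain ⟨C1, hC1X, hC1, hC1d, hC1s⟩ := exists_inv_compl hcard hX hR0 (fun x hx => hx.1)
  have hC1ne : C1 ≠ ⊥ := fun h => hR0ne (by rw [← hC1s, h, bot_sup_eq])
  obtain ⟨T1, hT1C, hT1, hT10, hT1min⟩ := exists_minimal_inv _ C1 rfl hC1 hC1ne
  have hT1r : ∀ t ∈ T1, (∀ s ∈ S, B s t = 0) → t = 0 := fun t ht h => by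
    have : t ∈ C1 ⊓ R0 := ⟨hT1C ht, hC1X (hT1C ht), h⟩
    rw [hC1d] at this; simpa using this
  obtain ⟨t1, ht1, ht10⟩ := (Submodule.ne_bot_iff T1).mp hT10
  have hST1 : ∀ s ∈ S, (∀ t ∈ T1, B s t = 0) → s = 0 := sinj T1 hT1 (by
    by_contra h; push Not at h
    exact ht10 (hT1r t1 ht1 fun s hs => h s hs t1 ht1))
  by_cases hT1L : T1 ≤ L0
  swap
  · refine build T1 (hT1C.trans hC1X) hT1 ?_ hT1r hST1
    intro t ht h0
    have hK : Inv ρ (T1 ⊓ L0) := fun g u hu => ⟨hT1 g u hu.1, hL0 g u hu.2⟩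
    rcases hT1min _ hK inf_le_left with h | h
    · have : t ∈ T1 ⊓ L0 := ⟨ht, hC1X (hT1C ht), h0⟩
      rw [h] at this; simpa using this
    · exact absurd (inf_eq_left.mp h) hT1L
  obtain ⟨C2, hC2X, hC2, hC2d, hC2s⟩ := exists_inv_compl hcard hX hL0 (fun x hx => hx.1)
  have hC2ne : C2 ≠ ⊥ := fun h => hL0ne (by rw [← hC2s, h, bot_sup_eq])
  obtain ⟨T2, hT2C, hT2, hT20, hT2min⟩ := exists_minimal_inv _ C2 rfl hC2 hC2ne
  have hT2l : ∀ t ∈ T2, (∀ s ∈ S, B t s = 0) → t = 0 := fun t ht h => by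
    have : t ∈ C2 ⊓ L0 := ⟨hT2C ht, hC2X (hT2C ht), h⟩
    rw [hC2d] at this; simpa using this
  obtain ⟨t2, ht2, ht20⟩ := (Submodule.ne_bot_iff T2).mp hT20
  have hS'T2 : ∀ s ∈ S, (∀ t ∈ T2, B t s = 0) → s = 0 := sinj' T2 hT2 (by
    by_contra h; push Not at h
    exact ht20 (hT2l t2 ht2 fun s hs => h s hs t2 ht2))
  by_cases hT2R : T2 ≤ R0
  swap
  · have hr : ∀ t ∈ T2, (∀ s ∈ S, B s t = 0) → t = 0 := by
      intro t ht h0
      have hK : Inv ρ (T2 ⊓ R0) := fun g u hu => ⟨hT2 g u hu.1, hR0 g u hu.2⟩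
      rcases hT2min _ hK inf_le_left with h | h
      · have : t ∈ T2 ⊓ R0 := ⟨ht, hC2X (hT2C ht), h0⟩
        rw [h] at this; simpa using this
      · exact absurd (inf_eq_left.mp h) hT2R
    refine build T2 (hT2C.trans hC2X) hT2 hT2l hr (sinj T2 hT2 ?_)
    by_contra h; push Not at h
    exact ht20 (hr t2 ht2 fun s hs => h s hs t2 ht2)
  -- glue T1 and T2 along their pairings with S
  let β1 : T1 →ₗ[F] Module.Dual F S :=
    LinearMap.mk₂ F (fun t s => B (s : V) (t : V)) (fun a b c => by simp) (fun r a c => by simp)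
      (fun a b c => by simp) (fun r a c => by simp)
  let β2 : T2 →ₗ[F] Module.Dual F S :=
    LinearMap.mk₂ F (fun t s => B (t : V) (s : V)) (fun a b c => by simp) (fun r a c => by simp)
      (fun a b c => by simp) (fun r a c => by simp)
  have i2 : Function.Injective β2 := by
    rw [injective_iff_map_eq_zero]
    exact fun t ht => Subtype.ext (hT2l t t.2 fun s hs => LinearMap.congr_fun ht ⟨s, hs⟩)
  have s2 : Function.Surjective β2 := by
    let γ : S →ₗ[F] Module.Dual F T2 := β2.flip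
    have iγ : Function.Injective γ := by
      rw [injective_iff_map_eq_zero]
      exact fun s hs => Subtype.ext (hS'T2 s s.2 fun t ht => LinearMap.congr_fun hs ⟨t, ht⟩)
    have e1 := LinearMap.finrank_le_finrank_of_injective iγ
    have e2 := LinearMap.finrank_le_finrank_of_injective i2
    rw [Subspace.dual_finrank_eq] at e1 e2
    refine (LinearMap.injective_iff_surjective_of_finrank_eq_finrank ?_).mp i2
    rw [Subspace.dual_finrank_eq]; omega
  let e := LinearEquiv.ofBijective β2 ⟨i2, s2⟩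
  let φ : T1 →ₗ[F] T2 := e.symm.toLinearMap ∘ₗ β1
  have hφ : ∀ (t : T1) (s : S), B (φ t : V) (s : V) = B (s : V) (t : V) := fun t s =>
    LinearMap.congr_fun (e.apply_symm_apply (β1 t)) s
  let T : Submodule F V := LinearMap.range (T1.subtype + T2.subtype ∘ₗ φ)
  have hTX : T ≤ X := by
    rintro _ ⟨t, rfl⟩
    exact X.add_mem (hC1X (hT1C t.2)) (hC2X (hT2C (φ t).2))
  have hT : Inv ρ T := by
    rintro g _ ⟨t, rfl⟩
    refine ⟨⟨ρ g t, hT1 g t t.2⟩, ?_⟩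
    have heq : (φ ⟨ρ g t, hT1 g t t.2⟩ : V) = ρ g (φ t) := by
      have hm : ρ g (φ t : V) ∈ T2 := hT2 g _ (φ t).2
      have h1 : φ ⟨ρ g t, hT1 g t t.2⟩ = (⟨ρ g (φ t : V), hm⟩ : T2) := i2 (LinearMap.ext fun s => by
        show B (φ ⟨ρ g t, hT1 g t t.2⟩ : V) (s : V) = B (ρ g (φ t : V)) (s : V)
        rw [hφ, ← inv_cancel (ρ := ρ) g (s : V), hBinv, hBinv]
        exact (hφ t ⟨ρ g⁻¹ s, hS _ s s.2⟩).symm)
      exact congrArg Subtype.val h1
    simp [heq]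
  refine build T hTX hT ?_ ?_ ?_
  · rintro _ ⟨t, rfl⟩ h0
    have : (t : V) = 0 := hT1r t t.2 fun s hs => by
      have h1 := h0 s hs
      simp only [LinearMap.add_apply, LinearMap.comp_apply, Submodule.coe_subtype, map_add] at h1
      rw [(hT1L t.2).2 s hs, zero_add] at h1
      rw [← hφ t ⟨s, hs⟩]; exact h1
    have ht : t = 0 := Subtype.ext this
    simp [ht]
  · rintro _ ⟨t, rfl⟩ h0
    have : (t : V) = 0 := hT1r t t.2 fun s hs => by
      have h1 := h0 s hs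
      simp only [LinearMap.add_apply, LinearMap.comp_apply, Submodule.coe_subtype, map_add] at h1
      rwa [(hT2R (φ t).2).2 s hs, add_zero] at h1
    have ht : t = 0 := Subtype.ext this
    simp [ht]
  · intro s hs h0
    refine hST1 s hs fun t ht => ?_
    have h1 := h0 _ ⟨⟨t, ht⟩, rfl⟩
    simp only [LinearMap.add_apply, LinearMap.comp_apply, Submodule.coe_subtype, map_add] at h1
    rwa [(hT2R (φ ⟨t, ht⟩).2).2 s hs, add_zero] at h1

lemma decomp {p : ℕ} [Fact p.Prime] [CharP F p] (hcard : (Nat.card G : F) ≠ 0)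
    (B : LinearMap.BilinForm F V) (hBinv : ∀ g : G, ∀ x y : V, B (ρ g x) (ρ g y) = B x y) :
    ∀ n : ℕ, ∀ X : Submodule F V, Module.finrank F X = n → Inv ρ X → ND B X →
      ∃ U W, U ⊓ W = ⊥ ∧ U ⊔ W = X ∧ AltT ρ U ∧ SymT ρ p W := by
  intro n
  induction n using Nat.strong_induction_on with
  | _ n ih =>
    intro X hn hX hnd
    by_cases hne : X = ⊥
    · exact ⟨⊥, ⊥, by simp, by simp [hne], bot_altT, bot_symT p⟩
    obtain ⟨P, hPX, hP0, hPnd, htype⟩ := find_piece (p := p) hcard B hBinv hX hnd hne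
    have hP : Inv ρ P := htype.elim (·.1) (·.1)
    let R : Submodule F V :=
      { carrier := {x | x ∈ X ∧ ∀ y ∈ P, B x y = 0}
        add_mem' := fun ha hb => ⟨X.add_mem ha.1 hb.1, fun s hs => by simp [ha.2 s hs, hb.2 s hs]⟩
        zero_mem' := ⟨X.zero_mem, fun s _ => by simp⟩
        smul_mem' := fun c a ha => ⟨X.smul_mem c ha.1, fun s hs => by simp [ha.2 s hs]⟩ }
    have hR : Inv ρ R := fun g u hu => ⟨hX g u hu.1, fun y hy => by
      rw [← inv_cancel (ρ := ρ) g y, hBinv]; exact hu.2 _ (hP _ y hy)⟩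
    have hsup : P ⊔ R = X := by
      refine le_antisymm (sup_le hPX fun x hx => hx.1) fun x hx => ?_
      obtain ⟨q, hq⟩ := hPnd.surj
        (LinearMap.comp (B x) P.subtype)
      refine Submodule.mem_sup.mpr ⟨q, q.2, x - q, ⟨X.sub_mem hx (hPX q.2), fun y hy => ?_⟩,
        add_sub_cancel _ _⟩
      have h1 : B (q : V) y = B x y := LinearMap.congr_fun hq ⟨y, hy⟩
      simp [h1]
    have hdis : Disjoint P R := by
      rw [Submodule.disjoint_def]
      exact fun x hxP hxR => hPnd x hxP hxR.2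
    have hRnd : ND B R := by
      intro x hx h0
      refine hnd x hx.1 fun y hy => ?_
      rw [← hsup] at hy
      obtain ⟨a, ha, b, hb, rfl⟩ := Submodule.mem_sup.mp hy
      rw [map_add, hx.2 a ha, h0 b hb, add_zero]
    have hlt : Module.finrank F R < n := by
      rw [← hn]
      apply Submodule.finrank_lt_finrank_of_lt
      refine lt_of_le_of_ne (fun x hx => hx.1) fun h => hP0 ?_
      exact disjoint_self.mp (Disjoint.mono_right (h.symm ▸ hPX) hdis)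
    obtain ⟨U, W, hd, hs, hU, hW⟩ := ih _ hlt R rfl hR hRnd
    have hd' : Disjoint U W := disjoint_iff.mpr hd
    have hU' : U ≤ R := hs ▸ le_sup_left
    have hW' : W ≤ R := hs ▸ le_sup_right
    rcases htype with h | h
    · refine ⟨P ⊔ U, W, ?_, by rw [sup_assoc, hs, hsup], h.sup hU (hdis.mono_right hU'), hW⟩
      exact disjoint_iff.mp (hd'.disjoint_sup_left_of_disjoint_sup_right (by rw [hs]; exact hdis))
    · refine ⟨U, P ⊔ W, ?_, ?_, hU, h.sup hW (hdis.mono_right hW')⟩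
      · rw [sup_comm P W]
        exact disjoint_iff.mp (hd'.disjoint_sup_right_of_disjoint_sup_left (by rw [hs]; exact hdis.symm))
      · rw [← sup_assoc, sup_comm U P, sup_assoc, hs, hsup]

theorem result {F : Type*} [Field F] [Fintype F] (p : ℕ) [Fact p.Prime] [CharP F p] {G : Type*} [Group G] [Finite G] (hcop : ¬ p ∣ Nat.card G) {V : Type*} [AddCommGroup V] [Module F V] [FiniteDimensional F V] (ρ : Representation F G V) (B : LinearMap.BilinForm F V) (hB : B.Nondegenerate) (hBinv : ∀ g : G, ∀ x y : V, B (ρ g x) (ρ g y) = B x y) : ∃ U W : Submodule F V, IsCompl U W ∧ (∀ g : G, ∀ u ∈ U, ρ g u ∈ U) ∧ (∀ g : G, ∀ w ∈ W, ρ g w ∈ W) ∧ (∃ A : LinearMap.BilinForm F V, (∀ x : V, A x x = 0) ∧ (∀ g : G, ∀ x ∈ U, ∀ y ∈ U, A (ρ g x) (ρ g y) = A x y) ∧ (∀ x ∈ U, (∀ y ∈ U, A x y = 0) → x = 0)) ∧ (∃ S : LinearMap.BilinForm F V, (∀ x y : V, S x y = S y x) ∧ (∀ g : G, ∀ x ∈ W, ∀ y ∈ W, S (ρ g x) (ρ g y) = S x y)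 ∧ (∀ x ∈ W, (∀ y ∈ W, S x y = 0) → x = 0)) ∧ (p = 2 → ∀ g : G, ∀ w ∈ W, ρ g w = w) := by
  have hcard : (Nat.card G : F) ≠ 0 := fun h => hcop ((CharP.cast_eq_zero_iff F p _).mp h)
  obtain ⟨U, W, hd, hs, ⟨hU, hA⟩, hW, hS, htriv⟩ := decomp (p := p) hcard B hBinv _ ⊤ rfl
    (fun _ _ _ => Submodule.mem_top)
    (fun x _ h => hB.1 x fun y => h y Submodule.mem_top)
  exact ⟨U, W, ⟨disjoint_iff.mpr hd, codisjoint_iff.mpr hs⟩, hU, hW, hA, hS, htriv⟩

end Cfsg.Agent.S4966
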