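import Cfsg.Statements.S4967
import Mathlib.RingTheory.IntegralDomain
import Mathlib.RingTheory.Adjoin.Basic
import Mathlib.LinearAlgebra.Dual.Lemmas
import Mathlib.GroupTheory.SpecificGroups.Cyclic
-- import your own Cfsg.Agent.* helpers here

set_option autoImplicit false
open Cfsg

namespace Cfsg.Agent.S4967

set_option maxHeartbeats 800000

variable {F : Type*} [Field F] [Fintype F] {H : Type*} [CommGroup H] [Finite H]
  {V : Type*} [AddCommGroup V] [Module F V] [FiniteDimensional F V]

lemma hom_facts (ρ : Representation F H V) (hfaith : Function.Injective ρ)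
    (hirr : ∀ U : Submodule F V, (∀ h : H, ∀ u ∈ U, ρ h u ∈ U) → U = ⊥ ∨ U = ⊤)
    [Nontrivial V] :
    IsCyclic H ∧ ((∃ B : LinearMap.BilinForm F V, B.Nondegenerate ∧
        ∀ h : H, ∀ x y : V, B (ρ h x) (ρ h y) = B x y) →
      (Nat.card H ≤ 2 ∨ (Even (Module.finrank F V) ∧
        Nat.card H ∣ Fintype.card F ^ (Module.finrank F V / 2) + 1)) ∧
      (Module.finrank F V = 1 → Nat.card H ≤ 2) ∧
      (2 ≤ Module.finrank F V → (Even (Module.finrank F V) ∧
        Nat.card H ∣ Fintype.card F ^ (Module.finrank F V / 2) + 1))) ∧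
    (Even (Module.finrank F V) → Nat.card H ∣ Fintype.card F ^ (Module.finrank F V / 2) + 1 →
      ∃ B : LinearMap.BilinForm F V, B.Nondegenerate ∧
        ∀ h : H, ∀ x y : V, B (ρ h x) (ρ h y) = B x y) := by
  classical
  let K : Subalgebra F (Module.End F V) := Algebra.adjoin F (Set.range ρ)
  have hρK : ∀ h, ρ h ∈ K := fun h => Algebra.subset_adjoin ⟨h, rfl⟩
  have hcomm : ∀ a ∈ K, ∀ b ∈ K, a * b = b * a := by
    refine fun a ha b hb => Algebra.commute_of_mem_adjoin_of_forall_mem_commute hb ?_
    rintro _ ⟨h, rfl⟩
    refine (Algebra.commute_of_mem_adjoin_of_forall_mem_commute ha ?_).symm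
    rintro _ ⟨h', rfl⟩
    show ρ h * ρ h' = ρ h' * ρ h
    rw [← map_mul, ← map_mul, mul_comm]
  let instCR : CommRing K :=
    { (inferInstance : Ring K) with mul_comm := fun a b => Subtype.ext (hcomm a a.2 b b.2) }
  have hker : ∀ a : K, a ≠ 0 → ∀ v, (a : Module.End F V) v = 0 → v = 0 := by
    intro a ha v hv
    rcases hirr (LinearMap.ker (a : Module.End F V)) (fun h u hu => by
      rw [LinearMap.mem_ker] at hu ⊢
      rw [← Module.End.mul_apply, hcomm a a.2 _ (hρK h), Module.End.mul_apply, hu, map_zero]) with h | h
    · have hvk : v ∈ LinearMap.ker (a : Module.End F V) := hv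
      rw [h] at hvk
      exact (Submodule.mem_bot F).mp hvk
    · exact absurd (Subtype.ext (LinearMap.ker_eq_top.mp h)) ha
  obtain ⟨v0, hv0⟩ := exists_ne (0 : V)
  let ev : K →ₗ[F] V :=
    { toFun := fun a => (a : Module.End F V) v0
      map_add' := fun a b => rfl
      map_smul' := fun c a => rfl }
  have hinj : Function.Injective ev := by
    rw [injective_iff_map_eq_zero]
    exact fun a ha => by_contra fun hne => hv0 (hker a hne v0 ha)
  have hsurj : Function.Surjective ev := by
    rcases hirr (LinearMap.range ev) (fun h u hu => by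
      obtain ⟨a, rfl⟩ := hu
      exact ⟨⟨ρ h * a, K.mul_mem (hρK h) a.2⟩, rfl⟩) with h | h
    · exfalso
      have : ev 1 = 0 := by
        have h1 : ev 1 ∈ LinearMap.range ev := ⟨1, rfl⟩
        rw [h] at h1
        exact (Submodule.mem_bot F).mp h1
      exact hv0 (by simpa [ev] using this)
    · exact LinearMap.range_eq_top.mp h
  let e : K ≃ₗ[F] V := LinearEquiv.ofBijective ev ⟨hinj, hsurj⟩
  have hdim : Module.finrank F K = Module.finrank F V := e.finrank_eq
  have : Finite V := Module.finite_of_finite F
  have : Finite K := Finite.of_equiv V e.symm.toEquiv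
  let instFK : Fintype K := Fintype.ofFinite K
  have : Nontrivial K := e.toEquiv.nontrivial
  have : NoZeroDivisors K := ⟨fun {a b} hab => by
    by_contra hne
    push Not at hne
    apply hne.2
    apply hinj
    rw [map_zero]
    exact hker a hne.1 _ (congrArg (fun z : K => (z : Module.End F V) v0) hab)⟩
  have : IsDomain K := NoZeroDivisors.to_isDomain K
  let instF : Field K := (Finite.isField_of_domain K).toField
  let r : H →* K :=
    { toFun := fun h => ⟨ρ h, hρK h⟩
      map_one' := Subtype.ext (map_one ρ)
      map_mul' := fun a b => Subtype.ext (map_mul ρ a b) }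
  have hr : Function.Injective r := fun a b h => hfaith (congrArg Subtype.val h)
  have hcyc : IsCyclic H := isCyclic_of_injective_ringHom r hr
  have hmul : ∀ a b : K, e (a * b) = (a : Module.End F V) (e b) := fun a b => rfl
  refine ⟨hcyc, ?_, ?_⟩
  · rintro ⟨B, hB, hBi⟩
    -- every element of K has an adjoint in K
    let A : Subalgebra F (Module.End F V) :=
      { carrier := {a | ∃ a' ∈ K, ∀ x y, B (a x) y = B x (a' y)}
        mul_mem' := fun {a b} ha hb => by
          obtain ⟨a', ha', e1⟩ := ha
          obtain ⟨b', hb', e2⟩ := hb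
          exact ⟨b' * a', K.mul_mem hb' ha', fun x y => by
            rw [Module.End.mul_apply, e1, e2, Module.End.mul_apply]⟩
        one_mem' := ⟨1, K.one_mem, fun x y => rfl⟩
        add_mem' := fun {a b} ha hb => by
          obtain ⟨a', ha', e1⟩ := ha
          obtain ⟨b', hb', e2⟩ := hb
          exact ⟨a' + b', K.add_mem ha' hb', fun x y => by simp [e1, e2]⟩
        zero_mem' := ⟨0, K.zero_mem, fun x y => by simp⟩
        algebraMap_mem' := fun c => ⟨_, K.algebraMap_mem c, fun x y => by simp⟩ }
    have hKA : K ≤ A := Algebra.adjoin_le (by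
      rintro _ ⟨h, rfl⟩
      refine ⟨ρ h⁻¹, hρK _, fun x y => ?_⟩
      conv_lhs => rw [show y = ρ h (ρ h⁻¹ y) by
        rw [← Module.End.mul_apply, ← map_mul, mul_inv_cancel, map_one, Module.End.one_apply]]
      rw [hBi])
    have hadj : ∀ a : K, ∃ a' : K, ∀ x y, B ((a : Module.End F V) x) y = B x ((a' : Module.End F V) y) :=
      fun a => by
        obtain ⟨a', ha', h⟩ := hKA a.2
        exact ⟨⟨a', ha'⟩, h⟩
    choose st hst using hadj
    have huniq : ∀ a b : K, (∀ x y, B ((a : Module.End F V) x) y = B x ((b : Module.End F V) y)) → st a = b := by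
      intro a b h
      apply Subtype.ext
      refine LinearMap.ext fun y => ?_
      rw [← sub_eq_zero]
      refine hB.2 _ fun x => ?_
      rw [map_sub, ← hst, h, sub_self]
    let σ : K →ₐ[F] K :=
      { toFun := st
        map_one' := huniq 1 1 fun x y => rfl
        map_mul' := fun a b => huniq _ _ fun x y => by
          show B ((a : Module.End F V) ((b : Module.End F V) x)) y =
            B x (((st a * st b : K) : Module.End F V) y)
          rw [hst, hst, mul_comm]
          rfl
        map_zero' := huniq 0 0 fun x y => by simp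
        map_add' := fun a b => huniq _ _ fun x y => by simp [hst]
        commutes' := fun c => huniq _ _ fun x y => by simp }
    have hσr : ∀ h, σ (r h) = r h⁻¹ := fun h => huniq _ _ fun x y => by
      show B (ρ h x) y = B x (ρ h⁻¹ y)
      conv_lhs => rw [show y = ρ h (ρ h⁻¹ y) by
        rw [← Module.End.mul_apply, ← map_mul, mul_inv_cancel, map_one, Module.End.one_apply]]
      rw [hBi]
    obtain ⟨⟨i, hi⟩, hσi⟩ := (FiniteField.bijective_frobeniusAlgHom_pow F K).2 σ
    have hσpow : ∀ a, σ a = a ^ (Fintype.card F ^ i) := by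
      intro a
      rw [← hσi]
      simp only [AlgHom.coe_pow, FiniteField.coe_frobeniusAlgHom, pow_iterate]
    -- σ is an involution
    have hσσ : σ.comp σ = AlgHom.id F K := by
      refine AlgHom.ext fun ⟨a, ha⟩ => Subtype.ext ?_
      show ((σ (σ ⟨a, ha⟩) : K) : Module.End F V) = a
      induction ha using Algebra.adjoin_induction with
      | mem x hx =>
        obtain ⟨h, rfl⟩ := hx
        show ((σ (σ (r h)) : K) : Module.End F V) = _
        rw [hσr, hσr, inv_inv]; rfl
      | algebraMap c =>
        show ((σ (σ (algebraMap F K c)) : K) : Module.End F V) = _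
        rw [AlgHom.commutes, AlgHom.commutes]; rfl
      | add x y hx hy ihx ihy =>
        show ((σ (σ (⟨x, hx⟩ + ⟨y, hy⟩ : K)) : K) : Module.End F V) = _
        rw [map_add, map_add, Subalgebra.coe_add, ihx, ihy]
      | mul x y hx hy ihx ihy =>
        show ((σ (σ (⟨x, hx⟩ * ⟨y, hy⟩ : K)) : K) : Module.End F V) = _
        rw [map_mul, map_mul, Subalgebra.coe_mul, ihx, ihy]
    have hord : Module.finrank F K ∣ 2 * i := by
      rw [← FiniteField.orderOf_frobeniusAlgHom F K, orderOf_dvd_iff_pow_eq_one, two_mul, pow_add,
        show FiniteField.frobeniusAlgHom F K ^ i = σ from hσi]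
      exact hσσ
    have hexp : ∀ h : H, h ^ (Fintype.card F ^ i + 1) = 1 := by
      intro h
      rw [pow_succ, ← hr.eq_iff, map_mul, map_pow, ← hσpow, hσr, ← map_mul, inv_mul_cancel]
    have hdvd : Nat.card H ∣ Fintype.card F ^ i + 1 := by
      rw [← IsCyclic.exponent_eq_card]
      exact Monoid.exponent_dvd_of_forall_pow_eq_one hexp
    have hcases : i = 0 ∨ 2 * i = Module.finrank F K := by
      obtain ⟨k, hk⟩ := hord
      rcases k with _ | _ | k
      · left; omega
      · right; omega
      · exfalso
        have : Module.finrank F K * (k + 1 + 1) ≥ 2 * Module.finrank F K := by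
          rw [mul_comm 2]; exact Nat.mul_le_mul_left _ (by omega)
        omega
    have h0 : i = 0 → Nat.card H ≤ 2 := fun h => by
      have hh : ∀ x : H, x ^ 2 = 1 := fun x => by simpa [h] using hexp x
      have : Nat.card H ∣ 2 := by
        rw [← IsCyclic.exponent_eq_card]
        exact Monoid.exponent_dvd_of_forall_pow_eq_one hh
      exact Nat.le_of_dvd (by norm_num) this
    have h0' : i = 0 → Module.finrank F V ≤ 1 := fun h => by
      have hsq : ∀ x : H, x ^ 2 = 1 := fun x => by simpa [h] using hexp x
      have hscalar : K ≤ (⊥ : Subalgebra F (Module.End F V)) := Algebra.adjoin_le (by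
        rintro _ ⟨x, rfl⟩
        have : r x * r x = 1 := by rw [← map_mul, ← pow_two, hsq, map_one]
        rcases mul_self_eq_one_iff.mp this with h1 | h1
        · have : ρ x = 1 := congrArg Subtype.val h1
          rw [SetLike.mem_coe, this]; exact Subalgebra.one_mem _
        · have : ρ x = -1 := congrArg Subtype.val h1
          rw [SetLike.mem_coe, this]; exact Subalgebra.neg_mem _ (Subalgebra.one_mem _))
      have hb : Module.finrank F (⊥ : Subalgebra F (Module.End F V)) = 1 := Subalgebra.finrank_bot
      calc Module.finrank F V = Module.finrank F K := hdim.symm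
        _ ≤ Module.finrank F (⊥ : Subalgebra F (Module.End F V)) :=
          Submodule.finrank_mono (show Subalgebra.toSubmodule K ≤ Subalgebra.toSubmodule ⊥ from hscalar)
        _ = 1 := hb
    have heven : 2 * i = Module.finrank F K → Even (Module.finrank F V) ∧
        Nat.card H ∣ Fintype.card F ^ (Module.finrank F V / 2) + 1 := fun h => by
      rw [← hdim, ← h]
      exact ⟨even_two_mul i, by rw [Nat.mul_div_cancel_left _ two_pos]; exact hdvd⟩
    refine ⟨hcases.imp h0 heven, fun h1 => ?_, fun h2 => heven (hcases.resolve_left fun h => by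
      have := h0' h; omega)⟩
    exact h0 (hcases.resolve_right fun h => by omega)
  · intro heven hdvd
    set m := Module.finrank F V / 2
    let σ := (FiniteField.frobeniusAlgHom F K) ^ m
    have hσpow : ∀ a : K, σ a = a ^ (Fintype.card F ^ m) := fun a => by
      simp only [σ, AlgHom.coe_pow, FiniteField.coe_frobeniusAlgHom, pow_iterate]
    obtain ⟨φ, hφ⟩ : ∃ φ : Module.Dual F K, φ 1 ≠ 0 := by
      by_contra h
      push Not at h
      exact one_ne_zero ((Module.forall_dual_apply_eq_zero_iff F (1 : K)).mp h)
    let B : LinearMap.BilinForm F V :=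
      LinearMap.mk₂ F (fun x y => φ (e.symm x * σ (e.symm y)))
        (fun a b c => by simp [add_mul]) (fun c a b => by simp)
        (fun a b c => by simp [mul_add]) (fun c a b => by simp)
    refine ⟨B, ⟨fun x hx => ?_, fun y hy => ?_⟩, fun h x y => ?_⟩
    · by_contra hne
      have ha : e.symm x ≠ 0 := by simpa using hne
      obtain ⟨b, hb⟩ := (Finite.injective_iff_surjective.mp σ.injective) (e.symm x)⁻¹
      have := hx (e b)
      simp only [B, LinearMap.mk₂_apply, LinearEquiv.symm_apply_apply] at this
      erw [hb] at this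
      rw [mul_inv_cancel₀ ha] at this
      exact hφ this
    · by_contra hne
      have ha : σ (e.symm y) ≠ 0 := by simpa using hne
      have := hy (e (σ (e.symm y))⁻¹)
      simp only [B, LinearMap.mk₂_apply, LinearEquiv.symm_apply_apply, inv_mul_cancel₀ ha] at this
      exact hφ this
    · have hstep : ∀ z, e.symm (ρ h z) = r h * e.symm z := fun z => by
        rw [LinearEquiv.symm_apply_eq, hmul, LinearEquiv.apply_symm_apply]; rfl
      have h1 : r h * σ (r h) = 1 := by
        rw [hσpow, ← map_pow, ← map_mul, ← pow_succ']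
        rw [orderOf_dvd_iff_pow_eq_one.mp ((orderOf_dvd_natCard h).trans hdvd), map_one]
      simp only [B, LinearMap.mk₂_apply, hstep, map_mul]
      rw [mul_mul_mul_comm, h1, one_mul]

/-- Let F be a finite field with r elements and of characteristic p, H a finite abelian group of order prime to p, and V a faithful irreducible representation of H over F of dimension n (faithful: distinct elements act differently; irreducible: the only H-invariant subspaces are 0 and V). Call V self-dual when it carries a nondegenerate H-invariant bilinear form. If n = 1 and V is self-dual then H has order at most 2. If n ≥ 2 then V is self-dual if and only if n is even and the order of H divides r^(n/2) + 1. -/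
theorem result {F : Type*} [Field F] [Fintype F] (p : ℕ) [Fact p.Prime] [CharP F p] {H : Type*} [CommGroup H] [Finite H] (hcop : ¬ p ∣ Nat.card H) {V : Type*} [AddCommGroup V] [Module F V] [FiniteDimensional F V] (ρ : Representation F H V) (hfaith : Function.Injective ρ) (hirr : ∀ U : Submodule F V, (∀ h : H, ∀ u ∈ U, ρ h u ∈ U) → U = ⊥ ∨ U = ⊤) : (Module.finrank F V = 1 → (∃ B : LinearMap.BilinForm F V, B.Nondegenerate ∧ ∀ h : H, ∀ x y : V, B (ρ h x) (ρ h y) = B x y) → Nat.card H ≤ 2) ∧ (2 ≤ Module.finrank F V → ((∃ B : LinearMap.BilinForm F V, B.Nondegenerate ∧ ∀ h : H, ∀ x y : V, B (ρ h x) (ρ h y) = B x y) ↔ (Even (Module.finrank F V) ∧ Nat.card H ∣ Fintype.card F ^ (Module.finrank F V / 2) + 1))) := by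
  constructor
  · intro h1 hsd
    have : Nontrivial V := Module.nontrivial_of_finrank_pos (R := F) (by omega)
    exact ((hom_facts ρ hfaith hirr).2.1 hsd).2.1 h1
  · intro h2
    have : Nontrivial V := Module.nontrivial_of_finrank_pos (R := F) (by omega)
    exact ⟨fun hsd => ((hom_facts ρ hfaith hirr).2.1 hsd).2.2 h2,
      fun h => (hom_facts ρ hfaith hirr).2.2 h.1 h.2⟩

end Cfsg.Agent.S4967
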