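import Cfsg.Statements.S4978
import Cfsg.Agent.BC85.AutPGroup.Main
import Cfsg.Agent.BC85.Star.NilpotentMain

set_option autoImplicit false
open Cfsg

namespace Cfsg.Agent.S4978

/-- Let p be a prime and B a p-block of the finite group G (relative to a maximal ideal M of the algebraic integers containing p) with a nontrivial defect group D whose automorphism group is a p-group (for a p-group D this is the same as its outer automorphism group being a p-group). Then the number of irreducible characters of height zero in B is divisible by p; if p > 3 this number is at least 2p, and if moreover p ≡ 3 (mod 4) it is at least 3p. -/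
theorem result {G : Type*} [Group G] [Finite G] (p : ℕ) [Fact p.Prime] (M : Ideal Cfsg.AlgInt) (hM : Cfsg.IsPModular p M) (B : Set (Cfsg.IrrCharacter G)) (hB : Cfsg.IsPBlock M B) (D : Subgroup G) (hD : Cfsg.IsDefectGroup p M B D) (hD1 : D ≠ ⊥) (hAut : IsPGroup p (MulAut ↥D)) : p ∣ Nat.card {χ : Cfsg.IrrCharacter G // χ ∈ B ∧ Cfsg.blockHeight p B (χ : G → ℂ) = 0} ∧ (3 < p → 2 * p ≤ Nat.card {χ : Cfsg.IrrCharacter G // χ ∈ B ∧ Cfsg.blockHeight p B (χ : G → ℂ) = 0}) ∧ (3 < p → p % 4 = 3 → 3 * p ≤ Nat.card {χ : Cfsg.IrrCharacter G // χ ∈ B ∧ Cfsg.blockHeight p B (χ : G → ℂ) = 0}) := by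
  classical
  have := Fintype.ofFinite G
  have := BlocksCore.isPrime hM
  have hp : p.Prime := Fact.out
  have hd1 : 1 ≤ blockDefect p B := by
    rw [Nat.one_le_iff_ne_zero]
    intro h0
    have h := BlocksDefect.defectGroup_natCard hM hB hD
    rw [h0, pow_zero] at h
    exact hD1 (Subgroup.card_eq_one.mp h)
  rcases le_or_gt p 3 with hp3 | hp3
  · exact ⟨BC85.AutPGroup.dvd_card_small hM hB hd1 hp3, fun h => absurd h (by omega),
      fun h => absurd h (by omega)⟩
  have hp5 : 5 ≤ p := by
    rcases eq_or_ne p 4 with rfl | h4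
    · exact absurd hp (by norm_num)
    · omega
  obtain ⟨e, hmax⟩ := BC85.Star.exists_maximal_of_defect hM hB hD
  have hF := BC85.isBlockFusionSystemOn_blockFusion hM hmax
  have hsat := BC85.blockFusion_isSaturated hM hF
  have hfoc := LocalEven62.focal_lt_of_autGroup_isPGroup hp5 hmax.1.1.1 hsat hD1
    (hAut.to_subgroup _)
  obtain ⟨r, hr, h2, h3⟩ := BC85.AutPGroup.orbit_count hM hmax hF hfoc
    (BC85.AutPGroup.two_le_defect hM hD hB hAut hD1 (by omega))
  refine ⟨⟨r, hr⟩, fun _ => ?_, fun _ h4 => ?_⟩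
  · rw [hr, mul_comm p r]
    exact Nat.mul_le_mul_right _ h2
  · rw [hr, mul_comm p r]
    exact Nat.mul_le_mul_right _ (h3 h4)

end Cfsg.Agent.S4978
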