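import Cfsg.Statements.S4989
import Cfsg.Agent.Blocks88.Basic
-- import your own Cfsg.Agent.* helpers here

set_option autoImplicit false
open Cfsg

namespace Cfsg.Agent.S4989

/-- Let H be a subgroup of the finite group G and χ an irreducible complex character of G. Then the inner product of the restriction of χ to H with itself, (1/#H)·Σ_{h ∈ H} |χ(h)|², is at most 1 + #(Z ∖ H)/#H, where Z is the set of zeros of χ in G. -/
theorem result {G : Type*} [Group G] [Finite G] (H : Subgroup G) (χ : Cfsg.IrrCharacter G) : (Nat.card ↥H : ℝ)⁻¹ * ∑ᶠ h : ↥H, ‖(χ : G → ℂ) h‖ ^ 2 ≤ 1 + (Set.ncard ({x : G | (χ : G → ℂ) x = 0} \ (H : Set G)) : ℝ) / (Nat.card ↥H : ℝ) := by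
  classical
  have := Fintype.ofFinite G
  have := Fintype.ofFinite H
  let S : Finset G := Finset.univ.filter fun x => x ∉ H ∧ (χ : G → ℂ) x ≠ 0
  have hchar := CharCore.irr_isCharacter χ
  have hS : (S.card : ℝ) ≤ ∑ x ∈ S, ‖(χ : G → ℂ) x ^ 2‖ := by
    refine Blocks88.card_le_sum_norm S _ (fun x _ => (CharCore.IsCharacter.isIntegral hchar x).pow 2)
      (fun x hx => pow_ne_zero 2 (Finset.mem_filter.mp hx).2.2) fun σ => ?_
    obtain ⟨m, hm, hσ⟩ := CharClifford.exists_coprime_map_isCharacter hchar σ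
    refine ⟨fun x => x ^ m, fun x hx => ?_,
      (CharClifford.bijective_pow_of_coprime hm).injective.injOn, fun x _ => by rw [map_pow, hσ]⟩
    obtain ⟨-, hxH, hx0⟩ := Finset.mem_filter.mp hx
    refine Finset.mem_filter.mpr ⟨Finset.mem_univ _, fun hH => hxH ?_, ?_⟩
    · obtain ⟨k, hk⟩ := exists_pow_eq_self_of_coprime (x := x) (n := m)
        (hm.coprime_dvd_right (orderOf_dvd_natCard x))
      rw [← hk]
      exact H.pow_mem hH k
    · rw [← hσ]
      exact fun h => hx0 (σ.injective (h.trans σ.map_zero.symm))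
  have htot : ∑ x : G, ‖(χ : G → ℂ) x‖ ^ 2 = (Nat.card G : ℝ) := by
    have h := CharCore.classInner_irr_self χ
    simp only [Cfsg.classInner, Complex.mul_conj'] at h
    rw [inv_mul_eq_one₀ (Nat.cast_ne_zero.mpr Nat.card_pos.ne')] at h
    exact_mod_cast h.symm
  let Hs : Finset G := Finset.univ.filter (· ∈ H)
  have hH : (Nat.card H : ℝ)⁻¹ * ∑ᶠ h : H, ‖(χ : G → ℂ) h‖ ^ 2 =
      (Nat.card H : ℝ)⁻¹ * ∑ x ∈ Hs, ‖(χ : G → ℂ) x‖ ^ 2 := by
    rw [finsum_eq_sum_of_fintype, Finset.sum_subtype Hs (p := (· ∈ H)) (by simp [Hs])]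
  rw [hH]
  have hZ : (Set.ncard ({x : G | (χ : G → ℂ) x = 0} \ (H : Set G)) : ℕ) =
      (Finset.univ.filter fun x => (χ : G → ℂ) x = 0 ∧ x ∉ H).card := by
    rw [← Set.ncard_coe_finset]
    congr 1
    ext x; simp
  rw [hZ]
  have hsplit : ∑ x : G, ‖(χ : G → ℂ) x‖ ^ 2 =
      ∑ x ∈ Hs, ‖(χ : G → ℂ) x‖ ^ 2 + ∑ x ∈ S, ‖(χ : G → ℂ) x‖ ^ 2 := by
    rw [← Finset.sum_filter_add_sum_filter_not Finset.univ (· ∈ H)]
    congr 1
    rw [Finset.sum_filter, Finset.sum_filter]
    refine Finset.sum_congr rfl fun x _ => ?_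
    by_cases hx : x ∈ H <;> by_cases h0 : (χ : G → ℂ) x = 0 <;> simp [hx, h0]
  have hcard : (Nat.card G : ℝ) = Nat.card H + S.card +
      ((Finset.univ.filter fun x => (χ : G → ℂ) x = 0 ∧ x ∉ H).card : ℝ) := by
    have h1 : Nat.card H = Hs.card := by
      rw [Nat.card_eq_fintype_card, ← Finset.card_univ]
      exact (Finset.card_bij (fun (h : H) _ => (h : G)) (fun h _ => by simp [Hs])
        (fun a _ b _ e => Subtype.ext e) (fun x hx => ⟨⟨x, by simpa [Hs] using hx⟩, Finset.mem_univ _, rfl⟩))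
    have h2 : Nat.card G = Hs.card + (S.card +
        (Finset.univ.filter fun x => (χ : G → ℂ) x = 0 ∧ x ∉ H).card) := by
      rw [← Finset.card_union_of_disjoint (Finset.disjoint_left.mpr fun x hx hx' =>
        (Finset.mem_filter.mp hx).2.2 (Finset.mem_filter.mp hx').2.1),
        ← Finset.card_union_of_disjoint (Finset.disjoint_left.mpr fun x hx hx' => ?_),
        Nat.card_eq_fintype_card, ← Finset.card_univ]
      · congr 1
        ext x
        simp only [Hs, S, Finset.mem_univ, Finset.mem_union, Finset.mem_filter, true_and, true_iff]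
        tauto
      · simp only [Hs, S, Finset.mem_union, Finset.mem_filter, Finset.mem_univ, true_and] at hx hx'
        tauto
    rw [h2, h1]
    push_cast
    ring
  have hpos : (0 : ℝ) < Nat.card H := by exact_mod_cast Nat.card_pos
  have hS' : (S.card : ℝ) ≤ ∑ x ∈ S, ‖(χ : G → ℂ) x‖ ^ 2 := by simpa [norm_pow] using hS
  rw [inv_mul_eq_div, ← div_self hpos.ne', ← add_div]
  exact div_le_div_of_nonneg_right (by linarith) hpos.le

end Cfsg.Agent.S4989
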