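-- Statement S4990 (row 4990): characters in a block of a finite solvable group.
import Cfsg.Statements.S4990
import Cfsg.Agent.KB64.Group
import Cfsg.Agent.KB64.OverCount
import Cfsg.Agent.BlkChar.HeightCenter

set_option autoImplicit false
set_option linter.style.haveILetI false
open Cfsg

namespace Cfsg.Agent.S4990

open BlocksCore BlocksDefect BlkChar.Fong
open scoped Classical

universe u

/-- Classes of a solvable group with trivial `O_{p'}`, in any universe. -/
theorem classes_le {Q : Type u} [Group Q] [Finite Q] (p : ℕ) [Fact p.Prime]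
    (hsolv : Group.IsSolvable Q) (hO : ∀ N : Subgroup Q, N.Normal → ¬ p ∣ Nat.card N → N = ⊥)
    {d : ℕ} (hd : (Nat.card Q).factorization p = d) (hd0 : 0 < d) :
    Nat.card (ConjClasses Q) ≤ 3 ^ (d - 1) * p ^ d := by
  obtain ⟨n, ⟨e₀⟩⟩ := Finite.exists_equiv_fin Q
  let e : {i : Fin n // i = i} ≃ Q :=
    (Equiv.subtypeUnivEquiv fun i => rfl).trans e₀.symm
  letI : Group {i : Fin n // i = i} := e.group
  let φ : {i : Fin n // i = i} ≃* Q := Equiv.mulEquiv e
  haveI : Group.IsSolvable {i : Fin n // i = i} :=
    Group.isSolvable_of_surjective (f := φ.symm.toMonoidHom) φ.symm.surjective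
  have hO' : Cfsg.pPrimeCore p {i : Fin n // i = i} = ⊥ := by
    haveI : (Cfsg.pPrimeCore p {i : Fin n // i = i}).Normal := inferInstance
    have h1 := hO ((Cfsg.pPrimeCore p {i : Fin n // i = i}).map φ.toMonoidHom)
      (Subgroup.Normal.map inferInstance _ φ.surjective) (by
        rw [← Nat.card_congr ((Cfsg.pPrimeCore p {i : Fin n // i = i}).equivMapOfInjective φ.toMonoidHom
          φ.injective).toEquiv]
        exact Thompson.not_dvd_card_pPrimeCore)
    exact (Subgroup.map_eq_bot_iff_of_injective _ φ.injective).mp h1
  have h := KB64.three_mul_kk_group (p := p) (G := {i : Fin n // i = i}) inferInstance hO'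
    (d := d) (by rw [Nat.card_congr φ.toEquiv]; exact hd) hd0
  rw [CG26.Symp.kk_congr φ] at h
  refine Nat.le_of_mul_le_mul_left (h.trans (le_of_eq ?_)) (by norm_num : 0 < 3)
  obtain ⟨m, rfl⟩ : ∃ m, d = m + 1 := ⟨d - 1, by omega⟩
  rw [Nat.add_sub_cancel]
  ring

theorem bound {p : ℕ} [hp : Fact p.Prime] {M : Ideal AlgInt} (hM : IsPModular p M) :
    ∀ (n : ℕ) (G : Type u) [Group G] [Fintype G], Nat.card G ≤ n → Group.IsSolvable G →
      ∀ B : Set (IrrCharacter G), IsPBlock M B → 0 < blockDefect p B →
        Set.ncard B ≤ 3 ^ (blockDefect p B - 1) * p ^ blockDefect p B := by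
  have := isPrime hM
  intro n
  induction n with
  | zero => exact fun G _ _ hn => absurd hn (Nat.not_le.mpr Nat.card_pos)
  | succ n ih =>
    intro G _ _ hn hsol B hB hd
    haveI := hsol
    have hps : IsPSolvable p G := OddLocal44.isPSolvable_of_isSolvable
    set K := pPrimeCore p G with hKdef
    letI := Fintype.ofFinite K
    have hKp : ¬ p ∣ Nat.card K := Thompson.not_dvd_card_pPrimeCore
    obtain ⟨χ, hχ⟩ := isPBlock_nonempty hB
    obtain ⟨θ, hθ⟩ := exists_constituent_irr (N := K) χ
    set T : Subgroup G :=
      { carrier := {g | conjIrr g θ = θ}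
        one_mem' := Subtype.ext (conjFun_one _)
        mul_mem' := fun {a c} ha hc => by
          show conjIrr (a * c) θ = θ
          rw [← conjIrr_conjIrr, show conjIrr a θ = θ from ha]
          exact hc
        inv_mem' := fun {a} ha => by
          show conjIrr a⁻¹ θ = θ
          conv_lhs => rw [← show conjIrr a θ = θ from ha]
          rw [conjIrr_inv_self] } with hT
    letI := Fintype.ofFinite T
    by_cases htop : T = ⊤
    · have hinv : CharDeep.Ext.Inv K (θ : K → ℂ) := fun g m => by
        have hg : g ∈ T := htop ▸ Subgroup.mem_top g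
        exact congrFun (congrArg Subtype.val (show conjIrr g θ = θ from hg)) m
      obtain ⟨B₀, hB₀, hmem, hsyl, -⟩ := single_block hM hps K hKdef θ hinv
      have hBB : B = B₀ := isPBlock_eq_of_mem hB hB₀ hχ ((hmem χ).mpr hθ)
      subst hBB
      have hdef : blockDefect p B = (Nat.card G).factorization p := by
        obtain ⟨P⟩ := (inferInstance : Nonempty (Sylow p G))
        have h1 := defectGroup_natCard hM hB (hsyl P)
        rw [P.card_eq_multiplicity] at h1
        exact (Nat.pow_right_injective hp.out.two_le h1).symm
      have hset : B = {χ : IrrCharacter G | IsConstituent χ θ} := Set.ext hmem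
      have hcount : Set.ncard B ≤ Nat.card (ConjClasses (G ⧸ K)) := by
        rw [hset, ← Nat.card_coe_set_eq]
        exact KB64.card_over_le K θ hinv
      refine hcount.trans (classes_le p inferInstance (fun N hN hNp => ?_) ?_ hd)
      · have hle : N.comap (QuotientGroup.mk' K) ≤ K := by
          refine Thompson.le_pPrimeCore inferInstance ?_
          refine Nat.Coprime.symm ?_
          rw [hp.out.coprime_iff_not_dvd]
          intro hdvd
          rw [← Subgroup.relIndex_bot_left (N.comap (QuotientGroup.mk' K)),
            ← Subgroup.relIndex_mul_relIndex (⊥ : Subgroup G) K _ bot_le (fun x hx => by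
              show QuotientGroup.mk' K x ∈ N
              rw [show QuotientGroup.mk' K x = 1 from (QuotientGroup.eq_one_iff x).mpr hx]
              exact one_mem _),
            Subgroup.relIndex_bot_left, Thompson.relIndex_eq_card_map_mk',
            Subgroup.map_comap_eq_self_of_surjective (QuotientGroup.mk'_surjective K)] at hdvd
          exact (hp.out.dvd_mul.mp hdvd).elim hKp hNp
        rw [← Subgroup.map_comap_eq_self_of_surjective (QuotientGroup.mk'_surjective K) N,
          Subgroup.map_eq_bot_iff, QuotientGroup.ker_mk']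
        exact hle
      · rw [hdef, Subgroup.card_eq_card_quotient_mul_card_subgroup K,
          Nat.factorization_mul Nat.card_pos.ne' Nat.card_pos.ne', Finsupp.add_apply,
          Nat.factorization_eq_zero_of_not_dvd hKp, add_zero]
    · have hb : IsPBlock M ({θ} : Set (IrrCharacter K)) := by
        have h4 : blockOf M (θ : K → ℂ) = {θ} := blockOf_eq_singleton_of_not_dvd hM θ
          fun h => hKp (h.trans (Nat.div_dvd_of_dvd (BlocksCore.charDegree_dvd_card θ)))
        exact h4 ▸ isPBlock_blockOf θ
      have hStab : IsBlockStab T ({θ} : Set (IrrCharacter K)) := fun g =>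
        ⟨fun hg η hη => by
          rw [Set.mem_singleton_iff] at hη ⊢
          rw [hη]; exact hg,
        fun h => h θ rfl⟩
      have hKT : K ≤ T := fun k hk => Subtype.ext (funext fun m => by
        have h := irr_class θ m ⟨k, hk⟩
        exact (congrArg (θ : K → ℂ) (Subtype.ext rfl)).trans h)
      obtain ⟨ψ, hψ, hχψ⟩ := exists_indIrr_of_constituent hKT hb hStab (θ := θ) rfl hθ
      have hind := isInducedBlock_blockOf hKT hM hb hStab hψ
      set B' := blockOf M (ψ : T → ℂ)
      have hBB : blockOf M (indIrr hKT hb hStab hψ : G → ℂ) = B := by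
        rw [← hχψ]
        exact (isPBlock_eq_blockOf hB hχ).symm
      rw [hBB] at hind
      obtain ⟨hdd, -⟩ := blockDefect_and_height hKT hM hb hStab hind (mem_blockOf_self ψ) hψ
      have hlt : Nat.card T ≤ n := by
        have h1 : Nat.card T ≠ Nat.card G := fun h => htop (Subgroup.card_eq_iff_eq_top T |>.mp h)
        have h2 : Nat.card T ≤ Nat.card G :=
          Nat.le_of_dvd Nat.card_pos (Subgroup.card_subgroup_dvd_card T)
        omega
      have hiff := mem_induced_iff hKT hM hb hStab hind (mem_blockOf_self ψ) hψ
      choose f hf using fun c (hc : c ∈ B) => (hiff c).mp hc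
      have hcard : Set.ncard B ≤ Set.ncard B' := by
        refine Set.ncard_le_ncard_of_injOn (fun c => if hc : c ∈ B then f c hc else ψ) ?_ ?_
          (Set.toFinite _)
        · intro c hc
          simp only [dif_pos hc]
          exact (hf c hc).1
        · intro a ha b hb' hab
          simp only [dif_pos ha, dif_pos hb'] at hab
          exact Subtype.ext ((hf a ha).2.trans (hab ▸ (hf b hb').2.symm))
      rw [hdd] at hd ⊢
      exact hcard.trans (ih T hlt inferInstance B' hind.1 hd)

/-- Let G be a finite solvable group, p a prime, M a maximal ideal of the algebraic integers containing p, and B a p-block of G of positive defect d. Then B contains at most 3^{d−1}·p^d irreducible complex characters. -/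
theorem result {G : Type*} [Group G] [Finite G] (hsolv : Group.IsSolvable G) (p : ℕ) [Fact p.Prime] (M : Ideal Cfsg.AlgInt) (hM : Cfsg.IsPModular p M) (B : Set (Cfsg.IrrCharacter G)) (hB : Cfsg.IsPBlock M B) (hd : 0 < Cfsg.blockDefect p B) : Set.ncard B ≤ 3 ^ (Cfsg.blockDefect p B - 1) * p ^ Cfsg.blockDefect p B := by
  haveI := Fintype.ofFinite G
  exact bound hM (Nat.card G) G le_rfl hsolv B hB hd

end Cfsg.Agent.S4990
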