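import Cfsg.Statements.S4993
import Cfsg.Agent.PrimClass.Main

set_option autoImplicit false
open Cfsg

namespace Cfsg.Agent.S4993

/-- Let G be a group of odd order whose order has exactly two prime divisors and whose quotient by its Fitting subgroup is nilpotent (G is metanilpotent), and let χ be a primitive irreducible complex character of G (not induced from a character of any proper subgroup). Then χ(1) divides the size of some conjugacy class of G. -/
theorem result {G : Type*} [Group G] [Fintype G] (hodd : Odd (Nat.card G)) (h2 : (Nat.card G).primeFactors.card = 2) [hF : (Cfsg.fittingSubgroup G).Normal] (hmeta : Group.IsNilpotent (G ⧸ Cfsg.fittingSubgroup G)) (χ : Cfsg.IrrCharacter G) (hprim : ¬ ∃ (H : Subgroup G), H ≠ ⊤ ∧ ∃ θ : ↥H → ℂ, Cfsg.IsCharacter ↥H θ ∧ Cfsg.indFun H θ = (χ : G → ℂ)) : ∃ g : G, Cfsg.charDegree (χ : G → ℂ) ∣ (Subgroup.centralizer ({g} : Set G)).index := by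
  classical
  have hnil : Group.IsNilpotent (Cfsg.fittingSubgroup G) := Fitting.fitting_isNilpotent
  have hsol : Group.IsSolvable G := by
    haveI := hnil
    haveI := hmeta
    haveI : Group.IsSolvable (Cfsg.fittingSubgroup G) := inferInstance
    haveI : Group.IsSolvable (G ⧸ Cfsg.fittingSubgroup G) := inferInstance
    exact Group.isSolvable_of_ker_le_range (Cfsg.fittingSubgroup G).subtype
      (QuotientGroup.mk' (Cfsg.fittingSubgroup G)) (by simp)
  have hsec : ∀ r : ℕ, Fact r.Prime →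
      PrimClass.SectionBound G r 2 {g : G | ∃ k : ℕ, g ^ r ^ k = 1} := by
    intro r hr L hL V hVn hc hmin hp
    letI := PrimClass.commOf V hc
    intro hnt
    haveI : Nontrivial V := (Subgroup.nontrivial_iff_ne_bot V).mpr hmin.1
    set φ := PrimClass.act V with hφ
    set π := QuotientGroup.mk' L with hπ
    have hFn : ((Cfsg.fittingSubgroup G).map π).Normal :=
      hF.map π (QuotientGroup.mk'_surjective L)
    have hF1 : ∀ x ∈ Cfsg.fittingSubgroup G, φ x = 1 := by
      intro x hx
      have hn : Group.IsNilpotent ↥((Cfsg.fittingSubgroup G).map π) := by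
        haveI := hnil
        exact Group.nilpotent_of_surjective _
          (MonoidHom.subgroupMap_surjective π (Cfsg.fittingSubgroup G))
      have h0 := PrimClass.commutator_eq_bot_of_minimal V _ hmin hn
      ext v
      rw [PrimClass.act_coe]
      have h1 := Subgroup.mem_bot.mp (h0 ▸ Subgroup.commutator_mem_commutator v.2
        (Subgroup.mem_map_of_mem π hx))
      rw [← (commutatorElement_eq_one_iff_mul_comm.mp h1), mul_inv_cancel_right]
      rfl
    have hrange : Group.IsNilpotent φ.range := by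
      haveI := hmeta
      refine Group.nilpotent_of_surjective
        (QuotientGroup.lift (Cfsg.fittingSubgroup G) φ.rangeRestrict
          (fun x hx => Subtype.ext (hF1 x hx))) ?_
      exact QuotientGroup.lift_surjective_of_surjective _ _ φ.rangeRestrict_surjective _
    have hirr := PrimClass.irr_of_minimal V hc hmin
    have h := PrimClass.sum_fix_nilpotent φ hp hirr hnt hrange
    rw [PrimClass.expo, Subgroup.card_top] at h
    have e : ∑ g : G, PrimClass.dfix r V g =
        ∑ g : G, PrimClass.expo r (PrimClass.fix φ g) := rfl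
    refine ⟨by rw [e]; omega, fun s hs => ?_⟩
    haveI := hrange
    haveI : Finite φ.range := Finite.of_surjective _ φ.rangeRestrict_surjective
    obtain ⟨P⟩ : Nonempty (Sylow r φ.range) := inferInstance
    haveI : (P : Subgroup φ.range).Normal :=
      Sylow.normal_of_normalizerCondition Group.normalizerCondition_of_isNilpotent P
    refine PrimClass.trivial_of_pgroup φ hp hirr ((P : Subgroup φ.range).comap φ.rangeRestrict)
      (fun g hg => ?_) s ?_
    · obtain ⟨k, hk⟩ := P.2 ⟨φ.rangeRestrict g, hg⟩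
      exact ⟨k, congrArg Subtype.val (congrArg Subtype.val hk)⟩
    · obtain ⟨k, hk⟩ := hs
      have hs' : IsPGroup r (Subgroup.zpowers (φ.rangeRestrict s)) := by
        rintro ⟨_, m, rfl⟩
        refine ⟨k, Subtype.ext ?_⟩
        rw [SubgroupClass.coe_pow, Subgroup.coe_one, ← zpow_natCast, ← zpow_mul, mul_comm,
          zpow_mul, zpow_natCast, ← map_pow, hk, map_one, one_zpow]
      obtain ⟨Q, hQ⟩ := hs'.exists_le_sylow
      have hPQ : Q = P := by
        haveI := Sylow.unique_of_normal P inferInstance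
        exact Subsingleton.elim _ _
      exact (hPQ ▸ hQ (Subgroup.mem_zpowers _) : φ.rangeRestrict s ∈ (P : Subgroup φ.range))
  obtain ⟨p, q, hpq, hpf⟩ := Finset.card_eq_two.mp h2
  have hp : p.Prime := Nat.prime_of_mem_primeFactors (by rw [hpf]; simp)
  have hq : q.Prime := Nat.prime_of_mem_primeFactors (by rw [hpf]; simp)
  haveI := Fact.mk hp
  haveI := Fact.mk hq
  obtain ⟨fp, hfp1, hfp2, gp, hgp⟩ := PrimClass.exists_weight_top p 2 _ (hsec p ⟨hp⟩) hsol χ hprim
  obtain ⟨fq, hfq1, hfq2, gq, hgq⟩ := PrimClass.exists_weight_top q 2 _ (hsec q ⟨hq⟩) hsol χ hprim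
  obtain ⟨D, -, hdvd, hD⟩ := CharClifford.exists_degree_dvd_card χ.2
  have hcard : ∀ g : G, ∃ x y : G, g = x * y ∧ (∃ k : ℕ, x ^ q ^ k = 1) ∧ ∃ k : ℕ, y ^ p ^ k = 1 := by
    intro g
    set a := (Nat.card G).factorization p
    set b := (Nat.card G).factorization q
    have hn : Nat.card G = p ^ a * q ^ b := by
      conv_lhs => rw [← Nat.prod_factorization_pow_eq_self (Nat.card_pos (α := G)).ne']
      rw [Nat.prod_factorization_eq_prod_primeFactors, hpf, Finset.prod_pair hpq]
    have hcop : Nat.Coprime (p ^ a) (q ^ b) := ((Nat.coprime_primes hp hq).mpr hpq).pow a b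
    have hbez := Nat.gcd_eq_gcd_ab (p ^ a) (q ^ b)
    rw [hcop.gcd_eq_one] at hbez
    have hg1 : g ^ ((p ^ a * q ^ b : ℕ) : ℤ) = 1 := by rw [zpow_natCast, ← hn, pow_card_eq_one']
    refine ⟨g ^ (((p ^ a : ℕ) : ℤ) * Nat.gcdA (p ^ a) (q ^ b)),
      g ^ (((q ^ b : ℕ) : ℤ) * Nat.gcdB (p ^ a) (q ^ b)), ?_, ⟨b, ?_⟩, ⟨a, ?_⟩⟩
    · rw [← zpow_add, ← hbez, Nat.cast_one, zpow_one]
    · rw [← zpow_natCast, ← zpow_mul, mul_right_comm, zpow_mul, ← Nat.cast_mul, hg1, one_zpow]
    · rw [← zpow_natCast, ← zpow_mul, mul_right_comm, zpow_mul, ← Nat.cast_mul, mul_comm (q ^ b),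
        hg1, one_zpow]
  obtain ⟨x₁, y₁, rfl, hx₁, hy₁⟩ := hcard gp
  obtain ⟨x₂, y₂, rfl, hx₂, hy₂⟩ := hcard gq
  refine ⟨x₁ * y₂, ?_⟩
  rw [(hfp2 y₁ hy₁ x₁).2, ← (hfp2 y₂ hy₂ x₁).2] at hgp
  rw [(hfq2 x₂ hx₂ y₂).1, ← (hfq2 x₁ hx₁ y₂).1] at hgq
  have hdeg : Cfsg.charDegree (χ : G → ℂ) = D := by
    rw [Cfsg.charDegree, hD, Complex.natCast_re, Nat.floor_natCast]
  rw [hdeg] at hgp hgq ⊢
  have hD0 : D ≠ 0 := by rintro rfl; simp at hdvd
  refine (Nat.factorization_le_iff_dvd hD0 Subgroup.index_ne_zero_of_finite).mp fun r => ?_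
  rcases eq_or_ne r p with rfl | hrp
  · have := hfp1 (x₁ * y₂); omega
  rcases eq_or_ne r q with rfl | hrq
  · have := hfq1 (x₁ * y₂); omega
  rcases eq_or_ne (D.factorization r) 0 with h0 | h0
  · omega
  · have h1 : r ∈ (Nat.card G).primeFactors :=
      Nat.primeFactors_mono hdvd Nat.card_pos.ne' (Finsupp.mem_support_iff.mpr h0)
    rw [hpf] at h1
    simp [hrp, hrq] at h1

end Cfsg.Agent.S4993
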