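import Cfsg.Statements.S4994
import Cfsg.Agent.PrimClass.Main

set_option autoImplicit false
open Cfsg

namespace Cfsg.Agent.S4994

/-- Let G be a finite solvable group, χ a primitive irreducible complex character of G (not induced from a character of any proper subgroup) and p a prime dividing the order of G. Then there is an element g of G such that the p-part of χ(1) divides the cube of the p-part of the size of the conjugacy class of g. -/
theorem result {G : Type*} [Group G] [Fintype G] (hsolv : Group.IsSolvable G) (χ : Cfsg.IrrCharacter G) (hprim : ¬ ∃ (H : Subgroup G), H ≠ ⊤ ∧ ∃ θ : ↥H → ℂ, Cfsg.IsCharacter ↥H θ ∧ Cfsg.indFun H θ = (χ : G → ℂ)) (p : ℕ) [Fact p.Prime] (hp : p ∣ Nat.card G) : ∃ g : G, (Cfsg.charDegree (χ : G → ℂ)).factorization p ≤ 3 * ((Subgroup.centralizer ({g} : Set G)).index).factorization p := by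
  have hsec : PrimClass.SectionBound G p 4 (∅ : Set G) := by
    intro L hL V hVn hc hmin hp
    letI := PrimClass.commOf V hc
    intro hnt
    haveI : Nontrivial V := (Subgroup.nontrivial_iff_ne_bot V).mpr hmin.1
    haveI := hsolv
    have h := PrimClass.sum_fix_solvable (PrimClass.act V) hp (PrimClass.irr_of_minimal V hc hmin)
      hnt (Group.isSolvable_of_surjective (PrimClass.act V).rangeRestrict_surjective)
    rw [PrimClass.expo, Subgroup.card_top] at h
    have e : ∑ g : G, PrimClass.dfix p V g =
        ∑ g : G, PrimClass.expo p (PrimClass.fix (PrimClass.act V) g) := rfl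
    refine ⟨by rw [e]; omega, fun s hs => absurd hs (Set.notMem_empty s)⟩
  obtain ⟨f, hf1, -, g, hg⟩ :=
    PrimClass.exists_weight_top p 4 (∅ : Set G) hsec hsolv χ hprim
  exact ⟨g, by have := hf1 g; omega⟩

end Cfsg.Agent.S4994
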