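import Cfsg.Statements.S4996
import Cfsg.Agent.Blocks88.Basic
import Cfsg.Agent.Lib.CharCore.Linear
-- import your own Cfsg.Agent.* helpers here

set_option autoImplicit false
open Cfsg

namespace Cfsg.Agent.S4996

/-- Let N be a normal subgroup of the finite group G and χ an irreducible complex character of G. Then the restriction of χ to N is not irreducible if and only if χ vanishes on some whole coset Nx of N in G. -/
theorem result {G : Type*} [Group G] [Finite G] (N : Subgroup G) [N.Normal] (χ : Cfsg.IrrCharacter G) : ¬ Cfsg.IsIrrCharacter ↥N (fun n : ↥N => (χ : G → ℂ) n) ↔ ∃ x : G, ∀ n : ↥N, (χ : G → ℂ) ((n : G) * x) = 0 := by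
  classical
  have := Fintype.ofFinite G
  have := Fintype.ofFinite N
  have := Fintype.ofFinite (G ⧸ N)
  have hchar := CharCore.irr_isCharacter χ
  have hres : Cfsg.IsCharacter ↥N (fun n : ↥N => (χ : G → ℂ) n) :=
    CharCore.isCharacter_restrict hchar N
  have hψ : Cfsg.IsCharacter G (fun g => (χ : G → ℂ) g * starRingEnd ℂ ((χ : G → ℂ) g)) :=
    CharCore.isCharacter_mul hchar (CharCore.IsCharacter.star hchar)
  obtain ⟨A, hA, hAval⟩ := Blocks88.exists_deflation N hψ
  simp only [finsum_eq_sum_of_fintype] at hAval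
  have hne : (Nat.card N : ℂ) ≠ 0 := Nat.cast_ne_zero.mpr Nat.card_pos.ne'
  have hA1 : A 1 = Cfsg.classInner (fun n : ↥N => (χ : G → ℂ) n) (fun n : ↥N => (χ : G → ℂ) n) := by
    rw [← QuotientGroup.mk_one, hAval]
    simp [Cfsg.classInner]
  have hnonneg : ∀ x : G, A (QuotientGroup.mk x) =
      (((Nat.card N : ℝ)⁻¹ * ∑ n : ↥N, ‖(χ : G → ℂ) (n * x)‖ ^ 2 : ℝ) : ℂ) := fun x => by
    rw [hAval]; simp [Complex.mul_conj']
  have hzero : ∀ x : G, A (QuotientGroup.mk x) = 0 ↔ ∀ n : ↥N, (χ : G → ℂ) (n * x) = 0 := by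
    intro x
    rw [hnonneg, Complex.ofReal_eq_zero, mul_eq_zero]
    simp [Finset.sum_eq_zero_iff_of_nonneg (fun (n : ↥N) _ => sq_nonneg ‖(χ : G → ℂ) (n * x)‖)]
  constructor
  · intro hred
    by_contra hno
    push Not at hno
    have hnz : ∀ q : G ⧸ N, A q ≠ 0 := by
      intro q
      obtain ⟨x, rfl⟩ := QuotientGroup.mk_surjective q
      rw [Ne, hzero]
      push Not
      exact hno x
    obtain ⟨e, he⟩ : ∃ e : ℕ, A 1 = e := CharCore.IsCharacter.exists_degree hA
    have he2 : 2 ≤ e := by
      by_contra h2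
      rcases (by omega : e = 0 ∨ e = 1) with rfl | rfl
      · exact hnz 1 (by simpa using he)
      · exact hred (CharCore.isIrrCharacter_iff.mpr ⟨hres, by rw [← hA1, he, Nat.cast_one]⟩)
    have hsum : ∑ q : G ⧸ N, ‖A q‖ = (Nat.card (G ⧸ N) : ℝ) := by
      have h1 : ∀ q : G ⧸ N, A q = (‖A q‖ : ℂ) := by
        intro q
        obtain ⟨x, rfl⟩ := QuotientGroup.mk_surjective q
        rw [hnonneg, Complex.norm_real, Real.norm_of_nonneg (by positivity)]
      have htot : ∑ q : G ⧸ N, A q = (Nat.card (G ⧸ N) : ℂ) := by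
        have hfib : ∀ q : G ⧸ N, A q =
            (Nat.card N : ℂ)⁻¹ * ∑ n : ↥N, (χ : G → ℂ) (n * q.out) * starRingEnd ℂ ((χ : G → ℂ) (n * q.out)) :=
          fun q => by conv_lhs => rw [← QuotientGroup.out_eq' q, hAval]
        have hnorm := CharCore.classInner_irr_self χ
        simp only [Cfsg.classInner] at hnorm
        rw [inv_mul_eq_one₀ (Nat.cast_ne_zero.mpr Nat.card_pos.ne')] at hnorm
        simp only [hfib, ← Finset.mul_sum]
        rw [inv_mul_eq_iff_eq_mul₀ hne, ← Nat.cast_mul, mul_comm,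
          ← Subgroup.card_eq_card_quotient_mul_card_subgroup, hnorm]
        rw [← Finset.sum_product']
        refine Finset.sum_bij (fun (z : (G ⧸ N) × ↥N) _ => (z.2 : G) * z.1.out)
          (fun _ _ => Finset.mem_univ _) (fun a _ b _ h => ?_) (fun g _ => ?_) (fun _ _ => rfl)
        · have hq : a.1 = b.1 := by
            have := congrArg (QuotientGroup.mk : G → G ⧸ N) h
            simpa [QuotientGroup.mk_mul, (QuotientGroup.eq_one_iff _).mpr a.2.2,
              (QuotientGroup.eq_one_iff _).mpr b.2.2] using this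
          rw [hq] at h
          exact Prod.ext hq (Subtype.ext (mul_right_cancel h))
        · refine ⟨(QuotientGroup.mk g, ⟨g * (QuotientGroup.mk g : G ⧸ N).out⁻¹, ?_⟩),
            Finset.mem_univ _, by simp⟩
          rw [← QuotientGroup.eq_one_iff, QuotientGroup.mk_mul, QuotientGroup.mk_inv,
            QuotientGroup.out_eq', mul_inv_cancel]
      have := congrArg Complex.re htot
      rw [Finset.sum_congr rfl (fun q _ => h1 q)] at this
      simpa using this
    let S : Finset (G ⧸ N) := Finset.univ.erase 1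
    have hS : (S.card : ℝ) ≤ ∑ q ∈ S, ‖A q‖ := by
      refine Blocks88.card_le_sum_norm S A (fun q _ => CharCore.IsCharacter.isIntegral hA q)
        (fun q _ => hnz q) fun σ => ?_
      obtain ⟨m, hm, hσ⟩ := CharClifford.exists_coprime_map_isCharacter hA σ
      have hinj := (CharClifford.bijective_pow_of_coprime (G := G ⧸ N) hm).injective
      refine ⟨fun q => q ^ m, fun q hq => ?_, hinj.injOn, fun q _ => hσ q⟩
      refine Finset.mem_erase.mpr ⟨fun h => (Finset.mem_erase.mp hq).1 (hinj ?_), Finset.mem_univ _⟩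
      simpa using h
    rw [← Finset.add_sum_erase _ _ (Finset.mem_univ (1 : G ⧸ N))] at hsum
    have hcard : (S.card : ℝ) = (Nat.card (G ⧸ N) : ℝ) - 1 := by
      rw [Finset.card_erase_of_mem (Finset.mem_univ _), Finset.card_univ, ← Nat.card_eq_fintype_card,
        Nat.cast_sub Nat.card_pos]
      simp
    have he' : (2 : ℝ) ≤ ‖A 1‖ := by
      rw [he, Complex.norm_natCast]; exact_mod_cast he2
    linarith
  · rintro ⟨x, hx⟩ hirr
    have h0 : A (QuotientGroup.mk x) = 0 := (hzero x).mpr hx
    have h1 : A 1 = 1 := by rw [hA1, (CharCore.isIrrCharacter_iff.mp hirr).2]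
    obtain ⟨f, hf⟩ := CharCore.IsCharacter.exists_hom_of_degree_one hA h1
    rw [hf] at h0
    exact Units.ne_zero _ h0

end Cfsg.Agent.S4996
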