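import Cfsg.Statements.S4997
import Cfsg.Agent.BC86.VanMain

set_option autoImplicit false
open Cfsg

namespace Cfsg.Agent.S4997

/-- Let p be an odd prime and G a finite solvable group with exactly one conjugacy class consisting of vanishing elements (elements at which some irreducible complex character is zero) of order divisible by p. Let P be a Sylow p-subgroup of G. Then the order of P is at most p times the order of the largest normal p-subgroup of G. -/
theorem result {G : Type*} [Group G] [Finite G] (hsolv : Group.IsSolvable G) (p : ℕ) [Fact p.Prime] (hp : p ≠ 2) (h1 : Set.ncard {C : ConjClasses G | (∀ g ∈ C.carrier, ∃ χ : Cfsg.IrrCharacter G, (χ : G → ℂ) g = 0) ∧ ∃ g ∈ C.carrier, p ∣ orderOf g} = 1) (P : Sylow p G) : Nat.card ↥(P : Subgroup G) ≤ p * Nat.card ↥(Cfsg.pCore p G) := by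
  classical
  have hp' : p.Prime := Fact.out
  set R := Cfsg.pCore p G
  haveI : R.Normal := Fitting.pCore_normal p
  haveI := hsolv
  let π := QuotientGroup.mk' R
  have hπ : Function.Surjective π := QuotientGroup.mk'_surjective R
  obtain ⟨C₀, hC₀⟩ := Set.ncard_eq_one.mp h1
  have hcl : ∀ x : G, BC86.Vanishing.Van x → p ∣ orderOf x → ConjClasses.mk x = C₀ := by
    intro x hx hpx
    have h : ConjClasses.mk x ∈ {C : ConjClasses G |
        (∀ g ∈ C.carrier, ∃ χ : Cfsg.IrrCharacter G, (χ : G → ℂ) g = 0) ∧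
          ∃ g ∈ C.carrier, p ∣ orderOf g} := by
      refine ⟨fun g hg => ?_, x, ConjClasses.mem_carrier_mk, hpx⟩
      obtain ⟨χ, hχ⟩ := hx
      obtain ⟨c, hc⟩ := isConj_iff.mp (ConjClasses.mk_eq_mk_iff_isConj.mp
        (ConjClasses.mem_carrier_iff_mk_eq.mp hg))
      refine ⟨χ, ?_⟩
      have := CharCore.irr_isClassFunction χ g c
      rw [hc, hχ] at this
      exact this.symm
    rw [hC₀] at h
    exact h
  have hb : ∀ x y : G, BC86.Vanishing.Van x → BC86.Vanishing.Van y → p ∣ orderOf x →
      p ∣ orderOf y → orderOf x = orderOf y := by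
    intro x y hx hy hpx hpy
    obtain ⟨c, hc⟩ := isConj_iff.mp
      (ConjClasses.mk_eq_mk_iff_isConj.mp ((hcl x hx hpx).trans (hcl y hy hpy).symm))
    rw [← hc]
    exact (MulEquiv.orderOf_eq (MulAut.conj c) x).symm
  have hH : BC86.Vanishing.Hyp p G := by
    refine ⟨fun x y hx hy hpx hpy => by rw [hb x y hx hy hpx hpy], fun x k hk hx hxp => ?_⟩
    by_contra hne
    have hk2 : 2 ≤ k := by
      by_contra h
      apply hne
      rw [← orderOf_dvd_iff_pow_eq_one, hk]
      exact (pow_dvd_pow p (by omega : k ≤ 1)).trans (by rw [pow_one])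
    obtain ⟨j, rfl⟩ : ∃ j, k = j + 2 := ⟨k - 2, by omega⟩
    have h2 : orderOf (x ^ p) = p ^ (j + 1) := by
      rw [orderOf_pow' _ hp'.ne_zero, hk, Nat.gcd_eq_right (dvd_pow_self p (by omega)),
        pow_succ, Nat.mul_div_cancel _ hp'.pos]
    have e := hb x (x ^ p) hx hxp (hk ▸ dvd_pow_self p (by omega))
      (h2 ▸ dvd_pow_self p (by omega))
    rw [h2, hk] at e
    have := Nat.pow_right_injective hp'.two_le e
    omega
  have hle : Nat.card ↥((P : Subgroup G).map π) ≤ p :=
    BC86.Vanishing.card_sylow_le hp' _ (G ⧸ R) rfl inferInstance (hH.map π hπ hp')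
      Thompson.pCore_quotient_pCore (P.mapSurjective hπ)
  have hRP : R ≤ (P : Subgroup G) := Fitting.pCore_le_sylow P
  have hcard : Nat.card ↥((P : Subgroup G).map π) * Nat.card R = Nat.card (P : Subgroup G) := by
    have h1 := Subgroup.card_mul_index (R.subgroupOf (P : Subgroup G))
    rw [Nat.card_congr (Subgroup.subgroupOfEquivOfLe hRP).toEquiv, mul_comm] at h1
    have h2 : (R.subgroupOf (P : Subgroup G)) = (π.subgroupMap (P : Subgroup G)).ker := by
      ext x
      rw [Subgroup.mem_subgroupOf, MonoidHom.mem_ker, ← QuotientGroup.eq_one_iff]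
      exact ⟨fun h => Subtype.ext h, fun h => congrArg Subtype.val h⟩
    rw [h2, Subgroup.index_ker, MonoidHom.range_eq_top.mpr (π.subgroupMap_surjective _),
      Subgroup.card_top] at h1
    exact h1
  rw [← hcard]
  exact Nat.mul_le_mul_right _ hle

end Cfsg.Agent.S4997
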