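import Cfsg.Statements.S5001
import Cfsg.Agent.Blocks88.Defect
import Cfsg.Agent.Lib.CharCore.Linear
-- import your own Cfsg.Agent.* helpers here

set_option autoImplicit false
open Cfsg

namespace Cfsg.Agent.S5001

/-- Let p be a prime, G a finite group and B a p-block of G (relative to a maximal ideal M of the algebraic integers containing p) with defect group D. Let Z be a central p-subgroup of G contained in D and λ a linear character of Z (a homomorphism to the nonzero complex numbers). Say an irreducible character χ of G lies over λ when χ(z) = χ(1)λ(z) for all z ∈ Z. If some irreducible character in B lying over λ has height zero, then λ extends to a linear character of D. -/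
theorem result {G : Type*} [Group G] [Finite G] (p : ℕ) [Fact p.Prime] (M : Ideal Cfsg.AlgInt) (hM : Cfsg.IsPModular p M) (B : Set (Cfsg.IrrCharacter G)) (hB : Cfsg.IsPBlock M B) (D : Subgroup G) (hD : Cfsg.IsDefectGroup p M B D) (Z : Subgroup G) (hZc : Z ≤ Subgroup.center G) (hZp : IsPGroup p ↥Z) (hZD : Z ≤ D) (lam : ↥Z →* ℂˣ) (χ : Cfsg.IrrCharacter G) (hχ : χ ∈ B) (hover : (∀ z : ↥Z, (χ : G → ℂ) z = (χ : G → ℂ) 1 * (lam z : ℂ))) (h0 : Cfsg.blockHeight p B (χ : G → ℂ) = 0) : (∃ μ : ↥D →* ℂˣ, ∀ z : ↥Z, μ ⟨(z : G), hZD z.2⟩ = lam z) := by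
  classical
  have := Fintype.ofFinite G
  have := Fintype.ofFinite D
  have := BlocksCore.isPrime hM
  obtain ⟨g, hg, hS⟩ := BlocksDefect.isDefectGroup_iff.mp hD
  have hgD : g ∈ Subgroup.centralizer (D : Set G) := fun u hu =>
    (BlocksDefect.IsSylowCent.le_centralizer hS hu g rfl).symm
  have hchar : IsCharacter G (χ : G → ℂ) := CharCore.irr_isCharacter χ
  have hscal : ∀ (z : Z) (x : G), (χ : G → ℂ) ((z : G) * x) = (lam z : ℂ) * (χ : G → ℂ) x := by
    intro z x
    obtain ⟨n, ρ, hi, hρ⟩ := χ.2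
    have hn : 0 < n := by simpa using CharCore.finrank_pos_of_irreducible ρ
    have h1 : (χ : G → ℂ) 1 = (n : ℂ) := by rw [← hρ]; simp
    have hnorm : ‖ρ.character (z : G)‖ = (Module.finrank ℂ (Fin n → ℂ) : ℝ) := by
      rw [hρ, hover z, h1, norm_mul, CharCore.norm_hom_apply, mul_one]
      simp
    obtain ⟨c, hc⟩ := (CharCore.norm_character_eq_iff ρ (z : G)).mp hnorm
    have hmul : ∀ y, ρ.character ((z : G) * y) = c * ρ.character y := fun y => by
      show LinearMap.trace ℂ _ (ρ ((z : G) * y)) = c * LinearMap.trace ℂ _ (ρ y)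
      rw [map_mul, hc, show ((c • LinearMap.id : Module.End ℂ (Fin n → ℂ)) * ρ y) = c • ρ y from
        LinearMap.ext fun v => rfl, map_smul, smul_eq_mul]
    have hc1 := hmul 1
    rw [mul_one, hρ, hover z, h1, mul_comm] at hc1
    have hcz : c = (lam z : ℂ) :=
      (mul_right_cancel₀ (Nat.cast_ne_zero.mpr hn.ne' : (n : ℂ) ≠ 0) hc1).symm
    rw [← hρ, hmul, hcz]
  let f : D → ℂ := fun u => (χ : G → ℂ) (g * u)
  have hf : IsClassFunction D f := by
    intro u v
    show (χ : G → ℂ) (g * ((v : G) * u * (v : G)⁻¹)) = (χ : G → ℂ) (g * u)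
    rw [← CharCore.irr_isClassFunction χ (g * (u : G)) (v : G)]
    congr 1
    have hgv : (v : G) * g = g * v := hgD v v.2
    rw [← mul_assoc (v : G), hgv]
    simp [mul_assoc]
  have hint : ∀ μ : IrrCharacter D, MemLocalRing M (classInner f (μ : D → ℂ)) :=
    fun μ => BlocksCore.memLocalRing_of_isIntegral
      (Blocks88.isIntegral_twisted_average hchar g D hgD (CharCore.irr_isCharacter μ))
  have hexp := congrFun (CharCore.eq_sum_classInner hf) 1
  simp only [Finset.sum_apply, Pi.smul_apply, smul_eq_mul] at hexp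
  have hfone : f 1 = (χ : G → ℂ) g := by simp [f]
  rw [hfone] at hexp
  obtain ⟨μ, hμ1, hμ0⟩ : ∃ μ : IrrCharacter D, (μ : D → ℂ) 1 = 1 ∧ classInner f (μ : D → ℂ) ≠ 0 := by
    by_contra hno
    push Not at hno
    apply Blocks88.apply_notMem_of_height_zero hM hB hg hχ h0
    rw [hexp]
    refine BlocksCore.memLocalIdeal_sum fun μ _ => ?_
    obtain ⟨d, -, hdD, hd⟩ := CharClifford.exists_degree_dvd_card μ.2
    rw [hS.natCard] at hdD
    obtain ⟨e, -, rfl⟩ := (Nat.dvd_prime_pow (Fact.out : p.Prime)).mp hdD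
    rcases Nat.eq_zero_or_pos e with rfl | he
    · rw [hno μ (by simpa using hd), zero_mul]
      exact BlocksCore.memLocalIdeal_zero
    · rw [hd]
      exact BlocksCore.memLocalIdeal_mul_left (hint μ)
        ((BlocksCore.memLocalIdeal_natCast_iff hM _).mpr (dvd_pow_self p he.ne'))
  obtain ⟨h, hh⟩ := CharCore.IsCharacter.exists_hom_of_degree_one (CharCore.irr_isCharacter μ) hμ1
  refine ⟨h, fun z => ?_⟩
  let zD : D := ⟨(z : G), hZD z.2⟩
  have hfz : ∀ u : D, f (zD * u) = (lam z : ℂ) * f u := by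
    intro u
    show (χ : G → ℂ) (g * ((z : G) * u)) = _
    rw [← mul_assoc, Subgroup.mem_center_iff.mp (hZc z.2) g, mul_assoc, hscal]
  have hshift : classInner f (μ : D → ℂ) =
      (lam z : ℂ) * starRingEnd ℂ ((h zD : ℂˣ) : ℂ) * classInner f (μ : D → ℂ) := by
    simp only [classInner, hh]
    conv_lhs => rw [← Equiv.sum_comp (Equiv.mulLeft zD)]
    simp only [Equiv.coe_mulLeft, hfz, map_mul, Units.val_mul, Finset.mul_sum]
    exact Finset.sum_congr rfl fun u _ => by ring
  have hone : (lam z : ℂ) * starRingEnd ℂ ((h zD : ℂˣ) : ℂ) = 1 :=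
    (mul_eq_right₀ hμ0).mp hshift.symm
  have hn := CharCore.norm_hom_apply h zD
  apply Units.ext
  calc ((h zD : ℂˣ) : ℂ) = ((lam z : ℂ) * starRingEnd ℂ ((h zD : ℂˣ) : ℂ)) * (h zD : ℂ) := by
        rw [hone, one_mul]
    _ = (lam z : ℂ) * (((h zD : ℂˣ) : ℂ) * starRingEnd ℂ ((h zD : ℂˣ) : ℂ)) := by ring
    _ = (lam z : ℂ) := by rw [Complex.mul_conj', hn]; simp

end Cfsg.Agent.S5001
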