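import Cfsg.Statements.S5011
-- import your own Cfsg.Agent.* helpers here

set_option autoImplicit false
open Cfsg

namespace Cfsg.Agent.S5011

/-- Let G be a finite non-abelian simple group and ρ an irreducible complex representation of G on a space of dimension greater than one (irreducible in the sense that the only subspaces invariant under every ρ(x) are 0 and the whole space). Then for every non-identity element g of G, the centralizer of g does not act irreducibly: there is a non-zero proper subspace invariant under ρ(c) for every c commuting with g. -/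
theorem result {G : Type*} [Group G] [Finite G] [IsSimpleGroup G]
    (hG : ¬ IsMulCommutative G) {V : Type*} [AddCommGroup V] [Module ℂ V] [FiniteDimensional ℂ V]
    (ρ : Representation ℂ G V)
    (hirr : ∀ W : Submodule ℂ V, (∀ x : G, ∀ v ∈ W, ρ x v ∈ W) → W = ⊥ ∨ W = ⊤)
    (hdim : 1 < Module.finrank ℂ V) (g : G) (hg : g ≠ 1) :
    ∃ W : Submodule ℂ V, W ≠ ⊥ ∧ W ≠ ⊤ ∧ ∀ c ∈ Subgroup.centralizer ({g} : Set G), ∀ v ∈ W, ρ c v ∈ W := by
  have hnt : Nontrivial V := Module.nontrivial_of_finrank_pos (R := ℂ) (by omega)
  obtain ⟨μ, hμ⟩ := Module.End.exists_eigenvalue (ρ g)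
  refine ⟨Module.End.eigenspace (ρ g) μ, hμ, ?_, ?_⟩
  · intro htop
    have hall : ∀ v : V, ρ g v = μ • v := fun v => by
      have : v ∈ Module.End.eigenspace (ρ g) μ := htop ▸ Submodule.mem_top
      exact Module.End.mem_eigenspace_iff.mp this
    let K : Subgroup G :=
      { carrier := {x | ∃ a : ℂ, ∀ v, ρ x v = a • v}
        one_mem' := ⟨1, fun v => by simp⟩
        mul_mem' := fun {x y} hx hy => by
          obtain ⟨a, ha⟩ := hx; obtain ⟨b, hb⟩ := hy
          exact ⟨a * b, fun v => by rw [map_mul, Module.End.mul_apply, hb, map_smul, ha, smul_smul, mul_comm]⟩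
        inv_mem' := fun {x} hx => by
          obtain ⟨a, ha⟩ := hx
          refine ⟨a⁻¹, fun v => ?_⟩
          have h1 : ρ x (ρ x⁻¹ v) = v := by
            rw [← Module.End.mul_apply, ← map_mul, mul_inv_cancel, map_one, Module.End.one_apply]
          rw [ha] at h1
          rcases eq_or_ne a 0 with h0 | h0
          · obtain ⟨w, hw⟩ := exists_ne (0 : V)
            exfalso
            apply hw
            have h2 : ρ x⁻¹ (ρ x w) = w := by
              rw [← Module.End.mul_apply, ← map_mul, inv_mul_cancel, map_one, Module.End.one_apply]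
            rw [ha, h0, zero_smul, map_zero] at h2
            exact h2.symm
          · calc ρ x⁻¹ v = a⁻¹ • (a • ρ x⁻¹ v) := by rw [smul_smul, inv_mul_cancel₀ h0, one_smul]
              _ = a⁻¹ • v := by rw [h1] }
    have hKn : K.Normal := ⟨fun n hn x => by
      obtain ⟨a, ha⟩ := hn
      refine ⟨a, fun v => ?_⟩
      rw [map_mul, map_mul, Module.End.mul_apply, Module.End.mul_apply, ha, map_smul,
        ← Module.End.mul_apply, ← map_mul, mul_inv_cancel, map_one, Module.End.one_apply]⟩
    have hK : K = ⊤ := (hKn.eq_bot_or_eq_top).resolve_left fun hb => by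
      have hgK : g ∈ K := ⟨μ, hall⟩
      rw [hb] at hgK
      exact hg (Subgroup.mem_bot.mp hgK)
    obtain ⟨w, hw⟩ := exists_ne (0 : V)
    rcases hirr (Submodule.span ℂ {w}) (fun x v hv => by
      obtain ⟨a, ha⟩ := (hK ▸ Subgroup.mem_top x : x ∈ K)
      rw [ha]; exact Submodule.smul_mem _ a hv) with h | h
    · exact hw (by simpa using h)
    · have : Module.finrank ℂ V = 1 := by
        rw [← finrank_top ℂ V, ← h, finrank_span_singleton hw]
      omega
  · intro c hc v hv
    rw [Module.End.mem_eigenspace_iff] at hv ⊢
    have hcg : g * c = c * g := hc g rfl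
    rw [← Module.End.mul_apply, ← map_mul, hcg, map_mul, Module.End.mul_apply, hv, map_smul]

end Cfsg.Agent.S5011
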