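import Cfsg.Statements.S5013
import Cfsg.Agent.Lib.RootSubgroups.Basic

set_option autoImplicit false
open Cfsg

namespace Cfsg.Agent.S5013

/-- In a rank one group with unipotent subgroups A and B (conjugation written g H g⁻¹), for every non-identity a in A the non-identity b in B with b⁻¹ A b = a⁻¹ B a is unique, every non-identity b in B arises in this way from exactly one such a (so a ↦ b(a) is a bijection between the non-identity elements of A and of B), and no non-identity element of A normalizes B (and vice versa). -/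
theorem result {G : Type*} [Group G] {A B : Subgroup G} (h : Cfsg.IsRankOnePair A B) :
    (∀ a ∈ A, a ≠ 1 → ∃! b : G, b ∈ B ∧ b ≠ 1 ∧ Cfsg.conjBy A b⁻¹ = Cfsg.conjBy B a⁻¹) ∧
    (∀ b ∈ B, b ≠ 1 → ∃! a : G, a ∈ A ∧ a ≠ 1 ∧ Cfsg.conjBy A b⁻¹ = Cfsg.conjBy B a⁻¹) ∧
    A ⊓ Subgroup.normalizer (B : Set G) = ⊥ ∧ B ⊓ Subgroup.normalizer (A : Set G) = ⊥ := by
  open Cfsg.Agent.RootSubgroups in
  have norm : ∀ {P Q : Subgroup G}, Cfsg.IsRankOnePair P Q →
      P ⊓ Subgroup.normalizer (Q : Set G) = ⊥ := by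
    intro P Q hP
    rw [Subgroup.eq_bot_iff_forall]
    exact fun x hx => eq_one_of_normalizes hP hx.1 (conjBy_of_mem_normalizer hx.2)
  refine ⟨fun a ha ha1 => ?_, fun b hb hb1 => ?_, norm h, norm (RankOnePair_symm h)⟩
  · obtain ⟨b, hb, hb1, he⟩ := h.cond_left a ha ha1
    exact ⟨b, ⟨hb, hb1, he⟩, fun b' hb' =>
      RootSubgroups.partner_unique h hb'.1 hb (hb'.2.2.trans he.symm)⟩
  · obtain ⟨a, ha, ha1, he⟩ := h.cond_right b hb hb1
    exact ⟨a, ⟨ha, ha1, he.symm⟩, fun a' ha' =>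
      RootSubgroups.partner_unique (RankOnePair_symm h) ha'.1 ha (ha'.2.2.symm.trans he.symm)⟩

end Cfsg.Agent.S5013
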