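import Cfsg.Statements.S5015
import Cfsg.Agent.Lib.RootSubgroups.Basic

set_option autoImplicit false
open Cfsg

namespace Cfsg.Agent.S5015

/-- Let a group Y act doubly transitively on a set Ω with at least three points, and suppose that the stabilizer of a point α contains a nilpotent subgroup A, normalized by that stabilizer, which acts regularly on the points other than α. Then for any y in Y moving α, the subgroups A and y A y⁻¹ are the unipotent subgroups of a rank one group, and the normal closure of A in Y (the subgroup generated by all conjugates of A) is generated by A and y A y⁻¹ alone. -/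
theorem result {Y Ω : Type*} [Group Y] [MulAction Y Ω]
    (h2 : MulAction.IsMultiplyPretransitive Y Ω 2) (hΩ : 3 ≤ ENat.card Ω) (α : Ω) (A : Subgroup Y)
    (hA : A ≤ MulAction.stabilizer Y α) (hAn : ∀ y ∈ MulAction.stabilizer Y α, Cfsg.conjBy A y = A)
    (hnil : Group.IsNilpotent A) (hreg : ∀ β γ : Ω, β ≠ α → γ ≠ α → ∃! a : Y, a ∈ A ∧ a • β = γ)
    (y : Y) (hy : y ∉ MulAction.stabilizer Y α) :
    Cfsg.IsRankOnePair A (Cfsg.conjBy A y) ∧ Subgroup.normalClosure (A : Set Y) = A ⊔ Cfsg.conjBy A y := by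
  obtain ⟨β, hβdef⟩ : ∃ β, β = y • α := ⟨_, rfl⟩
  have hy' : β ≠ α := fun e => hy (MulAction.mem_stabilizer_iff.2 (hβdef.symm.trans e))
  have hwd : ∀ g g' : Y, g • α = g' • α → Cfsg.conjBy A g = Cfsg.conjBy A g' := by
    intro g g' he
    have hs : g'⁻¹ * g ∈ MulAction.stabilizer Y α := by
      rw [MulAction.mem_stabilizer_iff, mul_smul, he, inv_smul_smul]
    calc Cfsg.conjBy A g = Cfsg.conjBy (Cfsg.conjBy A (g'⁻¹ * g)) g' := by
          rw [RootSubgroups.conjBy_conjBy, mul_inv_cancel_left]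
      _ = _ := by rw [hAn _ hs]
  obtain ⟨γ, hγα, hγβ⟩ : ∃ γ, γ ≠ α ∧ γ ≠ β := by
    by_contra hcon
    push Not at hcon
    have hsub : (Set.univ : Set Ω) ⊆ {α, β} := by
      intro γ _
      by_cases hγ : γ = α
      · exact Or.inl hγ
      · exact Or.inr (hcon γ hγ)
    have h1 := Set.encard_le_encard hsub
    rw [Set.encard_univ] at h1
    have h3 : (3 : ℕ∞) ≤ 2 := hΩ.trans (h1.trans ((Set.encard_insert_le _ _).trans (by rw [Set.encard_singleton]; rfl)))
    exact absurd (ENat.natCast_le_natCast.1 h3) (by norm_num)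
  obtain ⟨a₀, ⟨ha₀, ha₀β⟩, -⟩ := hreg β γ hy' hγα
  have ha₀1 : a₀ ≠ 1 := by rintro rfl; exact hγβ (by rw [← ha₀β, one_smul])
  have hfree : ∀ a ∈ A, a • β = β → a = 1 := fun a ha he =>
    ((hreg β β hy' hy').unique ⟨ha, he⟩ ⟨one_mem _, one_smul _ _⟩)
  have hfix : ∀ a ∈ A, a • α = α := fun a ha => hA ha
  have hBfix : ∀ b ∈ Cfsg.conjBy A y, b • β = β := by
    intro b hb
    have h1 := hfix _ (RootSubgroups.mem_conjBy.1 hb)
    rw [mul_smul, mul_smul, ← hβdef, inv_smul_eq_iff] at h1
    exact h1.trans hβdef.symm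
  have hBreg : ∀ δ ε : Ω, δ ≠ β → ε ≠ β → ∃ b ∈ Cfsg.conjBy A y, b • δ = ε := by
    intro δ ε hδ hε
    have hmove : ∀ δ : Ω, δ ≠ β → y⁻¹ • δ ≠ α := by
      intro δ hδ e; apply hδ; rw [hβdef, ← e, smul_inv_smul]
    obtain ⟨a, ⟨ha, he⟩, -⟩ := hreg (y⁻¹ • δ) (y⁻¹ • ε) (hmove δ hδ) (hmove ε hε)
    refine ⟨y * a * y⁻¹, RootSubgroups.conj_mem_conjBy ha, ?_⟩
    rw [mul_smul, mul_smul, he, smul_inv_smul]
  constructor
  · refine ⟨?_, hnil, ?_, ?_, ?_⟩
    · intro e
      exact ha₀1 (hfree a₀ ha₀ (hBfix a₀ (e ▸ ha₀)))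
    · exact Group.nilpotent_of_mulEquiv
        (A.equivMapOfInjective _ (MulAut.conj y).injective)
    · intro a ha ha1
      have hne : a⁻¹ • β ≠ β := fun e => inv_ne_one.2 ha1 (hfree _ (inv_mem ha) e)
      obtain ⟨b, hb, he⟩ := hBreg α (a⁻¹ • β) hy'.symm hne
      refine ⟨b⁻¹, inv_mem hb, ?_, ?_⟩
      · intro e
        rw [inv_eq_one] at e
        rw [e, one_smul] at he
        apply hy'
        have := congrArg (a • ·) he
        simp only [smul_inv_smul] at this
        rw [← this, hfix a ha]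
      · rw [inv_inv, RootSubgroups.conjBy_conjBy]
        exact hwd _ _ (by rw [he, hβdef, mul_smul])
    · intro b hb hb1
      have hne : b⁻¹ • α ≠ α := by
        intro e
        have h1 := (RootSubgroups.mem_conjBy.1 (inv_mem hb))
        have h2 : (y⁻¹ * b⁻¹ * y) • (y⁻¹ • α) = y⁻¹ • α := by
          rw [mul_smul, smul_inv_smul, mul_smul, e]
        have h3 : y⁻¹ • α ≠ α := by
          intro e'; apply hy'; rw [hβdef]; conv_lhs => rw [← e', smul_inv_smul]
        have h4 := (hreg _ _ h3 h3).unique ⟨h1, h2⟩ ⟨one_mem _, one_smul _ _⟩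
        exact hb1 (by
          have := congrArg (fun z => y * z * y⁻¹) h4
          simpa [mul_assoc] using this)
      obtain ⟨a, ⟨ha, he⟩, -⟩ := hreg β (b⁻¹ • α) hy' hne
      refine ⟨a⁻¹, inv_mem ha, ?_, ?_⟩
      · intro e
        rw [inv_eq_one] at e
        rw [e, one_smul] at he
        apply hy'
        have := congrArg (b • ·) he
        simp only [smul_inv_smul] at this
        rw [← this, hBfix b hb]
      · rw [inv_inv, RootSubgroups.conjBy_conjBy]
        exact hwd _ _ (by rw [mul_smul, ← hβdef, he])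
  · apply le_antisymm
    · rw [Subgroup.normalClosure, Subgroup.closure_le]
      intro z hz
      rw [Group.mem_conjugatesOfSet_iff] at hz
      obtain ⟨w, hw, hconj⟩ := hz
      obtain ⟨g, rfl⟩ := isConj_iff.1 hconj
      have hz' : g * w * g⁻¹ ∈ Cfsg.conjBy A g := RootSubgroups.conj_mem_conjBy hw
      by_cases hg : g • α = α
      · exact Subgroup.mem_sup_left (hAn g hg ▸ hz')
      · obtain ⟨a, ⟨ha, he⟩, -⟩ := hreg β (g • α) hy' hg
        have h1 : Cfsg.conjBy A g = Cfsg.conjBy (Cfsg.conjBy A y) a := by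
          rw [RootSubgroups.conjBy_conjBy]
          exact hwd _ _ (by rw [mul_smul, ← hβdef, he])
        exact RootSubgroups.conjBy_le le_sup_right (Subgroup.mem_sup_left ha) (h1 ▸ hz')
    · refine sup_le Subgroup.le_normalClosure ?_
      rintro _ ⟨a, ha, rfl⟩
      exact Subgroup.normalClosure_normal.conj_mem a (Subgroup.subset_normalClosure ha) y

end Cfsg.Agent.S5015
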