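import Cfsg.Statements.S5016
import Cfsg.Agent.Lib.RootSubgroups.SL2

set_option autoImplicit false
open Cfsg

namespace Cfsg.Agent.S5016

theorem nilpotent_of_comm {G : Type*} [Group G] (A : Subgroup G) (h : IsMulCommutative ↥A) :
    Group.IsNilpotent ↥A := by
  refine ⟨1, ?_⟩
  rw [Subgroup.upperCentralSeries_one, eq_top_iff]
  exact fun x _ => Subgroup.mem_center_iff.2 fun y => h.is_comm.comm y x

/-- For any field k, the special linear group SL₂(k) is a special rank one group with abelian unipotent subgroups, the unipotent subgroups being the group of lower unitriangular matrices and the group of upper unitriangular matrices. -/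
theorem result (k : Type*) [Field k] :
    Cfsg.IsRankOneGroup (Matrix.SpecialLinearGroup (Fin 2) k) (Cfsg.lowerUnipotentSL2 k) (Cfsg.upperUnipotentSL2 k) ∧
    Cfsg.IsSpecialRankOnePair (Cfsg.lowerUnipotentSL2 k) (Cfsg.upperUnipotentSL2 k) ∧
    Cfsg.HasAbelianUnipotents (Cfsg.lowerUnipotentSL2 k) (Cfsg.upperUnipotentSL2 k) := by
  open Cfsg.Agent.RootSubgroups in
  have hWA : ∀ t : k, t ≠ 0 → conjBy (Cfsg.lowerUnipotentSL2 k) (SL2.w t) = Cfsg.upperUnipotentSL2 k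
      ∧ conjBy (Cfsg.upperUnipotentSL2 k) (SL2.w t) = Cfsg.lowerUnipotentSL2 k := by
    intro t ht
    constructor <;> ext g <;> constructor
    · rintro ⟨y, hy, rfl⟩
      obtain ⟨x, rfl⟩ := SL2.mem_lower.1 hy
      exact SL2.mem_upper.2 ⟨-(t ^ 2 * x), mul_inv_eq_iff_eq_mul.2 (SL2.w_conj_v ht x)⟩
    · intro hg
      obtain ⟨x, rfl⟩ := SL2.mem_upper.1 hg
      refine ⟨SL2.v (-x / t ^ 2), SL2.mem_lower.2 ⟨_, rfl⟩, mul_inv_eq_iff_eq_mul.2 ?_⟩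
      rw [SL2.w_conj_v ht]
      congr 2
      field_simp
    · rintro ⟨y, hy, rfl⟩
      obtain ⟨x, rfl⟩ := SL2.mem_upper.1 hy
      exact SL2.mem_lower.2 ⟨-x / t ^ 2, mul_inv_eq_iff_eq_mul.2 (SL2.w_conj_u ht x)⟩
    · intro hg
      obtain ⟨x, rfl⟩ := SL2.mem_lower.1 hg
      refine ⟨SL2.u (-(t ^ 2 * x)), SL2.mem_upper.2 ⟨_, rfl⟩, mul_inv_eq_iff_eq_mul.2 ?_⟩
      rw [SL2.w_conj_u ht]
      congr 2
      field_simp
  have hcond : ∀ y : k, y ≠ 0 →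
      conjBy (Cfsg.lowerUnipotentSL2 k) (SL2.u y⁻¹)⁻¹ =
        conjBy (Cfsg.upperUnipotentSL2 k) (SL2.v y)⁻¹ ∧
      conjBy (Cfsg.upperUnipotentSL2 k) (SL2.v y⁻¹)⁻¹ =
        conjBy (Cfsg.lowerUnipotentSL2 k) (SL2.u y)⁻¹ := by
    intro y hy
    have hyi : -y⁻¹ ≠ 0 := neg_ne_zero.2 (inv_ne_zero hy)
    constructor
    · have e : (SL2.u y⁻¹)⁻¹ = (SL2.v y)⁻¹ * SL2.w (-y⁻¹) * (SL2.v y)⁻¹ := by
        rw [SL2.w_eq_lower hyi, inv_neg, neg_neg, inv_inv, SL2.u_inv]; group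
      rw [e, ← RootSubgroups.conjBy_conjBy,
        RootSubgroups.conjBy_of_mem (inv_mem (SL2.mem_lower.2 ⟨y, rfl⟩)),
        ← RootSubgroups.conjBy_conjBy, (hWA _ hyi).1]
    · have e : (SL2.v y⁻¹)⁻¹ = (SL2.u y)⁻¹ * SL2.w y * (SL2.u y)⁻¹ := by
        rw [SL2.w, SL2.v_inv]; group
      rw [e, ← RootSubgroups.conjBy_conjBy,
        RootSubgroups.conjBy_of_mem (inv_mem (SL2.mem_upper.2 ⟨y, rfl⟩)),
        ← RootSubgroups.conjBy_conjBy, (hWA y hy).2]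
  have hcA : IsMulCommutative ↥(Cfsg.lowerUnipotentSL2 k) := by
    apply RootSubgroups.isMulCommutative_of_forall
    intro a ha b hb
    obtain ⟨x, rfl⟩ := SL2.mem_lower.1 ha
    obtain ⟨y, rfl⟩ := SL2.mem_lower.1 hb
    rw [← SL2.v_add, ← SL2.v_add, add_comm]
  have hcB : IsMulCommutative ↥(Cfsg.upperUnipotentSL2 k) := by
    apply RootSubgroups.isMulCommutative_of_forall
    intro a ha b hb
    obtain ⟨x, rfl⟩ := SL2.mem_upper.1 ha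
    obtain ⟨y, rfl⟩ := SL2.mem_upper.1 hb
    rw [← SL2.u_add, ← SL2.u_add, add_comm]
  have hp : Cfsg.IsRankOnePair (Cfsg.lowerUnipotentSL2 k) (Cfsg.upperUnipotentSL2 k) := by
    refine ⟨?_, ?_, ?_, ?_, ?_⟩
    rotate_left 1
    · exact nilpotent_of_comm _ hcA
    · exact nilpotent_of_comm _ hcB
    rotate_left 2
    · intro e
      have h1 : SL2.v (1 : k) ∈ Cfsg.upperUnipotentSL2 k := e ▸ SL2.mem_lower.2 ⟨1, rfl⟩
      obtain ⟨x, hx⟩ := SL2.mem_upper.1 h1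
      simpa using congrArg (fun g : Matrix.SpecialLinearGroup (Fin 2) k => g.1 1 0) hx
    · intro a ha ha1
      obtain ⟨y, rfl⟩ := SL2.mem_lower.1 ha
      have hy : y ≠ 0 := fun e => ha1 (by rw [e, SL2.v_zero])
      exact ⟨SL2.u y⁻¹, SL2.mem_upper.2 ⟨_, rfl⟩, fun e => inv_ne_zero hy (SL2.u_eq_one.1 e),
        (hcond y hy).1⟩
    · intro a ha ha1
      obtain ⟨y, rfl⟩ := SL2.mem_upper.1 ha
      have hy : y ≠ 0 := fun e => ha1 (by rw [e, SL2.u_zero])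
      exact ⟨SL2.v y⁻¹, SL2.mem_lower.2 ⟨_, rfl⟩, fun e => inv_ne_zero hy (SL2.v_eq_one.1 e),
        (hcond y hy).2⟩
  refine ⟨⟨SL2.top_eq_sup, hp⟩, ⟨hp, ?_⟩, hcA, hcB⟩
  intro a ha ha1 b hb hb1 he
  obtain ⟨y, rfl⟩ := SL2.mem_lower.1 ha
  have hy : y ≠ 0 := fun e => ha1 (by rw [e, SL2.v_zero])
  have hb' : b = SL2.u y⁻¹ := RootSubgroups.partner_unique hp hb (SL2.mem_upper.2 ⟨_, rfl⟩)
    (he.trans (hcond y hy).1.symm)
  subst hb'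
  have h1 : SL2.v y * SL2.u (-y⁻¹) * SL2.v y = SL2.u (-y⁻¹) * SL2.v y * SL2.u (-y⁻¹) := by
    have := SL2.w_eq_lower (k := k) (neg_ne_zero.2 (inv_ne_zero hy))
    rw [SL2.w, inv_neg, inv_inv, neg_neg] at this
    exact this.symm
  rw [SL2.u_inv]
  calc SL2.u (-y⁻¹) * SL2.v y * SL2.u y⁻¹
      = (SL2.u (-y⁻¹) * SL2.v y * SL2.u (-y⁻¹)) * (SL2.u y⁻¹ * SL2.u y⁻¹) := by
        rw [← SL2.u_inv y⁻¹]; group
    _ = (SL2.v y * SL2.u (-y⁻¹) * SL2.v y) * (SL2.u y⁻¹ * SL2.u y⁻¹) := by rw [h1]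
    _ = _ := by
        have h2 : SL2.v y * SL2.u y⁻¹ * SL2.v y = SL2.v y * SL2.u y⁻¹ * SL2.v y := rfl
        rw [← SL2.u_inv y⁻¹] at h1 ⊢
        calc SL2.v y * (SL2.u y⁻¹)⁻¹ * SL2.v y * (SL2.u y⁻¹ * SL2.u y⁻¹)
            = ((SL2.u y⁻¹)⁻¹ * SL2.v y * (SL2.u y⁻¹)⁻¹) * (SL2.u y⁻¹ * SL2.u y⁻¹) := by rw [h1]
          _ = (SL2.u y⁻¹)⁻¹ * SL2.v y * SL2.u y⁻¹ := by group
          _ = _ := by
            calc (SL2.u y⁻¹)⁻¹ * SL2.v y * SL2.u y⁻¹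
                = (SL2.v y)⁻¹ * (SL2.v y * (SL2.u y⁻¹)⁻¹ * SL2.v y) * SL2.u y⁻¹ := by group
              _ = (SL2.v y)⁻¹ * ((SL2.u y⁻¹)⁻¹ * SL2.v y * (SL2.u y⁻¹)⁻¹) * SL2.u y⁻¹ := by rw [h1]
              _ = _ := by group

end Cfsg.Agent.S5016
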