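import Cfsg.Statements.S5017
import Cfsg.Agent.Lib.RootSubgroups.Basic

set_option autoImplicit false
open Cfsg

namespace Cfsg.Agent.S5017

/-- Let X be a rank one group with unipotent subgroups A and B and N a normal subgroup of X. Then either X = N A or N lies in the centre of X. Consequently a perfect rank one group is quasisimple. -/
theorem result {X : Type*} [Group X] {A B : Subgroup X} (h : Cfsg.IsRankOneGroup X A B) :
    (∀ N : Subgroup X, N.Normal → N ⊔ A = ⊤ ∨ N ≤ Subgroup.center X) ∧
    (Group.IsPerfect X → Cfsg.IsQuasisimple X) := by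
  obtain ⟨hgen, hp⟩ := h
  have dich : ∀ N : Subgroup X, N.Normal → N ⊔ A = ⊤ ∨ N ≤ Subgroup.center X := by
    intro N hN
    rcases RootSubgroups.normal_dichotomy hp (N := N)
      (by rw [hgen]; exact le_top) (by rw [Subgroup.normalizer_eq_top]; exact le_top) with h1 | h1
    · exact Or.inl (h1.trans hgen)
    · refine Or.inr fun z hz => Subgroup.mem_center_iff.2 fun x => ?_
      exact (h1 z hz x (by rw [hgen]; trivial)).symm
  refine ⟨dich, fun hperf => ⟨hperf, ?_⟩⟩
  have hcne : Subgroup.center X ≠ ⊤ := by
    intro htop
    obtain ⟨a, ha, ha1⟩ := RootSubgroups.exists_ne_one hp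
    refine ha1 (RootSubgroups.eq_one_of_centralizes hp ha fun b _ => ?_)
    exact (Subgroup.mem_center_iff.1 (htop ▸ Subgroup.mem_top a : a ∈ Subgroup.center X) b).symm
  have : Nontrivial (X ⧸ Subgroup.center X) := by
    rw [QuotientGroup.nontrivial_iff]; exact hcne
  refine ⟨fun M hM => ?_⟩
  let N := M.comap (QuotientGroup.mk' (Subgroup.center X))
  rcases dich N (hM.comap _) with hN | hN
  · right
    have hNn : N.Normal := hM.comap _
    have : Group.IsNilpotent ↥A := hp.nilpotent_left
    have hs : Function.Surjective ((QuotientGroup.mk' N).comp A.subtype) := by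
      intro q
      induction q using QuotientGroup.induction_on with
      | H x =>
        have hx : x ∈ A ⊔ N := by rw [sup_comm, hN]; trivial
        rw [Subgroup.mem_sup_of_normal_right] at hx
        obtain ⟨a, ha, z, hz, rfl⟩ := hx
        exact ⟨⟨a, ha⟩, QuotientGroup.eq.2 (by simpa using hz)⟩
    have hq : Group.IsNilpotent (X ⧸ N) := Group.nilpotent_of_surjective _ hs
    have hN' : N = ⊤ := by
      apply RootSubgroups.eq_top_of_perfect_quotient N
    rw [eq_top_iff]
    intro q _
    induction q using QuotientGroup.induction_on with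
    | H x => exact (hN' ▸ Subgroup.mem_top x : x ∈ N)
  · left
    rw [eq_bot_iff]
    intro q hq
    induction q using QuotientGroup.induction_on with
    | H x => exact (QuotientGroup.eq_one_iff x).2 (hN hq)

end Cfsg.Agent.S5017
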