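import Cfsg.Statements.S5018
import Cfsg.Agent.Lib.RootSubgroups.Basic

set_option autoImplicit false
open Cfsg

namespace Cfsg.Agent.S5018

/-- A rank one group is not nilpotent, and its second centre equals its centre. -/
theorem result {X : Type*} [Group X] {A B : Subgroup X} (h : Cfsg.IsRankOneGroup X A B) :
    Subgroup.upperCentralSeries X 2 = Subgroup.center X ∧ ¬ Group.IsNilpotent X := by
  obtain ⟨hgen, hp⟩ := h
  have hnn : ¬ Group.IsNilpotent X := by
    intro hnil
    exact RootSubgroups.not_nilpotent hp inferInstance
  refine ⟨?_, hnn⟩
  apply le_antisymm
  · rcases RootSubgroups.normal_dichotomy hp (N := Subgroup.upperCentralSeries X 2)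
      (by rw [hgen]; exact le_top) (by rw [Subgroup.normalizer_eq_top]; exact le_top) with hN | hN
    · refine absurd ?_ hnn
      let Z := Subgroup.upperCentralSeries X 2
      have : Group.IsNilpotent ↥A := hp.nilpotent_left
      have hs : Function.Surjective ((QuotientGroup.mk' Z).comp A.subtype) := by
        intro q
        induction q using QuotientGroup.induction_on with
        | H x =>
          have hx : x ∈ A ⊔ Z := by rw [sup_comm, hN, hgen]; trivial
          rw [Subgroup.mem_sup_of_normal_right] at hx
          obtain ⟨a, ha, z, hz, rfl⟩ := hx
          refine ⟨⟨a, ha⟩, ?_⟩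
          exact QuotientGroup.eq.2 (by simpa using hz)
      have hq : Group.IsNilpotent (X ⧸ Z) := Group.nilpotent_of_surjective _ hs
      obtain ⟨n, hn⟩ := hq
      refine ⟨n + 2, ?_⟩
      have key : ∀ i, (Subgroup.upperCentralSeries (X ⧸ Z) i).comap (QuotientGroup.mk' Z) ≤
          Subgroup.upperCentralSeries X (i + 2) := by
        intro i
        induction i with
        | zero => intro x hx; simpa using hx
        | succ i ih =>
          intro x hx
          rw [Subgroup.mem_upperCentralSeries_succ_iff]
          intro y
          apply ih
          have := Subgroup.mem_upperCentralSeries_succ_iff.1 hx (QuotientGroup.mk' Z y)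
          rw [Subgroup.mem_comap]
          simp only [commutatorElement_def, map_mul, map_inv] at this ⊢
          exact this
      rw [eq_top_iff]
      intro x _
      exact key n (by rw [hn]; exact Subgroup.mem_top _)
    · intro z hz
      rw [Subgroup.mem_center_iff]
      exact fun x => (hN z hz x (by rw [hgen]; trivial)).symm
  · rw [← Subgroup.upperCentralSeries_one]
    exact Subgroup.upperCentralSeries_mono X (by norm_num)

end Cfsg.Agent.S5018
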