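import Cfsg.Statements.S5020
import Cfsg.Agent.Lib.RootSubgroups.RankSpecial
import Cfsg.Agent.S5017

set_option autoImplicit false
open Cfsg

namespace Cfsg.Agent.S5020

/-- Let X be a special rank one group with abelian unipotent subgroups A and B, and H = N(A) ∩ N(B) its diagonal subgroup. Then either A has at most three elements and X is isomorphic to SL₂(2), SL₂(3) or PSL₂(3); or X = X' A with the commutator subgroup X' quasisimple and the commutator subgroup ⁅A, H⁆ having more than three elements. -/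
theorem result {X : Type*} [Group X] {A B : Subgroup X} (h : Cfsg.IsRankOneGroup X A B)
    (hs : Cfsg.IsSpecialRankOnePair A B) (hab : Cfsg.HasAbelianUnipotents A B) :
    (ENat.card A ≤ 3 ∧ (Nonempty (X ≃* Matrix.SpecialLinearGroup (Fin 2) (ZMod 2)) ∨
        Nonempty (X ≃* Matrix.SpecialLinearGroup (Fin 2) (ZMod 3)) ∨
        Nonempty (X ≃* Matrix.ProjectiveSpecialLinearGroup (Fin 2) (ZMod 3)))) ∨
    (commutator X ⊔ A = ⊤ ∧ Cfsg.IsQuasisimple (commutator X) ∧
      3 < ENat.card ↥(⁅A, Cfsg.rankOneDiagonal A B⁆ : Subgroup X)) := by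
  obtain ⟨hgen, hp⟩ := h
  have hsab := RootSubgroups.SAB.of hs hab
  by_cases hcard : ENat.card A ≤ 3
  · refine Or.inl ⟨hcard, ?_⟩
    obtain ⟨a, ha, ha1⟩ := RootSubgroups.exists_ne_one hp
    obtain ⟨g, -, hg⟩ := RootSubgroups.exists_conj_right hp
    have hne3 : Nat.card ↥A = 2 ∨ Nat.card ↥A = 3 := by
      have hfin : Finite ↥A :=
        ENat.card_lt_top.1 (lt_of_le_of_lt hcard (ENat.natCast_lt_top 3))
      have h1 : (Nat.card ↥A : ℕ∞) ≤ 3 := (ENat.card_eq_coe_natCard (α := ↥A)) ▸ hcard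
      have h2 : Nat.card ↥A ≤ 3 := by exact_mod_cast h1
      have h3 : 2 ≤ Nat.card ↥A := by
        rw [Nat.succ_le_iff, Finite.one_lt_card_iff_nontrivial]
        exact ⟨⟨a, ha⟩, 1, fun e => ha1 (congrArg Subtype.val e)⟩
      omega
    obtain ⟨p, hp23, hpcard⟩ : ∃ p, (p = 2 ∨ p = 3) ∧ Nat.card ↥A = p := ⟨_, hne3, rfl⟩
    have : Fact p.Prime := ⟨by rcases hp23 with rfl | rfl <;> norm_num⟩
    have hA : ∀ x ∈ A, x ^ p = 1 := fun x hx => by
      have := pow_card_eq_one' (x := (⟨x, hx⟩ : ↥A))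
      rw [hpcard] at this
      simpa using congrArg Subtype.val this
    obtain ⟨c, hc⟩ := RootSubgroups.Rel.exists_right hp ha ha1
    obtain ⟨φ, hker, hrange⟩ := RootSubgroups.sl2_hom hsab hA hc
    have hzp : ∀ (H : Subgroup X) (x : X), x ∈ H → x ≠ 1 → Nat.card ↥H = p →
        ∀ y ∈ H, y ∈ Subgroup.zpowers x := by
      intro H x hx hx1 hH y hy
      have := mem_zpowers_of_prime_card hH (g := (⟨x, hx⟩ : ↥H)) (g' := ⟨y, hy⟩)
        (fun e => hx1 (congrArg Subtype.val e))
      obtain ⟨n, hn⟩ := this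
      exact ⟨n, congrArg Subtype.val hn⟩
    have hBcard : Nat.card ↥B = p := by
      rw [← hg, ← hpcard]
      exact (Nat.card_congr (A.equivMapOfInjective _ (MulAut.conj g).injective).toEquiv).symm
    have htop : φ.range = ⊤ := by
      rw [hrange, eq_top_iff, ← hgen]
      have hacl : a ∈ Subgroup.closure ({a, c} : Set X) :=
        Subgroup.subset_closure (Set.mem_insert a _)
      have hccl : c ∈ Subgroup.closure ({a, c} : Set X) :=
        Subgroup.subset_closure (Set.mem_insert_of_mem a (Set.mem_singleton c))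
      refine sup_le (fun y hy => ?_) (fun y hy => ?_)
      · exact (Subgroup.zpowers_le.2 hacl) (hzp A a ha ha1 hpcard y hy)
      · exact (Subgroup.zpowers_le.2 hccl) (hzp B c hc.2.2.1 hc.2.2.2.1 hBcard y hy)
    let e : ↥φ.range ≃* X := (MulEquiv.subgroupCongr htop).trans Subgroup.topEquiv
    rcases RootSubgroups.sl2_or_psl2 φ hker with h1 | ⟨hp2, h1⟩ <;> obtain ⟨e'⟩ := h1
    · rcases hp23 with rfl | rfl
      · exact Or.inl ⟨e.symm.trans e'⟩
      · exact Or.inr (Or.inl ⟨e.symm.trans e'⟩)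
    · rcases hp23 with rfl | rfl
      · exact absurd rfl hp2
      · exact Or.inr (Or.inr ⟨e.symm.trans e'⟩)
  · rw [not_le] at hcard
    have hperf : Group.IsPerfect X := by
      rw [Group.isPerfect_def, eq_top_iff, ← hgen, commutator_def, ← hgen]
      exact sup_le (RootSubgroups.le_commutator_of_card hsab hcard) (by
        obtain ⟨g, hg', hg⟩ := RootSubgroups.exists_conj_right hp
        rw [← hg]
        refine (RootSubgroups.conjBy_mono (RootSubgroups.le_commutator_of_card hsab hcard)).trans ?_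
        rw [RootSubgroups.conjBy_commutator, RootSubgroups.conjBy_of_mem hg', hg])
    have htop : commutator X = ⊤ := Group.IsPerfect.commutator_eq_top
    refine Or.inr ⟨by rw [htop, top_sup_eq], ?_, ?_⟩
    · exact RootSubgroups.isQuasisimple_of_mulEquiv
        (Subgroup.topEquiv.symm.trans (MulEquiv.subgroupCongr htop.symm))
        ((Cfsg.Agent.S5017.result ⟨hgen, hp⟩).2 hperf)
    · rw [RootSubgroups.commutator_diagonal_eq hsab hcard]
      exact hcard

end Cfsg.Agent.S5020
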