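import Cfsg.Statements.S5022
import Cfsg.Agent.Lib.RootSubgroups.RankSpecial

set_option autoImplicit false
open Cfsg

namespace Cfsg.Agent.S5022

/-- Let X be a special rank one group with abelian unipotent subgroups A and B, where A is an elementary abelian p-group for the prime p. Then for every non-identity a in A and the non-identity b in B with b⁻¹ A b = a⁻¹ B a, the subgroup generated by a and b is isomorphic to SL₂(p) or to PSL₂(p). -/
theorem result {X : Type*} [Group X] {A B : Subgroup X} (h : Cfsg.IsRankOneGroup X A B)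
    (hs : Cfsg.IsSpecialRankOnePair A B) (hab : Cfsg.HasAbelianUnipotents A B)
    {p : ℕ} [Fact p.Prime] (hA : Cfsg.IsElementaryAbelian p A)
    {a b : X} (ha : a ∈ A) (ha1 : a ≠ 1) (hb : b ∈ B) (hb1 : b ≠ 1) (hab' : Cfsg.conjBy A b⁻¹ = Cfsg.conjBy B a⁻¹) :
    Nonempty (↥(Subgroup.closure ({a, b} : Set X)) ≃* Matrix.SpecialLinearGroup (Fin 2) (ZMod p)) ∨
    Nonempty (↥(Subgroup.closure ({a, b} : Set X)) ≃* Matrix.ProjectiveSpecialLinearGroup (Fin 2) (ZMod p)) := by
  have hsab := RootSubgroups.SAB.of hs hab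
  have hrel : RootSubgroups.Rel A B a b⁻¹ := ⟨ha, ha1, inv_mem hb, inv_ne_one.2 hb1, hab'⟩
  obtain ⟨φ, hker, hrange⟩ := RootSubgroups.sl2_hom hsab hA.2 hrel
  have hcl : Subgroup.closure ({a, b⁻¹} : Set X) = Subgroup.closure {a, b} := by
    apply le_antisymm <;> rw [Subgroup.closure_le] <;> intro x hx <;>
      simp only [Set.mem_insert_iff, Set.mem_singleton_iff] at hx <;> rcases hx with rfl | rfl
    · exact Subgroup.subset_closure (Set.mem_insert x _)
    · exact inv_mem (Subgroup.subset_closure (Set.mem_insert_of_mem a (Set.mem_singleton b)))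
    · exact Subgroup.subset_closure (Set.mem_insert x _)
    · rw [SetLike.mem_coe, ← inv_mem_iff]
      exact Subgroup.subset_closure (Set.mem_insert_of_mem a (Set.mem_singleton x⁻¹))
  rw [← hcl, ← hrange]
  rcases RootSubgroups.sl2_or_psl2 φ hker with h1 | ⟨-, h1⟩
  · exact Or.inl h1
  · exact Or.inr h1

end Cfsg.Agent.S5022
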