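import Cfsg.Statements.S5023
import Cfsg.Agent.Lib.RootSubgroups.RankSpecial
import Cfsg.Agent.Lib.RootSubgroups.Quadratic

set_option autoImplicit false
open Cfsg

namespace Cfsg.Agent.S5023

/-- Let X be a rank one group with unipotent subgroups A and B that acts faithfully on an abelian group V (written additively) with A acting quadratically: a' • (a • v − v) = a • v − v for all a, a' in A and v in V. Then A is either torsion-free or an elementary abelian p-group for some prime p. -/
theorem result {X : Type*} [Group X] {A B : Subgroup X} (h : Cfsg.IsRankOneGroup X A B)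
    {V : Type*} [AddCommGroup V] [DistribMulAction X V] (hf : ∀ x : X, (∀ v : V, x • v = v) → x = 1)
    (hq : ∀ a ∈ A, ∀ a' ∈ A, ∀ v : V, a' • (a • v - v) = a • v - v) :
    (∀ a ∈ A, a ≠ 1 → ¬ IsOfFinOrder a) ∨ ∃ p : ℕ, p.Prime ∧ Cfsg.IsElementaryAbelian p A := by
  obtain ⟨hgen, hp⟩ := h
  have hA := RootSubgroups.comm_of_quadratic hf hq
  have hAc := RootSubgroups.isMulCommutative_of_forall hA
  have hBc : IsMulCommutative ↥B := by
    obtain ⟨g, -, hg⟩ := RootSubgroups.exists_conj_right hp
    exact hg ▸ RootSubgroups.conjBy_comm hAc g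
  have hX : ∃ x y : X, ∃ v : V, y • (x • v - v) ≠ x • v - v := by
    by_contra hcon
    push Not at hcon
    have hcomm := RootSubgroups.comm_of_quadratic (H := (⊤ : Subgroup X)) hf
      fun x _ y _ v => hcon x y v
    obtain ⟨a, ha, ha1⟩ := RootSubgroups.exists_ne_one hp
    exact ha1 (RootSubgroups.eq_one_of_centralizes hp ha fun b _ =>
      hcomm a (Subgroup.mem_top a) b (Subgroup.mem_top b))
  have hs := RootSubgroups.special_of_quadratic hgen hp hq hX
  rcases RootSubgroups.elementary_or_divisible (RootSubgroups.SAB.of hs ⟨hAc, hBc⟩) with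
    ⟨p, hpp, h1⟩ | ⟨h1, -⟩
  · exact Or.inr ⟨p, hpp, hAc, h1⟩
  · exact Or.inl h1

end Cfsg.Agent.S5023
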