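import Cfsg.Statements.S5024
import Cfsg.Agent.Lib.RootSubgroups.RootSet

set_option autoImplicit false
open Cfsg

namespace Cfsg.Agent.S5024

/-- Let S be a set of abstract root subgroups of G, A and C members of S, B a rank one partner of A in S and D a rank one partner of C in S. If the rank one group ⟨A, B⟩ is contained in ⟨C, D⟩ then the two coincide, and C and D are conjugates of A inside ⟨A, B⟩. -/
theorem result {G : Type*} [Group G] {S : Set (Subgroup G)} (hS : Cfsg.IsRootSubgroupSet S)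
    {A B C D : Subgroup G} (hA : A ∈ S) (hC : C ∈ S) (hB : B ∈ Cfsg.rankOnePartners S A) (hD : D ∈ Cfsg.rankOnePartners S C)
    (hle : A ⊔ B ≤ C ⊔ D) : A ⊔ B = C ⊔ D ∧ C ∈ Cfsg.unipotentSubgroups A B ∧ D ∈ Cfsg.unipotentSubgroups A B := by
  obtain ⟨hBS, hp⟩ := hB
  obtain ⟨hDS, hq⟩ := hD
  obtain ⟨a, ha, ha1⟩ := RootSubgroups.exists_ne_one hp
  obtain ⟨b₀, hb₀, hne⟩ : ∃ b ∈ B, a * b ≠ b * a := by
    by_contra hcon
    push Not at hcon
    exact ha1 (RootSubgroups.eq_one_of_centralizes hp ha hcon)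
  have hA' := RootSubgroups.mem_unipotent_of_le hS hA hC hDS hq (le_sup_left.trans hle)
    ⟨b₀, hle (Subgroup.mem_sup_right hb₀), a, ha, hne⟩
  have hB' := RootSubgroups.mem_unipotent_of_le hS hBS hC hDS hq (le_sup_right.trans hle)
    ⟨a, hle (Subgroup.mem_sup_left ha), b₀, hb₀, fun e => hne e.symm⟩
  obtain ⟨-, heq⟩ := RootSubgroups.pair_of_mem hq hA' hB' hp.ne
  have hall : ∀ P ∈ Cfsg.unipotentSubgroups C D, P ∈ Cfsg.unipotentSubgroups A B := by
    rintro P ⟨y, hy, rfl⟩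
    obtain ⟨x, hx, rfl⟩ := hA'
    exact ⟨y * x⁻¹, heq.symm ▸ mul_mem hy (inv_mem hx),
      by rw [RootSubgroups.conjBy_conjBy, inv_mul_cancel_right]⟩
  exact ⟨heq, hall C (RootSubgroups.left_mem C D), hall D (RootSubgroups.right_mem hq)⟩

end Cfsg.Agent.S5024
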