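import Cfsg.Statements.S5026
import Cfsg.Agent.Lib.RootSubgroups.RootSet

set_option autoImplicit false
open Cfsg

namespace Cfsg.Agent.S5026

/-- Let S be a degenerate set of abstract root subgroups of G (a set of abstract transvection groups) and let a, b be commuting non-identity elements of members of S with a b ≠ 1. Then the members of S centralizing a b are exactly those centralizing both a and b. -/
theorem result {G : Type*} [Group G] {S : Set (Subgroup G)} (hS : Cfsg.IsRootSubgroupSet S) (hdeg : Cfsg.IsDegenerateRootSet S)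
    {a b : G} (ha : a ∈ Cfsg.rootElements S) (hb : b ∈ Cfsg.rootElements S) (hab : a * b = b * a) (hab1 : a * b ≠ 1) :
    Cfsg.centralizingMembers S (Subgroup.zpowers (a * b)) =
      Cfsg.centralizingMembers S (Subgroup.zpowers a) ∩ Cfsg.centralizingMembers S (Subgroup.zpowers b) := by
  obtain ⟨ha1, A, hA, ha⟩ := ha
  obtain ⟨hb1, B, hB, hb⟩ := hb
  ext C
  simp only [Cfsg.centralizingMembers, Set.mem_setOf_eq, Set.mem_inter_iff]
  have hmem : ∀ x : G, C ≤ Subgroup.centralizer (Subgroup.zpowers x : Set G) ↔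
      ∀ c ∈ C, x * c = c * x := by
    intro x
    rw [Subgroup.zpowers_eq_closure, Subgroup.centralizer_closure]
    exact ⟨fun h c hc => Subgroup.mem_centralizer_iff.1 (h hc) x rfl,
      fun h c hc => Subgroup.mem_centralizer_iff.2 fun u hu => by
        rw [Set.mem_singleton_iff.1 hu]; exact h c hc⟩
  simp only [hmem]
  constructor
  · rintro ⟨hC, hcom⟩
    have pairCase : ∀ P ∈ S, ⁅P, C⁆ = ⊥ ∨ Cfsg.IsRankOnePair P C := fun P hP => by
      rcases hS.pair P hP C hC with h | h | h
      · exact Or.inl h
      · exact Or.inr h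
      · exact absurd h (hdeg P hP C hC)
    suffices hA' : ∀ c ∈ C, a * c = c * a by
      refine ⟨⟨hC, hA'⟩, hC, fun c hc => ?_⟩
      calc b * c = a⁻¹ * (a * b * c) := by group
        _ = a⁻¹ * c * (a * b) := by rw [hcom c hc, mul_assoc]
        _ = a⁻¹ * (a * c) * b := by rw [hA' c hc]; group
        _ = c * b := by group
    rcases pairCase A hA with h | hpA
    · exact fun c hc => RootSubgroups.commute_of_commutator_eq_bot h ha hc
    exfalso
    rcases pairCase B hB with h | hpB
    · refine ha1 (RootSubgroups.eq_one_of_centralizes hpA ha fun c hc => ?_)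
      have h2 := RootSubgroups.commute_of_commutator_eq_bot h hb hc
      calc a * c = a * (c * b) * b⁻¹ := by group
        _ = a * b * c * b⁻¹ := by rw [← h2, mul_assoc a b c]
        _ = c * a := by rw [hcom c hc]; group
    · have hfix : Cfsg.conjBy C (a * b) = C := RootSubgroups.conjBy_of_commute hcom
      obtain ⟨c₁, hc₁, -, e₁⟩ := hpA.cond_left a⁻¹ (inv_mem ha) (inv_ne_one.2 ha1)
      obtain ⟨c₂, hc₂, -, e₂⟩ := hpB.cond_left b hb hb1
      rw [inv_inv, ← hfix, RootSubgroups.conjBy_conjBy] at e₁
      have e₃ : Cfsg.conjBy C b⁻¹ = Cfsg.conjBy C a := by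
        conv_lhs => rw [← hfix, RootSubgroups.conjBy_conjBy]
        rw [hab, ← mul_assoc, inv_mul_cancel, one_mul]
      rw [e₃] at e₂
      have hBe : B = Cfsg.conjBy A (c₂ * c₁⁻¹) := by
        rw [← RootSubgroups.conjBy_conjBy, e₁, ← RootSubgroups.conjBy_conjBy, hfix, ← e₂,
          RootSubgroups.conjBy_cancel_inv]
      have hBmem : B ∈ Cfsg.unipotentSubgroups A C :=
        ⟨_, Subgroup.mem_sup_right (mul_mem hc₂ (inv_mem hc₁)), hBe⟩
      have hAB : ⁅A, B⁆ = ⊥ := by
        rcases hS.pair A hA B hB with h | h | h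
        · exact h
        · exfalso
          refine ha1 (RootSubgroups.eq_one_of_normalizes h ha ?_)
          have hb_fix : b ∈ Cfsg.conjBy B a := by
            rw [RootSubgroups.mem_conjBy, mul_assoc, ← hab, inv_mul_cancel_left]; exact hb
          exact (RootSubgroups.eq_of_inter hS hB hA (RankOnePair_symm h) (hS.conj_mem B hB a)
            hb hb_fix hb1).symm
        · exact absurd h (hdeg A hA B hB)
      have hEq : B = A := RootSubgroups.eq_of_fixed hpA hBmem ha ha1
        (RootSubgroups.conjBy_of_commute fun x hx =>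
          RootSubgroups.commute_of_commutator_eq_bot hAB ha hx) (hS.commutative _ hA)
      exact hab1 (RootSubgroups.eq_one_of_centralizes hpA (mul_mem ha (hEq ▸ hb)) hcom)
  · rintro ⟨⟨hC, h1⟩, -, h2⟩
    refine ⟨hC, fun c hc => ?_⟩
    rw [mul_assoc, h2 c hc, ← mul_assoc, h1 c hc, mul_assoc]

end Cfsg.Agent.S5026
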