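import Cfsg.Statements.S5027
import Cfsg.Agent.Lib.RootSubgroups.Class

set_option autoImplicit false
open Cfsg

namespace Cfsg.Agent.S5027

/-- Let S be a set of abstract root subgroups of G such that every member of S has a rank one partner in S (the graph of rank one pairs on S has no isolated vertex). Then the second centre of G equals its centre. -/
theorem result {G : Type*} [Group G] {S : Set (Subgroup G)} (hS : Cfsg.IsRootSubgroupSet S)
    (hF : ∀ A ∈ S, ¬ Cfsg.IsIsolatedIn (Cfsg.FAdj S) S A) : Subgroup.upperCentralSeries G 2 = Subgroup.center G := by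
  apply le_antisymm
  · intro z hz
    have hc : ∀ g : G, z * g * z⁻¹ * g⁻¹ ∈ Subgroup.center G := fun g => by
      have := Subgroup.mem_upperCentralSeries_succ_iff.1 hz g
      rwa [Subgroup.upperCentralSeries_one] at this
    have key : ∀ A ∈ S, ∀ a ∈ A, z * a = a * z := by
      intro A hA a ha
      obtain ⟨A', hA', hp⟩ := RootSubgroups.exists_partner_of_not_isolated hA (hF A hA)
      by_cases ha1 : a = 1
      · simp [ha1]
      by_contra hne
      have hw := hc a
      refine RootSubgroups.za_not_root hS hA hA' hp (z := z * a * z⁻¹ * a⁻¹)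
        (fun x _ => (Subgroup.mem_center_iff.1 hw x).symm)
        (fun x _ => (Subgroup.mem_center_iff.1 hw x).symm) ?_ ha ha1 ?_
      · intro e
        exact hne (by
          have := mul_inv_eq_iff_eq_mul.1 (mul_inv_eq_one.1 e)
          exact this)
      · rw [inv_mul_cancel_right]
        exact ⟨fun e => ha1 (by simpa using e), Cfsg.conjBy A z, hS.conj_mem A hA z,
          RootSubgroups.conj_mem_conjBy ha⟩
    rw [Subgroup.mem_center_iff]
    intro g
    have hle : (⨆ A ∈ S, A) ≤ Subgroup.centralizer {z} := iSup₂_le fun A hA a ha =>
      Subgroup.mem_centralizer_iff.2 fun u hu => by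
        rw [Set.mem_singleton_iff.1 hu]; exact key A hA a ha
    rw [hS.generates] at hle
    exact (Subgroup.mem_centralizer_iff.1 (hle (Subgroup.mem_top g)) z rfl).symm
  · rw [← Subgroup.upperCentralSeries_one]
    exact Subgroup.upperCentralSeries_mono G (by norm_num)

end Cfsg.Agent.S5027
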