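import Cfsg.Statements.S5029
import Cfsg.Agent.Lib.RootSubgroups.Class

set_option autoImplicit false
open Cfsg

namespace Cfsg.Agent.S5029

/-- Let S be a set of abstract root subgroups of G, A ∈ S having a rank one partner in S, and B ∈ S with C = ⁅A, B⁆ ∈ S. Then the members of S contained in AC are the conjugates of A by elements of B together with C, they partition AC, the members of S inside AC partition AC so that A is a line partner of C, and for every non-identity a ∈ A the map b ↦ a⁻¹ b⁻¹ a b is an isomorphism from B onto C. -/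
theorem result {G : Type*} [Group G] {S : Set (Subgroup G)} (hS : Cfsg.IsRootSubgroupSet S)
    {A B : Subgroup G} (hA : ¬ Cfsg.IsIsolatedIn (Cfsg.FAdj S) S A) (hAS : A ∈ S) (hB : B ∈ S) (hC : ⁅A, B⁆ ∈ S) :
    Cfsg.membersIn S (A ⊔ ⁅A, B⁆) = (fun b : G => Cfsg.conjBy A b) '' (B : Set G) ∪ {⁅A, B⁆} ∧
    Cfsg.IsSubgroupPartition (A ⊔ ⁅A, B⁆) (Cfsg.membersIn S (A ⊔ ⁅A, B⁆)) ∧
    A ∈ Cfsg.linePartners S ⁅A, B⁆ ∧
    ∀ a ∈ A, a ≠ 1 → ∃ φ : ↥B ≃* ↥⁅A, B⁆, ∀ b : ↥B, (φ b : G) = a⁻¹ * (b : G)⁻¹ * a * b := by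
  obtain ⟨A', hA', hp⟩ := RootSubgroups.exists_partner_of_not_isolated hAS hA
  have hcc := RootSubgroups.cc_of_mem hS hAS hB hC
  have hinter : ∀ b ∈ B, ∀ E ∈ S, ∀ x ∈ Cfsg.conjBy A b, x ∈ E → x ≠ 1 → Cfsg.conjBy A b = E :=
    fun b _ E hE x hx hxE hx1 => RootSubgroups.eq_of_inter hS (hS.conj_mem A hAS b)
      (hS.conj_mem A' hA' b) (RootSubgroups.pair_conj hp b) hE hx hxE hx1
  have hset : Cfsg.membersIn S (A ⊔ ⁅A, B⁆) =
      (fun b : G => Cfsg.conjBy A b) '' (B : Set G) ∪ {⁅A, B⁆} := by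
    ext E
    constructor
    · rintro ⟨hE, hle⟩
      rcases RootSubgroups.line_members hS hAS hA' hp hB hC hE hle with h | ⟨b, hb, h⟩
      · exact Or.inr h
      · exact Or.inl ⟨b, hb, h.symm⟩
    · rintro (⟨b, hb, rfl⟩ | rfl)
      · exact ⟨hS.conj_mem A hAS b, RootSubgroups.line_le hS hAS hA' hp hB hC hb⟩
      · exact ⟨hC, le_sup_right⟩
  have hpartition : Cfsg.IsSubgroupPartition (A ⊔ ⁅A, B⁆) (Cfsg.membersIn S (A ⊔ ⁅A, B⁆)) := by
    refine ⟨fun C hC' => hC'.2, fun x hx _ => ?_, fun P hP Q hQ hne => ?_⟩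
    · rcases RootSubgroups.line_cover hS hAS hA' hp hB hC hx with h | ⟨b, hb, h⟩
      · exact ⟨_, ⟨hC, le_sup_right⟩, h⟩
      · exact ⟨_, ⟨hS.conj_mem A hAS b, RootSubgroups.line_le hS hAS hA' hp hB hC hb⟩, h⟩
    · rcases (P ⊓ Q).bot_or_exists_ne_one with h | ⟨x, hx, hx1⟩
      · exact h
      exfalso; apply hne
      rcases RootSubgroups.line_members hS hAS hA' hp hB hC hP.1 hP.2 with h | ⟨b, hb, h⟩
      · rcases RootSubgroups.line_members hS hAS hA' hp hB hC hQ.1 hQ.2 with h' | ⟨b, hb, h'⟩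
        · rw [h, h']
        · rw [h']; exact (hinter b hb P hP.1 x (h' ▸ hx.2) hx.1 hx1).symm
      · rw [h]; exact hinter b hb Q hQ.1 x (h ▸ hx.1) hx.2 hx1
  refine ⟨hset, hpartition, ⟨⟨hAS, ?_, RootSubgroups.cc_commutes_left hcc⟩, ?_⟩, ?_⟩
  · intro e
    exact RootSubgroups.line_ne hS hAS hA' hp hB hC (one_mem B)
      ((RootSubgroups.conjBy_one A).trans e)
  · rw [sup_comm]; exact hpartition
  · intro a ha ha1
    have hmem : ∀ b : ↥B, a⁻¹ * (b : G)⁻¹ * a * b ∈ ⁅A, B⁆ := fun b => by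
      simpa using RootSubgroups.commutator_mem (inv_mem ha) (inv_mem b.2)
    let φ : ↥B →* ↥⁅A, B⁆ :=
      { toFun := fun b => ⟨_, hmem b⟩
        map_one' := Subtype.ext (by simp)
        map_mul' := fun x y => Subtype.ext (by
          have hc := RootSubgroups.cc_central hcc (hmem x) (Subgroup.mem_sup_right (inv_mem y.2))
          calc a⁻¹ * ((x * y : ↥B) : G)⁻¹ * a * ((x * y : ↥B) : G)
              = a⁻¹ * (y : G)⁻¹ * a * ((a⁻¹ * (x : G)⁻¹ * a * x) * (y : G)) := by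
                push_cast; group
            _ = (a⁻¹ * (y : G)⁻¹ * a * y) * ((y : G)⁻¹ * (a⁻¹ * (x : G)⁻¹ * a * x) * y) := by group
            _ = (a⁻¹ * (y : G)⁻¹ * a * y) * (a⁻¹ * (x : G)⁻¹ * a * x) := by
                rw [← hc]; group
            _ = _ := (RootSubgroups.comm hS hC (hmem y) (hmem x))) }
    refine ⟨MulEquiv.ofBijective φ ⟨?_, ?_⟩, fun b => rfl⟩
    · rw [injective_iff_map_eq_one]
      intro b hb
      have h1 : a⁻¹ * (b : G)⁻¹ * a * b = 1 := congrArg Subtype.val hb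
      refine Subtype.ext (RootSubgroups.line_inj hS hAS hA' hp hB hC ha ha1 b.2 ?_)
      calc a * (b : G) = b * a * (a⁻¹ * (b : G)⁻¹ * a * b) := by group
        _ = b * a := by rw [h1, mul_one]
    · rintro ⟨c, hc⟩
      obtain ⟨b, hb, he⟩ := RootSubgroups.cc_exists_comm hcc (inv_mem ha) (inv_ne_one.2 ha1) hc
      exact ⟨⟨b⁻¹, inv_mem hb⟩, Subtype.ext (show a⁻¹ * b⁻¹⁻¹ * a * b⁻¹ = c by simpa using he)⟩

end Cfsg.Agent.S5029
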