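import Cfsg.Statements.S5030
import Cfsg.Agent.Lib.RootSubgroups.Series
-- import your own Cfsg.Agent.* helpers here

set_option autoImplicit false
open Cfsg

namespace Cfsg.Agent.S5030

/-- Let S be a set of abstract root subgroups of G and A, B, C ∈ S with ⁅A, B⁆ ∈ S and ⁅B, C⁆ ∈ S, where A and C are different and commute. For a non-identity b ∈ B put X = ⟨A, b⁻¹ C b⟩ and Y = ⟨b⁻¹ A b, C⟩ and R = ⟨A, B, C⟩. Then X and Y are either both abelian or both nilpotent of class exactly two; X and Y commute elementwise; XY is normal in R with R = (XY) B; and R is nilpotent. -/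
theorem result {G : Type*} [Group G] {S : Set (Subgroup G)} (hS : Cfsg.IsRootSubgroupSet S)
    {A B C : Subgroup G} (hA : A ∈ S) (hB : B ∈ S) (hC : C ∈ S) (hAB : ⁅A, B⁆ ∈ S) (hBC : ⁅B, C⁆ ∈ S)
    (hAC : C ∈ Cfsg.commutingPartners S A)
    {b : G} (hb : b ∈ B) (hb1 : b ≠ 1) :
    ((IsMulCommutative ↥(A ⊔ Cfsg.conjBy C b⁻¹) ∧ IsMulCommutative ↥(Cfsg.conjBy A b⁻¹ ⊔ C)) ∨
      ((¬ IsMulCommutative ↥(A ⊔ Cfsg.conjBy C b⁻¹) ∧
          ⁅⁅A ⊔ Cfsg.conjBy C b⁻¹, A ⊔ Cfsg.conjBy C b⁻¹⁆, A ⊔ Cfsg.conjBy C b⁻¹⁆ = ⊥) ∧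
        (¬ IsMulCommutative ↥(Cfsg.conjBy A b⁻¹ ⊔ C) ∧
          ⁅⁅Cfsg.conjBy A b⁻¹ ⊔ C, Cfsg.conjBy A b⁻¹ ⊔ C⁆, Cfsg.conjBy A b⁻¹ ⊔ C⁆ = ⊥))) ∧
    ⁅A ⊔ Cfsg.conjBy C b⁻¹, Cfsg.conjBy A b⁻¹ ⊔ C⁆ = ⊥ ∧
    (∀ r ∈ A ⊔ B ⊔ C, Cfsg.conjBy ((A ⊔ Cfsg.conjBy C b⁻¹) ⊔ (Cfsg.conjBy A b⁻¹ ⊔ C)) r =
      (A ⊔ Cfsg.conjBy C b⁻¹) ⊔ (Cfsg.conjBy A b⁻¹ ⊔ C)) ∧
    ((A ⊔ Cfsg.conjBy C b⁻¹) ⊔ (Cfsg.conjBy A b⁻¹ ⊔ C)) ⊔ B = A ⊔ B ⊔ C ∧
    Group.IsNilpotent ↥(A ⊔ B ⊔ C) := by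
  open Cfsg.Agent.RootSubgroups in
  obtain ⟨-, hneCA, hcAC⟩ := hAC
  have ccP : Cfsg.RootCommutatorCase S A B := cc_of_mem hS hA hB hAB
  have ccQ : Cfsg.RootCommutatorCase S C B := cc_of_mem hS hC hB (by rwa [Subgroup.commutator_comm])
  obtain ⟨P, hP⟩ : ∃ P, P = ⁅A, B⁆ := ⟨_, rfl⟩
  obtain ⟨Q, hQ⟩ : ∃ Q, Q = ⁅C, B⁆ := ⟨_, rfl⟩
  obtain ⟨A', hA'⟩ : ∃ A', A' = Cfsg.conjBy A b⁻¹ := ⟨_, rfl⟩
  obtain ⟨C', hC'⟩ : ∃ C', C' = Cfsg.conjBy C b⁻¹ := ⟨_, rfl⟩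
  rw [← hA', ← hC']
  have hA'S : A' ∈ S := hA' ▸ hS.conj_mem A hA b⁻¹
  have hC'S : C' ∈ S := hC' ▸ hS.conj_mem C hC b⁻¹
  have hbi := inv_mem hb
  have hbi1 : b⁻¹ ≠ 1 := inv_ne_one.2 hb1
  have hPA : ⁅P, A⁆ = ⊥ := hP ▸ cc_commutes_left ccP
  have hPB : ⁅P, B⁆ = ⊥ := hP ▸ cc_commutes_right ccP
  have hQC : ⁅Q, C⁆ = ⊥ := hQ ▸ cc_commutes_left ccQ
  have hQB : ⁅Q, B⁆ = ⊥ := hQ ▸ cc_commutes_right ccQ
  have hA'le : A' ≤ A ⊔ P := by rw [hA', hP]; exact conjBy_le_sup_commutator hbi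
  have hC'le : C' ≤ C ⊔ Q := by rw [hC', hQ]; exact conjBy_le_sup_commutator hbi
  have hPle : P ≤ A ⊔ A' := by rw [hA', hP]; exact commutator_le_sup_conjBy ccP hbi hbi1
  have hQle : Q ≤ C ⊔ C' := by rw [hC', hQ]; exact commutator_le_sup_conjBy ccQ hbi hbi1
  have cent : ∀ {U V : Subgroup G}, ⁅U, V⁆ = ⊥ ↔ U ≤ Subgroup.centralizer (V : Set G) :=
    Subgroup.commutator_eq_bot_iff_le_centralizer
  have hAA' : ⁅A', A⁆ = ⊥ := cent.2 (hA'le.trans (sup_le (cent.1 (commutator_eq_bot_of_commute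
    fun x hx y hy => RootSubgroups.comm hS hA hx hy)) (cent.1 hPA)))
  have hCC' : ⁅C', C⁆ = ⊥ := cent.2 (hC'le.trans (sup_le (cent.1 (commutator_eq_bot_of_commute
    fun x hx y hy => RootSubgroups.comm hS hC hx hy)) (cent.1 hQC)))
  have hA'C' : ⁅A', C'⁆ = ⊥ := by rw [hA', hC', ← conjBy_commutator, hcAC, conjBy_bot]
  -- the two commuting halves
  have hXY : ⁅A ⊔ C', A' ⊔ C⁆ = ⊥ := by
    refine cent.2 (sup_le ?_ ?_)
    · exact Subgroup.le_centralizer_iff.1 (sup_le (cent.1 hAA') (cent.1 (bot_symm hcAC)))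
    · exact Subgroup.le_centralizer_iff.1 (sup_le (cent.1 hA'C') (cent.1 (bot_symm hCC')))
  -- three subgroups
  have hrot : ⁅Q, A⁆ = ⊥ ↔ ⁅P, C⁆ = ⊥ := by
    rw [hP, hQ]
    constructor
    · intro h
      refine Subgroup.commutator_commutator_eq_bot_of_rotate (H₁ := A) (H₂ := B) (H₃ := C) ?_ ?_
      · rwa [Subgroup.commutator_comm B C]
      · rw [bot_symm hcAC, Subgroup.commutator_bot_left]
    · intro h
      refine Subgroup.commutator_commutator_eq_bot_of_rotate (H₁ := C) (H₂ := B) (H₃ := A) ?_ ?_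
      · rwa [Subgroup.commutator_comm B A]
      · rw [hcAC, Subgroup.commutator_bot_left]
  have hXab : IsMulCommutative ↥(A ⊔ C') ↔ ⁅Q, A⁆ = ⊥ := by
    constructor
    · intro h
      refine cent.2 (hQle.trans (sup_le (cent.1 (bot_symm hcAC)) (cent.1 ?_)))
      exact commutator_eq_bot_of_commute fun x hx y hy =>
        comm_of_comm h (Subgroup.mem_sup_right hx) (Subgroup.mem_sup_left hy)
    · intro h
      exact isMulCommutative_sup (hS.commutative A hA) (hS.commutative C' hC'S)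
        (bot_symm (cent.2 (hC'le.trans (sup_le (cent.1 (bot_symm hcAC)) (cent.1 h)))))
  have hYab : IsMulCommutative ↥(A' ⊔ C) ↔ ⁅P, C⁆ = ⊥ := by
    constructor
    · intro h
      refine cent.2 (hPle.trans (sup_le (cent.1 hcAC) (cent.1 ?_)))
      exact commutator_eq_bot_of_commute fun x hx y hy =>
        comm_of_comm h (Subgroup.mem_sup_left hx) (Subgroup.mem_sup_right hy)
    · intro h
      exact isMulCommutative_sup (hS.commutative A' hA'S) (hS.commutative C hC)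
        (cent.2 (hA'le.trans (sup_le (cent.1 hcAC) (cent.1 h))))
  -- no rank one pairs
  have class_two : ∀ U ∈ S, ∀ V ∈ S, ¬ Cfsg.IsRankOnePair U V → ⁅⁅U ⊔ V, U ⊔ V⁆, U ⊔ V⁆ = ⊥ := by
    intro U hU V hV hnp
    rcases hS.pair U hU V hV with h | h | h
    · have hab := isMulCommutative_sup (hS.commutative U hU) (hS.commutative V hV) h
      rw [commutator_eq_bot_of_commute fun x hx y hy => comm_of_comm hab hx hy,
        Subgroup.commutator_bot_left]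
    · exact absurd h hnp
    · have hn : U ⊔ V ≤ Subgroup.normalizer ((⁅U, V⁆ : Subgroup G) : Set G) := fun x hx =>
        Subgroup.centralizer_le_normalizer _
          (Subgroup.mem_centralizer_iff.2 fun c hc => cc_central h hc hx)
      have h1 : ⁅U ⊔ V, U ⊔ V⁆ ≤ ⁅U, V⁆ := by
        have hself : ∀ W ∈ S, ⁅W, W⁆ ≤ ⁅U, V⁆ := fun W hW => by
          rw [commutator_eq_bot_of_commute fun x hx y hy => RootSubgroups.comm hS hW hx hy]
          exact bot_le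
        refine commutator_sup_le ?_ ?_ (le_sup_left.trans hn) (le_sup_right.trans hn)
        · exact commutator_sup_le_right (hself U hU) le_rfl (le_sup_left.trans hn) (le_sup_right.trans hn)
        · exact commutator_sup_le_right (Subgroup.commutator_comm U V).ge (hself V hV)
            (le_sup_left.trans hn) (le_sup_right.trans hn)
      exact le_bot_iff.1 ((Subgroup.commutator_mono h1 le_rfl).trans
        (commutator_eq_bot_of_commute fun c hc x hx => cc_central h hc hx).le)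
  have npX : ¬ Cfsg.IsRankOnePair A C' := by
    intro hp
    obtain ⟨a, ha, ha1, hne⟩ : ∃ a ∈ A, a ≠ 1 ∧ b⁻¹ * a * b * a⁻¹ ≠ 1 := by
      obtain ⟨a, ha, hne⟩ := cc_not_commute hS (cc_symm ccP) hbi hbi1
      rw [inv_inv] at hne
      exact ⟨a, ha, fun e => hne (by rw [e]; group), hne⟩
    have hzA' : b⁻¹ * a * b ∈ A' := hA' ▸ by simpa using conj_mem_conjBy (g := b⁻¹) ha
    refine za_not_root hS hA hC'S hp (z := b⁻¹ * a * b)
      (fun x hx => commute_of_commutator_eq_bot hAA' hzA' hx)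
      (fun x hx => commute_of_commutator_eq_bot hA'C' hzA' hx)
      (fun e => ha1 ((conj_eq_one_iff (a := b⁻¹) (b := a)).1 (by simpa using e)))
      (inv_mem ha) (inv_ne_one.2 ha1) ⟨hne, ⁅A, B⁆, hAB, ?_⟩
    rw [Subgroup.commutator_comm]
    simpa using commutator_mem hbi ha
  have npY : ¬ Cfsg.IsRankOnePair A' C := by
    intro hp
    obtain ⟨c, hc, hc1, hne⟩ : ∃ c ∈ C, c ≠ 1 ∧ b⁻¹ * c * b * c⁻¹ ≠ 1 := by
      obtain ⟨c, hc, hne⟩ := cc_not_commute hS (cc_symm ccQ) hbi hbi1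
      rw [inv_inv] at hne
      exact ⟨c, hc, fun e => hne (by rw [e]; group), hne⟩
    have hzC' : b⁻¹ * c * b ∈ C' := hC' ▸ by simpa using conj_mem_conjBy (g := b⁻¹) hc
    refine za_not_root hS hC hA'S (pair_symm hp) (z := b⁻¹ * c * b)
      (fun x hx => commute_of_commutator_eq_bot hCC' hzC' hx)
      (fun x hx => commute_of_commutator_eq_bot (bot_symm hA'C') hzC' hx)
      (fun e => hc1 ((conj_eq_one_iff (a := b⁻¹) (b := c)).1 (by simpa using e)))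
      (inv_mem hc) (inv_ne_one.2 hc1) ⟨hne, ⁅B, C⁆, hBC, ?_⟩
    simpa using commutator_mem hbi hc
  have hXc := class_two A hA C' hC'S npX
  have hYc := class_two A' hA'S C hC npY
  -- the normal subgroup `N = XY`
  obtain ⟨N, hN⟩ : ∃ N, N = (A ⊔ C') ⊔ (A' ⊔ C) := ⟨_, rfl⟩
  rw [← hN]
  have hAN : A ≤ N := hN ▸ le_sup_left.trans le_sup_left
  have hC'N : C' ≤ N := hN ▸ le_sup_right.trans le_sup_left
  have hA'N : A' ≤ N := hN ▸ le_sup_left.trans le_sup_right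
  have hCN : C ≤ N := hN ▸ le_sup_right.trans le_sup_right
  have hPN : P ≤ N := hPle.trans (sup_le hAN hA'N)
  have hQN : Q ≤ N := hQle.trans (sup_le hCN hC'N)
  have hBn : ∀ g ∈ B, Cfsg.conjBy N g ≤ N := by
    intro g hg
    rw [hN, conjBy_sup, conjBy_sup, conjBy_sup, hA', hC', conjBy_conjBy, conjBy_conjBy, ← hA', ← hC', ← hN]
    have h1 := mul_mem hg hbi
    refine sup_le (sup_le ((conjBy_le_sup_commutator hg).trans (sup_le hAN (hP ▸ hPN))) ?_)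
      (sup_le ?_ ((conjBy_le_sup_commutator hg).trans (sup_le hCN (hQ ▸ hQN))))
    · exact (conjBy_le_sup_commutator h1).trans (sup_le hCN (hQ ▸ hQN))
    · exact (conjBy_le_sup_commutator h1).trans (sup_le hAN (hP ▸ hPN))
  have hR : A ⊔ B ⊔ C ≤ Subgroup.normalizer (N : Set G) := by
    refine sup_le (sup_le (hAN.trans Subgroup.le_normalizer) (fun g hg => ?_)) (hCN.trans Subgroup.le_normalizer)
    refine mem_normalizer_iff_conjBy.2 (le_antisymm (hBn g hg) ?_)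
    have h := conjBy_mono (g := g) (hBn g⁻¹ (inv_mem hg))
    rwa [conjBy_cancel_inv] at h
  have hAR : A ≤ A ⊔ B ⊔ C := le_sup_left.trans le_sup_left
  have hBR : B ≤ A ⊔ B ⊔ C := le_sup_right.trans le_sup_left
  have hCR : C ≤ A ⊔ B ⊔ C := le_sup_right
  have hNR : N ≤ A ⊔ B ⊔ C := by
    rw [hN, hA', hC']
    exact sup_le (sup_le hAR (conjBy_le hCR (hBR hbi))) (sup_le (conjBy_le hAR (hBR hbi)) hCR)
  have hNB : N ⊔ B = A ⊔ B ⊔ C :=
    le_antisymm (sup_le hNR hBR) (sup_le (sup_le (hAN.trans le_sup_left) le_sup_right) (hCN.trans le_sup_left))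
  refine ⟨?_, hXY, fun r hr => conjBy_of_mem_normalizer (hR hr), hNB, ?_⟩
  · by_cases h : ⁅Q, A⁆ = ⊥
    · exact Or.inl ⟨hXab.2 h, hYab.2 (hrot.1 h)⟩
    · exact Or.inr ⟨⟨fun h' => h (hXab.1 h'), hXc⟩, fun h' => h (hrot.2 (hYab.1 h')), hYc⟩
  -- nilpotency
  obtain ⟨R, hRdef⟩ : ∃ R, R = A ⊔ B ⊔ C := ⟨_, rfl⟩
  rw [← hRdef] at hR hAR hBR hCR hNR ⊢
  have hPR := hPN.trans hNR
  have hQR := hQN.trans hNR
  have hNN : ⁅⁅N, N⁆, N⁆ = ⊥ := by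
    obtain ⟨Z, hZ⟩ : ∃ Z, Z = ⁅A ⊔ C', A ⊔ C'⁆ ⊔ ⁅A' ⊔ C, A' ⊔ C⁆ := ⟨_, rfl⟩
    have hx : ⁅A ⊔ C', A ⊔ C'⁆ ≤ A ⊔ C' := commutator_le_sup _ _ |>.trans (sup_le le_rfl le_rfl)
    have hy : ⁅A' ⊔ C, A' ⊔ C⁆ ≤ A' ⊔ C := commutator_le_sup _ _ |>.trans (sup_le le_rfl le_rfl)
    have hZc : Z ≤ Subgroup.centralizer (N : Set G) := by
      rw [hN, hZ]
      refine sup_le ?_ ?_ <;> refine Subgroup.le_centralizer_iff.1 (sup_le ?_ ?_)
      · exact Subgroup.le_centralizer_iff.1 (cent.1 hXc)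
      · exact (cent.1 (bot_symm hXY)).trans (Subgroup.centralizer_le hx)
      · exact (cent.1 hXY).trans (Subgroup.centralizer_le hy)
      · exact Subgroup.le_centralizer_iff.1 (cent.1 hYc)
    have hn : N ≤ Subgroup.normalizer (Z : Set G) :=
      (Subgroup.le_centralizer_iff.1 hZc).trans (Subgroup.centralizer_le_normalizer _)
    have hle : ⁅N, N⁆ ≤ Z := by
      have h0 : ⁅A' ⊔ C, A ⊔ C'⁆ ≤ Z := (bot_symm hXY).le.trans bot_le
      rw [hN]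
      refine commutator_sup_le ?_ ?_ (le_sup_left.trans (hN ▸ hn)) (le_sup_right.trans (hN ▸ hn))
      · exact commutator_sup_le_right (hZ ▸ le_sup_left) (hXY.le.trans bot_le)
          (le_sup_left.trans (hN ▸ hn)) (le_sup_right.trans (hN ▸ hn))
      · exact commutator_sup_le_right h0 (hZ ▸ le_sup_right)
          (le_sup_left.trans (hN ▸ hn)) (le_sup_right.trans (hN ▸ hn))
    exact cent.2 (hle.trans hZc)
  have gens : ∀ L K : Subgroup G, R ≤ Subgroup.normalizer (K : Set G) → ⁅L, A⁆ ≤ K → ⁅L, B⁆ ≤ K →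
      ⁅L, C⁆ ≤ K → ⁅L, R⁆ ≤ K := by
    intro L K hn h1 h2 h3
    rw [hRdef] at hn ⊢
    exact commutator_sup_le_right (commutator_sup_le_right h1 h2
      (le_sup_left.trans (le_sup_left.trans hn)) (le_sup_right.trans (le_sup_left.trans hn))) h3
      (le_sup_left.trans hn) (le_sup_right.trans hn)
  have selfN : ∀ U, U ≤ N → ⁅⁅P, Q⁆, U⁆ = ⊥ ∧ ⁅⁅A, Q⁆, U⁆ = ⊥ ∧ ⁅⁅P, C⁆, U⁆ = ⊥ := fun U hU =>
    ⟨le_bot_iff.1 ((Subgroup.commutator_mono (Subgroup.commutator_mono hPN hQN) hU).trans hNN.le),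
      le_bot_iff.1 ((Subgroup.commutator_mono (Subgroup.commutator_mono hAN hQN) hU).trans hNN.le),
      le_bot_iff.1 ((Subgroup.commutator_mono (Subgroup.commutator_mono hPN hCN) hU).trans hNN.le)⟩
  have hinR : ∀ {U V : Subgroup G}, U ≤ R → V ≤ R → ⁅U, V⁆ ≤ R := fun hU hV =>
    (commutator_le_sup _ _).trans (sup_le hU hV)
  have hK0n : R ≤ Subgroup.normalizer ((⊥ : Subgroup G) : Set G) :=
    le_normalizer_of_commutator_le (Subgroup.commutator_bot_left R).le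
  have e1 : ⁅⁅P, Q⁆, R⁆ ≤ ⊥ := by
    refine gens _ _ hK0n (selfN A hAN).1.le (le_of_eq (cent.2 ?_)) (selfN C hCN).1.le
    exact (commutator_le_sup _ _).trans (sup_le (cent.1 hPB) (cent.1 hQB))
  have hK1n : R ≤ Subgroup.normalizer ((⁅P, Q⁆ : Subgroup G) : Set G) :=
    le_normalizer_of_commutator_le (e1.trans bot_le)
  -- `⁅⁅U, W⁆, B⁆ ≤ ⁅P, Q⁆` when `W` is centralized by `B` and `⁅U, B⁆` commutes with `U` up to `⁅P, Q⁆`
  have eB : ∀ U V W : Subgroup G, U ≤ N → V ≤ N → W ≤ N → ⁅U, B⁆ ≤ V → ⁅W, B⁆ = ⊥ → ⁅V, W⁆ ≤ ⁅P, Q⁆ →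
      ⁅⁅U, W⁆, B⁆ ≤ ⁅P, Q⁆ := by
    intro U V W hU hV hW hUB hWB hVW
    let H : Subgroup G :=
      { carrier := {x | x ∈ R ∧ ∀ g ∈ B, x * g * x⁻¹ * g⁻¹ ∈ ⁅P, Q⁆}
        one_mem' := ⟨one_mem _, fun g _ => by simp⟩
        mul_mem' := by
          rintro x y ⟨hx, hx'⟩ ⟨hy, hy'⟩
          refine ⟨mul_mem hx hy, fun g hg => ?_⟩
          rw [show x * y * g * (x * y)⁻¹ * g⁻¹ = x * (y * g * y⁻¹ * g⁻¹) * x⁻¹ * (x * g * x⁻¹ * g⁻¹) by group]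
          exact mul_mem ((Subgroup.mem_normalizer_iff.1 (hK1n hx) _).1 (hy' g hg)) (hx' g hg)
        inv_mem' := by
          rintro x ⟨hx, hx'⟩
          refine ⟨inv_mem hx, fun g hg => ?_⟩
          rw [show x⁻¹ * g * x⁻¹⁻¹ * g⁻¹ = x⁻¹ * (x * g * x⁻¹ * g⁻¹)⁻¹ * x⁻¹⁻¹ by group]
          exact (Subgroup.mem_normalizer_iff.1 (hK1n (inv_mem hx)) _).1 (inv_mem (hx' g hg)) }
    have hle : ⁅U, W⁆ ≤ H := by
      rw [Subgroup.commutator_le]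
      intro u hu w hw
      have huw := commutator_mem hu hw
      refine ⟨hinR (hU.trans hNR) (hW.trans hNR) huw, fun g hg => ?_⟩
      obtain ⟨t, ht⟩ : ∃ t, t = g * u * g⁻¹ * u⁻¹ := ⟨_, rfl⟩
      have htV : t ∈ V := hUB (by
        rw [Subgroup.commutator_comm, ht]; exact commutator_mem hg hu)
      have e : g * (u * w * u⁻¹ * w⁻¹) * g⁻¹ = t * (u * w * u⁻¹ * w⁻¹) * t⁻¹ * (t * w * t⁻¹ * w⁻¹) := by
        have hw' : g * w * g⁻¹ = w := by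
          rw [← commute_of_commutator_eq_bot hWB hw hg, mul_inv_cancel_right]
        calc g * (u * w * u⁻¹ * w⁻¹) * g⁻¹ = (g * u * g⁻¹) * (g * w * g⁻¹) * (g * u * g⁻¹)⁻¹ * (g * w * g⁻¹)⁻¹ := by group
          _ = _ := by rw [hw', ht]; group
      have hc : t * (u * w * u⁻¹ * w⁻¹) * t⁻¹ = u * w * u⁻¹ * w⁻¹ := by
        rw [← commute_of_commutator_eq_bot hNN (Subgroup.commutator_mono hU hW huw) (hV htV), mul_inv_cancel_right]
      rw [hc] at e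
      change (u * w * u⁻¹ * w⁻¹) * g * (u * w * u⁻¹ * w⁻¹)⁻¹ * g⁻¹ ∈ ⁅P, Q⁆
      rw [
        show (u * w * u⁻¹ * w⁻¹) * g * (u * w * u⁻¹ * w⁻¹)⁻¹ * g⁻¹
          = (u * w * u⁻¹ * w⁻¹) * (g * (u * w * u⁻¹ * w⁻¹) * g⁻¹)⁻¹ by group, e,
        show (u * w * u⁻¹ * w⁻¹) * (u * w * u⁻¹ * w⁻¹ * (t * w * t⁻¹ * w⁻¹))⁻¹
          = (u * w * u⁻¹ * w⁻¹) * (t * w * t⁻¹ * w⁻¹)⁻¹ * (u * w * u⁻¹ * w⁻¹)⁻¹ by group]
      exact (Subgroup.mem_normalizer_iff.1 (hK1n (hinR (hU.trans hNR) (hW.trans hNR) huw)) _).1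
        (inv_mem (hVW (commutator_mem htV hw)))
    rw [Subgroup.commutator_le]
    exact fun x hx g hg => (hle hx).2 g hg
  have e2 : ⁅⁅P, Q⁆ ⊔ (⁅A, Q⁆ ⊔ ⁅P, C⁆), R⁆ ≤ ⁅P, Q⁆ := by
    refine chain_step (e1.trans bot_le) (sup_le (hinR hAR hQR) (hinR hPR hCR)) (hinR hPR hQR) ?_
    refine commutator_sup_le ?_ ?_ ((hinR hAR hQR).trans hK1n) ((hinR hPR hCR).trans hK1n)
    · exact gens _ _ hK1n ((selfN A hAN).2.1.le.trans bot_le)
        (eB A P Q hAN hPN hQN (hP.symm ▸ le_rfl) hQB le_rfl) ((selfN C hCN).2.1.le.trans bot_le)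
    · refine gens _ _ hK1n ((selfN A hAN).2.2.le.trans bot_le) ?_ ((selfN C hCN).2.2.le.trans bot_le)
      rw [Subgroup.commutator_comm P C]
      exact eB C Q P hCN hQN hPN (hQ.symm ▸ le_rfl) hPB (Subgroup.commutator_comm Q P).le
  obtain ⟨K2, hK2⟩ : ∃ K2, K2 = ⁅P, Q⁆ ⊔ (⁅A, Q⁆ ⊔ ⁅P, C⁆) := ⟨_, rfl⟩
  rw [← hK2] at e2
  have hK2le : K2 ≤ R := hK2 ▸ sup_le (hinR hPR hQR) (sup_le (hinR hAR hQR) (hinR hPR hCR))
  have hK2n : R ≤ Subgroup.normalizer (K2 : Set G) :=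
    le_normalizer_of_commutator_le (e2.trans (hK2 ▸ le_sup_left))
  have hAQ : ⁅A, Q⁆ ≤ K2 := hK2 ▸ le_sup_left.trans le_sup_right
  have hPC : ⁅P, C⁆ ≤ K2 := hK2 ▸ le_sup_right.trans le_sup_right
  have e3 : ⁅K2 ⊔ (P ⊔ Q), R⁆ ≤ K2 := by
    refine chain_step (e2.trans (hK2 ▸ le_sup_left)) (sup_le hPR hQR) hK2le ?_
    refine commutator_sup_le ?_ ?_ (hPR.trans hK2n) (hQR.trans hK2n)
    · exact gens _ _ hK2n (hPA.le.trans bot_le) (hPB.le.trans bot_le) hPC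
    · exact gens _ _ hK2n (by rwa [Subgroup.commutator_comm]) (hQB.le.trans bot_le) (hQC.le.trans bot_le)
  obtain ⟨K3, hK3⟩ : ∃ K3, K3 = K2 ⊔ (P ⊔ Q) := ⟨_, rfl⟩
  rw [← hK3] at e3
  have hK3le : K3 ≤ R := hK3 ▸ sup_le hK2le (sup_le hPR hQR)
  have hPK : P ≤ K3 := hK3 ▸ le_sup_left.trans le_sup_right
  have hQK : Q ≤ K3 := hK3 ▸ le_sup_right.trans le_sup_right
  have hK3n : R ≤ Subgroup.normalizer (K3 : Set G) :=
    le_normalizer_of_commutator_le (e3.trans (hK3 ▸ le_sup_left))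
  have hself : ∀ W ∈ S, ⁅W, W⁆ ≤ K3 := fun W hW => by
    rw [commutator_eq_bot_of_commute fun x hx y hy => RootSubgroups.comm hS hW hx hy]; exact bot_le
  have hAC3 : ⁅A, C⁆ ≤ K3 := hcAC.le.trans bot_le
  have e4 : ⁅K3 ⊔ (A ⊔ C), R⁆ ≤ K3 := by
    refine chain_step (e3.trans (hK3 ▸ le_sup_left)) (sup_le hAR hCR) hK3le ?_
    refine commutator_sup_le ?_ ?_ (hAR.trans hK3n) (hCR.trans hK3n)
    · exact gens _ _ hK3n (hself A hA) (hP ▸ hPK) hAC3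
    · exact gens _ _ hK3n (by rwa [Subgroup.commutator_comm]) (hQ ▸ hQK) (hself C hC)
  obtain ⟨K4, hK4⟩ : ∃ K4, K4 = K3 ⊔ (A ⊔ C) := ⟨_, rfl⟩
  rw [← hK4] at e4
  have hK4le : K4 ≤ R := hK4 ▸ sup_le hK3le (sup_le hAR hCR)
  have h34 : K3 ≤ K4 := hK4 ▸ le_sup_left
  have hK4n : R ≤ Subgroup.normalizer (K4 : Set G) := le_normalizer_of_commutator_le (e4.trans h34)
  have e5 : ⁅K4 ⊔ B, R⁆ ≤ K4 := by
    refine chain_step (e4.trans h34) hBR hK4le (gens _ _ hK4n ?_ ((hself B hB).trans h34) ?_)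
    · rw [Subgroup.commutator_comm, ← hP]; exact hPK.trans h34
    · rw [Subgroup.commutator_comm, ← hQ]; exact hQK.trans h34
  refine isNilpotent_of_chain 5 (fun i => [⊥, ⁅P, Q⁆, K2, K3, K4, K4 ⊔ B].getD i ⊤) rfl ?_ ?_
  · change R ≤ K4 ⊔ B
    rw [hRdef, hK4]
    exact sup_le (sup_le (le_sup_left.trans (le_sup_right.trans le_sup_left)) le_sup_right)
      (le_sup_right.trans (le_sup_right.trans le_sup_left))
  · intro i hi
    interval_cases i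
    · exact e1
    · exact e2
    · exact e3
    · exact e4
    · exact e5

end Cfsg.Agent.S5030
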