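import Cfsg.Statements.S5031
import Cfsg.Agent.Lib.RootSubgroups.Class

set_option autoImplicit false
open Cfsg

namespace Cfsg.Agent.S5031

/-- Let S be a set of abstract root subgroups of G and let A, B ∈ S lie in different connected components of the graph of rank one pairs on S, each component having more than one member. Then B is not a line partner of A. -/
theorem result {G : Type*} [Group G] {S : Set (Subgroup G)} (hS : Cfsg.IsRootSubgroupSet S)
    {A B : Subgroup G} (hA : A ∈ S) (hB : B ∈ S)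
    (hne : Cfsg.componentOf (Cfsg.FAdj S) S A ≠ Cfsg.componentOf (Cfsg.FAdj S) S B)
    (hA2 : ∃ A' ∈ Cfsg.componentOf (Cfsg.FAdj S) S A, A' ≠ A) (hB2 : ∃ B' ∈ Cfsg.componentOf (Cfsg.FAdj S) S B, B' ≠ B) :
    B ∉ Cfsg.linePartners S A := by
  intro hBl
  apply hne
  have hpart : ∀ {P : Subgroup G}, P ∈ S → (∃ P' ∈ Cfsg.componentOf (Cfsg.FAdj S) S P, P' ≠ P) →
      ∃ P' ∈ S, Cfsg.IsRankOnePair P P' := by
    rintro P hP ⟨P', ⟨-, hP'⟩, hne'⟩
    rcases hP'.cases_head with h | ⟨Q, hQ, -⟩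
    · exact absurd h.symm hne'
    · exact ⟨Q, hQ.2.1, hQ.2.2⟩
  obtain ⟨A', hA', hp⟩ := hpart hA hA2
  obtain ⟨B', hB', hp'⟩ := hpart hB hB2
  obtain ⟨⟨-, -, hAB⟩, -, hcov, -⟩ := hBl
  have hl : RootSubgroups.Linked S A B := RootSubgroups.linked_of_line hS hA hA' hp hB hB' hp' hAB
    fun a ha b hb h1 => by
      obtain ⟨M, hM, hx⟩ := hcov _ (mul_mem (Subgroup.mem_sup_left ha) (Subgroup.mem_sup_right hb)) h1
      exact ⟨h1, M, hM.1, hx⟩
  ext P
  exact ⟨fun h => ⟨h.1, hl.symm.trans h.2⟩, fun h => ⟨h.1, hl.trans h.2⟩⟩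

end Cfsg.Agent.S5031
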