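import Cfsg.Statements.S5033
import Cfsg.Agent.Lib.RootSubgroups.Lines
import Cfsg.Agent.Lib.RootSubgroups.RankSpecial

set_option autoImplicit false
open Cfsg

namespace Cfsg.Agent.S5033

/-- Quasisimplicity criterion for groups generated by abstract root subgroups. Let S be a set of abstract root subgroups of G with more than one member such that: the graph of rank one pairs on S is connected; no two different members of S have the same set of commuting members of S; if S is degenerate then every member of S has more than three elements; and every rank one pair in S is special. Then for every A ∈ S one has G = G' A with A ∩ G' ≠ 1, and the commutator subgroup G' is quasisimple. Moreover G is perfect if S is non-degenerate, or if some rank one pair A, B in S generates a perfect group. -/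
theorem result {G : Type*} [Group G] {S : Set (Subgroup G)} (hS : Cfsg.IsRootSubgroupSet S) (h2 : ∃ A ∈ S, ∃ B ∈ S, A ≠ B)
    (h1 : Cfsg.IsConnectedFamily (Cfsg.FAdj S) S)
    (h2' : ∀ A ∈ S, ∀ C ∈ S, A ≠ C → Cfsg.centralizingMembers S A ≠ Cfsg.centralizingMembers S C)
    (h3 : Cfsg.IsDegenerateRootSet S → ∀ A ∈ S, 3 < ENat.card A)
    (h4 : ∀ A ∈ S, ∀ B ∈ Cfsg.rankOnePartners S A, Cfsg.IsSpecialRankOnePair A B) :
    (∀ A ∈ S, commutator G ⊔ A = ⊤ ∧ A ⊓ commutator G ≠ ⊥) ∧ Cfsg.IsQuasisimple ↥(commutator G) ∧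
    (Cfsg.IsNondegenerateRootSet S → commutator G = ⊤) ∧
    ((∃ A ∈ S, ∃ B ∈ Cfsg.rankOnePartners S A, Group.IsPerfect ↥(A ⊔ B)) → commutator G = ⊤) := by
  open Cfsg.Agent.RootSubgroups in
  obtain ⟨P₀, hP₀, Q₀, hQ₀, hPQ₀⟩ := h2
  have hcl := class_of_connected hS ⟨P₀, hP₀⟩ h1
  obtain ⟨P₁, hP₁, hp₀⟩ : ∃ P₁ ∈ S, Cfsg.IsRankOnePair P₀ P₁ := by
    rcases (h1 P₀ hP₀ Q₀ hQ₀).cases_head with h | ⟨R, hR, -⟩
    · exact absurd h hPQ₀
    · exact ⟨R, hR.2.1, hR.2.2⟩
  have hF : ∀ X ∈ S, ∃ X' ∈ S, Cfsg.IsRankOnePair X X' :=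
    fun X hX => partner_of_class hS hcl hP₀ hP₁ hp₀ hX
  have hcard : (∀ P ∈ S, ∀ Q ∈ S, ¬ Cfsg.RootCommutatorCase S P Q) → ∀ A ∈ S, 3 < ENat.card A :=
    fun h => h3 h
  have hnd : ∀ P ∈ S, ∀ Q ∈ S, Cfsg.RootCommutatorCase S P Q → Cfsg.IsNondegenerateRootSet S := by
    intro P hP Q hQ hcc
    obtain ⟨P', hP', hp⟩ := hF P hP
    have hl := linePartners_of_cc hS hP hP' hp hQ hcc.1
    exact ⟨⟨P, hP, _, hcc.1, Ne.symm hl.1.2.1, hl.1.2.2⟩, ⟨P₀, hP₀, P₁, hP₁, hp₀⟩, P, hP, Q, hQ, hcc⟩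
  have hmemtop : ∀ N : Subgroup G, N.Normal → ∀ L ∈ S, L ≤ N → N = ⊤ := by
    intro N hN L hL hLN
    rw [eq_top_iff, ← hS.generates]
    refine iSup₂_le fun X hX => ?_
    obtain ⟨g, rfl⟩ := hcl.2 L hL X hX
    rintro _ ⟨x, hx, rfl⟩
    exact hN.conj_mem x (hLN hx) g
  have big : ∀ N : Subgroup G, N.Normal → ∀ A ∈ S, ∀ B ∈ S, Cfsg.IsRankOnePair A B →
      ∀ k ∈ N, k ∈ A ⊔ B → (∃ x ∈ A ⊔ B, k * x ≠ x * k) → N = ⊤ := by
    intro N hN A hA B hB hp k hkN hkX hkne
    have hconv : ∀ x ∈ A ⊔ B, ∃ a ∈ A, QuotientGroup.mk' N x = QuotientGroup.mk' N a := by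
      intro x hx
      rcases normal_dichotomy hp (N := N ⊓ (A ⊔ B)) inf_le_right (fun z hz => by
          rw [Subgroup.mem_normalizer_iff]
          intro y
          constructor
          · exact fun hy => ⟨hN.conj_mem y hy.1 z,
              (mul_mem (mul_mem hz hy.2) (inv_mem hz) : z * y * z⁻¹ ∈ A ⊔ B)⟩
          · intro hy
            have e : y = z⁻¹ * (z * y * z⁻¹) * z⁻¹⁻¹ := by group
            rw [e]
            exact ⟨hN.conj_mem _ hy.1 z⁻¹, (mul_mem (mul_mem (inv_mem hz) hy.2) (inv_mem (inv_mem hz)) :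
              z⁻¹ * (z * y * z⁻¹) * z⁻¹⁻¹ ∈ A ⊔ B)⟩)
        with h | h
      · have hx' : x ∈ N ⊔ A := (sup_le_sup_right inf_le_left A) (h.symm ▸ hx)
        rw [Subgroup.mem_sup_of_normal_left] at hx'
        obtain ⟨n, hn, a, ha, rfl⟩ := hx'
        exact ⟨a, ha, by
          rw [map_mul, show QuotientGroup.mk' N n = 1 from (QuotientGroup.eq_one_iff n).2 hn, one_mul]⟩
      · obtain ⟨x', hx', hne⟩ := hkne
        exact absurd (h k ⟨hkN, hkX⟩ x' hx') hne
    have hker : ∀ (U V : Subgroup G), (∀ u ∈ U, ∀ v ∈ V,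
        QuotientGroup.mk' N u * QuotientGroup.mk' N v =
          QuotientGroup.mk' N v * QuotientGroup.mk' N u) → ⁅U, V⁆ ≤ N := by
      intro U V huv
      rw [Subgroup.commutator_le]
      intro u hu v hv
      rw [← QuotientGroup.eq_one_iff]
      change QuotientGroup.mk' N (u * v * u⁻¹ * v⁻¹) = 1
      simp only [map_mul, map_inv]
      rw [huv u hu v hv, mul_inv_cancel_right, mul_inv_cancel]
    by_cases hdeg : ∀ P ∈ S, ∀ Q ∈ S, ¬ Cfsg.RootCommutatorCase S P Q
    · have hsab := SAB.of (h4 A hA B ⟨hB, hp⟩) ⟨hS.commutative A hA, hS.commutative B hB⟩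
      refine hmemtop N hN A hA ?_
      rw [← commutator_diagonal_eq hsab (hcard hdeg A hA)]
      refine hker _ _ fun u hu v hv => ?_
      obtain ⟨a, ha, e⟩ := hconv v hv.1.1
      rw [e, ← map_mul, ← map_mul, RootSubgroups.comm hS hA hu ha]
    · push Not at hdeg
      obtain ⟨P, hP, Q, hQ, hcc⟩ := hdeg
      obtain ⟨C, hC, hCB, -⟩ := exists_line_cc hS hcl (hnd P hP Q hQ hcc) hA hB hp
      refine hmemtop N hN _ hCB (hker _ _ fun u hu v hv => ?_)
      obtain ⟨a, ha, e⟩ := hconv v (Subgroup.mem_sup_right hv)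
      rw [e, ← map_mul, ← map_mul, commute_of_commutator_eq_bot hC.1.2.2 ha hu]
  have hperf : commutator G = ⊤ := by
    by_cases hdeg : ∀ P ∈ S, ∀ Q ∈ S, ¬ Cfsg.RootCommutatorCase S P Q
    · refine hmemtop _ inferInstance P₀ hP₀ ?_
      have hsab := SAB.of (h4 P₀ hP₀ P₁ ⟨hP₁, hp₀⟩)
        ⟨hS.commutative P₀ hP₀, hS.commutative P₁ hP₁⟩
      exact (le_commutator_of_card hsab (hcard hdeg P₀ hP₀)).trans
        (Subgroup.commutator_mono le_top le_top)
    · push Not at hdeg
      obtain ⟨P, hP, Q, hQ, hcc⟩ := hdeg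
      exact hmemtop _ inferInstance _ hcc.1 (Subgroup.commutator_mono le_top le_top)
  have hsimple : ∀ N : Subgroup G, N.Normal → ¬ N ≤ Subgroup.center G → N = ⊤ := by
    intro N hN hnc
    have base : ∀ A ∈ S, ∀ n ∈ N, Cfsg.IsRankOnePair A (Cfsg.conjBy A n) → N = ⊤ := by
      intro A hA n hn hp
      obtain ⟨a, ha, ha1⟩ := exists_ne_one hp
      have hz : a⁻¹ * (n * a * n⁻¹) ∈ N := by
        rw [show a⁻¹ * (n * a * n⁻¹) = (a⁻¹ * n * a⁻¹⁻¹) * n⁻¹ by group]
        exact mul_mem (hN.conj_mem n hn a⁻¹) (inv_mem hn)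
      refine big N hN A hA _ (hS.conj_mem A hA n) hp _ hz
        (mul_mem (Subgroup.mem_sup_left (inv_mem ha))
          (Subgroup.mem_sup_right (conj_mem_conjBy ha))) ?_
      by_contra hcom
      push Not at hcom
      refine ha1 ?_
      have h1 : n * a * n⁻¹ = 1 := eq_one_of_centralizes (RankOnePair_symm hp)
        (conj_mem_conjBy ha) fun x hx => by
          calc n * a * n⁻¹ * x = a * (a⁻¹ * (n * a * n⁻¹) * x) := by group
            _ = a * (x * (a⁻¹ * (n * a * n⁻¹))) := by rw [hcom x (Subgroup.mem_sup_left hx)]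
            _ = (a * x) * a⁻¹ * (n * a * n⁻¹) := by group
            _ = _ := by rw [RootSubgroups.comm hS hA ha hx]; group
      exact conj_eq_one_iff.1 h1
    have side : ∀ A ∈ S, ∀ n ∈ N, ∀ W ∈ S, ⁅A, W⁆ = ⊥ → ⁅Cfsg.conjBy A n, W⁆ ≠ ⊥ → N = ⊤ := by
      intro A hA n hn W hW hAW hne
      rcases hS.pair _ (hS.conj_mem A hA n) W hW with h | h | h
      · exact absurd h hne
      · obtain ⟨q, hq, hq1⟩ := exists_ne_one h
        obtain ⟨a, ha, rfl⟩ := hq
        change n * a * n⁻¹ ≠ 1 at hq1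
        have hz : n * a * n⁻¹ * a⁻¹ ∈ N := by
          rw [show n * a * n⁻¹ * a⁻¹ = n * (a * n⁻¹ * a⁻¹) by group]
          exact mul_mem hn (hN.conj_mem n⁻¹ (inv_mem hn) a)
        refine base W hW _ hz ?_
        have he : Cfsg.conjBy W (n * a * n⁻¹ * a⁻¹) = Cfsg.conjBy W (n * a * n⁻¹) := by
          rw [← conjBy_conjBy]
          congr 1
          exact conjBy_of_commute fun w hw =>
            commute_of_commutator_eq_bot hAW (inv_mem ha) hw
        rw [he]
        refine (pair_of_mem h (right_mem h) (conjBy_mem_unipotent (right_mem h)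
          (Subgroup.mem_sup_left (conj_mem_conjBy ha))) fun e => hq1 ?_).1
        exact eq_one_of_normalizes h (conj_mem_conjBy ha) e.symm
      · refine hmemtop N hN _ h.1 ?_
        rw [Subgroup.commutator_le]
        rintro _ ⟨a, ha, rfl⟩ w hw
        rw [← QuotientGroup.eq_one_iff]
        change QuotientGroup.mk' N (n * a * n⁻¹ * w * (n * a * n⁻¹)⁻¹ * w⁻¹) = 1
        have hn1 : QuotientGroup.mk' N n = 1 := (QuotientGroup.eq_one_iff n).2 hn
        simp only [map_mul, map_inv, hn1, one_mul, inv_one, mul_one]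
        rw [← map_mul, commute_of_commutator_eq_bot hAW ha hw, map_mul, mul_inv_cancel_right,
          mul_inv_cancel]
    by_cases hfix : ∀ A ∈ S, ∀ n ∈ N, Cfsg.conjBy A n = A
    · obtain ⟨n, hn, hnc⟩ := SetLike.not_le_iff_exists.1 hnc
      obtain ⟨A, hA, a, ha, hne⟩ : ∃ A ∈ S, ∃ a ∈ A, n * a ≠ a * n := by
        by_contra hcon
        push Not at hcon
        apply hnc
        have hle : (⨆ X ∈ S, X) ≤ Subgroup.centralizer {n} := iSup₂_le fun X hX x hx =>
          Subgroup.mem_centralizer_iff.2 fun v hv => by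
            rw [Set.mem_singleton_iff.1 hv]; exact hcon X hX x hx
        rw [hS.generates] at hle
        exact Subgroup.mem_center_iff.2 fun g =>
          (Subgroup.mem_centralizer_iff.1 (hle (Subgroup.mem_top g)) n rfl).symm
      obtain ⟨B, hB, hp⟩ := hF A hA
      have hzA : n * a * n⁻¹ * a⁻¹ ∈ A :=
        mul_mem (hfix A hA n hn ▸ conj_mem_conjBy ha) (inv_mem ha)
      have hzN : n * a * n⁻¹ * a⁻¹ ∈ N := by
        rw [show n * a * n⁻¹ * a⁻¹ = n * (a * n⁻¹ * a⁻¹) by group]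
        exact mul_mem hn (hN.conj_mem n⁻¹ (inv_mem hn) a)
      refine big N hN A hA B hB hp _ hzN (Subgroup.mem_sup_left hzA) ?_
      by_contra hcom
      push Not at hcom
      exact hne (mul_inv_eq_iff_eq_mul.1 (mul_inv_eq_one.1
        (eq_one_of_centralizes hp hzA fun b hb => hcom b (Subgroup.mem_sup_right hb))))
    push Not at hfix
    obtain ⟨A, hA, n, hn, hne⟩ := hfix
    rcases hS.pair A hA _ (hS.conj_mem A hA n) with h | h | h
    · obtain ⟨W, hW⟩ : ∃ W, ¬ (W ∈ Cfsg.centralizingMembers S A ↔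
          W ∈ Cfsg.centralizingMembers S (Cfsg.conjBy A n)) := by
        by_contra hcon
        push Not at hcon
        exact h2' A hA _ (hS.conj_mem A hA n) (Ne.symm hne) (Set.ext hcon)
      have hmem : ∀ {X W : Subgroup G}, W ∈ Cfsg.centralizingMembers S X ↔
          W ∈ S ∧ ⁅X, W⁆ = ⊥ := by
        intro X W
        rw [Subgroup.commutator_comm, Subgroup.commutator_eq_bot_iff_le_centralizer]
        rfl
      rw [hmem, hmem] at hW
      by_cases hAW : W ∈ S ∧ ⁅A, W⁆ = ⊥
      · exact side A hA n hn W hAW.1 hAW.2 fun e => hW (iff_of_true hAW ⟨hAW.1, e⟩)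
      · have hQW : W ∈ S ∧ ⁅Cfsg.conjBy A n, W⁆ = ⊥ := by
          by_contra h'
          exact hW (iff_of_false hAW h')
        refine side _ (hS.conj_mem A hA n) n⁻¹ (inv_mem hn) W hQW.1 hQW.2 ?_
        rw [conjBy_inv_cancel]
        exact fun e => hAW ⟨hQW.1, e⟩
    · exact base A hA n hn h
    · refine hmemtop N hN _ h.1 ?_
      rw [Subgroup.commutator_le]
      rintro u hu _ ⟨a, ha, rfl⟩
      rw [← QuotientGroup.eq_one_iff]
      change QuotientGroup.mk' N (u * (n * a * n⁻¹) * u⁻¹ * (n * a * n⁻¹)⁻¹) = 1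
      have hn1 : QuotientGroup.mk' N n = 1 := (QuotientGroup.eq_one_iff n).2 hn
      simp only [map_mul, map_inv, hn1, one_mul, inv_one, mul_one]
      rw [← map_mul, RootSubgroups.comm hS hA hu ha, map_mul, mul_inv_cancel_right, mul_inv_cancel]
  refine ⟨fun A hA => ⟨by rw [hperf, top_sup_eq], by rw [hperf, inf_top_eq]; exact hS.ne_bot A hA⟩,
    ?_, fun _ => hperf, fun _ => hperf⟩
  refine isQuasisimple_of_mulEquiv
    (Subgroup.topEquiv.symm.trans (MulEquiv.subgroupCongr hperf.symm)) ?_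
  refine ⟨Group.isPerfect_def.2 hperf, ?_⟩
  have hne : Subgroup.center G ≠ ⊤ := by
    intro htop
    obtain ⟨a, ha, ha1⟩ := exists_ne_one hp₀
    refine ha1 (eq_one_of_centralizes hp₀ ha fun b _ => ?_)
    exact (Subgroup.mem_center_iff.1 (htop ▸ Subgroup.mem_top a : a ∈ Subgroup.center G) b).symm
  have : Nontrivial (G ⧸ Subgroup.center G) := by
    rw [QuotientGroup.nontrivial_iff]; exact hne
  refine ⟨fun M hM => ?_⟩
  by_cases hle : M.comap (QuotientGroup.mk' (Subgroup.center G)) ≤ Subgroup.center G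
  · left
    rw [eq_bot_iff]
    intro q hq
    induction q using QuotientGroup.induction_on with
    | H x => exact (QuotientGroup.eq_one_iff x).2 (hle hq)
  · right
    rw [eq_top_iff]
    intro q _
    induction q using QuotientGroup.induction_on with
    | H x =>
      have hx : x ∈ M.comap (QuotientGroup.mk' (Subgroup.center G)) := by
        rw [hsimple _ (hM.comap _) hle]
        trivial
      exact hx

end Cfsg.Agent.S5033
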