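import Cfsg.Statements.S5035
import Cfsg.Agent.Lib.RootSubgroups.Class

set_option autoImplicit false
open Cfsg

namespace Cfsg.Agent.S5035

/-- Let S be a set of abstract root subgroups of G whose graph of rank one pairs is connected, and f a homomorphism from G onto a group H. Then either the images of the members of S form a set of abstract root subgroups of H whose graph of rank one pairs is again connected, or H equals the image of a member of S. -/
theorem result {G H : Type*} [Group G] [Group H] {S : Set (Subgroup G)} (hS : Cfsg.IsRootSubgroupSet S)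
    (hc : Cfsg.IsConnectedFamily (Cfsg.FAdj S) S) (f : G →* H) (hf : Function.Surjective f) :
    (Cfsg.IsRootSubgroupSet ((fun A : Subgroup G => A.map f) '' S) ∧
      Cfsg.IsConnectedFamily (Cfsg.FAdj ((fun A : Subgroup G => A.map f) '' S)) ((fun A : Subgroup G => A.map f) '' S)) ∨
    ∃ A ∈ S, A.map f = ⊤ := by
  by_cases hb : ∃ A ∈ S, A.map f = ⊥
  · obtain ⟨A, hA, hAb⟩ := hb
    refine Or.inr ⟨A, hA, ?_⟩
    have hall : ∀ P ∈ S, P.map f = ⊥ := by
      intro P hP
      obtain ⟨g, rfl⟩ := (RootSubgroups.class_of_connected hS ⟨A, hA⟩ hc).2 A hA P hP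
      rw [eq_bot_iff]
      rintro _ ⟨_, ⟨a, ha, rfl⟩, rfl⟩
      have : f a = 1 := Subgroup.mem_bot.1 (hAb ▸ Subgroup.mem_map_of_mem f ha)
      simp [this]
    have hle : (⨆ P ∈ S, P) ≤ f.ker := iSup₂_le fun P hP => (Subgroup.map_eq_bot_iff _).1 (hall P hP)
    rw [hS.generates] at hle
    rw [hAb, eq_comm, eq_bot_iff]
    intro y _
    obtain ⟨x, rfl⟩ := hf y
    exact Subgroup.mem_bot.2 (hle (Subgroup.mem_top x))
  push Not at hb
  have hpair : ∀ A ∈ S, ∀ B ∈ S, Cfsg.IsRankOnePair A B →
      A.map f = B.map f ∨ Cfsg.IsRankOnePair (A.map f) (B.map f) := by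
    intro A hA B hB hp
    by_cases he : A.map f = B.map f
    · exact Or.inl he
    have hmapc : ∀ (P : Subgroup G) (g : G),
        (Cfsg.conjBy P g).map f = Cfsg.conjBy (P.map f) (f g) := by
      intro P g
      change (P.map (MulAut.conj g).toMonoidHom).map f = (P.map f).map (MulAut.conj (f g)).toMonoidHom
      rw [Subgroup.map_map, Subgroup.map_map]
      congr 1
      ext x; simp
    have hcond : ∀ {P Q : Subgroup G}, P.map f ≠ Q.map f → Cfsg.IsRankOnePair P Q →
        Cfsg.RankOneCondition (P.map f) (Q.map f) := by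
      intro P Q hPQ h x hx hx1
      obtain ⟨a, ha, rfl⟩ := hx
      obtain ⟨b, hb', -, e⟩ := h.cond_left a ha (fun e => hx1 (by simp [e]))
      have e' : Cfsg.conjBy (P.map f) (f b)⁻¹ = Cfsg.conjBy (Q.map f) (f a)⁻¹ := by
        have := congrArg (Subgroup.map f) e
        rwa [hmapc, hmapc, map_inv, map_inv] at this
      refine ⟨f b, Subgroup.mem_map_of_mem f hb', fun hb1 => hPQ ?_, e'⟩
      rw [hb1, inv_one, RootSubgroups.conjBy_one] at e'
      have e2 := RootSubgroups.conjBy_eq_iff.1 e'.symm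
      rw [inv_inv, RootSubgroups.conjBy_of_mem (Subgroup.mem_map_of_mem f ha)] at e2
      exact e2.symm
    have := hp.nilpotent_left
    have := hp.nilpotent_right
    exact Or.inr ⟨he, Group.nilpotent_of_surjective _ (f.subgroupMap_surjective A),
      Group.nilpotent_of_surjective _ (f.subgroupMap_surjective B),
      hcond he hp, hcond (Ne.symm he) (RankOnePair_symm hp)⟩
  have hcomm : ∀ A ∈ S, IsMulCommutative ↥(A.map f) := fun A hA =>
    RootSubgroups.isMulCommutative_of_forall (by
      rintro _ ⟨a, ha, rfl⟩ _ ⟨a', ha', rfl⟩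
      rw [← map_mul, ← map_mul, RootSubgroups.comm hS hA ha ha'])
  refine Or.inl ⟨⟨?_, ?_, ?_, ?_, ?_⟩, ?_⟩
  · rintro _ ⟨A, hA, rfl⟩; exact hcomm A hA
  · rintro _ ⟨A, hA, rfl⟩; exact hb A hA
  · rw [iSup_image, ← Subgroup.map_top_of_surjective f hf, ← hS.generates]
    simp only [Subgroup.map_iSup]
  · rintro _ ⟨A, hA, rfl⟩ y
    obtain ⟨g, rfl⟩ := hf y
    refine ⟨Cfsg.conjBy A g, hS.conj_mem A hA g, ?_⟩
    change (A.map (MulAut.conj g).toMonoidHom).map f = (A.map f).map (MulAut.conj (f g)).toMonoidHom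
    rw [Subgroup.map_map, Subgroup.map_map]
    congr 1
    ext x; simp
  · rintro _ ⟨A, hA, rfl⟩ _ ⟨B, hB, rfl⟩
    rcases hS.pair A hA B hB with h | h | h
    · left; rw [← Subgroup.map_commutator, h, Subgroup.map_bot]
    · rcases hpair A hA B hB h with e | e
      · exact Or.inl (RootSubgroups.commutator_eq_bot_of_commute fun x hx y hy =>
          RootSubgroups.comm_of_comm (hcomm A hA) hx (show y ∈ A.map f by
            change A.map f = B.map f at e; rw [e]; exact hy))
      · exact Or.inr (Or.inl e)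
    · refine Or.inr (Or.inr ?_)
      have hm : ⁅A.map f, B.map f⁆ = ⁅A, B⁆.map f := (Subgroup.map_commutator _ _ _).symm
      refine ⟨⟨⁅A, B⁆, h.1, hm.symm⟩, ?_, ?_, ?_⟩
      · intro c hc x hx
        rw [hm] at hc
        obtain ⟨c, hc', rfl⟩ := hc
        rw [← Subgroup.map_sup] at hx
        obtain ⟨x, hx', rfl⟩ := hx
        rw [← map_mul, ← map_mul, RootSubgroups.cc_central h hc' hx']
      · rintro _ ⟨a, ha, rfl⟩ ha1
        rw [hm, ← h.2.2.1 a ha (fun e => ha1 (by simp [e])), MonoidHom.map_closure,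
          Subgroup.coe_map, Set.image_image, Set.image_image]
        simp
      · rintro _ ⟨b, hb', rfl⟩ hb1
        rw [hm, ← h.2.2.2 b hb' (fun e => hb1 (by simp [e])), MonoidHom.map_closure,
          Subgroup.coe_map, Set.image_image, Set.image_image]
        simp
  · rintro _ ⟨A, hA, rfl⟩ _ ⟨B, hB, rfl⟩
    have h := hc A hA B hB
    clear hB
    induction h with
    | refl => exact Relation.ReflTransGen.refl
    | tail _ h2 ih =>
      rcases hpair _ h2.1 _ h2.2.1 h2.2.2 with e | e
      · simp only at ih ⊢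
        rw [← e]
        exact ih
      · exact ih.tail ⟨⟨_, h2.1, rfl⟩, ⟨_, h2.2.1, rfl⟩, e⟩

end Cfsg.Agent.S5035
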