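import Cfsg.Statements.S5036
import Cfsg.Agent.Lib.RootSubgroups.Lines

set_option autoImplicit false
open Cfsg

namespace Cfsg.Agent.S5036

open scoped Pointwise in
theorem mem_sup_decomp {G : Type*} [Group G] {A B : Subgroup G} {n : G} (hn : n ∈ A ⊔ ⁅A, B⁆) :
    ∃ a ∈ A, ∃ c ∈ ⁅A, B⁆, n = a * c := by
  rw [← SetLike.mem_coe, Subgroup.coe_mul_of_left_le_normalizer_right _ _
    (Subgroup.normalizer_commutator_ge_left _ _), Set.mem_mul] at hn
  obtain ⟨a, ha, c, hc, rfl⟩ := hn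
  exact ⟨a, ha, c, hc, rfl⟩

/-- Let S be a set of abstract root subgroups of G, A, B ∈ S with C = ⁅A, B⁆ ∈ S, and D ∈ S with ⁅D, C⁆ = A. Put X = ⟨B, D⟩ and N = AC. Then B, D form a rank one pair; the conjugates of A under X are the conjugates of C under X, namely the conjugates of A by elements of B together with C, equally the conjugates of C by elements of D together with A, and they partition N; and the centralizer of N in X is central in X. -/
theorem result {G : Type*} [Group G] {S : Set (Subgroup G)} (hS : Cfsg.IsRootSubgroupSet S)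
    {A B D : Subgroup G} (hA : A ∈ S) (hB : B ∈ S) (hC : ⁅A, B⁆ ∈ S) (hD : D ∈ S) (hDC : ⁅D, ⁅A, B⁆⁆ = A) :
    Cfsg.IsRankOnePair B D ∧
    {E | ∃ x ∈ B ⊔ D, E = Cfsg.conjBy A x} = {E | ∃ x ∈ B ⊔ D, E = Cfsg.conjBy ⁅A, B⁆ x} ∧
    {E | ∃ x ∈ B ⊔ D, E = Cfsg.conjBy A x} = (fun b : G => Cfsg.conjBy A b) '' (B : Set G) ∪ {⁅A, B⁆} ∧
    {E | ∃ x ∈ B ⊔ D, E = Cfsg.conjBy A x} = (fun d : G => Cfsg.conjBy ⁅A, B⁆ d) '' (D : Set G) ∪ {A} ∧
    Cfsg.IsSubgroupPartition (A ⊔ ⁅A, B⁆) {E | ∃ x ∈ B ⊔ D, E = Cfsg.conjBy A x} ∧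
    ∀ x ∈ (B ⊔ D) ⊓ Subgroup.centralizer ((A ⊔ ⁅A, B⁆ : Subgroup G) : Set G), ∀ y ∈ B ⊔ D, x * y = y * x := by
  open Cfsg.Agent.RootSubgroups in
  have hcc := cc_of_mem hS hA hB hC
  have hC' : ⁅D, ⁅A, B⁆⁆ ∈ S := hDC.symm ▸ hA
  have hcc' := cc_of_mem hS hD hC hC'
  have hp : Cfsg.IsRankOnePair B D := triangle hS hA hB hC hD hDC
  have hAD : ∀ a ∈ A, ∀ d ∈ D, a * d = d * a := fun a ha d hd =>
    cc_central hcc' (hDC.symm ▸ ha) (Subgroup.mem_sup_left hd)
  have hAC : ∀ a ∈ A, ∀ c ∈ ⁅A, B⁆, a * c = c * a := fun a ha c hc =>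
    cc_central hcc' (hDC.symm ▸ ha) (Subgroup.mem_sup_right hc)
  have hCB : ∀ c ∈ ⁅A, B⁆, ∀ b ∈ B, c * b = b * c := fun c hc b hb =>
    cc_central hcc hc (Subgroup.mem_sup_right hb)
  have injA : ∀ a ∈ A, a ≠ 1 → ∀ b ∈ B, a * b = b * a → b = 1 := by
    intro a ha ha1 b hb hab
    by_contra hb1
    have hne : D ≠ conjBy D b := fun e => hb1 (eq_one_of_normalizes hp hb e.symm)
    obtain ⟨-, hsup⟩ := pair_of_mem hp (right_mem hp)
      (conjBy_mem_unipotent (right_mem hp) (Subgroup.mem_sup_left hb)) hne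
    obtain ⟨u, hu, hune⟩ := cc_not_commute hS hcc ha ha1
    apply hune
    have hcen : D ⊔ conjBy D b ≤ Subgroup.centralizer {a} := by
      refine sup_le (fun d hd => Subgroup.mem_centralizer_iff.2 fun v hv => ?_) ?_
      · rw [Set.mem_singleton_iff.1 hv]; exact hAD a ha d hd
      · rintro _ ⟨d, hd, rfl⟩
        refine Subgroup.mem_centralizer_iff.2 fun v hv => ?_
        rw [Set.mem_singleton_iff.1 hv]
        change a * (b * d * b⁻¹) = b * d * b⁻¹ * a
        have hab' : a * b⁻¹ = b⁻¹ * a := by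
          calc a * b⁻¹ = b⁻¹ * (b * a) * b⁻¹ := by group
            _ = b⁻¹ * (a * b) * b⁻¹ := by rw [hab]
            _ = _ := by group
        calc a * (b * d * b⁻¹) = (a * b) * d * b⁻¹ := by group
          _ = b * (a * d) * b⁻¹ := by rw [hab]; group
          _ = b * d * (a * b⁻¹) := by rw [hAD a ha d hd]; group
          _ = b * d * b⁻¹ * a := by rw [hab']; group
    have := Subgroup.mem_centralizer_iff.1 (hcen (by rw [hsup]; exact Subgroup.mem_sup_left hu)) a rfl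
    rw [this]; group
  have fixB : ∀ n ∈ A ⊔ ⁅A, B⁆, (∀ b ∈ B, n * b = b * n) → n ∈ ⁅A, B⁆ := by
    intro n hn hcom
    obtain ⟨a, ha, c, hc, rfl⟩ := mem_sup_decomp hn
    by_cases ha1 : a = 1
    · simpa [ha1] using hc
    obtain ⟨b, hb, hne⟩ := cc_not_commute hS hcc ha ha1
    refine absurd ?_ hne
    have h1 : a * b = b * a := by
      calc a * b = a * (c * b) * c⁻¹ := by rw [hCB c hc b hb]; group
        _ = (a * c * b) * c⁻¹ := by group
        _ = b * a := by rw [hcom b hb]; group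
    rw [h1]; group
  have fixD : ∀ n ∈ A ⊔ ⁅A, B⁆, (∀ d ∈ D, n * d = d * n) → n ∈ A := by
    intro n hn hcom
    obtain ⟨a, ha, c, hc, rfl⟩ := mem_sup_decomp hn
    by_cases hc1 : c = 1
    · simpa [hc1] using ha
    obtain ⟨d, hd, hne⟩ := cc_not_commute hS (cc_symm hcc') hc hc1
    refine absurd ?_ hne
    have h1 : c * d = d * c := by
      calc c * d = a⁻¹ * (a * c * d) := by group
        _ = (a⁻¹ * d) * (a * c) := by rw [hcom d hd]; group
        _ = (d * a⁻¹) * (a * c) := by rw [hAD _ (inv_mem ha) d hd]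
        _ = d * c := by group
    rw [h1]; group
  have hAb : ∀ b ∈ B, conjBy A b ≤ A ⊔ ⁅A, B⁆ := by
    intro b hb
    rintro _ ⟨a, ha, rfl⟩
    change b * a * b⁻¹ ∈ _
    rw [show b * a * b⁻¹ = (b * a * b⁻¹ * a⁻¹) * a by group]
    exact mul_mem (Subgroup.mem_sup_right (Subgroup.commutator_comm A B ▸ commutator_mem hb ha))
      (Subgroup.mem_sup_left ha)
  have hCd : ∀ d ∈ D, conjBy ⁅A, B⁆ d ≤ A ⊔ ⁅A, B⁆ := by
    intro d hd
    rintro _ ⟨c, hc, rfl⟩
    change d * c * d⁻¹ ∈ _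
    rw [show d * c * d⁻¹ = (d * c * d⁻¹ * c⁻¹) * c by group]
    exact mul_mem (Subgroup.mem_sup_left (hDC ▸ commutator_mem hd hc)) (Subgroup.mem_sup_right hc)
  have hnorm : B ⊔ D ≤ Subgroup.normalizer ((A ⊔ ⁅A, B⁆ : Subgroup G) : Set G) := by
    have key : ∀ x : G, conjBy A x ≤ A ⊔ ⁅A, B⁆ → conjBy ⁅A, B⁆ x ≤ A ⊔ ⁅A, B⁆ →
        conjBy (A ⊔ ⁅A, B⁆) x ≤ A ⊔ ⁅A, B⁆ := fun x h1 h2 => by
      rw [conjBy_sup]; exact sup_le h1 h2
    refine sup_le ?_ ?_ <;> intro x hx <;> rw [mem_normalizer_iff_conjBy]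
    · have h : ∀ x ∈ B, conjBy (A ⊔ ⁅A, B⁆) x ≤ A ⊔ ⁅A, B⁆ := fun x hx => key x (hAb x hx)
        (by rw [conjBy_of_commute fun c hc => (hCB c hc x hx).symm]; exact le_sup_right)
      refine le_antisymm (h x hx) ?_
      have h1 := conjBy_mono (g := x) (h x⁻¹ (inv_mem hx))
      rwa [conjBy_cancel_inv] at h1
    · have h : ∀ x ∈ D, conjBy (A ⊔ ⁅A, B⁆) x ≤ A ⊔ ⁅A, B⁆ := fun x hx => key x
        (by rw [conjBy_of_commute fun a ha => (hAD a ha x hx).symm]; exact le_sup_left) (hCd x hx)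
      refine le_antisymm (h x hx) ?_
      have h1 := conjBy_mono (g := x) (h x⁻¹ (inv_mem hx))
      rwa [conjBy_cancel_inv] at h1
  -- the point fixed by a conjugate of a unipotent subgroup
  have match1 : ∀ b ∈ B, ∀ d ∈ D, conjBy D b = conjBy B d → conjBy A b = conjBy ⁅A, B⁆ d := by
    intro b hb d hd he
    apply le_antisymm
    · rintro _ ⟨a, ha, rfl⟩
      refine mem_conjBy.2 (fixB _ ?_ fun u hu => ?_)
      · have h1 : d⁻¹ * (b * a * b⁻¹) * d⁻¹⁻¹ ∈ conjBy (A ⊔ ⁅A, B⁆) d⁻¹ :=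
          conj_mem_conjBy (hAb b hb (conj_mem_conjBy ha))
        rwa [conjBy_of_mem_normalizer (hnorm (Subgroup.mem_sup_right (inv_mem hd))), inv_inv] at h1
      · obtain ⟨v, hv, hveq⟩ : d * u * d⁻¹ ∈ conjBy D b := he.symm ▸ conj_mem_conjBy hu
        have hu' : u = d⁻¹ * (b * v * b⁻¹) * d := by
          change b * v * b⁻¹ = d * u * d⁻¹ at hveq
          rw [hveq]; group
        rw [hu']
        change d⁻¹ * (b * a * b⁻¹) * d * _ = _
        calc d⁻¹ * (b * a * b⁻¹) * d * (d⁻¹ * (b * v * b⁻¹) * d)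
            = d⁻¹ * b * (a * v) * b⁻¹ * d := by group
          _ = d⁻¹ * b * (v * a) * b⁻¹ * d := by rw [hAD a ha v hv]
          _ = _ := by simp [mul_assoc, MulAut.conj_apply]
    · rintro _ ⟨c, hc, rfl⟩
      refine mem_conjBy.2 (fixD _ ?_ fun u hu => ?_)
      · have h1 : b⁻¹ * (d * c * d⁻¹) * b⁻¹⁻¹ ∈ conjBy (A ⊔ ⁅A, B⁆) b⁻¹ :=
          conj_mem_conjBy (hCd d hd (conj_mem_conjBy hc))
        rwa [conjBy_of_mem_normalizer (hnorm (Subgroup.mem_sup_left (inv_mem hb))), inv_inv] at h1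
      · obtain ⟨v, hv, hveq⟩ : b * u * b⁻¹ ∈ conjBy B d := he ▸ conj_mem_conjBy hu
        have hu' : u = b⁻¹ * (d * v * d⁻¹) * b := by
          change d * v * d⁻¹ = b * u * b⁻¹ at hveq
          rw [hveq]; group
        rw [hu']
        change b⁻¹ * (d * c * d⁻¹) * b * _ = _
        calc b⁻¹ * (d * c * d⁻¹) * b * (b⁻¹ * (d * v * d⁻¹) * b)
            = b⁻¹ * d * (c * v) * d⁻¹ * b := by group
          _ = b⁻¹ * d * (v * c) * d⁻¹ * b := by rw [hCB c hc v hv]
          _ = _ := by simp [mul_assoc, MulAut.conj_apply]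
  let T1 := (fun b : G => conjBy A b) '' (B : Set G) ∪ {⁅A, B⁆}
  let T2 := (fun d : G => conjBy ⁅A, B⁆ d) '' (D : Set G) ∪ {A}
  have hT : T1 = T2 := by
    apply le_antisymm
    · rintro E (⟨b, hb, rfl⟩ | rfl)
      · by_cases hb1 : b = 1
        · exact Or.inr (by simp [hb1, conjBy_one])
        · obtain ⟨d, hd, -, he⟩ := conj_left_by_right (pair_symm hp) hb hb1
          exact Or.inl ⟨d, hd, (match1 b hb d hd he).symm⟩
      · exact Or.inl ⟨1, one_mem _, conjBy_one _⟩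
    · rintro E (⟨d, hd, rfl⟩ | rfl)
      · by_cases hd1 : d = 1
        · exact Or.inr (by simp [hd1, conjBy_one])
        · obtain ⟨b, hb, -, he⟩ := conj_left_by_right hp hd hd1
          exact Or.inl ⟨b, hb, match1 b hb d hd he.symm⟩
      · exact Or.inl ⟨1, one_mem _, conjBy_one _⟩
  have hclosed : ∀ x ∈ B ⊔ D, ∀ E ∈ T1, conjBy E x ∈ T1 := by
    intro x hx E hE
    refine orbit_sup (T := T1) ?_ ?_ hx hE
    · rintro b hb E (⟨b', hb', rfl⟩ | rfl)
      · exact Or.inl ⟨b * b', mul_mem hb hb', (conjBy_conjBy A b b').symm⟩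
      · exact Or.inr (conjBy_of_commute fun c hc => (hCB c hc b hb).symm)
    · rw [hT]
      rintro d hd E (⟨d', hd', rfl⟩ | rfl)
      · exact Or.inl ⟨d * d', mul_mem hd hd', (conjBy_conjBy _ d d').symm⟩
      · exact Or.inr (conjBy_of_commute fun a ha => (hAD a ha d hd).symm)
  obtain ⟨g, hg, hgC⟩ : ∃ g ∈ B ⊔ D, conjBy A g = ⁅A, B⁆ := by
    obtain ⟨b, hb, hb1⟩ := exists_ne_one hp
    obtain ⟨d, hd, -, he⟩ := conj_left_by_right (pair_symm hp) hb hb1
    refine ⟨d⁻¹ * b, mul_mem (Subgroup.mem_sup_right (inv_mem hd)) (Subgroup.mem_sup_left hb), ?_⟩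
    rw [← conjBy_conjBy, match1 b hb d hd he, conjBy_inv_cancel]
  have horbit : {E | ∃ x ∈ B ⊔ D, E = Cfsg.conjBy A x} = T1 := by
    apply le_antisymm
    · rintro _ ⟨x, hx, rfl⟩
      exact hclosed x hx A (Or.inl ⟨1, one_mem _, conjBy_one A⟩)
    · rintro E (⟨b, hb, rfl⟩ | rfl)
      · exact ⟨b, Subgroup.mem_sup_left hb, rfl⟩
      · exact ⟨g, hg, hgC.symm⟩
  have horbit' : {E | ∃ x ∈ B ⊔ D, E = Cfsg.conjBy ⁅A, B⁆ x} = T1 := by
    rw [← horbit]
    apply le_antisymm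
    · rintro _ ⟨x, hx, rfl⟩
      exact ⟨x * g, mul_mem hx hg, by rw [← conjBy_conjBy, hgC]⟩
    · rintro _ ⟨x, hx, rfl⟩
      exact ⟨x * g⁻¹, mul_mem hx (inv_mem hg), by
        rw [← conjBy_conjBy, ← hgC, conjBy_inv_cancel]⟩
  refine ⟨hp, horbit.trans horbit'.symm, horbit, horbit.trans hT, ?_, ?_⟩
  · rw [horbit]
    refine ⟨?_, ?_, ?_⟩
    · rintro E (⟨b, hb, rfl⟩ | rfl)
      · exact hAb b hb
      · exact le_sup_right
    · intro n hn hn1
      obtain ⟨a, ha, c, hc, rfl⟩ := mem_sup_decomp hn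
      by_cases ha1 : a = 1
      · exact ⟨_, Or.inr rfl, by simpa [ha1] using hc⟩
      obtain ⟨b, hb, he⟩ := cc_exists_comm hcc ha ha1 (inv_mem hc)
      refine ⟨_, Or.inl ⟨b, hb, rfl⟩, ?_⟩
      have h1 : c = b * a * b⁻¹ * a⁻¹ := by rw [← inv_inv c, ← he]; group
      have h2 : a * c = b * a * b⁻¹ := by rw [hAC a ha c hc, h1]; group
      exact h2 ▸ conj_mem_conjBy ha
    · have hAC1 : ∀ a ∈ A, a ∈ ⁅A, B⁆ → a = 1 := by
        intro a ha haC
        by_contra ha1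
        obtain ⟨u, hu, hne⟩ := cc_not_commute hS hcc ha ha1
        exact hne (by rw [hCB a haC u hu]; group)
      have hbC : ∀ b ∈ B, conjBy A b ⊓ ⁅A, B⁆ = ⊥ := by
        intro b hb
        rw [Subgroup.eq_bot_iff_forall]
        rintro x ⟨⟨a, ha, rfl⟩, hxC⟩
        have h1 : a ∈ ⁅A, B⁆ := by
          have h2 := conj_mem_conjBy (g := b⁻¹) hxC
          rw [conjBy_of_commute fun c hc => (hCB c hc b⁻¹ (inv_mem hb)).symm] at h2
          simpa [MulAut.conj_apply, mul_assoc] using h2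
        simp [hAC1 a ha h1]
      rintro P (⟨b, hb, rfl⟩ | rfl) Q (⟨b', hb', rfl⟩ | rfl) hne
      · rw [Subgroup.eq_bot_iff_forall]
        rintro x ⟨⟨a, ha, rfl⟩, a', ha', he⟩
        by_contra hx1
        apply hne
        change b' * a' * b'⁻¹ = b * a * b⁻¹ at he
        have ha1 : a ≠ 1 := fun e => hx1 (by simp [e])
        have h1 : a' = (b'⁻¹ * b) * a * (b'⁻¹ * b)⁻¹ := by
          calc a' = b'⁻¹ * (b' * a' * b'⁻¹) * b' := by group
            _ = _ := by rw [he]; group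
        have h2 : a' * a⁻¹ = (b'⁻¹ * b) * a * (b'⁻¹ * b)⁻¹ * a⁻¹ := by rw [h1]
        have h3 : a' * a⁻¹ = 1 := hAC1 _ (mul_mem ha' (inv_mem ha)) (by
          rw [h2, Subgroup.commutator_comm]; exact commutator_mem (mul_mem (inv_mem hb') hb) ha)
        rw [mul_inv_eq_one.1 h3] at h1
        have h4 : a * (b'⁻¹ * b) = (b'⁻¹ * b) * a := by
          calc a * (b'⁻¹ * b) = (b'⁻¹ * b) * a * (b'⁻¹ * b)⁻¹ * (b'⁻¹ * b) := by rw [← h1]
            _ = _ := by group
        rw [inv_mul_eq_one.1 (injA a ha ha1 _ (mul_mem (inv_mem hb') hb) h4)]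
      · exact hbC b hb
      · rw [inf_comm]; exact hbC b' hb'
      · exact absurd rfl hne
  · intro x hx y hy
    let K := (B ⊔ D) ⊓ Subgroup.centralizer ((A ⊔ ⁅A, B⁆ : Subgroup G) : Set G)
    have hKn : B ⊔ D ≤ Subgroup.normalizer (K : Set G) := by
      intro z hz
      rw [mem_normalizer_iff_conjBy]
      change ((B ⊔ D) ⊓ _).map (MulAut.conj z).toMonoidHom = K
      rw [Subgroup.map_inf _ _ _ (MulAut.conj z).injective]
      congr 1
      · exact conjBy_of_mem hz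
      · ext u
        rw [mem_conjBy, Subgroup.mem_centralizer_iff, Subgroup.mem_centralizer_iff]
        have hN := Subgroup.mem_normalizer_iff.1 (hnorm hz)
        constructor
        · intro h v hv
          have h1 := h (z⁻¹ * v * z) ((hN _).2 (by simpa [mul_assoc] using hv))
          have := congrArg (fun w => z * w * z⁻¹) h1
          simpa [mul_assoc] using this
        · intro h v hv
          have h1 := h (z * v * z⁻¹) ((hN v).1 hv)
          have := congrArg (fun w => z⁻¹ * w * z) h1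
          simpa [mul_assoc] using this
    rcases normal_dichotomy hp (inf_le_left : K ≤ B ⊔ D) hKn with hK | hK
    · exfalso
      obtain ⟨c, hc, hc1⟩ := exists_mem_ne_one hS hC
      obtain ⟨d, hd, hne⟩ := cc_not_commute hS (cc_symm hcc') hc hc1
      apply hne
      have hcen : K ⊔ B ≤ Subgroup.centralizer {c} := sup_le
        (fun u hu => Subgroup.mem_centralizer_iff.2 fun v hv => by
          rw [Set.mem_singleton_iff.1 hv]
          exact Subgroup.mem_centralizer_iff.1 hu.2 c (Subgroup.mem_sup_right hc))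
        (fun u hu => Subgroup.mem_centralizer_iff.2 fun v hv => by
          rw [Set.mem_singleton_iff.1 hv]; exact hCB c hc u hu)
      rw [Subgroup.mem_centralizer_iff.1 (hcen (hK ▸ Subgroup.mem_sup_right hd)) c rfl]
      group
    · exact hK x hx y hy

end Cfsg.Agent.S5036
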