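import Cfsg.Statements.S5037
import Cfsg.Agent.Lib.RootSubgroups.Inclusion

set_option autoImplicit false
open Cfsg

namespace Cfsg.Agent.S5037

/-- Let S be a class of abstract root subgroups of G that is either degenerate or non-degenerate (so either the commutator case never occurs, or all three cases occur), and A ≠ C members of S. If every member of S commuting with A commutes with C, then A and C have the same commuting members of S; and if every rank one partner of A is a rank one partner of C, then A and C commute and have the same rank one partners. -/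
theorem result {G : Type*} [Group G] {S : Set (Subgroup G)} (hS : Cfsg.IsRootSubgroupClass S)
    (hdn : Cfsg.IsDegenerateRootSet S ∨ Cfsg.IsNondegenerateRootSet S)
    {A C : Subgroup G} (hA : A ∈ S) (hC : C ∈ S) (hAC : A ≠ C) :
    (Cfsg.centralizingMembers S A ⊆ Cfsg.centralizingMembers S C →
      Cfsg.centralizingMembers S A = Cfsg.centralizingMembers S C) ∧
    (Cfsg.rankOnePartners S A ⊆ Cfsg.rankOnePartners S C →
      ⁅A, C⁆ = ⊥ ∧ Cfsg.rankOnePartners S A = Cfsg.rankOnePartners S C) := by
  by_cases hpair : ∃ P ∈ S, ∃ Q ∈ S, Cfsg.IsRankOnePair P Q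
  · obtain ⟨P, hP, Q, hQ, hp⟩ := hpair
    have hF : ∀ X ∈ S, ∃ X' ∈ S, Cfsg.IsRankOnePair X X' :=
      fun X hX => RootSubgroups.partner_of_class hS.1 hS.2 hP hQ hp hX
    exact ⟨RootSubgroups.centralizing_eq_of_subset hS.1 hF hA hC, fun h =>
      ⟨RootSubgroups.commute_of_partners_subset hS.1 hF hA hC h,
        RootSubgroups.partners_eq_of_subset hS.1 hF hA hC h⟩⟩
  · rcases hdn with hdeg | ⟨-, ⟨P, hP, Q, hQ, hp⟩, -⟩
    · have hcom : ∀ X ∈ S, ∀ Y ∈ S, ⁅X, Y⁆ = ⊥ := by
        intro X hX Y hY
        rcases hS.1.pair X hX Y hY with h | h | h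
        · exact h
        · exact absurd ⟨X, hX, Y, hY, h⟩ hpair
        · exact absurd h (hdeg X hX Y hY)
      refine ⟨fun _ => ?_, fun _ => ⟨hcom A hA C hC, ?_⟩⟩
      · ext B
        simp only [RootSubgroups.mem_centralizing_iff]
        exact ⟨fun h => ⟨h.1, hcom C hC B h.1⟩, fun h => ⟨h.1, hcom A hA B h.1⟩⟩
      · ext B
        exact ⟨fun h => absurd ⟨A, hA, B, h.1, h.2⟩ hpair,
          fun h => absurd ⟨C, hC, B, h.1, h.2⟩ hpair⟩
    · exact absurd ⟨P, hP, Q, hQ, hp⟩ hpair

end Cfsg.Agent.S5037
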