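import Cfsg.Statements.S5039
import Cfsg.Agent.Lib.RootSubgroups.Special
import Cfsg.Agent.Lib.RootSubgroups.Transvection
-- import your own Cfsg.Agent.* helpers here

set_option autoImplicit false
universe u
open Cfsg

namespace Cfsg.Agent.S5039

/-- Let S be a class of abstract root subgroups of G containing two different commuting members. Suppose that, in case S is degenerate and every element of every member of S has order at most 3, the following holds: for every A ∈ S and every rank one partner B of A there are subgroups A₀ ≤ A and B₀ ≤ B generating an image of SL₂(k) with central kernel, k a field with at least four elements, A₀ and B₀ being the images of the unitriangular subgroups. Then every rank one pair A, B in S is special. -/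
theorem result {G : Type u} [Group G] {S : Set (Subgroup G)} (hS : Cfsg.IsRootSubgroupClass S)
    (hcomm : ∃ A ∈ S, ∃ C ∈ S, A ≠ C ∧ ⁅A, C⁆ = ⊥)
    (hH : Cfsg.IsDegenerateRootSet S → (∀ A ∈ S, ∀ a ∈ A, 0 < orderOf a ∧ orderOf a ≤ 3) →
      ∀ A ∈ S, ∀ B ∈ Cfsg.rankOnePartners S A, ∃ A₀ B₀ : Subgroup G, A₀ ≤ A ∧ B₀ ≤ B ∧
        ∃ (k : Type u) (_ : Field k), 3 < ENat.card k ∧ Cfsg.IsPSL2PairOver k A₀ B₀)
    {A B : Subgroup G} (hA : A ∈ S) (hB : B ∈ Cfsg.rankOnePartners S A) : Cfsg.IsSpecialRankOnePair A B := by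
  open Cfsg.Agent.RootSubgroups in
  obtain ⟨hS, hcl⟩ := hS
  obtain ⟨hBS, hp⟩ := hB
  obtain ⟨A₁, hA₁, C₁, hC₁, hne₁, hc₁⟩ := hcomm
  by_cases hdeg : Cfsg.IsDegenerateRootSet S
  · have flip : Cfsg.IsSpecialRankOnePair B A → Cfsg.IsSpecialRankOnePair A B := fun h => by
      have h' := (SAB.of h ⟨hS.commutative B hBS, hS.commutative A hA⟩).symm
      exact ⟨h'.pair, h'.special⟩
    by_cases h1 : ∃ C ∈ Cfsg.commutingPartners S A, Cfsg.IsRankOnePair C B
    · obtain ⟨C, hC, hpC⟩ := h1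
      exact special_of_common hS hdeg hA hC.1 hBS hC.2.2 (Ne.symm hC.2.1) hp hpC
    by_cases h2 : ∃ C ∈ Cfsg.commutingPartners S B, Cfsg.IsRankOnePair C A
    · obtain ⟨C, hC, hpC⟩ := h2
      exact flip (special_of_common hS hdeg hBS hC.1 hA hC.2.2 (Ne.symm hC.2.1) (pair_symm hp) hpC)
    exfalso
    push Not at h1 h2
    have htw : Twin S A B := by
      refine Set.ext fun W => ⟨fun hW => ?_, fun hW => ?_⟩
      · rcases pair_or_commute hS hdeg hW.1 hBS with h | h
        · exact ⟨hW.1, fun e => comm_of_pair_bot (e ▸ hW.2.2) hp, bot_symm h⟩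
        · exact absurd h (h1 W hW)
      · rcases pair_or_commute hS hdeg hW.1 hA with h | h
        · exact ⟨hW.1, fun e => comm_of_pair_bot (e ▸ hW.2.2) (pair_symm hp), bot_symm h⟩
        · exact absurd h (h2 W hW)
    obtain ⟨g, rfl⟩ := hcl.2 A₁ hA₁ A hA
    have hC₀ : Cfsg.conjBy C₁ g ∈ Cfsg.commutingPartners S (Cfsg.conjBy A₁ g) :=
      (mem_partners_conj hS g).2 ⟨hC₁, Ne.symm hne₁, hc₁⟩
    generalize Cfsg.conjBy C₁ g = C₀ at hC₀
    clear hc₁ hne₁ hC₁
    generalize Cfsg.conjBy A₁ g = A at *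
    obtain ⟨C, hC, D, hD, hpA, hpC⟩ : ∃ C ∈ Cfsg.commutingPartners S A, ∃ D ∈ S,
        Cfsg.IsRankOnePair A D ∧ Cfsg.IsRankOnePair C D := by
      by_contra hcon
      push Not at hcon
      have hall : ∀ X, Linked S C₀ X → X ∈ Cfsg.commutingPartners S A := by
        intro X hX
        induction hX with
        | refl => exact hC₀
        | @tail W R _ hstep ih =>
          rcases pair_or_commute hS hdeg hA hstep.2.1 with h | h
          · exact ⟨hstep.2.1, fun e => comm_of_pair_bot (bot_symm ih.2.2) (e ▸ hstep.2.2), h⟩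
          · exact absurd hstep.2.2 (hcon W ih R hstep.2.1 h)
      exact (hall A (connected_of_class hS hcl hA hBS hp C₀ hC₀.1 A hA)).2.1 rfl
    have hDB : D ≠ B := by
      rintro rfl
      have hC' : C ∈ Cfsg.commutingPartners S D := htw ▸ hC
      exact comm_of_pair_bot (bot_symm hC'.2.2) hpC
    have hpB : Cfsg.IsRankOnePair B D := twin_pair hS hdeg hA hBS hD htw hpA hDB
    by_cases hsmall : ∀ A ∈ S, ∀ a ∈ A, 0 < orderOf a ∧ orderOf a ≤ 3
    · obtain ⟨A₀, B₀, hA₀, hB₀, k, _, hk, hpsl⟩ := hH hdeg hsmall A hA B ⟨hBS, hp⟩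
      exact no_psl2 hS hdeg hA hBS hD htw hC hpA hpC hpB hA₀ hB₀ hk hpsl
    push Not at hsmall
    obtain ⟨X, hX, x, hx, hord⟩ := hsmall
    obtain ⟨y, rfl⟩ := hcl.2 X hX A hA
    have hx2 : x * x ≠ 1 := fun e => by
      have h := orderOf_le_of_pow_eq_one two_pos (by rwa [pow_two] : x ^ 2 = 1)
      have hfin : IsOfFinOrder x := isOfFinOrder_iff_pow_eq_one.2 ⟨2, two_pos, by rwa [pow_two]⟩
      have := hord hfin.orderOf_pos
      omega
    have hx3 : x * x * x ≠ 1 := fun e => by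
      have e' : x ^ 3 = 1 := by rwa [pow_succ, pow_two]
      have h := orderOf_le_of_pow_eq_one (by norm_num : 0 < 3) e'
      have hfin : IsOfFinOrder x := isOfFinOrder_iff_pow_eq_one.2 ⟨3, by norm_num, e'⟩
      have := hord hfin.orderOf_pos
      omega
    obtain ⟨b, hb, hb1⟩ := exists_ne_one (pair_symm hp)
    obtain ⟨a₀, ha₀, he⟩ := exists_matched hS hdeg hA hD htw hpA hpB hb hb1
    refine twin_absurd hS hdeg hA hBS hD htw hp hC hpA hpC (a := y * x * y⁻¹)
      (conj_mem_conjBy hx) (fun e => hx2 ?_) (fun e => hx3 ?_) ha₀ hb hb1 he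
    · exact conj_eq_one_iff.1 ((by group : y * (x * x) * y⁻¹ = _).trans e)
    · exact conj_eq_one_iff.1 ((by group : y * (x * x * x) * y⁻¹ = _).trans e)
  · unfold Cfsg.IsDegenerateRootSet at hdeg
    push Not at hdeg
    obtain ⟨P, hP, Q, hQ, hcc⟩ := hdeg
    have hnd : Cfsg.IsNondegenerateRootSet S :=
      ⟨⟨A₁, hA₁, C₁, hC₁, hne₁, hc₁⟩, ⟨A, hA, B, hBS, hp⟩, P, hP, Q, hQ, hcc⟩
    obtain ⟨C, hC, hF, hback⟩ := exists_line_cc hS hcl hnd hA hBS hp
    exact special_of_line hS hA hBS hp hC.1.1 hF hback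

end Cfsg.Agent.S5039
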