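import Cfsg.Statements.S5040
import Cfsg.Agent.Lib.RootSubgroups.Lines

set_option autoImplicit false
open Cfsg

namespace Cfsg.Agent.S5040

/-- Let S be a non-degenerate class of abstract root subgroups of G and Δ a weak TI-subset of S. Then the members of Δ commute with one another elementwise. -/
theorem result {G : Type*} [Group G] {S : Set (Subgroup G)} (hS : Cfsg.IsRootSubgroupClass S) (hnd : Cfsg.IsNondegenerateRootSet S)
    {Δ : Set (Subgroup G)} (hΔ : Cfsg.IsWeakTISubset S Δ) : Cfsg.IsAbelianFamily Δ := by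
  obtain ⟨hsub, -, hne, hti⟩ := hΔ
  have hF := RootSubgroups.partners_of_nondeg hS.1 hS.2 hnd
  let H : Subgroup G :=
    { carrier := {g | (fun X => Cfsg.conjBy X g) '' Δ = Δ}
      one_mem' := by simp [RootSubgroups.conjBy_one]
      mul_mem' := by
        intro x y hx hy
        simp only [Set.mem_setOf_eq] at hx hy ⊢
        conv_rhs => rw [← hx, ← hy]
        rw [Set.image_image]
        simp only [RootSubgroups.conjBy_conjBy]
      inv_mem' := by
        intro x hx
        simp only [Set.mem_setOf_eq] at hx ⊢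
        conv_lhs => rw [← hx]
        rw [Set.image_image]
        simp [RootSubgroups.conjBy_inv_cancel] }
  have hcomm : ∀ P ∈ Δ, ∀ R ∈ S, ⁅P, R⁆ = ⊥ → R ≤ H := by
    intro P hP R hR h r hr
    by_cases hr1 : r = 1
    · rw [hr1]; exact one_mem H
    rcases hti r ⟨hr1, R, hR, hr⟩ with h1 | h1
    · exact h1
    · exfalso
      refine Set.disjoint_left.1 h1 ⟨P, hP, ?_⟩ hP
      exact RootSubgroups.conjBy_of_commute fun x hx =>
        (RootSubgroups.commute_of_commutator_eq_bot h hx hr).symm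
  have hgen : ∀ P ∈ Δ, ∀ B ∈ S, Cfsg.IsRankOnePair P B → B ≤ H → False := by
    intro P hP B hB hp hBH
    apply hne
    have htop : H = ⊤ := by
      rw [eq_top_iff, ← RootSubgroups.generation hS.1 hS.2 hnd (hsub hP) hB hp]
      exact sup_le (iSup₂_le fun C hC => hcomm P hP C hC.1.1 hC.1.2.2) hBH
    refine le_antisymm hsub fun X hX => ?_
    obtain ⟨g, rfl⟩ := hS.2.2 P (hsub hP) X hX
    have hg : g ∈ H := htop ▸ Subgroup.mem_top g
    have hg' : (fun X => Cfsg.conjBy X g) '' Δ = Δ := hg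
    exact hg' ▸ Set.mem_image_of_mem _ hP
  intro P hP Q hQ p hp q hq
  refine RootSubgroups.commute_of_commutator_eq_bot ?_ hp hq
  rcases hS.1.pair P (hsub hP) Q (hsub hQ) with h | h | h
  · exact h
  · exact (hgen P hP Q (hsub hQ) h (hcomm Q hQ Q (hsub hQ)
      (RootSubgroups.commutator_eq_bot_of_commute fun _ ha _ hb =>
        RootSubgroups.comm hS.1 (hsub hQ) ha hb))).elim
  exfalso
  obtain ⟨L, hLdef⟩ : ∃ L, L = ⁅P, Q⁆ := ⟨_, rfl⟩
  have hL : L ∈ S := hLdef ▸ h.1
  obtain ⟨Q', hQ', hpQ⟩ := hF Q (hsub hQ)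
  have hQP : ⁅Q, P⁆ = L := by rw [Subgroup.commutator_comm, hLdef]
  have hline : L ∈ Cfsg.linePartners S Q :=
    hQP ▸ RootSubgroups.linePartners_of_cc hS.1 (hsub hQ) hQ' hpQ (hsub hP) (hQP.symm ▸ hL)
  obtain ⟨-, -, F, hFS, hLF, -⟩ := (RootSubgroups.line_two_trans hS.1 hF (hsub hQ) hline).2
    Q ⟨hsub hQ, le_sup_left⟩ L ⟨hL, le_sup_right⟩ (Ne.symm hline.1.2.1)
  have hC : ⁅L, F⁆ ∈ S := hLF.symm ▸ hsub hQ
  have hpair : Cfsg.IsRankOnePair F P := RootSubgroups.triangle hS.1 hL hFS hC (hsub hP)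
    (by rw [hLF, hLdef])
  refine hgen P hP F hFS (RankOnePair_symm hpair) (hcomm Q hQ F hFS ?_)
  have h1 := RootSubgroups.cc_commutes_right (RootSubgroups.cc_of_mem hS.1 hL hFS hC)
  rwa [hLF] at h1

end Cfsg.Agent.S5040
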