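import Cfsg.Statements.S5046
import Cfsg.Agent.RootInv81.Basic


set_option autoImplicit false
open Cfsg Cfsg.Agent.RootSubgroups.RootInv Cfsg.Agent.RootInv81

namespace Cfsg.Agent.S5046

/-- Let G be a finite group generated by a set D of root involutions whose odd-order-product graph is connected, and d ∈ D. Then the members e of D with the same commuting members as d are exactly those for which the union of the commuting members of d and the members whose product with d has order 4 equals the corresponding union for e. -/
theorem result {G : Type*} [Group G] [Finite G] {D : Set G} (hD : Cfsg.IsRootInvolutionSet D)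
    (hc : Cfsg.IsConnectedSet (Cfsg.OddAdj D) D) {d : G} (hd : d ∈ D) :
    Cfsg.sameCommutingClass D d =
      {e | e ∈ D ∧ Cfsg.commutingMembers D d ∪ Cfsg.fourPartners D d = Cfsg.commutingMembers D e ∪ Cfsg.fourPartners D e} := by
  have key : ∀ u ∈ D, ∀ x,
      x ∈ commutingMembers D u ∪ fourPartners D u ↔ x ∈ D ∧ x ∉ oddPartners D u := by
    intro u hu x
    constructor
    · rintro (h | h)
      · exact ⟨h.1, fun ho => oddPartners_not_comm hD hu ho h.2.symm⟩
      · exact ⟨h.1, fun ho => oddPartners_not_four hD ho h.2⟩
    · rintro ⟨hx, ho⟩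
      rcases trichotomy hD hu hx with h | ⟨hne, h⟩ | h
      · exact Or.inl ⟨hx, h.symm⟩
      · exact absurd ⟨hx, hne.symm, h⟩ ho
      · exact Or.inr ⟨hx, h⟩
  ext e
  refine and_congr_right fun he => ?_
  rw [comm_eq_iff_oddPartners_eq hD hc hd he]
  constructor
  · intro h
    ext x
    rw [key d hd, key e he, h]
  · intro h
    ext x
    have hx := Set.ext_iff.1 h x
    rw [key d hd, key e he] at hx
    by_cases hxD : x ∈ D
    · exact not_iff_not.1 (by simpa [hxD] using hx)
    · exact ⟨fun h' => absurd h'.1 hxD, fun h' => absurd h'.1 hxD⟩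

end Cfsg.Agent.S5046
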