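import Cfsg.Statements.S5047
import Cfsg.Agent.RootInv81.Basic


set_option autoImplicit false
open Cfsg Cfsg.Agent.RootSubgroups.RootInv Cfsg.Agent.RootInv81

namespace Cfsg.Agent.S5047

/-- Let G be a finite group generated by a set D of root involutions whose odd-order-product graph is connected, a ∈ D, and b a member of D different from a, commuting with a, with ab ∈ D, but not having the same commuting members as a. Then some member x of D with bx of order 4 has ax of order 3. -/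
theorem result {G : Type*} [Group G] [Finite G] {D : Set G} (hD : Cfsg.IsRootInvolutionSet D)
    (hc : Cfsg.IsConnectedSet (Cfsg.OddAdj D) D) {a b : G} (ha : a ∈ D) (hb : b ∈ Cfsg.productPartners D a)
    (hbE : b ∉ Cfsg.sameCommutingClass D a) : ∃ x ∈ Cfsg.fourPartners D b, orderOf (a * x) = 3 := by
  obtain ⟨hbD, hba, hne⟩ := hb.1
  have hAne : oddPartners D a ≠ oddPartners D b := fun h =>
    hbE ⟨hbD, (comm_eq_iff_oddPartners_eq hD hc ha hbD).2 h⟩
  obtain ⟨w, hwa, hwb⟩ := exists_odd_sdiff hD hc ha hbD hAne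
  have hw4 : orderOf (w * b) = 4 := by
    rcases trichotomy hD hwa.1 hbD with h | ⟨hne', ho⟩ | h
    · exact absurd h (profile hD hbD (pp_symm hD hb ha) hwa)
    · exact absurd ⟨hwa.1, hne', by rwa [orderOf_swap hD hwa.1 hbD]⟩ hwb
    · exact h
  obtain ⟨m, hm, hm4, hm2⟩ := four_lift hD hwa.1 (oddPartners_symm hD ha hwa) hb hw4
  have hbm : b ∈ productPartners D m := hm2 ▸ sq_pp' hD ha hm.1.1 hm4
  have hAne' : oddPartners D b ≠ oddPartners D m := fun h => by
    have h' := (comm_eq_iff_oddPartners_eq hD hc hbD hm.1.1).2 h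
    have : a ∈ commutingMembers D m := h' ▸ (⟨ha, hba.symm⟩ : a ∈ commutingMembers D b)
    exact four_ne_comm hD ha hm.1.1 hm4 this.2
  obtain ⟨v, hvb, hvm⟩ := exists_odd_sdiff hD hc hbD hm.1.1 hAne'
  have hv4 : orderOf (v * m) = 4 := by
    rcases trichotomy hD hvb.1 hm.1.1 with h | ⟨hne', ho⟩ | h
    · exact absurd h (profile hD hm.1.1 hbm hvb)
    · exact absurd ⟨hvb.1, hne', by rwa [orderOf_swap hD hvb.1 hm.1.1]⟩ hvm
    · exact h
  obtain ⟨y, hy, hy4, hy2⟩ :=
    four_lift hD hvb.1 (oddPartners_symm hD hbD hvb) (pp_symm hD hbm hm.1.1) hv4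
  exact ⟨y, ⟨hy.1.1, hy4⟩, order_three hD hm.1.1 ha hbD hy.1.1
    ((orderOf_swap hD ha hm.1.1).trans hm4) (by rw [four_sq_swap hD ha hm.1.1 hm4, hm2]) hy4 hy2⟩

end Cfsg.Agent.S5047
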