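import Cfsg.Statements.S5049
import Cfsg.Agent.Lib.RootSubgroups.Involutions
import Cfsg.Agent.Lib.Thompson.Cores
-- import your own Cfsg.Agent.* helpers here

set_option autoImplicit false
open Cfsg

namespace Cfsg.Agent.S5049

/-- Let G be a finite group generated by a set D of odd transpositions (root involutions with no product of order 4), Q = O₂(G), and for a ∈ D let Q_a be the commutator subgroup of Q with a. Then every member of D commuting with a centralizes Q_a; and for b ∈ D with ab of odd order greater than 1, the centralizer of ab in Q is the intersection of the centralizers of a and b in Q. -/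
theorem result {G : Type*} [Group G] [Finite G] {D : Set G} (hD : Cfsg.IsOddTranspositionSet D) {a : G} (ha : a ∈ D) :
    (∀ e ∈ Cfsg.commutingMembers D a, ∀ q ∈ ⁅Cfsg.pCore 2 G, Subgroup.zpowers a⁆, e * q = q * e) ∧
    (∀ b ∈ Cfsg.oddPartners D a,
      Cfsg.pCore 2 G ⊓ Subgroup.centralizer {a * b} = Cfsg.pCore 2 G ⊓ Subgroup.centralizer {a} ⊓ Subgroup.centralizer {b}) := by
  open Cfsg.Agent.RootSubgroups.RootInv in
  have : Fact (Nat.Prime 2) := ⟨Nat.prime_two⟩
  have hQn : (Cfsg.pCore 2 G).Normal := Thompson.instPCoreNormal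
  have hQp : IsPGroup 2 ↥(Cfsg.pCore 2 G) := Thompson.isPGroup_pCore
  -- conjugates under the core of commuting members commute
  have hcomm : ∀ u ∈ D, ∀ v ∈ D, u * v = v * u → ∀ q ∈ Cfsg.pCore 2 G,
      u * (q * v * q⁻¹) = (q * v * q⁻¹) * u := by
    intro u hu v hv huv q hq
    have hw : q * v * q⁻¹ ∈ D := hD.1.conj_mem v hv q
    by_contra hc
    have ho : Odd (orderOf (u * (q * v * q⁻¹))) := by
      rcases hD.1.pair u hu _ hw with h | h | ⟨h, -⟩
      · exact absurd h hc
      · exact h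
      · exact absurd h (hD.2 u hu _ hw)
    obtain ⟨t, ht⟩ : ∃ t, t = u * (q * v * q⁻¹) := ⟨_, rfl⟩
    have hsq : t ^ 2 ∈ Cfsg.pCore 2 G := by
      obtain ⟨r, hr⟩ : ∃ r, r = q * (v * q⁻¹ * v⁻¹) := ⟨_, rfl⟩
      have hrQ : r ∈ Cfsg.pCore 2 G := hr ▸ mul_mem hq (hQn.conj_mem _ (inv_mem hq) v)
      have e1 : u * r * u⁻¹ * r ∈ Cfsg.pCore 2 G := mul_mem (hQn.conj_mem r hrQ u) hrQ
      rw [← QuotientGroup.eq_one_iff]
      change QuotientGroup.mk' _ (t ^ 2) = 1
      have e2 : QuotientGroup.mk' (Cfsg.pCore 2 G) t = QuotientGroup.mk' _ (u * v) := by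
        rw [ht, show u * (q * v * q⁻¹) = u * r * v by rw [hr]; group, map_mul, map_mul, map_mul,
          show QuotientGroup.mk' (Cfsg.pCore 2 G) r = 1 from (QuotientGroup.eq_one_iff r).2 hrQ, mul_one]
      rw [map_pow, e2, ← map_pow, sq_of_comm hD.1 hu hv huv, map_one]
    obtain ⟨n, hn⟩ := hQp ⟨t ^ 2, hsq⟩
    have h1 : t ^ 2 ^ (n + 1) = 1 := by
      rw [pow_succ', pow_mul]; exact congrArg Subtype.val hn
    obtain ⟨m, -, hm⟩ := (Nat.dvd_prime_pow Nat.prime_two).1 (orderOf_dvd_of_pow_eq_one h1)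
    rw [← ht, hm] at ho
    rcases m with _ | m
    · refine hc (?_ : u * (q * v * q⁻¹) = _)
      rw [← eq_of_orderOf_one hD.1 hu (b := q * v * q⁻¹) (by rw [← ht, hm, pow_zero])]
    · exact Nat.not_odd_iff_even.2 (by rw [pow_succ]; exact even_two.mul_left _) ho
  refine ⟨fun e he => ?_, fun b hb => ?_⟩
  · intro q hq
    have hle : ⁅Cfsg.pCore 2 G, Subgroup.zpowers a⁆ ≤ Subgroup.centralizer {e} := by
      rw [Subgroup.commutator_le]
      intro x hx y hy
      obtain ⟨i, rfl⟩ := hy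
      change x * a ^ i * x⁻¹ * (a ^ i)⁻¹ ∈ _
      rw [Subgroup.mem_centralizer_iff]
      intro w hw
      rw [Set.mem_singleton_iff.1 hw]
      have c1 : Commute e a := he.2
      have c2 : Commute e (x * a * x⁻¹) := hcomm e he.1 a ha he.2 x hx
      have c3 : Commute e ((x * a * x⁻¹) ^ i * (a ^ i)⁻¹) :=
        (c2.zpow_right i).mul_right (c1.zpow_right i).inv_right
      rw [conj_zpow] at c3
      exact c3.eq
    exact Subgroup.mem_centralizer_iff.1 (hle hq) e rfl
  · obtain ⟨hbD, hne, ho⟩ := hb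
    refine le_antisymm (fun q hq => ?_) (fun q hq => ?_)
    · obtain ⟨hqQ, hqc⟩ := Subgroup.mem_inf.1 hq
      have hqab : (a * b) * q = q * (a * b) := Subgroup.mem_centralizer_iff.1 hqc _ rfl
      obtain ⟨t, ht⟩ : ∃ t, t = a * (q * a * q⁻¹) := ⟨_, rfl⟩
      have c1 := hcomm a ha a ha rfl q hqQ
      have c2 := hcomm b hbD b hbD rfl q hqQ
      have e1 : t = b * (q * b * q⁻¹) := by
        have e0 : (q * a * q⁻¹) * (q * b * q⁻¹) = a * b := by
          rw [show (q * a * q⁻¹) * (q * b * q⁻¹) = q * (a * b) * q⁻¹ by group, ← hqab, mul_inv_cancel_right]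
        have hq2 : (q * b * q⁻¹) * (q * b * q⁻¹) = 1 := mul_self hD.1 (hD.1.conj_mem b hbD q)
        have e3 : q * a * q⁻¹ = a * b * (q * b * q⁻¹) := by
          rw [← e0, mul_assoc (q * a * q⁻¹), hq2, mul_one]
        rw [ht, e3, ← mul_assoc a (a * b), ← mul_assoc a a, mul_self hD.1 ha, one_mul]
      have hta : Commute a t := ht ▸ (Commute.refl a).mul_right c1
      have htb : Commute b t := e1 ▸ (Commute.refl b).mul_right c2
      have ht1 : t = 1 := by
        by_contra ht1
        have ht2 : orderOf t = 2 := by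
          refine orderOf_eq_prime ?_ ht1
          rw [ht]; exact sq_of_comm hD.1 ha (hD.1.conj_mem a ha q) c1
        refine no_double hD.1 (hD.1.conj_mem a ha q) hbD ht2 (hta.symm.mul_right htb.symm)
          ho ?_ ?_
        · exact fun h => hne (eq_of_orderOf_one hD.1 ha (orderOf_eq_one_iff.2 h)).symm
        · rw [← mul_assoc, ← hta.eq, ht, ← mul_assoc a a, mul_self hD.1 ha, one_mul]
      have fix : ∀ u ∈ D, u * (q * u * q⁻¹) = 1 → u * q = q * u := by
        intro u hu h
        rw [mul_eq_one_iff_eq_inv', inv_eq hD.1 hu] at h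
        exact (mul_inv_eq_iff_eq_mul.1 h).symm
      refine Subgroup.mem_inf.2 ⟨Subgroup.mem_inf.2 ⟨hqQ, ?_⟩, ?_⟩
      · exact Subgroup.mem_centralizer_iff.2 fun w hw => by
          rw [Set.mem_singleton_iff.1 hw]; exact fix a ha (ht ▸ ht1)
      · exact Subgroup.mem_centralizer_iff.2 fun w hw => by
          rw [Set.mem_singleton_iff.1 hw]; exact fix b hbD (e1 ▸ ht1)
    · obtain ⟨h1, h2⟩ := Subgroup.mem_inf.1 hq
      obtain ⟨hqQ, hqa⟩ := Subgroup.mem_inf.1 h1
      refine Subgroup.mem_inf.2 ⟨hqQ, Subgroup.mem_centralizer_iff.2 fun w hw => ?_⟩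
      rw [Set.mem_singleton_iff.1 hw, mul_assoc, Subgroup.mem_centralizer_iff.1 h2 b rfl, ← mul_assoc,
        Subgroup.mem_centralizer_iff.1 hqa a rfl, mul_assoc]

end Cfsg.Agent.S5049
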