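import Cfsg.Statements.S5055
import Cfsg.Agent.RootInv81.Induction


set_option autoImplicit false
open Cfsg Cfsg.Agent.RootSubgroups.RootInv Cfsg.Agent.RootInv81
open scoped commutatorElement

namespace Cfsg.Agent.S5055

/-- The Root Structure Theorem for root involutions. Let G be a finite group with O₂(G) = 1 and trivial centre, generated by a non-degenerate class D of root involutions such that for every d ∈ D the members of D with the same commuting members as d, together with 1, form a subgroup E(d). For d ∈ D let M_d be the subgroup generated by d and the members e ≠ d of D commuting with d with ed ∈ D, let W_d be the set of members of D commuting with d that have no partner with product of odd order among the members commuting with d, and let N_d be the subgroup generated by W_d. Then N_d = M_d; the members of D in N_d are d and the e just described; the commutator subgroup of N_d is E(d); and the members of D central in N_d are exactly those with the same commuting members as d. -/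
theorem result {G : Type*} [Group G] [Finite G] {D : Set G} (hD : Cfsg.IsNondegenerateRootInvolutionSet D)
    (hcl : Cfsg.IsRootInvolutionClass D) (hO : Cfsg.pCore 2 G = ⊥) (hZ : Subgroup.center G = ⊥)
    (hE : ∀ d ∈ D, (Cfsg.sameCommutingSubgroup D d : Set G) = Cfsg.sameCommutingClass D d ∪ {1}) {d : G} (hd : d ∈ D) :
    Subgroup.closure {w | Cfsg.IsIsolatedElem (Cfsg.OddAdj (Cfsg.commutingMembers D d)) (Cfsg.commutingMembers D d) w} =
      Subgroup.closure (Cfsg.productPartners D d ∪ {d}) ∧
    D ∩ (Subgroup.closure (Cfsg.productPartners D d ∪ {d}) : Set G) = Cfsg.productPartners D d ∪ {d} ∧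
    ⁅Subgroup.closure (Cfsg.productPartners D d ∪ {d}), Subgroup.closure (Cfsg.productPartners D d ∪ {d})⁆ =
      Cfsg.sameCommutingSubgroup D d ∧
    Cfsg.sameCommutingClass D d = {e | e ∈ D ∧ e ∈ Subgroup.closure (Cfsg.productPartners D d ∪ {d}) ∧
      ∀ y ∈ Subgroup.closure (Cfsg.productPartners D d ∪ {d}), e * y = y * e} := by
  have hD' := hD.1
  have S : Setup D := ⟨hD', connected_of_pCore hcl hO, hE⟩
  have hc := S.conn
  have hgood := S.good_zero hd
  have hdepth : ∀ x ∈ isoSet D d, x ∈ depth D d 0 := fun x hx => by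
    rw [depth, Subgroup.lowerCentralSeries_zero]; exact Subgroup.subset_closure hx
  have htop : ∀ w ∈ isoSet D d, w ∉ sameCommutingClass D d → IsTopMem D d w := fun w hw hwE =>
    ⟨hw, hwE, fun y hy h4 => hgood w hw y hy (Or.inl (hdepth w hw)) h4⟩
  have hiso : isoSet D d = productPartners D d ∪ {d} := by
    refine Set.Subset.antisymm (fun w hw => ?_) ?_
    · rcases eq_or_ne w d with h | hne
      · exact Or.inr h
      by_cases hwE : w ∈ sameCommutingClass D d
      · exact Or.inl (S.cls_pp hd hwE hne)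
      · exact Or.inl (S.top_frame hd (htop w hw hwE)).1
    · rintro w (hw | hw)
      · exact pp_iso hD' hd hw
      · rw [Set.mem_singleton_iff.1 hw]; exact cls_iso hD' hc hd (cls_self hd)
  have hisolated : {w | IsIsolatedElem (OddAdj (commutingMembers D d)) (commutingMembers D d) w} =
      isoSet D d := by
    ext w
    constructor
    · rintro ⟨⟨hwD, hwd⟩, h⟩
      exact ⟨hwD, hwd, fun x hx hxd =>
        (h x).1 ⟨⟨hwD, hwd⟩, ⟨hx.1, hxd⟩, hx.2.1.symm, hx.2.2⟩⟩
    · rintro ⟨hwD, hwd, h⟩
      refine ⟨⟨hwD, hwd⟩, fun b => ⟨fun ha => h b ⟨ha.2.1.1, ha.2.2.1.symm, ha.2.2.2⟩ ha.2.1.2,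
        fun ha => h b ?_ ha.1.2⟩⟩
      exact oddPartners_symm hD' ha.1.1 ⟨hwD, ha.2.2.1.symm, ha.2.2.2⟩
  rw [hisolated, ← hiso]
  obtain ⟨M, hM⟩ : ∃ M, M = Subgroup.closure (isoSet D d) := ⟨_, rfl⟩
  rw [← hM]
  have hP : IsPGroup 2 M := hM ▸ iso_isPGroup hD'
  have hgen : ∀ x ∈ isoSet D d, x ∈ M := fun x hx => hM ▸ Subgroup.subset_closure hx
  have hcent : ∀ e ∈ sameCommutingSubgroup D d, ∀ g ∈ M, Commute e g := by
    intro e he g hg
    rw [hM] at hg
    induction hg using Subgroup.closure_induction with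
    | mem x hx => exact S.sub_comm hd he hx
    | one => exact Commute.one_right e
    | mul x y _ _ h1 h2 => exact h1.mul_right h2
    | inv x _ h1 => exact h1.inv_right
  have hdM : d ∈ M := hgen d (cls_iso hD' hc hd (cls_self hd))
  have hMD : D ∩ (M : Set G) = isoSet D d := by
    refine Set.Subset.antisymm ?_ fun w hw => ⟨hw.1, hgen w hw⟩
    rintro x ⟨hxD, hxM⟩
    have hdx : Commute d x := hcent d ((S.mem_sub hd).2 (Or.inl (cls_self hd))) x hxM
    refine ⟨hxD, hdx.eq.symm, fun u hu hud => ?_⟩
    obtain ⟨j, hj⟩ := Involution.exists_conj_of_odd (mul_self hD' hxD) (mul_self hD' hu.1) hu.2.2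
    have hgd : Commute ((x * u) ^ j) d :=
      (Commute.mul_left hdx.symm (show Commute u d from hud)).zpow_left j
    have hmap : ∀ y ∈ M, MulAut.conj ((x * u) ^ j) y ∈ M := by
      intro y hy
      have hle : M.map (MulAut.conj ((x * u) ^ j)).toMonoidHom ≤ M := by
        rw [hM, MonoidHom.map_closure, Subgroup.closure_le]
        rintro _ ⟨v, hv, rfl⟩
        exact Subgroup.subset_closure (iso_conj hD' _ (conj_eq_of_comm hgd.eq) hv)
      exact hle (Subgroup.mem_map_of_mem _ hy)
    have huM : u ∈ M := by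
      have := hmap x hxM
      rwa [MulAut.conj_apply, hj] at this
    obtain ⟨n, hn⟩ := hP ⟨x * u, mul_mem hxM huM⟩
    obtain ⟨k, -, hk⟩ := (Nat.dvd_prime_pow Nat.prime_two).1
      (orderOf_dvd_of_pow_eq_one (congrArg Subtype.val hn) : orderOf (x * u) ∣ 2 ^ n)
    rcases k with _ | k
    · exact hu.2.1 (eq_of_orderOf_one hD' hxD (by rw [hk, pow_zero])).symm
    · exact Nat.not_odd_iff_even.2 (by rw [hk, pow_succ]; exact even_two.mul_left _) hu.2.2
  have hcomm1 : ∀ x ∈ isoSet D d, ∀ g ∈ M, ⁅x, g⁆ ∈ sameCommutingSubgroup D d := by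
    intro x hx g hg
    rw [hM] at hg
    induction hg using Subgroup.closure_induction with
    | mem y hy =>
      have he : ⁅x, y⁆ = (x * y) ^ 2 := by
        rw [commutatorElement_def, inv_eq hD' hx.1, inv_eq hD' hy.1, pow_two]
        simp only [mul_assoc]
      rw [he]
      by_cases h : x * y = y * x
      · rw [sq_of_comm hD' hx.1 hy.1 h]; exact one_mem _
      · rcases (hiso ▸ hy : y ∈ productPartners D d ∪ {d}) with hy' | hy'
        · exact (S.mem_sub hd).2 (Or.inl
            (hgood x hx y (pp_link hd hy') (Or.inl (hdepth x hx)) (iso_four hD' hx hy h)))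
        · exact absurd hx.2.1 (Set.mem_singleton_iff.1 hy' ▸ h)
    | one => simp
    | mul y z hy _ h1 h2 =>
      have hc2 := hcent _ h2 y (hM.symm ▸ hy)
      have : ⁅x, y * z⁆ = ⁅x, y⁆ * (y * ⁅x, z⁆ * y⁻¹) := by
        simp only [commutatorElement_def]; group
      rw [this, ← hc2.eq, mul_inv_cancel_right]
      exact mul_mem h1 h2
    | inv y hy h1 =>
      have hc1 := hcent _ (inv_mem h1) y⁻¹ (inv_mem (hM.symm ▸ hy))
      have : ⁅x, y⁻¹⁆ = y⁻¹ * ⁅x, y⁆⁻¹ * y := by
        simp only [commutatorElement_def]; group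
      rw [this, ← hc1.eq, inv_mul_cancel_right]
      exact inv_mem h1
  refine ⟨rfl, hMD, le_antisymm ?_ ?_, ?_⟩
  · rw [Subgroup.commutator_le]
    intro a ha g hg
    rw [hM] at ha
    induction ha using Subgroup.closure_induction with
    | mem x hx => exact hcomm1 x hx g hg
    | one => simp
    | mul y z hy _ h1 h2 =>
      have hc2 := hcent _ h2 y (hM.symm ▸ hy)
      have : ⁅y * z, g⁆ = y * ⁅z, g⁆ * y⁻¹ * ⁅y, g⁆ := by
        simp only [commutatorElement_def]; group
      rw [this, ← hc2.eq, mul_inv_cancel_right]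
      exact mul_mem h2 h1
    | inv y hy h1 =>
      have hc1 := hcent _ (inv_mem h1) y⁻¹ (inv_mem (hM.symm ▸ hy))
      have : ⁅y⁻¹, g⁆ = y⁻¹ * ⁅y, g⁆⁻¹ * y := by
        simp only [commutatorElement_def]; group
      rw [this, ← hc1.eq, inv_mul_cancel_right]
      exact inv_mem h1
  · rw [sameCommutingSubgroup, Subgroup.closure_le]
    intro t ht
    obtain ⟨a0, ha0, b0, hb0, h40⟩ := hD.2.2.2
    obtain ⟨g, hg⟩ := exists_conj hD' hc (sq_mem_of_four hD' ha0 hb0 h40) ht.1
    have haD := hD'.conj_mem a0 ha0 g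
    have hbD := hD'.conj_mem b0 hb0 g
    rw [← MulAut.conj_apply] at haD hbD hg
    have hab : (MulAut.conj g a0 * MulAut.conj g b0) ^ 2 = t := by
      rw [← map_mul, ← map_pow, ← hg]
    have h4 : orderOf (MulAut.conj g a0 * MulAut.conj g b0) = 4 :=
      orderOf_four_of_sq hD' (hab ▸ ht.1)
    have hmem : ∀ u, u ∈ productPartners D t → u ∈ M := fun u hu =>
      hgen u (iso_cls_eq ht ▸ pp_iso hD' ht.1 hu)
    have := Subgroup.commutator_mem_commutator
      (hmem _ (pp_symm hD' (hab ▸ sq_pp hD' haD hbD h4) haD))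
      (hmem _ (pp_symm hD' (hab ▸ sq_pp' hD' haD hbD h4) hbD))
    rwa [commutatorElement_def, inv_eq hD' haD, inv_eq hD' hbD,
      mul_assoc (MulAut.conj g a0 * MulAut.conj g b0), ← pow_two, hab] at this
  · ext e
    constructor
    · exact fun he => ⟨he.1, hgen e (cls_iso hD' hc hd he),
        fun y hy => (hcent e ((S.mem_sub hd).2 (Or.inl he)) y hy).eq⟩
    · rintro ⟨heD, heM, hec⟩
      have heI : e ∈ isoSet D d := hMD ▸ ⟨heD, heM⟩
      by_contra hne
      obtain ⟨-, q, F⟩ := S.top_frame hd (htop e heI hne)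
      exact four_ne_comm hD' heD (F.mD hD') (F.four_zm hD')
        (hec _ (hgen _ (pp_iso hD' hd (F.md hD'))))

end Cfsg.Agent.S5055
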