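import Cfsg.Statements.S5057
import Cfsg.Agent.RecogB.AltSpectrum
-- import your own Cfsg.Agent.* helpers here

set_option autoImplicit false
open Cfsg

namespace Cfsg.Agent.S5057

theorem normalize (g : ↥(alternatingGroup (Fin 6))) (hg : orderOf g = 2) :
    ∃ τ : ↥(alternatingGroup (Fin 6)),
      ((τ * g * τ⁻¹ : ↥(alternatingGroup (Fin 6))) : Equiv.Perm (Fin 6)) =
        Equiv.swap 0 1 * Equiv.swap 2 3 := by
  have ho : orderOf (g : Equiv.Perm (Fin 6)) = 2 := by rw [Subgroup.orderOf_coe, hg]
  obtain ⟨n, hn⟩ := Equiv.Perm.cycleType_prime_order (σ := (g : Equiv.Perm (Fin 6)))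
    (by rw [ho]; exact Nat.prime_two)
  rw [ho] at hn
  have hs := Equiv.Perm.sum_cycleType (g : Equiv.Perm (Fin 6))
  have hle : (g : Equiv.Perm (Fin 6)).support.card ≤ 6 := by
    simpa using Finset.card_le_univ (g : Equiv.Perm (Fin 6)).support
  have hsign := Equiv.Perm.sign_of_cycleType (g : Equiv.Perm (Fin 6))
  rw [Equiv.Perm.mem_alternatingGroup.1 g.2, hn] at hsign
  rw [hn, Multiset.sum_replicate, smul_eq_mul] at hs
  have hn1 : n = 1 := by
    have : n ≤ 2 := by omega
    interval_cases n <;> first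
      | rfl
      | exact absurd hsign (by decide)
  subst hn1
  obtain ⟨τ, hτ⟩ : ∃ τ : Equiv.Perm (Fin 6), τ * (g : Equiv.Perm (Fin 6)) * τ⁻¹ = Equiv.swap 0 1 * Equiv.swap 2 3 := by
    refine isConj_iff.mp (Equiv.Perm.isConj_iff_cycleType_eq.mpr ?_)
    rw [hn]
    decide +kernel
  rcases Int.units_eq_one_or (Equiv.Perm.sign τ) with h | h
  · exact ⟨⟨τ, Equiv.Perm.mem_alternatingGroup.2 h⟩, hτ⟩
  · refine ⟨⟨Equiv.swap 4 5 * τ, Equiv.Perm.mem_alternatingGroup.2 (by
      rw [map_mul, h, Equiv.Perm.sign_swap (by decide)]; decide)⟩, ?_⟩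
    change Equiv.swap 4 5 * τ * (g : Equiv.Perm (Fin 6)) * (Equiv.swap 4 5 * τ)⁻¹ = _
    calc _ = Equiv.swap 4 5 * (τ * (g : Equiv.Perm (Fin 6)) * τ⁻¹) * (Equiv.swap 4 5)⁻¹ := by group
      _ = _ := by rw [hτ]; decide +kernel

/-- The involutions of the alternating group of degree 6 form a class of root involutions (a single conjugacy class of involutions generating the group, any two of which commute, have product of odd order, or have product of order 4 whose square is again an involution of the class), and the product of any two of them has order at most 5. -/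
theorem result :
    Cfsg.IsRootInvolutionClass {g : ↥(alternatingGroup (Fin 6)) | orderOf g = 2} ∧
    ∀ d ∈ {g : ↥(alternatingGroup (Fin 6)) | orderOf g = 2}, ∀ e ∈ {g : ↥(alternatingGroup (Fin 6)) | orderOf g = 2},
      orderOf (d * e) ≤ 5 := by
  have hsimple : IsSimpleGroup (alternatingGroup (Fin 6)) := alternatingGroup.isSimpleGroup (by simp)
  have hord : ∀ g : ↥(alternatingGroup (Fin 6)), orderOf g ≤ 5 ∧ 0 < orderOf g := by
    intro g
    have h : orderOf g ∈ Set.range (orderOf : alternatingGroup (Fin 6) → ℕ) := ⟨g, rfl⟩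
    rw [RecogB.range_orderOf_alternating_six] at h
    simp only [Set.mem_insert_iff, Set.mem_singleton_iff] at h
    omega
  have hconj : ∀ (d g : ↥(alternatingGroup (Fin 6))), orderOf d = 2 → orderOf (g * d * g⁻¹) = 2 :=
    fun d g hd => by
      rw [← hd]
      exact orderOf_injective (MulAut.conj g).toMonoidHom (MulAut.conj g).injective d
  obtain ⟨w, hw⟩ : ∃ w : ↥(alternatingGroup (Fin 6)), orderOf w = 2 :=
    exists_prime_orderOf_dvd_card' (G := ↥(alternatingGroup (Fin 6))) 2 (by
      rw [nat_card_alternatingGroup]; simp [Nat.factorial])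
  refine ⟨⟨⟨fun d hd => hd, ?_, fun d hd g => hconj d g hd, fun a ha b hb => ?_⟩, ⟨w, hw⟩, fun a ha b hb => ?_⟩,
    fun d _ e _ => (hord _).1⟩
  · have hn : (Subgroup.closure {g : ↥(alternatingGroup (Fin 6)) | orderOf g = 2}).Normal := by
      refine ⟨fun n hn g => ?_⟩
      induction hn using Subgroup.closure_induction with
      | mem x hx => exact Subgroup.subset_closure (hconj x g hx)
      | one => simp
      | mul x y _ _ hx hy => simpa [mul_assoc] using mul_mem hx hy
      | inv x _ hx => simpa [mul_assoc] using inv_mem hx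
    refine hn.eq_bot_or_eq_top.resolve_left fun h => ?_
    have hwm : w ∈ Subgroup.closure {g : ↥(alternatingGroup (Fin 6)) | orderOf g = 2} :=
      Subgroup.subset_closure hw
    rw [h, Subgroup.mem_bot] at hwm
    rw [hwm, orderOf_one] at hw
    exact absurd hw (by omega)
  · by_cases h2 : (a * b) ^ 2 = 1
    · left
      have e : a * a = 1 ∧ b * b = 1 := ⟨by rw [← pow_two, ← ha, pow_orderOf_eq_one],
        by rw [← pow_two, ← hb, pow_orderOf_eq_one]⟩
      rw [pow_two, mul_eq_one_iff_eq_inv, mul_inv_rev, inv_eq_of_mul_eq_one_right e.1,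
        inv_eq_of_mul_eq_one_right e.2] at h2
      exact h2
    · right
      have h5 := hord (a * b)
      by_cases h4 : orderOf (a * b) = 4
      · refine Or.inr ⟨h4, ?_⟩
        change orderOf ((a * b) ^ 2) = 2
        rw [orderOf_pow' _ two_ne_zero, h4]
        rfl
      · left
        rcases Nat.even_or_odd (orderOf (a * b)) with he | ho
        · exfalso
          refine h2 (orderOf_dvd_iff_pow_eq_one.1 ?_)
          obtain ⟨r, hr⟩ := he
          rw [hr]
          exact ⟨1, by omega⟩
        · exact ho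
  · obtain ⟨τ, hτ⟩ := normalize a ha
    obtain ⟨ρ, hρ⟩ := normalize b hb
    refine ⟨ρ⁻¹ * τ, ?_⟩
    rw [show ρ⁻¹ * τ * a * (ρ⁻¹ * τ)⁻¹ = ρ⁻¹ * (τ * a * τ⁻¹) * ρ by group,
      Subtype.ext (hτ.trans hρ.symm)]
    group

end Cfsg.Agent.S5057
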