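import Cfsg.Statements.S5058
import Cfsg.Agent.ThreeTrans62.TransvectionTwo
import Cfsg.Agent.Lib.LinearGroup.Generation

set_option autoImplicit false
open Matrix
open Cfsg

namespace Cfsg.Agent.S5058

/-- Let F be a finite field of characteristic 2 and n a natural number. Then the transvections of SL_{n+3}(F) (so in every dimension at least 3) (the conjugates of the elementary matrices 1 + c E₁₂, c ≠ 0) form a class of root involutions of SL_{n+3}(F); when F has two elements they form a class of {3,4}⁺-transpositions (every product of odd order has order 1 or 3). -/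
theorem result (F : Type*) [Field F] [Fintype F] [CharP F 2] (n : ℕ) :
    Cfsg.IsRootInvolutionClass {t : Matrix.SpecialLinearGroup (Fin (n + 3)) F | ∃ c : F, c ≠ 0 ∧
        ∃ g : Matrix.SpecialLinearGroup (Fin (n + 3)) F, ((g⁻¹ * t * g : Matrix.SpecialLinearGroup (Fin (n + 3)) F) :
          Matrix (Fin (n + 3)) (Fin (n + 3)) F) = Matrix.transvection 0 1 c} ∧
    (Fintype.card F = 2 → Cfsg.IsThreeFourPlusTranspositionSet {t : Matrix.SpecialLinearGroup (Fin (n + 3)) F | ∃ c : F, c ≠ 0 ∧
        ∃ g : Matrix.SpecialLinearGroup (Fin (n + 3)) F, ((g⁻¹ * t * g : Matrix.SpecialLinearGroup (Fin (n + 3)) F) :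
          Matrix (Fin (n + 3)) (Fin (n + 3)) F) = Matrix.transvection 0 1 c}) := by
  set D := {t : Matrix.SpecialLinearGroup (Fin (n + 3)) F | ∃ c : F, c ≠ 0 ∧
        ∃ g : Matrix.SpecialLinearGroup (Fin (n + 3)) F, ((g⁻¹ * t * g : Matrix.SpecialLinearGroup (Fin (n + 3)) F) :
          Matrix (Fin (n + 3)) (Fin (n + 3)) F) = Matrix.transvection 0 1 c} with hD
  have h01 : (0 : Fin (n + 3)) ≠ 1 := by simp [Fin.ext_iff]
  have hmem : ∀ t, t ∈ D ↔ Cfsg.Agent.ThreeTrans62.IsTv t := by
    intro t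
    constructor
    · rintro ⟨c, hc, g, hg⟩
      have := (Cfsg.Agent.ThreeTrans62.isTv_transvection h01 hc hg).conj g
      rwa [show g * (g⁻¹ * t * g) * g⁻¹ = t by group] at this
    · intro ht
      obtain ⟨g, hg⟩ := Cfsg.Agent.ThreeTrans62.exists_conj ht
      exact ⟨1, one_ne_zero, g, hg⟩
  have hpair : ∀ a ∈ D, ∀ b ∈ D, a * b = b * a ∨ Odd (orderOf (a * b)) ∧
      (Nat.card F = 2 → (a * b) ^ 3 = 1) ∨ (orderOf (a * b) = 4 ∧ (a * b) ^ 2 ∈ D) := fun a ha b hb => by
    rcases ((hmem a).mp ha).pair ((hmem b).mp hb) with h | h | h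
    · exact Or.inl h
    · exact Or.inr (Or.inl h)
    · exact Or.inr (Or.inr ⟨h.1, (hmem _).mpr h.2⟩)
  have hset : Cfsg.IsRootInvolutionSet D := by
    refine ⟨fun d hd => ((hmem d).mp hd).orderOf_eq, ?_, fun d hd g => (hmem _).mpr (((hmem d).mp hd).conj g),
      fun a ha b hb => ?_⟩
    · refine Cfsg.Agent.LinearGroup.eq_top_of_transvection_mem fun i j hij c => ?_
      by_cases hc : c = 0
      · have : Matrix.SpecialLinearGroup.transvection hij c = 1 := by
          apply Subtype.ext
          simp [Matrix.SpecialLinearGroup.transvection, hc, Matrix.transvection]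
        rw [this]
        exact one_mem _
      · exact Subgroup.subset_closure ((hmem _).mpr
          (Cfsg.Agent.ThreeTrans62.isTv_transvection hij hc rfl))
    · rcases hpair a ha b hb with h | h | h
      · exact Or.inl h
      · exact Or.inr (Or.inl h.1)
      · exact Or.inr (Or.inr h)
  refine ⟨⟨hset, ?_, fun a ha b hb => ?_⟩, fun hF => ⟨hset, fun a ha b hb hodd => ?_⟩⟩
  · exact ⟨Matrix.SpecialLinearGroup.transvection h01 1,
      (hmem _).mpr (Cfsg.Agent.ThreeTrans62.isTv_transvection h01 one_ne_zero rfl)⟩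
  · obtain ⟨g, hg⟩ := Cfsg.Agent.ThreeTrans62.exists_conj ((hmem a).mp ha)
    obtain ⟨k, hk⟩ := Cfsg.Agent.ThreeTrans62.exists_conj ((hmem b).mp hb)
    refine ⟨k * g⁻¹, ?_⟩
    have he : g⁻¹ * a * g = k⁻¹ * b * k := Subtype.ext (hg.trans hk.symm)
    rw [show k * g⁻¹ * a * (k * g⁻¹)⁻¹ = k * (g⁻¹ * a * g) * k⁻¹ by group, he]
    group
  · have hsq : ∀ d ∈ D, d * d = 1 := fun d hd => by
      rw [← pow_two, ← ((hmem d).mp hd).orderOf_eq, pow_orderOf_eq_one]
    rcases hpair a ha b hb with h | h | h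
    · have h2 : orderOf (a * b) ∣ 2 := orderOf_dvd_of_pow_eq_one (by
        calc (a * b) ^ 2 = a * (b * a) * b := by rw [pow_two]; group
          _ = (a * a) * (b * b) := by rw [← h]; group
          _ = 1 := by rw [hsq a ha, hsq b hb, one_mul])
      exact Or.inl (Nat.eq_one_of_dvd_coprimes (Nat.coprime_two_left.mpr hodd) h2 dvd_rfl)
    · have h3 := h.2 (by rw [Nat.card_eq_fintype_card, hF])
      exact (Nat.dvd_prime Nat.prime_three).mp (orderOf_dvd_of_pow_eq_one h3)
    · rw [h.1] at hodd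
      exact absurd hodd (by decide)

end Cfsg.Agent.S5058
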