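import Cfsg.Statements.S5060
import Cfsg.Agent.Lib.RootSubgroups.DicksonCor

set_option autoImplicit false
open Cfsg

namespace Cfsg.Agent.S5060

/-- Let k ⊆ K be fields with the characteristic of k not 2 and k not of order 3, and let α ∈ K be a non-zero element algebraic over k. Then the subgroup of SL₂(K) generated by the upper unitriangular matrices with entry c and the lower unitriangular matrices with entry cα, c ranging over k, is exactly the group of matrices of SL₂(K) with all entries in k(α). -/
theorem result {k K : Type*} [Field k] [Field K] [Algebra k K] (hk2 : ringChar k ≠ 2) (hk3 : Nat.card k ≠ 3)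
    (α : K) (hα : IsAlgebraic k α) (hα0 : α ≠ 0) :
    (Subgroup.closure ({g : Matrix.SpecialLinearGroup (Fin 2) K | ∃ c : k, (g : Matrix (Fin 2) (Fin 2) K) = !![1, algebraMap k K c; 0, 1]} ∪
        {g : Matrix.SpecialLinearGroup (Fin 2) K | ∃ c : k, (g : Matrix (Fin 2) (Fin 2) K) = !![1, 0; algebraMap k K c * α, 1]}) :
      Set (Matrix.SpecialLinearGroup (Fin 2) K)) =
    {g : Matrix.SpecialLinearGroup (Fin 2) K | ∀ i j : Fin 2, (g : Matrix (Fin 2) (Fin 2) K) i j ∈ IntermediateField.adjoin k ({α} : Set K)} := by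
  haveI : Fact (Irreducible (minpoly k α)) := ⟨minpoly.irreducible hα.isIntegral⟩
  let φ : AdjoinRoot (minpoly k α) →ₐ[k] K :=
    AdjoinRoot.liftAlgHom _ (Algebra.ofId k K) α (by
      exact minpoly.aeval k α)
  have hφ : φ (AdjoinRoot.root _) = α := AdjoinRoot.liftAlgHom_root _ _ _ _
  have h0 : AdjoinRoot.root (minpoly k α) ≠ 0 := fun e => hα0 (by rw [← hφ, e, map_zero])
  have htop := RootSubgroups.Dk.grp_adjoinRoot_eq_top hk2 hk3 (minpoly.monic hα.isIntegral) h0
  have hmap := RootSubgroups.Dk.map_grp φ (AdjoinRoot.root (minpoly k α))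
  rw [htop, hφ] at hmap
  have hgrp : (Subgroup.closure ({g : Matrix.SpecialLinearGroup (Fin 2) K | ∃ c : k, (g : Matrix (Fin 2) (Fin 2) K) = !![1, algebraMap k K c; 0, 1]} ∪
        {g : Matrix.SpecialLinearGroup (Fin 2) K | ∃ c : k, (g : Matrix (Fin 2) (Fin 2) K) = !![1, 0; algebraMap k K c * α, 1]})) =
      RootSubgroups.Dk.grp k α := by
    rw [RootSubgroups.Dk.grp]
    congr 2 <;> ext g <;> exact exists_congr fun c =>
      ⟨fun h => Subtype.ext h, fun h => congrArg Subtype.val h⟩
  rw [hgrp, ← hmap]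
  have hrange : ∀ x : K, x ∈ IntermediateField.adjoin k ({α} : Set K) ↔ ∃ y, φ y = x := by
    intro x
    rw [← IntermediateField.mem_toSubalgebra,
      IntermediateField.adjoin_simple_toSubalgebra_of_isAlgebraic hα]
    constructor
    · intro hx
      have hle : Algebra.adjoin k ({α} : Set K) ≤ φ.range :=
        Algebra.adjoin_le (Set.singleton_subset_iff.2 ⟨_, hφ⟩)
      exact hle hx
    · rintro ⟨y, rfl⟩
      obtain ⟨p, rfl⟩ := AdjoinRoot.mk_surjective y
      rw [← AdjoinRoot.aeval_eq, ← Polynomial.aeval_algHom_apply, hφ]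
      exact Polynomial.aeval_mem_adjoin_singleton k α
  ext g
  constructor
  · rintro ⟨g, -, rfl⟩ i j
    exact (hrange _).2 ⟨g.1 i j, rfl⟩
  · intro hg
    choose y hy using fun i j => (hrange _).1 (hg i j)
    have hinj : Function.Injective φ := φ.toRingHom.injective
    refine ⟨⟨Matrix.of y, hinj ?_⟩, Subgroup.mem_top _, ?_⟩
    · have := g.2
      rw [Matrix.det_fin_two] at this
      simpa [Matrix.det_fin_two, hy] using this
    · apply Subtype.ext
      ext i j
      exact hy i j

end Cfsg.Agent.S5060
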