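import Cfsg.Statements.S5066
import Cfsg.Agent.Lib.RootSubgroups.QuadLink
-- import your own Cfsg.Agent.* helpers here

set_option autoImplicit false
universe u
open Cfsg

namespace Cfsg.Agent.S5066

/-- Let k be a field of characteristic not 2 with k not of order 3, M a finite-dimensional k-vector space and G ≤ GL(M) such that (G, M) is a quadratic pair (M irreducible for G, and G generated by its quadratically acting elements σ whose scalar family 1 + c(σ − 1), c ∈ k, lies in G). Write 𝒬_d for the quadratic elements of G of minimal commutator rank, E(σ) for the subgroup generated by the members of 𝒬_d with the same fixed space and commutator space as σ, and Σ for the set of these subgroups. Let E, F ∈ Σ generate a subgroup that is nilpotent of class exactly two. Then D = ⁅E, F⁆ belongs to Σ, equals the subgroup generated by the commutators of e with F, and also of E with f, for every non-identity e ∈ E, f ∈ F, and ⟨E, F⟩ lies in U(D), the set of elements g of G normalizing D with (g − 1)M inside the fixed space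 of D, (g − 1) mapping that fixed space into the commutator space of D, and g acting trivially on the commutator space of D. -/
theorem result {k : Type u} [Field k] (hk2 : ringChar k ≠ 2) (hk3 : Nat.card k ≠ 3)
    {M : Type u} [AddCommGroup M] [Module k M] [FiniteDimensional k M]
    {G : Subgroup (LinearMap.GeneralLinearGroup k M)} (hG : Cfsg.IsQuadraticPair G)
    {E F : Subgroup (LinearMap.GeneralLinearGroup k M)} (hE : E ∈ Cfsg.quadraticRootSubgroups G) (hF : F ∈ Cfsg.quadraticRootSubgroups G)
    (h2 : ⁅E ⊔ F, E ⊔ F⁆ ≠ ⊥ ∧ ⁅⁅E ⊔ F, E ⊔ F⁆, E ⊔ F⁆ = ⊥) :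
    ⁅E, F⁆ ∈ Cfsg.quadraticRootSubgroups G ∧
    (∀ e ∈ E, e ≠ 1 → Subgroup.closure ((fun f : LinearMap.GeneralLinearGroup k M => e * f * e⁻¹ * f⁻¹) '' (F : Set (LinearMap.GeneralLinearGroup k M))) = ⁅E, F⁆) ∧
    (∀ f ∈ F, f ≠ 1 → Subgroup.closure ((fun e : LinearMap.GeneralLinearGroup k M => e * f * e⁻¹ * f⁻¹) '' (E : Set (LinearMap.GeneralLinearGroup k M))) = ⁅E, F⁆) ∧
    ((E ⊔ F : Subgroup (LinearMap.GeneralLinearGroup k M)) : Set (LinearMap.GeneralLinearGroup k M)) ⊆ Cfsg.quadraticUnipotentCore G ⁅E, F⁆ := by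
  obtain ⟨σ, hσ, rfl⟩ := hE
  obtain ⟨τ, hτ, rfl⟩ := hF
  rcases RootSubgroups.Cls.uni_or_inv hk2 hk3 hσ hτ with hun | ⟨h1, h1'⟩
  · have hne : ⁅Cfsg.sameActionSubgroup G σ, Cfsg.sameActionSubgroup G τ⁆ ≠ ⊥ := by
      intro hb
      refine h2.1 (le_bot_iff.1 (RootSubgroups.Cls.commutator_sup_le (D := ⊥)
        (fun d hd x _ => by rw [Subgroup.mem_bot.1 hd, one_mul, mul_one]) ?_))
      intro x hx y hy
      have hc : x * y = y * x := by
        rcases hx with hx | hx <;> rcases hy with hy | hy
        · exact RootSubgroups.Cls.mul_comm_mem hx hy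
        · exact RootSubgroups.commute_of_commutator_eq_bot hb hx hy
        · exact (RootSubgroups.commute_of_commutator_eq_bot hb hy hx).symm
        · exact RootSubgroups.Cls.mul_comm_mem hx hy
      rw [Subgroup.mem_bot, hc]; group
    obtain ⟨hcc, -, -, h4⟩ := RootSubgroups.Cls.uni_case hk2 hk3 (RootSubgroups.Cls.noUni_of_irreducible hG.1) hun hσ hτ hne
    exact ⟨hcc.1, hcc.2.2.1, hcc.2.2.2, h4⟩
  · exfalso
    refine RootSubgroups.not_nilpotent (RootSubgroups.Cls.pair hσ h1 h1') ?_
    set X := Cfsg.sameActionSubgroup G σ ⊔ Cfsg.sameActionSubgroup G τ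
    exact (Subgroup.isNilpotent_iff_lowerCentralSeries X).2 ⟨2, h2.2⟩

end Cfsg.Agent.S5066
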