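import Cfsg.Statements.S5067


set_option autoImplicit false
open Cfsg

namespace Cfsg.Agent.S5067

/-- Let P be a non-abelian nilpotent p-group (every element of p-power order; P possibly infinite) generated by two abelian subgroups E and F. Then the normal closure of E in P, and likewise that of F, has nilpotency class strictly smaller than that of P. -/
theorem result {P : Type*} [Group P] {p : ℕ} [Fact p.Prime] (hP : IsPGroup p P) [Group.IsNilpotent P]
    (hna : ¬ IsMulCommutative P) {E F : Subgroup P} (hE : IsMulCommutative ↥E) (hF : IsMulCommutative ↥F) (hgen : E ⊔ F = ⊤) :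
    Group.nilpotencyClass ↥(Subgroup.normalClosure (E : Set P)) < Group.nilpotencyClass P ∧
    Group.nilpotencyClass ↥(Subgroup.normalClosure (F : Set P)) < Group.nilpotencyClass P := by
  obtain ⟨c, hc⟩ : ∃ c, c = Group.nilpotencyClass P := ⟨_, rfl⟩
  obtain ⟨c', rfl⟩ : ∃ c', c = c' + 1 := by
    refine Nat.exists_eq_succ_of_ne_zero fun h0 => hna ?_
    exact Group.IsNilpotent.nilpotencyClass_le_one_iff.1 (by omega)
  have main : ∀ E : Subgroup P, IsMulCommutative ↥E →
      Group.nilpotencyClass ↥(Subgroup.normalClosure (E : Set P)) ≤ c' := by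
    intro E hE
    let γ := fun n => (⊤ : Subgroup P).lowerCentralSeries n
    let M := E ⊔ γ 1
    have hle : Subgroup.normalClosure (E : Set P) ≤ M := by
      have : M.Normal := by
        constructor
        intro x hx g
        have h1 : g * x * g⁻¹ * x⁻¹ ∈ γ 1 := by
          change _ ∈ ⁅(⊤ : Subgroup P), (⊤ : Subgroup P)⁆
          exact Subgroup.commutator_mem_commutator (Subgroup.mem_top g) (Subgroup.mem_top x)
        have h2 := mul_mem (Subgroup.mem_sup_right (S := E) h1) hx
        rwa [inv_mul_cancel_right] at h2
      exact Subgroup.normalClosure_le_normal fun x hx => Subgroup.mem_sup_left hx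
    have hγn : ∀ n, (γ n).Normal := fun n => inferInstance
    have key : ∀ n, ⁅E ⊔ γ 1, M⁆ ≤ γ 2 ∧ M.lowerCentralSeries (n + 1) ≤ γ (n + 2) := by
      have hbase : ⁅M, M⁆ ≤ γ 2 := by
        have hcE : E ≤ Subgroup.centralizer (E : Set P) := fun x hx =>
          Subgroup.mem_centralizer_iff.2 fun y hy =>
            congrArg Subtype.val (hE.is_comm.comm ⟨y, hy⟩ ⟨x, hx⟩)
        have hq : ∀ x ∈ M, ∀ y ∈ M,
            QuotientGroup.mk' (γ 2) x * QuotientGroup.mk' (γ 2) y =
              QuotientGroup.mk' (γ 2) y * QuotientGroup.mk' (γ 2) x := by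
          have hE' : ∀ x ∈ E, M ≤ (Subgroup.centralizer {QuotientGroup.mk' (γ 2) x}).comap
              (QuotientGroup.mk' (γ 2)) := by
            intro x hx
            refine sup_le (fun y hy => ?_) (fun y hy => ?_) <;>
              rw [Subgroup.mem_comap, Subgroup.mem_centralizer_iff] <;> intro u hu <;>
              rw [Set.mem_singleton_iff.1 hu, ← map_mul, ← map_mul, QuotientGroup.mk'_apply,
                QuotientGroup.mk'_apply, QuotientGroup.eq]
            · have : x * y = y * x := congrArg Subtype.val (hE.is_comm.comm ⟨x, hx⟩ ⟨y, hy⟩)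
              rw [this, inv_mul_cancel]
              exact one_mem _
            · have h1 : y⁻¹ * x⁻¹ * y * x ∈ γ 2 := by
                have := Subgroup.commutator_mem_commutator (H₁ := γ 1) (H₂ := (⊤ : Subgroup P))
                  (inv_mem hy) (Subgroup.mem_top x⁻¹)
                simpa [commutatorElement_def] using (show _ ∈ γ 2 from this)
              simpa [mul_assoc] using h1
          intro x hx y hy
          have hcenter : ∀ x ∈ E, QuotientGroup.mk' (γ 2) x * QuotientGroup.mk' (γ 2) y =
              QuotientGroup.mk' (γ 2) y * QuotientGroup.mk' (γ 2) x := fun x hx =>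
            Subgroup.mem_centralizer_iff.1 (hE' x hx hy) _ rfl
          have hx' : M ≤ (Subgroup.centralizer {QuotientGroup.mk' (γ 2) y}).comap
              (QuotientGroup.mk' (γ 2)) := by
            refine sup_le (fun z hz => ?_) (fun z hz => ?_) <;>
              rw [Subgroup.mem_comap, Subgroup.mem_centralizer_iff] <;> intro u hu <;>
              rw [Set.mem_singleton_iff.1 hu]
            · exact (hcenter z hz).symm
            · rw [← map_mul, ← map_mul, QuotientGroup.mk'_apply, QuotientGroup.mk'_apply,
                QuotientGroup.eq]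
              have := Subgroup.commutator_mem_commutator (H₁ := γ 1) (H₂ := (⊤ : Subgroup P))
                (inv_mem hz) (Subgroup.mem_top y⁻¹)
              have h1 : z⁻¹ * y⁻¹ * z * y ∈ γ 2 := by
                simpa [commutatorElement_def] using (show _ ∈ γ 2 from this)
              simpa [mul_assoc] using h1
          exact (Subgroup.mem_centralizer_iff.1 (hx' hx) _ rfl).symm
        rw [Subgroup.commutator_le]
        intro x hx y hy
        rw [← QuotientGroup.eq_one_iff]
        change QuotientGroup.mk' (γ 2) (x * y * x⁻¹ * y⁻¹) = 1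
        simp only [map_mul, map_inv]
        rw [hq x hx y hy, mul_inv_cancel_right, mul_inv_cancel]
      intro n
      refine ⟨hbase, ?_⟩
      induction n with
      | zero => exact hbase
      | succ n ih => exact Subgroup.commutator_mono ih le_top
    have hM : M.lowerCentralSeries c' = ⊥ := by
      have h1 : γ (c' + 1) = ⊥ :=
        Subgroup.lowerCentralSeries_eq_bot_iff_nilpotencyClass_le.2 (by omega)
      rcases c' with _ | k
      · exact absurd (Group.IsNilpotent.nilpotencyClass_le_one_iff.1 (by omega)) hna
      · exact le_bot_iff.1 (h1 ▸ (key k).2)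
    rw [← Subgroup.lowerCentralSeries_eq_bot_iff_nilpotencyClass_le]
    rw [← Subgroup.map_subtype_inj, Subgroup.map_bot, Subgroup.top_subtype_lowerCentralSeries]
    exact le_bot_iff.1 (hM ▸ Subgroup.lowerCentralSeries_mono c' hle)
  exact ⟨by have := main E hE; omega, by have := main F hF; omega⟩

end Cfsg.Agent.S5067
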