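import Cfsg.Statements.S5069
import Cfsg.Agent.Lib.RootSubgroups.QuadQuasi
-- import your own Cfsg.Agent.* helpers here

set_option autoImplicit false
universe u
open Cfsg

namespace Cfsg.Agent.S5069

/-- Let k be a field of characteristic not 2 with k not of order 3, M a finite-dimensional k-vector space and G ≤ GL(M) such that (G, M) is a quadratic pair (M irreducible for G, and G generated by its quadratically acting elements σ whose scalar family 1 + c(σ − 1), c ∈ k, lies in G). Write 𝒬_d for the quadratic elements of G of minimal commutator rank, E(σ) for the subgroup generated by the members of 𝒬_d with the same fixed space and commutator space as σ, and Σ for the set of these subgroups. Then Σ is a disjoint union of finitely many parts Σ₁, …, Σ_r such that the subgroups G_i generated by the Σ_i commute pairwise, each G_i is quasisimple, and inside G_i the members of Σ_i form a class of abstract root subgroups in which every rank one pair A, B contains subgroups A₀ ≤ A, B₀ ≤ B generating an image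 of SL₂(k₁) with central kernel on unitriangular subgroups for some field k₁ with at least four elements. -/
theorem result {k : Type u} [Field k] (hk2 : ringChar k ≠ 2) (hk3 : Nat.card k ≠ 3)
    {M : Type u} [AddCommGroup M] [Module k M] [FiniteDimensional k M]
    {G : Subgroup (LinearMap.GeneralLinearGroup k M)} (hG : Cfsg.IsQuadraticPair G) :
    ∃ (r : ℕ) (part : Fin r → Set (Subgroup (LinearMap.GeneralLinearGroup k M))),
      (⋃ i, part i) = Cfsg.quadraticRootSubgroups G ∧ (∀ i j, i ≠ j → Disjoint (part i) (part j)) ∧ (∀ i, (part i).Nonempty) ∧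
      (∀ i j, i ≠ j → ⁅(⨆ A ∈ part i, A), (⨆ A ∈ part j, A)⁆ = ⊥) ∧
      (∀ i, Cfsg.IsQuasisimple ↥(⨆ A ∈ part i, A) ∧
        Cfsg.IsRootSubgroupClass ((fun A : Subgroup (LinearMap.GeneralLinearGroup k M) => A.subgroupOf (⨆ B ∈ part i, B)) '' (part i)) ∧
        ∀ A ∈ part i, ∀ B ∈ Cfsg.rankOnePartners (part i) A, ∃ A₀ B₀ : Subgroup (LinearMap.GeneralLinearGroup k M), A₀ ≤ A ∧ B₀ ≤ B ∧
          ∃ (k₁ : Type u) (_ : Field k₁), 3 < ENat.card k₁ ∧ Cfsg.IsPSL2PairOver k₁ A₀ B₀) := by
  haveI := RootSubgroups.Cls.finite_parts hk2 hk3 (RootSubgroups.Cls.noUni_of_irreducible hG.1)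
  obtain ⟨r, ⟨e⟩⟩ := Finite.exists_equiv_fin
    ↥((fun A => RootSubgroups.Cls.part G A) '' Cfsg.quadraticRootSubgroups G)
  refine ⟨r, fun i => (e.symm i).1, ?_, ?_, ?_, ?_, ?_⟩
  · ext A
    rw [Set.mem_iUnion]
    constructor
    · rintro ⟨i, hi⟩
      obtain ⟨B, -, (hB : RootSubgroups.Cls.part G B = _)⟩ := (e.symm i).2
      rw [← hB] at hi
      exact hi.1
    · intro hA
      refine ⟨e ⟨_, A, hA, rfl⟩, ?_⟩
      rw [Equiv.symm_apply_apply]
      exact RootSubgroups.Cls.part_self hA
  · intro i j hij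
    rw [Set.disjoint_left]
    intro A hi hj
    obtain ⟨B, -, (hB : RootSubgroups.Cls.part G B = _)⟩ := (e.symm i).2
    obtain ⟨C, -, (hC : RootSubgroups.Cls.part G C = _)⟩ := (e.symm j).2
    replace hi : A ∈ RootSubgroups.Cls.part G B := hB.symm ▸ hi
    replace hj : A ∈ RootSubgroups.Cls.part G C := hC.symm ▸ hj
    refine hij (e.symm.injective (Subtype.ext ?_))
    rw [← hB, ← hC]
    exact (RootSubgroups.Cls.part_eq hi).symm.trans (RootSubgroups.Cls.part_eq hj)
  · intro i
    obtain ⟨B, hB, (hB' : RootSubgroups.Cls.part G B = _)⟩ := (e.symm i).2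
    refine ⟨B, ?_⟩
    beta_reduce
    rw [← hB']
    exact RootSubgroups.Cls.part_self hB
  · intro i j hij
    obtain ⟨B, -, (hB : RootSubgroups.Cls.part G B = _)⟩ := (e.symm i).2
    obtain ⟨C, -, (hC : RootSubgroups.Cls.part G C = _)⟩ := (e.symm j).2
    have hne : RootSubgroups.Cls.part G B ≠ RootSubgroups.Cls.part G C := fun he =>
      hij (e.symm.injective (Subtype.ext (by rw [← hB, ← hC]; exact he)))
    beta_reduce
    rw [← hB, ← hC]
    exact RootSubgroups.Cls.gPart_commute hk2 hk3 (RootSubgroups.Cls.noUni_of_irreducible hG.1) hne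
  · intro i
    obtain ⟨B, hB, (hB' : RootSubgroups.Cls.part G B = _)⟩ := (e.symm i).2
    beta_reduce
    rw [← hB']
    refine ⟨RootSubgroups.Cls.gPart_quasisimple hk2 hk3 (RootSubgroups.Cls.noUni_of_irreducible hG.1) hB,
      RootSubgroups.Cls.gPart_isRootSubgroupClass hk2 hk3 (RootSubgroups.Cls.noUni_of_irreducible hG.1) hB, fun P hP Q hQ => ?_⟩
    obtain ⟨A₀, B₀, h1, h2, h3⟩ := RootSubgroups.Cls.exists_psl2_of_pair hk2 hk3 (RootSubgroups.Cls.noUni_of_irreducible hG.1) hP.1 hQ.1.1 hQ.2
    exact ⟨A₀, B₀, h1, h2, k, inferInstance, RootSubgroups.Cls.three_lt_card hk2 hk3, h3⟩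

end Cfsg.Agent.S5069
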