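import Cfsg.Statements.S5073
import Cfsg.Agent.Lib.RootSubgroups.QuadUni

set_option autoImplicit false
universe u
open Cfsg

namespace Cfsg.Agent.S5073

/-- Let k be a field of characteristic not 2 with k not of order 3, M a finite-dimensional k-vector space and G ≤ GL(M) such that (G, M) is a quadratic pair (M irreducible for G, and G generated by its quadratically acting elements σ whose scalar family 1 + c(σ − 1), c ∈ k, lies in G). Write 𝒬_d for the quadratic elements of G of minimal commutator rank, E(σ) for the subgroup generated by the members of 𝒬_d with the same fixed space and commutator space as σ, and Σ for the set of these subgroups. Let E, F ∈ Σ. If some non-identity element of E commutes with some non-identity element of F, or some non-identity element of E normalizes F, then E and F commute elementwise. -/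
theorem result {k : Type u} [Field k] (hk2 : ringChar k ≠ 2) (hk3 : Nat.card k ≠ 3)
    {M : Type u} [AddCommGroup M] [Module k M] [FiniteDimensional k M]
    {G : Subgroup (LinearMap.GeneralLinearGroup k M)} (hG : Cfsg.IsQuadraticPair G)
    {E F : Subgroup (LinearMap.GeneralLinearGroup k M)} (hE : E ∈ Cfsg.quadraticRootSubgroups G) (hF : F ∈ Cfsg.quadraticRootSubgroups G)
    (h : (∃ e ∈ E, e ≠ 1 ∧ ∃ f ∈ F, f ≠ 1 ∧ e * f = f * e) ∨ E ⊓ Subgroup.normalizer (F : Set (LinearMap.GeneralLinearGroup k M)) ≠ ⊥) :
    ⁅E, F⁆ = ⊥ := by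
  obtain ⟨σ, hσ, rfl⟩ := hE
  obtain ⟨τ, hτ, rfl⟩ := hF
  have hnorm : (∀ x ∈ sameActionSubgroup G σ, x ≠ 1 →
      x ∈ Subgroup.normalizer (sameActionSubgroup G τ : Set (LinearMap.GeneralLinearGroup k M)) →
      ⁅sameActionSubgroup G σ, sameActionSubgroup G τ⁆ = ⊥) := by
    intro x hx hx1 hn
    rcases RootSubgroups.Cls.uni_or_inv hk2 hk3 hσ hτ with hu | ⟨h1, h2⟩
    · exact RootSubgroups.Cls.commute_of_one hu hσ hτ hx hx1 (RootSubgroups.Cls.mem_self hτ)
        (RootSubgroups.Cls.ne_one_of_quadratic hτ.1)
        (RootSubgroups.Cls.brk_zero_of_normalizer hu hx (RootSubgroups.Cls.mem_self hτ) hn)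
    · exact absurd (RootSubgroups.eq_one_of_normalizes (RootSubgroups.Cls.pair hσ h1 h2) hx
        (RootSubgroups.conjBy_of_mem_normalizer hn)) hx1
  rcases h with ⟨e, he, he1, f, hf, hf1, hef⟩ | hn
  · rcases RootSubgroups.Cls.uni_or_inv hk2 hk3 hσ hτ with hu | ⟨h1, h2⟩
    · exact RootSubgroups.Cls.commute_of_one hu hσ hτ he he1 hf hf1
        ((RootSubgroups.Cls.commute_iff hu he hf).1 hef)
    · refine hnorm e he he1 (RootSubgroups.mem_normalizer_iff_conjBy.2 ?_)
      have hfix : e * f * e⁻¹ = f := by rw [hef, mul_inv_cancel_right]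
      have hfc := RootSubgroups.Cls.mem_class hf hf1
      rw [RootSubgroups.Cls.conjBy_eq_of_mem (RootSubgroups.Cls.le_group he) hfc, hfix,
        RootSubgroups.Cls.eq_of_class hfc]
  · obtain ⟨x, hx, hx1⟩ := (Subgroup.bot_or_exists_ne_one _).resolve_left hn
    exact hnorm x hx.1 hx1 hx.2

end Cfsg.Agent.S5073
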