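import Cfsg.Statements.S5085
import Cfsg.Agent.Lib.Fusion.Subsystem

set_option autoImplicit false
open Cfsg

namespace Cfsg.Agent.S5085

/-- In any fusion system, a characteristic subgroup of a subgroup that is normal in the system is itself normal in the system. -/
theorem result {Ω : Type*} [Group Ω] {S : Subgroup Ω} (F : Cfsg.FusionSystem S) (Q U : Subgroup Ω) (hQ : F.IsNormal Q) (hUQ : U ≤ Q) (hU : (U.subgroupOf Q).Characteristic) : F.IsNormal U := by
  obtain ⟨hQS, hQn⟩ := Fusion.isNormal_iff.mp hQ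
  refine Fusion.isNormal_iff.mpr ⟨hUQ.trans hQS, fun P f hf => ?_⟩
  obtain ⟨f', h1, h2, h3⟩ := hQn P f hf
  refine ⟨f', h1.mono (sup_le_sup_left hUQ P), h2, ?_⟩
  have hiso : Fusion.IsIso F Q Q f' := ⟨h1.mono le_sup_right, h3⟩
  have hfix := Subgroup.characteristic_iff_map_eq.mp hU hiso.equiv
  ext y
  constructor
  · rintro ⟨x, hx, rfl⟩
    have hm : hiso.equiv ⟨x, hUQ hx⟩ ∈ (U.subgroupOf Q).map hiso.equiv.toMonoidHom :=
      ⟨⟨x, hUQ hx⟩, hx, rfl⟩
    rw [hfix] at hm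
    exact hm
  · intro hy
    have hm : (⟨y, hUQ hy⟩ : Q) ∈ (U.subgroupOf Q).map hiso.equiv.toMonoidHom := by
      rw [hfix]; exact hy
    obtain ⟨x, hx, hxy⟩ := hm
    exact ⟨x, hx, congrArg Subtype.val hxy⟩

end Cfsg.Agent.S5085
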