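import Cfsg.Statements.S5087
import Cfsg.Agent.Lib.Fusion.Normal

set_option autoImplicit false
open Cfsg

namespace Cfsg.Agent.S5087

/-- In a saturated fusion system over a finite p-group S, a subgroup Q is normal in the system if and only if every subgroup P that equals S or is essential contains Q and every element of Aut_F(P) maps Q onto itself. -/
theorem result {Ω : Type*} [Group Ω] {S : Subgroup Ω} [Finite S] (p : ℕ) [Fact p.Prime] (hS : IsPGroup p S) (F : Cfsg.FusionSystem S) (hF : F.IsSaturated p) (Q : Subgroup Ω) : F.IsNormal Q ↔ ∀ P : Subgroup Ω, (P = S ∨ F.IsEssential p P) → (Q ≤ P ∧ ∀ α ∈ F.autGroup P, (Q.subgroupOf P).map α.toMonoidHom = Q.subgroupOf P) := by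
  have key : ∀ (P : Subgroup Ω), Q ≤ P → ∀ α : MulAut P,
      (Q.subgroupOf P).map α.toMonoidHom = Q.subgroupOf P ↔
        Fusion.autFun α '' (Q : Set Ω) = (Q : Set Ω) := by
    intro P hQP α
    rw [← (Subgroup.map_injective P.subtype_injective).eq_iff, Subgroup.map_map,
      Subgroup.map_subgroupOf_eq_of_le hQP, ← SetLike.coe_set_eq,
      Fusion.map_subgroupOf_coe hQP (f := Fusion.autFun α) (fun x => (Fusion.autFun_coe α x).symm)]
  constructor
  · intro h P hP
    have hcr : F.IsCentric P ∧ F.IsRadical p P := by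
      rcases hP with rfl | hP
      · exact ⟨Fusion.isCentric_self, Fusion.isRadical_self hS hF⟩
      · exact ⟨hP.1, Fusion.isRadical_of_essential hS hP⟩
    have hQP := Fusion.normal_le_centric_radical hS h hcr.1 hcr.2
    refine ⟨hQP, fun α hα => (key P hQP α).mpr ?_⟩
    have := Fusion.closed_autFun_image (Fusion.stronglyClosed_of_normal h) hcr.1.1 hα
    rwa [inf_eq_left.mpr hQP] at this
  · intro h
    exact Fusion.isNormal_of_invariant hS hF fun P hP =>
      ⟨(h P hP).1, fun α hα => (key P (h P hP).1 α).mp ((h P hP).2 α hα)⟩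

end Cfsg.Agent.S5087
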