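import Cfsg.Statements.S5088
import Cfsg.Agent.Lib.Fusion.Normal

set_option autoImplicit false
open Cfsg

namespace Cfsg.Agent.S5088

/-- In a saturated fusion system over a finite p-group, a subgroup Q is normal in the system if and only if there is a chain of subgroups 1 = Q₀ ≤ Q₁ ≤ ⋯ ≤ Qₙ = Q such that each Qᵢ with i ≥ 1 is strongly closed in the system and [Q, Qᵢ] ≤ Qᵢ₋₁. -/
theorem result {Ω : Type*} [Group Ω] {S : Subgroup Ω} [Finite S] (p : ℕ) [Fact p.Prime] (hS : IsPGroup p S) (F : Cfsg.FusionSystem S) (hF : F.IsSaturated p) (Q : Subgroup Ω) : F.IsNormal Q ↔ ∃ (n : ℕ) (Qs : Fin (n + 1) → Subgroup Ω), Qs 0 = ⊥ ∧ Qs (Fin.last n) = Q ∧ Monotone Qs ∧ ∀ i : Fin n, F.StronglyClosed (Qs i.succ) ∧ ⁅Q, Qs i.succ⁆ ≤ Qs (Fin.castSucc i) := by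
  constructor
  · intro h
    obtain ⟨n, hn⟩ := Fusion.exists_zSer_top hS h.1
    refine ⟨n, fun i => Fusion.zSer Q i, Fusion.zSer_zero Q, hn, fun a b hab => ?_, fun i => ⟨?_, ?_⟩⟩
    · exact Subgroup.map_mono (Subgroup.upperCentralSeries_mono _ hab)
    · exact Fusion.stronglyClosed_of_normal
        (Fusion.isNormal_char h (Fusion.zSer_le Q _) (Fusion.zSer_subgroupOf_char Q _))
    · exact Fusion.zSer_commutator Q i
  · rintro ⟨n, Qs, h0, hn, -, h⟩
    let D : ℕ → Subgroup Ω := fun i => if hi : i < n + 1 then Qs ⟨i, hi⟩ else ⊥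
    have hD : ∀ (i : ℕ) (hi : i < n + 1), D i = Qs ⟨i, hi⟩ := fun i hi => dif_pos hi
    refine Fusion.isNormal_of_series hS hF D n ((hD 0 n.succ_pos).trans h0)
      ((hD n n.lt_succ_self).trans hn) (fun i hi => ?_) fun i hi => ?_
    · rw [hD i (Nat.lt_succ_of_le hi)]
      cases i with
      | zero =>
        rw [show (⟨0, Nat.lt_succ_of_le hi⟩ : Fin (n + 1)) = 0 from rfl, h0]
        exact Fusion.stronglyClosed_iff.mpr ⟨bot_le, fun R f hf x _ hx => by
          rw [Subgroup.mem_bot] at hx ⊢; rw [hx, hf.map_one]⟩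
      | succ j => exact (h ⟨j, hi⟩).1
    · rw [hD i (Nat.lt_succ_of_lt hi), hD (i + 1) (Nat.succ_lt_succ hi)]
      exact (h ⟨i, hi⟩).2

end Cfsg.Agent.S5088
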