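import Cfsg.Statements.S5089
import Cfsg.Agent.Lib.Fusion.Normal

set_option autoImplicit false
open Cfsg

namespace Cfsg.Agent.S5089

/-- A saturated fusion system over a finite p-group has a nontrivial subgroup that is normal in the system (O_p(F) ≠ 1) if and only if some nontrivial abelian subgroup is strongly closed in the system. -/
theorem result {Ω : Type*} [Group Ω] {S : Subgroup Ω} [Finite S] (p : ℕ) [Fact p.Prime] (hS : IsPGroup p S) (F : Cfsg.FusionSystem S) (hF : F.IsSaturated p) : F.core ≠ ⊥ ↔ ∃ Q : Subgroup Ω, Q ≠ ⊥ ∧ IsMulCommutative Q ∧ F.StronglyClosed Q := by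
  constructor
  · intro h
    obtain ⟨Q, hQ, hQ1⟩ : ∃ Q, F.IsNormal Q ∧ Q ≠ ⊥ := by
      by_contra hc
      refine h (sSup_eq_bot.mpr fun Q hQ => ?_)
      by_contra hne
      exact hc ⟨Q, hQ, hne⟩
    haveI := Fusion.finite_of_le hQ.1
    haveI : Nontrivial Q := (Subgroup.nontrivial_iff_ne_bot Q).mpr hQ1
    haveI := (hS.to_le hQ.1).center_nontrivial
    refine ⟨(Subgroup.center Q).map Q.subtype, ?_, ⟨⟨?_⟩⟩, ?_⟩
    · rw [Ne, Subgroup.map_eq_bot_iff_of_injective _ Q.subtype_injective]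
      exact (Subgroup.nontrivial_iff_ne_bot _).mp inferInstance
    · rintro ⟨_, x, hx, rfl⟩ ⟨_, y, hy, rfl⟩
      exact Subtype.ext (congrArg Subtype.val (Subgroup.mem_center_iff.mp hy x) :)
    · refine Fusion.stronglyClosed_of_normal (Fusion.isNormal_char hQ (Subgroup.map_subtype_le _) ?_)
      rw [Subgroup.subgroupOf, Subgroup.comap_map_eq_self_of_injective Q.subtype_injective]
      infer_instance
  · rintro ⟨Q, hQ, ⟨⟨hab⟩⟩, hcl⟩ hbot
    refine hQ (eq_bot_iff.mpr ((le_sSup ?_).trans hbot.le))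
    exact Fusion.isNormal_of_abelian hS hF hcl
      fun x hx y hy => congrArg Subtype.val (hab ⟨x, hx⟩ ⟨y, hy⟩)

end Cfsg.Agent.S5089
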