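import Cfsg.Statements.S5102
import Cfsg.Agent.Lib.Fusion.Group

set_option autoImplicit false
open Cfsg

namespace Cfsg.Agent.S5102

/-- A normal p-subgroup of a finite group G is normal in the fusion system of G on a Sylow p-subgroup. -/
theorem result {G : Type*} [Group G] [Finite G] (p : ℕ) [Fact p.Prime] (S : Sylow p G) (R : Subgroup G) [R.Normal] (hR : IsPGroup p R) : (Cfsg.groupFusionSystem (S : Subgroup G)).IsNormal R := by
  have hRS : R ≤ (S : Subgroup G) := hR.le_sylow_of_normal S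
  refine Fusion.isNormal_iff.mpr ⟨hRS, fun P f hf => ?_⟩
  obtain ⟨hP, hfS, g, hg⟩ := Fusion.isMap_group_iff.mp hf
  have hR' : ∀ x, x ∈ R ↔ g * x * g⁻¹ ∈ R := fun x => by
    refine ⟨fun h => Subgroup.Normal.conj_mem ‹R.Normal› x h g, fun h => ?_⟩
    simpa [mul_assoc] using Subgroup.Normal.conj_mem ‹R.Normal› _ h g⁻¹
  refine ⟨fun x => g * x * g⁻¹, Fusion.isMap_group_iff.mpr ⟨sup_le hP hRS, ?_, g, fun _ _ => rfl⟩,
    fun x hx => (hg x hx).symm, ?_⟩
  · intro x hx
    have : P ⊔ R ≤ (S : Subgroup G).comap (MulAut.conj g).toMonoidHom :=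
      sup_le (fun y hy => show g * y * g⁻¹ ∈ (S : Subgroup G) from hg y hy ▸ hfS y hy)
        (fun y hy => hRS ((hR' y).mp hy))
    exact this hx
  · refine Set.Subset.antisymm ?_ fun y hy => ?_
    · rintro _ ⟨x, hx, rfl⟩
      exact (hR' x).mp hx
    · refine ⟨g⁻¹ * y * g, ?_, by group⟩
      rw [SetLike.mem_coe, hR']
      simpa [mul_assoc] using hy

end Cfsg.Agent.S5102
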