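import Cfsg.Statements.S5103
import Cfsg.Agent.Lib.Fusion.Normal
import Cfsg.Agent.Lib.Fusion.Group
import Cfsg.Agent.Fus93.Iso
import Cfsg.Agent.S5343
import Cfsg.Agent.Lib.Thompson.Cores

set_option autoImplicit false
open Cfsg

namespace Cfsg.Agent.S5103

open Cfsg.Agent.Fusion in
theorem isNormal_of_fiso {Ω : Type*} [Group Ω] {S : Subgroup Ω} {F : Cfsg.FusionSystem S} {Ω' : Type*}
    [Group Ω'] {S' : Subgroup Ω'} {F' : Cfsg.FusionSystem S'} {a : Ω → Ω'} {b : Ω' → Ω}
    (h : Fus93.FIso F F' a b) {Q' : Subgroup Ω'} (hQ' : F'.IsNormal Q') :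
    F.IsNormal (Fus93.img b Q') := by
  refine isNormal_iff.mpr ⟨h.symm.img_le hQ'.1, fun P f hf => ?_⟩
  obtain ⟨g, hg, hge, hgQ⟩ := normal_extendsStab hQ' (h.map hf)
  have hP := hf.dom_le
  have hP' := h.img_le hP
  have hm := h.symm.map hg
  rw [h.symm.img_sup hP' hQ'.1, h.img_img hP] at hm
  refine ⟨b ∘ g ∘ a, hm, fun x hx => ?_, ?_⟩
  · simp only [Function.comp_apply, hge (h.apply_mem_img hx), h.left x (hP hx), h.left _ (hf.apply_mem hx)]
  · rw [h.symm.coe_img hQ'.1, ← Set.image_comp,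
      Set.image_congr (g := b ∘ g) fun y hy => by simp only [Function.comp_apply, h.right y (hQ'.1 hy)],
      Set.image_comp, hgQ]

open Cfsg.Agent.Fusion in
theorem pCore_isNormal {G : Type*} [Group G] [Finite G] {p : ℕ} [Fact p.Prime] (T : Sylow p G) :
    (Cfsg.groupFusionSystem (T : Subgroup G)).IsNormal (Cfsg.pCore p G) := by
  have hRS : Cfsg.pCore p G ≤ (T : Subgroup G) := Thompson.pCore_le_sylow T
  have hn := Thompson.instPCoreNormal (p := p) (G := G)
  refine isNormal_iff.mpr ⟨hRS, fun P f hf => ?_⟩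
  obtain ⟨hP, hfS, g, hg⟩ := isMap_group_iff.mp hf
  refine ⟨fun x => g * x * g⁻¹, isMap_group_iff.mpr ⟨sup_le hP hRS, fun x hx => ?_, g, fun _ _ => rfl⟩,
    fun x hx => (hg x hx).symm, image_conj_eq_self ?_⟩
  · have : P ⊔ Cfsg.pCore p G ≤ (T : Subgroup G).comap (MulAut.conj g).toMonoidHom :=
      sup_le (fun y hy => show g * y * g⁻¹ ∈ (T : Subgroup G) from hg y hy ▸ hfS y hy)
        (fun y hy => hRS (hn.conj_mem y hy g))
    exact this hx
  · rw [Subgroup.normalizer_eq_top]; exact Subgroup.mem_top g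

/-- A fusion system over a finite p-group that has a model (a finite group realizing it on a Sylow p-subgroup with self-centralizing largest normal p-subgroup) is constrained. -/
theorem result {Ω : Type*} [Group Ω] {S : Subgroup Ω} [Finite S] (p : ℕ) [Fact p.Prime] (hS : IsPGroup p S) (F : Cfsg.FusionSystem S) {G : Type*} [Group G] (ι : S →* G) (hG : F.IsModel p G ι) : F.IsConstrained p := by
  classical
  obtain ⟨hfin, hreal, ⟨T, hT⟩, hcore⟩ := hG
  have hiso := S5343.realized_fiso hreal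
  have hgrp : (Cfsg.groupFusionSystem ι.range).IsSaturated p ∧
      (Cfsg.groupFusionSystem ι.range).IsNormal (Cfsg.pCore p G) := by
    rw [← hT]
    exact ⟨Fusion.groupFusionSystem_isSaturated T, pCore_isNormal T⟩
  have hOle : Cfsg.pCore p G ≤ ι.range := hT ▸ Thompson.pCore_le_sylow T
  have hQ := isNormal_of_fiso hiso hgrp.2
  refine ⟨hiso.symm.isSaturated hgrp.1, _, hQ, hQ.1, fun R hR => ?_⟩
  obtain ⟨f, hf⟩ := Fusion.isConj_iff.mp hR
  obtain ⟨f', hf', he, hfQ⟩ := Fusion.normal_extendsStab hQ hf.1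
  have hRQ : R = Fus93.img (fun y => ((Function.invFun ι y : S) : Ω)) (Cfsg.pCore p G) :=
    SetLike.coe_injective (by rw [← hf.2, ← Set.image_congr he, hfQ])
  subst hRQ
  intro x hx
  have h1 := hiso.centralizer_mem hQ.1 hx
  rw [hiso.symm.img_img hOle] at h1
  exact (hiso.apply_mem_img_iff hQ.1 hx.1).mp (by
    rw [hiso.symm.img_img hOle]
    exact hcore h1.2)

end Cfsg.Agent.S5103
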