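import Cfsg.Statements.S5104
import Cfsg.Agent.Lib.Fusion.Saturation

set_option autoImplicit false
open Cfsg

namespace Cfsg.Agent.S5104

/-- In a saturated fusion system over a finite p-group S, a fully centralized subgroup U with C_S(U) ≤ U is centric. -/
theorem result {Ω : Type*} [Group Ω] {S : Subgroup Ω} [Finite S] (p : ℕ) [Fact p.Prime] (hS : IsPGroup p S) (F : Cfsg.FusionSystem S) (hF : F.IsSaturated p) (U : Subgroup Ω) (hU : F.IsFullyCentralized U) (hC : Cfsg.FusionSystem.centralizerIn S U ≤ U) : F.IsCentric U := by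
  refine ⟨hU.1, fun Q hQ => ?_⟩
  have hr := Fusion.receptive_of_fullyCentralized hS hF hU
  obtain ⟨f, hf⟩ := Fusion.isConj_iff.mp (Fusion.isConj_symm hQ)
  obtain ⟨f', hf', he⟩ := Fusion.receptive_extend hr hf (Fusion.isExtendable_centralizerIn f)
  intro c hc
  have h1 := hC (Fusion.map_mem_centralizer hf' le_sup_left ((Set.image_congr he).trans hf.2)
    (le_sup_right (a := Q) hc) hc.2)
  obtain ⟨x, hx, hxc⟩ := hf.exists_preimage h1
  rw [← he hx] at hxc
  rwa [← hf'.injOn (le_sup_left (b := FusionSystem.centralizerIn S Q) hx) (le_sup_right (a := Q) hc) hxc]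

end Cfsg.Agent.S5104
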