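import Cfsg.Statements.S5105
import Cfsg.Agent.Lib.Thompson.Cores

set_option autoImplicit false
open Cfsg

namespace Cfsg.Agent.S5105

/-- An automorphism fixing a Sylow subgroup pointwise, of a group with self-centralizing core, is
conjugation by a central element of that Sylow subgroup. -/
theorem fixing_sylow {G : Type*} [Group G] [Finite G] {p : ℕ} [Fact p.Prime] (T : Sylow p G)
    (hcore : Subgroup.centralizer ((Cfsg.pCore p G : Subgroup G) : Set G) ≤ Cfsg.pCore p G)
    (ψ : G ≃* G) (hψ : ∀ t ∈ (T : Subgroup G), ψ t = t) :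
    ∃ z ∈ (T : Subgroup G), (∀ t ∈ (T : Subgroup G), z * t = t * z) ∧ ∀ g, ψ g = z * g * z⁻¹ := by
  classical
  have hn := Thompson.instPCoreNormal (p := p) (G := G)
  have hOT := Thompson.pCore_le_sylow (p := p) T
  have hC : ∀ g : G, ψ g * g⁻¹ ∈ Subgroup.centralizer ((Cfsg.pCore p G : Subgroup G) : Set G) := by
    intro g
    refine Subgroup.mem_centralizer_iff.mpr fun y hy => ?_
    have hy1 := hψ y (hOT hy)
    have hy' := hψ _ (hOT (hn.conj_mem y hy g⁻¹))
    rw [inv_inv, map_mul, map_mul, map_inv, hy1] at hy'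
    calc y * (ψ g * g⁻¹) = ψ g * ((ψ g)⁻¹ * y * ψ g) * g⁻¹ := by group
      _ = ψ g * (g⁻¹ * y * g) * g⁻¹ := by rw [hy']
      _ = ψ g * g⁻¹ * y := by group
  set Z := Subgroup.centralizer ((Cfsg.pCore p G : Subgroup G) : Set G) with hZ
  have hZn : Z.Normal := by
    refine ⟨fun n hn' g => Subgroup.mem_centralizer_iff.mpr fun y hy => ?_⟩
    have := Subgroup.mem_centralizer_iff.mp hn' _ (hn.conj_mem y hy g⁻¹)
    rw [inv_inv] at this
    calc y * (g * n * g⁻¹) = g * ((g⁻¹ * y * g) * n) * g⁻¹ := by group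
      _ = g * (n * (g⁻¹ * y * g)) * g⁻¹ := by rw [this]
      _ = g * n * g⁻¹ * y := by group
  letI : CommGroup Z := { (inferInstance : Group Z) with
    mul_comm := fun a b => Subtype.ext (Subgroup.mem_centralizer_iff.mp b.2 a (hcore a.2)) }
  let v : G → Z := fun g => ⟨ψ g * g⁻¹, hC g⟩
  let u : G ⧸ (T : Subgroup G) → Z := Quotient.lift v (by
    intro a b hab
    have hm : a⁻¹ * b ∈ (T : Subgroup G) := QuotientGroup.leftRel_apply.mp hab
    have h1 := hψ _ hm
    rw [map_mul, map_inv] at h1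
    apply Subtype.ext
    show ψ a * a⁻¹ = ψ b * b⁻¹
    rw [show ψ b = ψ a * ((ψ a)⁻¹ * ψ b) by group, h1]
    group)
  let c : G → Z →* Z := fun g =>
    { toFun := fun w => ⟨g * w * g⁻¹, hZn.conj_mem w w.2 g⟩
      map_one' := Subtype.ext (by simp)
      map_mul' := fun a b => Subtype.ext (by simp [mul_assoc]) }
  haveI : Fintype (G ⧸ (T : Subgroup G)) := Fintype.ofFinite _
  set N := ∏ q : G ⧸ (T : Subgroup G), u q with hN
  set m := Fintype.card (G ⧸ (T : Subgroup G)) with hm
  have hkey : ∀ h : G, N = v h ^ m * c h N := by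
    intro h
    have h1 : N = ∏ q : G ⧸ (T : Subgroup G), u (h • q) :=
      (Fintype.prod_equiv (MulAction.toPerm h) _ _ fun q => rfl).symm
    conv_lhs => rw [h1]
    rw [hN, map_prod, hm, ← Finset.card_univ, ← Finset.prod_const, ← Finset.prod_mul_distrib]
    refine Finset.prod_congr rfl fun q _ => ?_
    induction q using QuotientGroup.induction_on with
    | H a =>
      show v (h * a) = v h * c h (v a)
      apply Subtype.ext
      show ψ (h * a) * (h * a)⁻¹ = ψ h * h⁻¹ * (h * (ψ a * a⁻¹) * h⁻¹)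
      rw [map_mul]
      group
  have hco : (Nat.card Z).Coprime m := by
    obtain ⟨k, hk⟩ := IsPGroup.iff_card.mp (Thompson.isPGroup_pCore.to_le hcore : IsPGroup p Z)
    rw [hk]
    refine Nat.Coprime.pow_left k ((Fact.out : p.Prime).coprime_iff_not_dvd.mpr ?_)
    rw [hm, ← Nat.card_eq_fintype_card]
    exact T.not_dvd_index
  set z : Z := (powCoprime hco).symm N with hz
  have hzm : z ^ m = N := (powCoprime hco).apply_symm_apply N
  have hv : ∀ h : G, v h = z * (c h z)⁻¹ := by
    intro h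
    refine (powCoprime hco).injective ?_
    show v h ^ m = (z * (c h z)⁻¹) ^ m
    rw [mul_pow, inv_pow, ← map_pow (c h), hzm, eq_mul_inv_iff_mul_eq]
    exact (hkey h).symm
  have hψz : ∀ g, ψ g = (z : G) * g * (z : G)⁻¹ := by
    intro g
    have h1 : ψ g * g⁻¹ = (z : G) * (g * z * g⁻¹)⁻¹ := congrArg Subtype.val (hv g)
    calc ψ g = ψ g * g⁻¹ * g := by group
      _ = _ := by rw [h1]; group
  refine ⟨z, hOT (hcore z.2), fun t ht => ?_, hψz⟩
  exact mul_inv_eq_iff_eq_mul.mp ((hψz t).symm.trans (hψ t ht))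

/-- Model Theorem, rigidity: if G is a model of a constrained fusion system over a finite p-group S (through ι : S → G), then every automorphism of G fixing ι(S) elementwise is conjugation by ι(z) for some z in the centre of S. -/
theorem result {Ω : Type*} [Group Ω] {S : Subgroup Ω} [Finite S] (p : ℕ) [Fact p.Prime] (hS : IsPGroup p S) (F : Cfsg.FusionSystem S) (hF : F.IsConstrained p) {G : Type*} [Group G] (ι : S →* G) (hG : F.IsModel p G ι) (ψ : G ≃* G) (hψ : ∀ x : S, ψ (ι x) = ι x) : ∃ z : S, z ∈ Subgroup.center S ∧ ∀ g : G, ψ g = ι z * g * (ι z)⁻¹ := by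
  obtain ⟨hfin, hreal, ⟨T, hT⟩, hcore⟩ := hG
  obtain ⟨w, hwT, hwc, hw⟩ := fixing_sylow T hcore ψ (fun t ht => by
    rw [hT] at ht
    obtain ⟨s, rfl⟩ := ht
    exact hψ s)
  rw [hT] at hwT
  obtain ⟨z, rfl⟩ := hwT
  refine ⟨z, Subgroup.mem_center_iff.mpr fun s => hreal.1 ?_, hw⟩
  rw [map_mul, map_mul]
  exact (hwc (ι s) (hT ▸ ⟨s, rfl⟩)).symm

end Cfsg.Agent.S5105
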