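import Cfsg.Statements.S5107
import Cfsg.Agent.Lib.Fusion.Normal
import Cfsg.Agent.Lib.Fusion.Group

set_option autoImplicit false
open Cfsg

namespace Cfsg.Agent.S5107

/-- If a Sylow p-subgroup S of a finite group G has nilpotency class at most two and its centre is strongly closed in S with respect to G, then every map of the fusion system of G on S is conjugation by an element of N_G(S), and S is the largest subgroup normal in that fusion system. -/
theorem result {G : Type*} [Group G] [Finite G] (p : ℕ) [Fact p.Prime] (S : Sylow p G) (hcl : ⁅(S : Subgroup G), (S : Subgroup G)⁆ ≤ (S : Subgroup G) ⊓ Subgroup.centralizer ((S : Subgroup G) : Set G)) (hZ : Cfsg.IsStronglyClosed ((S : Subgroup G) ⊓ Subgroup.centralizer ((S : Subgroup G) : Set G)) (S : Subgroup G)) : (∀ (P : Subgroup G) (φ : P →* G), φ ∈ (Cfsg.groupFusionSystem (S : Subgroup G)).Hom P → ∃ g ∈ Subgroup.normalizer ((S : Subgroup G) : Set G), ∀ x : P, φ x = g * (x : G) * g⁻¹) ∧ (Cfsg.groupFusionSystem (S : Subgroup G)).core = S := by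
  set Z : Subgroup G := (S : Subgroup G) ⊓ Subgroup.centralizer ((S : Subgroup G) : Set G) with hZd
  set F := Cfsg.groupFusionSystem (S : Subgroup G) with hFd
  have hSp : IsPGroup p ↥(S : Subgroup G) := S.isPGroup'
  have hF : F.IsSaturated p := Fusion.groupFusionSystem_isSaturated S
  have hclZ : F.StronglyClosed Z := by
    refine Fusion.stronglyClosed_iff.mpr ⟨inf_le_left, fun R f hf x hx hxZ => ?_⟩
    obtain ⟨-, hS', g, hg⟩ := Fusion.isMap_group_iff.mp hf
    rw [hg x hx]
    exact hZ.2 x hxZ g (hg x hx ▸ hS' x hx)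
  have hkey : ∀ P, F.IsCentric P → F.IsRadical p P → (S : Subgroup G) ≤ P := by
    intro P hc hr s hs
    have hZP : Z ≤ P := fun z hz => hc.2 P (Fusion.isConj_refl hc.1)
      ⟨hz.1, fun x hx => hz.2 x (hc.1 hx)⟩
    have hcomm : ∀ x ∈ P, x⁻¹ * (s * x * s⁻¹) ∈ Z := fun x hx => by
      have := hcl (Subgroup.commutator_mem_commutator ((S : Subgroup G).inv_mem (hc.1 hx)) hs)
      simpa [commutatorElement_def, mul_assoc] using this
    have hsN : s ∈ Subgroup.normalizer (P : Set G) := by
      refine Subgroup.mem_normalizer_iff.mpr fun x => ⟨fun hx => ?_, fun hx => ?_⟩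
      · have := P.mul_mem hx (hZP (hcomm x hx))
        rwa [mul_inv_cancel_left] at this
      · have h1 := hcomm _ hx
        have hxS : x ∈ (S : Subgroup G) := by
          have := (S : Subgroup G).mul_mem ((S : Subgroup G).mul_mem
            ((S : Subgroup G).inv_mem hs) (hc.1 hx)) hs
          simpa [mul_assoc] using this
        have h2 := hZP (hcl (Subgroup.commutator_mem_commutator hs hxS))
        have := P.mul_mem (P.inv_mem h2) hx
        simpa [commutatorElement_def, mul_assoc] using this
    refine Fusion.radical_chain hSp hc hr (fun i => if i = 0 then ⊥ else if i = 1 then Z else P) 2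
      (fun i => ?_) (if_pos rfl) (by simp) (fun i hi α hα => ?_) ⟨hs, hsN⟩ (fun i hi x hx => ?_)
    · split_ifs
      exacts [bot_le, hZP, le_rfl]
    · interval_cases i
      · simp only [if_true, Subgroup.coe_bot, Set.image_singleton]
        rw [Fusion.autFun_of_mem α P.one_mem]
        simp
      · have := Fusion.closed_autFun_image hclZ hc.1 hα
        simpa [inf_eq_left.mpr hZP] using this
      · simp [Fusion.autFun_image]
    · interval_cases i
      · simp only [Nat.zero_add, one_ne_zero, if_false, if_true, Subgroup.mem_bot] at hx ⊢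
        have h2 : s * x = x * s := hx.2 s hs
        rw [h2]; group
      · simp only [one_ne_zero, if_false, if_true]
        exact hcomm x (by simpa using hx)
  have hclS : F.StronglyClosed (S : Subgroup G) :=
    Fusion.stronglyClosed_iff.mpr ⟨le_rfl, fun R f hf x hx _ => hf.apply_mem hx⟩
  have hnS : F.IsNormal (S : Subgroup G) := Fusion.isNormal_of_closed_le hSp hF hclS hkey
  refine ⟨fun P φ hφ => ?_, le_antisymm (sSup_le fun Q hQ => hQ.1) (le_sSup hnS)⟩
  obtain ⟨ψ, hψ, hext, -⟩ := hnS.2 P φ hφ
  obtain ⟨-, hψS, g, hg⟩ := hψ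
  refine ⟨g, ?_, fun x => ?_⟩
  · haveI : Finite ↥((S : Subgroup G) : Set G) := inferInstanceAs (Finite ↥(S : Subgroup G))
    refine Subgroup.mem_normalizer_fintype fun n hn => ?_
    have := hψS ⟨n, Subgroup.mem_sup_right hn⟩
    rwa [hg] at this
  · rw [← hext x, hg]
    rfl

end Cfsg.Agent.S5107
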