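import Cfsg.Statements.S5112
import Cfsg.Agent.Lib.Fusion.Aut

set_option autoImplicit false
open Cfsg

namespace Cfsg.Agent.S5112

/-- If S is a dihedral or generalized quaternion 2-group of order at least 16, then in every saturated fusion system over S (at the prime 2) the automorphism group Aut_F(S) consists of the inner automorphisms of S. -/
theorem result {Ω : Type*} [Group Ω] {S : Subgroup Ω} [Finite S] (n : ℕ) (hn : 4 ≤ n) (hshape : Nonempty (S ≃* DihedralGroup (2 ^ (n - 1))) ∨ Nonempty (S ≃* QuaternionGroup (2 ^ (n - 2)))) (F : Cfsg.FusionSystem S) (hF : F.IsSaturated 2) : F.autGroup S = Cfsg.Inn S := by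
  have aut2 : ∀ {G : Type} [Group G] (r s : G) (k : ℕ), orderOf r = 2 ^ k → 1 ≤ k →
      (∀ g : G, (∃ i : ℕ, g = r ^ i) ∨ ∃ b : ℕ, g = r ^ b * s) →
      (∀ b : ℕ, orderOf (r ^ b * s) ≠ 2 ^ k) → ∀ α : MulAut G, ∃ j, α ^ (2 ^ j) = 1 := by
    intro G _ r s k hr hk hall hout α
    obtain ⟨a, ha⟩ : ∃ a : ℕ, α r = r ^ a := (hall (α r)).resolve_right fun ⟨b, hb⟩ =>
      hout b (by rw [← hb, MulEquiv.orderOf_eq, hr])
    have hco : Nat.Coprime a (2 ^ k) := by
      have h1 : orderOf (r ^ a) = 2 ^ k := by rw [← ha, MulEquiv.orderOf_eq, hr]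
      have hpos : 0 < orderOf r := by rw [hr]; positivity
      rw [IsOfFinOrder.orderOf_pow _ _ (orderOf_pos_iff.mp hpos), hr] at h1
      rcases Nat.div_eq_self.mp h1 with h | h
      · exact absurd h (by positivity)
      · exact Nat.coprime_comm.mp h
    have hpow : ∀ j : ℕ, (α ^ j) r = r ^ (a ^ j) := by
      intro j
      induction j with
      | zero => simp
      | succ j ih => rw [pow_succ', MulAut.mul_apply, ih, map_pow, ha, ← pow_mul, pow_succ']
    set β : MulAut G := α ^ (2 ^ (k - 1)) with hβ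
    have hβr : β r = r := by
      rw [hβ, hpow]
      have h2 : a ^ Nat.totient (2 ^ k) ≡ 1 [MOD 2 ^ k] := Nat.ModEq.pow_totient hco
      rw [Nat.totient_prime_pow Nat.prime_two hk] at h2
      simp only [Nat.add_one_sub_one, mul_one] at h2
      calc r ^ (a ^ 2 ^ (k - 1)) = r ^ 1 := pow_eq_pow_iff_modEq.mpr (by rw [hr]; exact h2)
        _ = r := pow_one r
    obtain ⟨c, hc⟩ : ∃ c : ℕ, β s = r ^ c * s := by
      rcases hall (β s) with ⟨i, hi⟩ | h
      · have hs : s = r ^ i := β.injective (by rw [hi, map_pow, hβr])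
        exact ⟨0, by rw [hi, ← hs, pow_zero, one_mul]⟩
      · exact h
    have hβs : ∀ j : ℕ, (β ^ j) s = r ^ (j * c) * s := by
      intro j
      induction j with
      | zero => simp
      | succ j ih =>
        rw [pow_succ', MulAut.mul_apply, ih, map_mul, map_pow, hβr, hc, ← mul_assoc, ← pow_add,
          Nat.succ_mul]
    have hβr' : ∀ j : ℕ, (β ^ j) r = r := by
      intro j
      induction j with
      | zero => simp
      | succ j ih => rw [pow_succ', MulAut.mul_apply, ih, hβr]
    have h1 : β ^ (2 ^ k) = 1 := by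
      have hs : (β ^ (2 ^ k)) s = s := by
        rw [hβs, pow_mul, ← hr, pow_orderOf_eq_one, one_pow, one_mul]
      ext g
      show (β ^ (2 ^ k)) g = g
      rcases hall g with ⟨i, rfl⟩ | ⟨b, rfl⟩
      · rw [map_pow, hβr']
      · rw [map_mul, map_pow, hβr', hs]
    exact ⟨k - 1 + k, by rw [pow_add, pow_mul]; exact h1⟩
  have hA : ∀ α : MulAut S, ∃ j, α ^ (2 ^ j) = 1 := by
    intro α
    rcases hshape with h | h
    · obtain ⟨e⟩ := h
      haveI : NeZero (2 ^ (n - 1)) := ⟨by positivity⟩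
      obtain ⟨j, hj⟩ := aut2 (DihedralGroup.r (1 : ZMod (2 ^ (n - 1)))) (DihedralGroup.sr 0) (n - 1)
        DihedralGroup.orderOf_r_one (by omega)
        (fun g => by
          cases g with
          | r i => exact Or.inl ⟨i.val, by rw [DihedralGroup.r_one_pow, ZMod.natCast_zmod_val]⟩
          | sr i =>
            refine Or.inr ⟨(-i).val, ?_⟩
            rw [DihedralGroup.r_one_pow, ZMod.natCast_zmod_val, DihedralGroup.r_mul_sr]
            simp)
        (fun b => by
          rw [DihedralGroup.r_one_pow, DihedralGroup.r_mul_sr, DihedralGroup.orderOf_sr]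
          have : 2 ^ 3 ≤ 2 ^ (n - 1) := Nat.pow_le_pow_right (by norm_num) (by omega)
          omega) (MulAut.congr e α)
      exact ⟨j, (MulAut.congr e).injective (by rw [map_pow, hj, map_one])⟩
    · obtain ⟨e⟩ := h
      haveI : NeZero (2 ^ (n - 2)) := ⟨by positivity⟩
      haveI : NeZero (2 * 2 ^ (n - 2)) := ⟨by positivity⟩
      have hexp : 2 * 2 ^ (n - 2) = 2 ^ (n - 1) := by rw [← pow_succ']; congr 1; omega
      obtain ⟨j, hj⟩ := aut2 (QuaternionGroup.a (1 : ZMod (2 * 2 ^ (n - 2)))) (QuaternionGroup.xa 0)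
        (n - 1) (by rw [QuaternionGroup.orderOf_a_one, hexp]) (by omega)
        (fun g => by
          cases g with
          | a i => exact Or.inl ⟨i.val, by rw [QuaternionGroup.a_one_pow, ZMod.natCast_zmod_val]⟩
          | xa i =>
            refine Or.inr ⟨(-i).val, ?_⟩
            rw [QuaternionGroup.a_one_pow, ZMod.natCast_zmod_val, QuaternionGroup.a_mul_xa]
            simp)
        (fun b => by
          rw [QuaternionGroup.a_one_pow, QuaternionGroup.a_mul_xa, QuaternionGroup.orderOf_xa]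
          have : 2 ^ 3 ≤ 2 ^ (n - 1) := Nat.pow_le_pow_right (by norm_num) (by omega)
          omega) (MulAut.congr e α)
      exact ⟨j, (MulAut.congr e).injective (by rw [map_pow, hj, map_one])⟩
  obtain ⟨Q, hSQ, hauto, -⟩ := hF S le_rfl
  have hQ : Q = S := by
    obtain ⟨φ, hφ, rfl⟩ := hSQ
    refine SetLike.coe_injective (Set.eq_of_subset_of_ncard_le ?_ ?_ (Set.toFinite _))
    · rintro _ ⟨x, rfl⟩
      exact (F.le_of_mem hφ).2 x
    · rw [← Nat.card_coe_set_eq, ← Nat.card_coe_set_eq]
      exact le_of_eq (Nat.card_congr (Equiv.ofInjective φ (F.injective_of_mem hφ)))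
  rw [hQ] at hauto
  obtain ⟨-, R, hR⟩ := hauto
  apply le_antisymm
  · have hp : IsPGroup 2 (F.autGroup S) := fun α => by
      obtain ⟨j, hj⟩ := hA α
      exact ⟨j, Subtype.ext hj⟩
    have htop : (R : Subgroup (F.autGroup S)) = ⊤ :=
      (R.is_maximal' (hp.to_subgroup ⊤) le_top).symm
    intro α hα
    have : (⟨α, hα⟩ : F.autGroup S) ∈ (autInducedBy S S).subgroupOf (F.autGroup S) := by
      rw [← hR, htop]; trivial
    obtain ⟨g, hg, hgα⟩ := Cfsg.Agent.Fusion.mem_autInducedBy.mp (Subgroup.mem_subgroupOf.mp this)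
    exact Cfsg.Agent.Fusion.mem_inn.mpr ⟨g, hg, hgα⟩
  · exact Cfsg.Agent.Fusion.inn_le_autGroup le_rfl

end Cfsg.Agent.S5112
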