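import Cfsg.Statements.S5114
import Cfsg.Agent.Lib.Fusion.PrimeToP

set_option autoImplicit false
open Cfsg

namespace Cfsg.Agent.S5114

/-- Let F be a saturated fusion system over a finite p-group S and E a fusion system over S contained in F. If Aut_E(P) contains the subgroup of Aut_F(P) generated by its elements of p-power order for every subgroup P that is centric in F, then the same holds for every subgroup of S (E has index prime to p in F), every map of F with source a subgroup P of S is an element of Aut_F(S) composed with a map of E, and a subgroup is centric in E exactly when it is centric in F. -/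
theorem result {Ω : Type*} [Group Ω] {S : Subgroup Ω} [Finite S] (p : ℕ) [Fact p.Prime] (hS : IsPGroup p S) (F : Cfsg.FusionSystem S) (hF : F.IsSaturated p) (E : Cfsg.FusionSystem S) (hEF : E.IsSubsystemOf F) (h : ∀ P : Subgroup Ω, F.IsCentric P → (Subgroup.closure {α : ↥(F.autGroup P) | ∃ k : ℕ, orderOf α = p ^ k}).map (F.autGroup P).subtype ≤ E.autGroup P) : E.HasPrimeToPIndexIn F p ∧ (∀ (P : Subgroup Ω) (φ : P →* Ω), φ ∈ F.Hom P → ∃ α ∈ F.autGroup S, ∃ φ₀ ∈ E.Hom P, ∀ (x : P) (hx : φ₀ x ∈ S), φ x = ((α ⟨φ₀ x, hx⟩ : S) : Ω)) ∧ ∀ P : Subgroup Ω, E.IsCentric P ↔ F.IsCentric P := by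
  haveI hfin : ∀ P : Subgroup Ω, P ≤ S → Finite P := fun P hP => Fusion.finite_of_le hP
  have hgen : ∀ {P : Subgroup Ω} {f : Ω → Ω}, Fusion.PrimeToP.Gen F p P f → Fusion.IsMap E P f := by
    intro P f hg
    refine hg.isMap_of fun Q hQ a ha hk => ?_
    haveI := hfin Q hQ.1
    haveI := Fusion.finite_mulAut Q
    obtain ⟨k, hk⟩ := hk
    obtain ⟨j, -, hj⟩ := (Nat.dvd_prime_pow (Fact.out : p.Prime)).mp
      (orderOf_dvd_of_pow_eq_one (show (⟨a, ha⟩ : F.autGroup Q) ^ p ^ k = 1 from Subtype.ext hk))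
    exact h Q hQ ⟨_, Subgroup.subset_closure ⟨j, hj⟩, rfl⟩
  have hdec : ∀ {P : Subgroup Ω} {f : Ω → Ω}, Fusion.IsMap F P f →
      ∃ α g, Fusion.IsIso F S S α ∧ Fusion.IsMap E P g ∧ Set.EqOn f (α ∘ g) P := by
    intro P f hf
    obtain ⟨α, g, hα, hg, he⟩ := Fusion.PrimeToP.factors_all hS hF hf
    exact ⟨α, g, hα, hgen hg, he⟩
  refine ⟨⟨hEF, fun P hP => ?_⟩, fun P φ hφ => ?_, fun P => ⟨fun hc => ⟨hc.1, fun Q hQ => ?_⟩,
    fun hc => ⟨hc.1, fun Q hQ => hc.2 Q ?_⟩⟩⟩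
  · rw [Subgroup.map_le_iff_le_comap, Subgroup.closure_le]
    rintro a ⟨k, hk⟩
    exact Fusion.autGroup_mem_of_isMap (hgen (Fusion.PrimeToP.gen_of_pElement hS hF hP a.2
      ⟨k, congrArg Subtype.val (hk ▸ pow_orderOf_eq_one a)⟩))
  · obtain ⟨α, g, hα, hg, he⟩ := hdec (Fusion.isMap_extFun hφ)
    obtain ⟨φ₀, hφ₀, hφ₀g⟩ := id hg
    obtain ⟨a, ha, hae⟩ := hα.exists_aut
    refine ⟨a, ha, φ₀, hφ₀, fun x hx => ?_⟩
    rw [← Fusion.autFun_of_mem a hx, hae hx, hφ₀g x, ← Fusion.extFun_coe φ x]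
    exact he x.2
  · obtain ⟨f, hf⟩ := Fusion.isConj_iff.mp hQ
    obtain ⟨α, g, hα, hg, he⟩ := hdec hf.1
    obtain ⟨Q', hQ'⟩ := hg.exists_image
    intro c hcC
    obtain ⟨c', hc', rfl⟩ := hα.exists_preimage hcC.1
    have hmem : c' ∈ Q' := by
      refine hc.2 Q' hQ'.isConj ⟨hc', Subgroup.mem_centralizer_iff.mpr fun y hy => ?_⟩
      obtain ⟨x, hx, rfl⟩ := hQ'.exists_preimage hy
      have hgx : g x ∈ S := hg.apply_mem hx
      have hmemQ : α (g x) ∈ Q := by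
        rw [show α (g x) = f x from (he hx).symm]; exact hf.mem hx
      refine hα.1.injOn (S.mul_mem hgx hc') (S.mul_mem hc' hgx) ?_
      rw [hα.1.map_mul hgx hc', hα.1.map_mul hc' hgx]
      exact Subgroup.mem_centralizer_iff.mp hcC.2 _ hmemQ
    obtain ⟨x, hx, rfl⟩ := hQ'.exists_preimage hmem
    rw [show α (g x) = f x from (he hx).symm]
    exact hf.mem hx
  · obtain ⟨f, hf⟩ := Fusion.isConj_iff.mp hQ
    exact Fusion.IsIso.isConj ⟨hf.1.of_isSubsystemOf hEF, hf.2⟩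

end Cfsg.Agent.S5114
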