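import Cfsg.Statements.S5121
import Cfsg.Agent.Lib.Fusion.StrictlyConstrained
import Cfsg.Agent.Lib.Thompson.Cores

set_option autoImplicit false
open Cfsg

namespace Cfsg.Agent.S5121

/-- Let G be a finite group with Sylow p-subgroup S and C_G(O_p(G)) ≤ O_p(G). For every subgroup T ≤ S and every normal subsystem E over T of the fusion system of G on S there is exactly one normal subgroup H of G containing T as a Sylow p-subgroup whose fusion system on T is E. -/
theorem result {G : Type*} [Group G] [Finite G] (p : ℕ) [Fact p.Prime] (S : Sylow p G) (hG : Subgroup.centralizer ((Cfsg.pCore p G : Subgroup G) : Set G) ≤ Cfsg.pCore p G) (T : Subgroup G) (hTS : T ≤ S) (E : Cfsg.FusionSystem T) (hE : E.IsNormalIn (Cfsg.groupFusionSystem (S : Subgroup G)) p) : ∃ H : Subgroup G, (∃ hTH : T ≤ H, H.Normal ∧ (∃ R : Sylow p H, (R : Subgroup H) = T.subgroupOf H) ∧ ∀ P : Subgroup G, E.Hom P = (Cfsg.fusionSystemOfSubgroup H T hTH).Hom P) ∧ ∀ H' : Subgroup G, (∃ hTH' : T ≤ H', H'.Normal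 ∧ (∃ R : Sylow p H', (R : Subgroup H') = T.subgroupOf H') ∧ ∀ P : Subgroup G, E.Hom P = (Cfsg.fusionSystemOfSubgroup H' T hTH').Hom P) → H' = H := by
  haveI hRn : (Cfsg.pCore p G).Normal := inferInstance
  have hcl := Fusion.stronglyClosed_iff.mp hE.1.2.2.2.1
  have hclosed : ∀ g : G, ∀ t ∈ T, g * t * g⁻¹ ∈ (S : Subgroup G) → g * t * g⁻¹ ∈ T := by
    intro g t ht hgt
    refine hcl.2 (Subgroup.zpowers t) (fun z => g * z * g⁻¹) ?_ t (Subgroup.mem_zpowers t) ht
    refine Fusion.isMap_group_iff.mpr ⟨?_, fun z hz => ?_, g, fun z _ => rfl⟩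
    · rw [Subgroup.zpowers_le]; exact hTS ht
    · obtain ⟨i, rfl⟩ := Subgroup.mem_zpowers_iff.mp hz
      have := Subgroup.zpow_mem _ hgt i
      rwa [conj_zpow] at this
  have hRS : Cfsg.pCore p G ≤ (S : Subgroup G) := Thompson.pCore_le_sylow S
  haveI : (Cfsg.pCore p G ⊓ T).Normal := ⟨fun x hx g => by
    have h1 := Subgroup.Normal.conj_mem hRn x hx.1 g
    exact ⟨h1, hclosed g x hx.2 (hRS h1)⟩⟩
  exact Fusion.StrictlyConstrained.Setup.exists_unique (R := Cfsg.pCore p G) (Q := Cfsg.pCore p G ⊓ T)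
    { rS := hRS
      qEq := rfl
      self_centralizing := hG
      largest := fun N hN hp => Thompson.le_pCore hN hp
      closed := hclosed
      tS := hTS
      normal := hE }

end Cfsg.Agent.S5121
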