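import Cfsg.Statements.S5138
import Cfsg.Agent.Lib.Fusion.Comp.Commuting

set_option autoImplicit false
open Cfsg

namespace Cfsg.Agent.S5138

/-- Let F be a saturated fusion system over a finite p-group S and E₁, E₂ normal subsystems over T₁, T₂ with [T₁, T₂] = 1. Then there is a normal subsystem of F over T₁T₂ which, if moreover T₁ ∩ T₂ lies in the centre of E₁ and in the centre of E₂, is a central product of E₁ and E₂ (the factor system of a direct product of E₁ and E₂ modulo a subgroup of its centre meeting both factors trivially). -/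
theorem result {Ω : Type*} [Group Ω] {S : Subgroup Ω} [Finite S] (p : ℕ) [Fact p.Prime] (hS : IsPGroup p S) (F : Cfsg.FusionSystem S) (hF : F.IsSaturated p) {T₁ T₂ : Subgroup Ω} (E₁ : Cfsg.FusionSystem T₁) (E₂ : Cfsg.FusionSystem T₂) (hE₁ : E₁.IsNormalIn F p) (hE₂ : E₂.IsNormalIn F p) (hc : ⁅T₁, T₂⁆ = ⊥) : ∃ D : Cfsg.FusionSystem (T₁ ⊔ T₂), D.IsNormalIn F p ∧ (T₁ ⊓ T₂ ≤ E₁.center → T₁ ⊓ T₂ ≤ E₂.center → Cfsg.FusionSystem.IsCentralProductOf E₁ E₂ D) := by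
  have hcomm : ∀ a ∈ T₁, ∀ b ∈ T₂, a * b = b * a := fun a ha b hb =>
    Subgroup.mem_centralizer_iff.mp (Subgroup.commutator_eq_bot_iff_le_centralizer.mp hc ha) b hb |>.symm
  have n₁ : Fusion.NormalLift.NData F E₁ p := ⟨hS, hF, hE₁⟩
  have n₂ : Fusion.NormalLift.NData F E₂ p := ⟨hS, hF, hE₂⟩
  by_cases h : T₁ ⊓ T₂ ≤ E₁.center ∧ T₁ ⊓ T₂ ≤ E₂.center
  · obtain ⟨D, hD, hcp⟩ := Fusion.Comp.exists_normal_product n₁ n₂ hcomm h.1 h.2
    exact ⟨D, hD, fun _ _ => hcp⟩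
  have hZ : F.StronglyClosed (T₁ ⊓ T₂) := Fusion.stronglyClosed_iff.mpr ⟨inf_le_left.trans n₁.tS,
    fun R f hf x hx hxZ => ⟨Fusion92.closed_apply n₁.closed hf hx hxZ.1,
      Fusion92.closed_apply n₂.closed hf hx hxZ.2⟩⟩
  obtain ⟨E₁', m₁, hc₁⟩ := Fusion.Comp.exists_fixing n₁ hZ inf_le_left fun z hz t ht => (hcomm t ht z hz.2).symm
  obtain ⟨E₂', m₂, hc₂⟩ := Fusion.Comp.exists_fixing n₂ hZ inf_le_right fun z hz t ht => hcomm z hz.1 t ht
  obtain ⟨D, hD, -⟩ := Fusion.Comp.exists_normal_product m₁ m₂ hcomm hc₁ hc₂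
  exact ⟨D, hD, fun ha hb => absurd ⟨ha, hb⟩ h⟩

end Cfsg.Agent.S5138
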