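import Cfsg.Statements.S5153
import Cfsg.Agent.Lib.Fusion.Saturation
import Cfsg.Agent.Lib.Fusion.Closed
-- import your own Cfsg.Agent.* helpers here

set_option autoImplicit false
open Cfsg
open Cfsg.Agent.Fusion

namespace Cfsg.Agent.S5153

open Cfsg.FusionSystem (normalizerIn)

theorem le_of_subsystem {Ω : Type*} [Group Ω] {T S : Subgroup Ω} {E : Cfsg.FusionSystem T}
    {F : Cfsg.FusionSystem S} (h : E.IsSubsystemOf F) : T ≤ S :=
  ((isMap_id (F := E) le_rfl).of_isSubsystemOf h).dom_le

theorem subnormal_le {Ω : Type*} [Group Ω] {T S : Subgroup Ω} {E : Cfsg.FusionSystem T}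
    {F : Cfsg.FusionSystem S} {p : ℕ} (h : E.IsSubnormalIn F p) : T ≤ S := by
  induction h with
  | refl => exact le_rfl
  | step _ h2 ih => exact ih.trans (le_of_subsystem h2.1.2.2.1)

theorem fullyNormalized_of_normal {Ω : Type*} [Group Ω] {U S : Subgroup Ω} [Finite S] {p : ℕ}
    [Fact p.Prime] (hS : IsPGroup p S) {D : Cfsg.FusionSystem U} {F : Cfsg.FusionSystem S}
    (hD : D.IsNormalIn F p) {P : Subgroup Ω} (hPU : P ≤ U) (hP : F.IsFullyNormalized P) :
    D.IsFullyNormalized P := by
  refine ⟨hPU, fun Q hQ => ?_⟩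
  obtain ⟨g, hg⟩ := isConj_iff.mp hQ
  have hF := hD.1.2.1
  have hc := stronglyClosed_iff.mp hD.1.2.2.2.1
  obtain ⟨f, hf, -, hfN⟩ := exists_normalizer_map hS (fullyAutomized_of_fullyNormalized hS hF hP)
    (receptive_of_fullyCentralized hS hF (fullyCentralized_of_fullyNormalized hS hF hP))
    (isConj_symm (isConj_iff.mpr ⟨g, hg.1.of_isSubsystemOf hD.1.2.2.1, hg.2⟩))
  have hle : normalizerIn U Q ≤ normalizerIn S Q := inf_le_inf_right _ hc.1
  exact card_le_of_injOn (inf_le_left.trans hc.1) (hf.injOn.mono hle)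
    fun x hx => ⟨hc.2 _ f hf x (hle hx) hx.1, (hfN x (hle hx)).2⟩

theorem fullyNormalized_of_subnormal {Ω : Type*} [Group Ω] {T S : Subgroup Ω} {E : Cfsg.FusionSystem T}
    {F : Cfsg.FusionSystem S} {p : ℕ} (hE : E.IsSubnormalIn F p) :
    Finite S → p.Prime → IsPGroup p S → ∀ {P : Subgroup Ω}, P ≤ T → F.IsFullyNormalized P →
      E.IsFullyNormalized P := by
  induction hE with
  | refl => exact fun _ _ _ _ _ h => h
  | step h1 h2 ih =>
    intro hfin hp hS P hPT hP
    have : Fact _ := ⟨hp⟩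
    have hU := le_of_subsystem h2.1.2.2.1
    exact ih (finite_of_le hU) hp (hS.to_le hU) hPT
      (fullyNormalized_of_normal hS h2 (hPT.trans (subnormal_le h1)) hP)

/-- Let F be a saturated fusion system over a finite p-group S and E a subnormal subsystem of F over T. Then every subgroup of T that is fully normalized in F is fully normalized in E. -/
theorem result {Ω : Type*} [Group Ω] {S : Subgroup Ω} [Finite S] (p : ℕ) [Fact p.Prime] (hS : IsPGroup p S) (F : Cfsg.FusionSystem S) (hF : F.IsSaturated p) {T : Subgroup Ω} (E : Cfsg.FusionSystem T) (hE : E.IsSubnormalIn F p) (P : Subgroup Ω) (hPT : P ≤ T) (hP : F.IsFullyNormalized P) : E.IsFullyNormalized P := by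
  exact fullyNormalized_of_subnormal hE inferInstance (Fact.out) hS hPT hP

end Cfsg.Agent.S5153
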