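import Cfsg.Statements.S5159
import Cfsg.Agent.Fusion91.Solvable
-- import your own Cfsg.Agent.* helpers here

set_option autoImplicit false
open Cfsg Cfsg.FusionSystem
open Cfsg.Agent.Fusion (IsMap autFun)
open scoped commutatorElement

namespace Cfsg.Agent.S5159

variable {Ω : Type*} [Group Ω] {S T : Subgroup Ω} {F : Cfsg.FusionSystem S} {E : Cfsg.FusionSystem T}

/-- A subgroup strongly closed in an invariant subsystem and stable under `Aut_F(T)` is strongly
closed in `F`. -/
theorem stronglyClosed_of_invariant (hE : E.IsInvariantIn F) {U : Subgroup Ω} (hU : E.StronglyClosed U)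
    (hinv : ∀ α ∈ F.autGroup T, ∀ (x : T), (x : Ω) ∈ U → ((α x : T) : Ω) ∈ U) : F.StronglyClosed U := by
  obtain ⟨hsub, hT, -, hfr⟩ := hE
  refine Fusion.stronglyClosed_iff.mpr ⟨hU.1.trans hT.1, fun P f hf x hx hxU => ?_⟩
  obtain ⟨φ, hφ, hφf⟩ := hf.mono (inf_le_left : P ⊓ T ≤ P)
  obtain ⟨α, hα, φ₀, hφ₀, he⟩ := hfr (P ⊓ T) inf_le_right φ hφ
  have h1 : φ₀ ⟨x, hx, hU.1 hxU⟩ ∈ U := Fusion91.strongClosed_map_mem hU hφ₀ hxU
  have h2 := he ⟨x, hx, hU.1 hxU⟩ (hU.1 h1)
  rw [hφf] at h2
  show f x ∈ U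
  rw [h2]
  exact hinv α hα _ h1

/-- In an invariant subsystem with an abelian chain every `F`-closed subgroup below a member has an
abelian chain in `F`. -/
theorem hasAbelianChain_of_invariant [Finite S] (hE : E.IsInvariantIn F) {n : ℕ}
    {Ts : Fin (n + 1) → Subgroup Ω} (h0 : Ts 0 = ⊥) (hcl : ∀ i, E.StronglyClosed (Ts i))
    (hab : ∀ i : Fin n, ⁅Ts i.succ, Ts i.succ⁆ ≤ Ts (Fin.castSucc i)) (i : Fin (n + 1)) :
    ∀ R : Subgroup Ω, F.StronglyClosed R → R ≤ Ts i → Fusion91.HasAbelianChain F R := by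
  induction i using Fin.induction with
  | zero =>
    intro R _ hR
    obtain rfl : R = ⊥ := le_bot_iff.mp (h0 ▸ hR)
    exact Fusion91.HasAbelianChain.bot F
  | succ i ih =>
    intro R hR hRi
    have hRT : R ≤ T := hRi.trans (hcl i.succ).1
    have hcomm : ⁅R, R⁆ ≤ R := Subgroup.commutator_le.mpr fun a ha b hb => by
      rw [commutatorElement_def]
      exact R.mul_mem (R.mul_mem (R.mul_mem ha hb) (R.inv_mem ha)) (R.inv_mem hb)
    let R' : Subgroup Ω := sInf {U | E.StronglyClosed U ∧ ⁅R, R⁆ ≤ U}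
    have hmin : ∀ U, E.StronglyClosed U → ⁅R, R⁆ ≤ U → R' ≤ U := fun U h1 h2 => sInf_le ⟨h1, h2⟩
    have hRE : E.StronglyClosed R := Fusion.stronglyClosed_iff.mpr ⟨hRT, fun P f hf x hx hxR =>
      (Fusion.stronglyClosed_iff.mp hR).2 P f (hf.of_isSubsystemOf hE.1) x hx hxR⟩
    have hge : ⁅R, R⁆ ≤ R' := le_sInf fun U hU => hU.2
    have hle : R' ≤ R := hmin R hRE hcomm
    have hR'E : E.StronglyClosed R' := Fusion.stronglyClosed_iff.mpr ⟨hle.trans hRT, fun P f hf x hx hxR => by
      refine Subgroup.mem_sInf.mpr fun U hU => (Fusion.stronglyClosed_iff.mp hU.1).2 P f hf x hx ?_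
      exact Subgroup.mem_sInf.mp hxR U hU⟩
    have hinv : ∀ α ∈ F.autGroup T, ∀ (x : T), (x : Ω) ∈ R' → ((α x : T) : Ω) ∈ R' := by
      intro α hα x hx
      let V : Subgroup Ω := (R'.comap (T.subtype.comp α.toMonoidHom)).map T.subtype
      have hVT : V ≤ T := Subgroup.map_subtype_le _
      have hV : E.StronglyClosed V := by
        refine ⟨hVT, fun P hP φ hφ y => ?_⟩
        obtain ⟨χ, hχ, hχe⟩ := hE.2.2.1 P (hP.trans hVT) φ hφ α hα
        have hφy : φ y ∈ T := (E.le_of_mem hφ).2 y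
        obtain ⟨⟨w, hw⟩, hw', hwy⟩ := hP y.2
        have hyR : ((α ⟨y, hP.trans hVT y.2⟩ : T) : Ω) ∈ R' := by
          have : (⟨y, hP.trans hVT y.2⟩ : T) = ⟨w, hw⟩ := Subtype.ext hwy.symm
          rw [this]; exact hw'
        have hmem : ((α ⟨y, hP.trans hVT y.2⟩ : T) : Ω) ∈
            (P.subgroupOf T).map (T.subtype.comp α.toMonoidHom) :=
          ⟨⟨y, hP.trans hVT y.2⟩, y.2, rfl⟩
        have := Fusion91.strongClosed_map_mem hR'E hχ (x := ⟨_, hmem⟩) hyR
        rw [hχe y hφy hmem] at this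
        exact ⟨⟨φ y, hφy⟩, this, rfl⟩
      have hRV : ⁅R, R⁆ ≤ V := by
        have hmap : ∀ a : T, (a : Ω) ∈ R → ((α a : T) : Ω) ∈ R := fun a ha => by
          rw [← Fusion.autFun_coe]
          exact (Fusion.stronglyClosed_iff.mp hR).2 T _ ((Fusion.mem_autGroup hE.2.1.1).mp hα).1 a a.2 ha
        refine Subgroup.commutator_le.mpr fun a ha b hb => ⟨⁅(⟨a, hRT ha⟩ : T), ⟨b, hRT hb⟩⁆, ?_, ?_⟩
        · show ((α ⁅(⟨a, hRT ha⟩ : T), ⟨b, hRT hb⟩⁆ : T) : Ω) ∈ R'
          rw [map_commutatorElement]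
          have := hge (Subgroup.commutator_mem_commutator (hmap ⟨a, hRT ha⟩ ha) (hmap ⟨b, hRT hb⟩ hb))
          simpa [commutatorElement_def] using this
        · simp [commutatorElement_def]
      obtain ⟨⟨w, hw⟩, hw', hwx⟩ := hmin V hV hRV hx
      obtain rfl : x = ⟨w, hw⟩ := Subtype.ext hwx.symm
      exact hw'
    refine (ih R' (stronglyClosed_of_invariant hE hR'E hinv) ?_).snoc hle hR hge
    exact hmin _ (hcl _) ((Subgroup.commutator_mono hRi hRi).trans (hab i))

/-- Let F be a saturated fusion system over a finite p-group S, E a normal subsystem over T, and D the factor system of F modulo T (read through any homomorphism on S with kernel T). Then F is solvable if and only if E and D are solvable (solvable, for a system over a subgroup S: for every subgroup R other than S that is strongly closed in F, the factor system of F modulo R has a nontrivial subgroup normal in it). -/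
theorem result {Ω : Type*} [Group Ω] {S : Subgroup Ω} [Finite S] (p : ℕ) [Fact p.Prime] (hS : IsPGroup p S) (F : Cfsg.FusionSystem S) (hF : F.IsSaturated p) {T : Subgroup Ω} (E : Cfsg.FusionSystem T) (hE : E.IsNormalIn F p) {Ω' : Type*} [Group Ω'] {S' : Subgroup Ω'} (θ : S →* Ω') (D : Cfsg.FusionSystem S') (hD : F.IsFactorSystem T θ D) : F.IsSolvableSystem ↔ (E.IsSolvableSystem ∧ D.IsSolvableSystem) := by
  obtain ⟨⟨hEsat, -, hinv⟩, -⟩ := hE
  have hT := hinv.2.1
  have hT0 : T ≤ S := hT.1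
  haveI : Finite T := Fusion91.finite_of_le hT0
  have hTp : IsPGroup p T := hS.to_le hT0
  have hα := S5134.result p hS F hF T hT θ D hD
  have hDsat := Fusion91.isSaturated_image hS hF hα
  haveI : Finite S' := by
    rw [← hα.2.1]
    exact (Set.finite_range θ).to_subtype
  have hS'p : IsPGroup p S' := by
    rw [← hα.2.1]
    exact hS.of_surjective θ.rangeRestrict θ.rangeRestrict_surjective
  constructor
  · intro h
    obtain ⟨n, Ts, h0, hl, hm, hcl, hab⟩ := Fusion91.hasAbelianChain_of_solvable hS hF h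
    refine ⟨Fusion91.solvable_of_hasAbelianChain hTp hEsat ⟨n, fun i => Ts i ⊓ T, by simp [h0], ?_,
      fun i j hij => inf_le_inf_right _ (hm hij), fun i => ?_, fun i => ?_⟩,
      Fusion91.solvable_of_hasAbelianChain hS'p hDsat ⟨n, fun i => imageAlong θ (Ts i), ?_, ?_,
        fun i j hij => ?_, fun i => Fusion91.stronglyClosed_image hα (hcl i), fun i => ?_⟩⟩
    · show Ts (Fin.last n) ⊓ T = T
      rw [hl]; exact inf_eq_right.mpr hT0
    · exact Fusion.stronglyClosed_iff.mpr ⟨inf_le_right, fun P f hf x hx hxT =>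
        ⟨(Fusion.stronglyClosed_iff.mp (hcl i)).2 P f (hf.of_isSubsystemOf hinv.1) x hx hxT.1,
          hf.apply_mem hx⟩⟩
    · refine Subgroup.commutator_le.mpr fun a ha b hb => ⟨hab i (Subgroup.commutator_mem_commutator ha.1 hb.1), ?_⟩
      rw [commutatorElement_def]
      exact T.mul_mem (T.mul_mem (T.mul_mem ha.2 hb.2) (T.inv_mem ha.2)) (T.inv_mem hb.2)
    · refine (Subgroup.eq_bot_iff_forall _).mpr fun y hy => ?_
      obtain ⟨s, hs, rfl⟩ := Fusion91.mem_imageAlong.mp hy
      rw [h0, Subgroup.mem_bot] at hs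
      rw [show s = 1 from Subtype.ext hs, map_one]
    · refine le_antisymm (Fusion91.stronglyClosed_image hα (hcl _)).1 fun y hy => ?_
      obtain ⟨x, hx, rfl⟩ := Fusion91.exists_push_eq hα.2.1 hy
      exact (Fusion91.mem_imageAlong_push (hcl _).1).mpr ⟨x, hl.symm ▸ hx, rfl⟩
    · intro y hy
      obtain ⟨s, hs, rfl⟩ := Fusion91.mem_imageAlong.mp hy
      exact Fusion91.mem_imageAlong.mpr ⟨s, hm hij hs, rfl⟩
    · refine Subgroup.commutator_le.mpr fun a ha b hb => ?_
      obtain ⟨x, hx, rfl⟩ := Fusion91.mem_imageAlong.mp ha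
      obtain ⟨y, hy, rfl⟩ := Fusion91.mem_imageAlong.mp hb
      refine Fusion91.mem_imageAlong.mpr ⟨⁅x, y⁆, ?_, map_commutatorElement θ x y⟩
      have := hab i (Subgroup.commutator_mem_commutator hx hy)
      simpa [commutatorElement_def] using this
  · rintro ⟨hEs, hDs⟩
    obtain ⟨n, Ts, h0, hl, -, hcl, hab⟩ := Fusion91.hasAbelianChain_of_solvable hTp hEsat hEs
    have hTc : Fusion91.HasAbelianChain F T :=
      hasAbelianChain_of_invariant hinv h0 hcl hab (Fin.last n) T hT hl.ge
    obtain ⟨m, Us, k0, kl, km, kcl, kab⟩ := Fusion91.hasAbelianChain_of_solvable hS'p hDsat hDs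
    have key : ∀ i : Fin (m + 1), Fusion91.HasAbelianChain F (preimageAlong θ (Us i)) := by
      intro i
      induction i using Fin.induction with
      | zero =>
        have : preimageAlong θ (Us 0) = T := by
          ext x
          rw [k0, Fusion91.mem_preimageAlong]
          exact ⟨fun ⟨hx, hx'⟩ => (hD.2.1 ⟨x, hx⟩).mp (Subgroup.mem_bot.mp hx'),
            fun hx => ⟨hT0 hx, Subgroup.mem_bot.mpr ((hD.2.1 ⟨x, hT0 hx⟩).mpr hx)⟩⟩
        rw [this]; exact hTc
      | succ i ih =>
        refine ih.snoc (fun x hx => ?_) (Fusion91.stronglyClosed_preimage hα (kcl _)) ?_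
        · obtain ⟨hxS, hx'⟩ := Fusion91.mem_preimageAlong.mp hx
          exact Fusion91.mem_preimageAlong.mpr ⟨hxS, km (Fin.castSucc_le_succ i) hx'⟩
        · refine Subgroup.commutator_le.mpr fun a ha b hb => ?_
          obtain ⟨haS, ha'⟩ := Fusion91.mem_preimageAlong.mp ha
          obtain ⟨hbS, hb'⟩ := Fusion91.mem_preimageAlong.mp hb
          have h1 : θ ⁅(⟨a, haS⟩ : S), ⟨b, hbS⟩⁆ ∈ Us (Fin.castSucc i) := by
            rw [map_commutatorElement]
            exact kab i (Subgroup.commutator_mem_commutator ha' hb')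
          refine Fusion91.mem_preimageAlong.mpr ⟨?_, ?_⟩
          · rw [commutatorElement_def]
            exact S.mul_mem (S.mul_mem (S.mul_mem haS hbS) (S.inv_mem haS)) (S.inv_mem hbS)
          · convert h1 using 2
            exact Subtype.ext (by simp [commutatorElement_def])
    have hlast : preimageAlong θ (Us (Fin.last m)) = S := by
      refine le_antisymm (Fusion91.preimageAlong_le θ _) fun x hx => Fusion91.mem_preimageAlong.mpr ⟨hx, ?_⟩
      rw [kl, ← hα.2.1]
      exact ⟨_, rfl⟩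
    exact Fusion91.solvable_of_hasAbelianChain hS hF (by
      have := key (Fin.last m)
      rwa [hlast] at this)

end Cfsg.Agent.S5159
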