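import Cfsg.Statements.S5168
import Cfsg.Agent.Fusion91.SimpleFinal
import Cfsg.Agent.Fusion91.Mathieu.CertM22
import Cfsg.Agent.Fusion91.Mathieu.Orders
-- import your own Cfsg.Agent.* helpers here

set_option autoImplicit false
open Cfsg

namespace Cfsg.Agent.S5168

/-- The 2-fusion system of the Mathieu group M₂₂ (as the explicit permutation group carved out of the automorphism group of the binary Golay code) on a Sylow 2-subgroup is simple: saturated, over a nontrivial 2-group, with no normal subsystem other than the trivial one and itself. -/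
theorem result (S : Sylow 2 Cfsg.Spor.M22) : (Cfsg.groupFusionSystem (S : Subgroup Cfsg.Spor.M22)).IsSimple 2 := by
  have : Fact (Nat.Prime 2) := ⟨Nat.prime_two⟩
  obtain ⟨h1, h2, h3⟩ := Fusion91.Mathieu.of_cert _ _ _ Fusion91.Mathieu.sound22
    Fusion91.Mathieu.checkM22 Fusion91.Mathieu.part22 (by decide +kernel) S
  exact Fusion91.groupFusion_simple_local 2 S h1 h2 h3

end Cfsg.Agent.S5168
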