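import Cfsg.Statements.S5170
import Cfsg.Agent.Fusion91.SimpleFinal
import Cfsg.Agent.Fusion91.Mathieu.CertM24
import Cfsg.Agent.Fusion91.Mathieu.Orders
-- import your own Cfsg.Agent.* helpers here

set_option autoImplicit false
open Cfsg

namespace Cfsg.Agent.S5170

/-- The 2-fusion system of the Mathieu group M₂₄ (as the explicit permutation group of the 24 points preserving the binary Golay code) on a Sylow 2-subgroup is simple: saturated, over a nontrivial 2-group, with no normal subsystem other than the trivial one and itself. -/
theorem result (S : Sylow 2 Cfsg.M24) : (Cfsg.groupFusionSystem (S : Subgroup Cfsg.M24)).IsSimple 2 := by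
  have : Fact (Nat.Prime 2) := ⟨Nat.prime_two⟩
  obtain ⟨h1, h2, h3⟩ := Fusion91.Mathieu.of_cert _ _ _ Fusion91.Mathieu.sound24
    Fusion91.Mathieu.checkM24 Fusion91.Mathieu.part24 (by decide +kernel) S
  exact Fusion91.groupFusion_simple_local 2 S h1 h2 h3

end Cfsg.Agent.S5170
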