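import Cfsg.Statements.S5190
import Cfsg.Agent.S90.W.Consumer
import Cfsg.Agent.S90.W.MemberBasic
import Cfsg.Agent.S90.W.Main

set_option autoImplicit false
universe u
open Cfsg

namespace Cfsg.Agent.S5190

/-- Let F be a saturated fusion system over a nontrivial finite p-group S that is Qd(p)-free: no model of the normalizer system of a fully normalized centric subgroup has a section isomorphic to Qd(p), the semidirect product of an elementary abelian group of order p² by SL(2,p) acting naturally. Then some nontrivial characteristic subgroup of S is normal in F. -/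
theorem result {Ω : Type u} [Group Ω] {S : Subgroup Ω} [Finite S] (p : ℕ) [Fact p.Prime] (hS : IsPGroup p S) (hS1 : S ≠ ⊥)
    (F : Cfsg.FusionSystem S) (hF : F.IsSaturated p)
    (hfree : ∀ Q : Subgroup Ω, F.IsCentric Q → F.IsFullyNormalized Q →
      ∀ E : Cfsg.FusionSystem (Cfsg.FusionSystem.normalizerIn S Q), F.IsNormalizerSystem Q E →
        ∀ (G : Type u) (_ : Group G) (ι : ↥(Cfsg.FusionSystem.normalizerIn S Q) →* G),
          E.IsModel p G ι → ¬ Cfsg.Involves ↥(Cfsg.qd p) G) :
    ∃ W : Subgroup Ω, W ≤ S ∧ W ≠ ⊥ ∧ (W.subgroupOf S).Characteristic ∧ F.IsNormal W := by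
  have hw : S90.W.Consumer.WkFacts.{u} := ⟨fun f hf hS => S90.W.im_wk f hf hS, @S90.W.zc_le_wk, @S90.W.wk_normal⟩
  exact S90.W.Consumer.exists_normal_qdFree hw p hS hS1 F hF
    fun Q hQ hQc E hE G _ ι hm => hfree Q hQc hQ E hE G _ ι hm

end Cfsg.Agent.S5190
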