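import Cfsg.Statements.S5192
import Cfsg.Agent.Fusion91.ThompsonTransfer
-- import your own Cfsg.Agent.* helpers here

set_option autoImplicit false
open Cfsg
open Cfsg.FusionSystem (normalizerIn centralizerIn)

namespace Cfsg.Agent.S5192

theorem mem_normalizer_zpowers_two {Ω : Type*} [Group Ω] {x g : Ω} (hx : x * x = 1)
    (hg : g ∈ Subgroup.normalizer (Subgroup.zpowers x : Set Ω)) : g * x = x * g := by
  obtain ⟨n, hn⟩ := (Subgroup.mem_normalizer_iff.mp hg x).mp (Subgroup.mem_zpowers x)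
  have h2 : x ^ (2 : ℤ) = 1 := by rw [zpow_two, hx]
  dsimp only at hn
  rcases Int.even_or_odd n with ⟨k, rfl⟩ | ⟨k, rfl⟩
  · rw [← two_mul, zpow_mul, h2, one_zpow] at hn
    have : x = 1 := conj_eq_one_iff.mp hn.symm
    simp [this]
  · rw [zpow_add, zpow_mul, h2, one_zpow, one_mul, zpow_one] at hn
    exact (eq_mul_inv_iff_mul_eq.mp hn).symm

theorem card_centralizer_singleton {Ω : Type*} [Group Ω] {S : Subgroup Ω} (z : S)
    (hz : z * z = 1) :
    Nat.card (Subgroup.centralizer ({z} : Set S)) =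
      Nat.card (normalizerIn S (Subgroup.zpowers (z : Ω))) := by
  have hzΩ : (z : Ω) * z = 1 := congrArg Subtype.val hz
  refine Nat.card_congr
    { toFun := fun s => ⟨(s.1 : Ω), s.1.2, Subgroup.centralizer_le_normalizer _ ?_⟩
      invFun := fun g => ⟨⟨g.1, g.2.1⟩, Subgroup.mem_centralizer_iff.mpr fun w hw => ?_⟩
      left_inv := fun _ => rfl
      right_inv := fun _ => rfl }
  · refine Subgroup.mem_centralizer_iff.mpr fun w hw => ?_
    obtain ⟨k, rfl⟩ := hw
    have hc : Commute (z : Ω) s.1 :=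
      congrArg Subtype.val (Subgroup.mem_centralizer_iff.mp s.2 z (Set.mem_singleton z))
    exact hc.zpow_left k
  · rw [Set.mem_singleton_iff.mp hw]
    exact Subtype.ext (mem_normalizer_zpowers_two hzΩ g.2.2).symm

/-- A Thompson-type transfer for saturated fusion systems. Let F be a saturated fusion system on a finite 2-group S, T a subgroup of S of index 2, and i an involution of S such that every fully normalized F-conjugate of i lies in S but outside T. Then i does not lie in the hyperfocal subgroup of F (the Sylow group of the 2-residual subsystem). -/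
theorem result {Ω : Type*} [Group Ω] [Finite Ω] {S : Subgroup Ω}
    (hS : IsPGroup 2 ↥S) (F : Cfsg.FusionSystem S) (hF : F.IsSaturated 2)
    (T : Subgroup Ω) (hTS : T ≤ S) (hT : T.relIndex S = 2)
    (i : Ω) (hi : i ∈ S) (hi2 : orderOf i = 2)
    (h : ∀ j : Ω, F.IsConjElt i j → F.IsFullyNormalized (Subgroup.zpowers j) → j ∉ T) :
    i ∉ F.hyperfocalSubgroup 2 := by
  classical
  have : Finite S := inferInstance
  obtain ⟨Q, hQc, hQfn⟩ := Fusion.exists_fullyNormalized (F := F) (Subgroup.zpowers_le.mpr hi)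
  obtain ⟨f, hf⟩ := Fusion.isConj_iff.mp hQc
  have hQz : Q = Subgroup.zpowers (f i) := by
    apply SetLike.coe_injective
    rw [← hf.2]
    ext y
    constructor
    · rintro ⟨x, hx, rfl⟩
      obtain ⟨k, rfl⟩ := hx
      obtain ⟨φ, -, hφf⟩ := hf.1
      exact ⟨k, by
        show f i ^ k = f (i ^ k)
        rw [← hφf ⟨i, Subgroup.mem_zpowers i⟩, ← map_zpow]
        exact hφf ⟨i ^ k, ⟨k, rfl⟩⟩⟩
    · rintro ⟨k, rfl⟩
      obtain ⟨φ, -, hφf⟩ := hf.1
      exact ⟨i ^ k, ⟨k, rfl⟩, by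
        show f (i ^ k) = f i ^ k
        rw [← hφf ⟨i, Subgroup.mem_zpowers i⟩, ← map_zpow]
        exact (hφf ⟨i ^ k, ⟨k, rfl⟩⟩).symm⟩
  have hconj : ∀ {j : Ω}, (∃ P g, Fusion.IsMap F P g ∧ i ∈ P ∧ g i = j) → F.IsConjElt i j := by
    rintro j ⟨P, g, hg, hiP, rfl⟩
    obtain ⟨φ, hφ, hφg⟩ := hg.mono (Subgroup.zpowers_le.mpr hiP)
    exact ⟨φ, hφ, hφg _⟩
  have hzS : f i ∈ S := hf.1.apply_mem (Subgroup.mem_zpowers i)
  have hi1 : i * i = 1 := by rw [← sq, ← hi2, pow_orderOf_eq_one]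
  have hz1 : f i * f i = 1 := by
    rw [← hf.1.map_mul (Subgroup.mem_zpowers i) (Subgroup.mem_zpowers i), hi1, hf.1.map_one]
  let z : S := ⟨f i, hzS⟩
  have hzT : (z : Ω) ∉ T :=
    h _ (hconj ⟨_, f, hf.1, Subgroup.mem_zpowers i, rfl⟩) (hQz ▸ hQfn)
  -- the character with kernel `T`
  let ψ : S →* Multiplicative (ZMod 2) :=
    MonoidHom.mk' (fun s => if (s : Ω) ∈ T then 1 else Multiplicative.ofAdd 1) fun a b => by
      have := Subgroup.mul_mem_iff_of_index_two (H := T.subgroupOf S) hT (a := a) (b := b)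
      simp only [Subgroup.mem_subgroupOf, Subgroup.coe_mul] at this
      by_cases ha : (a : Ω) ∈ T <;> by_cases hb : (b : Ω) ∈ T <;>
        simp [ha, hb, this] <;> decide
  have hψ : ∀ s : S, ψ s = 1 ↔ (s : Ω) ∈ T := fun s => by
    show (if (s : Ω) ∈ T then (1 : Multiplicative (ZMod 2)) else Multiplicative.ofAdd 1) = 1 ↔ _
    by_cases hs : (s : Ω) ∈ T <;> simp [hs]
  obtain ⟨τ, hτ, hτz⟩ := Fusion91.exists_transfer_involution hS hF ψ z (Subtype.ext hz1)
    (fun h1 => hzT ((hψ z).mp h1)) (by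
    intro P g hg t htP hgt ht
    have ht1 : t * t = 1 := Subtype.ext (hg.injOn (P.mul_mem htP htP) P.one_mem (by
      rw [hg.map_mul htP htP, hgt]; exact hz1.trans hg.map_one.symm))
    rw [card_centralizer_singleton t ht1, card_centralizer_singleton z (Subtype.ext hz1)]
    have hlt : Nat.card (normalizerIn S (Subgroup.zpowers (t : Ω))) <
        Nat.card (normalizerIn S (Subgroup.zpowers (z : Ω))) := by
      obtain ⟨I, hI⟩ := (hg.mono (Subgroup.zpowers_le.mpr htP)).exists_image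
      obtain ⟨g', hg', hgl, -⟩ := hI.exists_inv
      have hzI : f i ∈ I := by
        rw [show f i = g t from hgt.symm]; exact hI.mem (Subgroup.mem_zpowers _)
      have hit : F.IsConjElt i t := hconj ⟨_, g' ∘ f, hf.1.comp (hg'.1.mono (le_refl I)) (fun x hx => by
        obtain ⟨k, rfl⟩ := hx
        obtain ⟨φ, -, hφf⟩ := hf.1
        rw [← hφf ⟨i ^ k, ⟨k, rfl⟩⟩, show (⟨i ^ k, ⟨k, rfl⟩⟩ : Subgroup.zpowers i) =
          (⟨i, Subgroup.mem_zpowers i⟩ : Subgroup.zpowers i) ^ k from Subtype.ext rfl, map_zpow, hφf]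
        exact I.zpow_mem hzI k), Subgroup.mem_zpowers i, by
        show g' (f i) = t
        rw [show f i = g t from hgt.symm, hgl _ (Subgroup.mem_zpowers _)]⟩
      have hnfn : ¬ F.IsFullyNormalized (Subgroup.zpowers (t : Ω)) := fun hfn =>
        h _ hit hfn ((hψ t).mp ht)
      have hct : F.IsConj (Subgroup.zpowers (t : Ω)) Q := by
        rw [hQz]
        have hIz : I = Subgroup.zpowers (f i) := by
          refine le_antisymm ?_ (Subgroup.zpowers_le.mpr hzI)
          intro y hy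
          obtain ⟨x, ⟨k, rfl⟩, rfl⟩ := hI.exists_preimage hy
          obtain ⟨φ, -, hφf⟩ := hI.1
          refine ⟨k, ?_⟩
          show f i ^ k = g ((t : Ω) ^ k)
          rw [show f i = g t from hgt.symm, ← hφf ⟨(t : Ω), Subgroup.mem_zpowers _⟩, ← map_zpow]
          exact hφf ⟨(t : Ω) ^ k, ⟨k, rfl⟩⟩
        exact hIz ▸ hI.isConj
      by_contra hge
      refine hnfn ⟨Subgroup.zpowers_le.mpr t.2, fun R hR => ?_⟩
      refine (hQfn.2 R (Fusion.isConj_trans (Fusion.isConj_symm hct) hR)).trans ?_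
      rw [hQz]
      exact not_lt.mp hge
    obtain ⟨a, ha⟩ := (hS.to_le (inf_le_left : normalizerIn S (Subgroup.zpowers (t : Ω)) ≤ S)).exists_card_eq
    obtain ⟨b, hb⟩ := (hS.to_le (inf_le_left : normalizerIn S (Subgroup.zpowers (z : Ω)) ≤ S)).exists_card_eq
    unfold Cfsg.FusionSystem.normalizerIn at hlt ⊢
    rw [ha, hb] at hlt ⊢
    rw [← pow_succ]
    exact Nat.pow_dvd_pow 2 ((Nat.pow_lt_pow_iff_right (by norm_num)).mp hlt))
  intro hhyp
  have hker : F.hyperfocalSubgroup 2 ≤ τ.ker.map S.subtype := by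
    refine (Subgroup.closure_le _).mpr ?_
    rintro _ ⟨P, α, x, hP, -, rfl⟩
    have hm := ((Fusion.mem_autGroup hP).mp α.2).1
    have h1 := hτ P _ hm x x.2
    refine ⟨⟨x, hP x.2⟩⁻¹ * ⟨_, hm.apply_mem x.2⟩, ?_, ?_⟩
    · show τ _ = 1
      rw [map_mul, map_inv, h1, inv_mul_cancel]
    · show (x : Ω)⁻¹ * _ = _
      rw [← Fusion.autFun_coe]
  obtain ⟨s, hs, hsi⟩ := hker hhyp
  have h1 := hτ _ f hf.1 i (Subgroup.mem_zpowers i)
  rw [show (⟨i, hf.1.dom_le (Subgroup.mem_zpowers i)⟩ : S) = s from Subtype.ext hsi.symm,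
    show τ s = 1 from hs] at h1
  exact hτz h1

end Cfsg.Agent.S5192
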