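import Cfsg.Statements.S5193
import Cfsg.Agent.WeakClosure.FusionControl

set_option autoImplicit false
open Cfsg

namespace Cfsg.Agent.S5193

open Cfsg.Agent

/-- Glauberman's Theorem for fusion systems. Let F be a saturated fusion system over a finite p-group S, let J(S) be the subgroup generated by the abelian subgroups of S of largest order, and let N be the normalizer fusion system of J(S) in F (a fusion system over N_S(J(S)) = S). Then every p-th power of an element of Z(S) that lies in the centre of N lies in the centre of F; and if p is odd, or if the symmetric group of degree 4 is not involved in any model of the normalizer system of a fully normalized F-centric subgroup (F is S₄-free), then the centre of N equals the centre of F. -/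
theorem result {Ω : Type*} [Group Ω] {S : Subgroup Ω} [Finite S] (p : ℕ) [Fact p.Prime] (hS : IsPGroup p S) (F : Cfsg.FusionSystem S) (hF : F.IsSaturated p) (N : Cfsg.FusionSystem (Cfsg.FusionSystem.normalizerIn S (Cfsg.thompsonSubgroupAOf S))) (hN : F.IsNormalizerSystem (Cfsg.thompsonSubgroupAOf S) N) : Subgroup.closure ((fun z : Ω => z ^ p) '' ((S ⊓ Subgroup.centralizer (S : Set Ω) : Subgroup Ω) : Set Ω)) ⊓ N.center ≤ F.center ∧ (p ≠ 2 ∨ F.IsSectionFree p (Equiv.Perm (Fin 4)) → N.center = F.center) := by
  have hV := Fusion92.le_normalizer_map_W (W := WeakClosure.jaFun) WeakClosure.isInvariantW_jaFun hS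
  have hNS : Cfsg.FusionSystem.normalizerIn S (Cfsg.thompsonSubgroupAOf S) = S := inf_eq_left.mpr hV
  have : Finite (Cfsg.FusionSystem.normalizerIn S (Cfsg.thompsonSubgroupAOf S)) :=
    Fusion.finite_of_le (Fusion.normalizerIn_le S _)
  have hcz : ∀ x ∈ N.center, x ∈ S ⊓ Subgroup.centralizer (S : Set Ω) := fun x hx => by
    have hxN := (Fusion91.isCentral_center N).1 hx
    exact ⟨hxN.1, Subgroup.mem_centralizer_iff.mpr fun s hs =>
      (Subgroup.mem_centralizer_iff.mp
        (Fusion92.center_le_centralizer (F := N) (hNS.symm ▸ hs)) x hx).symm⟩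
  refine ⟨?_, fun h => le_antisymm (fun x hx => ?_)
    (Fusion92.center_le_normalizer_center hS WeakClosure.isInvariantW_jaFun hN)⟩
  · rintro y ⟨hy, hyN⟩
    obtain ⟨z, hz, rfl⟩ : ∃ z ∈ (S ⊓ Subgroup.centralizer (S : Set Ω) : Subgroup Ω), z ^ p = y := by
      refine Subgroup.closure_induction (fun a ha => ha) ⟨1, one_mem _, one_pow p⟩
        (fun a b _ _ ha hb => ?_) (fun a _ ha => ?_) hy
      · obtain ⟨a', ha', rfl⟩ := ha
        obtain ⟨b', hb', rfl⟩ := hb
        exact ⟨a' * b', mul_mem ha' hb',
          (Commute.mul_pow (show Commute a' b' from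
            Subgroup.mem_centralizer_iff.mp hb'.2 a' ha'.1) p)⟩
      · obtain ⟨a', ha', rfl⟩ := ha
        exact ⟨a'⁻¹, inv_mem ha', inv_pow a' p⟩
    exact WeakClosure.mem_center_of_normalizer_center hS hF hN (hcz _ hyN) hyN
      (Or.inr (Or.inl ⟨z, hz, rfl⟩))
  · exact WeakClosure.mem_center_of_normalizer_center hS hF hN (hcz _ hx) hx
      (h.imp_right Or.inr)

end Cfsg.Agent.S5193
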