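import Cfsg.Statements.S5194
import Cfsg.Agent.WeakClosure.FusionControl

set_option autoImplicit false
open Cfsg

namespace Cfsg.Agent.S5194

open Cfsg.Agent

/-- Thompson's normal p-complement Theorem for fusion systems. Let F be a saturated fusion system over a finite p-group S such that p is odd or F is S₄-free (the symmetric group of degree 4 is not involved in any model of the normalizer system of a fully normalized F-centric subgroup), and let J(S) be the subgroup generated by the abelian subgroups of S of largest order. If the centralizer fusion system of Z(S) in F is the inner fusion system of C_S(Z(S)) = S and the normalizer fusion system of J(S) in F is the inner fusion system of N_S(J(S)) = S, then F is the inner fusion system of S. -/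
theorem result {Ω : Type*} [Group Ω] {S : Subgroup Ω} [Finite S] (p : ℕ) [Fact p.Prime] (hS : IsPGroup p S) (F : Cfsg.FusionSystem S) (hF : F.IsSaturated p) (hp : p ≠ 2 ∨ F.IsSectionFree p (Equiv.Perm (Fin 4))) (hC : ∀ C : Cfsg.FusionSystem (Cfsg.FusionSystem.centralizerIn S (S ⊓ Subgroup.centralizer (S : Set Ω))), F.IsCentralizerSystem (S ⊓ Subgroup.centralizer (S : Set Ω)) C → ∀ P : Subgroup Ω, C.Hom P = (Cfsg.innerFusionSystem (Cfsg.FusionSystem.centralizerIn S (S ⊓ Subgroup.centralizer (S : Set Ω)))).Hom P) (hN : ∀ N : Cfsg.FusionSystem (Cfsg.FusionSystem.normalizerIn S (Cfsg.thompsonSubgroupAOf S)), F.IsNormalizerSystem (Cfsg.thompsonSubgroupAOf S) N → ∀ P : Subgroup Ω, N.Hom P = (Cfsg.innerFusionSystem (Cfsg.FusionSystem.normalizerIn S (Cfsg.thompsonSubgroupAOf S))).Hom P) : ∀ P : Subgroup Ω, F.Hom P = (Cfsg.innerFusionSystem S).Hom P := by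
  have hV := Fusion92.le_normalizer_map_W (W := WeakClosure.jaFun) WeakClosure.isInvariantW_jaFun hS
  have hNS : Cfsg.FusionSystem.normalizerIn S (Cfsg.thompsonSubgroupAOf S) = S := inf_eq_left.mpr hV
  have : Finite (Cfsg.FusionSystem.normalizerIn S (Cfsg.thompsonSubgroupAOf S)) :=
    Fusion.finite_of_le (Fusion.normalizerIn_le S _)
  have hVS : Cfsg.thompsonSubgroupAOf S ≤ S := Subgroup.map_subtype_le _
  have hN0 := Fusion.isNormalizerSystem_normalizerSystem (F := F) _ hVS
  set N := Fusion.normalizerSystem F _ hVS with hNdef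
  set Z := S ⊓ Subgroup.centralizer (S : Set Ω) with hZdef
  have hCS : Cfsg.FusionSystem.centralizerIn S Z = S := inf_eq_left.mpr fun s hs =>
    Subgroup.mem_centralizer_iff.mpr fun z hz =>
      (Subgroup.mem_centralizer_iff.mp hz.2 s hs).symm
  -- the centre of `S` is central in the normalizer system
  have hZN : Z ≤ N.center := by
    refine le_sSup (show N.IsCentral Z from Fusion.isCentral_iff.mpr ⟨hNS.symm ▸ inf_le_left, ?_⟩)
    intro P f hf
    obtain ⟨φ, hφ, hφf⟩ := hf
    rw [hN N hN0 P] at hφ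
    obtain ⟨hP, g, hg, hφg⟩ := hφ
    refine ⟨fun y => g * y * g⁻¹,
      Fusion.isMap_conj (F := N) (sup_le hP (hNS.symm ▸ inf_le_left)) hg, fun x hx => ?_, ?_⟩
    · exact (hφg ⟨x, hx⟩).symm.trans (hφf ⟨x, hx⟩)
    · intro z hz
      show g * z * g⁻¹ = z
      rw [Subgroup.mem_centralizer_iff.mp hz.2 g hg.1]
      group
  have hZF : Z ≤ F.center := fun x hx =>
    WeakClosure.mem_center_of_normalizer_center hS hF hN0 hx (hZN hx) (hp.imp_right Or.inr)
  intro P
  ext φ
  refine ⟨fun hφ => ?_, ?_⟩
  · have hm := Fusion.isMap_extFun hφ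
    obtain ⟨f', hf', he, hfix⟩ := Fusion92.center_extendsFix hm
    obtain ⟨ψ, hψ, hψf⟩ : Fusion.IsMap (Fusion.centralizerSystem F Z inf_le_left) P (Fusion.extFun φ) :=
      (Fusion.IsCentralizerSystem.isMap_iff
        (Fusion.isCentralizerSystem_centralizerSystem Z inf_le_left)).mpr
        ⟨hm, hCS.symm ▸ hm.dom_le, fun y hy => hCS.symm ▸ hm.apply_mem hy, f',
          hf'.mono (sup_le_sup_left hZF P), he, fun y hy => hfix y (hZF hy)⟩
    rw [hC _ (Fusion.isCentralizerSystem_centralizerSystem Z inf_le_left) P] at hψ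
    obtain ⟨hP, g, hg, hψg⟩ := hψ
    exact ⟨hP.trans inf_le_left, g, hg.1, fun x => by
      rw [← Fusion.extFun_coe φ x, ← hψf x]; exact hψg x⟩
  · rintro ⟨hP, g, hg, hφ⟩
    exact (Fusion.isMap_conj (F := F) hP hg).mem_hom fun x => hφ x

end Cfsg.Agent.S5194
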