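import Cfsg.Agent.Fusion92.InducedAut
import Cfsg.Statements.S5198
-- import your own Cfsg.Agent.* helpers here

set_option autoImplicit false
open Cfsg

namespace Cfsg.Agent.S5198

open Cfsg.Agent

/-- Let F be a saturated fusion system over a finite p-group S and T a subgroup of S strongly closed in F (so T is normal in S). Then every element x of the hyperfocal subgroup of F acts on T by conjugation as an element of O^p(Aut_F(T))·Inn(T): there is an automorphism of T in the subgroup generated by the elements of Aut_F(T) of order prime to p together with the inner automorphisms of T that agrees with conjugation by x. -/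
theorem result {Ω : Type*} [Group Ω] {S : Subgroup Ω} [Finite S] (p : ℕ) [Fact p.Prime] (hS : IsPGroup p S) (F : Cfsg.FusionSystem S) (hF : F.IsSaturated p) (T : Subgroup Ω) (hT : F.StronglyClosed T) : ∀ x ∈ F.hyperfocalSubgroup p, ∃ α ∈ ((Cfsg.pResidual p ↥(F.autGroup T)).map (F.autGroup T).subtype ⊔ Cfsg.Inn ↥T : Subgroup (MulAut ↥T)), ∀ t : ↥T, ((α t : ↥T) : Ω) = x * (t : Ω) * x⁻¹ := by
  have : Finite T := Fusion.finite_of_le hT.1
  have : Finite (MulAut T) := Fusion.finite_mulAut _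
  set O : Subgroup (MulAut ↥T) := (Cfsg.pResidual p ↥(F.autGroup T)).map (F.autGroup T).subtype
  have hnN : ∀ g ∈ S, g ∈ Cfsg.FusionSystem.normalizerIn S T := fun g hg =>
    ⟨hg, Fusion92.le_normalizer_closed hT hg⟩
  let c : ↥S →* MulAut ↥T := (Fusion.conjAutHom S T).comp (Subgroup.inclusion hnN)
  have hcA : ∀ x, c x ∈ F.autGroup T := fun x => Fusion.autInducedBy_le_autGroup hT.1
    (by rw [← Fusion.range_conjAutHom]; exact ⟨_, rfl⟩)
  have hInn : ∀ (x : ↥S), (x : Ω) ∈ T → c x ∈ Cfsg.Inn ↥T := fun x hx =>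
    Fusion.mem_inn.mpr ⟨x, hx, fun _ => rfl⟩
  have hconjO : ∀ a ∈ F.autGroup T, ∀ o ∈ O, a * o * a⁻¹ ∈ O := by
    rintro a ha _ ⟨o, ho, rfl⟩
    exact ⟨⟨a, ha⟩ * o * ⟨a, ha⟩⁻¹,
      (inferInstance : (Cfsg.pResidual p ↥(F.autGroup T)).Normal).conj_mem o ho _, rfl⟩
  intro x hx
  suffices h : ∃ hxS : x ∈ S, c ⟨x, hxS⟩ ∈ O ⊔ Cfsg.Inn ↥T by
    obtain ⟨hxS, h⟩ := h
    exact ⟨_, h, fun t => rfl⟩
  induction hx using Subgroup.closure_induction with
  | one => exact ⟨S.one_mem, by rw [show (⟨1, S.one_mem⟩ : ↥S) = 1 from rfl, map_one]; exact one_mem _⟩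
  | mul a b _ _ ha hb =>
    obtain ⟨haS, ha⟩ := ha
    obtain ⟨hbS, hb⟩ := hb
    exact ⟨S.mul_mem haS hbS, by
      rw [show (⟨a * b, S.mul_mem haS hbS⟩ : ↥S) = ⟨a, haS⟩ * ⟨b, hbS⟩ from rfl, map_mul]
      exact mul_mem ha hb⟩
  | inv a _ ha =>
    obtain ⟨haS, ha⟩ := ha
    exact ⟨S.inv_mem haS, by
      rw [show (⟨a⁻¹, S.inv_mem haS⟩ : ↥S) = ⟨a, haS⟩⁻¹ from rfl, map_inv]
      exact inv_mem ha⟩
  | mem y hy =>
    obtain ⟨P, α, z, hP, hα, rfl⟩ := hy
    refine ⟨S.mul_mem (S.inv_mem (hP z.2)) (hP (((α : MulAut ↥P) z).2)), ?_⟩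
    have : Finite P := Fusion.finite_of_le hP
    have : Finite (F.autGroup P) := Fusion92.finite_autGroup F P
    revert z
    refine Fusion92.pResidual_induction (p := p)
      (fun a : ↥(F.autGroup P) => ∀ z : ↥P,
        c ⟨(z : Ω)⁻¹ * (((a : MulAut ↥P) z : ↥P) : Ω),
          S.mul_mem (S.inv_mem (hP z.2)) (hP (((a : MulAut ↥P) z).2))⟩ ∈ O ⊔ Cfsg.Inn ↥T) ?_ ?_ ?_ hα
    · intro z
      convert one_mem (O ⊔ Cfsg.Inn ↥T) using 1
      rw [← map_one c]
      exact congrArg c (Subtype.ext (inv_mul_cancel _))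
    · intro a ha z
      rw [← Subgroup.orderOf_coe] at ha
      obtain ⟨β, hβ, hβc, hm⟩ := Fusion92.exists_aut_mod hS hF hT hP a.2 ha
      have hM : P ⊔ T ≤ S := sup_le hP hT.1
      have : Finite ↥(P ⊔ T) := Fusion.finite_of_le hM
      have hβi := (Fusion.mem_autGroup hM).mp hβ
      have hTM : ∀ t ∈ T, t ∈ P ⊔ T := fun t ht => (le_sup_right (a := P)) ht
      have himg : Fusion.IsIso F T T (Fusion.autFun β) := ⟨hβi.1.mono hTM, Set.ext fun w =>
        ⟨fun ⟨u, hu, he⟩ => he ▸ Fusion92.closed_apply hT hβi.1 (hTM u hu) hu,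
          fun hw => Fusion.surjOn_of_card_le hT.1 (hβi.1.injOn.mono hTM)
            (fun u hu => Fusion92.closed_apply hT hβi.1 (hTM u hu) hu) le_rfl w hw⟩⟩
      obtain ⟨b, hb, hbe⟩ := himg.exists_aut
      have hbv : ∀ t : ↥T, ((b t : ↥T) : Ω) = ((β ⟨t, hTM t t.2⟩ : ↥(P ⊔ T)) : Ω) := fun t => by
        rw [← Fusion.autFun_coe b, hbe t.2, ← Fusion.autFun_coe β]
      have hbO : b ∈ O := by
        refine ⟨⟨b, hb⟩, Thompson.mem_pResidual_of_coprime (hβc.coprime_dvd_left ?_), rfl⟩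
        rw [← Subgroup.orderOf_coe]
        apply orderOf_dvd_of_pow_eq_one
        have key : ∀ (k : ℕ) (t : ↥T),
            (((b ^ k) t : ↥T) : Ω) = (((β ^ k) ⟨t, hTM t t.2⟩ : ↥(P ⊔ T)) : Ω) := by
          intro k
          induction k with
          | zero => intro t; rfl
          | succ k ih =>
            intro t
            rw [pow_succ', pow_succ', MulAut.mul_apply, MulAut.mul_apply, hbv]
            exact congrArg (fun w => ((β w : ↥(P ⊔ T)) : Ω)) (Subtype.ext (ih t))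
        refine MulEquiv.ext fun t => Subtype.ext ?_
        rw [show (⟨b, hb⟩ : ↥(F.autGroup T)).1 = b from rfl, key, pow_orderOf_eq_one]
        rfl
      -- the element `z` and its image under `β`
      set z' : ↥(P ⊔ T) := ⟨z, le_sup_left (b := T) z.2⟩
      have hzS : ((β z' : ↥(P ⊔ T)) : Ω) ∈ S := hM (β z').2
      have hcb : c ⟨_, hzS⟩ = b * c ⟨z, hP z.2⟩ * b⁻¹ := by
        refine MulEquiv.ext fun t => ?_
        obtain ⟨u, rfl⟩ := b.surjective t
        rw [MulAut.mul_apply, MulAut.mul_apply, MulAut.inv_apply_self]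
        apply Subtype.ext
        show ((β z' : ↥(P ⊔ T)) : Ω) * (b u : Ω) * ((β z' : ↥(P ⊔ T)) : Ω)⁻¹ = _
        rw [hbv, hbv, ← Subgroup.coe_mul, ← Subgroup.coe_inv, ← Subgroup.coe_mul, ← map_inv,
          ← map_mul, ← map_mul]
        rfl
      have h1 : c ⟨_, hzS⟩ * (c ⟨z, hP z.2⟩)⁻¹ ∈ O := by
        rw [hcb, show b * c ⟨z, hP z.2⟩ * b⁻¹ * (c ⟨z, hP z.2⟩)⁻¹ =
          b * (c ⟨z, hP z.2⟩ * b⁻¹ * (c ⟨z, hP z.2⟩)⁻¹) by group]
        exact mul_mem hbO (hconjO _ (hcA _) _ (inv_mem hbO))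
      have h2 : (c ⟨z, hP z.2⟩)⁻¹ * c ⟨_, hzS⟩ ∈ O := by
        have := hconjO _ (inv_mem (hcA ⟨z, hP z.2⟩)) _ h1
        rwa [inv_inv, mul_assoc, mul_assoc, inv_mul_cancel, mul_one] at this
      have h3 := hm z z.2
      have h4 : (⟨(z : Ω)⁻¹ * (((a : MulAut ↥P) z : ↥P) : Ω),
          S.mul_mem (S.inv_mem (hP z.2)) (hP (((a : MulAut ↥P) z).2))⟩ : ↥S) =
          (⟨z, hP z.2⟩⁻¹ * ⟨_, hzS⟩) * ⟨_, hT.1 (T.inv_mem h3)⟩ := by
        apply Subtype.ext
        show _ = ((z : Ω)⁻¹ * ((β z' : ↥(P ⊔ T)) : Ω)) * _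
        simp only [Subtype.coe_eta, z']
        group
      rw [h4, map_mul, map_mul, map_inv]
      exact mul_mem ((le_sup_left (b := Cfsg.Inn ↥T)) h2)
        ((le_sup_right (a := O)) (hInn _ (T.inv_mem h3)))
    · intro a b ha hb z
      have h1 := hb z
      have h2 := ha ((b : MulAut ↥P) z)
      convert mul_mem h1 h2 using 1
      rw [← map_mul]
      refine congrArg c (Subtype.ext ?_)
      show (z : Ω)⁻¹ * _ = ((z : Ω)⁻¹ * _) * (_⁻¹ * _)
      rw [mul_assoc, mul_inv_cancel_left]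
      rfl

end Cfsg.Agent.S5198
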