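import Cfsg.Statements.S5200
import Cfsg.Agent.Fus93.FixCentre.Main

set_option autoImplicit false
open Cfsg

namespace Cfsg.Agent.S5200

/-- Let F be a saturated fusion system over a finite p-group S and E a normal subsystem of F over T whose centralizer in S lies in T: every subgroup Y of C_S(T) such that E is contained in the centralizer fusion system of Y in F satisfies Y ≤ T. Then T·C_S(T)/T is abelian (the commutator subgroup of T·C_S(T) lies in T), and if p is odd then C_S(T) ≤ T. -/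
theorem result {Ω : Type*} [Group Ω] {S : Subgroup Ω} [Finite S] (p : ℕ) [Fact p.Prime] (hS : IsPGroup p S) (F : Cfsg.FusionSystem S) (hF : F.IsSaturated p) {T : Subgroup Ω} (E : Cfsg.FusionSystem T) (hE : E.IsNormalIn F p) (hCE : ∀ Y : Subgroup Ω, Y ≤ Cfsg.FusionSystem.centralizerIn S T → (∀ C : Cfsg.FusionSystem (Cfsg.FusionSystem.centralizerIn S Y), F.IsCentralizerSystem Y C → E.IsSubsystemOf C) → Y ≤ T) : ⁅T ⊔ Cfsg.FusionSystem.centralizerIn S T, T ⊔ Cfsg.FusionSystem.centralizerIn S T⁆ ≤ T ∧ (p ≠ 2 → Cfsg.FusionSystem.centralizerIn S T ≤ T) := by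
  have h : Fusion.NormalLift.NData F E p := ⟨hS, hF, hE⟩
  have hcT : Fusion.NormalLift.cE F E ≤ Cfsg.FusionSystem.centralizerIn S T := Fusion.NormalLift.cE_le
  have hcE : Fusion.NormalLift.cE F E ≤ T := hCE _ hcT fun C hC P φ hφ => by
    have hm := Fusion.isMap_extFun hφ
    rw [hC P]
    refine (Fusion.mem_centralizerHom fun x => (Fusion.extFun_coe φ x).symm).mpr
      ⟨hm.of_isSubsystemOf h.sub, fun x hx => ⟨h.tS (hm.dom_le hx), ?_⟩,
        fun x hx => ⟨h.tS (hm.apply_mem hx), ?_⟩, h.extends_all P _ hm⟩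
    · exact Subgroup.mem_centralizer_iff.mpr fun c hc =>
        (Subgroup.mem_centralizer_iff.mp (hcT hc).2 x (hm.dom_le hx)).symm
    · exact Subgroup.mem_centralizer_iff.mpr fun c hc =>
        (Subgroup.mem_centralizer_iff.mp (hcT hc).2 _ (hm.apply_mem hx)).symm
  refine ⟨?_, fun hp => Fus93.FixCentre.centralizer_le h hp hcE⟩
  have hD0 : Subgroup.closure (Fus93.NormalFocal.focGen F T) ≤ T := fun u hu => hcE
    (Subgroup.subset_closure ⟨(Subgroup.closure_le _).mpr (fun v hv => Fus93.NormalFocal.focGen_subset h.tS hv) hu,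
      fun P f hf => Fusion.NormalLift.extendsFix_mono (Fus93.NormalFocal.extends_all h P f hf) le_rfl
        (Subgroup.zpowers_le.mpr hu)⟩)
  have hcc : ∀ c ∈ Cfsg.FusionSystem.centralizerIn S T, ∀ d ∈ Cfsg.FusionSystem.centralizerIn S T,
      c * d * c⁻¹ * d⁻¹ ∈ T := by
    intro c hc d hd
    have h1 : (d⁻¹)⁻¹ * (c * d⁻¹ * c⁻¹) ∈ T := hD0 (Subgroup.subset_closure ⟨d⁻¹, inv_mem hd,
      fun x => c * x * c⁻¹, Fusion.isMap_conj
        (sup_le (Subgroup.zpowers_le.mpr (S.inv_mem hd.1)) h.tS) hc.1, fun t ht => by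
          show c * t * c⁻¹ = t
          rw [← Subgroup.mem_centralizer_iff.mp hc.2 t ht]; group, rfl⟩)
    have h2 := T.inv_mem h1
    rw [show c * d * c⁻¹ * d⁻¹ = ((d⁻¹)⁻¹ * (c * d⁻¹ * c⁻¹))⁻¹ by group]
    exact h2
  have hCN : Cfsg.FusionSystem.centralizerIn S T ≤ Subgroup.normalizer (T : Set Ω) :=
    inf_le_left.trans h.s_le
  have hdec : ∀ g ∈ T ⊔ Cfsg.FusionSystem.centralizerIn S T,
      ∃ t ∈ T, ∃ c ∈ Cfsg.FusionSystem.centralizerIn S T, t * c = g := by
    intro g hg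
    rw [← SetLike.mem_coe, Subgroup.coe_mul_of_right_le_normalizer_left _ _ hCN] at hg
    exact hg
  rw [Subgroup.commutator_le]
  intro g hg g' hg'
  obtain ⟨t, ht, c, hc, rfl⟩ := hdec g hg
  obtain ⟨u, hu, d, hd, rfl⟩ := hdec g' hg'
  rw [commutatorElement_def, show t * c * (u * d) * (t * c)⁻¹ * (u * d)⁻¹ =
    t * (c * u * c⁻¹) * (c * d * c⁻¹ * d⁻¹) * (d * t⁻¹ * d⁻¹) * u⁻¹ by group]
  exact T.mul_mem (T.mul_mem (T.mul_mem (T.mul_mem ht (h.conj_t hc.1 hu)) (hcc c hc d hd))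
    (h.conj_t hd.1 (T.inv_mem ht))) (T.inv_mem hu)

end Cfsg.Agent.S5200
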