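import Cfsg.Statements.S5201
import Cfsg.Agent.Fusion92.TClass.Base

set_option autoImplicit false
open Cfsg

namespace Cfsg.Agent.S5201

/-- A reduction to normal subsystems. Let F be a saturated fusion system over a finite p-group S and E a normal subsystem of F over T whose centralizer in S lies in T (every subgroup Y of C_S(T) with E contained in the centralizer fusion system of Y in F satisfies Y ≤ T), and suppose Aut_F(T)/Aut_E(T) is p-solvable. Then F and E have the same residual limit: if F∞ is the residual limit of F (reached by alternately passing to the p-residual and the p'-residual subsystem until nothing changes) and E∞ that of E, then F∞ and E∞ have the same maps. -/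
theorem result {Ω : Type*} [Group Ω] {S : Subgroup Ω} [Finite S] (p : ℕ) [Fact p.Prime] (hS : IsPGroup p S) (F : Cfsg.FusionSystem S) (hF : F.IsSaturated p) {T : Subgroup Ω} (E : Cfsg.FusionSystem T) (hE : E.IsNormalIn F p) (hCE : ∀ Y : Subgroup Ω, Y ≤ Cfsg.FusionSystem.centralizerIn S T → (∀ C : Cfsg.FusionSystem (Cfsg.FusionSystem.centralizerIn S Y), F.IsCentralizerSystem Y C → E.IsSubsystemOf C) → Y ≤ T) [hn : ((E.autGroup T).subgroupOf (F.autGroup T)).Normal] (hsolv : Cfsg.IsPSolvable p (↥(F.autGroup T) ⧸ (E.autGroup T).subgroupOf (F.autGroup T))) {U V : Subgroup Ω} (Finf : Cfsg.FusionSystem U) (hFinf : Finf.IsResidualLimitOf F p) (Einf : Cfsg.FusionSystem V) (hEinf : Einf.IsResidualLimitOf E p) : ∀ P : Subgroup Ω, Finf.Hom P = Einf.Hom P := by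
  have h0 : Cfsg.Agent.Fusion.NormalLift.NData F E p := ⟨hS, hF, hE⟩
  haveI := h0.finiteT
  obtain ⟨F₀, hl, he⟩ := Fusion92.TClass.exists_chain h0 hsolv
  haveI := hl.outer.finiteT
  have hUS := hl.outer.tS
  have hU : IsPGroup p (T ⊔ Cfsg.FusionSystem.centralizerIn S T : Subgroup Ω) := hS.to_le hUS
  have hc : Cfsg.FusionSystem.centralizerIn (T ⊔ Cfsg.FusionSystem.centralizerIn S T) T =
      Cfsg.FusionSystem.centralizerIn S T :=
    le_antisymm (inf_le_inf_right _ hUS) (le_inf le_sup_right inf_le_right)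
  have hidx : E.HasPPowerIndexIn F₀ p := by
    refine Fusion92.TClass.pPowerIndex_of_base hl.inner (by rw [hc]) he fun u hu => ?_
    have hu₀ := Fus93.NormalFocal.focGen_subset hl.inner.tS hu
    refine Fusion92.TClass.good_mem h0.tS hCE h0.sub ⟨hc ▸ hu₀, fun P f hf => ?_⟩
    obtain ⟨f', h1, h2, h3⟩ := Cfsg.Agent.Fusion.NormalLift.extendsFix_mono
      (Fus93.NormalFocal.extends_all hl.inner P f hf) le_rfl
      ((Subgroup.zpowers_le).mpr (Subgroup.subset_closure hu))
    exact ⟨f', h1.of_isSubsystemOf hl.outer.sub, h2, h3⟩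
  obtain ⟨W, L₀, hL₀⟩ := Fusion92.TClass.exists_limit _ _ F₀ inferInstance le_rfl hU hl.inner.sat
  intro P
  exact (hl.limits Finf L₀ hFinf hL₀ P).trans
    (S5203.result p hU F₀ hl.inner.sat E hl.inner.normal hidx L₀ hL₀ Einf hEinf P)

end Cfsg.Agent.S5201
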