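import Cfsg.Statements.S5203
import Cfsg.Agent.Fusion91.PPower
import Cfsg.Agent.Lib.Fusion.Normal
import Cfsg.Prelude.Def_FusionReduction

set_option autoImplicit false
open Cfsg

namespace Cfsg.Agent.S5203

open Cfsg.Agent.Fusion

universe u

variable {Ω : Type u} [Group Ω] {S : Subgroup Ω} {F : Cfsg.FusionSystem S} {p : ℕ} [Fact p.Prime]

/-- Transfer along equality of the groups and of the maps. -/
theorem transfer {H₁ H₂ : Subgroup Ω} {A : Cfsg.FusionSystem H₁} {B : Cfsg.FusionSystem H₂}
    (h : H₁ = H₂) (he : ∀ P, A.Hom P = B.Hom P) (C : ∀ H : Subgroup Ω, Cfsg.FusionSystem H → Prop)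
    (hA : C H₁ A) : C H₂ B := by
  subst h
  exact fusion_ext he ▸ hA

theorem pPower_self [Finite S] : F.HasPPowerIndexIn F p :=
  ⟨fun _ => le_rfl, hyperfocal_le, fun _ _ => Subgroup.map_subtype_le _⟩

/-- Subsystems of `p`-power index over equal subgroups agree. -/
theorem eq_of_pPower [Finite S] (hS : IsPGroup p S) {H₁ H₂ : Subgroup Ω} (h : H₁ = H₂)
    {A : Cfsg.FusionSystem H₁} {B : Cfsg.FusionSystem H₂} (hA : A.IsSaturated p) (hB : B.IsSaturated p)
    (hAi : A.HasPPowerIndexIn F p) (hBi : B.HasPPowerIndexIn F p) (hle : H₁ ≤ S) :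
    ∀ P, A.Hom P = B.Hom P := by
  subst h
  haveI : Finite H₁ := finite_of_le hle
  exact Fusion91.hom_eq_of_pPower (hS.to_le hle) hA hB hAi hBi

theorem least_unique {A B C : Cfsg.FusionSystem S} (hA : C.IsPPrimeResidual p A)
    (hB : C.IsPPrimeResidual p B) : A = B :=
  fusion_antisymm (hA.2.2 B hB.1 hB.2.1) (hB.2.2 A hA.1 hA.2.1)

/-- The step from a stable system stays there. -/
theorem step_stable [Finite S] (hS : IsPGroup p S) (hF : F.IsSaturated p)
    (h : F.hyperfocalSubgroup p = S) (hst : F.IsPPrimeResidual p F)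
    {D D' : Cfsg.FusionSystem (F.hyperfocalSubgroup p)} (hD : F.IsPResidual p D)
    (hD' : D.IsPPrimeResidual p D') : ∀ P, F.Hom P = D'.Hom P := by
  have heq : ∀ P, F.Hom P = D.Hom P := eq_of_pPower hS h.symm hF hD.1 pPower_self hD.2 le_rfl
  have hDD : D.IsPPrimeResidual p D :=
    transfer h.symm heq (fun _ X => X.IsPPrimeResidual p X) hst
  rw [least_unique hD' hDD]
  exact heq

omit [Fact p.Prime] in
theorem limit_of_stable {T : Subgroup Ω} {L : Cfsg.FusionSystem T} (hlim : L.IsResidualLimitOf F p) :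
    ∀ [Fact p.Prime] [Finite S], IsPGroup p S → F.IsSaturated p → F.hyperfocalSubgroup p = S →
      F.IsPPrimeResidual p F → ∀ P, L.Hom P = F.Hom P := by
  induction hlim with
  | stable F p h h' => intros; rfl
  | @step S E F p D D' hD hD' _ ih =>
    intro _ _ hS hF h hst P
    haveI : Finite (F.hyperfocalSubgroup p) := finite_of_le hyperfocal_le
    have he := step_stable hS hF h hst hD hD'
    obtain ⟨h1, h2⟩ : D'.hyperfocalSubgroup p = F.hyperfocalSubgroup p ∧ D'.IsPPrimeResidual p D' :=
      transfer h.symm he (fun H X => X.hyperfocalSubgroup p = H ∧ X.IsPPrimeResidual p X) ⟨h, hst⟩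
    rw [ih (hS.to_le hyperfocal_le) hD'.1 h1 h2 P, ← he]

omit [Fact p.Prime] in
/-- Residual limits are unique. -/
theorem limit_unique {T : Subgroup Ω} {L : Cfsg.FusionSystem T} (hlim : L.IsResidualLimitOf F p) :
    ∀ [Fact p.Prime] [Finite S], IsPGroup p S → F.IsSaturated p → ∀ {T' : Subgroup Ω} (L' : Cfsg.FusionSystem T'),
      L'.IsResidualLimitOf F p → ∀ P, L.Hom P = L'.Hom P := by
  induction hlim with
  | stable F p h h' =>
    intro _ _ hS hF T' L' hL' P
    exact (limit_of_stable hL' hS hF h h' P).symm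
  | @step S E F p D D' hD hD' _ ih =>
    intro _ _ hS hF T' L' hL'
    haveI : Finite (F.hyperfocalSubgroup p) := finite_of_le hyperfocal_le
    refine ih (hS.to_le hyperfocal_le) hD'.1 L' ?_
    cases hL' with
    | stable _ _ h h' =>
      exact transfer h.symm (step_stable hS hF h h' hD hD') (fun _ X => F.IsResidualLimitOf X p)
        (.stable F p h h')
    | step _ _ D₂ D₂' hD₂ hD₂' hrest =>
      have hDD : D = D₂ := fusion_ext (eq_of_pPower hS rfl hD.1 hD₂.1 hD.2 hD₂.2 hyperfocal_le)
      rwa [least_unique hD' (hDD ▸ hD₂')]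

/-- A normal subsystem of `p`-power index has the same hyperfocal subgroup. -/
theorem hyperfocal_eq [Finite S] (hS : IsPGroup p S) {T : Subgroup Ω} {E : Cfsg.FusionSystem T}
    (hT : F.StronglyClosed T) (hidx : E.HasPPowerIndexIn F p) :
    E.hyperfocalSubgroup p = F.hyperfocalSubgroup p := by
  refine le_antisymm ((Subgroup.closure_le _).mpr ?_) ((Subgroup.closure_le _).mpr ?_)
  · rintro _ ⟨P, α, x, hP, hα, rfl⟩
    have hle : E.autGroup P ≤ F.autGroup P := autGroup_mono (hidx.1 P)
    refine Subgroup.subset_closure ⟨P, Subgroup.inclusion hle α, x, hP.trans hT.1,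
      Transfer.map_pResidual_le (Subgroup.inclusion hle) ⟨α, hα, rfl⟩, rfl⟩
  rintro _ ⟨P, α, x, hP, hα, rfl⟩
  haveI : Finite P := finite_of_le hP
  haveI := finite_mulAut P
  suffices key : ∀ x : P, ((x⁻¹ * (α : MulAut P) x : P) : Ω) ∈ E.hyperfocalSubgroup p from key x
  revert x
  induction hα using Subgroup.closure_induction with
  | one => intro _ x; simp
  | mul a b _ _ iha ihb =>
    intro h x
    have := Subgroup.mul_mem _ (ihb 1 x) (iha 1 ((b : MulAut P) x))
    simpa [mul_assoc] using this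
  | inv a _ iha =>
    intro h x
    have := Subgroup.inv_mem _ (iha 1 ((a : MulAut P).symm x))
    simpa using this
  | mem α hα =>
    intro _ x
    have hαp : (orderOf α).Coprime p := hα
    -- `α` acts on `N = P ∩ T` as an element of `O^p(Aut_E(N))`
    set a : MulAut P := (α : MulAut P) with hadef
    have hiso := (mem_autGroup hP).mp α.2
    have haT : ∀ n : P, (n : Ω) ∈ T → ((a n : P) : Ω) ∈ T := fun n hn => by
      have := Fusion92.closed_apply hT hiso.1 n.2 hn
      rwa [autFun_coe] at this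
    have hN : IsIso F (T ⊓ P) (T ⊓ P) (autFun a) :=
      ⟨hiso.1.mono inf_le_right, closed_autFun_image hT hP α.2⟩
    obtain ⟨β, hβ, hβe⟩ := hN.exists_aut
    have hNfin : Finite ↥(T ⊓ P) := finite_of_le (inf_le_right.trans hP)
    haveI := finite_mulAut ↥(T ⊓ P)
    have hβpow : ∀ (k : ℕ) (n : ↥(T ⊓ P)),
        (((β ^ k) n : ↥(T ⊓ P)) : Ω) = (((a ^ k) ⟨n, n.2.2⟩ : P) : Ω) := by
      intro k
      induction k with
      | zero => intro n; simp
      | succ k ih =>
        intro n
        rw [pow_succ', pow_succ', MulAut.mul_apply, MulAut.mul_apply, ← autFun_coe β,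
          hβe (SetLike.coe_mem _), ih, autFun_coe]
    have hβord : (orderOf β).Coprime p := by
      refine hαp.coprime_dvd_left (orderOf_dvd_of_pow_eq_one ?_)
      ext n
      rw [hβpow, ← Subgroup.orderOf_coe α, ← hadef, pow_orderOf_eq_one]
      rfl
    have hβE : β ∈ E.autGroup (T ⊓ P) := hidx.2.2 _ inf_le_left
      ⟨⟨β, hβ⟩, Subgroup.subset_closure (show (orderOf (⟨β, hβ⟩ : F.autGroup _)).Coprime p by
        rwa [Subgroup.orderOf_mk]), rfl⟩
    let M : Subgroup P := Subgroup.closure {z | ∃ n : P, (n : Ω) ∈ T ∧ z = n⁻¹ * a n}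
    have hMH : ∀ z ∈ M, (z : Ω) ∈ E.hyperfocalSubgroup p := by
      intro z hz
      have hle : M ≤ (E.hyperfocalSubgroup p).comap P.subtype := by
        refine (Subgroup.closure_le _).mpr ?_
        rintro _ ⟨n, hn, rfl⟩
        have h1 := hyperfocal_gen_mem (P := T ⊓ P) inf_le_left ⟨β, hβE⟩
          (Subgroup.subset_closure (show (orderOf (⟨β, hβE⟩ : E.autGroup _)).Coprime p by
            rwa [Subgroup.orderOf_mk])) (show (n : Ω) ∈ T ⊓ P from ⟨hn, n.2⟩)
        rw [show autFun ((⟨β, hβE⟩ : E.autGroup (T ⊓ P)) : MulAut ↥(T ⊓ P)) (n : Ω) = _ from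
          hβe (show (n : Ω) ∈ T ⊓ P from ⟨hn, n.2⟩), autFun_coe] at h1
        exact h1
      exact hle hz
    have hMa : ∀ z ∈ M, a z ∈ M := by
      intro z hz
      induction hz using Subgroup.closure_induction with
      | mem z hz =>
        obtain ⟨n, hn, rfl⟩ := hz
        exact Subgroup.subset_closure ⟨a n, haT n hn, by rw [map_mul, map_inv]⟩
      | one => rw [map_one]; exact M.one_mem
      | mul _ _ _ _ h1 h2 => rw [map_mul]; exact M.mul_mem h1 h2
      | inv _ _ h1 => rw [map_inv]; exact M.inv_mem h1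
    have hMn : ∀ y : P, (y : Ω) ∈ T → ∀ z ∈ M, y⁻¹ * z * y ∈ M := by
      intro y hy z hz
      induction hz using Subgroup.closure_induction with
      | mem z hz =>
        obtain ⟨n, hn, rfl⟩ := hz
        rw [show y⁻¹ * (n⁻¹ * a n) * y = ((n * y)⁻¹ * a (n * y)) * (y⁻¹ * a y)⁻¹ by
          rw [map_mul]; group]
        exact M.mul_mem (Subgroup.subset_closure ⟨n * y, T.mul_mem hn hy, rfl⟩)
          (M.inv_mem (Subgroup.subset_closure ⟨y, hy, rfl⟩))
      | one => simpa using M.one_mem
      | mul u v _ _ h1 h2 => have := M.mul_mem h1 h2; simpa [mul_assoc] using this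
      | inv u _ h1 => have := M.inv_mem h1; simpa [mul_assoc] using this
    set c := x⁻¹ * a x with hcdef
    have hcT : (c : Ω) ∈ T := by
      have := hidx.2.1 (hyperfocal_gen_mem hP α (Subgroup.subset_closure hαp) x.2)
      rwa [autFun_coe] at this
    have hpow : ∀ i : ℕ, ∃ m ∈ M, (a ^ i) x = x * c ^ i * m := by
      obtain ⟨d, hd, hde⟩ : ∃ d ∈ M, a c = c * d :=
        ⟨c⁻¹ * a c, Subgroup.subset_closure ⟨c, hcT, rfl⟩, (mul_inv_cancel_left _ _).symm⟩
      have hcd : ∀ i : ℕ, ∃ e ∈ M, (c * d) ^ i = c ^ i * e := by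
        intro i
        induction i with
        | zero => exact ⟨1, M.one_mem, by simp⟩
        | succ i ih =>
          obtain ⟨e, he, hee⟩ := ih
          refine ⟨c⁻¹ * e * c * d, M.mul_mem (hMn c hcT e he) hd, ?_⟩
          rw [pow_succ, hee, pow_succ]
          group
      intro i
      induction i with
      | zero => exact ⟨1, M.one_mem, by simp⟩
      | succ i ih =>
        obtain ⟨m, hm, hme⟩ := ih
        obtain ⟨e, he, hee⟩ := hcd i
        refine ⟨e * a m, M.mul_mem he (hMa m hm), ?_⟩
        rw [pow_succ', MulAut.mul_apply, hme, map_mul, map_mul, map_pow, hde, hee,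
          show a x = x * c by simp [hcdef], pow_succ']
        group
    obtain ⟨m, hm, hme⟩ := hpow (orderOf α)
    rw [hadef, ← Subgroup.coe_pow, pow_orderOf_eq_one, Subgroup.coe_one, MulAut.one_apply, mul_assoc,
      left_eq_mul] at hme
    have hcM : c ^ orderOf α ∈ M := eq_inv_of_mul_eq_one_left hme ▸ M.inv_mem hm
    obtain ⟨k, hk⟩ := hS.to_le hP c
    obtain ⟨j, hj⟩ := exists_pow_eq_self_of_coprime (x := c) (n := orderOf α)
      (hαp.pow_right k |>.coprime_dvd_right (orderOf_dvd_of_pow_eq_one hk))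
    exact hMH c (hj ▸ M.pow_mem hcM j)

/-- Let F be a saturated fusion system over a finite p-group S and E a normal subsystem of F over T that has p-power index in F. Then every residual limit of E has the same maps as every residual limit of F (the residual limit is reached by alternately passing to the p-residual and the p'-residual subsystem until nothing changes). -/
theorem result {Ω : Type*} [Group Ω] {S : Subgroup Ω} [Finite S] (p : ℕ) [Fact p.Prime] (hS : IsPGroup p S) (F : Cfsg.FusionSystem S) (hF : F.IsSaturated p) {T : Subgroup Ω} (E : Cfsg.FusionSystem T) (hE : E.IsNormalIn F p) (hidx : E.HasPPowerIndexIn F p) {U V : Subgroup Ω} (Finf : Cfsg.FusionSystem U) (hFinf : Finf.IsResidualLimitOf F p) (Einf : Cfsg.FusionSystem V) (hEinf : Einf.IsResidualLimitOf E p) : ∀ P : Subgroup Ω, Finf.Hom P = Einf.Hom P := by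
  have hTc : F.StronglyClosed T := hE.1.2.2.2.1
  haveI : Finite T := finite_of_le hTc.1
  have hTp := hS.to_le hTc.1
  have hEs : E.IsSaturated p := hE.1.1
  have hh := hyperfocal_eq hS hTc hidx
  cases hFinf with
  | stable _ _ h h' =>
    have hUT : S = T := le_antisymm (h ▸ hidx.2.1) hTc.1
    have he : ∀ P, F.Hom P = E.Hom P := eq_of_pPower hS hUT hF hEs pPower_self hidx le_rfl
    obtain ⟨h1, h2⟩ : E.hyperfocalSubgroup p = T ∧ E.IsPPrimeResidual p E :=
      transfer hUT he (fun H X => X.hyperfocalSubgroup p = H ∧ X.IsPPrimeResidual p X) ⟨h, h'⟩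
    intro P
    rw [limit_of_stable hEinf hTp hEs h1 h2 P, he]
  | step _ _ D D' hD hD' hrest =>
    haveI : Finite (F.hyperfocalSubgroup p) := finite_of_le hyperfocal_le
    have hUH := hS.to_le (hyperfocal_le (F := F) (p := p))
    cases hEinf with
    | stable _ _ h h' =>
      have hHV : F.hyperfocalSubgroup p = T := hh.symm.trans h
      have he : ∀ P, D.Hom P = E.Hom P := eq_of_pPower hS hHV hD.1 hEs hD.2 hidx hyperfocal_le
      have hDD : D.IsPPrimeResidual p D :=
        transfer hHV.symm (fun P => (he P).symm) (fun _ X => X.IsPPrimeResidual p X) h'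
      have h2 : Finf.IsResidualLimitOf E p :=
        transfer hHV he (fun _ X => Finf.IsResidualLimitOf X p) (least_unique hD' hDD ▸ hrest)
      exact limit_unique h2 hTp hEs E (.stable E p h h')
    | step _ _ D₂ D₂' hD₂ hD₂' hrest₂ =>
      have hi : D₂.HasPPowerIndexIn F p := by
        refine ⟨fun P => (hD₂.2.1 P).trans (hidx.1 P), hh.ge, fun P hP => ?_⟩
        rintro _ ⟨α, hα, rfl⟩
        haveI : Finite P := finite_of_le (hP.trans (hyperfocal_le.trans hTc.1))
        have hPT : P ≤ T := hP.trans hyperfocal_le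
        induction hα using Subgroup.closure_induction with
        | mem α hα =>
          have hαE : (α : MulAut P) ∈ E.autGroup P :=
            hidx.2.2 P hPT ⟨α, Subgroup.subset_closure hα, rfl⟩
          exact hD₂.2.2.2 P hP ⟨⟨α, hαE⟩, Subgroup.subset_closure
            (show (orderOf (⟨(α : MulAut P), hαE⟩ : E.autGroup P)).Coprime p by
              rw [Subgroup.orderOf_mk, Subgroup.orderOf_coe]; exact hα), rfl⟩
        | one => exact Subgroup.one_mem _
        | mul _ _ _ _ h1 h2 => exact Subgroup.mul_mem _ h1 h2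
        | inv _ _ h1 => exact Subgroup.inv_mem _ h1
      have he : ∀ P, D₂.Hom P = D.Hom P :=
        eq_of_pPower hS hh hD₂.1 hD.1 hi hD.2 (hyperfocal_le.trans hTc.1)
      obtain ⟨hE₂, hD₂s⟩ : (∃ X : Cfsg.FusionSystem (F.hyperfocalSubgroup p),
          D.IsPPrimeResidual p X ∧ Einf.IsResidualLimitOf X p) ∧ D.IsSaturated p :=
        transfer hh he (fun H Y => (∃ X : Cfsg.FusionSystem H,
          Y.IsPPrimeResidual p X ∧ Einf.IsResidualLimitOf X p) ∧ Y.IsSaturated p)
          ⟨⟨D₂', hD₂', hrest₂⟩, hD₂.1⟩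
      obtain ⟨X, hX, hXl⟩ := hE₂
      exact limit_unique hrest hUH hD'.1 Einf (least_unique hX hD' ▸ hXl)

end Cfsg.Agent.S5203
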