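import Cfsg.Statements.S5204
import Cfsg.Agent.Fusion92.InnerControl
import Cfsg.Agent.Fusion92.CharP
import Cfsg.Agent.LocalEven61.ZJFunctor
import Cfsg.Agent.PLocalB.NormalPComplementZJ

set_option autoImplicit false
open Cfsg Cfsg.Agent

namespace Cfsg.Agent.S5204

/-- The Glauberman–Thompson normal p-complement criterion for fusion systems, p odd. Let F be a saturated fusion system over a finite p-group S with p odd, and let Z(J(S)) be the centre of the subgroup generated by the abelian subgroups of S of largest order. Then F is the inner fusion system of S if and only if the normalizer fusion system of Z(J(S)) in F is the inner fusion system of N_S(Z(J(S))) = S. -/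
theorem result {Ω : Type*} [Group Ω] {S : Subgroup Ω} [Finite S] (p : ℕ) [Fact p.Prime] (hS : IsPGroup p S) (F : Cfsg.FusionSystem S) (hF : F.IsSaturated p) (hp : p ≠ 2) : (∀ P : Subgroup Ω, F.Hom P = (Cfsg.innerFusionSystem S).Hom P) ↔ ∀ N : Cfsg.FusionSystem (Cfsg.FusionSystem.normalizerIn S (Cfsg.centerThompsonAOf S)), F.IsNormalizerSystem (Cfsg.centerThompsonAOf S) N → ∀ P : Subgroup Ω, N.Hom P = (Cfsg.innerFusionSystem (Cfsg.FusionSystem.normalizerIn S (Cfsg.centerThompsonAOf S))).Hom P := by
  have hW : Cfsg.Agent.Fusion92.IsInvariantW p (fun Q _ => LocalEven61.zjA Q) :=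
    fun Q R _ _ _ _ φ => LocalEven61.map_zjA φ
  have hV : Cfsg.centerThompsonAOf S ≤ S :=
    LocalEven61.map_subtype_zjA S ▸ Subgroup.map_subtype_le _
  have hSV : S ≤ Subgroup.normalizer (Cfsg.centerThompsonAOf S : Set Ω) :=
    LocalEven61.map_subtype_zjA S ▸ Fusion92.le_normalizer_map_W hW hS
  refine ⟨fun h N hN P => Fusion92.normalizerSystem_inner hSV h hN P, fun h => ?_⟩
  refine Fusion92.inner_of_normalizer hS (W := fun Q _ => LocalEven61.zjA Q)
    (fun Q _ _ hQ _ => LocalEven61.zjA_ne_bot hQ) hW (fun _ _ => True)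
    (fun _ _ _ _ _ => trivial) (fun _ _ _ _ _ _ => trivial) ?_ hF trivial ?_
  · intro T D hT hD _ Q₀ U L _ ι hl hn P hc hle
    have := hl.isLocal.fin
    refine Fusion92.isPGroup_of_complement (PLocalB.hasNormalPComplement_of_ZJ hp P ?_) hc
    rw [← LocalEven61.map_subtype_zjA]
    exact Fusion92.hasNormalPComplement_of_le_sylow hle
  · rw [LocalEven61.map_subtype_zjA]
    exact Fusion92.inner_of_normalizerSystem hV hSV h

end Cfsg.Agent.S5204
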