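import Cfsg.Statements.S5205
import Cfsg.Agent.Fusion92.SectionFree
import Cfsg.Agent.Fusion92.LocalQuotient

set_option autoImplicit false
universe u
open Cfsg

namespace Cfsg.Agent.S5205

open Cfsg.Agent.Fusion92 Cfsg.Agent.Fusion
open Cfsg.FusionSystem (normalizerIn)

/-- Glauberman's ZJ-Theorem for fusion systems, in functor form. Let p be an odd prime and W a Glauberman functor: W assigns to every finite p-group Q (in a fixed universe) a subgroup W(Q), nontrivial when Q is, carried to W(R) by every isomorphism Q ≅ R, and such that W(P) is normal in L whenever P is a Sylow p-subgroup of a finite group L with C_L(O_p(L)) = Z(O_p(L)) in which Qd(p) (the natural semidirect product of an elementary abelian group of order p² by SL₂(p)) is not involved. Let F be a saturated fusion system over a finite p-group S that is Qd(p)-free: Qd(p) is not involved in any model of the normalizer system of a fully normalized F-centric subgroup. Then F equals the normalizer fusion system of W(S) in F. -/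
theorem result {p : ℕ} [Fact p.Prime] (hp : p ≠ 2) (W : ∀ (Q : Type u) [Group Q], Subgroup Q) (hW1 : ∀ (Q : Type u) [Group Q] [Finite Q], IsPGroup p Q → Nontrivial Q → W Q ≠ ⊥) (hW2 : ∀ (Q R : Type u) [Group Q] [Group R] [Finite Q], IsPGroup p Q → ∀ φ : Q ≃* R, (W Q).map φ.toMonoidHom = W R) (hW3 : ∀ (L : Type u) [Group L] [Finite L] (P : Sylow p L), Subgroup.centralizer ((Cfsg.pCore p L : Subgroup L) : Set L) = Cfsg.pCore p L ⊓ Subgroup.centralizer ((Cfsg.pCore p L : Subgroup L) : Set L) → ¬ Cfsg.Involves ↥(Cfsg.qd p) L → (((W ↥(P : Subgroup L)).map (P : Subgroup L).subtype : Subgroup L)).Normal) {Ω : Type u} [Group Ω] {S : Subgroup Ω} [Finite S] (hS : IsPGroup p S) (F : Cfsg.FusionSystem S) (hF : F.IsSaturated p) (hfree : F.IsSectionFree p ↥(Cfsg.qd p)) (N : Cfsg.FusionSystem (Cfsg.FusionSystem.normalizerIn S ((W ↥S).map S.subtype))) (hN : F.IsNormalizerSystem ((W ↥S).map S.subtype) N) : ∀ P : Subgroup Ω, N.Hom P = F.Hom P := by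
  have hinv : IsInvariantW p W := fun Q R _ _ _ hQ φ => hW2 Q R hQ φ
  let V := (W ↥S).map S.subtype
  have hVS : V ≤ S := Subgroup.map_subtype_le _
  have hVn : S ≤ Subgroup.normalizer (V : Set Ω) := fun s hs =>
    Subgroup.le_normalizer_map S.subtype ⟨⟨s, hs⟩, by
      rw [Subgroup.normalizer_eq_top_iff.mpr (normal_W hinv (↥S) hS)]; trivial, rfl⟩
  have hNS : normalizerIn S V = S := inf_eq_left.mpr hVn
  haveI : Finite (normalizerIn S V) := Fusion.finite_of_le (Fusion.normalizerIn_le S V)
  have hd : ControlData (S := normalizerIn S V) p N W fun T D =>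
      T ≤ S ∧ D.IsSaturated p ∧ D.IsSectionFree p ↥(Cfsg.qd p) := by
    have loc : ∀ {T : Subgroup Ω} {D : Cfsg.FusionSystem T}, T ≤ S →
        D.IsSectionFree p ↥(Cfsg.qd p) → ∀ (Q₀ U : Subgroup Ω) (L : Type u) [Group L]
        (ι : ↥(normalizerIn T U) →* L), LocalCond p D Q₀ ι → ∀ g : L,
        g ∈ Subgroup.normalizer ((secW W ι.range
          ((Q₀.subgroupOf (normalizerIn T U)).map ι) : Subgroup L) : Set L) := by
      intro T D hT hDf Q₀ U L _ ι h g
      haveI : Finite T := Fusion.finite_of_le hT
      have := h.isLocal.fin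
      haveI := h.normal
      have hTp := hS.to_le hT
      obtain ⟨P, hP, hPY⟩ := h.exists_sylow (W := W) hinv
      have hn := hW3 _ P (le_antisymm (le_inf (h.centralizer_le hTp) le_rfl) inf_le_right)
        fun hi => not_involves_of_isSectionFree hTp hDf h.fullyNormalized h.centric h.isLocal
          (LocalEven61.involves_of_quotient _ hi)
      rw [← hPY] at hn
      refine (h.mem_normalizer_secW_iff).mp ?_
      rw [Subgroup.normalizer_eq_top_iff.mpr hn]
      trivial
    exact
    { nontriv := hW1
      invariant := hinv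
      le := fun h => hNS.symm ▸ h.1
      saturated := fun h => h.2.1
      normalizer := fun h V' hV' => by
        haveI := Fusion.finite_of_le h.1
        exact ⟨(Fusion.normalizerIn_le _ V').trans h.1,
          normalizerSystem_isSaturated (hS.to_le h.1) h.2.1 hV',
          isSectionFree_normalizer (hS.to_le h.1) h.2.1 h.2.2 hV'⟩
      centralType := fun h Q hQ hn => by
        haveI := Fusion.finite_of_le h.1
        exact ⟨h.1, centralType_isSaturated (hS.to_le h.1) h.2.1 hQ,
          isSectionFree_centralType (hS.to_le h.1) h.2.1 h.2.2 hQ hn⟩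
      loc := fun {T D} h Q₀ U L _ ι hl hant g f hf hfU he =>
        hant g (loc h.1 h.2.2 Q₀ U L ι hl g) U hl.isLocal.shape.le le_rfl f hf hfU
          fun x hx hfx => he x _ hx hfx
      constrained := fun {T D} h Q₀ U L _ ι hl _ hant _ g =>
        hant g (loc h.1 h.2.2 Q₀ U L ι hl g) }
  have hall := hd.control (hS.to_le (Fusion.normalizerIn_le S V)) F ⊥ ⟨le_rfl, hF, hfree⟩
    (Fusion91.isNormal_bot F) ?_ fun P f hf hext => ?_
  · exact fun P => Set.Subset.antisymm
      (hom_subset_of_isMap fun f h => ((IsNormalizerSystem.isMap_iff hN).mp h).1)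
      (hom_subset_of_isMap (hall P))
  · haveI : Subsingleton (MulAut (⊥ : Subgroup Ω)) :=
      ⟨fun a b => MulEquiv.ext fun x => Subsingleton.elim _ _⟩
    exact fun a => ⟨0, Subsingleton.elim _ _⟩
  · rw [show secW W S ⊥ = V from secW_bot hinv S hS] at hext
    exact (IsNormalizerSystem.isMap_iff hN).mpr
      ⟨hf, hNS.symm ▸ hf.dom_le, fun x hx => hNS.symm ▸ hf.apply_mem hx, hext⟩

end Cfsg.Agent.S5205
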