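import Cfsg.Statements.S5206
import Cfsg.Agent.Fusion92.QdGroup
import Cfsg.Agent.Lib.Fusion.Subsystem

set_option autoImplicit false
universe u
open Cfsg

namespace Cfsg.Agent.S5206

/-- Let p be an odd prime, G a finite group and P a Sylow p-subgroup of G. Then the fusion system of G on P is Qd(p)-free (Qd(p), the natural semidirect product of an elementary abelian group of order p² by SL₂(p), is not involved in any model of the normalizer system of a fully normalized centric subgroup) if and only if Qd(p) is not involved in G. -/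
theorem result {G : Type u} [Group G] [Finite G] {p : ℕ} [Fact p.Prime] (hp : p ≠ 2) (P : Sylow p G) : (Cfsg.groupFusionSystem (P : Subgroup G)).IsSectionFree p ↥(Cfsg.qd p) ↔ ¬ Cfsg.Involves ↥(Cfsg.qd p) G := by
  have hS : IsPGroup p ↥(P : Subgroup G) := P.2
  have hF := Agent.Fusion.groupFusionSystem_isSaturated P
  constructor
  · intro hfree hG
    obtain ⟨Y, hYp, hYc, hY⟩ := Fusion92.exists_centric_involves_qd hp hG
    obtain ⟨R, hR⟩ := hYp.exists_le_sylow
    obtain ⟨a, ha⟩ := MulAction.exists_smul_eq G R P
    have haP : Agent.Fusion.conjSub a Y ≤ (P : Subgroup G) := by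
      rintro _ ⟨y, hy, rfl⟩
      rw [← ha, Sylow.coe_subgroup_smul]
      exact ⟨y, hR hy, rfl⟩
    obtain ⟨b, hb, hsyl⟩ := Agent.Fusion.exists_conj_isSylowIn_normalizer P haP
    rw [Agent.Fusion.conjSub_conjSub] at hb hsyl
    have hWN := (Agent.Fusion.fullyNormalized_group_iff P hb).mpr hsyl
    have hWC : (groupFusionSystem (P : Subgroup G)).IsCentric (Agent.Fusion.conjSub (b * a) Y) := by
      refine ⟨hb, fun V hV x hx => ?_⟩
      obtain ⟨-, -, c, rfl⟩ := (Agent.Fusion.isConj_group_iff P).mp hV
      rw [Agent.Fusion.conjSub_conjSub] at hx ⊢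
      generalize c * (b * a) = d at hx ⊢
      rw [Agent.Fusion.mem_conjSub]
      refine hYc _ (Subgroup.mem_centralizer_iff.mpr fun y hy => ?_) ?_
      · have := Subgroup.mem_centralizer_iff.mp hx.2 _
          (Agent.Fusion.conj_mem_conjSub (g := d) hy)
        calc y * (d⁻¹ * x * d) = d⁻¹ * (d * y * d⁻¹ * x) * d := by group
          _ = d⁻¹ * (x * (d * y * d⁻¹)) * d := by rw [this]
          _ = _ := by group
      · have hxp : IsPGroup p (Subgroup.zpowers x) :=
          hS.to_le (Subgroup.zpowers_le.mpr hx.1)
        have := hxp.map (MulAut.conj d⁻¹).toMonoidHom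
        rw [MonoidHom.map_zpowers] at this
        have e : (MulAut.conj d⁻¹).toMonoidHom x = d⁻¹ * x * d := by simp
        rwa [e] at this
    obtain ⟨L, hG', hL, ι, h⟩ := Fusion92.exists_isLocal hS hF hWC hWN
    obtain ⟨e⟩ := Fusion92.group_localModel_equiv P hWC h
    refine hfree _ hWN hWC _ (Agent.Fusion.isNormalizerSystem_normalizerSystem _ hWC.1) L ι
      (h.isModel hS (Agent.Fusion.isNormalizerSystem_normalizerSystem _ hWC.1)) ?_
    let j : ↥(Subgroup.normalizer (Y : Set G)) →*
        ↥(Subgroup.normalizer (Agent.Fusion.conjSub (b * a) Y : Set G)) :=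
      MonoidHom.mk' (fun x => ⟨(b * a) * x * (b * a)⁻¹, by
          rw [← Agent.Fusion.conjSub_normalizer]
          exact Agent.Fusion.conj_mem_conjSub x.2⟩)
        fun x y => Subtype.ext (by simp [mul_assoc])
    have hj : Function.Injective j := fun x y hxy =>
      Subtype.ext (mul_left_cancel (mul_right_cancel (congrArg Subtype.val hxy)))
    have h1 := Fusion92.involves_quotient_pPrimeCore (Fusion92.pPrimeCore_qd (p := p))
      (LocalEven61.involves_trans hY
        (LocalEven61.involves_of_hom (MonoidHom.id _) (fun x => ⟨x, rfl⟩) j hj))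
    exact LocalEven61.involves_trans h1
      (LocalEven61.involves_of_hom (MonoidHom.id _) (fun x => ⟨x, rfl⟩)
        e.symm.toMonoidHom e.symm.injective)
  · intro hfree Q _ hC N hN L _ ι hM hinv
    obtain ⟨e⟩ := Fusion92.group_localModel_equiv P hC
      (Fusion92.IsLocal.of_isModel hS hF hC hN hM)
    refine hfree (LocalEven61.involves_of_subgroup (Subgroup.normalizer (Q : Set G))
      (LocalEven61.involves_trans (LocalEven61.involves_trans hinv
        (LocalEven61.involves_of_hom (MonoidHom.id L) (fun x => ⟨x, rfl⟩)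
          e.toMonoidHom e.injective)) (LocalEven61.involves_quotient _)))

end Cfsg.Agent.S5206
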