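import Cfsg.Statements.S5213
import Cfsg.Agent.TwoRankTwo36.FusionUnique
import Cfsg.Agent.TwoRankTwo36.FusionThree
-- import your own Cfsg.Agent.* helpers here

set_option autoImplicit false
open Cfsg

namespace Cfsg.Agent.S5213

open Cfsg.Agent.TwoRankTwo36 in
/-- Let S be a finite 2-group of 2-rank 2 (it has an elementary abelian subgroup of order 4 and none of order 8) and F a saturated fusion system over S with trivial centre. Then S is dihedral, semidihedral, wreathed, homocyclic abelian (a direct product of cyclic groups of one common order), or isomorphic to a Sylow 2-subgroup of the projective special unitary group PSU₃(4) (realised over the field with 16 elements). -/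
theorem result {Ω : Type*} [Group Ω] {S : Subgroup Ω} [Finite S] (hS : IsPGroup 2 S) (F : Cfsg.FusionSystem S) (hF : F.IsSaturated 2) (hr : Cfsg.PRankAtLeast 2 2 ↥S ∧ ¬ Cfsg.PRankAtLeast 2 3 ↥S) (hZ : F.center = ⊥) {K : Type*} [Field K] [Fintype K] (hK : Fintype.card K = 16) : (∃ m : ℕ, Nonempty (↥S ≃* DihedralGroup m)) ∨ Cfsg.IsQuasiDihedral ↥S ∨ Cfsg.IsWreathed ↥S ∨ (∃ n k : ℕ, Nonempty (↥S ≃* Multiplicative (Fin k → ZMod (2 ^ n)))) ∨ ∃ T : Sylow 2 (Cfsg.PSU 3 K 4), Nonempty (↥S ≃* ↥(T : Subgroup (Cfsg.PSU 3 K 4))) := by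
  classical
  have h2 := prankLE_of_not_atLeast hS hr.2
  obtain ⟨s, hs⟩ : ∃ s : S, s ≠ 1 := by
    by_contra! h
    refine not_prankLE_one_of_atLeast hr.1 fun A _ _ => ?_
    haveI : Subsingleton S := ⟨fun a b => by rw [h a, h b]⟩
    simp [Nat.card_unique]
  obtain ⟨z, hzc, hz2, hz1⟩ := exists_central_involution hS hs
  have hzc' : ∀ g ∈ S, g * (z : Ω) = (z : Ω) * g := fun g hg =>
    congrArg Subtype.val (Subgroup.mem_center_iff.mp hzc ⟨g, hg⟩)
  by_cases hu : ∀ x ∈ S, x * x = 1 → (∀ g ∈ S, g * x = x * g) → x = 1 ∨ x = (z : Ω)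
  · rcases isDSW_of_unique hS hF h2 hZ z.2 (congrArg Subtype.val hz2)
      (fun q => hz1 (Subtype.ext q)) hzc' hu with ⟨m, -, h⟩ | h | h
    · exact Or.inl ⟨m, h⟩
    · exact Or.inr (Or.inl h)
    · exact Or.inr (Or.inr (Or.inl h))
  · push Not at hu
    obtain ⟨w, hwS, hw2, hwc, hw1, hwz⟩ := hu
    obtain ⟨P₀⟩ : Nonempty (Sylow 2 (Cfsg.PSU 3 K 4)) := inferInstance
    rcases types_of_central hS hF h2 hZ z.2 hwS (congrArg Subtype.val hz2) hw2
      (fun q => hz1 (Subtype.ext q)) hw1 (Ne.symm hwz) hzc' hwc hK P₀ with ⟨n, -, ⟨ι⟩⟩ | h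
    · exact Or.inr (Or.inr (Or.inr (Or.inl ⟨n, 2, ⟨ι.trans
        { toFun := fun x => Multiplicative.ofAdd ![x.toAdd.1, x.toAdd.2]
          invFun := fun x => Multiplicative.ofAdd (x.toAdd 0, x.toAdd 1)
          left_inv := fun x => rfl
          right_inv := fun x => by
            apply Multiplicative.toAdd.injective
            funext i
            fin_cases i <;> rfl
          map_mul' := fun x y => by
            apply Multiplicative.toAdd.injective
            funext i
            fin_cases i <;> rfl }⟩⟩)))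
    · exact Or.inr (Or.inr (Or.inr (Or.inr ⟨P₀, h⟩)))

end Cfsg.Agent.S5213
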