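import Cfsg.Statements.S5214
import Cfsg.Agent.Lib.Fusion.Normal
import Cfsg.Agent.Lib.SuzukiTwo.ClassTwo
import Cfsg.Agent.Lib.SuzukiTwo.Order

set_option autoImplicit false
open Cfsg
open scoped commutatorElement

namespace Cfsg.Agent.S5214

/-- Let S be a Suzuki 2-group (a finite nonabelian 2-group with more than one involution admitting a cyclic group of automorphisms permuting its involutions regularly). Then S is normal in every saturated fusion system over S (such a group is resistant). -/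
theorem result {Ω : Type*} [Group Ω] {S : Subgroup Ω} [Finite S] (hS : IsPGroup 2 S) (F : Cfsg.FusionSystem S) (hF : F.IsSaturated 2) (hsz : Cfsg.IsSuzukiTwoGroup ↥S) : F.IsNormal S := by
  haveI : Fact (Nat.Prime 2) := ⟨Nat.prime_two⟩
  obtain ⟨K, _, _, _, fr, u0, hu0, -⟩ := SuzukiTwo.exists_frame' hsz
  obtain ⟨-, h2, hna, -, -⟩ := hsz
  let Z : Subgroup Ω := (Subgroup.center S).map S.subtype
  have hZS : Z ≤ S := Subgroup.map_subtype_le _
  have hsq : ∀ x : S, x ∈ Subgroup.center S ↔ x * x = 1 :=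
    fun x => fr.mem_center_iff_sq h2 hna hu0
  have hmem : ∀ x : S, (x : Ω) ∈ Z ↔ (x : Ω) * x = 1 := fun x => by
    rw [← Subgroup.coe_mul, OneMemClass.coe_eq_one, ← hsq]
    exact Subgroup.mem_map_iff_mem Subtype.val_injective
  have hcl : F.StronglyClosed Z := by
    refine ⟨hZS, fun R hR φ hφ x => ?_⟩
    have hx : (x : Ω) * x = 1 := (hmem ⟨x, hZS (hR x.2)⟩).1 (hR x.2)
    refine (hmem ⟨φ x, (F.le_of_mem hφ).2 x⟩).2 ?_
    show φ x * φ x = 1
    rw [← map_mul, show x * x = 1 from Subtype.ext hx, map_one]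
  have hbot : F.StronglyClosed ⊥ := by
    refine ⟨bot_le, fun R hR φ hφ x => ?_⟩
    rw [show x = 1 from Subtype.ext (Subgroup.mem_bot.1 (hR x.2)), map_one]
    exact one_mem _
  have hS' : F.StronglyClosed S :=
    ⟨le_rfl, fun R _ φ hφ x => (F.le_of_mem hφ).2 x⟩
  refine Fusion.isNormal_of_series hS hF
    (fun i => if i = 0 then ⊥ else if i = 1 then Z else S) 2 rfl rfl ?_ ?_
  · intro i _
    split_ifs <;> assumption
  · intro i hi
    interval_cases i
    · show ⁅S, Z⁆ ≤ ⊥
      refine Subgroup.commutator_le.2 fun a ha b hb => ?_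
      obtain ⟨z, hz, rfl⟩ := hb
      rw [Subgroup.mem_bot, commutatorElement_eq_one_iff_mul_comm]
      exact congrArg Subtype.val (Subgroup.mem_center_iff.1 hz ⟨a, ha⟩)
    · show ⁅S, S⁆ ≤ Z
      refine Subgroup.commutator_le.2 fun a ha b hb => ?_
      have h := fr.class_two h2 hna hu0
      have ha' : (⟨a, ha⟩ : S) ∈ (⊤ : Subgroup S) := Subgroup.mem_top _
      rw [← h] at ha'
      exact Subgroup.mem_map.2 ⟨_, (SuzukiTwo.mem_upperSub.1 ha').2 ⟨b, hb⟩, rfl⟩

end Cfsg.Agent.S5214
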