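import Cfsg.Statements.S5215
import Cfsg.Agent.RankTwoReal36.Shapes
import Cfsg.Agent.RankTwoReal36.ModelThree

set_option autoImplicit false
open Cfsg

namespace Cfsg.Agent.S5215

/-- Let S be a finite 2-group of 2-rank 2 (an elementary abelian subgroup of order 4, none of order 8) and F a simple saturated fusion system over S. Then S is dihedral, semidihedral or wreathed, and F is the fusion system of the projective special linear group PSL₂(q) for some odd prime power q ≡ ±1 (mod 8) or of PSL₃(q) for some odd prime power q: it is realized by an injective homomorphism of S into that group whose image is a Sylow 2-subgroup. -/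
theorem result {Ω : Type*} [Group Ω] {S : Subgroup Ω} [Finite S] (hS : IsPGroup 2 S) (F : Cfsg.FusionSystem S) (hF : F.IsSaturated 2) (hr : Cfsg.PRankAtLeast 2 2 ↥S ∧ ¬ Cfsg.PRankAtLeast 2 3 ↥S) (hsimple : F.IsSimple 2) : ((∃ m : ℕ, Nonempty (↥S ≃* DihedralGroup m)) ∨ Cfsg.IsQuasiDihedral ↥S ∨ Cfsg.IsWreathed ↥S) ∧ ∃ (K : Type) (_ : Field K) (_ : Fintype K) (q : ℕ), Fintype.card K = q ∧ Odd q ∧ (((q % 8 = 1 ∨ q % 8 = 7) ∧ ∃ ι : ↥S →* Matrix.ProjectiveSpecialLinearGroup (Fin 2) K, F.IsRealizedBy ι ∧ ∃ T : Sylow 2 (Matrix.ProjectiveSpecialLinearGroup (Fin 2) K), (T : Subgroup (Matrix.ProjectiveSpecialLinearGroup (Fin 2) K)) = ι.range) ∨ (∃ ι : ↥S →* Matrix.ProjectiveSpecialLinearGroup (Fin 3) K, F.IsRealizedBy ι ∧ ∃ T : Sylow 2 (Matrix.ProjectiveSpecialLinearGroup (Fin 3) K), (T : Subgroup (Matrix.ProjectiveSpecialLinearGroup (Fin 3) K)) = ι.range)) := by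
  classical
  have h2 := TwoRankTwo36.prankLE_of_not_atLeast hS hr.2
  obtain ⟨s, hs⟩ : ∃ s : S, s ≠ 1 := by
    by_contra! h
    refine TwoRankTwo36.not_prankLE_one_of_atLeast hr.1 fun A _ _ => ?_
    haveI : Subsingleton S := ⟨fun a b => by rw [h a, h b]⟩
    simp [Nat.card_unique]
  obtain ⟨z, hzc, hz2, hz1⟩ := TwoRankTwo36.exists_central_involution hS hs
  have hzc' : ∀ g ∈ S, g * (z : Ω) = (z : Ω) * g := fun g hg =>
    congrArg Subtype.val (Subgroup.mem_center_iff.mp hzc ⟨g, hg⟩)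
  have hz2' : (z : Ω) * z = 1 := congrArg Subtype.val hz2
  have hz1' : (z : Ω) ≠ 1 := fun q => hz1 (Subtype.ext q)
  obtain ⟨hZ, hu⟩ := RankTwoReal36.central_unique hS hsimple h2 hr.1 z.2 hz2' hz1' hzc'
  rcases TwoRankTwo36.isDSW_of_unique hS hF h2 hZ z.2 hz2' hz1' hzc' hu with ⟨m, hm, ⟨e⟩⟩ | h | h
  · have h4 : m ≠ 2 := by
      rintro rfl
      have hcomm : ∀ a b : DihedralGroup 2, a * b = b * a := by decide
      have hsq : ∀ a : DihedralGroup 2, a * a = 1 := by decide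
      have hall : ∀ x : S, x = 1 ∨ x = z := fun x => by
        rcases hu x x.2 (congrArg Subtype.val (show x * x = 1 from e.injective (by rw [map_mul, map_one, hsq])))
          (fun g hg => congrArg Subtype.val
            (show (⟨g, hg⟩ : S) * x = x * ⟨g, hg⟩ from e.injective (by rw [map_mul, map_mul, hcomm]))) with q | q
        exacts [Or.inl (Subtype.ext q), Or.inr (Subtype.ext q)]
      have h4 : Nat.card S = 4 := by rw [Nat.card_congr e.toEquiv, DihedralGroup.nat_card]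
      have : Nat.card S ≤ 2 := by
        refine (Nat.card_le_card_of_injective (fun x : S => decide (x = 1)) fun x y q => ?_).trans (by simp)
        rcases hall x with rfl | rfl <;> rcases hall y with rfl | rfl <;> simp_all
      omega
    obtain ⟨n, c, φ, hc⟩ := RankTwoReal36.isCyc_of_dihedral hS hm e h4
    obtain ⟨K, iK, iF, hodd, h8, T, c₀, φ₀, hc₀, hs₀⟩ := RankTwoReal36.exists_dihedral_model hc.two
    obtain ⟨ι, hι, hT⟩ := hc.realized hc₀ hsimple hs₀
    exact ⟨Or.inl ⟨m, ⟨e⟩⟩, K, iK, iF, _, rfl, hodd, Or.inl ⟨Or.inl h8, ι, hι, T, hT.symm⟩⟩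
  · obtain ⟨n, c, φ, hn, hc⟩ := RankTwoReal36.isCyc_of_qd h
    obtain ⟨K, iK, iF, hodd, T, c₀, φ₀, hc₀, hs₀⟩ := RankTwoReal36.exists_semidihedral_model hn
    obtain ⟨ι, hι, hT⟩ := hc.realized hc₀ hsimple hs₀
    exact ⟨Or.inr (Or.inl h), K, iK, iF, _, rfl, hodd, Or.inr ⟨ι, hι, T, hT.symm⟩⟩
  · obtain ⟨n, c₁, c₂, w, hc⟩ := RankTwoReal36.isWr_of_wreathed h
    obtain ⟨K, iK, iF, hodd, T, d₁, d₂, w₀, hc₀, hs₀⟩ := RankTwoReal36.exists_wreathed_model hc.two
    obtain ⟨ι, hι, hT⟩ := hc.realized hc₀ hsimple hs₀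
    exact ⟨Or.inr (Or.inr h), K, iK, iF, _, rfl, hodd, Or.inr ⟨ι, hι, T, hT.symm⟩⟩

end Cfsg.Agent.S5215
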