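import Cfsg.Statements.S5218
import Cfsg.Agent.Fus2.Frattini
import Cfsg.Agent.Fus2.PowFix

set_option autoImplicit false
open Cfsg

namespace Cfsg.Agent.S5218


open Cfsg.Agent.Fusion Cfsg.Agent.Fus2
open Cfsg.FusionSystem (normalizerIn centralizerIn)

variable {Ω : Type*} [Group Ω] {S : Subgroup Ω}

theorem commMap_mem {g w : Ω} (hg : g ∈ S) (hw : w ∈ S) :
    ∀ k : ℕ, (commMap g)^[k] w ∈ Subgroup.lowerCentralSeries S k := by
  intro k
  induction k with
  | zero => exact hw
  | succ k ih =>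
    rw [Function.iterate_succ_apply', Subgroup.lowerCentralSeries_succ]
    have h := inv_mem (Subgroup.commutator_mem_commutator ih hg)
    rw [commutatorElement_inv] at h
    exact h

theorem closed_powerClosure [Finite S] {p : ℕ} [Fact p.Prime] (hS : IsPGroup p S) {F : Cfsg.FusionSystem S}
    (hF : F.IsSaturated p) {n : ℕ} (hcl : Subgroup.lowerCentralSeries S (n * (p - 1) + 1) = ⊥) :
    ∀ P f, IsMap F P f → ∀ x ∈ P, x ∈ Cfsg.powerClosure p n (zIn S) → f x ∈ Cfsg.powerClosure p n (zIn S) := by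
  refine descending hS hF (fun P f => ∀ x ∈ P, x ∈ Cfsg.powerClosure p n (zIn S) →
    f x ∈ Cfsg.powerClosure p n (zIn S)) ?_ ?_ ?_ ?_ ?_
  · intro P f g h he x hx hV
    exact he hx ▸ h x hx hV
  · intro P Q f g hf _ h1 h2 x hx hV
    exact h2 _ (hf.mem hx) (h1 x hx hV)
  · intro P Q f _ hle h x hx hV
    exact h x (hle hx) hV
  · intro f hf x _ hV
    exact powerClosure_map_mem hf.1 (zIn_le S) n (fun w hw => zIn_map_mem hf hw) hV
  intro E hc _ hEn hlt IH f hf x hxE hV
  have hES := hEn.1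
  have hZ : zIn S ≤ zIn E := by
    intro z hz
    have hcent : z ∈ Subgroup.centralizer (E : Set Ω) := Subgroup.centralizer_le hES hz.2
    exact ⟨hc.2 E (isConj_refl hES) ⟨hz.1, hcent⟩, hcent⟩
  obtain ⟨g0, hg0, hg0E⟩ := SetLike.exists_of_lt (lt_normalizerIn hS hlt)
  obtain ⟨i, hiE, hip⟩ := exists_pow_mem (E := E) hS hg0.1 hg0E
  have hg : g0 ^ i ∈ normalizerIn S E := (normalizerIn S E).pow_mem hg0 i
  let W1 := Cfsg.powerClosure p n (zIn E)
  have hW1 : W1 ≤ E := (powerClosure_le n _).trans (zIn_le E)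
  haveI : (fixAut F E W1 hW1).Normal := fixAut_normal hES hW1 fun e he y hy =>
    powerClosure_map_mem he.1 (zIn_le E) n (fun w hw => zIn_map_mem he hw) hy
  have hcomm : ∀ w ∈ zIn E, ∀ v ∈ E, v * w = w * v := fun w hw v hv =>
    Subgroup.mem_centralizer_iff.1 hw.2 v hv
  have hnorm : ∀ w ∈ zIn E, g0 ^ i * w * (g0 ^ i)⁻¹ ∈ zIn E := by
    intro w hw
    refine ⟨conj_mem_of_mem_normalizer hg.2 hw.1, Subgroup.mem_centralizer_iff.2 fun y hy => ?_⟩
    have hy' := conj_mem_of_mem_normalizer (inv_mem hg.2) hy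
    rw [inv_inv] at hy'
    have e := congrArg (fun v => g0 ^ i * v * (g0 ^ i)⁻¹) (hcomm w hw _ hy')
    simpa [mul_assoc] using e
  obtain ⟨α, hα, hαf⟩ := hf.exists_aut
  obtain ⟨k, hk, P, f', hlt', hEP, hf', hfE, hkf⟩ := frattini_step hS hF hEn (fixAut F E W1 hW1) hg hiE
    (fun γ hγ y hy => Subtype.ext <| by
      rw [hγ y]
      refine conj_fix_powerClosure (fun a ha b hb => hcomm b hb a ha.1) hnorm (Fact.out : p.Prime)
        (fun w hw => hcomm w hw _ hip) (fun w hw => ?_) hy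
      rw [← Subgroup.mem_bot, ← hcl]
      exact commMap_mem hg.1 (hES hw.1) _) ⟨α, hα⟩
  have h1 := IH P f' hlt' hf' x (hEP hxE) hV
  rw [← hαf hxE, hkf x hxE, fixAut_apply hk (powerClosure_mono n hZ h1)]
  exact h1

/-- Let p be a prime, n a natural number, S a nontrivial finite p-group of nilpotence class at most n(p−1)+1, and F a saturated fusion system over S. Then the subgroup generated by the pⁿ-th powers of the elements of Z(S) is normal in F. -/
theorem result {Ω : Type*} [Group Ω] {S : Subgroup Ω} [Finite S] (p : ℕ) [Fact p.Prime] (hS : IsPGroup p S) (F : Cfsg.FusionSystem S) (hF : F.IsSaturated p) (n : ℕ) (hS1 : S ≠ ⊥) (hcl : Subgroup.lowerCentralSeries S (n * (p - 1) + 1) = ⊥) : F.IsNormal (Cfsg.powerClosure p n (S ⊓ Subgroup.centralizer (S : Set Ω))) := by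
  have hle : Cfsg.powerClosure p n (Fus2.zIn S) ≤ S := (Fus2.powerClosure_le n _).trans (Fus2.zIn_le S)
  refine Fusion.isNormal_of_abelian hS hF (Fusion.stronglyClosed_iff.2 ⟨hle, closed_powerClosure hS hF hcl⟩)
    fun x hx y hy => ?_
  exact Subgroup.mem_centralizer_iff.1 (Fus2.powerClosure_le n _ hy).2 x (hle hx)

end Cfsg.Agent.S5218
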