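import Cfsg.Statements.S5219
import Cfsg.Agent.S5218

set_option autoImplicit false
open Cfsg

namespace Cfsg.Agent.S5219


open scoped commutatorElement in
theorem pow_mem_upperCentralSeries {G : Type*} [Group G] {m : ℕ} (h : ∀ z ∈ Subgroup.center G, z ^ m = 1) :
    ∀ i, ∀ x ∈ Subgroup.upperCentralSeries G (i + 1), x ^ m ∈ Subgroup.upperCentralSeries G i := by
  intro i
  induction i with
  | zero =>
    intro x hx
    rw [Subgroup.upperCentralSeries_one] at hx
    rw [Subgroup.upperCentralSeries_zero, Subgroup.mem_bot, h x hx]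
  | succ i ih =>
    intro x hx
    rw [Subgroup.mem_upperCentralSeries_succ_iff] at hx ⊢
    intro y
    have hc : ⁅x, y⁆ ^ m ∈ Subgroup.upperCentralSeries G i := ih _ (hx y)
    have hcx : ⁅⁅x, y⁆, x⁆ ∈ Subgroup.upperCentralSeries G i :=
      Subgroup.mem_upperCentralSeries_succ_iff.1 (hx y) x
    rw [← QuotientGroup.eq_one_iff (N := Subgroup.upperCentralSeries G i)] at hc hcx ⊢
    rw [← QuotientGroup.mk'_apply (N := Subgroup.upperCentralSeries G i)] at hc hcx ⊢
    simp only [map_commutatorElement, map_pow] at hc hcx ⊢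
    generalize QuotientGroup.mk' (Subgroup.upperCentralSeries G i) x = a, QuotientGroup.mk' (Subgroup.upperCentralSeries G i) y = b at hc hcx ⊢
    have hcomm : Commute ⁅a, b⁆ a := commutatorElement_eq_one_iff_commute.1 hcx
    have key : ∀ k : ℕ, a ^ k * b * (a ^ k)⁻¹ = ⁅a, b⁆ ^ k * b := by
      intro k
      induction k with
      | zero => simp
      | succ k ihk =>
        rw [pow_succ', mul_inv_rev]
        calc a * a ^ k * b * ((a ^ k)⁻¹ * a⁻¹) = a * (a ^ k * b * (a ^ k)⁻¹) * a⁻¹ := by group
          _ = ⁅a, b⁆ ^ k * (a * b * a⁻¹) := by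
            rw [ihk, ← mul_assoc a, ← (hcomm.pow_left k).eq]; group
          _ = ⁅a, b⁆ ^ (k + 1) * b := by
            rw [pow_succ, commutatorElement_def]; group
    rw [commutatorElement_def, key m, mul_inv_cancel_right, hc]

/-- Let p be a prime, n a natural number, S a nontrivial finite p-group of nilpotence class at most n(p−1)+1, and F a saturated fusion system over S with no nontrivial normal subgroup (O_p(F) = 1). Then S has exponent dividing p^(n²(p−1)+n). -/
theorem result {Ω : Type*} [Group Ω] {S : Subgroup Ω} [Finite S] (p : ℕ) [Fact p.Prime] (hS : IsPGroup p S) (F : Cfsg.FusionSystem S) (hF : F.IsSaturated p) (n : ℕ) (hS1 : S ≠ ⊥) (hcl : Subgroup.lowerCentralSeries S (n * (p - 1) + 1) = ⊥) (hcore : F.core = ⊥) : Monoid.exponent ↥S ∣ p ^ (n ^ 2 * (p - 1) + n) := by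
  have hV : Cfsg.powerClosure p n (S ⊓ Subgroup.centralizer (S : Set Ω)) = ⊥ := by
    refine le_bot_iff.1 ?_
    rw [← hcore]
    exact le_sSup (S5218.result p hS F hF n hS1 hcl)
  have hz : ∀ z ∈ Subgroup.center ↥S, z ^ p ^ n = 1 := fun z hz => Subtype.ext <| by
    rw [SubgroupClass.coe_pow, Subgroup.coe_one, ← Subgroup.mem_bot, ← hV]
    exact Subgroup.subset_closure ⟨z, ⟨z.2, Subgroup.mem_centralizer_iff.2 fun y hy =>
      congrArg Subtype.val (Subgroup.mem_center_iff.1 hz ⟨y, hy⟩)⟩, rfl⟩
  have htop : Subgroup.upperCentralSeries ↥S (n * (p - 1) + 1) = ⊤ := by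
    rw [← Subgroup.lowerCentralSeries_eq_bot_iff_upperCentralSeries_eq_top,
      ← Subgroup.map_eq_bot_iff_of_injective _ S.subtype_injective, Subgroup.top_subtype_lowerCentralSeries, hcl]
  have hall : ∀ j i, ∀ x ∈ Subgroup.upperCentralSeries ↥S (i + j), x ^ (p ^ n) ^ j ∈ Subgroup.upperCentralSeries ↥S i := by
    intro j
    induction j with
    | zero => intro i x hx; simpa using hx
    | succ j ih =>
      intro i x hx
      rw [pow_succ, pow_mul]
      exact pow_mem_upperCentralSeries hz i _ (ih (i + 1) x (by rwa [show i + 1 + j = i + (j + 1) by omega]))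
  refine Monoid.exponent_dvd_of_forall_pow_eq_one fun x => ?_
  have h := hall (n * (p - 1) + 1) 0 x (by rw [zero_add, htop]; exact Subgroup.mem_top _)
  rw [Subgroup.upperCentralSeries_zero, Subgroup.mem_bot, ← pow_mul] at h
  rwa [show n ^ 2 * (p - 1) + n = n * (n * (p - 1) + 1) by ring]

end Cfsg.Agent.S5219
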