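import Cfsg.Statements.S5220
import Cfsg.Agent.WeakClosure.FusionControl
import Cfsg.Agent.Fus2.Frattini
import Cfsg.Agent.Fus2.PowFactor

set_option autoImplicit false
open Cfsg

namespace Cfsg.Agent.S5220


open Cfsg.Agent.Fusion Cfsg.Agent.Fusion92
open Cfsg.FusionSystem (normalizerIn centralizerIn)

universe w

variable {Ω : Type w} [Group Ω] {S T : Subgroup Ω} {D : Cfsg.FusionSystem T} {p : ℕ} [Fact p.Prime]
  {Q₀ U : Subgroup Ω} {L : Type w} [Group L] {ι : ↥(normalizerIn T U) →* L}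

/-- Commuting modulo the centralized subgroup with an element central in the Sylow subgroup. -/
theorem commute_of_commute_mod [Finite T] (h : LocalCond p D Q₀ ι) (hT : IsPGroup p T)
    [((Q₀.subgroupOf (normalizerIn T U)).map ι).Normal] {y : L} (hy : ∀ s, ι s * y = y * ι s)
    {c : L} (hc : Commute (QuotientGroup.mk' ((Q₀.subgroupOf (normalizerIn T U)).map ι) c)
      (QuotientGroup.mk' ((Q₀.subgroupOf (normalizerIn T U)).map ι) y)) : Commute c y := by
  have := h.isLocal.fin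
  let π := QuotientGroup.mk' ((Q₀.subgroupOf (normalizerIn T U)).map ι)
  let K := (Subgroup.centralizer {π y}).comap π
  have hmemK : ∀ k, k ∈ K ↔ Commute (π k) (π y) := fun k => by
    simp only [K, Subgroup.mem_comap, Subgroup.mem_centralizer_iff, Set.mem_singleton_iff, forall_eq]
    exact eq_comm
  have hrK : ι.range ≤ K := by
    rintro _ ⟨s, rfl⟩
    exact (hmemK _).2 (Commute.map (hy s : Commute (ι s) y) π)
  let M : Subgroup K := (Subgroup.centralizer {y}).subgroupOf K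
  have hmemM : ∀ k : K, k ∈ M ↔ Commute (k : L) y := fun k => by
    simp only [M, Subgroup.mem_subgroupOf, Subgroup.mem_centralizer_iff, Set.mem_singleton_iff, forall_eq]
    exact eq_comm
  have hres : pResidual p K ≤ M := by
    refine (Subgroup.closure_le _).mpr fun k hk => (hmemM k).mpr ?_
    have hk' : (orderOf (k : L)).Coprime p := by rw [Subgroup.orderOf_coe]; exact hk
    have hmem : (k : L) * y * (k : L)⁻¹ * y⁻¹ ∈ (Q₀.subgroupOf (normalizerIn T U)).map ι := by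
      refine (QuotientGroup.eq_one_iff _).mp ?_
      show π ((k : L) * y * (k : L)⁻¹ * y⁻¹) = 1
      simp only [map_mul, map_inv]
      rw [((hmemK _).1 k.2).eq]; group
    have h1 := eq_one_of_commutator_mem (h.isPGroup_map hT) hk' (h.central _ hk') hmem
    exact mul_inv_eq_iff_eq_mul.1 h1
  obtain ⟨P, hP⟩ := h.isLocal.sylow
  let P' : Sylow p K := P.subtype (hP ▸ hrK)
  have htop : ((P'.mapSurjective (QuotientGroup.mk'_surjective (pResidual p K))) :
      Subgroup (K ⧸ pResidual p K)) = ⊤ :=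
    ((P'.mapSurjective (QuotientGroup.mk'_surjective (pResidual p K))).3
      (Thompson.isPGroup_quotient_pResidual.to_subgroup ⊤) le_top).symm
  rw [Sylow.coe_mapSurjective] at htop
  have hcK : c ∈ K := (hmemK c).2 hc
  obtain ⟨k, hk, hke⟩ : QuotientGroup.mk' (pResidual p K) ⟨c, hcK⟩ ∈
      (P' : Subgroup K).map (QuotientGroup.mk' (pResidual p K)) := htop ▸ Subgroup.mem_top _
  have h2 : k⁻¹ * ⟨c, hcK⟩ ∈ pResidual p K := by
    rw [← QuotientGroup.eq]
    exact hke
  have hkM : k ∈ M := by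
    obtain ⟨s, hs⟩ : (k : L) ∈ ι.range := hP ▸ hk
    exact (hmemM k).2 (hs ▸ hy s)
  have h3 := M.mul_mem hkM (hres h2)
  rw [mul_inv_cancel_left] at h3
  exact (hmemM _).1 h3

/-- The local step: every conjugation in a local model is in the target system. -/
theorem conjIn_all [Finite S] (hS : IsPGroup p S) {E : Cfsg.FusionSystem S} (hTS : T ≤ S)
    (hZT : S ⊓ Subgroup.centralizer (S : Set Ω) ≤ T) (hl : LocalCond p D Q₀ ι)
    (hcent : ∀ R f, IsMap D R f → U ≤ R →
      (∀ z ∈ S ⊓ Subgroup.centralizer (S : Set Ω), f (z ^ p) = z ^ p) → IsMap E R f)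
    (hant : ∀ g ∈ Subgroup.normalizer ((secW WeakClosure.jaFun ι.range
      ((Q₀.subgroupOf (normalizerIn T U)).map ι) : Subgroup L) : Set L), ConjIn D E ι g)
    (g : L) : ConjIn D E ι g := by
  haveI : Finite T := Fusion.finite_of_le hTS
  have := hl.isLocal.fin
  haveI := hl.normal
  have hTp := hS.to_le hTS
  have hUN : U ≤ normalizerIn T U := hl.isLocal.shape.le
  have hZU : ∀ {z : Ω}, z ∈ S ⊓ Subgroup.centralizer (S : Set Ω) → z ∈ U := fun {z} hz =>
    hl.centric.2 _ (Fusion.isConj_refl hl.centric.1)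
      ⟨hZT hz, Subgroup.centralizer_le (hl.centric.1.trans hTS) hz.2⟩
  obtain ⟨P, hP, hPY⟩ := hl.exists_sylow (W := WeakClosure.jaFun) WeakClosure.isInvariantW_jaFun
  have hkerle : (Q₀.subgroupOf (normalizerIn T U)).map ι ≤ ι.range := Subgroup.map_le_range _ _
  intro R hR hUR f hf hfU he
  set π := QuotientGroup.mk' ((Q₀.subgroupOf (normalizerIn T U)).map ι) with hπ
  have hmemP : ∀ l ∈ ι.range, π l ∈ (P : Subgroup _) := fun l hl' => by
    rw [hP]; exact ⟨l, hl', rfl⟩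
  have hofP : ∀ l, π l ∈ (P : Subgroup _) → l ∈ ι.range := fun l hl' => by
    rw [hP] at hl'
    obtain ⟨l', hl1, hl2⟩ := hl'
    have := ι.range.mul_mem hl1 (hkerle (QuotientGroup.eq.1 hl2))
    rwa [mul_inv_cancel_left] at this
  have hfR : ∀ x ∈ R, f x ∈ normalizerIn T U := fun x hx =>
    Fusion.map_mem_normalizer hf hUR hfU hx (hR hx).2
  let Zb : Set (L ⧸ (Q₀.subgroupOf (normalizerIn T U)).map ι) :=
    {q | ∃ (z : Ω) (hz : z ∈ S ⊓ Subgroup.centralizer (S : Set Ω)), q = π (ι ⟨z, hUN (hZU hz)⟩)}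
  have hzι : ∀ {z : Ω} (hz : z ∈ S ⊓ Subgroup.centralizer (S : Set Ω)) (s),
      Commute (ι s) (ι ⟨z, hUN (hZU hz)⟩) := fun {z} hz s => Commute.map
    (show Commute s ⟨z, hUN (hZU hz)⟩ from
      Subtype.ext (Subgroup.mem_centralizer_iff.mp hz.2 s (hTS s.2.1))) ι
  have hZC : ∀ q ∈ Zb, q ∈ Subgroup.centralizer ((P : Subgroup (L ⧸ (Q₀.subgroupOf (normalizerIn T U)).map ι)) : Set _) := by
    rintro _ ⟨z, hz, rfl⟩
    refine Subgroup.mem_centralizer_iff.mpr fun q hq => ?_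
    rw [SetLike.mem_coe, hP] at hq
    obtain ⟨_, ⟨s, rfl⟩, rfl⟩ := hq
    exact ((hzι hz s).map π).eq
  set O := Cfsg.pCore p (L ⧸ (Q₀.subgroupOf (normalizerIn T U)).map ι) with hO
  let W := O ⊓ Subgroup.centralizer (O : Set _)
  have hOP : O ≤ (P : Subgroup _) := Thompson.pCore_le_sylow P
  let Rb : Subgroup (L ⧸ (Q₀.subgroupOf (normalizerIn T U)).map ι) :=
    ((R.subgroupOf (normalizerIn T U)).map ι).map π
  obtain ⟨nb, cb, hgb, -, -, hcZ, hcR, hnJ⟩ := Fus2.powers_factor P.isPGroup' Zb hZC W ⊤ le_top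
    (by rw [Subgroup.relIndex_top_right]; exact P.not_dvd_index) (inf_le_left.trans hOP)
    (by rw [Subgroup.normalizer_eq_top_iff.mpr (inferInstance : W.Normal)])
    (fun a ha b hb => Subgroup.mem_centralizer_iff.1 hb.2 a ha.1)
    (fun q hq => by
      obtain ⟨z, hz, rfl⟩ := hq
      exact ⟨mem_pCore_map_of_centralizer hl hTp (hZU hz),
        Subgroup.centralizer_le hOP (hZC _ ⟨z, hz, rfl⟩)⟩)
    (π g) (Subgroup.mem_top _) Rb
    (by rintro _ ⟨_, ⟨x, -, rfl⟩, rfl⟩; exact hmemP _ ⟨x, rfl⟩)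
    (by
      rintro _ ⟨_, ⟨x, hx, rfl⟩, rfl⟩
      rw [← map_inv, ← map_mul, ← map_mul]
      exact hmemP _ ⟨⟨f x, hfR x hx⟩, he x hx (hfR x hx)⟩)
  obtain ⟨c, rfl⟩ := QuotientGroup.mk'_surjective _ cb
  let n := g * c⁻¹
  have hn : π n = nb := by
    show π (g * c⁻¹) = nb
    rw [map_mul, map_inv, hgb, mul_inv_cancel_right]
  have hnN : n ∈ Subgroup.normalizer ((secW WeakClosure.jaFun ι.range
      ((Q₀.subgroupOf (normalizerIn T U)).map ι) : Subgroup L) : Set L) := by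
    rw [← hl.mem_normalizer_secW_iff, hPY, hn]
    exact hnJ
  have hcy : ∀ {z : Ω} (hz : z ∈ S ⊓ Subgroup.centralizer (S : Set Ω)),
      Commute c (ι ⟨z, hUN (hZU hz)⟩ ^ p) := fun {z} hz =>
    commute_of_commute_mod hl hTp (fun s => ((hzι hz s).pow_right p).eq)
      (by rw [map_pow]; exact hcZ _ ⟨z, hz, rfl⟩)
  -- the map induced by `c`, then the one induced by `n`
  obtain ⟨f₁, hf₁, hf₁U, hfe₁⟩ := hl.isLocal.exists_map c hUR hR fun x hx => by
    refine hofP _ ?_
    rw [map_mul, map_mul, map_inv]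
    exact hcR _ ⟨_, ⟨⟨x, hR hx⟩, hx, rfl⟩, rfl⟩
  obtain ⟨R', hR'⟩ := hf₁.exists_image
  have hR'N : R' ≤ normalizerIn T U := fun y hy => by
    obtain ⟨x, hx, rfl⟩ := hR'.exists_preimage hy
    exact (hfe₁ x hx).1
  have hUR' : U ≤ R' := fun y hy => by
    obtain ⟨x, hx, rfl⟩ := hf₁U.symm.subset hy
    exact hR'.mem (hUR hx)
  obtain ⟨f₂, hf₂, hf₂U, hfe₂⟩ := hl.isLocal.exists_map n hUR' hR'N fun y hy => by
    obtain ⟨x, hx, rfl⟩ := hR'.exists_preimage hy
    obtain ⟨hfx, e⟩ := hfe₁ x hx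
    refine ⟨⟨f x, hfR x hx⟩, ?_⟩
    rw [show (⟨f₁ x, hR'N hy⟩ : ↥(normalizerIn T U)) = ⟨f₁ x, hfx⟩ from rfl, e, he x hx (hfR x hx)]
    show _ = g * c⁻¹ * (c * ι ⟨x, hR hx⟩ * c⁻¹) * (g * c⁻¹)⁻¹
    group
  have h1 : IsMap E R f₁ := hcent R f₁ hf₁ hUR fun z hz => by
    obtain ⟨hfz, e⟩ := hfe₁ (z ^ p) (hUR (U.pow_mem (hZU hz) p))
    refine congrArg Subtype.val (a₁ := (⟨f₁ (z ^ p), hfz⟩ : ↥(normalizerIn T U)))
      (a₂ := ⟨z, hUN (hZU hz)⟩ ^ p) (hl.isLocal.shape.inj ?_)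
    rw [e, show (⟨z ^ p, hR (hUR (U.pow_mem (hZU hz) p))⟩ : ↥(normalizerIn T U)) =
      ⟨z, hUN (hZU hz)⟩ ^ p from Subtype.ext rfl, map_pow, (hcy hz).eq, mul_inv_cancel_right]
  have h2 : IsMap E R' f₂ := hant n hnN R' hR'N hUR' f₂ hf₂ hf₂U fun y hy hfy => by
    obtain ⟨_, e⟩ := hfe₂ y hy
    exact e
  refine (h1.comp h2 fun x hx => hR'.mem hx).congr fun x hx => ?_
  obtain ⟨hfx, e⟩ := hfe₁ x hx
  obtain ⟨hfy, e'⟩ := hfe₂ (f₁ x) (hR'.mem hx)
  refine congrArg Subtype.val (a₁ := (⟨f₂ (f₁ x), hfy⟩ : ↥(normalizerIn T U)))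
    (a₂ := ⟨f x, hfR x hx⟩) (hl.isLocal.shape.inj ?_)
  rw [e', he x hx (hfR x hx), show (⟨f₁ x, hR'N (hR'.mem hx)⟩ : ↥(normalizerIn T U)) = ⟨f₁ x, hfx⟩ from rfl, e]
  show g * c⁻¹ * (c * ι ⟨x, hR hx⟩ * c⁻¹) * (g * c⁻¹)⁻¹ = _
  group

/-- Let F be a saturated fusion system over a nontrivial finite p-group S, let J(S) be the subgroup generated by the abelian subgroups of S of largest order, and let V be the subgroup generated by the p-th powers of the elements of Z(S). Then F is generated by the centralizer fusion system of V and the normalizer fusion system of J(S): every fusion system over S containing the maps of both contains every map of F. -/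
theorem result {Ω : Type*} [Group Ω] {S : Subgroup Ω} [Finite S] (p : ℕ) [Fact p.Prime] (hS : IsPGroup p S) (F : Cfsg.FusionSystem S) (hF : F.IsSaturated p) (hS1 : S ≠ ⊥) (C : Cfsg.FusionSystem (Cfsg.FusionSystem.centralizerIn S (Cfsg.powerClosure p 1 (S ⊓ Subgroup.centralizer (S : Set Ω))))) (hC : F.IsCentralizerSystem (Cfsg.powerClosure p 1 (S ⊓ Subgroup.centralizer (S : Set Ω))) C) (N : Cfsg.FusionSystem (Cfsg.FusionSystem.normalizerIn S (Cfsg.thompsonSubgroupAOf S))) (hN : F.IsNormalizerSystem (Cfsg.thompsonSubgroupAOf S) N) (E : Cfsg.FusionSystem S) (hCE : C.IsSubsystemOf E) (hNE : N.IsSubsystemOf E) : F.IsSubsystemOf E := by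
  have hJS : Cfsg.FusionSystem.normalizerIn S (Cfsg.thompsonSubgroupAOf S) = S :=
    inf_eq_left.mpr (Fusion92.le_normalizer_map_W (W := WeakClosure.jaFun) WeakClosure.isInvariantW_jaFun hS)
  have hVle : Cfsg.powerClosure p 1 (S ⊓ Subgroup.centralizer (S : Set Ω)) ≤
      S ⊓ Subgroup.centralizer (S : Set Ω) := Fus2.powerClosure_le 1 _
  have hCS : Cfsg.FusionSystem.centralizerIn S
      (Cfsg.powerClosure p 1 (S ⊓ Subgroup.centralizer (S : Set Ω))) = S :=
    inf_eq_left.mpr fun s hs => Subgroup.mem_centralizer_iff.mpr fun v hv =>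
      (Subgroup.mem_centralizer_iff.mp (hVle hv).2 s hs).symm
  have hfixV : ∀ R f, Fusion.IsMap F R f → S ⊓ Subgroup.centralizer (S : Set Ω) ≤ R →
      (∀ z ∈ S ⊓ Subgroup.centralizer (S : Set Ω), f (z ^ p) = z ^ p) → Fusion.IsMap E R f := by
    intro R f hf hZR hz
    refine Fusion.IsMap.of_isSubsystemOf hCE ((Fusion.IsCentralizerSystem.isMap_iff hC).mpr
      ⟨hf, hCS.symm ▸ hf.dom_le, fun x hx => hCS.symm ▸ hf.apply_mem hx,
        f, hf.mono (sup_le le_rfl (hVle.trans hZR)), fun _ _ => rfl, fun x hx => ?_⟩)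
    induction hx using Subgroup.closure_induction with
    | mem y hy =>
      obtain ⟨z, hz', rfl⟩ := hy
      simpa using hz z hz'
    | one => exact hf.map_one
    | mul a b ha hb h1 h2 => rw [hf.map_mul (hZR (hVle ha)) (hZR (hVle hb)), h1, h2]
    | inv a ha h1 => rw [hf.map_inv (hZR (hVle ha)), h1]
  have hd : Fusion92.ControlData p E WeakClosure.jaFun fun T D =>
      T ≤ S ∧ D.IsSaturated p ∧ S ⊓ Subgroup.centralizer (S : Set Ω) ≤ T ∧
        ∀ P f, Fusion.IsMap D P f → Fusion.IsMap F P f :=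
    { nontriv := WeakClosure.jaFun_ne_bot
      invariant := WeakClosure.isInvariantW_jaFun
      le := fun h => h.1
      saturated := fun h => h.2.1
      normalizer := fun {T D} h V hV => by
        haveI := Fusion.finite_of_le h.1
        refine ⟨(Fusion.normalizerIn_le _ V).trans h.1,
          Fusion.normalizerSystem_isSaturated (hS.to_le h.1) h.2.1 hV, fun y hy => ?_,
          fun P f hf => h.2.2.2 P f (Fusion92.isMap_le_of_normalizerSystem hf)⟩
        exact ⟨h.2.2.1 hy, Subgroup.centralizer_le_normalizer _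
          (Subgroup.centralizer_le (hV.1.trans h.1) hy.2)⟩
      centralType := fun h Q hQ hn => by
        haveI := Fusion.finite_of_le h.1
        exact ⟨h.1, Fusion92.centralType_isSaturated (hS.to_le h.1) h.2.1 hQ, h.2.2.1,
          fun P f hf => h.2.2.2 P f (Fusion92.isMap_centralType.mp hf).1⟩
      loc := fun {T D} h Q₀ U L _ ι hl hant g f hf hfU he =>
        conjIn_all hS h.1 h.2.2.1 hl (fun R f hR hUR hz => hfixV R f (h.2.2.2 R f hR)
            (fun z hz' => hUR (hl.centric.2 _ (Fusion.isConj_refl hl.centric.1)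
              ⟨h.2.2.1 hz', Subgroup.centralizer_le (hl.centric.1.trans h.1) hz'.2⟩)) hz)
          hant g U hl.isLocal.shape.le le_rfl f hf hfU fun y hy hfy => he y _ hy hfy
      constrained := fun {T D} h Q₀ U L _ ι hl _ hant _ g =>
        conjIn_all hS h.1 h.2.2.1 hl (fun R f hR hUR hz => hfixV R f (h.2.2.2 R f hR)
            (fun z hz' => hUR (hl.centric.2 _ (Fusion.isConj_refl hl.centric.1)
              ⟨h.2.2.1 hz', Subgroup.centralizer_le (hl.centric.1.trans h.1) hz'.2⟩)) hz)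
          hant g }
  have hall := hd.control_top hS ⟨le_rfl, hF, inf_le_left, fun _ _ h => h⟩ fun P f hf hext =>
    Fusion.IsMap.of_isSubsystemOf hNE ((Fusion.IsNormalizerSystem.isMap_iff hN).mpr
      ⟨hf, hJS.symm ▸ hf.dom_le, fun y hy => hJS.symm ▸ hf.apply_mem hy, hext⟩)
  exact fun P => Fusion.hom_subset_of_isMap (hall P)

end Cfsg.Agent.S5220
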