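import Cfsg.Statements.S5224
import Cfsg.Agent.FusTransfer.Twisted
import Cfsg.Agent.Lib.PGroup.Basic
-- import your own Cfsg.Agent.* helpers here

set_option autoImplicit false
open Cfsg

namespace Cfsg.Agent.S5224

open Cfsg.Agent.Fusion Cfsg.Agent.FusTransfer
open scoped commutatorElement

universe u

theorem hyperfocal_mono {Ω : Type u} [Group Ω] {S : Subgroup Ω} {p : ℕ} {F H : Cfsg.FusionSystem S}
    (hHF : H.IsSubsystemOf F) : H.hyperfocalSubgroup p ≤ F.hyperfocalSubgroup p := by
  refine (Subgroup.closure_le _).2 ?_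
  rintro _ ⟨P, α, x, hP, hα, rfl⟩
  have hle : H.autGroup P ≤ F.autGroup P := Subgroup.closure_mono fun a ha => hHF P ha
  exact Subgroup.subset_closure ⟨P, Subgroup.inclusion hle α, x, hP,
    Transfer.map_pResidual_le (Subgroup.inclusion hle) ⟨α, hα, rfl⟩, rfl⟩

theorem normal_subgroupOf_hyperfocal {Ω : Type u} [Group Ω] {S : Subgroup Ω} (p : ℕ)
    (F : Cfsg.FusionSystem S) : ((F.hyperfocalSubgroup p).subgroupOf S).Normal :=
  ⟨fun _ hn g => (Subgroup.mem_normalizer_iff.1 (hyperfocal_normalizer g.2) _).1 hn⟩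

theorem hyperfocal_eq_of_frattini {Ω : Type u} [Group Ω] {S : Subgroup Ω} [Finite S] {p : ℕ}
    [Fact p.Prime] (hS : IsPGroup p S) {F H : Cfsg.FusionSystem S} (hF : F.IsSaturated p)
    (hH : H.IsSaturated p) (hHF : H.IsSubsystemOf F)
    (he : ((frattini ↥S).map S.subtype ⊔ F.focalSubgroup) =
      ((frattini ↥S).map S.subtype ⊔ H.focalSubgroup)) :
    F.hyperfocalSubgroup p = H.hyperfocalSubgroup p := by
  refine le_antisymm ?_ (hyperfocal_mono hHF)
  set T := (F.hyperfocalSubgroup p).subgroupOf S with hT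
  set TH := (H.hyperfocalSubgroup p).subgroupOf S with hTH
  haveI : T.Normal := normal_subgroupOf_hyperfocal p F
  haveI : TH.Normal := normal_subgroupOf_hyperfocal p H
  have hTHT : TH ≤ T := fun x hx => hyperfocal_mono hHF hx
  let M : Subgroup S := TH ⊔ ⁅T, (⊤ : Subgroup S)⁆
  have hMT : M ≤ T := sup_le hTHT (Subgroup.commutator_le_left _ _)
  obtain ⟨m, hm, μ, hμ⟩ := exists_hyperfocal_extension (F := F) (T := T) (M := M) p hS hF hT hMT
    le_sup_right
  have hA : IsPGroup p (tbar T M) := (hS.to_quotient M).to_subgroup _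
  -- `μ` is onto, already on `T`
  have hsurj : T.map μ = ⊤ := by
    refine eq_top_iff.2 fun a _ => ?_
    obtain ⟨⟨_, t, ht, rfl⟩, hb⟩ := (hA.powEquiv' hm).surjective a
    refine ⟨t, ht, Subtype.ext ?_⟩
    rw [hμ t ht, ← hb]
    rfl
  have hTHμ : TH.map μ ≤ ⊥ := by
    rintro _ ⟨t, ht, rfl⟩
    refine Subgroup.mem_bot.2 (Subtype.ext ?_)
    rw [hμ t (hTHT ht)]
    show (QuotientGroup.mk t : S ⧸ M) ^ m = 1
    rw [(QuotientGroup.eq_one_iff t).2 (Subgroup.mem_sup_left ht), one_pow]
  have hcomm : ⁅S, S⁆ ≤ (frattini ↥S).map S.subtype := by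
    rw [← Subgroup.map_subtype_commutator S]
    exact Subgroup.map_mono (PGroup.commutator_le_frattini hS)
  have hT2 : T ≤ frattini S ⊔ TH := by
    intro x hx
    have h1 : F.hyperfocalSubgroup p ≤ (frattini S ⊔ TH).map S.subtype := by
      rw [Subgroup.map_sup, hTH, Subgroup.map_subgroupOf_eq_of_le hyperfocal_le]
      calc F.hyperfocalSubgroup p ≤ (frattini ↥S).map S.subtype ⊔ F.focalSubgroup :=
            le_sup_of_le_right hyperfocal_le_focal
        _ = _ := he
        _ ≤ _ := sup_le le_sup_left (by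
            rw [focal_eq hS hH]; exact sup_le le_sup_right (hcomm.trans le_sup_left))
    obtain ⟨y, hy, hyx⟩ := h1 hx
    rwa [← Subtype.ext hyx]
  have hbot : frattini (tbar T M) = ⊤ := by
    have hsurj' : Function.Surjective μ := fun a => by
      obtain ⟨t, -, ht⟩ := hsurj ▸ Subgroup.mem_top a
      exact ⟨t, ht⟩
    refine eq_top_iff.2 (hsurj ▸ (Subgroup.map_mono hT2).trans ?_)
    rw [Subgroup.map_sup]
    exact sup_le (Subgroup.map_le_iff_le_comap.2 (frattini_le_comap_frattini_of_surjective hsurj'))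
      (hTHμ.trans bot_le)
  have htriv : (⊥ : Subgroup (tbar T M)) = ⊤ := frattini_nongenerating (by rw [bot_sup_eq, hbot])
  have hTM : T ≤ M := by
    intro t ht
    have h : (⟨_, t, ht, rfl⟩ : tbar T M) ∈ (⊥ : Subgroup (tbar T M)) := htriv ▸ Subgroup.mem_top _
    exact (QuotientGroup.eq_one_iff t).1 (congrArg Subtype.val (Subgroup.mem_bot.1 h))
  -- nilpotency
  haveI : Group.IsNilpotent (S ⧸ TH) := (hS.to_quotient TH).isNilpotent
  let q := QuotientGroup.mk' TH
  have hq : T.map q ≤ ⁅T.map q, (⊤ : Subgroup (S ⧸ TH))⁆ := by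
    refine (Subgroup.map_mono hTM).trans ?_
    rw [Subgroup.map_sup, QuotientGroup.map_mk'_self, bot_sup_eq, Subgroup.map_commutator,
      Subgroup.map_top_of_surjective q (QuotientGroup.mk'_surjective TH)]
  have hn : ∀ n, T.map q ≤ Subgroup.lowerCentralSeries (⊤ : Subgroup (S ⧸ TH)) n := by
    intro n
    induction n with
    | zero => exact le_top
    | succ n ih => exact hq.trans (Subgroup.commutator_mono ih le_rfl)
  obtain ⟨n, hn'⟩ := nilpotent_iff_lowerCentralSeries.1 (inferInstance : Group.IsNilpotent (S ⧸ TH))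
  intro x hx
  have h : q ⟨x, hyperfocal_le hx⟩ ∈ (⊥ : Subgroup (S ⧸ TH)) :=
    hn' ▸ hn n ⟨_, (show (⟨x, hyperfocal_le hx⟩ : S) ∈ T from hx), rfl⟩
  exact (QuotientGroup.eq_one_iff (⟨x, hyperfocal_le hx⟩ : S)).1 (Subgroup.mem_bot.1 h)

theorem tate {Ω : Type u} [Group Ω] {S : Subgroup Ω} [Finite S] (p : ℕ) [Fact p.Prime]
    (hS : IsPGroup p S) (F : Cfsg.FusionSystem S) (hF : F.IsSaturated p) (H : Cfsg.FusionSystem S)
    (hH : H.IsSaturated p) (hHF : H.IsSubsystemOf F) :
    (((frattini ↥S).map S.subtype ⊔ F.focalSubgroup) = ((frattini ↥S).map S.subtype ⊔ H.focalSubgroup) ↔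
        F.focalSubgroup = H.focalSubgroup) ∧
      (F.focalSubgroup = H.focalSubgroup ↔ F.hyperfocalSubgroup p = H.hyperfocalSubgroup p) :=
  ⟨⟨fun h => by rw [focal_eq hS hF, focal_eq hS hH, hyperfocal_eq_of_frattini hS hF hH hHF h],
      fun h => by rw [h]⟩,
    ⟨fun h => hyperfocal_eq_of_frattini hS hF hH hHF (by rw [h]),
      fun h => by rw [focal_eq hS hF, focal_eq hS hH, h]⟩⟩

/-- Tate's Theorem for fusion systems. Let F be a saturated fusion system over a finite p-group S and H a saturated fusion system over S contained in F. Then the following are equivalent: the elementary focal subgroups Φ(S)·foc agree for F and H; the focal subgroups of F and H agree; the hyperfocal subgroups of F and H agree. -/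
theorem result {Ω : Type*} [Group Ω] {S : Subgroup Ω} [Finite S] (p : ℕ) [Fact p.Prime] (hS : IsPGroup p S) (F : Cfsg.FusionSystem S) (hF : F.IsSaturated p) (H : Cfsg.FusionSystem S) (hH : H.IsSaturated p) (hHF : H.IsSubsystemOf F) : (((frattini ↥S).map S.subtype ⊔ F.focalSubgroup) = ((frattini ↥S).map S.subtype ⊔ H.focalSubgroup) ↔ F.focalSubgroup = H.focalSubgroup) ∧ (F.focalSubgroup = H.focalSubgroup ↔ F.hyperfocalSubgroup p = H.hyperfocalSubgroup p) := by
  
  open Cfsg.Agent.Fusion Cfsg.Agent.FusTransfer in exact tate p hS F hF H hH hHF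

end Cfsg.Agent.S5224
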