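import Cfsg.Statements.S5276
import Cfsg.Agent.S5224
import Cfsg.Agent.Fus93.Abelian
import Cfsg.Agent.Fus93.Basic
import Cfsg.Agent.Lib.Fusion.Subsystem
-- import your own Cfsg.Agent.* helpers here

set_option autoImplicit false
open Cfsg

namespace Cfsg.Agent.S5276

open Cfsg.Agent.Fusion Cfsg.Agent.FusTransfer Cfsg.Agent.Fus93
open Cfsg.FusionSystem (normalizerIn)
open scoped commutatorElement

universe u

variable {Ω : Type u} [Group Ω] {S : Subgroup Ω} {p : ℕ} [Fact p.Prime]

theorem commutator_le_phi [Finite S] (hS : IsPGroup p S) : ⁅S, S⁆ ≤ (frattini ↥S).map S.subtype := by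
  rw [← Subgroup.map_subtype_commutator S]
  exact Subgroup.map_mono (PGroup.commutator_le_frattini hS)

theorem phi_conj_mem {g y : Ω} (hg : g ∈ S) (hy : y ∈ (frattini ↥S).map S.subtype) :
    g * y * g⁻¹ ∈ (frattini ↥S).map S.subtype := by
  obtain ⟨z, hz, rfl⟩ := hy
  exact ⟨⟨g, hg⟩ * z * ⟨g, hg⟩⁻¹, (inferInstance : (frattini S).Normal).conj_mem z hz _, rfl⟩

theorem inv_mul_mem_phi [Finite S] (hS : IsPGroup p S) {F : Cfsg.FusionSystem S} (hF : F.IsSaturated p)
    (hcl : F.StronglyClosed ((frattini ↥S).map S.subtype))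
    (hinn : ∀ f, IsIso F S S f → ∃ g ∈ S, ∀ x ∈ S, f x = g * x * g⁻¹) :
    ∀ P f, IsMap F P f → ∀ x ∈ P, x⁻¹ * f x ∈ (frattini ↥S).map S.subtype := by
  classical
  set Φ := (frattini ↥S).map S.subtype with hΦ
  have hcom : ∀ g ∈ S, ∀ x ∈ S, x⁻¹ * (g * x * g⁻¹) ∈ Φ := fun g hg x hx => by
    have h : ⁅x⁻¹, g⁆ ∈ Φ :=
      commutator_le_phi hS (Subgroup.commutator_mem_commutator (S.inv_mem hx) hg)
    simpa [commutatorElement_def, mul_assoc] using h
  suffices H : ∀ d P f, IsMap F P f → Nat.card S ≤ Nat.card P + d →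
      ∀ x ∈ P, x⁻¹ * f x ∈ Φ from fun P f hf => H (Nat.card S) P f hf (Nat.le_add_left _ _)
  intro d
  induction d using Nat.strong_induction_on with
  | _ d IH =>
  refine alperin_induction_cr hS hF
    (fun P f => Nat.card S ≤ Nat.card P + d → ∀ x ∈ P, x⁻¹ * f x ∈ Φ) ?_ ?_ ?_ ?_
  · intro P f g h he hd x hx
    exact he hx ▸ h hd x hx
  · intro P Q f g hf _ h1 h2 hd x hx
    have hcard : Nat.card P = Nat.card Q := Nat.card_congr hf.equiv.toEquiv
    have h := Subgroup.mul_mem _ (h1 hd x hx) (h2 (hcard ▸ hd) _ (hf.mem hx))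
    simpa [mul_assoc] using h
  · intro P Q f hf hle h hd x hx
    haveI : Finite Q := finite_of_le hf.dom_le
    exact h (hd.trans (by have := Subgroup.card_le_of_le hle; omega)) x (hle hx)
  · intro E _ _ hEn f hf hd
    have hES := hEn.1
    haveI := finite_of_le hES
    haveI := finite_mulAut E
    let K : Subgroup (F.autGroup E) :=
      { carrier := {α | ∀ x : E, (x : Ω)⁻¹ * (((α : MulAut E) x : E) : Ω) ∈ Φ}
        one_mem' := fun x => by simp
        mul_mem' := fun {α β} hα hβ x => by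
          have h := Subgroup.mul_mem _ (hβ x) (hα ((β : MulAut E) x))
          show (x : Ω)⁻¹ * (((α : MulAut E) ((β : MulAut E) x) : E) : Ω) ∈ Φ
          simpa [mul_assoc] using h
        inv_mem' := fun {α} hα x => by
          have h := Subgroup.inv_mem _ (hα ((α : MulAut E)⁻¹ x))
          rw [MulAut.apply_inv_self, mul_inv_rev, inv_inv] at h
          exact h }
    have hK : K.Normal := ⟨fun α hα δ x => by
      show (x : Ω)⁻¹ * (((δ : MulAut E) ((α : MulAut E) ((δ : MulAut E)⁻¹ x)) : E) : Ω) ∈ Φ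
      set y := (δ : MulAut E)⁻¹ x with hy
      have hx : x = (δ : MulAut E) y := by rw [hy, MulAut.apply_inv_self]
      rw [hx]
      obtain ⟨ψ, hψ, hψf⟩ := ((mem_autGroup hES).1 δ.2).1.mono (inf_le_left (b := Φ))
      have h := hcl.2 (E ⊓ Φ) inf_le_right ψ hψ
        ⟨(y : Ω)⁻¹ * (((α : MulAut E) y : E) : Ω), ⟨E.mul_mem (E.inv_mem y.2) ((α : MulAut E) y).2, hα y⟩⟩
      rw [hψf] at h
      change autFun (δ : MulAut E) ((y⁻¹ * (α : MulAut E) y : E) : Ω) ∈ Φ at h
      rw [autFun_coe, map_mul, map_inv] at h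
      exact h⟩
    obtain ⟨R, hR⟩ := (fullyAutomized_of_fullyNormalized hS hF hEn).2
    have hRK : (R : Subgroup (F.autGroup E)) ≤ K := by
      intro α hα x
      rw [hR, Subgroup.mem_subgroupOf, mem_autInducedBy] at hα
      obtain ⟨g, hg, hgx⟩ := hα
      rw [hgx x]
      exact hcom g hg x (hES x.2)
    have htop : Subgroup.normalizer ((R : Subgroup (F.autGroup E)) : Set (F.autGroup E)) ⊔ K = ⊤ := by
      haveI := hK
      exact Sylow.normalizer_sup_eq_top' R hRK
    obtain ⟨α, hα, he⟩ := hf.exists_aut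
    suffices hall : (⟨α, hα⟩ : F.autGroup E) ∈ K by
      intro x hx
      rw [← he hx, autFun_of_mem _ hx]
      exact hall ⟨x, hx⟩
    refine (htop.ge.trans (sup_le ?_ le_rfl)) (Subgroup.mem_top _)
    intro δ hδ x
    have hiso := (mem_autGroup hES).1 δ.2
    by_cases hE : E = S
    · subst hE
      obtain ⟨g, hg, hgx⟩ := hinn _ hiso
      rw [← autFun_coe, hgx x x.2]
      exact hcom g hg x x.2
    · have hlt : E < S := lt_of_le_of_ne hES hE
      have hM : IsExtendable S E (autFun (δ : MulAut E)) (normalizerIn S E) := by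
        refine ⟨normalizerIn_le S E, fun g hg => ⟨hg.2, ?_⟩⟩
        let γ : MulAut E := conjAutHom S E ⟨g, hg⟩
        have hγ : γ ∈ autInducedBy S E := by rw [← range_conjAutHom]; exact ⟨_, rfl⟩
        have hγF : γ ∈ F.autGroup E := autInducedBy_le_autGroup hES hγ
        have hc : δ * ⟨γ, hγF⟩ * δ⁻¹ ∈ (R : Subgroup (F.autGroup E)) :=
          (Subgroup.mem_normalizer_iff.1 hδ _).1 (by rw [hR, Subgroup.mem_subgroupOf]; exact hγ)
        rw [hR, Subgroup.mem_subgroupOf, mem_autInducedBy] at hc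
        obtain ⟨h, hh, hhx⟩ := hc
        refine ⟨h, hh, fun z hz => ?_⟩
        have h2 := hhx ((δ : MulAut E) ⟨z, hz⟩)
        simp only [Subgroup.coe_mul, Subgroup.coe_inv, MulAut.mul_apply, MulAut.inv_apply_self] at h2
        rw [autFun_of_mem _ hz, autFun_of_mem _ (conj_mem_of_mem_normalizer hg.2 hz), ← h2]
        congr 2
      obtain ⟨f', hf', hfe⟩ :=
        receptive_extend (receptive_of_fullyNormalized hS hF hEn) hiso hM
      haveI : Finite ↥(E ⊔ normalizerIn S E) := finite_of_le hf'.dom_le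
      have hcard : Nat.card E < Nat.card ↥(E ⊔ normalizerIn S E) := by
        by_contra hle
        exact ((lt_normalizerIn hS hlt).trans_le le_sup_right).ne
          (Subgroup.eq_of_le_of_card_ge le_sup_left (not_lt.mp hle))
      have hltS : Nat.card E < Nat.card S := by
        by_contra hle
        exact hlt.ne (Subgroup.eq_of_le_of_card_ge hlt.le (not_lt.mp hle))
      have hd0 : Nat.card S ≤ Nat.card ↥(E ⊔ normalizerIn S E) + (d - 1) := by omega
      have h := IH (d - 1) (by omega) _ f' hf' hd0 x (Subgroup.mem_sup_left x.2)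
      rwa [hfe x.2, autFun_coe] at h

theorem inner_iff [Finite S] (p : ℕ) [Fact p.Prime] (hS : IsPGroup p ↥S) (F : Cfsg.FusionSystem S)
    (hF : F.IsSaturated p) :
    (∀ P : Subgroup Ω, F.Hom P = (Cfsg.innerFusionSystem S).Hom P) ↔
      (∀ N : Cfsg.FusionSystem (normalizerIn S S), F.IsNormalizerSystem S N → ∀ P : Subgroup Ω,
        N.Hom P = (Cfsg.innerFusionSystem (normalizerIn S S)).Hom P) ∧
      F.StronglyClosed ((frattini ↥S).map S.subtype) := by
  have hle : normalizerIn S S = S := inf_eq_left.2 Subgroup.le_normalizer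
  constructor
  · intro h
    refine ⟨fun N hN P => Set.Subset.antisymm (fun φ hφ => ?_) (inner_le N P), ?_, ?_⟩
    · rw [hN P] at hφ
      obtain ⟨-, g, hg, hgx⟩ := (h P).le hφ.1
      exact ⟨hφ.2.1, g, by rwa [hle], hgx⟩
    · exact Subgroup.map_subtype_le _
    · intro R hR φ hφ x
      obtain ⟨-, g, hg, hgx⟩ := (h R).le hφ
      rw [hgx x]
      exact phi_conj_mem hg (hR x.2)
  · rintro ⟨hN, hcl⟩
    have hinn : ∀ f, IsIso F S S f → ∃ g ∈ S, ∀ x ∈ S, f x = g * x * g⁻¹ := by
      intro f hf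
      have hN' := isNormalizerSystem_normalizerSystem (F := F) S le_rfl
      have hm : IsMap (normalizerSystem F S le_rfl) S f := (IsNormalizerSystem.isMap_iff hN').2
        ⟨hf.1, hle.ge, fun x hx => hle.ge (hf.mem hx), f, by rw [sup_idem]; exact hf.1,
          fun _ _ => rfl, hf.2⟩
      obtain ⟨φ, hφ, hφf⟩ := hm
      obtain ⟨-, g, hg, hgx⟩ := (hN _ hN' S).le hφ
      exact ⟨g, hle.le hg, fun x hx => (hφf ⟨x, hx⟩).symm.trans (hgx _)⟩
    have hfocF : F.focalSubgroup ≤ (frattini ↥S).map S.subtype := by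
      refine (Subgroup.closure_le _).2 ?_
      rintro _ ⟨P, φ, x, hφ, rfl⟩
      have h := inv_mul_mem_phi hS hF hcl hinn P _ (isMap_extFun hφ) x x.2
      rwa [extFun_coe] at h
    have hsub : (Cfsg.innerFusionSystem S).IsSubsystemOf F := fun P => inner_le F P
    have hfocI : (Cfsg.innerFusionSystem S).focalSubgroup ≤ (frattini ↥S).map S.subtype :=
      le_trans (Subgroup.closure_mono fun y hy => by
        obtain ⟨P, φ, x, hφ, rfl⟩ := hy
        exact ⟨P, φ, x, hsub P hφ, rfl⟩) hfocF
    have hhyp := S5224.hyperfocal_eq_of_frattini hS hF (inner_isSaturated hS) hsub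
      (by rw [sup_eq_left.2 hfocF, sup_eq_left.2 hfocI])
    have hbot : (Cfsg.innerFusionSystem S).hyperfocalSubgroup p = ⊥ := by
      refine le_bot_iff.1 ((Subgroup.closure_le _).2 ?_)
      rintro _ ⟨P, α, x, hP, hα, rfl⟩
      haveI := finite_of_le hP
      haveI := finite_mulAut P
      have hpg : IsPGroup p ((Cfsg.innerFusionSystem S).autGroup P) := by
        rw [inner_autGroup hP, ← range_conjAutHom]
        exact (hS.of_injective _ (Subgroup.inclusion_injective (normalizerIn_le S P))).of_surjective _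
          (MonoidHom.rangeRestrict_surjective _)
      have h1 : pResidual p ((Cfsg.innerFusionSystem S).autGroup P) ≤ ⊥ := by
        refine (Subgroup.closure_le _).2 fun g hg => ?_
        obtain ⟨k, hk⟩ := (IsPGroup.iff_orderOf.1 hpg) g
        refine Subgroup.mem_bot.2 (orderOf_eq_one_iff.1 ?_)
        exact Nat.Coprime.eq_one_of_dvd (hg.pow_right k) (hk ▸ dvd_refl _)
      rw [Subgroup.mem_bot.1 (h1 hα)]
      simp
    intro P
    refine Set.Subset.antisymm (fun φ hφ => ?_) (hsub P)
    obtain ⟨g, hg, hgx⟩ := exists_conj_mod_hyperfocal hS hF P _ (isMap_extFun hφ)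
    refine ⟨(isMap_extFun hφ).dom_le, g, hg, fun x => ?_⟩
    have h := hgx x x.2
    rw [hhyp, hbot, Subgroup.mem_bot, inv_mul_eq_one, extFun_coe] at h
    exact h.symm

/-- Let p be a prime and F a saturated fusion system over a finite p-group S. Then F is the inner fusion system of S if and only if the normalizer fusion system of S itself in F is the inner fusion system (equivalently, Aut_F(S) is induced by S) and the Frattini subgroup Φ(S) is strongly closed in F. -/
theorem result {Ω : Type*} [Group Ω] {S : Subgroup Ω} [Finite S] (p : ℕ) [Fact p.Prime] (hS : IsPGroup p ↥S) (F : Cfsg.FusionSystem S) (hF : F.IsSaturated p) : (∀ P : Subgroup Ω, F.Hom P = (Cfsg.innerFusionSystem S).Hom P) ↔ (∀ N : Cfsg.FusionSystem (Cfsg.FusionSystem.normalizerIn S S), F.IsNormalizerSystem S N → ∀ P : Subgroup Ω, N.Hom P = (Cfsg.innerFusionSystem (Cfsg.FusionSystem.normalizerIn S S)).Hom P) ∧ F.StronglyClosed ((frattini ↥S).map S.subtype) := by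
  exact inner_iff p hS F hF

end Cfsg.Agent.S5276
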