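import Cfsg.Statements.S5222
import Cfsg.Agent.S5276
import Cfsg.Agent.Lib.Fusion.Normal
import Cfsg.Agent.Lib.Fusion.SubSat

set_option autoImplicit false
open Cfsg

namespace Cfsg.Agent.S5222


open Cfsg.Agent.Fusion
open Cfsg.FusionSystem (normalizerIn)

section

variable {Ω : Type*} [Group Ω] {S : Subgroup Ω}

/-- Every map is trivial modulo a normal subgroup containing the derived group, when the
automorphisms of `S` are trivial modulo it. -/
theorem inv_mul_mem [Finite S] {p : ℕ} [Fact p.Prime] (hS : IsPGroup p S)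
    {F : Cfsg.FusionSystem S} (hF : F.IsSaturated p) {Q : Subgroup Ω} (hQ : F.IsNormal Q)
    (hcom : ∀ g ∈ S, ∀ x ∈ S, x⁻¹ * (g * x * g⁻¹) ∈ Q)
    (hinn : ∀ f, IsIso F S S f → ∀ x ∈ S, x⁻¹ * f x ∈ Q) :
    ∀ P f, IsMap F P f → ∀ x ∈ P, x⁻¹ * f x ∈ Q := by
  classical
  refine alperin_induction_cr hS hF (fun P f => ∀ x ∈ P, x⁻¹ * f x ∈ Q) ?_ ?_ ?_ ?_
  · intro P f g h he x hx
    exact he hx ▸ h x hx
  · intro P R f g hf _ h1 h2 x hx
    have h := Q.mul_mem (h1 x hx) (h2 _ (hf.mem hx))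
    simpa [mul_assoc] using h
  · intro P R f _ hle h x hx
    exact h x (hle hx)
  intro E hc hr hEn f hf
  have hES := hEn.1
  haveI := finite_of_le hES
  haveI := finite_mulAut E
  have hQE : Q ≤ E := normal_le_centric_radical hS hQ hc hr
  have hSE : S ≤ Subgroup.normalizer (E : Set Ω) := by
    intro g hg
    refine Subgroup.mem_normalizer_iff.2 fun x => ⟨fun hx => ?_, fun hx => ?_⟩
    · have := E.mul_mem hx (hQE (hcom g hg x (hES hx)))
      simpa using this
    · have := E.mul_mem hx (hQE (hcom g⁻¹ (S.inv_mem hg) _ (hES hx)))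
      simpa [mul_assoc] using this
  have hnE : normalizerIn S E = S := inf_eq_left.2 hSE
  have hclQ := stronglyClosed_iff.1 (stronglyClosed_of_normal hQ)
  let K : Subgroup (F.autGroup E) :=
    { carrier := {α | ∀ x : E, (x : Ω)⁻¹ * (((α : MulAut E) x : E) : Ω) ∈ Q}
      one_mem' := fun x => by simp
      mul_mem' := fun {α β} hα hβ x => by
        have h := Q.mul_mem (hβ x) (hα ((β : MulAut E) x))
        show (x : Ω)⁻¹ * (((α : MulAut E) ((β : MulAut E) x) : E) : Ω) ∈ Q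
        simpa [mul_assoc] using h
      inv_mem' := fun {α} hα x => by
        have h := Q.inv_mem (hα ((α : MulAut E)⁻¹ x))
        simpa [mul_assoc] using h }
  have hK : K.Normal := by
    refine ⟨fun α hα δ x => ?_⟩
    set y : E := (δ : MulAut E)⁻¹ x with hy
    have hxy : (δ : MulAut E) y = x := MulAut.apply_inv_self _ _ x
    show (x : Ω)⁻¹ * (((δ : MulAut E) ((α : MulAut E) y) : E) : Ω) ∈ Q
    have h := hclQ.2 E (autFun (δ : MulAut E)) ((mem_autGroup hES).1 δ.2).1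
      ((y⁻¹ * (α : MulAut E) y : E) : Ω) (Subtype.mem _) (hα y)
    rw [autFun_coe, map_mul, map_inv, hxy] at h
    exact h
  obtain ⟨R, hR⟩ := (fullyAutomized_of_fullyNormalized hS hF hEn).2
  have hRK : (R : Subgroup (F.autGroup E)) ≤ K := by
    intro α hα x
    rw [hR, Subgroup.mem_subgroupOf, mem_autInducedBy] at hα
    obtain ⟨g, hg, hgx⟩ := hα
    rw [hgx x]
    exact hcom g hg x (hES x.2)
  have htop : Subgroup.normalizer ((R : Subgroup (F.autGroup E)) : Set (F.autGroup E)) ⊔ K = ⊤ := by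
    haveI := hK
    exact Sylow.normalizer_sup_eq_top' R hRK
  obtain ⟨α, hα, he⟩ := hf.exists_aut
  suffices hall : (⟨α, hα⟩ : F.autGroup E) ∈ K by
    intro x hx
    rw [← he hx, autFun_of_mem _ hx]
    exact hall ⟨x, hx⟩
  refine (htop.ge.trans (sup_le ?_ le_rfl)) (Subgroup.mem_top _)
  intro δ hδ x
  have hiso := (mem_autGroup hES).1 δ.2
  have hM : IsExtendable S E (autFun (δ : MulAut E)) (normalizerIn S E) := by
    refine ⟨normalizerIn_le S E, fun g hg => ⟨hg.2, ?_⟩⟩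
    let γ : MulAut E := conjAutHom S E ⟨g, hg⟩
    have hγ : γ ∈ autInducedBy S E := by rw [← range_conjAutHom]; exact ⟨_, rfl⟩
    have hγF : γ ∈ F.autGroup E := autInducedBy_le_autGroup hES hγ
    have hc' : δ * ⟨γ, hγF⟩ * δ⁻¹ ∈ (R : Subgroup (F.autGroup E)) :=
      (Subgroup.mem_normalizer_iff.1 hδ _).1 (by rw [hR, Subgroup.mem_subgroupOf]; exact hγ)
    rw [hR, Subgroup.mem_subgroupOf, mem_autInducedBy] at hc'
    obtain ⟨h, hh, hhx⟩ := hc'
    refine ⟨h, hh, fun z hz => ?_⟩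
    have h2 := hhx ((δ : MulAut E) ⟨z, hz⟩)
    simp only [Subgroup.coe_mul, Subgroup.coe_inv, MulAut.mul_apply, MulAut.inv_apply_self] at h2
    rw [autFun_of_mem _ hz, autFun_of_mem _ (conj_mem_of_mem_normalizer hg.2 hz), ← h2]
    congr 2
  obtain ⟨f', hf', hfe⟩ := receptive_extend (receptive_of_fullyNormalized hS hF hEn) hiso hM
  rw [hnE, sup_eq_right.2 hES] at hf'
  obtain ⟨S', hS'⟩ := hf'.exists_image
  have hSS : S' = S :=
    Subgroup.eq_of_le_of_card_ge hS'.cod_le (le_of_eq hS'.card_eq)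
  rw [hSS] at hS'
  have h := hinn f' hS' x (hES x.2)
  rwa [hfe x.2, autFun_coe] at h

/-- A system in which all automorphisms of `S` are inner and a normal subgroup lies between the
derived and the Frattini subgroup is inner. -/
theorem inner_of [Finite S] {p : ℕ} [Fact p.Prime] (hS : IsPGroup p S)
    {F : Cfsg.FusionSystem S} (hF : F.IsSaturated p) {Q : Subgroup Ω} (hQ : F.IsNormal Q)
    (h1 : (commutator ↥S).map S.subtype ≤ Q) (h2 : Q ≤ (frattini ↥S).map S.subtype)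
    (hinn : ∀ f, IsIso F S S f → ∃ g ∈ S, ∀ x ∈ S, f x = g * x * g⁻¹) :
    ∀ P, F.Hom P = (Cfsg.innerFusionSystem S).Hom P := by
  have hcom : ∀ g ∈ S, ∀ x ∈ S, x⁻¹ * (g * x * g⁻¹) ∈ Q := by
    intro g hg x hx
    refine h1 ⟨⟨x, hx⟩⁻¹ * (⟨g, hg⟩ * ⟨x, hx⟩ * ⟨g, hg⟩⁻¹), ?_, by simp⟩
    have := Subgroup.commutator_mem_commutator (H₁ := (⊤ : Subgroup S)) (H₂ := ⊤)
      (Subgroup.mem_top (⟨x, hx⟩⁻¹ : S)) (Subgroup.mem_top (⟨g, hg⟩ : S))
    rw [commutator_def]
    simpa [commutatorElement_def, mul_assoc] using this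
  have key := inv_mul_mem hS hF hQ hcom fun f hf x hx => by
    obtain ⟨g, hg, hgx⟩ := hinn f hf
    rw [hgx x hx]
    exact hcom g hg x hx
  have hcl : F.StronglyClosed ((frattini ↥S).map S.subtype) := by
    refine stronglyClosed_iff.2 ⟨Subgroup.map_subtype_le _, fun P f hf x hx hxΦ => ?_⟩
    have := Subgroup.mul_mem _ hxΦ (h2 (key P f hf x hx))
    simpa using this
  refine (S5276.inner_iff p hS F hF).2 ⟨fun M hM P => Set.Subset.antisymm (fun φ hφ => ?_) ?_, hcl⟩
  · rw [hM P] at hφ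
    obtain ⟨hφF, hP, -, ψ, hψ, hψφ, hψS⟩ := hφ
    have hP' : P ⊔ S = S := sup_eq_right.2 (hP.trans (normalizerIn_le S S))
    have hmap : IsMap F S (extFun ψ) := (isMap_extFun hψ).mono hP'.ge
    obtain ⟨S', hS'⟩ := hmap.exists_image
    have hSS : S' = S := Subgroup.eq_of_le_of_card_ge hS'.cod_le (le_of_eq hS'.card_eq)
    rw [hSS] at hS'
    obtain ⟨g, hg, hgx⟩ := hinn _ hS'
    refine ⟨hP, g, ?_, fun x => ?_⟩
    · exact ⟨hg, Subgroup.le_normalizer hg⟩
    · rw [← hψφ x, ← extFun_coe ψ, Subgroup.coe_inclusion]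
      exact hgx x ((normalizerIn_le S S) (hP x.2))
  · exact Fus93.inner_le M P

end

theorem aux {Ω : Type*} [Group Ω] {S : Subgroup Ω} [Finite S] (p : ℕ) [Fact p.Prime]
    (hS : IsPGroup p S) (F : Cfsg.FusionSystem S) (hF : F.IsSaturated p)
    (hN : ∀ N : Cfsg.FusionSystem (normalizerIn S S), F.IsNormalizerSystem S N →
      ∀ P : Subgroup Ω, N.Hom P = (Cfsg.innerFusionSystem (normalizerIn S S)).Hom P)
    (Q : Subgroup Ω) (h1 : (commutator ↥S).map S.subtype ≤ Q)
    (h2 : Q ≤ (frattini ↥S).map S.subtype) :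
    ∀ N : Cfsg.FusionSystem (normalizerIn S Q), F.IsNormalizerSystem Q N →
      ∀ P : Subgroup Ω, N.Hom P = (Cfsg.innerFusionSystem (normalizerIn S Q)).Hom P := by
  intro N hNQ
  have hQS : Q ≤ S := h2.trans (Subgroup.map_subtype_le _)
  have hSQ : S ≤ Subgroup.normalizer (Q : Set Ω) := by
    intro g hg
    have hc : ∀ g ∈ S, ∀ x ∈ S, g * x * g⁻¹ * x⁻¹ ∈ Q := fun g hg x hx => by
      refine h1 ⟨⟨g, hg⟩ * ⟨x, hx⟩ * ⟨g, hg⟩⁻¹ * ⟨x, hx⟩⁻¹, ?_, rfl⟩
      exact Subgroup.commutator_mem_commutator (Subgroup.mem_top _) (Subgroup.mem_top _)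
    refine Subgroup.mem_normalizer_iff.2 fun x => ⟨fun hx => ?_, fun hx => ?_⟩
    · simpa using Q.mul_mem (hc g hg x (hQS hx)) hx
    · have hx' : x ∈ S := by
        simpa [mul_assoc] using S.mul_mem (S.mul_mem (S.inv_mem hg) (hQS hx)) hg
      have e : x = (g * x * g⁻¹ * x⁻¹)⁻¹ * (g * x * g⁻¹) := by group
      rw [e]
      exact Q.mul_mem (Q.inv_mem (hc g hg x hx')) hx
  have hnQ : normalizerIn S Q = S := inf_eq_left.2 hSQ
  haveI : Finite (normalizerIn S Q) := finite_of_le (normalizerIn_le S Q)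
  have hfn : F.IsFullyNormalized Q :=
    ⟨hQS, fun R _ => by rw [hnQ]; exact Subgroup.card_le_of_le (normalizerIn_le S R)⟩
  have hsat := isNormalizerSystem_isSaturated hS hF hfn N hNQ
  have hQn : N.IsNormal Q := by
    refine isNormal_iff.2 ⟨hnQ.symm ▸ hQS, fun P f hf => ?_⟩
    obtain ⟨-, hP, hfP, f', hf', he, hQ'⟩ := (IsNormalizerSystem.isMap_iff hNQ).1 hf
    refine ⟨f', (IsNormalizerSystem.isMap_iff hNQ).2 ⟨hf', ?_, fun x hx => ?_,
      f', ?_, fun _ _ => rfl, hQ'⟩, he, hQ'⟩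
    · rw [hnQ]; exact hf'.dom_le
    · rw [hnQ]; exact hf'.apply_mem hx
    · rwa [sup_eq_left.2 le_sup_right]
  refine inner_of (hS.of_injective _ (Subgroup.inclusion_injective (normalizerIn_le S Q))) hsat hQn
    ?_ ?_ ?_
  · generalize normalizerIn S Q = T at hnQ ⊢
    subst hnQ
    exact h1
  · generalize normalizerIn S Q = T at hnQ ⊢
    subst hnQ
    exact h2
  · intro f hf
    have hfF : IsMap F S f := by
      have := ((IsNormalizerSystem.isMap_iff hNQ).1 hf.1).1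
      rwa [hnQ] at this
    have hle : normalizerIn S S = S := inf_eq_left.2 Subgroup.le_normalizer
    have hfimg : f '' (S : Set Ω) = (S : Set Ω) := by have := hf.2; rwa [hnQ] at this
    have hS0 := isNormalizerSystem_normalizerSystem (F := F) S le_rfl
    have hm : IsMap (normalizerSystem F S le_rfl) S f := (IsNormalizerSystem.isMap_iff hS0).2
      ⟨hfF, hle.ge, fun x hx => hle.ge (hfF.apply_mem hx), f, by rw [sup_idem]; exact hfF,
        fun _ _ => rfl, hfimg⟩
    obtain ⟨φ, hφ, hφf⟩ := hm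
    obtain ⟨-, g, hg, hgx⟩ := (hN _ hS0 S).le hφ
    refine ⟨g, by rw [hnQ]; exact hle.le hg, fun x hx => ?_⟩
    rw [hnQ] at hx
    exact (hφf ⟨x, hx⟩).symm.trans (hgx _)

/-- Let F be a saturated fusion system over a finite p-group S whose normalizer fusion system of S is the inner fusion system of S (Aut_F(S) is a p-group). Then for every subgroup Q of S with [S, S] ≤ Q ≤ Φ(S), the normalizer fusion system of Q in F is the inner fusion system of N_S(Q) = S. -/
theorem result {Ω : Type*} [Group Ω] {S : Subgroup Ω} [Finite S] (p : ℕ) [Fact p.Prime] (hS : IsPGroup p S) (F : Cfsg.FusionSystem S) (hF : F.IsSaturated p) (hN : ∀ N : Cfsg.FusionSystem (Cfsg.FusionSystem.normalizerIn S S), F.IsNormalizerSystem S N → ∀ P : Subgroup Ω, N.Hom P = (Cfsg.innerFusionSystem (Cfsg.FusionSystem.normalizerIn S S)).Hom P) (Q : Subgroup Ω) (h1 : (commutator ↥S).map S.subtype ≤ Q) (h2 : Q ≤ (frattini ↥S).map S.subtype) : ∀ N : Cfsg.FusionSystem (Cfsg.FusionSystem.normalizerIn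 S Q), F.IsNormalizerSystem Q N → ∀ P : Subgroup Ω, N.Hom P = (Cfsg.innerFusionSystem (Cfsg.FusionSystem.normalizerIn S Q)).Hom P := by
  exact aux p hS F hF hN Q h1 h2

end Cfsg.Agent.S5222
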