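import Cfsg.Statements.S5226
import Cfsg.Agent.Lib.Fusion.Normal
import Cfsg.Agent.Fusion92.Basic

set_option autoImplicit false
open Cfsg

namespace Cfsg.Agent.S5226

open Cfsg.Agent.Fusion
open Cfsg.FusionSystem (normalizerIn)

/-- The inductive step: over a normal term, a weakly closed term is strongly closed. -/
theorem stronglyClosed_step {Ω : Type*} [Group Ω] {S : Subgroup Ω} [Finite S] {p : ℕ} [Fact p.Prime]
    (hS : IsPGroup p S) {F : Cfsg.FusionSystem S} (hF : F.IsSaturated p) {Q N D : Subgroup Ω}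
    (hQ : F.StronglyClosed Q) (hN : F.IsNormal N) (hND : N ≤ D) (hDQ : D ≤ Q)
    (hcomm : ⁅D, Q⁆ ≤ N) (hw : F.WeaklyClosed D) : F.StronglyClosed D := by
  refine stronglyClosed_iff.mpr ⟨hw.1, fun R f hf x hxR hxD => ?_⟩
  obtain ⟨f', hf', he, hN'⟩ := normal_extendsStab hN (hf.mono (Subgroup.zpowers_le.mpr hxR))
  set M := Subgroup.zpowers x ⊔ N with hM
  have hMD : M ≤ D := sup_le (Subgroup.zpowers_le.mpr hxD) hND
  obtain ⟨M', hM'⟩ := hf'.exists_image
  have hNM' : N ≤ M' := fun y hy => by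
    have hy' : y ∈ f' '' (N : Set Ω) := by rw [hN']; exact hy
    obtain ⟨a, ha, rfl⟩ := hy'
    exact hM'.mem (Subgroup.mem_sup_right ha)
  have hM'Q : M' ≤ Q := fun y hy => by
    obtain ⟨a, ha, rfl⟩ := hM'.exists_preimage hy
    exact (stronglyClosed_iff.mp hQ).2 M f' hf' a ha (hDQ (hMD ha))
  have hnorm : ∀ K : Subgroup Ω, N ≤ K → K ≤ Q → D ≤ normalizerIn S K := by
    intro K hNK hKQ c hc
    have : Finite K := finite_of_le (hKQ.trans hQ.1)
    refine ⟨hw.1 hc, Fusion92.mem_normalizer_of_conj_mem fun y hy => ?_⟩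
    have := K.mul_mem (hNK (hcomm (Subgroup.commutator_mem_commutator hc (hKQ hy)))) hy
    simpa [commutatorElement_def] using this
  have himage : ∀ (K : Subgroup Ω) (u : Ω → Ω), D ≤ K → IsMap F K u → IsIso F D D u := by
    intro K u hDK hu
    obtain ⟨D', hD'⟩ := (hu.mono hDK).exists_image
    obtain ⟨φ, hφ, hr⟩ := hD'.isConj
    have : D = D' := (hw.2 φ hφ).symm.trans hr
    exact this ▸ hD'
  obtain ⟨R₀, hR, h1, h2⟩ := exists_automized_receptive hF hf'.dom_le
  obtain ⟨u, hu, huM, -⟩ := exists_normalizer_map hS h1 h2 hR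
  obtain ⟨v, hv, hvM, -⟩ := exists_normalizer_map hS h1 h2 (isConj_trans (isConj_symm hM'.isConj) hR)
  have hDu := himage _ u (hnorm M le_sup_right (hMD.trans hDQ)) hu
  have hR₀D : R₀ ≤ D := fun y hy => by
    obtain ⟨a, ha, rfl⟩ := huM.exists_preimage hy
    exact hDu.mem (hMD ha)
  have hDv := himage _ v (hnorm M' hNM' hM'Q) hv
  have hfx : f' x ∈ M' := hM'.mem (Subgroup.mem_sup_left (Subgroup.mem_zpowers x))
  obtain ⟨c, hc, hce⟩ := hDv.exists_preimage (hR₀D (hvM.mem hfx))
  have := hv.injOn (hnorm M' hNM' hM'Q hc) (le_normalizerIn hM'.cod_le hfx) hce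
  rw [← he (Subgroup.mem_zpowers x), ← this]
  exact hc

/-- Let F be a saturated fusion system over a finite p-group S and Q a subgroup of S. Then Q is normal in F (F equals the normalizer system of Q) if and only if Q is strongly closed in F and admits a central series 1 = Q₀ ≤ Q₁ ≤ ⋯ ≤ Qₙ = Q ([Qᵢ₊₁, Q] ≤ Qᵢ) all of whose proper terms are weakly closed in F. -/
theorem result {Ω : Type*} [Group Ω] {S : Subgroup Ω} [Finite S] (p : ℕ) [Fact p.Prime] (hS : IsPGroup p S) (F : Cfsg.FusionSystem S) (hF : F.IsSaturated p) (Q : Subgroup Ω) : F.IsNormal Q ↔ F.StronglyClosed Q ∧ ∃ (n : ℕ) (C : Fin (n + 1) → Subgroup Ω), C 0 = ⊥ ∧ C (Fin.last n) = Q ∧ Monotone C ∧ (∀ i : Fin n, ⁅C i.succ, Q⁆ ≤ C i.castSucc) ∧ ∀ i : Fin n, F.WeaklyClosed (C i.castSucc) := by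
  constructor
  · intro hN
    have hQ := stronglyClosed_of_normal hN
    obtain ⟨n, hn⟩ := exists_zSer_top (p := p) hS hQ.1
    refine ⟨hQ, n, fun i => zSer Q i, zSer_zero Q, hn, fun i j hij => ?_, fun i => ?_, fun i => ?_⟩
    · exact Subgroup.map_mono (Subgroup.upperCentralSeries_mono _ (Fin.le_iff_val_le_val.mp hij))
    · rw [Subgroup.commutator_comm]
      exact zSer_commutator Q i
    · have hc := stronglyClosed_iff.mp
        (stronglyClosed_of_normal (isNormal_char hN (zSer_le Q i) (zSer_subgroupOf_char Q i)))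
      refine ⟨hc.1, fun φ hφ => ?_⟩
      have hiso := IsMap.isIso_range hφ
      haveI : Finite ((fun j : Fin (n + 1) => zSer Q j) i.castSucc) := finite_of_le hc.1
      refine Subgroup.eq_of_le_of_card_ge ?_ hiso.card_eq.le
      intro y hy
      obtain ⟨x, hx, rfl⟩ := hiso.exists_preimage hy
      exact hc.2 _ _ hiso.1 x hx hx
  · rintro ⟨hQ, n, C, h0, hlast, hmono, hcomm, hw⟩
    set D : ℕ → Subgroup Ω := fun i => C ⟨min i n, by omega⟩ with hD
    have hDC : ∀ (i : ℕ) (hi : i ≤ n), D i = C ⟨i, by omega⟩ := fun i hi => by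
      simp only [hD, min_eq_left hi]
    have hD0 : D 0 = ⊥ := (hDC 0 (Nat.zero_le _)).trans h0
    have hDn : D n = Q := (hDC n le_rfl).trans hlast
    have hle : ∀ i, D i ≤ Q := fun i => hlast ▸ hmono (Fin.le_last _)
    have hc : ∀ i < n, ⁅D (i + 1), Q⁆ ≤ D i := by
      intro i hi
      rw [hDC i hi.le, hDC (i + 1) hi]
      exact hcomm ⟨i, hi⟩
    have hser : ∀ i ≤ n, (∀ j ≤ i, F.StronglyClosed (D j)) → F.IsNormal (D i) := fun i hi h =>
      isNormal_of_series hS hF D i hD0 rfl h fun j hj => by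
        rw [Subgroup.commutator_comm]
        exact (Subgroup.commutator_mono le_rfl (hle i)).trans (hc j (lt_of_lt_of_le hj hi))
    have hall : ∀ i ≤ n, ∀ j ≤ i, F.StronglyClosed (D j) := by
      intro i
      induction i with
      | zero =>
        intro _ j hj
        obtain rfl : j = 0 := by omega
        rw [hD0]
        exact stronglyClosed_iff.mpr ⟨bot_le, fun R f hf x _ hx => by
          rw [Subgroup.mem_bot] at hx ⊢
          rw [hx, hf.map_one]⟩
      | succ i ih =>
        intro hi j hj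
        rcases Nat.lt_or_ge j (i + 1) with hlt | hge
        · exact ih (by omega) j (by omega)
        obtain rfl : j = i + 1 := by omega
        rcases Nat.lt_or_ge (i + 1) n with hlt | hge
        · refine stronglyClosed_step hS hF hQ (hser i (by omega) (ih (by omega))) ?_ (hle _)
            (hc i (by omega)) ?_
          · rw [hDC i (by omega), hDC (i + 1) hi]
            exact hmono (Fin.le_iff_val_le_val.mpr (Nat.le_succ i))
          · rw [hDC (i + 1) hi]
            exact hw ⟨i + 1, hlt⟩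
        · obtain rfl : i + 1 = n := by omega
          rw [hDn]
          exact hQ
    exact hDn ▸ hser n le_rfl (hall n le_rfl)

end Cfsg.Agent.S5226
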