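import Cfsg.Statements.S5233
import Mathlib
import Cfsg.Agent.FG75.GenExtraClosed
import Cfsg.Agent.Lib.Fusion.Normal

set_option autoImplicit false
set_option linter.all false
open Cfsg
open Cfsg.Agent
open scoped commutatorElement

namespace Cfsg.Agent.S5233

/-- Let F be a saturated fusion system over a finite p-group S and P a subgroup of S strongly closed in F that is generalized extraspecial (its Frattini subgroup equals its commutator subgroup and has order p) and not isomorphic to E × A with A elementary abelian and E dihedral of order 8 (p = 2) or extraspecial of order p³ and exponent p (p odd). Then P is normal in F. -/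
theorem result {Ω : Type*} [Group Ω] {S : Subgroup Ω} [Finite S] (p : ℕ) [Fact p.Prime] (hS : IsPGroup p S) (F : Cfsg.FusionSystem S) (hF : F.IsSaturated p) (P : Subgroup Ω) (hP : F.StronglyClosed P) (hge : frattini ↥P = commutator ↥P ∧ Nat.card ↥(commutator ↥P) = p) (h2 : p = 2 → ¬ ∃ (A : Type) (_ : CommGroup A), (∀ a : A, a ^ 2 = 1) ∧ Nonempty (↥P ≃* DihedralGroup 4 × A)) (hodd : p ≠ 2 → ¬ ∃ (E : Type) (_ : Group E) (A : Type) (_ : CommGroup A), Cfsg.IsExtraspecial p E ∧ Nat.card E = p ^ 3 ∧ Monoid.exponent E = p ∧ (∀ a : A, a ^ p = 1) ∧ Nonempty (↥P ≃* E × A)) : F.IsNormal P := by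
  haveI : Finite P := Fusion.finite_of_le hP.1
  have hPp : IsPGroup p P := hS.to_le hP.1
  have hd := FG75.GenExtraClosed.derived_closed hS hF hP hge.1 hge.2 h2 hodd
  set Z0 := (commutator ↥P).map P.subtype with hZ0
  have hb : F.StronglyClosed (⊥ : Subgroup Ω) := Fusion.stronglyClosed_iff.mpr ⟨bot_le, fun R f hf x _ hx => by
    rw [Subgroup.mem_bot] at hx ⊢
    rw [hx, hf.map_one]⟩
  refine Fusion.isNormal_of_series hS hF (fun i => if i = 0 then ⊥ else if i = 1 then Z0 else P) 2 rfl rfl
    (fun i hi => ?_) fun i hi => ?_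
  · interval_cases i
    · exact hb
    · exact hd
    · exact hP
  · interval_cases i
    · show ⁅P, Z0⁆ ≤ ⊥
      rw [Subgroup.commutator_le]
      intro a ha z hz
      obtain ⟨w, hw, rfl⟩ := hz
      have hc := PGroup.le_center_of_card_eq_prime hPp (N := commutator ↥P) hge.2 hw
      rw [Subgroup.mem_bot, commutatorElement_eq_one_iff_mul_comm]
      exact congrArg Subtype.val (Subgroup.mem_center_iff.mp hc ⟨a, ha⟩)
    · show ⁅P, P⁆ ≤ Z0
      rw [hZ0, Subgroup.commutator_le]
      intro a ha b hb'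
      exact ⟨⁅(⟨a, ha⟩ : P), ⟨b, hb'⟩⁆, FG75.MetaClosed.cm _ _, rfl⟩

end Cfsg.Agent.S5233
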