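import Cfsg.Statements.S5234
import Mathlib
import Cfsg.Agent.FG75.MetaClosed

set_option autoImplicit false
set_option linter.all false
open Cfsg

namespace Cfsg.Agent.S5234

/-- Let p be an odd prime, F a saturated fusion system over a finite p-group S and P a metacyclic subgroup of S strongly closed in F. Then P is normal in F. -/
theorem result {Ω : Type*} [Group Ω] {S : Subgroup Ω} [Finite S] (p : ℕ) [Fact p.Prime] (hS : IsPGroup p S) (F : Cfsg.FusionSystem S) (hF : F.IsSaturated p) (P : Subgroup Ω) (hP : F.StronglyClosed P) (hp : p ≠ 2) (hm : Cfsg.IsMetacyclic ↥P) : F.IsNormal P := by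
  haveI : Finite P := Fusion.finite_of_le hP.1
  have hPf := FG75.MetaClosed.facts_of_metacyclic hp (hS.to_le hP.1) hm
  refine Fusion.isNormal_of_invariant hS hF fun R hR => ?_
  have hRS : R ≤ S := by rcases hR with rfl | h; exacts [le_rfl, h.1.1]
  have hPR : P ≤ R := by
    rcases hR with rfl | h
    · exact hP.1
    · exact FG75.MetaClosed.le_of_automized hp hS hP hPf h.1 (Fusion.isRadical_of_essential hS h)
        (Fusion.fullyAutomized_of_fullyNormalized hS hF h.2.1)
        (Fusion.receptive_of_fullyNormalized hS hF h.2.1)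
  refine ⟨hPR, fun α hα => ?_⟩
  have h := Fusion.closed_autFun_image hP hRS hα
  rwa [inf_eq_left.mpr hPR] at h

end Cfsg.Agent.S5234
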