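import Cfsg.Statements.S5235
import Cfsg.Agent.Fus93.Criteria
import Cfsg.Agent.TwoFusion36.MetacyclicFusion
-- import your own Cfsg.Agent.* helpers here

set_option autoImplicit false
open Cfsg

namespace Cfsg.Agent.S5235

set_option linter.style.haveILetI false

open Cfsg.Agent.Fusion Cfsg.Agent.TwoFusion36
open Cfsg.FusionSystem (normalizerIn centralizerIn)

universe u

variable {Ω : Type u} [Group Ω] {S : Subgroup Ω} [Finite S] {F : FusionSystem S}

/-- A subgroup normalised by `R` and not contained in `R` has an element normalising `R` outside it,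
with square in `R`. -/
theorem exists_normalizing (hS : IsPGroup 2 S) {R T : Subgroup Ω} (hRS : R ≤ S) (hTS : T ≤ S)
    (hnorm : R ≤ Subgroup.normalizer (T : Set Ω)) (hTR : ¬ T ≤ R) :
    ∃ t ∈ T, t ∈ Subgroup.normalizer (R : Set Ω) ∧ t ∉ R ∧ t * t ∈ R := by
  haveI : Fact (Nat.Prime 2) := ⟨Nat.prime_two⟩
  obtain ⟨t₀, ht₀, ht₀R⟩ := SetLike.not_le_iff_exists.mp hTR
  set M : Subgroup Ω := R ⊔ T
  have hMS : M ≤ S := sup_le hRS hTS
  haveI := finite_of_le hMS
  have hRM : R ≠ M := fun h => ht₀R (h.symm ▸ Subgroup.mem_sup_right ht₀)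
  haveI := (hS.of_injective _ (Subgroup.inclusion_injective hMS)).isNilpotent
  obtain ⟨r, hrN, hrR⟩ := SetLike.exists_of_lt (Group.normalizerCondition_of_isNilpotent
    (R.subgroupOf M) (lt_top_iff_ne_top.mpr fun h =>
      hRM (le_antisymm le_sup_left (Subgroup.subgroupOf_eq_top.mp h))))
  obtain ⟨a, ha, b, hb, hab⟩ : ∃ a ∈ R, ∃ b ∈ T, a * b = (r : Ω) := by
    have h1 : (r : Ω) ∈ ((R ⊔ T : Subgroup Ω) : Set Ω) := r.2
    rw [Subgroup.coe_mul_of_left_le_normalizer_right R T hnorm] at h1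
    exact h1
  have hrn : (r : Ω) ∈ Subgroup.normalizer (R : Set Ω) := by
    refine Subgroup.mem_normalizer_iff.mpr fun y => ⟨fun hy => ?_, fun hy => ?_⟩
    · exact (Subgroup.mem_normalizer_iff.mp hrN ⟨y, (le_sup_left : R ≤ M) hy⟩).mp hy
    · have hyM : y ∈ M := by
        have := M.mul_mem (M.mul_mem (M.inv_mem r.2) ((le_sup_left : R ≤ M) hy)) r.2
        simpa [mul_assoc] using this
      exact (Subgroup.mem_normalizer_iff.mp hrN ⟨y, hyM⟩).mpr hy
  have hbN : b ∈ Subgroup.normalizer (R : Set Ω) := by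
    rw [show b = a⁻¹ * (r : Ω) by rw [← hab]; group]
    exact mul_mem (inv_mem (R.le_normalizer ha)) hrn
  have hbR : b ∉ R := fun h => hrR (Subgroup.mem_subgroupOf.mpr (hab ▸ mul_mem ha h))
  have key : ∀ (k : ℕ) (c : Ω), c ∈ T → c ∈ Subgroup.normalizer (R : Set Ω) → c ∉ R → c ^ 2 ^ k = 1 →
      ∃ t ∈ T, t ∈ Subgroup.normalizer (R : Set Ω) ∧ t ∉ R ∧ t * t ∈ R := by
    intro k
    induction k with
    | zero =>
      intro c _ _ hcR hc
      rw [pow_zero, pow_one] at hc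
      exact absurd (hc ▸ one_mem R) hcR
    | succ k ih =>
      intro c hc hcN hcR hck
      by_cases hcc : c * c ∈ R
      · exact ⟨c, hc, hcN, hcR, hcc⟩
      · rw [pow_succ', pow_mul, sq] at hck
        exact ih (c * c) (mul_mem hc hc) (mul_mem hcN hcN) hcc hck
  obtain ⟨k, hk⟩ := hS ⟨b, hTS hb⟩
  exact key k b hb hbN hbR (congrArg Subtype.val hk)

/-- An element of a strongly closed subgroup `T` normalising the centric radical subgroup `R` and fixing
enough of `R ⊓ T` lies in `R`. -/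
theorem mem_of_fix (hS : IsPGroup 2 S) {R T : Subgroup Ω} (hT : F.StronglyClosed T)
    (hc : F.IsCentric R) (hr : F.IsRadical 2 R) (Q : MulAut R → Prop) (hQ1 : Q 1)
    (hQm : ∀ α ∈ F.autGroup R, ∀ β ∈ F.autGroup R, Q α → Q β → Q (α * β))
    (hQc : ∀ α ∈ F.autGroup R, ∀ β ∈ F.autGroup R, Q α → Q (β * α * β⁻¹))
    (hQfix : ∀ β ∈ F.autGroup R, Q β → Odd (orderOf β) → ∀ x : R, (x : Ω) ∈ T → β x = x)
    {g : Ω} (hgT : g ∈ T) (hgN : g ∈ Subgroup.normalizer (R : Set Ω))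
    (hQg : Q (conjAutHom S R ⟨g, hT.1 hgT, hgN⟩)) : g ∈ R := by
  haveI : Fact (Nat.Prime 2) := ⟨Nat.prime_two⟩
  obtain ⟨hTS, hTc⟩ := stronglyClosed_iff.mp hT
  haveI := finite_of_le hc.1
  haveI := finite_mulAut R
  set D : Subgroup R := T.subgroupOf R
  have hinv : ∀ α ∈ F.autGroup R, ∀ x ∈ D, α x ∈ D := fun α hα x hx => by
    have h1 := hTc R _ ((mem_autGroup hc.1).mp hα).1 x x.2 hx
    rw [autFun_of_mem α x.2] at h1
    exact h1
  let M : Submonoid (F.autGroup R) :=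
    { carrier := {α | (∀ x : R, x⁻¹ * (α : MulAut R) x ∈ D) ∧ Q α}
      one_mem' := ⟨fun x => by simp, hQ1⟩
      mul_mem' := fun {a b} ha hb => ⟨fun x => by
        show x⁻¹ * (a : MulAut R) ((b : MulAut R) x) ∈ D
        have h := mul_mem (ha.1 x) (hinv _ a.2 _ (hb.1 x))
        simpa [map_mul, mul_assoc] using h, hQm _ a.2 _ b.2 ha.2 hb.2⟩ }
  have hMinv : ∀ a : F.autGroup R, a ∈ M → a⁻¹ ∈ M := by
    intro a ha
    have h : a⁻¹ = a ^ (orderOf a - 1) :=
      inv_eq_of_mul_eq_one_left (by rw [← pow_succ, Nat.sub_add_cancel (orderOf_pos a), pow_orderOf_eq_one])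
    rw [h]
    exact pow_mem ha _
  let K : Subgroup (F.autGroup R) := Subgroup.mk M (fun {a} ha => hMinv a ha)
  have hK : K.Normal := ⟨fun a ha b => ⟨fun x => by
    set y := ((b⁻¹ : F.autGroup R) : MulAut R) x
    have h2 := hinv _ b.2 _ (ha.1 y)
    show x⁻¹ * (b : MulAut R) ((a : MulAut R) (((b⁻¹ : F.autGroup R) : MulAut R) x)) ∈ D
    simpa [y] using h2, hQc _ a.2 _ b.2 ha.2⟩⟩
  have hR2 : IsPGroup 2 R := hS.of_injective _ (Subgroup.inclusion_injective hc.1)
  have hKp : IsPGroup 2 K := by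
    intro a
    obtain ⟨i, m, hm', hmn⟩ := Nat.exists_eq_two_pow_mul_odd (orderOf_pos a).ne'
    refine ⟨i, Subtype.ext (Subtype.ext ?_)⟩
    set β : MulAut R := (((a ^ 2 ^ i : K) : F.autGroup R) : MulAut R) with hβ
    have hodd : Odd (orderOf β) := by
      refine hm'.of_dvd_nat (orderOf_dvd_of_pow_eq_one ?_)
      rw [hβ, ← SubmonoidClass.coe_pow, ← SubmonoidClass.coe_pow, ← pow_mul, ← hmn, pow_orderOf_eq_one]
      rfl
    have hmem : (∀ x : R, x⁻¹ * β x ∈ D) ∧ Q β := (a ^ 2 ^ i).2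
    refine MulEquiv.ext fun x => ?_
    exact Fus93.eq_self_of_fixed hR2 (Nat.coprime_two_right.mpr hodd) x
      (hQfix β (SetLike.coe_mem _) hmem.2 hodd _ (hmem.1 x))
  refine Fus93.mem_of_mem_pCore_radical hc hr ⟨hTS hgT, hgN⟩ (Thompson.le_pCore hK hKp ⟨fun x => ?_, hQg⟩)
  show (x : Ω)⁻¹ * (g * x * g⁻¹) ∈ T
  have hxg : (x : Ω)⁻¹ * g * (x : Ω)⁻¹⁻¹ ∈ T :=
    hTc T _ (isMap_conj hTS (S.inv_mem (hc.1 x.2))) g hgT hgT
  rw [show (x : Ω)⁻¹ * (g * x * g⁻¹) = ((x : Ω)⁻¹ * g * (x : Ω)⁻¹⁻¹) * g⁻¹ by group]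
  exact mul_mem hxg (inv_mem hgT)

theorem four_cases (a b c : Multiplicative (ZMod 2) × Multiplicative (ZMod 2))
    (ha : a ≠ 1) (hb : b ≠ 1) (hab : a ≠ b) : c = 1 ∨ c = a ∨ c = b ∨ c = a * b := by
  have key : ∀ a₁ a₂ b₁ b₂ c₁ c₂ : Fin 2, ((a₁, a₂) ≠ (0, 0)) → (b₁, b₂) ≠ (0, 0) → (a₁, a₂) ≠ (b₁, b₂) →
      (c₁, c₂) = (0, 0) ∨ (c₁, c₂) = (a₁, a₂) ∨ (c₁, c₂) = (b₁, b₂) ∨ (c₁, c₂) = (a₁ + b₁, a₂ + b₂) := by
    decide
  exact key a.1 a.2 b.1 b.2 c.1 c.2 ha hb hab

theorem main (hS : IsPGroup 2 S) (hF : F.IsSaturated 2) {T : Subgroup Ω} (hT : F.StronglyClosed T)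
    (hm : Cfsg.IsMetacyclic T) (hsmall : ¬ Metacyclic.Small T) : F.IsNormal T := by
  haveI : Fact (Nat.Prime 2) := ⟨Nat.prime_two⟩
  obtain ⟨hTS, hTc⟩ := stronglyClosed_iff.mp hT
  haveI := finite_of_le hTS
  have hT2 : IsPGroup 2 T := hS.of_injective _ (Subgroup.inclusion_injective hTS)
  refine Fus93.isNormal_of_le_centricRadical hS hF hT fun R _ _ hc hr => ?_
  by_contra hTR
  haveI := finite_of_le hc.1
  have hnorm : R ≤ Subgroup.normalizer (T : Set Ω) := by
    intro g hg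
    refine Subgroup.mem_normalizer_iff.mpr fun y => ⟨fun hy => ?_, fun hy => ?_⟩
    · exact hTc T _ (isMap_conj hTS (hc.1 hg)) y hy hy
    · have h1 := hTc T _ (isMap_conj hTS (S.inv_mem (hc.1 hg))) _ hy hy
      simpa [mul_assoc] using h1
  set D : Subgroup R := T.subgroupOf R
  set ι : D →* T :=
    { toFun := fun x => ⟨((x : R) : Ω), x.2⟩
      map_one' := rfl
      map_mul' := fun _ _ => rfl } with hι
  have hιi : Function.Injective ι := fun a b h =>
    Subtype.ext (Subtype.ext (congrArg (fun z : T => (z : Ω)) h))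
  have hD2 : IsPGroup 2 D := hT2.of_injective ι hιi
  have hinv : ∀ α ∈ F.autGroup R, ∀ x ∈ D, α x ∈ D := fun α hα x hx => by
    have h1 := hTc R _ ((mem_autGroup hc.1).mp hα).1 x x.2 hx
    rw [autFun_of_mem α x.2] at h1
    exact h1
  -- an automorphism of odd order restricted to `D`
  have hres : ∀ β ∈ F.autGroup R, Odd (orderOf β) → ∃ δ : MulAut D, Odd (orderOf δ) ∧
      ∀ x : D, ((δ x : D) : R) = β x := by
    intro β hβ hodd
    let δ : MulAut D := MulEquiv.ofBijective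
      ((β.toMonoidHom.comp D.subtype).codRestrict D fun w => hinv β hβ w w.2)
      (Finite.injective_iff_bijective.mp fun a b h => Subtype.ext (β.injective (congrArg Subtype.val h)))
    refine ⟨δ, hodd.of_dvd_nat (orderOf_dvd_of_pow_eq_one (MulEquiv.ext fun x => Subtype.ext ?_)), fun x => rfl⟩
    have h : ∀ n : ℕ, (((δ ^ n) x : D) : R) = (β ^ n) x := by
      intro n
      induction n with
      | zero => rfl
      | succ n ih => rw [pow_succ', pow_succ', MulAut.mul_apply, MulAut.mul_apply, ← ih]; rfl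
    rw [h, pow_orderOf_eq_one]; rfl
  have hmD := Metacyclic.isMetacyclic_of_injective ι hιi hm
  by_cases hA : IsPGroup 2 (MulAut D)
  · obtain ⟨t, htT, htN, htR, -⟩ := exists_normalizing hS hc.1 hTS hnorm hTR
    refine htR (mem_of_fix hS hT hc hr (fun _ => True) trivial (fun _ _ _ _ _ _ => trivial)
      (fun _ _ _ _ _ => trivial) (fun β hβ _ hodd x hx => ?_) htT htN trivial)
    obtain ⟨δ, hδ, hδe⟩ := hres β hβ hodd
    obtain ⟨k, hk⟩ := hA δ
    have h1 := hδe ⟨x, hx⟩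
    rw [Metacyclic.eq_one_of_odd_of_pow hδ hk, MulAut.one_apply] at h1
    exact h1.symm
  rcases Metacyclic.main _ D rfl hD2 hmD hA with ⟨⟨e⟩⟩ | ⟨n, ⟨e⟩⟩
  · exact hsmall (Metacyclic.small_of_quaternion hT2 hm (ι.comp e.symm.toMonoidHom)
      (hιi.comp e.symm.injective))
  have hab : ∀ a b : D, Commute a b := MetacyclicFusion.commute_of_equiv e
  obtain ⟨hexp, hroot⟩ := MetacyclicFusion.homocyclic_facts e
  -- elements fixing the involutions of `D` lie in `R`
  have hker : ∀ g ∈ T, g ∈ Subgroup.normalizer (R : Set Ω) →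
      (∀ v : D, v * v = 1 → g * ((v : R) : Ω) * g⁻¹ = ((v : R) : Ω)) → g ∈ R := by
    intro g hgT hgN hfix
    refine mem_of_fix hS hT hc hr (fun α => ∀ v : D, v * v = 1 → α v = v) (fun _ _ => rfl)
      (fun α _ β _ ha hb v hv => by rw [MulAut.mul_apply, hb v hv, ha v hv])
      (fun α _ β hβ ha v hv => ?_) (fun β hβ hQ hodd x hx => ?_) hgT hgN
      (fun v hv => Subtype.ext (hfix v hv))
    · have hw : β⁻¹ (v : R) ∈ D := hinv _ (inv_mem hβ) _ v.2
      have h1 := ha ⟨_, hw⟩ (Subtype.ext (by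
        show β⁻¹ (v : R) * β⁻¹ (v : R) = 1
        rw [← map_mul, ← Subgroup.coe_mul, hv, Subgroup.coe_one, map_one]))
      show β (α (β⁻¹ (v : R))) = v
      rw [h1, MulAut.apply_inv_self]
    · obtain ⟨δ, hδ, hδe⟩ := hres β hβ hodd
      have hδ1 : δ = 1 := MetacyclicFusion.eq_one_of_fix_involutions hD2 hab hδ
        fun v hv => Subtype.ext ((hδe v).trans (hQ v hv))
      have h1 := hδe ⟨x, hx⟩
      rw [hδ1, MulAut.one_apply] at h1
      exact h1.symm
  obtain ⟨g, hgT, hgN, hgR, hgg⟩ := exists_normalizing hS hc.1 hTS hnorm hTR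
  obtain ⟨u, hu, hmove⟩ : ∃ u : D, u * u = 1 ∧ g * ((u : R) : Ω) * g⁻¹ ≠ ((u : R) : Ω) := by
    by_contra h
    push Not at h
    exact hgR (hker g hgT hgN h)
  have hgD : ∀ x : D, ∃ y : D, ((y : R) : Ω) = g * ((x : R) : Ω) * g⁻¹ := fun x => by
    have hxR : g * ((x : R) : Ω) * g⁻¹ ∈ R := Fusion.conj_mem_of_mem_normalizer hgN (x : R).2
    exact ⟨⟨⟨_, hxR⟩, T.mul_mem (T.mul_mem hgT x.2) (T.inv_mem hgT)⟩, rfl⟩
  by_cases hn2 : 2 ≤ n
  · exact Metacyclic.no_homocyclic hT2 hm ι.range n hn2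
      (by rintro _ ⟨a, rfl⟩ _ ⟨b, rfl⟩; exact (hab a b).map ι)
      (by rintro _ ⟨a, rfl⟩; rw [← map_pow, hexp, map_one])
      (by
        rintro _ ⟨a, rfl⟩ ha
        obtain ⟨w, hw⟩ := hroot a (hιi (by rw [map_mul, ha, map_one]))
        exact ⟨ι w, ⟨w, rfl⟩, by rw [← map_pow, hw]⟩)
      (g := ⟨g, hgT⟩) (u := ι u)
      (by rintro _ ⟨a, rfl⟩; obtain ⟨y, hy⟩ := hgD a; exact ⟨y, Subtype.ext hy⟩)
      ⟨⟨⟨_, hgg⟩, mul_mem hgT hgT⟩, Subtype.ext rfl⟩ ⟨u, rfl⟩ (by rw [← map_mul, hu, map_one])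
      fun h => hmove (congrArg Subtype.val h)
  have hu1 : u ≠ 1 := fun h => hmove (by rw [h]; simp)
  obtain ⟨u', hu'⟩ := hgD u
  have hu'2 : u' * u' = 1 := Subtype.ext (Subtype.ext (by
    show ((u' : R) : Ω) * ((u' : R) : Ω) = 1
    rw [hu', show g * ((u : R) : Ω) * g⁻¹ * (g * ((u : R) : Ω) * g⁻¹) =
      g * (((u * u : D) : R) : Ω) * g⁻¹ by simp only [Subgroup.coe_mul]; group, hu]
    simp))
  have hu'1 : u' ≠ 1 := fun h => hu1 (Subtype.ext (Subtype.ext (conj_eq_one_iff.mp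
    (hu' ▸ congrArg (fun z : D => ((z : R) : Ω)) h))))
  have huu' : u ≠ u' := fun h => hmove (by rw [← hu', h])
  obtain rfl : n = 1 := by
    rcases n with _ | _ | n
    · exact absurd ((by simpa using hexp u : u = 1)) hu1
    · rfl
    · omega
  have hcases : ∀ v : D, v = 1 ∨ v = u ∨ v = u' ∨ v = u * u' := fun v => by
    rcases four_cases (e u) (e u') (e v) (fun h => hu1 (e.injective (h.trans (map_one e).symm)))
      (fun h => hu'1 (e.injective (h.trans (map_one e).symm))) (fun h => huu' (e.injective h))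
      with h | h | h | h
    · exact Or.inl (e.injective (h.trans (map_one e).symm))
    · exact Or.inr (Or.inl (e.injective h))
    · exact Or.inr (Or.inr (Or.inl (e.injective h)))
    · exact Or.inr (Or.inr (Or.inr (e.injective (h.trans (map_mul e u u').symm))))
  refine hsmall (Metacyclic.small_of_four hT2 hm (u := ι u) (v := ι u') (by rw [← map_mul, hu, map_one])
    (fun h => hu1 (hιi (h.trans (map_one ι).symm))) (by rw [← map_mul, hu'2, map_one])
    (fun h => hu'1 (hιi (h.trans (map_one ι).symm))) (fun h => huu' (hιi h)) ((hab u u').map ι) ?_ ?_)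
  · intro hTab
    refine hmove ?_
    have h1 : g * ((u : R) : Ω) = ((u : R) : Ω) * g := congrArg Subtype.val (hTab ⟨g, hgT⟩ (ι u)).eq
    rw [h1, mul_inv_cancel_right]
  · intro x hxu hxu'
    have hcent : ∀ v : D, Commute (x : Ω) ((v : R) : Ω) := by
      intro v
      have e1 : Commute (x : Ω) ((u : R) : Ω) := congrArg Subtype.val hxu.eq
      have e2 : Commute (x : Ω) ((u' : R) : Ω) := congrArg Subtype.val hxu'.eq
      rcases hcases v with rfl | rfl | rfl | rfl
      · simp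
      · exact e1
      · exact e2
      · exact e1.mul_right e2
    -- the centralizer of `R ⊓ T` in `T` lies in `R`
    let C : Subgroup Ω := T ⊓ Subgroup.centralizer ((R ⊓ T : Subgroup Ω) : Set Ω)
    have hCn : R ≤ Subgroup.normalizer (C : Set Ω) := by
      intro r hr'
      have hr1 := hnorm hr'
      have hrR := R.le_normalizer hr'
      have hrD : r ∈ Subgroup.normalizer ((R ⊓ T : Subgroup Ω) : Set Ω) :=
        Subgroup.mem_normalizer_iff.mpr fun y => and_congr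
          (Subgroup.mem_normalizer_iff.mp hrR y) (Subgroup.mem_normalizer_iff.mp hr1 y)
      have hfor : ∀ s ∈ Subgroup.normalizer ((R ⊓ T : Subgroup Ω) : Set Ω), ∀ y ∈ Subgroup.centralizer ((R ⊓ T : Subgroup Ω) : Set Ω),
          s * y * s⁻¹ ∈ Subgroup.centralizer ((R ⊓ T : Subgroup Ω) : Set Ω) := by
        intro s hs y hy
        refine Subgroup.mem_centralizer_iff.mpr fun d hd => ?_
        have h1 := Subgroup.mem_centralizer_iff.mp hy (s⁻¹ * d * s) (by
          have := (Subgroup.mem_normalizer_iff.mp (inv_mem hs) d).mp hd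
          simpa using this)
        calc d * (s * y * s⁻¹) = s * (s⁻¹ * d * s * y) * s⁻¹ := by group
          _ = s * (y * (s⁻¹ * d * s)) * s⁻¹ := by rw [h1]
          _ = s * y * s⁻¹ * d := by group
      refine Subgroup.mem_normalizer_iff.mpr fun y => and_congr (Subgroup.mem_normalizer_iff.mp hr1 y)
        ⟨fun hy => hfor r hrD y hy, fun hy => ?_⟩
      simpa [mul_assoc] using hfor r⁻¹ (inv_mem hrD) _ hy
    have hxC : (x : Ω) ∈ C := ⟨x.2, Subgroup.mem_centralizer_iff.mpr fun d hd =>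
      (hcent ⟨⟨d, hd.1⟩, hd.2⟩).eq.symm⟩
    have hxR : (x : Ω) ∈ R := by
      by_contra h
      obtain ⟨t, htC, htN, htR, -⟩ := exists_normalizing hS hc.1 (inf_le_left.trans hTS) hCn
        fun hle => h (hle hxC)
      refine htR (hker t htC.1 htN fun v _ => ?_)
      have h1 : ((v : R) : Ω) * t = t * ((v : R) : Ω) :=
        Subgroup.mem_centralizer_iff.mp htC.2 _ ⟨(v : R).2, v.2⟩
      rw [← h1, mul_inv_cancel_right]
    have h2 := hexp ⟨⟨x, hxR⟩, x.2⟩
    rw [pow_one, sq] at h2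
    exact Subtype.ext (congrArg (fun z : D => ((z : R) : Ω)) h2)

/-- Let F be a saturated fusion system over a finite 2-group S (p = 2) and P a metacyclic subgroup of S strongly closed in F that is not dihedral, not semidihedral and not generalized quaternion (here the group of order 2, the Klein four-group and the cyclic group of order 4 also count as excluded). Then P is normal in F. -/
theorem result {Ω : Type*} [Group Ω] {S : Subgroup Ω} [Finite S] (p : ℕ) [Fact p.Prime] (hS : IsPGroup p S) (F : Cfsg.FusionSystem S) (hF : F.IsSaturated p) (P : Subgroup Ω) (hP : F.StronglyClosed P) (hp : p = 2) (hm : Cfsg.IsMetacyclic ↥P) (hd : ¬ ∃ m : ℕ, Nonempty (↥P ≃* DihedralGroup m)) (hq : ¬ ∃ m : ℕ, Nonempty (↥P ≃* QuaternionGroup m)) (hsd : ¬ Cfsg.IsQuasiDihedral ↥P) : F.IsNormal P := by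
  subst hp
  refine main hS hF hP hm ?_
  rintro (h | h | h)
  exacts [hd h, hq h, hsd h]

end Cfsg.Agent.S5235
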