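import Cfsg.Statements.S5236
import Cfsg.Agent.Lib.Fusion.Normal
import Cfsg.Agent.OddLocal43.Coprime

set_option autoImplicit false
set_option linter.style.haveILetI false
open Cfsg

namespace Cfsg.Agent.S5236

open Cfsg.Agent Cfsg.Agent.Fusion
open Cfsg.FusionSystem (normalizerIn centralizerIn)
open scoped commutatorElement

universe u

section Auto

variable {X : Type u} [Group X] {p : ℕ} [Fact p.Prime]

/-- One step of the stabilisation of a chain by an automorphism of order prime to `p`. -/
theorem fix_step (hX : IsPGroup p X) (d : MulAut X) {m : ℕ} (hm : m.Coprime p) (hdm : d ^ m = 1)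
    {x : X} (hfix : d (x⁻¹ * d x) = x⁻¹ * d x) : d x = x := by
  set a := x⁻¹ * d x with ha
  have hdx : d x = x * a := by rw [ha]; group
  have hiter : ∀ j : ℕ, (d ^ j) x = x * a ^ j := by
    intro j
    induction j with
    | zero => simp
    | succ j ih =>
      rw [pow_succ', MulAut.mul_apply, ih, map_mul, map_pow, hfix, hdx, pow_succ', mul_assoc]
  have ham : a ^ m = 1 := by
    have h2 := hiter m
    rw [hdm, MulAut.one_apply] at h2
    exact mul_eq_left.mp h2.symm
  obtain ⟨l, hl⟩ := hX a
  have ha1 : a = 1 := by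
    have h := Nat.dvd_gcd (orderOf_dvd_of_pow_eq_one ham) (orderOf_dvd_of_pow_eq_one hl)
    rwa [(hm.pow_right l).gcd_eq_one, Nat.dvd_one, orderOf_eq_one_iff] at h
  rw [hdx, ha1, mul_one]

/-- An automorphism of order prime to the odd prime `p` of a `p`-group fixing all elements of
order `p` is trivial. -/
theorem eq_one_of_fix_order_p [Finite X] (hp : p ≠ 2) (hX : IsPGroup p X) (d : MulAut X)
    {m : ℕ} (hm : m.Coprime p) (hdm : d ^ m = 1) (hfix : ∀ x : X, x ^ p = 1 → d x = x) (x : X) :
    d x = x := by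
  let φ : ↥(Subgroup.zpowers d) →* MulAut X := (Subgroup.zpowers d).subtype
  let G := X ⋊[φ] ↥(Subgroup.zpowers d)
  haveI : Finite (MulAut X) := Finite.of_injective (fun e : MulAut X => (e : X → X))
    fun _ _ h => MulEquiv.ext (congrFun h)
  haveI : Finite G := Finite.of_equiv _ SemidirectProduct.equivProd.symm
  let A : Subgroup G := (SemidirectProduct.inr : _ →* G).range
  let H : Subgroup G := (SemidirectProduct.inl : _ →* G).range
  have hA : Nat.card A = orderOf d :=
    (Nat.card_congr (MonoidHom.ofInjective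
      (SemidirectProduct.inr_injective (φ := φ))).toEquiv.symm).trans (Nat.card_zpowers d)
  have hcop : (Nat.card A).Coprime p :=
    hA ▸ Nat.Coprime.coprime_dvd_left (orderOf_dvd_of_pow_eq_one hdm) hm
  have hH : IsPGroup p H := hX.of_surjective _ (SemidirectProduct.inl : _ →* G).rangeRestrict_surjective
  have hAH : A ≤ Subgroup.normalizer (H : Set G) := by
    rintro _ ⟨a, rfl⟩
    refine Subgroup.mem_normalizer_iff.mpr fun y => ⟨?_, ?_⟩
    · rintro ⟨y, rfl⟩
      exact ⟨φ a y, by rw [SemidirectProduct.inl_aut, map_inv]⟩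
    · rintro ⟨z, hz⟩
      exact ⟨φ a⁻¹ z, by rw [SemidirectProduct.inl_aut, hz, map_inv]; group⟩
  have key : ∀ a : ↥(Subgroup.zpowers d), ∀ y : X, (a : MulAut X) y = y →
      (SemidirectProduct.inr a : G) * SemidirectProduct.inl y =
        SemidirectProduct.inl y * SemidirectProduct.inr a := fun a y h => by
    have h1 := SemidirectProduct.inl_aut (φ := φ) a y
    rw [show φ a y = y from h] at h1
    rw [map_inv] at h1
    calc _ = (SemidirectProduct.inr a * SemidirectProduct.inl y * (SemidirectProduct.inr a)⁻¹ : G) *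
          SemidirectProduct.inr a := by group
      _ = _ := by rw [← h1]
  have hc : H ≤ Subgroup.centralizer (A : Set G) := by
    refine OddLocal43.le_centralizer_of_order_p hp hcop hH hAH ?_
    rintro _ ⟨y, rfl⟩ hy
    refine Subgroup.mem_centralizer_iff.mpr ?_
    rintro _ ⟨a, rfl⟩
    refine key a y ?_
    have hyp : y ^ p = 1 := by
      rw [← orderOf_dvd_iff_pow_eq_one, ← orderOf_injective (SemidirectProduct.inl : _ →* G)
        SemidirectProduct.inl_injective y, hy]
    obtain ⟨a, k, rfl⟩ := a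
    exact MulAction.mem_stabilizer_iff.mp
      ((MulAction.stabilizer (MulAut X) y).zpow_mem (MulAction.mem_stabilizer_iff.mpr (hfix y hyp)) k)
  have h1 := Subgroup.mem_centralizer_iff.mp (hc ⟨x, rfl⟩)
    (SemidirectProduct.inr (⟨d, Subgroup.mem_zpowers d⟩ : ↥(Subgroup.zpowers d))) ⟨_, rfl⟩
  have h2 := SemidirectProduct.inl_aut (φ := φ) (⟨d, Subgroup.mem_zpowers d⟩) x
  rw [map_inv, h1, mul_inv_cancel_right] at h2
  exact SemidirectProduct.inl_injective h2

end Auto

variable {Ω : Type*} [Group Ω] {S : Subgroup Ω} {p : ℕ} [Fact p.Prime]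

/-- A strongly closed subgroup with a central series of strongly closed subgroups on its elements
of order `p` lies in every centric radical subgroup. -/
theorem le_centric_radical [Finite S] (hS : IsPGroup p S) {F : Cfsg.FusionSystem S} (hp : p ≠ 2)
    {P : Subgroup Ω} (hP : F.StronglyClosed P) (D : ℕ → Subgroup Ω) (n : ℕ) (h0 : D 0 = ⊥)
    (hn : D n = Cfsg.omegaOne p P) (hcl : ∀ i ≤ n, F.StronglyClosed (D i))
    (hcomm : ∀ i < n, ⁅D (i + 1), P⁆ ≤ D i)
    {R : Subgroup Ω} (hc : F.IsCentric R) (hr : F.IsRadical p R) : P ≤ R := by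
  have hPn := stronglyClosed_le_normalizer hP
  refine le_of_normalizer_le hS hc.1 hP.1 (hc.1.trans hPn) fun g hgP hgR => ?_
  haveI := finite_of_le hc.1
  haveI := finite_mulAut R
  have hinv1 : ∀ i ≤ n, ∀ α ∈ F.autGroup R,
      autFun α '' ((D i ⊓ R : Subgroup Ω) : Set Ω) = ((D i ⊓ R : Subgroup Ω) : Set Ω) :=
    fun i hi α hα => closed_autFun_image (hcl i hi) hc.1 hα
  let E : ℕ → Subgroup Ω := fun i => if i = 0 then P ⊓ R else R
  have hinv2 : ∀ i ≤ 1, ∀ α ∈ F.autGroup R, autFun α '' (E i : Set Ω) = (E i : Set Ω) := by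
    intro i _ α hα
    dsimp only [E]
    split
    · exact closed_autFun_image hP hc.1 hα
    · exact autFun_image α
  have hE : ∀ i, E i ≤ R := by
    intro i
    dsimp only [E]
    split
    · exact inf_le_right
    · exact le_rfl
  let K₁ := chainStab F (fun i => D i ⊓ R) n hinv1 fun _ => inf_le_right
  let K₂ := chainStab F E 1 hinv2 hE
  haveI h1n : K₁.Normal := chainStab_normal _ n hinv1 fun _ => inf_le_right
  haveI h2n : K₂.Normal := chainStab_normal _ 1 hinv2 hE
  have hKp : IsPGroup p (K₁ ⊓ K₂ : Subgroup (F.autGroup R)) := by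
    intro γ
    obtain ⟨k, m, hm, hkm⟩ := Nat.exists_eq_pow_mul_and_not_dvd (orderOf_pos γ).ne' p
      (Fact.out : p.Prime).ne_one
    refine ⟨k, ?_⟩
    set δ := γ ^ p ^ k with hδ
    have hδm : δ ^ m = 1 := by rw [hδ, ← pow_mul, ← hkm, pow_orderOf_eq_one]
    set d := (((δ : ↥(K₁ ⊓ K₂)) : F.autGroup R) : MulAut R) with hd
    have hdm : d ^ m = 1 := by
      have := congrArg (fun z : ↥(K₁ ⊓ K₂) => ((z : F.autGroup R) : MulAut R)) hδm
      simpa using this
    have hmp : m.Coprime p := ((Fact.out : p.Prime).coprime_iff_not_dvd.mpr hm).symm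
    have hRp : IsPGroup p R := hS.to_le hc.1
    have hD : ∀ i ≤ n, ∀ x : R, (x : Ω) ∈ D i → d x = x := by
      intro i
      induction i with
      | zero =>
        intro _ x hx
        rw [h0, Subgroup.mem_bot] at hx
        rw [show x = 1 from Subtype.ext hx, map_one]
      | succ i ih =>
        intro hi x hx
        refine fix_step hRp d hmp hdm (ih (Nat.le_of_succ_le hi) _ ?_)
        have := δ.2.1 i hi x ⟨hx, x.2⟩
        rw [autFun_coe] at this
        exact this.1
    have hmem : ∀ (a : MulAut R), a ∈ F.autGroup R → ∀ x : R, (x : Ω) ∈ P → ((a x : R) : Ω) ∈ P := by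
      intro a ha x hx
      rw [← autFun_coe]
      exact ((closed_autFun_image hP hc.1 ha).subset ⟨x, ⟨hx, x.2⟩, rfl⟩).1
    let Y : Subgroup R := P.subgroupOf R
    have hdY : Y.map d.toMonoidHom = Y := by
      refine le_antisymm ?_ fun y hy => ?_
      · rintro _ ⟨x, hx, rfl⟩
        exact hmem d (δ : F.autGroup R).2 x hx
      · exact ⟨d⁻¹ y, hmem _ ((F.autGroup R).inv_mem (δ : F.autGroup R).2) y hy, d.apply_symm_apply y⟩
    let e : MulAut Y := (d.subgroupMap Y).trans (MulEquiv.subgroupCongr hdY)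
    have he : ∀ (j : ℕ) (y : Y), (((e ^ j) y : Y) : R) = (d ^ j) (y : R) := by
      intro j
      induction j with
      | zero => simp
      | succ j ih =>
        intro y
        rw [pow_succ', pow_succ', MulAut.mul_apply, MulAut.mul_apply, ← ih]
        rfl
    have hem : e ^ m = 1 := by
      refine MulEquiv.ext fun y => Subtype.ext ?_
      rw [he, hdm]; rfl
    have hY : ∀ y : Y, d (y : R) = y := fun y => by
      have := eq_one_of_fix_order_p hp (hRp.to_subgroup Y) e hmp hem (fun z hz => Subtype.ext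
        (hD n le_rfl z (hn ▸ Subgroup.subset_closure
          ⟨z.2, by simpa using congrArg (fun w : Y => ((w : R) : Ω)) hz⟩))) y
      exact congrArg Subtype.val this
    have hall : ∀ x : R, d x = x := fun x => by
      refine fix_step hRp d hmp hdm (hY ⟨x⁻¹ * d x, ?_⟩)
      have := δ.2.2 0 Nat.zero_lt_one x x.2
      rw [autFun_coe] at this
      exact this.1
    apply Subtype.ext
    apply Subtype.ext
    exact MulEquiv.ext hall
  have hgS : g ∈ normalizerIn S R := ⟨hP.1 hgP, hgR⟩
  have hm : conjAutHom S R ⟨g, hgS⟩ ∈ autInducedBy S R := by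
    rw [← range_conjAutHom]; exact ⟨_, rfl⟩
  refine mem_of_normal_pSubgroup hc hr _ inferInstance hKp hgS
    ⟨_, autInducedBy_le_autGroup hc.1 hm⟩ ⟨fun i hi x hx => ?_, fun i hi x hx => ?_⟩ fun x => rfl
  · rw [autFun_of_mem _ hx.2]
    refine ⟨?_, R.mul_mem (R.inv_mem hx.2) (conj_mem_of_mem_normalizer hgR hx.2)⟩
    show x⁻¹ * (g * x * g⁻¹) ∈ D i
    have h := hcomm i hi (Subgroup.commutator_mem_commutator
      ((D (i + 1)).inv_mem hx.1) hgP)
    rw [commutatorElement_def, inv_inv] at h
    simpa [mul_assoc] using h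
  · obtain rfl : i = 0 := by omega
    rw [autFun_of_mem _ (hE _ hx)]
    refine ⟨?_, R.mul_mem (R.inv_mem (hE _ hx)) (conj_mem_of_mem_normalizer hgR (hE _ hx))⟩
    show x⁻¹ * (g * x * g⁻¹) ∈ P
    have h2 := conj_mem_of_mem_normalizer (hPn (S.inv_mem (hc.1 (hE _ hx)))) hgP
    simpa [mul_assoc] using P.mul_mem h2 (P.inv_mem hgP)

/-- Let p be an odd prime, F a saturated fusion system over a finite p-group S and P a subgroup of S strongly closed in F. Then P is normal in F if and only if Ω₁(P) (the subgroup generated by the elements of order p of P) has a chain of subgroups 1 = Q₀ ≤ Q₁ ≤ ⋯ ≤ Qₙ = Ω₁(P), each strongly closed in F, with [Qᵢ₊₁, P] ≤ Qᵢ for all i. -/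
theorem result {Ω : Type*} [Group Ω] {S : Subgroup Ω} [Finite S] (p : ℕ) [Fact p.Prime] (hS : IsPGroup p S) (F : Cfsg.FusionSystem S) (hF : F.IsSaturated p) (hp : p ≠ 2) (P : Subgroup Ω) (hP : F.StronglyClosed P) : F.IsNormal P ↔ ∃ (n : ℕ) (Q : Fin (n + 1) → Subgroup Ω), Q 0 = ⊥ ∧ Q (Fin.last n) = Cfsg.omegaOne p P ∧ Monotone Q ∧ (∀ i : Fin (n + 1), F.StronglyClosed (Q i)) ∧ ∀ i : Fin n, ⁅Q i.succ, P⁆ ≤ Q i.castSucc := by
  constructor
  · intro hN
    obtain ⟨n, hn⟩ := exists_zSer_top hS hP.1
    have hΩ : Cfsg.omegaOne p P ≤ P := (Subgroup.closure_le _).mpr fun x hx => hx.1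
    have hchar : ((Cfsg.omegaOne p P).subgroupOf P).Characteristic := by
      rw [Cfsg.omegaOne]
      refine Subgroup.characteristic_iff_map_le.mpr fun φ => ?_
      rintro _ ⟨x, hx, rfl⟩
      have key : ∀ y (hy : y ∈ Subgroup.closure {x : Ω | x ∈ P ∧ x ^ p = 1}) (hyP : y ∈ P),
          ((φ ⟨y, hyP⟩ : P) : Ω) ∈ Subgroup.closure {x : Ω | x ∈ P ∧ x ^ p = 1} := by
        intro y hy
        induction hy using Subgroup.closure_induction with
        | mem y hy =>
          intro hyP
          refine Subgroup.subset_closure ⟨(φ ⟨y, hyP⟩).2, ?_⟩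
          rw [← Subgroup.coe_pow, ← map_pow, show (⟨y, hyP⟩ : P) ^ p = 1 from Subtype.ext hy.2,
            map_one, Subgroup.coe_one]
        | one =>
          intro hyP
          rw [show (⟨1, hyP⟩ : P) = 1 from rfl, map_one]
          exact one_mem _
        | mul a b ha hb iha ihb =>
          intro hyP
          have haP : a ∈ P := hΩ ha
          have hbP : b ∈ P := hΩ hb
          rw [show (⟨a * b, hyP⟩ : P) = ⟨a, haP⟩ * ⟨b, hbP⟩ from rfl, map_mul]
          exact mul_mem (iha haP) (ihb hbP)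
        | inv a ha iha =>
          intro hyP
          have haP : a ∈ P := hΩ ha
          rw [show (⟨a⁻¹, hyP⟩ : P) = ⟨a, haP⟩⁻¹ from rfl, map_inv]
          exact inv_mem (iha haP)
      exact key x hx x.2
    refine ⟨n, fun i => zSer P i.val ⊓ Cfsg.omegaOne p P, ?_, ?_, ?_, fun i => ?_, fun i => ?_⟩
    · simp [zSer_zero]
    · simp [hn, hΩ]
    · intro i j hij
      refine inf_le_inf_right _ (Subgroup.map_mono ?_)
      exact Subgroup.upperCentralSeries_mono ↥P hij
    · refine stronglyClosed_of_normal (isNormal_char hN (inf_le_left.trans (zSer_le P _)) ?_)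
      rw [show (zSer P i.val ⊓ Cfsg.omegaOne p P).subgroupOf P =
        (zSer P i.val).subgroupOf P ⊓ (Cfsg.omegaOne p P).subgroupOf P from Subgroup.comap_inf _ _ _]
      refine Subgroup.characteristic_iff_map_eq.mpr fun φ => ?_
      rw [Subgroup.map_inf _ _ _ φ.injective,
        Subgroup.characteristic_iff_map_eq.mp (zSer_subgroupOf_char P i.val) φ,
        Subgroup.characteristic_iff_map_eq.mp hchar φ]
    · refine le_inf ?_ ?_
      · rw [Subgroup.commutator_comm]
        exact (Subgroup.commutator_mono le_rfl inf_le_left).trans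
          (by simpa using zSer_commutator P i.val)
      · refine (Subgroup.commutator_mono inf_le_right le_rfl).trans ?_
        haveI := hchar
        exact Subgroup.le_normalizer_iff_commutator_le_left.mp
          ((Subgroup.normal_subgroupOf_iff_le_normalizer hΩ).mp inferInstance)
  · rintro ⟨n, Q, h0, hn, -, hcl, hcomm⟩
    refine isNormal_of_closed_le hS hF hP fun R hc hr =>
      le_centric_radical hS hp hP (fun i => if h : i ≤ n then Q ⟨i, by omega⟩ else ⊥) n ?_ ?_
        (fun i hi => ?_) (fun i hi => ?_) hc hr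
    · simpa using h0
    · rw [dif_pos le_rfl]
      exact hn
    · rw [dif_pos hi]
      exact hcl _
    · rw [dif_pos hi.le, dif_pos (by omega : i + 1 ≤ n)]
      exact hcomm ⟨i, hi⟩

end Cfsg.Agent.S5236
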