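import Cfsg.Statements.S5238
import Cfsg.Agent.SectRank81.Pearl
import Cfsg.Agent.Lib.Fusion.Map
-- import your own Cfsg.Agent.* helpers here

set_option autoImplicit false
open Cfsg

namespace Cfsg.Agent.S5238

/-- Let p be an odd prime and F a saturated fusion system over a finite p-group S having a pearl: an F-essential subgroup E that is elementary abelian of order p² or nonabelian of order p³. Then S has maximal nilpotency class (if S has order pⁿ with n ≥ 3, the term of index n − 2 of its lower central series, counting S itself as the term of index 0, is nontrivial), and every subgroup of S can be generated by at most p elements (the sectional rank of S is at most p). -/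
theorem result {Ω : Type*} [Group Ω] {S : Subgroup Ω} [Finite S] (p : ℕ) [Fact p.Prime] (hS : IsPGroup p S) (F : Cfsg.FusionSystem S) (hF : F.IsSaturated p) (hp : p ≠ 2) (E : Subgroup Ω) (hE : F.IsEssential p E) (hpearl : (Nat.card E = p ^ 2 ∧ ∀ x ∈ E, x ^ p = 1 ∧ IsMulCommutative ↥E) ∨ (Nat.card E = p ^ 3 ∧ ¬ IsMulCommutative ↥E)) : (∀ n : ℕ, Nat.card S = p ^ n → 3 ≤ n → Subgroup.lowerCentralSeries S (n - 2) ≠ ⊥) ∧ ∀ H : Subgroup Ω, H ≤ S → ∃ T : Finset Ω, T.card ≤ p ∧ Subgroup.closure (T : Set Ω) = H := by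
  classical
  obtain ⟨n, hn⟩ := IsPGroup.iff_card.1 hS
  have hES : E ≤ S := hE.1.1
  have hC : Cfsg.FusionSystem.centralizerIn S E ≤ E := hE.1.2 E (Cfsg.Agent.Fusion.isConj_refl hES)
  set B : Subgroup S := E.subgroupOf S with hB
  have hBcard : Nat.card B = Nat.card E := Nat.card_congr (Subgroup.subgroupOfEquivOfLe hES).toEquiv
  have hCB : Subgroup.centralizer (B : Set S) ≤ B := by
    intro c hc
    refine Subgroup.mem_subgroupOf.2 (hC (Subgroup.mem_inf.2 ⟨c.2, ?_⟩))
    refine Subgroup.mem_centralizer_iff.2 fun e he => ?_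
    exact congrArg Subtype.val (Subgroup.mem_centralizer_iff.1 hc ⟨e, hES he⟩ he)
  have hcfg : 3 ≤ n → ∃ x : S, SectRank81.Cfg p n x := by
    intro h3
    rcases hpearl with ⟨h2, -⟩ | ⟨h3', hna⟩
    · obtain ⟨x, -, hx⟩ := SectRank81.exists_cent_sq hn h3 B (hBcard.trans h2) hCB
      exact ⟨x, ⟨hn, h3, hx⟩⟩
    · have hna' : ¬ IsMulCommutative B := by
        intro hcom
        refine hna ⟨⟨fun a b => ?_⟩⟩
        have h := hcom.is_comm.comm ⟨⟨a, hES a.2⟩, a.2⟩ ⟨⟨b, hES b.2⟩, b.2⟩
        exact Subtype.ext (by simpa using congrArg (fun z : B => ((z : S) : Ω)) h)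
      obtain ⟨x, hx⟩ := SectRank81.exists_cent_cube hn B (hBcard.trans h3') hna' hCB
      exact ⟨x, ⟨hn, h3, hx⟩⟩
  refine ⟨fun m hm h3 => ?_, fun H hH => ?_⟩
  · obtain rfl : n = m := Nat.pow_right_injective (Fact.out : p.Prime).two_le (hn.symm.trans hm)
    obtain ⟨x, hx⟩ := hcfg h3
    intro he
    apply hx.maximal_class
    apply (Subgroup.map_eq_bot_iff_of_injective _ S.subtype_injective).1
    rw [Subgroup.top_subtype_lowerCentralSeries]
    exact he
  · set H' : Subgroup S := H.subgroupOf S with hH'
    have hidx : (frattini H').index ≤ p ^ p := by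
      by_cases h3 : 3 ≤ n
      · obtain ⟨x, hx⟩ := hcfg h3
        exact hx.index_frattini_le H'
      · calc (frattini H').index ≤ Nat.card H' :=
              Nat.le_of_dvd Nat.card_pos (frattini H').index_dvd_card
          _ ≤ Nat.card S := Subgroup.card_le_card_group H'
          _ ≤ p ^ p := hn ▸ Nat.pow_le_pow_right (Fact.out : p.Prime).pos
                (by have := (Fact.out : p.Prime).two_le; omega)
    obtain ⟨T, hT, hgen⟩ := SectRank81.exists_generators (hS.to_subgroup H') hidx
    refine ⟨T.image fun z : H' => ((z : S) : Ω), Finset.card_image_le.trans hT, ?_⟩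
    have h1 := congrArg (Subgroup.map (S.subtype.comp H'.subtype)) hgen
    rw [MonoidHom.map_closure, ← MonoidHom.range_eq_map, MonoidHom.range_comp,
      Subgroup.subtype_range] at h1
    have e : H'.map S.subtype = H := Subgroup.map_subgroupOf_eq_of_le hH
    rw [e] at h1
    rw [Finset.coe_image]
    exact h1

end Cfsg.Agent.S5238
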