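import Cfsg.Statements.S5239
import Cfsg.Agent.SectRank81.Three
import Cfsg.Agent.SectRank81.PearlExponent
import Cfsg.Agent.Lib.Fusion.CenterIndexMain
-- import your own Cfsg.Agent.* helpers here

set_option autoImplicit false
set_option linter.style.haveILetI false
open Cfsg

namespace Cfsg.Agent.S5239

/-- Let F be a saturated fusion system over a finite 3-group S having a pearl: an F-essential subgroup E that is elementary abelian of order 9 or nonabelian of order 27. Then either S is extraspecial of order 27 and exponent 3, or S has order at least 81 and every subgroup of S can be generated by at most two elements, or S is isomorphic to the wreath product C₃ ≀ C₃ (a Sylow 3-subgroup of the symmetric group of degree 9). -/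
theorem result {Ω : Type*} [Group Ω] {S : Subgroup Ω} [Finite S] (hS : IsPGroup 3 S) (F : Cfsg.FusionSystem S) (hF : F.IsSaturated 3) [Fact (Nat.Prime 3)] (E : Subgroup Ω) (hE : F.IsEssential 3 E) (hpearl : (Nat.card E = 9 ∧ ∀ x ∈ E, x ^ 3 = 1 ∧ IsMulCommutative ↥E) ∨ (Nat.card E = 27 ∧ ¬ IsMulCommutative ↥E)) : (Cfsg.IsExtraspecial 3 ↥S ∧ Nat.card S = 27 ∧ Monoid.exponent ↥S = 3) ∨ (81 ≤ Nat.card S ∧ ∀ H : Subgroup Ω, H ≤ S → ∃ T : Finset Ω, T.card ≤ 2 ∧ Subgroup.closure (T : Set Ω) = H) ∨ (∃ W : Sylow 3 (Equiv.Perm (Fin 9)), Nonempty (↥S ≃* ↥(W : Subgroup (Equiv.Perm (Fin 9))))) := by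
  classical
  obtain ⟨n, hn⟩ := IsPGroup.iff_card.1 hS
  have hES : E ≤ S := hE.1.1
  have hC : Cfsg.FusionSystem.centralizerIn S E ≤ E := hE.1.2 E (Cfsg.Agent.Fusion.isConj_refl hES)
  have hEne : E ≠ S := fun h => Cfsg.Agent.Fusion.CenterIndex.not_essential_top hS hF (h ▸ hE)
  have hlt : Nat.card E < 3 ^ n := by
    rw [← hn]
    refine lt_of_le_of_ne (Subgroup.card_le_of_le hES) fun he => hEne ?_
    exact Subgroup.eq_of_le_of_card_ge hES he.ge
  have h3 : 3 ≤ n := by
    rcases hpearl with ⟨h, -⟩ | ⟨h, -⟩ <;> rw [h] at hlt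
    · exact (Nat.pow_lt_pow_iff_right (by norm_num : 1 < 3)).1 (show 3 ^ 2 < 3 ^ n by simpa using hlt)
    · have := (Nat.pow_lt_pow_iff_right (by norm_num : 1 < 3)).1 (show 3 ^ 3 < 3 ^ n by simpa using hlt)
      omega
  set B : Subgroup S := E.subgroupOf S with hB
  have hBcard : Nat.card B = Nat.card E := Nat.card_congr (Subgroup.subgroupOfEquivOfLe hES).toEquiv
  have hCB : Subgroup.centralizer (B : Set S) ≤ B := by
    intro c hc
    refine Subgroup.mem_subgroupOf.2 (hC (Subgroup.mem_inf.2 ⟨c.2, ?_⟩))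
    refine Subgroup.mem_centralizer_iff.2 fun e he => ?_
    exact congrArg Subtype.val (Subgroup.mem_centralizer_iff.1 hc ⟨e, hES he⟩ he)
  obtain ⟨x, hx⟩ : ∃ x : S, SectRank81.Cfg 3 n x := by
    rcases hpearl with ⟨h2, -⟩ | ⟨h3', hna⟩
    · obtain ⟨x, -, hx⟩ := SectRank81.exists_cent_sq hn h3 B (hBcard.trans (h2.trans (by norm_num))) hCB
      exact ⟨x, ⟨hn, h3, hx⟩⟩
    · have hna' : ¬ IsMulCommutative B := by
        intro hcom
        refine hna ⟨⟨fun a b => ?_⟩⟩
        have h := hcom.is_comm.comm ⟨⟨a, hES a.2⟩, a.2⟩ ⟨⟨b, hES b.2⟩, b.2⟩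
        exact Subtype.ext (by simpa using congrArg (fun z : B => ((z : S) : Ω)) h)
      obtain ⟨x, hx⟩ :=
        SectRank81.exists_cent_cube hn B (hBcard.trans (h3'.trans (by norm_num))) hna' hCB
      exact ⟨x, ⟨hn, h3, hx⟩⟩
  by_cases h4 : n = 3
  · subst h4
    left
    rcases hpearl with ⟨hcE, hel⟩ | ⟨hcE, -⟩
    swap
    · exact absurd (by rw [hcE]; norm_num) hlt.ne
    have hcomm : ∀ a b : E, a * b = b * a := fun a b =>
      (hel a a.2).2.is_comm.comm a b
    have hexp := SectRank81.pearl_exponent hS F hF E hE hcE (fun e he => (hel e he).1) hcomm x hx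
    have hna : ¬ IsMulCommutative S := fun hc => hx.not_comm fun a b => hc.is_comm.comm a b
    refine ⟨Fusion91.extraspecial_of_card_cube (p := 3) hn hna, by rw [hn]; norm_num, ?_⟩
    rcases Nat.prime_three.eq_one_or_self_of_dvd _
      (Monoid.exponent_dvd_of_forall_pow_eq_one fun g : S => Subtype.ext (hexp g g.2)) with h | h
    · haveI := Monoid.exp_eq_one_iff.mp h
      exact absurd ⟨⟨fun a b => Subsingleton.elim _ _⟩⟩ hna
    · exact h
  right
  have hgen : (∀ K : Subgroup S, (frattini K).index ≤ 3 ^ 2) →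
      ∀ H : Subgroup Ω, H ≤ S → ∃ T : Finset Ω, T.card ≤ 2 ∧ Subgroup.closure (T : Set Ω) = H := by
    intro hidx H hH
    set H' : Subgroup S := H.subgroupOf S with hH'
    obtain ⟨T, hT, hg⟩ := SectRank81.exists_generators (hS.to_subgroup H') (hidx H')
    refine ⟨T.image fun z : H' => ((z : S) : Ω), Finset.card_image_le.trans hT, ?_⟩
    have h1 := congrArg (Subgroup.map (S.subtype.comp H'.subtype)) hg
    rw [MonoidHom.map_closure, ← MonoidHom.range_eq_map, MonoidHom.range_comp,
      Subgroup.subtype_range] at h1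
    have e : H'.map S.subtype = H := Subgroup.map_subgroupOf_eq_of_le hH
    rw [e] at h1
    rw [Finset.coe_image]
    exact h1
  have h81 : 81 ≤ Nat.card S := by
    rw [hn]
    calc 81 = 3 ^ 4 := by norm_num
      _ ≤ 3 ^ n := Nat.pow_le_pow_right (by norm_num) (by omega)
  by_cases h5 : 5 ≤ n
  · exact Or.inl ⟨h81, hgen (hx.index_frattini_le_nine h5)⟩
  · rcases hx.order_81 (by omega) with h | h
    · exact Or.inl ⟨h81, hgen h⟩
    · exact Or.inr h

end Cfsg.Agent.S5239
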