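import Cfsg.Statements.S5240
import Cfsg.Agent.Fusion92.NormalizerFree
import Cfsg.Agent.Lib.Fusion.SubSat
import Cfsg.Agent.LocalEven61.Involves

set_option autoImplicit false
open Cfsg

namespace Cfsg.Agent.S5240

/-- Let F be a saturated fusion system over a finite p-group S that is Qd(p)-free (Qd(p), the natural semidirect product of an elementary abelian group of order p² by SL₂(p), is not involved in any model of the normalizer system of a fully normalized centric subgroup), and let Q be a fully normalized subgroup of S. Then every normalizer fusion system of Q in F is Qd(p)-free. -/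
theorem result {Ω : Type*} [Group Ω] {S : Subgroup Ω} [Finite S] (p : ℕ) [Fact p.Prime] (hS : IsPGroup p S) (F : Cfsg.FusionSystem S) (hF : F.IsSaturated p) (hfree : F.IsSectionFree p ↥(Cfsg.qd p)) (Q : Subgroup Ω) (hQ : F.IsFullyNormalized Q) (N : Cfsg.FusionSystem (Cfsg.FusionSystem.normalizerIn S Q)) (hN : F.IsNormalizerSystem Q N) : N.IsSectionFree p ↥(Cfsg.qd p) := by
  intro U _ hUC M hM L _ ι hL hinv
  have hNsat : N.IsSaturated p := Fusion.isNormalizerSystem_isSaturated hS hF hQ N hN
  haveI : Finite (Cfsg.FusionSystem.normalizerIn S Q) :=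
    Fusion.finite_of_le (Fusion.normalizerIn_le S Q)
  obtain ⟨W, L', hG', ι', hWN, hWC, h', j, hj⟩ :=
    Fusion92.exists_normalizer_embedding hS hF hQ hN hUC
      (Fusion92.IsLocal.of_isModel (hS.to_le (Fusion.normalizerIn_le S Q)) hNsat hUC hM hL)
  have hW := Fusion.isNormalizerSystem_normalizerSystem (F := F) W hWC.1
  exact hfree W hWN hWC _ hW L' ι' (h'.isModel hS hW) (LocalEven61.involves_trans hinv
    (LocalEven61.involves_of_hom (MonoidHom.id L) (fun x => ⟨x, rfl⟩) j hj))

end Cfsg.Agent.S5240
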