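import Cfsg.Statements.S5243
import Cfsg.Agent.PrimeIndex.BadCentric

set_option autoImplicit false
open Cfsg

namespace Cfsg.Agent.S5243

/-- Let F be a saturated fusion system over a finite p-group S, E a normal subsystem of F over T ≤ S, and χ a surjective homomorphism from Aut_F(T) onto a nontrivial finite group Δ of order prime to p whose kernel contains Aut_E(T). Then there is a proper normal subsystem F₀ of F over S containing E such that Aut_{F₀}(S) consists of those α ∈ Aut_F(S) whose restriction to T is an element of Aut_F(T) in the kernel of χ; moreover every p'-residual subsystem O^{p'}(F) of F is contained in F₀. -/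
theorem result {Ω : Type*} [Group Ω] {S : Subgroup Ω} [Finite S] (p : ℕ) [Fact p.Prime] (hS : IsPGroup p S) (F : Cfsg.FusionSystem S) (hF : F.IsSaturated p) {T : Subgroup Ω} (hTS : T ≤ S) (E : Cfsg.FusionSystem T) (hE : E.IsNormalIn F p) {Δ : Type*} [Group Δ] [Finite Δ] [Nontrivial Δ] (hΔ : (Nat.card Δ).Coprime p) (χ : ↥(F.autGroup T) →* Δ) (hχ : Function.Surjective χ) (hker : (E.autGroup T).subgroupOf (F.autGroup T) ≤ χ.ker) : ∃ F₀ : Cfsg.FusionSystem S, F₀.IsNormalIn F p ∧ ¬ (∀ P : Subgroup Ω, F₀.Hom P = F.Hom P) ∧ E.IsSubsystemOf F₀ ∧ (∀ α : MulAut ↥S, α ∈ F₀.autGroup S ↔ α ∈ F.autGroup S ∧ ∃ β : ↥(F.autGroup T), χ β = 1 ∧ ∀ t : ↥T, (((β : MulAut ↥T) t : ↥T) : Ω) = ((α ⟨(t : Ω), hTS t.2⟩ : ↥S) : Ω)) ∧ ∀ R : Cfsg.FusionSystem S, F.IsPPrimeResidual p R → R.IsSubsystemOf F₀ := by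
  have hinv : E.IsInvariantIn F := hE.1.2.2
  have H : PrimeIndex.CharSetup F p E χ :=
    ⟨hS, hF, hE.1.1, hinv, hΔ, fun β hβ => MonoidHom.mem_ker.mp (hker (Subgroup.mem_subgroupOf.mpr hβ))⟩
  set D := PrimeIndex.charD H.closed χ with hD
  have hH := PrimeIndex.h0_le_charD H
  have haut : (PrimeIndex.fdSystem F p D).autGroup S = D :=
    PrimeIndex.autGroup_fdSystem PrimeIndex.charD_le hH
  refine ⟨PrimeIndex.fdSystem F p D, PrimeIndex.fdSystem_normal hS hF PrimeIndex.charD_le hH
    (fun _ ha _ hc => PrimeIndex.charD_conj ha hc), fun heq => ?_,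
    fun P => Fusion.hom_subset_of_isMap fun f hf =>
      PrimeIndex.isMap_fdSystem.mpr (PrimeIndex.fd_of_sub H hf), fun α => ?_,
    fun R hR => hR.2.2 _ (PrimeIndex.fdSystem_isSaturated hS hF PrimeIndex.charD_le hH)
      (PrimeIndex.fdSystem_primeToP hS hF)⟩
  · -- every value of `χ` comes from an automorphism of `S`
    obtain ⟨δ, hδ⟩ := exists_ne (1 : Δ)
    obtain ⟨β, rfl⟩ := hχ δ
    haveI := Fusion.finite_of_le hTS
    haveI := Fusion.finite_mulAut T
    have hTn : F.IsFullyNormalized T := by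
      refine ⟨hTS, fun Q _ => ?_⟩
      rw [show FusionSystem.normalizerIn S T = S from
        inf_eq_left.mpr (Fusion.stronglyClosed_le_normalizer H.closed)]
      exact Subgroup.card_le_of_le inf_le_left
    obtain ⟨U, hU⟩ := (Fusion.fullyAutomized_of_fullyNormalized hS hF hTn).2
    have hUker : (U : Subgroup (F.autGroup T)) ≤ χ.ker := fun u hu => by
      obtain ⟨k, hk⟩ := U.isPGroup' ⟨u, hu⟩
      refine MonoidHom.mem_ker.mpr (PrimeIndex.eq_one_of_pow_p hΔ (k := k) ?_)
      have hu1 : u ^ p ^ k = 1 := by simpa using congrArg Subtype.val hk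
      rw [← map_pow, hu1, map_one]
    have hfr := Sylow.normalizer_sup_eq_top (U.subtype hUker)
    rw [Sylow.coe_subtype, Subgroup.subgroupOf_map_subtype, inf_eq_left.mpr hUker] at hfr
    have hm : β ∈ (⊤ : Subgroup (F.autGroup T)) := Subgroup.mem_top β
    rw [← hfr] at hm
    obtain ⟨ν, hν, b, hb, hab⟩ := Subgroup.mem_sup_of_normal_right.mp hm
    have hiso := (Fusion.mem_autGroup hTS).mp ν.2
    have hext : Fusion.IsExtendable S T (Fusion.autFun (ν : MulAut T)) S := by
      refine ⟨le_rfl, fun s hs => ⟨Fusion.stronglyClosed_le_normalizer H.closed hs, ?_⟩⟩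
      have hsN : s ∈ FusionSystem.normalizerIn S T := ⟨hs, Fusion.stronglyClosed_le_normalizer H.closed hs⟩
      rw [← Fusion.congr_autInducedBy_mem hiso hsN]
      have hind : Fusion.conjAutHom S T ⟨s, hsN⟩ ∈ autInducedBy S T := by
        rw [← Fusion.range_conjAutHom]; exact ⟨_, rfl⟩
      have hcU : (⟨_, Fusion.autInducedBy_le_autGroup hTS hind⟩ : F.autGroup T) ∈
          (U : Subgroup (F.autGroup T)) := by
        rw [hU, Subgroup.mem_subgroupOf]; exact hind
      have h1 := Fusion.conj_mem_of_mem_normalizer hν hcU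
      rw [hU, Subgroup.mem_subgroupOf] at h1
      rw [show hiso.equiv = (ν : MulAut T) from MulEquiv.ext fun x => Subtype.ext (by
        rw [hiso.equiv_apply, Fusion.autFun_coe])]
      exact h1
    obtain ⟨k, hk, hke⟩ := Fusion.receptive_extend
      (Fusion.receptive_of_fullyNormalized hS hF hTn) hiso hext
    rw [sup_eq_right.mpr hTS] at hk
    have him : k '' (S : Set Ω) = (S : Set Ω) := by
      refine Set.Subset.antisymm ?_ fun y hy =>
        Fusion.surjOn_of_card_le le_rfl hk.injOn (fun x hx => hk.apply_mem hx) le_rfl y hy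
      rintro _ ⟨x, hx, rfl⟩
      exact hk.apply_mem hx
    obtain ⟨a, ha, hae⟩ := (show Fusion.IsIso F S S k from ⟨hk, him⟩).exists_aut
    have hres : PrimeIndex.res H.closed ⟨a, ha⟩ = ν := by
      refine Subtype.ext (MulEquiv.ext fun x => Subtype.ext ?_)
      rw [← Fusion.autFun_coe, ← Fusion.autFun_coe (ν : MulAut T),
        PrimeIndex.autFun_res H.closed ⟨a, ha⟩ x.2, hae (hTS x.2)]
      exact hke x.2
    have haD : a ∈ D := by
      rw [← haut, FusionSystem.autGroup, heq S]
      exact ha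
    obtain ⟨ha', h1⟩ := PrimeIndex.mem_charD.mp haD
    refine hδ ?_
    rw [← hab, map_mul, MonoidHom.mem_ker.mp hb, mul_one, ← hres]
    exact h1
  · rw [haut, hD, PrimeIndex.mem_charD]
    constructor
    · rintro ⟨hα, h1⟩
      refine ⟨hα, _, h1, fun t => ?_⟩
      rw [← Fusion.autFun_coe, PrimeIndex.autFun_res H.closed ⟨α, hα⟩ t.2,
        Fusion.autFun_of_mem α (hTS t.2)]
    · rintro ⟨hα, β, h1, hβ⟩
      refine ⟨hα, ?_⟩
      rw [show PrimeIndex.res H.closed ⟨α, hα⟩ = β from Subtype.ext (MulEquiv.ext fun x => Subtype.ext (by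
        rw [hβ x, ← Fusion.autFun_coe, PrimeIndex.autFun_res H.closed ⟨α, hα⟩ x.2,
          Fusion.autFun_of_mem α (hTS x.2)]))]
      exact h1

end Cfsg.Agent.S5243
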