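import Cfsg.Statements.S5244
import Cfsg.Agent.AbelianIndexP.Centre

set_option autoImplicit false
open Cfsg

namespace Cfsg.Agent.S5244

/-- Let p be an odd prime, S a finite nonabelian p-group with a unique abelian subgroup A of index p, and F a saturated fusion system over S with no nontrivial normal subgroup (O_p(F) = 1) in which A is not F-essential. Then some subgroup Z(S)⟨x⟩ with x ∈ S outside A is F-essential, the centre Z(S) is contained in the commutator subgroup of S, and S has maximal nilpotency class (if S has order pⁿ with n ≥ 3, the term of index n − 2 of its lower central series, counting S itself as the term of index 0, is nontrivial). -/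
theorem result {Ω : Type*} [Group Ω] {S : Subgroup Ω} [Finite S] (p : ℕ) [Fact p.Prime] (hS : IsPGroup p S) (F : Cfsg.FusionSystem S) (hF : F.IsSaturated p) (hp : p ≠ 2) (hna : ¬ IsMulCommutative ↥S) (A : Subgroup Ω) (hA : A ≤ S ∧ IsMulCommutative ↥A ∧ (A.subgroupOf S).index = p) (huniq : ∀ B : Subgroup Ω, B ≤ S → IsMulCommutative ↥B → (B.subgroupOf S).index = p → B = A) (hcore : F.core = ⊥) (hAe : ¬ F.IsEssential p A) : (∃ x ∈ S, x ∉ A ∧ F.IsEssential p ((S ⊓ Subgroup.centralizer (S : Set Ω)) ⊔ Subgroup.zpowers x)) ∧ (S ⊓ Subgroup.centralizer (S : Set Ω)) ≤ (commutator ↥S).map S.subtype ∧ ∀ n : ℕ, Nat.card S = p ^ n → 3 ≤ n → Subgroup.lowerCentralSeries S (n - 2) ≠ ⊥ := by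
  have h : AbelianIndexP.Setup p S A :=
    ⟨hS, hA.1, AbelianIndexP.comm_of_isMulCommutative hA.2.1, hA.2.2, huniq, hna⟩
  obtain ⟨P, hP, hPA, hab, hle⟩ :=
    AbelianIndexP.exists_abelian_essential_and_le h hF hp hcore hAe
  have hcrit := AbelianIndexP.crit h hF hP hPA
  obtain ⟨x, hx, hxA⟩ := SetLike.not_le_iff_exists.mp (AbelianIndexP.not_le_A h hP.1 hPA)
  refine ⟨⟨x, hP.1.1 hx, hxA, ?_⟩, hle.trans inf_le_right, fun n hn h3 hbot => ?_⟩
  · have heq := AbelianIndexP.eq_sup_zpowers h hP.1.1 hx hxA
    rw [AbelianIndexP.inf_eq_ctr h hP hab hx hxA] at heq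
    exact heq ▸ hP
  · have hZ : Nat.card (AbelianIndexP.ctr S) = p := by
      rw [← AbelianIndexP.card_ctr0 h hcrit]
      exact congrArg (fun H : Subgroup Ω => Nat.card H) (le_antisymm hle inf_le_left)
    obtain ⟨k, rfl⟩ : ∃ k, n = k + 3 := ⟨n - 3, by omega⟩
    have hidx : ((AbelianIndexP.ctr S).subgroupOf S).index = p ^ (k + 2) := by
      have h1 := Subgroup.card_mul_index ((AbelianIndexP.ctr S).subgroupOf S)
      rw [AbelianIndexP.card_subgroupOf, inf_eq_left.mpr inf_le_left, hZ, hn, pow_succ'] at h1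
      exact Nat.eq_of_mul_eq_mul_left (Fact.out : p.Prime).pos h1
    rw [show k + 3 - 2 = k + 1 by omega, Subgroup.lowerCentralSeries_succ,
      Subgroup.commutator_eq_bot_iff_le_centralizer] at hbot
    rcases Nat.eq_zero_or_pos k with rfl | hk
    · rw [Subgroup.lowerCentralSeries_zero] at hbot
      exact hna (AbelianIndexP.isMulCommutative_of_comm fun a ha b hb =>
        (Subgroup.mem_centralizer_iff.mp (hbot ha) b hb).symm)
    · exact AbelianIndexP.lowerCentralSeries_not_le h hcrit hidx (by omega)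
        (by rw [show k + 2 - 2 = k by omega]
            exact le_inf (Subgroup.lowerCentralSeries_le_self S k) hbot)

end Cfsg.Agent.S5244
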