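import Cfsg.Statements.S5245
import Cfsg.Agent.S5083
import Cfsg.Agent.S5223
import Cfsg.Agent.Lib.Fusion.Subsystem
import Cfsg.Agent.Lib.Fusion.Criterion
import Cfsg.Agent.Lib.Fusion.SubSat
import Cfsg.Agent.Lib.Fusion.Hyperfocal
import Cfsg.Agent.Lib.Thompson.Cores
import Cfsg.Agent.Fusion92.InnerControl
import Cfsg.Agent.Fus93.Hyperfocal

set_option autoImplicit false
open Cfsg

namespace Cfsg.Agent.S5245

open Cfsg.Agent.Fusion
open Cfsg.FusionSystem (normalizerIn)

variable {Ω : Type*} [Group Ω] {S : Subgroup Ω}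

/-- The system on `P` of the restrictions of the elements of a group `H` of automorphisms of `P`. -/
noncomputable def resSystem (F : Cfsg.FusionSystem S) (P : Subgroup Ω) (H : Subgroup (MulAut P))
    (hH : H ≤ F.autGroup P) (hI : Cfsg.Inn P ≤ H) (hP : P ≤ S) : Cfsg.FusionSystem P :=
  mkSub F P (fun Q f => Q ≤ P ∧ ∃ γ ∈ H, Set.EqOn (autFun γ) f Q)
    (fun ⟨h1, γ, h2, h3⟩ hfg => ⟨h1, γ, h2, h3.trans hfg⟩)
    (fun {Q f} ⟨h1, γ, h2, h3⟩ => by
      have hi := (mem_autGroup hP).mp (hH h2)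
      exact ⟨(hi.1.mono h1).congr h3, h1, fun x hx => h3 hx ▸ hi.mem (h1 hx)⟩)
    (fun {Q g} hQ hg => ⟨hQ, MulAut.conj (⟨g, hg⟩ : P), hI ⟨_, rfl⟩, fun x hx => by
      rw [autFun_of_mem _ (hQ hx)]; rfl⟩)
    (fun {Q R f g} ⟨h1, γ, h2, h3⟩ ⟨k1, δ, k2, k3⟩ hfg => ⟨h1, δ * γ, H.mul_mem k2 h2, fun x hx => by
      rw [autFun_mul δ γ (h1 hx), Function.comp_apply, Function.comp_apply, h3 hx, k3 (hfg x hx)]⟩)
    (fun {Q R f g} ⟨h1, γ, h2, h3⟩ hf hg hgf => by
      refine ⟨fun y hy => ?_, γ⁻¹, H.inv_mem h2, fun y hy => ?_⟩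
      · obtain ⟨x, hx, rfl⟩ := hf.exists_preimage hy
        rw [← h3 hx]
        exact ((mem_autGroup hP).mp (hH h2)).mem (h1 hx)
      · obtain ⟨x, hx, rfl⟩ := hf.exists_preimage hy
        rw [hgf x hx, ← h3 hx]
        have h4 := (autFun_mul γ⁻¹ γ (h1 hx)).symm
        rw [Function.comp_apply] at h4
        rw [h4, inv_mul_cancel, autFun_one (h1 hx)]
        rfl)

/-- The consequences of having an automorphism of order prime to `p` on `P`. -/
theorem key [Finite S] {p : ℕ} [Fact p.Prime] (hS : IsPGroup p S) (F : Cfsg.FusionSystem S)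
    (hmin : ∀ (T : Subgroup Ω) (E : Cfsg.FusionSystem T), E.IsSaturated p → E.IsSubsystemOf F →
      (T = S ∧ ∀ P : Subgroup Ω, E.Hom P = F.Hom P) ∨
        (∀ P : Subgroup Ω, E.Hom P = (Cfsg.innerFusionSystem T).Hom P))
    {P : Subgroup Ω} (hP : P ≤ S) {β : MulAut P} (hβ : β ∈ F.autGroup P) {q : ℕ} (hq : q.Prime)
    (hqp : q ≠ p) (hord : orderOf β = q) :
    P = S ∧ F.IsNormal P ∧ F.autGroup P = Cfsg.Inn P ⊔ Subgroup.zpowers β := by
  haveI : Finite P := finite_of_le hP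
  haveI := finite_mulAut P
  set H := Cfsg.Inn P ⊔ Subgroup.zpowers β with hHdef
  have hI : Cfsg.Inn P ≤ H := le_sup_left
  have hH : H ≤ F.autGroup P := sup_le (inn_le_autGroup hP) (Subgroup.zpowers_le.mpr hβ)
  set E := resSystem F P H hH hI hP with hE
  have hPp : IsPGroup p P := hS.to_le hP
  have hEaut : E.autGroup P = H := by
    ext γ
    rw [mem_autGroup le_rfl]
    constructor
    · rintro ⟨hm, -⟩
      obtain ⟨-, δ, hδ, he⟩ := isMap_mkSub.mp hm
      rwa [show γ = δ from MulEquiv.ext fun x => Subtype.ext (by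
        rw [← autFun_coe γ, ← autFun_coe δ, he x.2])]
    · intro hγ
      exact ⟨isMap_mkSub.mpr ⟨le_rfl, γ, hγ, fun _ _ => rfl⟩, autFun_image γ⟩
  have hInnp : IsPGroup p (Cfsg.Inn P) :=
    hPp.of_surjective MulAut.conj.rangeRestrict (MulAut.conj).rangeRestrict_surjective
  have hEsat : E.IsSaturated p := by
    refine (isSaturated_iff_receptive hPp).mpr ⟨⟨le_rfl, ?_⟩, fun Q hQ =>
      isReceptive_of hQ.1 fun R f hf M hRM hM => ?_⟩
    · rw [autInducedBy_self_eq_inn]
      refine exists_sylow_eq _ (hInnp.comap_of_injective _ (Subgroup.subtype_injective _)) fun Y hY => ?_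
      haveI : (Cfsg.Inn P).Normal := by
        refine ⟨fun γ hγ δ => ?_⟩
        obtain ⟨a, rfl⟩ := hγ
        exact ⟨δ a, MulEquiv.ext fun x => by
          simp [MulAut.mul_apply, MulAut.conj_apply]⟩
      have hd : Nat.card Y ∣ q * Nat.card (Cfsg.Inn P) := by
        refine (Subgroup.card_subgroup_dvd_card Y).trans ?_
        rw [hEaut, hHdef, sup_comm, ← hord, ← Nat.card_zpowers]
        exact Thompson.card_sup_dvd_mul _ _
      obtain ⟨j, hj⟩ := IsPGroup.iff_card.mp hY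
      rw [Nat.card_congr (Subgroup.subgroupOfEquivOfLe (hEaut ▸ hI)).toEquiv]
      refine Nat.le_of_dvd Nat.card_pos (Nat.Coprime.dvd_of_dvd_mul_left ?_ hd)
      rw [hj]
      exact Nat.Coprime.pow_left _ ((Nat.coprime_primes (Fact.out : p.Prime) hq).mpr (Ne.symm hqp))
    · obtain ⟨-, γ, hγ, he⟩ := isMap_mkSub.mp hf.1
      exact ⟨autFun γ, isMap_mkSub.mpr ⟨hM.1, γ, hγ, fun _ _ => rfl⟩, he⟩
  have hsub : E.IsSubsystemOf F := fun Q => hom_subset_of_isMap fun f hf => by
    obtain ⟨h1, γ, h2, h3⟩ := isMap_mkSub.mp hf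
    exact (((mem_autGroup hP).mp (hH h2)).1.mono h1).congr h3
  rcases hmin P E hEsat hsub with ⟨hPS, heq⟩ | hinn
  · subst hPS
    have hEF : E = F := fusion_ext heq
    refine ⟨rfl, isNormal_iff.mpr ⟨le_rfl, fun Q f hf => ?_⟩, hEF ▸ hEaut⟩
    rw [← hEF] at hf
    obtain ⟨h1, γ, h2, h3⟩ := isMap_mkSub.mp hf
    exact ⟨autFun γ, ((mem_autGroup le_rfl).mp (hH h2)).1.mono (sup_le h1 le_rfl), h3,
      autFun_image γ⟩
  · exfalso
    have hβE : IsMap E P (autFun β) :=
      isMap_mkSub.mpr ⟨le_rfl, β, Subgroup.mem_sup_right (Subgroup.mem_zpowers β), fun _ _ => rfl⟩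
    obtain ⟨-, g, hg, hge⟩ := Fusion92.isMap_inner_iff.mp (hβE.of_subset (hinn P).subset)
    have hβI : β ∈ Cfsg.Inn P := mem_inn.mpr ⟨g, hg, fun x => by rw [← autFun_coe]; exact hge x x.2⟩
    obtain ⟨k, hk⟩ := hInnp ⟨β, hβI⟩
    have hd : q ∣ p ^ k := hord ▸ orderOf_dvd_of_pow_eq_one (congrArg Subtype.val hk)
    exact hqp ((Nat.prime_dvd_prime_iff_eq hq Fact.out).mp (hq.dvd_of_dvd_pow hd))

/-- Let F be an extremely sparse fusion system over a finite p-group S (saturated, not the inner system, and every saturated fusion system over any subgroup T of S contained in F is F itself or the inner system of T). Then S is normal in F, the focal and hyperfocal subgroups of F are both S, and Aut_F(S) is generated by the inner automorphisms of S together with a single automorphism of prime order q ≠ p (F is the fusion system of the semidirect product of S by a cyclic group of prime order). -/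
theorem result {Ω : Type*} [Group Ω] {S : Subgroup Ω} [Finite S] (p : ℕ) [Fact p.Prime] (hS : IsPGroup p S) (F : Cfsg.FusionSystem S) (hF : F.IsSaturated p) (hxs : ¬ (∀ P : Subgroup Ω, F.Hom P = (Cfsg.innerFusionSystem S).Hom P) ∧ ∀ (T : Subgroup Ω) (E : Cfsg.FusionSystem T), E.IsSaturated p → E.IsSubsystemOf F → (T = S ∧ ∀ P : Subgroup Ω, E.Hom P = F.Hom P) ∨ (∀ P : Subgroup Ω, E.Hom P = (Cfsg.innerFusionSystem T).Hom P)) : F.IsNormal S ∧ F.focalSubgroup = S ∧ F.hyperfocalSubgroup p = S ∧ ∃ (q : ℕ) (β : MulAut ↥S), q.Prime ∧ q ≠ p ∧ β ∈ F.autGroup S ∧ orderOf β = q ∧ (F.autGroup S : Subgroup (MulAut ↥S)) = Cfsg.Inn ↥S ⊔ Subgroup.zpowers β := by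
  obtain ⟨hne, hmin⟩ := hxs
  obtain ⟨P, hP, hnp⟩ : ∃ P : Subgroup Ω, P ≤ S ∧ ¬ IsPGroup p (F.autGroup P) := by
    by_contra h
    exact hne fun Q => by
      rw [Cfsg.Agent.S5083.result p hS F hF fun P hP => by_contra fun hn => h ⟨P, hP, hn⟩]
  haveI : Finite P := Cfsg.Agent.Fusion.finite_of_le hP
  haveI := Cfsg.Agent.Fusion.finite_mulAut P
  obtain ⟨q, hq, hqp, α, hα, hαq⟩ : ∃ q, q.Prime ∧ q ≠ p ∧ ∃ α ∈ F.autGroup P, orderOf α = q := by
    obtain ⟨a, ha⟩ := not_forall.mp hnp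
    obtain ⟨k, m, hm, hkm⟩ := Nat.exists_eq_pow_mul_and_not_dvd (orderOf_pos a).ne' p
      (Fact.out : p.Prime).ne_one
    have hm1 : m ≠ 1 := fun h1 => ha ⟨k, by rw [← mul_one (p ^ k), ← h1, ← hkm, pow_orderOf_eq_one]⟩
    obtain ⟨q, hq, hqm⟩ := Nat.exists_prime_and_dvd hm1
    refine ⟨q, hq, fun h => hm (h ▸ hqm), ((a ^ (orderOf a / q) : F.autGroup P) : MulAut P), Subtype.mem _, ?_⟩
    rw [Subgroup.orderOf_coe]
    exact orderOf_pow_orderOf_div (orderOf_pos a).ne' (hqm.trans (hkm ▸ dvd_mul_left _ _))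
  obtain ⟨rfl, hnorm, haut⟩ := key hS F hmin hP hα hq hqp hαq
  have hhyp : F.hyperfocalSubgroup p = P := by
    open Cfsg.Agent.Fusion in
    have hle : F.hyperfocalSubgroup p ≤ P := hyperfocal_le
    set T := F.hyperfocalSubgroup p with hT
    haveI : Finite T := Cfsg.Agent.Fusion.finite_of_le hle
    open Cfsg.Agent.Fusion in
    haveI := finite_mulAut ↥T
    open Cfsg.Agent.Fusion in
    have hiso := (mem_autGroup le_rfl).mp hα
    open Cfsg.Agent.Fusion in
    have hTi : IsIso F T T (autFun α) := by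
      have hm : ∀ x ∈ T, autFun α x ∈ T := fun x hx =>
        (Fus93.hyperfocal_stronglyClosed hS hF hiso.1 x (hle hx)).mp hx
      refine ⟨hiso.1.mono hle, Set.Subset.antisymm ?_ fun y hy => ?_⟩
      · rintro _ ⟨x, hx, rfl⟩
        exact hm x hx
      · exact surjOn_of_card_le hle (hiso.1.mono hle).injOn hm le_rfl y hy
    obtain ⟨γ, hγ, hγe⟩ := hTi.exists_aut
    open Cfsg.Agent.Fusion in
    have hgen : ∀ x : P, ((x⁻¹ * α x : P) : Ω) ∈ T := fun x => by
      have hc : (orderOf (⟨α, hα⟩ : F.autGroup P)).Coprime p := by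
        rw [Subgroup.orderOf_mk, hαq]
        exact (Nat.coprime_primes hq Fact.out).mpr hqp
      have := hyperfocal_gen_mem (p := p) (le_refl P) ⟨α, hα⟩ (Subgroup.subset_closure hc) x.2
      rwa [show autFun ((⟨α, hα⟩ : F.autGroup P) : MulAut P) (x : Ω) = (α x : Ω) from autFun_coe α x] at this
    open Cfsg.Agent.Fusion in
    have hpow : ∀ (k : ℕ) (x : T), (((γ ^ k) x : T) : Ω) = (((α ^ k) ⟨x, hle x.2⟩ : P) : Ω) := by
      intro k
      induction k with
      | zero => intro x; simp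
      | succ k ih =>
        intro x
        rw [pow_succ', pow_succ', MulAut.mul_apply, MulAut.mul_apply, ← autFun_coe γ,
          hγe (SetLike.coe_mem _), ih, autFun_coe]
    have hγq : orderOf γ = q := by
      haveI := Fact.mk hq
      refine orderOf_eq_prime (MulEquiv.ext fun x => Subtype.ext ?_) fun h1 => ?_
      · rw [hpow, ← hαq, pow_orderOf_eq_one]
        rfl
      · have hfix : ∀ y : P, (y : Ω) ∈ T → α y = y := fun y hy => Subtype.ext (by
          have := hpow 1 ⟨(y : Ω), hy⟩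
          rw [pow_one, pow_one, h1, MulAut.one_apply] at this
          exact this.symm)
        refine hq.ne_one ?_
        rw [← hαq, orderOf_eq_one_iff]
        ext x
        rw [Cfsg.Agent.S5223.fixed_of_iterate hS α
          (by rw [hαq]; exact (Nat.coprime_primes hq Fact.out).mpr hqp) 1 x ?_, MulAut.one_apply]
        rw [Function.iterate_succ_apply, Function.iterate_one, hfix _ (hgen x), inv_mul_cancel]
    exact (key hS F hmin hle hγ hq hqp hγq).1
  open Cfsg.Agent.Fusion in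
  refine ⟨hnorm, le_antisymm focal_le (hhyp.ge.trans hyperfocal_le_focal), hhyp, q, α, hq, hqp, hα, hαq, haut⟩

end Cfsg.Agent.S5245
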