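import Cfsg.Statements.S5246
import Cfsg.Agent.Fus93.PStable.Fusion
-- import your own Cfsg.Agent.* helpers here

set_option autoImplicit false
open Cfsg

namespace Cfsg.Agent.S5246

/-- Let p be an odd prime, G a finite group and P a Sylow p-subgroup. Call a fusion system F p-stable when, for every fully normalized subgroup Q and every χ ∈ Aut_F(Q) acting quadratically on Q (that is, χ fixes a⁻¹χ(a) for every a ∈ Q; equivalently χ(a⁻¹)·a·χ(a⁻¹)·χ(χ(a)) = 1), χ lies in O_p(Aut_F(Q)). Then G is p-stable in the normalizer form (for every p-subgroup Q and x ∈ N_G(Q) with [Q, x, x] = 1, the image of x lies in O_p(N_G(Q)/C_G(Q))) if and only if the fusion system of G on P is p-stable. -/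
theorem result {Ω : Type*} [Group Ω] [Finite Ω] {p : ℕ} [Fact p.Prime] (hp : p ≠ 2) (P : Sylow p Ω) : Cfsg.IsNormalizerPStable p Ω ↔ (∀ Q : Subgroup Ω, (Cfsg.groupFusionSystem (P : Subgroup Ω)).IsFullyNormalized Q → ∀ χ : MulAut ↥Q, χ ∈ (Cfsg.groupFusionSystem (P : Subgroup Ω)).autGroup Q → (∀ a : ↥Q, (χ a⁻¹) * a * (χ a⁻¹) * (χ (χ a)) = 1) → χ ∈ ((Cfsg.pCore p ↥((Cfsg.groupFusionSystem (P : Subgroup Ω)).autGroup Q)).map ((Cfsg.groupFusionSystem (P : Subgroup Ω)).autGroup Q).subtype : Subgroup (MulAut ↥Q))) := by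
  refine ⟨fun h Q hQ χ hχ hquad => ?_, Cfsg.Agent.Fus93.PStable.isNormalizerPStable_of_fusion P⟩
  obtain ⟨g, hgmem, hgact⟩ : ∃ g, g ∈ Subgroup.normalizer (Q : Set Ω) ∧
      ∀ y : ↥Q, ((χ y : ↥Q) : Ω) = g * y * g⁻¹ := by
    rw [Cfsg.Agent.Fusion.autGroup_group P hQ.1, ← Cfsg.Agent.Fusion.range_conjAutHom] at hχ
    obtain ⟨x, hx⟩ := hχ
    exact ⟨x, x.2.2, fun y => by rw [← hx]; rfl⟩
  have hstep : ∀ q ∈ Q, Commute g (q * g * q⁻¹ * g⁻¹) := by
    intro q hq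
    have hq' := congrArg (fun a : ↥Q => (a : Ω)) (hquad ⟨q⁻¹, inv_mem hq⟩)
    simp only [Subgroup.coe_mul, hgact, OneMemClass.coe_one, inv_inv, InvMemClass.coe_inv] at hq'
    refine mul_inv_eq_iff_eq_mul.mp ?_
    calc g * (q * g * q⁻¹ * g⁻¹) * g⁻¹
        = (g * q * g⁻¹) * (g * (g * q⁻¹ * g⁻¹) * g⁻¹) := by group
      _ = (g * q * g⁻¹) * ((g * q * g⁻¹) * q⁻¹ * (g * q * g⁻¹))⁻¹ := by
          rw [← eq_inv_of_mul_eq_one_right hq']
      _ = q * g * q⁻¹ * g⁻¹ := by group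
  have hall : ∀ h ∈ Subgroup.zpowers g,
      (∀ q ∈ Q, Commute g (q * h * q⁻¹ * h⁻¹)) := by
    intro h hh
    rw [Subgroup.zpowers_eq_closure] at hh
    suffices Commute g h ∧ ∀ q ∈ Q, Commute g (q * h * q⁻¹ * h⁻¹) from this.2
    induction hh using Subgroup.closure_induction with
    | mem x hx => rw [Set.mem_singleton_iff.mp hx]; exact ⟨Commute.refl g, hstep⟩
    | one => exact ⟨Commute.one_right g, fun q _ => by simp⟩
    | mul a b _ _ ha hb =>
        refine ⟨ha.1.mul_right hb.1, fun q hq => ?_⟩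
        rw [show q * (a * b) * q⁻¹ * (a * b)⁻¹ =
          (q * a * q⁻¹ * a⁻¹) * (a * (q * b * q⁻¹ * b⁻¹) * a⁻¹) by group]
        exact (ha.2 q hq).mul_right ((ha.1.mul_right (hb.2 q hq)).mul_right ha.1.inv_right)
    | inv a _ ha =>
        refine ⟨ha.1.inv_right, fun q hq => ?_⟩
        rw [show q * a⁻¹ * q⁻¹ * (a⁻¹)⁻¹ = a⁻¹ * (q * a * q⁻¹ * a⁻¹)⁻¹ * a by group]
        exact (ha.1.inv_right.mul_right (ha.2 q hq).inv_right).mul_right ha.1
  have hcomm : ⁅⁅Q, Subgroup.zpowers g⁆, Subgroup.zpowers g⁆ = ⊥ := by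
    rw [Subgroup.commutator_eq_bot_iff_le_centralizer, Subgroup.commutator_le]
    intro q hq h hh
    refine Subgroup.mem_centralizer_iff.mpr fun y hy => ?_
    obtain ⟨i, rfl⟩ := hy
    rw [commutatorElement_def]
    exact (Commute.zpow_left (hall h hh q hq) i).eq
  have hmem := h Q (P.isPGroup'.to_le hQ.1) g hgmem hcomm
  set A := (Cfsg.groupFusionSystem (P : Subgroup Ω)).autGroup Q with hAdef
  let ι : ↥(Subgroup.normalizer (Q : Set Ω)) →* ↥(Cfsg.FusionSystem.normalizerIn ⊤ Q) :=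
    (Subgroup.normalizer (Q : Set Ω)).subtype.codRestrict _ fun x => ⟨Subgroup.mem_top _, x.2⟩
  let ψ : ↥(Subgroup.normalizer (Q : Set Ω)) →* ↥A :=
    ((Cfsg.Agent.Fusion.conjAutHom ⊤ Q).comp ι).codRestrict A fun x => by
      rw [hAdef, Cfsg.Agent.Fusion.autGroup_group P hQ.1, ← Cfsg.Agent.Fusion.range_conjAutHom]
      exact ⟨_, rfl⟩
  have hψ : ∀ (x : ↥(Subgroup.normalizer (Q : Set Ω))) (y : ↥Q),
      (((ψ x : MulAut ↥Q) y : ↥Q) : Ω) = (x : Ω) * y * (x : Ω)⁻¹ := fun x y => rfl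
  haveI := Subgroup.normal_subgroupOf_centralizer_normalizer (Q : Set Ω)
  have hsurj : Function.Surjective ψ := by
    rintro ⟨α, hα⟩
    rw [hAdef, Cfsg.Agent.Fusion.autGroup_group P hQ.1, ← Cfsg.Agent.Fusion.range_conjAutHom] at hα
    obtain ⟨x, rfl⟩ := hα
    exact ⟨⟨x, x.2.2⟩, rfl⟩
  have hle : (Subgroup.centralizer (Q : Set Ω)).subgroupOf (Subgroup.normalizer (Q : Set Ω)) ≤ ψ.ker := by
    intro x hx
    refine MonoidHom.mem_ker.mpr (Subtype.ext (MulEquiv.ext fun y => Subtype.ext ?_))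
    rw [hψ]
    show _ = (y : Ω)
    rw [← Subgroup.mem_centralizer_iff.mp (Subgroup.mem_subgroupOf.mp hx) y y.2, mul_inv_cancel_right]
  let F := QuotientGroup.lift _ ψ hle
  have hF : Function.Surjective F := fun a => (hsurj a).imp' QuotientGroup.mk fun x hx => hx
  have hchi : χ = ((F (QuotientGroup.mk ⟨g, hgmem⟩) : ↥A) : MulAut ↥Q) :=
    MulEquiv.ext fun y => Subtype.ext ((hgact y).trans (hψ ⟨g, hgmem⟩ y).symm)
  rw [hchi]
  haveI : ((Cfsg.pCore p _).map F).Normal := Subgroup.Normal.map inferInstance F hF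
  exact Subgroup.mem_map_of_mem _ (Cfsg.Agent.Thompson.le_pCore inferInstance
    (Cfsg.Agent.Thompson.isPGroup_pCore.map F) (Subgroup.mem_map_of_mem F hmem))

end Cfsg.Agent.S5246
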