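import Cfsg.Statements.S5247
import Cfsg.Agent.Lib.Fusion.Subsystem
import Cfsg.Agent.Lib.Fusion.Saturation
import Cfsg.Agent.Fusion92.Basic
import Cfsg.Agent.Lib.Thompson.Cores
import Mathlib.GroupTheory.SpecificGroups.Cyclic

set_option autoImplicit false
open Cfsg

namespace Cfsg.Agent.S5247

open Cfsg.Agent.Fusion
open Cfsg.FusionSystem (normalizerIn)

variable {Ω : Type*} [Group Ω] {S : Subgroup Ω} {F : Cfsg.FusionSystem S} {p : ℕ}

/-- Membership in `O_p` of an automorphism group passes to smaller groups. -/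
theorem mem_core_of_le {P : Subgroup Ω} [Finite P] [Fact p.Prime] {A B : Subgroup (MulAut P)}
    (hBA : B ≤ A) {χ : MulAut P} (hB : χ ∈ B) (h : χ ∈ (Cfsg.pCore p A).map A.subtype) :
    χ ∈ (Cfsg.pCore p B).map B.subtype := by
  haveI := Fusion.finite_mulAut P
  obtain ⟨a, ha, rfl⟩ := h
  refine ⟨⟨(a : MulAut P), hB⟩, ?_, rfl⟩
  have h1 := Thompson.subgroupOf_pCore_le (p := p) (B.subgroupOf A)
  have h2 := h1 (x := ⟨a, hB⟩) ha
  have h3 := Thompson.map_pCore_equiv (p := p) (Subgroup.subgroupOfEquivOfLe hBA)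
  rw [← h3]
  exact ⟨_, h2, rfl⟩

/-- In a commutative automorphism group, a quadratic element lies in the `p`-core. -/
theorem mem_core_of_cyclic {P : Subgroup Ω} [Finite P] [Fact p.Prime] (hP : IsPGroup p P)
    (hc : IsCyclic P) {A : Subgroup (MulAut P)} {χ : MulAut P} (hA : χ ∈ A)
    (hq : ∀ a : P, (χ a⁻¹) * a * (χ a⁻¹) * (χ (χ a)) = 1) :
    χ ∈ (Cfsg.pCore p A).map A.subtype := by
  haveI := Fusion.finite_mulAut P
  obtain ⟨g, hg⟩ := hc.exists_generator
  have hcomm : ∀ a b : P, a * b = b * a := fun a b => by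
    obtain ⟨i, rfl⟩ := Subgroup.mem_zpowers_iff.mp (hg a)
    obtain ⟨j, rfl⟩ := Subgroup.mem_zpowers_iff.mp (hg b)
    rw [← zpow_add, ← zpow_add, add_comm]
  have hautcomm : ∀ α β : MulAut P, α * β = β * α := by
    intro α β
    ext x
    obtain ⟨i, rfl⟩ := Subgroup.mem_zpowers_iff.mp (hg x)
    obtain ⟨a, ha⟩ := Subgroup.mem_zpowers_iff.mp (hg (α g))
    obtain ⟨b, hb⟩ := Subgroup.mem_zpowers_iff.mp (hg (β g))
    simp only [MulAut.mul_apply, map_zpow, ← ha, ← hb]
    rw [zpow_comm g a b]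
  refine ⟨⟨χ, hA⟩, ?_, rfl⟩
  have hn : (Subgroup.zpowers (⟨χ, hA⟩ : A)).Normal := ⟨fun n hn y => by
    rwa [show y * n * y⁻¹ = n by
      rw [show y * n = n * y from Subtype.ext (hautcomm _ _), mul_inv_cancel_right]]⟩
  -- `χ` has `p`-power order
  set c := g⁻¹ * χ g with hcdef
  have hχg : χ g = g * c := by simp [hcdef]
  have hχc : χ c = c := by
    have h := hq g
    rw [map_inv] at h
    rw [hcdef, map_mul, map_inv]
    rw [mul_assoc ((χ g)⁻¹ * g)] at h
    rw [eq_inv_of_mul_eq_one_right h, mul_inv_rev, inv_inv]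
  have hpow : ∀ i : ℕ, (χ ^ i) g = g * c ^ i := by
    intro i
    induction i with
    | zero => simp
    | succ i hi => rw [pow_succ' χ, MulAut.mul_apply, hi, map_mul, map_pow, hχc, hχg, mul_assoc,
        ← pow_succ' c]
  obtain ⟨k, hk⟩ := hP c
  have hχk : χ ^ p ^ k = 1 := by
    ext x
    obtain ⟨i, rfl⟩ := Subgroup.mem_zpowers_iff.mp (hg x)
    rw [map_zpow, hpow, hk, mul_one, MulAut.one_apply]
  refine Thompson.le_pCore hn ?_ (Subgroup.mem_zpowers _)
  obtain ⟨i, -, hi⟩ := (Nat.dvd_prime_pow (Fact.out : p.Prime)).mp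
    (orderOf_dvd_of_pow_eq_one (show (⟨χ, hA⟩ : A) ^ p ^ k = 1 from Subtype.ext hχk))
  exact IsPGroup.of_card (n := i) (by rw [Nat.card_zpowers, hi])

/-- The condition at fully normalized subgroups gives it at all subgroups. -/
theorem stable_all [Finite S] [Fact p.Prime]
    (h : ∀ Q : Subgroup Ω, F.IsFullyNormalized Q → ∀ χ : MulAut ↥Q, χ ∈ F.autGroup Q →
      (∀ a : ↥Q, (χ a⁻¹) * a * (χ a⁻¹) * (χ (χ a)) = 1) →
      χ ∈ ((Cfsg.pCore p ↥(F.autGroup Q)).map (F.autGroup Q).subtype : Subgroup (MulAut ↥Q)))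
    {Q : Subgroup Ω} (hQ : Q ≤ S) {χ : MulAut ↥Q} (hχ : χ ∈ F.autGroup Q)
    (hq : ∀ a : ↥Q, (χ a⁻¹) * a * (χ a⁻¹) * (χ (χ a)) = 1) :
    χ ∈ (Cfsg.pCore p ↥(F.autGroup Q)).map (F.autGroup Q).subtype := by
  obtain ⟨R, hR, hRn⟩ := exists_fullyNormalized (F := F) hQ
  obtain ⟨f, hf⟩ := isConj_iff.mp hR
  set a : F.autGroup Q := ⟨χ, hχ⟩ with ha
  obtain ⟨b, hb, hbe⟩ := h R hRn (hf.autEquiv a : MulAut R) (hf.autEquiv a).2 (fun x => by
    obtain ⟨y, rfl⟩ := hf.equiv.surjective x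
    have hv : ∀ z : Q, (hf.autEquiv a : MulAut R) (hf.equiv z) = hf.equiv (χ z) := fun z => by
      rw [IsIso.autEquiv_coe]
      show hf.equiv (χ (hf.equiv.symm (hf.equiv z))) = _
      rw [hf.equiv.symm_apply_apply]
    rw [← map_inv hf.equiv, hv, hv, hv, ← map_mul, ← map_mul, ← map_mul, hq, map_one])
  have hb' : b = hf.autEquiv a := Subtype.ext hbe
  rw [hb', ← Thompson.map_pCore_equiv (p := p) hf.autEquiv] at hb
  obtain ⟨a', ha', hae⟩ := hb
  exact ⟨a', ha', congrArg Subtype.val (hf.autEquiv.injective hae)⟩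

/-- Let p be an odd prime and F a saturated fusion system over a finite p-group S. Call a fusion system E (over any subgroup) p-stable when, for every fully E-normalized subgroup Q and every χ ∈ Aut_E(Q) with χ(a⁻¹)·a·χ(a⁻¹)·χ(χ(a)) = 1 for all a ∈ Q (χ acts quadratically), χ lies in O_p(Aut_E(Q)). Then F is p-stable if and only if every normalizer fusion system N_F(R) of every non-cyclic fully F-normalized subgroup R of S is p-stable. -/
theorem result {Ω : Type*} [Group Ω] {S : Subgroup Ω} [Finite S] (p : ℕ) [Fact p.Prime] (hS : IsPGroup p S) (F : Cfsg.FusionSystem S) (hF : F.IsSaturated p) (hp : p ≠ 2) : (∀ Q : Subgroup Ω, F.IsFullyNormalized Q → ∀ χ : MulAut ↥Q, χ ∈ F.autGroup Q → (∀ a : ↥Q, (χ a⁻¹) * a * (χ a⁻¹) * (χ (χ a)) = 1) → χ ∈ ((Cfsg.pCore p ↥(F.autGroup Q)).map (F.autGroup Q).subtype : Subgroup (MulAut ↥Q))) ↔ ∀ R : Subgroup Ω, F.IsFullyNormalized R → ¬ IsCyclic ↥R → ∀ N : Cfsg.FusionSystem (Cfsg.FusionSystem.normalizerIn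 S R), F.IsNormalizerSystem R N → (∀ Q : Subgroup Ω, N.IsFullyNormalized Q → ∀ χ : MulAut ↥Q, χ ∈ N.autGroup Q → (∀ a : ↥Q, (χ a⁻¹) * a * (χ a⁻¹) * (χ (χ a)) = 1) → χ ∈ ((Cfsg.pCore p ↥(N.autGroup Q)).map (N.autGroup Q).subtype : Subgroup (MulAut ↥Q))) := by
  constructor
  · intro h R hR _ N hN Q hQ χ hχ hq
    have hsub : N.Hom Q ⊆ F.Hom Q := fun φ hφ => by
      rw [hN Q] at hφ
      exact hφ.1
    have hQS : Q ≤ S := hQ.1.trans inf_le_left
    haveI : Finite Q := finite_of_le hQS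
    exact mem_core_of_le (autGroup_mono hsub) hχ (stable_all h hQS (autGroup_mono hsub hχ) hq)
  · intro h Q hQ χ hχ hq
    haveI : Finite Q := finite_of_le hQ.1
    by_cases hc : IsCyclic Q
    · exact mem_core_of_cyclic (hS.to_le hQ.1) hc hχ hq
    have hN := isNormalizerSystem_normalizerSystem (F := F) Q hQ.1
    set N := normalizerSystem F Q hQ.1
    have heq : N.autGroup Q = F.autGroup Q := by
      refine le_antisymm (autGroup_mono fun φ hφ => ?_) fun α hα => ?_
      · rw [hN Q] at hφ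
        exact hφ.1
      · have hiso := (mem_autGroup hQ.1).mp hα
        refine autGroup_mem_of_isMap ((IsNormalizerSystem.isMap_iff hN).mpr
          ⟨hiso.1, le_normalizerIn hQ.1, fun x hx => le_normalizerIn hQ.1 (hiso.mem hx),
            autFun α, hiso.1.mono (sup_le le_rfl le_rfl), fun _ _ => rfl, autFun_image α⟩)
    have hQN : N.IsFullyNormalized Q := by
      refine ⟨le_normalizerIn hQ.1, fun T hT => ?_⟩
      rw [show normalizerIn (normalizerIn S Q) Q = normalizerIn S Q from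
        inf_eq_left.mpr inf_le_right]
      haveI : Finite (normalizerIn S Q) := finite_of_le inf_le_left
      exact Subgroup.card_le_of_le inf_le_left
    have := h Q hQ hc N hN Q hQN χ (heq ▸ hχ) hq
    rwa [heq] at this

end Cfsg.Agent.S5247
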