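import Cfsg.Statements.S5249
import Cfsg.Agent.Fus93.PStable.Constrained
import Cfsg.Agent.LocalEven61.QdStability

set_option autoImplicit false
open Cfsg

namespace Cfsg.Agent.S5249

/-- Let p be an odd prime, G a finite group in which Qd(p) (the natural semidirect product of an elementary abelian group of order p² by SL₂(p)) is not involved, and P a Sylow p-subgroup of G. Then the fusion system of G on P is a solvable fusion system. -/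
theorem result {G : Type*} [Group G] [Finite G] {p : ℕ} [Fact p.Prime] (hp : p ≠ 2) (hqd : ¬ Cfsg.Involves ↥(Cfsg.qd p) G) (P : Sylow p G) : (Cfsg.groupFusionSystem (P : Subgroup G)).IsSolvableSystem := by
  intro R hR hRne _ E hE
  set S : Subgroup G := (P : Subgroup G) with hS
  set N : Subgroup G := Subgroup.normalizer (R : Set G) with hN
  have hSN : S ≤ N := Fusion.stronglyClosed_le_normalizer hR
  set R₀ : Subgroup ↥N := R.subgroupOf N with hR₀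
  haveI : R₀.Normal := Subgroup.normal_in_normalizer
  set π := QuotientGroup.mk' R₀ with hπ
  let P₁ : Sylow p ↥N := P.subtype hSN
  let P₂ : Sylow p (↥N ⧸ R₀) := P₁.mapSurjective (QuotientGroup.mk'_surjective R₀)
  have hP₂ : ∀ z : ↥N ⧸ R₀, z ∈ (P₂ : Subgroup (↥N ⧸ R₀)) ↔ ∃ s : ↥S, π ⟨s, hSN s.2⟩ = z := by
    intro z
    constructor
    · rintro ⟨n, hn, rfl⟩
      exact ⟨⟨n, hn⟩, rfl⟩
    · rintro ⟨s, rfl⟩
      exact ⟨_, s.2, rfl⟩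
  have hst : Cfsg.IsNormalizerPStable p (↥N ⧸ R₀) :=
    LocalEven61.isNormalizerPStable_of_not_involves hp fun hc =>
      hqd (LocalEven61.involves_trans hc ⟨N, R, inferInstance, ⟨MulEquiv.refl _⟩⟩)
  obtain ⟨-, Q, hQn, hQc⟩ := Fus93.PStable.isConstrained_of_stable hp P₂ hst
  -- the identification of `S/R` with the Sylow subgroup of `N/R`
  have hker : R.subgroupOf S ≤ (π.comp (Subgroup.inclusion hSN)).ker := fun s hs =>
    (QuotientGroup.eq_one_iff _).mpr hs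
  let ι : ↥S ⧸ R.subgroupOf S →* ↥N ⧸ R₀ :=
    QuotientGroup.lift _ (π.comp (Subgroup.inclusion hSN)) hker
  have hιmk : ∀ s : ↥S, ι (QuotientGroup.mk s) = π ⟨s, hSN s.2⟩ := fun s => rfl
  have hιi : Function.Injective ι := by
    refine (injective_iff_map_eq_one ι).mpr fun a ha => ?_
    induction a using QuotientGroup.induction_on with
    | H s => exact (QuotientGroup.eq_one_iff _).mpr ((QuotientGroup.eq_one_iff _).mp ha : _ ∈ R₀)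
  have hιP : ∀ a, ι a ∈ (P₂ : Subgroup (↥N ⧸ R₀)) := fun a => by
    induction a using QuotientGroup.induction_on with
    | H s => exact (hP₂ _).mpr ⟨s, rfl⟩
  let Q' : Subgroup (↥S ⧸ R.subgroupOf S) := Q.comap ι
  have hQ'Q : Q'.map ι = Q := by
    refine le_antisymm (Subgroup.map_comap_le _ _) fun q hq => ?_
    obtain ⟨s, rfl⟩ := (hP₂ q).mp (hQn.1 hq)
    exact ⟨QuotientGroup.mk s, hq, hιmk s⟩
  have hQ'ne : Q' ≠ ⊥ := by
    intro h0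
    have hQ0 : Q = ⊥ := by rw [← hQ'Q, h0, Subgroup.map_bot]
    obtain ⟨s, hsS, hsR⟩ : ∃ s ∈ S, s ∉ R := by
      by_contra hc
      push Not at hc
      exact hRne (le_antisymm hR.1 hc)
    have hmem := hQc.2 Q (Fusion.isConj_refl hQn.1)
      (show π ⟨s, hSN hsS⟩ ∈ _ from ⟨(hP₂ _).mpr ⟨⟨s, hsS⟩, rfl⟩, by
        rw [hQ0]
        exact Subgroup.mem_centralizer_iff.mpr fun q hq => by
          rw [Subgroup.mem_bot.mp hq]; simp⟩)
    rw [hQ0, Subgroup.mem_bot] at hmem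
    exact hsR ((QuotientGroup.eq_one_iff _).mp hmem : (⟨s, hSN hsS⟩ : ↥N) ∈ R₀)
  refine fun h0 => hQ'ne (eq_bot_iff.mpr (h0 ▸ le_sSup ?_))
  refine ⟨le_top, fun A φ' hφ' => ?_⟩
  obtain ⟨-, φ, ⟨-, hφS, g, hg⟩, hPS, hφS', hPA, hind⟩ := (hE.2.2.2 A φ').mp hφ'
  -- `g` normalizes `R`
  have hpre : ∀ s : ↥S, QuotientGroup.mk' (R.subgroupOf S) s ∈ A →
      (s : G) ∈ FusionSystem.preimageAlong (QuotientGroup.mk' (R.subgroupOf S)) A :=
    fun s hs => ⟨s, hs, rfl⟩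
  have hgR : ∀ r ∈ R, g * r * g⁻¹ ∈ R := by
    intro r hr
    have hrA : r ∈ FusionSystem.preimageAlong (QuotientGroup.mk' (R.subgroupOf S)) A :=
      hpre ⟨r, hR.1 hr⟩ (by
        rw [QuotientGroup.mk'_apply, (QuotientGroup.eq_one_iff (⟨r, hR.1 hr⟩ : ↥S)).mpr (show (⟨r, hR.1 hr⟩ : ↥S) ∈ R.subgroupOf S from hr)]; exact A.one_mem)
    have hmem : ∀ x : ↥R, g * (x : G) * g⁻¹ ∈ S := fun x => by
      have hxA : (x : G) ∈ FusionSystem.preimageAlong (QuotientGroup.mk' (R.subgroupOf S)) A :=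
        hpre ⟨x, hR.1 x.2⟩ (by
          rw [QuotientGroup.mk'_apply, (QuotientGroup.eq_one_iff (⟨x, hR.1 x.2⟩ : ↥S)).mpr (show (⟨x, hR.1 x.2⟩ : ↥S) ∈ R.subgroupOf S from x.2)]; exact A.one_mem)
      have := hφS ⟨x, hxA⟩
      rwa [hg] at this
    exact hR.2 R le_rfl ((MulAut.conj g).toMonoidHom.comp R.subtype)
      ⟨hR.1, hmem, g, fun x => rfl⟩ ⟨r, hr⟩
  have hgN : g ∈ N := by
    rw [hN, Subgroup.mem_normalizer_iff]
    have hfin : Set.MapsTo (fun r => g * r * g⁻¹) (R : Set G) (R : Set G) := hgR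
    intro r
    refine ⟨hgR r, fun hr => ?_⟩
    obtain ⟨r', hr', he⟩ := ((Set.toFinite (R : Set G)).injOn_iff_bijOn_of_mapsTo hfin).mp
      (fun a _ b _ h => mul_left_cancel (mul_right_cancel h)) |>.surjOn hr
    exact (mul_left_cancel (mul_right_cancel he) : r' = r) ▸ hr'
  have key : ∀ a : ↥A, ι (φ' a) = π ⟨g, hgN⟩ * ι a * (π ⟨g, hgN⟩)⁻¹ := by
    rintro ⟨a, ha⟩
    obtain ⟨s, rfl⟩ := QuotientGroup.mk'_surjective _ a
    have hsA := hpre s ha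
    have h1 := hind ⟨s, hsA⟩
    have h2 : φ' ⟨_, ha⟩ = _ := h1
    rw [h2]
    show π ⟨φ ⟨s, hsA⟩, hSN (hφS' ⟨s, hsA⟩)⟩ = π ⟨g, hgN⟩ * π ⟨s, hSN s.2⟩ * (π ⟨g, hgN⟩)⁻¹
    rw [← map_inv, ← map_mul, ← map_mul]
    exact congrArg π (Subtype.ext (hg ⟨s, hsA⟩))
  -- conjugation by `g` as a morphism of `N/R`
  let ψ : ↥(A.map ι) →* ↥N ⧸ R₀ := (MulAut.conj (π ⟨g, hgN⟩)).toMonoidHom.comp (A.map ι).subtype
  have hψ : ψ ∈ (Cfsg.groupFusionSystem (P₂ : Subgroup (↥N ⧸ R₀))).Hom (A.map ι) := by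
    refine ⟨fun z hz => ?_, fun z => ?_, _, fun z => rfl⟩
    · obtain ⟨a, -, rfl⟩ := hz
      exact hιP a
    · obtain ⟨z, a, ha, rfl⟩ := z
      show π ⟨g, hgN⟩ * ι a * (π ⟨g, hgN⟩)⁻¹ ∈ _
      rw [← key ⟨a, ha⟩]
      exact hιP _
  obtain ⟨χ, ⟨hχle, hχP, k, hk⟩, hχφ, hχQ⟩ := hQn.2 _ ψ hψ
  obtain ⟨k, rfl⟩ := QuotientGroup.mk'_surjective R₀ k
  have hAQ : ∀ a ∈ A ⊔ Q', ι a ∈ A.map ι ⊔ Q := fun a ha =>
    hQ'Q ▸ (Subgroup.map_sup A Q' ι) ▸ ⟨a, ha, rfl⟩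
  let χ' : ↥(A ⊔ Q') →* ↥S ⧸ R.subgroupOf S :=
    (MonoidHom.ofInjective hιi).symm.toMonoidHom.comp
      (((χ.comp ((ι.comp (A ⊔ Q').subtype).codRestrict _ fun a => hAQ a a.2))).codRestrict ι.range
        fun a => by
          obtain ⟨s, hs⟩ := (hP₂ _).mp (hχP ⟨ι a, hAQ a a.2⟩)
          exact ⟨QuotientGroup.mk s, (hιmk s).trans hs⟩)
  have hιχ : ∀ a : ↥(A ⊔ Q'), ι (χ' a) = π k * ι a * (π k)⁻¹ := fun a => by
    rw [← hk ⟨ι a, hAQ a a.2⟩]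
    exact congrArg Subtype.val ((MonoidHom.ofInjective hιi).apply_symm_apply _)
  have hmemB : ∀ x ∈ FusionSystem.preimageAlong (QuotientGroup.mk' (R.subgroupOf S)) (A ⊔ Q'),
      ∃ hxS : x ∈ S, QuotientGroup.mk' (R.subgroupOf S) ⟨x, hxS⟩ ∈ (A ⊔ Q') := by
    rintro _ ⟨s, hs, rfl⟩
    exact ⟨s.2, hs⟩
  have hkS : ∀ x ∈ FusionSystem.preimageAlong (QuotientGroup.mk' (R.subgroupOf S)) (A ⊔ Q'),
      (k : G) * x * (k : G)⁻¹ ∈ S := by
    intro x hx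
    obtain ⟨hxS, hxB⟩ := hmemB x hx
    obtain ⟨s, hs⟩ := QuotientGroup.mk'_surjective _ (χ' ⟨_, hxB⟩)
    have h1 : π (k * ⟨x, hSN hxS⟩ * k⁻¹) = π ⟨s, hSN s.2⟩ := by
      rw [map_mul, map_mul, map_inv, ← hιmk s, ← hιmk ⟨x, hxS⟩]
      have := hιχ ⟨_, hxB⟩
      rw [← hs] at this
      exact this.symm
    have h2 := QuotientGroup.eq.mp h1.symm
    have h3 : ((s : G))⁻¹ * ((k : G) * x * (k : G)⁻¹) ∈ R := h2
    simpa using S.mul_mem s.2 (hR.1 h3)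
  refine ⟨χ', (hE.2.2.2 (A ⊔ Q') χ').mpr ⟨le_top, ?_⟩, fun a => hιi ?_, ?_⟩
  · refine ⟨(MulAut.conj (k : G)).toMonoidHom.comp
      (FusionSystem.preimageAlong (QuotientGroup.mk' (R.subgroupOf S)) (A ⊔ Q')).subtype,
      ⟨fun x hx => (hmemB x hx).1, fun x => hkS x x.2, _, fun x => rfl⟩,
      fun x hx => (hmemB x hx).1, fun x => hkS x x.2, fun x => (hmemB x x.2).2, fun x => hιi ?_⟩
    rw [hιχ]
    show π k * π ⟨x, hSN (hmemB x x.2).1⟩ * (π k)⁻¹ = π ⟨(k : G) * x * (k : G)⁻¹, hSN (hkS x x.2)⟩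
    rw [← map_inv, ← map_mul, ← map_mul]
    exact congrArg π (Subtype.ext rfl)
  · rw [hιχ, key]
    have := hχφ ⟨ι a, a, a.2, rfl⟩
    rw [hk] at this
    exact this
  · apply Subgroup.map_injective hιi
    rw [hQ'Q]
    refine le_antisymm ?_ ?_
    · rintro _ ⟨_, ⟨a, ha, rfl⟩, rfl⟩
      rw [hιχ, ← hk ⟨ι a, hAQ a a.2⟩]
      exact hχQ.le ⟨⟨ι a, hAQ a a.2⟩, ha, rfl⟩
    · intro z hz
      rw [← hχQ] at hz
      obtain ⟨⟨y, hy⟩, hyQ, rfl⟩ := hz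
      have hy2 : y ∈ Q'.map ι := hQ'Q ▸ hyQ
      obtain ⟨a, ha, rfl⟩ := hy2
      refine ⟨_, ⟨⟨a, Subgroup.mem_sup_right ha⟩, ha, rfl⟩, ?_⟩
      rw [hιχ, hk]

end Cfsg.Agent.S5249
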