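import Cfsg.Statements.S5250
import Cfsg.Agent.Fusion92.Radical
import Cfsg.Agent.LocalEven61.Involves

set_option autoImplicit false
universe u
open Cfsg

namespace Cfsg.Agent.S5250

/-- Let F be a saturated fusion system over a finite p-group S such that Qd(p) (the natural semidirect product of an elementary abelian group of order p² by SL₂(p)) is involved in no model of the normalizer system of any fully normalized subgroup that is both centric and radical in F. Then F is Qd(p)-free: Qd(p) is involved in no model of the normalizer system of any fully normalized centric subgroup. -/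
theorem result {Ω : Type u} [Group Ω] {S : Subgroup Ω} [Finite S] (p : ℕ) [Fact p.Prime] (hS : IsPGroup p S) (F : Cfsg.FusionSystem S) (hF : F.IsSaturated p) (h : ∀ Q : Subgroup Ω, F.IsFullyNormalized Q → F.IsCentric Q → F.IsRadical p Q → ∀ N : Cfsg.FusionSystem (Cfsg.FusionSystem.normalizerIn S Q), F.IsNormalizerSystem Q N → ∀ (L : Type u) [Group L] (ι : ↥(Cfsg.FusionSystem.normalizerIn S Q) →* L), N.IsModel p L ι → ¬ Cfsg.Involves ↥(Cfsg.qd p) L) : F.IsSectionFree p ↥(Cfsg.qd p) := by
  intro Q hQN hQC N hN L _ ι hM hinv
  obtain ⟨U', L', hG', ι', hU'N, hU'C, hU'R, h', j, hj⟩ :=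
    (Fusion92.IsLocal.of_isModel hS hF hQC hN hM).exists_radical_embedding hS hF hQC hQN
  refine h U' hU'N hU'C hU'R _ (Fusion.isNormalizerSystem_normalizerSystem U' hU'C.1) L' ι'
    (h'.isModel hS (Fusion.isNormalizerSystem_normalizerSystem U' hU'C.1)) ?_
  exact LocalEven61.involves_trans hinv
    (LocalEven61.involves_of_hom (MonoidHom.id L) (fun x => ⟨x, rfl⟩) j hj)

end Cfsg.Agent.S5250
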