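import Cfsg.Statements.S5251
import Cfsg.Agent.Lib.Fusion.Normal
import Cfsg.Agent.Fusion92.Basic
import Cfsg.Agent.Lib.Thompson.Cores

set_option autoImplicit false
open Cfsg

namespace Cfsg.Agent.S5251

open Cfsg.Agent.Fusion
open Cfsg.FusionSystem (normalizerIn centralizerIn)

/-- Let F be a saturated fusion system over a finite p-group S, E a normal subsystem of F over T, and P an F-centric subgroup of S such that P ∩ T is not E-centric. Then some F-conjugate P* of P satisfies Out_S(P*) ∩ O_p(Out_F(P*)) ≠ 1: there is an element of N_S(P*) outside P* whose conjugation action on P* lies in O_p(Aut_F(P*)). In particular P is not both centric and radical in F. -/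
theorem result {Ω : Type*} [Group Ω] {S : Subgroup Ω} [Finite S] (p : ℕ) [Fact p.Prime] (hS : IsPGroup p S) (F : Cfsg.FusionSystem S) (hF : F.IsSaturated p) {T : Subgroup Ω} (E : Cfsg.FusionSystem T) (hE : E.IsNormalIn F p) (P : Subgroup Ω) (hP : F.IsCentric P) (hPT : ¬ E.IsCentric (P ⊓ T)) : (∃ φ ∈ F.Hom P, ∃ x ∈ S ⊓ Subgroup.normalizer (φ.range : Set Ω), x ∉ φ.range ∧ ∃ α ∈ ((Cfsg.pCore p ↥(F.autGroup φ.range)).map (F.autGroup φ.range).subtype : Subgroup (MulAut ↥φ.range)), ∀ y : ↥φ.range, ((α y : ↥φ.range) : Ω) = x * (y : Ω) * x⁻¹) ∧ ¬ F.IsRadical p P := by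
  have hT : F.StronglyClosed T := hE.1.2.2.2.1
  have hPS := hP.1
  set A := P ⊓ T with hA
  have hAS : A ≤ S := inf_le_left.trans hPS
  obtain ⟨Q, hQE, hQc⟩ : ∃ Q, E.IsConj A Q ∧ ¬ centralizerIn T Q ≤ Q := by
    by_contra h
    exact hPT ⟨inf_le_right, fun Q hQ => by_contra fun hc => h ⟨Q, hQ, hc⟩⟩
  have hAQ : F.IsConj A Q := by
    obtain ⟨φ, hφ, hr⟩ := hQE
    exact ⟨φ, hE.1.2.2.1 A hφ, hr⟩
  obtain ⟨R, hR, hRn⟩ := exists_fullyNormalized (F := F) hAS
  have hRa := fullyAutomized_of_fullyNormalized hS hF hRn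
  have hRr := receptive_of_fullyNormalized hS hF hRn
  obtain ⟨v, hv, hvR, -⟩ := exists_normalizer_map hS hRa hRr (isConj_trans (isConj_symm hAQ) hR)
  obtain ⟨u, hu, huR, huN⟩ := exists_normalizer_map hS hRa hRr hR
  -- `C_T(R)` is not inside `R`
  have hRc : ¬ centralizerIn T R ≤ R := by
    obtain ⟨c, hc, hcQ⟩ := SetLike.not_le_iff_exists.mp hQc
    have hcS : c ∈ S := hT.1 hc.1
    have hcN : c ∈ normalizerIn S Q := ⟨hcS, Subgroup.centralizer_le_normalizer _ hc.2⟩
    intro hle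
    have h1 := hle (show v c ∈ centralizerIn T R from
      ⟨Fusion92.closed_apply hT hv hcN hc.1,
        (map_mem_centralizer hv (le_normalizerIn hvR.dom_le) hvR.2 hcN hc.2).2⟩)
    obtain ⟨q, hq, hqe⟩ := hvR.exists_preimage h1
    exact hcQ (hv.injOn (le_normalizerIn hvR.dom_le hq) hcN hqe ▸ hq)
  have hPN : P ≤ normalizerIn S A := fun x hx => ⟨hPS hx, Subgroup.inf_normalizer_le_normalizer_inf
    ⟨P.le_normalizer hx, stronglyClosed_le_normalizer hT (hPS hx)⟩⟩
  have huP : IsMap F P u := hu.mono hPN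
  obtain ⟨P', hP'⟩ := huP.exists_image
  have hP'N : P' ≤ normalizerIn S R := fun y hy => by
    obtain ⟨a, ha, rfl⟩ := hP'.exists_preimage hy
    exact huN a (hPN ha)
  have hint : T ⊓ P' = R := by
    apply le_antisymm
    · rintro y ⟨hyT, hyP⟩
      obtain ⟨g, hg, hgl, -⟩ := hP'.exists_inv
      obtain ⟨a, ha, rfl⟩ := hP'.exists_preimage hyP
      have : g (u a) ∈ T := Fusion92.closed_apply hT hg.1 hyP hyT
      rw [hgl a ha] at this
      exact huR.mem ⟨ha, this⟩
    · intro y hy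
      obtain ⟨a, ha, rfl⟩ := huR.exists_preimage hy
      exact ⟨Fusion92.closed_apply hT hu (hPN ha.1) ha.2, hP'.mem ha.1⟩
  have hnorm : P' ≤ Subgroup.normalizer ((centralizerIn T R : Subgroup Ω) : Set Ω) := fun x hx =>
    Subgroup.inf_normalizer_le_normalizer_inf ⟨stronglyClosed_le_normalizer hT (hP'N hx).1, by
      have h := (hP'N hx).2
      refine Subgroup.mem_normalizer_iff.mpr ?_
      refine fun c => ⟨fun hc => ?_, fun hc => ?_⟩
      · refine Subgroup.mem_centralizer_iff.mpr fun r hr => ?_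
        have := Subgroup.mem_centralizer_iff.mp hc _ (conj_mem_of_mem_normalizer (inv_mem h) hr)
        calc r * (x * c * x⁻¹) = x * ((x⁻¹ * r * x⁻¹⁻¹) * c) * x⁻¹ := by group
          _ = x * (c * (x⁻¹ * r * x⁻¹⁻¹)) * x⁻¹ := by rw [this]
          _ = x * c * x⁻¹ * r := by group
      · refine Subgroup.mem_centralizer_iff.mpr fun r hr => ?_
        have := Subgroup.mem_centralizer_iff.mp hc _ (conj_mem_of_mem_normalizer h hr)
        calc r * c = x⁻¹ * ((x * r * x⁻¹) * (x * c * x⁻¹)) * x := by group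
          _ = x⁻¹ * ((x * c * x⁻¹) * (x * r * x⁻¹)) * x := by rw [this]
          _ = c * r := by group⟩
  obtain ⟨x, hxK, hxN, hxP⟩ : ∃ x ∈ centralizerIn T R,
      x ∈ Subgroup.normalizer (P' : Set Ω) ∧ x ∉ P' := by
    by_contra h
    refine hRc fun y hy => hint ▸ ⟨hy.1, ?_⟩
    exact le_of_normalizer_le hS hP'.cod_le (inf_le_left.trans hT.1) hnorm
      (fun g hg hgN => by_contra fun hgP => h ⟨g, hg, hgN, hgP⟩) hy
  have hxS : x ∈ normalizerIn S P' := ⟨hT.1 hxK.1, hxN⟩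
  have hP'S := hP'.cod_le
  haveI : Finite P' := Fusion.finite_of_le hP'S
  -- the chain `1 ≤ R ≤ P'`
  let D : ℕ → Subgroup Ω := fun i => if i = 0 then ⊥ else if i = 1 then T ⊓ P' else P'
  have hDP : ∀ i, D i ≤ P' := fun i => by
    simp only [D]; split
    · exact bot_le
    · split
      · exact inf_le_right
      · exact le_rfl
  have hinv : ∀ i ≤ 2, ∀ α ∈ F.autGroup P', autFun α '' (D i : Set Ω) = (D i : Set Ω) := by
    intro i _ α hα
    simp only [D]; split
    · rw [Subgroup.coe_bot, Set.image_singleton, ((mem_autGroup hP'S).mp hα).1.map_one]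
    · split
      · exact closed_autFun_image hT hP'S hα
      · exact autFun_image α
  set α : F.autGroup P' := ⟨conjAutHom S P' ⟨x, hxS⟩,
    autInducedBy_le_autGroup hP'S (range_conjAutHom S P' ▸ ⟨_, rfl⟩)⟩ with hαdef
  have hαcore : α ∈ pCore p (F.autGroup P') := by
    refine Thompson.le_pCore (chainStab_normal D 2 hinv hDP)
      (chainStab_isPGroup (hS.to_le hP'S) D 2 hinv hDP rfl rfl) ?_
    intro i hi y hy
    rw [autFun_of_mem _ (hDP _ hy)]
    show y⁻¹ * (x * y * x⁻¹) ∈ D i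
    rcases i with _ | _ | i
    · have hy' : y ∈ T ⊓ P' := hy
      rw [hint] at hy'
      rw [← Subgroup.mem_centralizer_iff.mp hxK.2 y hy']
      simp [D]
    · have hy' : y ∈ P' := hy
      show y⁻¹ * (x * y * x⁻¹) ∈ T ⊓ P'
      refine ⟨?_, P'.mul_mem (P'.inv_mem hy') (conj_mem_of_mem_normalizer hxN hy')⟩
      rw [← mul_assoc, ← mul_assoc]
      refine T.mul_mem ?_ (T.inv_mem hxK.1)
      simpa using conj_mem_of_mem_normalizer
        (inv_mem (stronglyClosed_le_normalizer hT (hP'S hy'))) hxK.1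
    · omega
  obtain ⟨φ, hφ, hφr⟩ := hP'.isConj
  subst hφr
  refine ⟨⟨φ, hφ, x, hxS, hxP, (α : MulAut φ.range), ⟨α, hαcore, rfl⟩, fun y => rfl⟩, fun hrad => hxP ?_⟩
  rw [← Thompson.map_pCore_equiv (p := p) hP'.autEquiv] at hαcore
  obtain ⟨β, hβ, hβα⟩ := hαcore
  have hβI : (β : MulAut P) ∈ Cfsg.Inn P := hrad.2 ▸ ⟨β, hβ, rfl⟩
  obtain ⟨a, ha, hae⟩ := mem_inn.mp hβI
  have hcent : (u a)⁻¹ * x ∈ centralizerIn S φ.range := by
    refine ⟨S.mul_mem (S.inv_mem (hP'S (hP'.mem ha))) hxS.1, Subgroup.mem_centralizer_iff.mpr fun y hy => ?_⟩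
    obtain ⟨w, hw, rfl⟩ := hP'.exists_preimage hy
    have h := congr_apply_equiv hP' (β : MulAut P) ⟨w, hw⟩
    rw [← IsIso.autEquiv_coe, show hP'.autEquiv β = α from hβα, hae,
      huP.map_conj ha hw] at h
    change x * u w * x⁻¹ = u a * u w * (u a)⁻¹ at h
    calc u w * ((u a)⁻¹ * x) = (u a)⁻¹ * (u a * u w * (u a)⁻¹) * x := by group
      _ = (u a)⁻¹ * (x * u w * x⁻¹) * x := by rw [h]
      _ = (u a)⁻¹ * x * u w := by group
  have := φ.range.mul_mem (hP'.mem ha) (hP.2 _ hP'.isConj hcent)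
  rwa [mul_inv_cancel_left] at this

end Cfsg.Agent.S5251
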