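import Cfsg.Statements.S5253
import Cfsg.Agent.Fusion92.FixLocal
import Cfsg.Agent.Fusion92.QuadraticCenter

set_option autoImplicit false
universe u
open Cfsg

namespace Cfsg.Agent.S5253

open Cfsg.Agent
open Cfsg.FusionSystem (normalizerIn)

/-- Let p be a prime and W a positive characteristic p-functor with Z(Q) ≤ W(Q): W assigns to every finite p-group Q (in a fixed universe) a subgroup W(Q), nontrivial when Q is, carried to W(R) by every isomorphism Q ≅ R, and containing the centre of Q. Suppose that for every finite group G with Sylow p-subgroup P in which W(P) is not normal there is g ∈ P outside O_p(G) with [Z(O_p(G)), g, g] = 1. Then for every saturated fusion system F over a finite p-group S and every normalizer fusion system N of W(S) in F, every p-th power of an element of Z(S) that lies in the centre of N lies in the centre of F. -/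
theorem result {p : ℕ} [Fact p.Prime] (W : ∀ (Q : Type u) [Group Q], Subgroup Q) (hW1 : ∀ (Q : Type u) [Group Q] [Finite Q], IsPGroup p Q → Nontrivial Q → W Q ≠ ⊥) (hW2 : ∀ (Q R : Type u) [Group Q] [Group R] [Finite Q], IsPGroup p Q → ∀ φ : Q ≃* R, (W Q).map φ.toMonoidHom = W R) (hWZ : ∀ (Q : Type u) [Group Q] [Finite Q], IsPGroup p Q → Subgroup.center Q ≤ W Q) (hq : ∀ (G : Type u) [Group G] [Finite G] (P : Sylow p G), ¬ (((W ↥(P : Subgroup G)).map (P : Subgroup G).subtype : Subgroup G)).Normal → ∃ g : G, g ∈ (P : Subgroup G) ∧ g ∉ Cfsg.pCore p G ∧ ⁅⁅Subgroup.center ↥(Cfsg.pCore p G) |>.map (Cfsg.pCore p G).subtype, Subgroup.zpowers g⁆, Subgroup.zpowers g⁆ = ⊥) {Ω : Type u} [Group Ω] {S : Subgroup Ω} [Finite S] (hS : IsPGroup p S) (F : Cfsg.FusionSystem S) (hF : F.IsSaturated p) (N : Cfsg.FusionSystem (Cfsg.FusionSystem.normalizerIn S ((W ↥S).map S.subtype))) (hN : F.IsNormalizerSystem ((W ↥S).map S.subtype) N) : Subgroup.closure ((fun z => z ^ p) '' ((S ⊓ Subgroup.centralizer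 (S : Set Ω) : Subgroup Ω) : Set Ω)) ⊓ N.center ≤ F.center := by
  have hinv : Fusion92.IsInvariantW p W := fun Q R _ _ _ hQ φ => hW2 Q R hQ φ
  let V := (W ↥S).map S.subtype
  have hNS : normalizerIn S V = S := inf_eq_left.mpr (Fusion92.le_normalizer_map_W hinv hS)
  haveI : Finite (normalizerIn S V) := Fusion.finite_of_le (Fusion.normalizerIn_le S V)
  rintro y ⟨hy, hyN⟩
  obtain ⟨z, hz, rfl⟩ : ∃ z ∈ (S ⊓ Subgroup.centralizer (S : Set Ω) : Subgroup Ω), z ^ p = y := by
    refine Subgroup.closure_induction (fun a ha => ha) ⟨1, one_mem _, one_pow p⟩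
      (fun a b _ _ ha hb => ?_) (fun a _ ha => ?_) hy
    · obtain ⟨a', ha', rfl⟩ := ha
      obtain ⟨b', hb', rfl⟩ := hb
      exact ⟨a' * b', mul_mem ha' hb',
        (Commute.mul_pow (show Commute a' b' from
          Subgroup.mem_centralizer_iff.mp hb'.2 a' ha'.1) p)⟩
    · obtain ⟨a', ha', rfl⟩ := ha
      exact ⟨a'⁻¹, inv_mem ha', inv_pow a' p⟩
  have hzp : z ^ p ∈ S ⊓ Subgroup.centralizer (S : Set Ω) := pow_mem hz p
  refine Fusion92.mem_center_of_localFix hS hW1 hinv hF hN hzp hyN ?_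
  intro T D hT hZT Q₀ U L _ ι h hxT hfix g
  haveI : Finite T := Fusion.finite_of_le hT
  have := h.isLocal.fin
  haveI := h.normal
  have hTp := hS.to_le hT
  have hzU : z ∈ U := h.centric.2 _ (Fusion.isConj_refl h.centric.1)
    ⟨hZT hz, Subgroup.centralizer_le (h.centric.1.trans hT) hz.2⟩
  have hzT : z ∈ normalizerIn T U := h.isLocal.shape.le hzU
  have hzs : ∀ s, ι s * ι ⟨z, hzT⟩ = ι ⟨z, hzT⟩ * ι s := fun s => by
    rw [← map_mul, ← map_mul]
    exact congrArg ι (Subtype.ext (Subgroup.mem_centralizer_iff.mp hz.2 s (hT s.2.1)))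
  have hpow : ι ⟨z ^ p, hxT⟩ = ι ⟨z, hzT⟩ ^ p := by rw [← map_pow]; rfl
  rw [hpow] at hfix ⊢
  refine h.central_of_central_mod hTp (fun s => ((show Commute (ι s) (ι ⟨z, hzT⟩) from hzs s).pow_right p))
    (fun k => ?_) g
  obtain ⟨P, hP, hPY⟩ := h.exists_sylow (W := W) hinv
  have h1 := Fusion92.commute_pow_of_quadratic hinv hq _ P
    (QuotientGroup.mk' _ (ι ⟨z, hzT⟩)) (Fusion92.mem_pCore_map_of_centralizer h hTp hzU)
    (Subgroup.mem_centralizer_iff.mpr fun q hq' => by
      rw [SetLike.mem_coe, hP] at hq'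
      obtain ⟨_, ⟨s, rfl⟩, rfl⟩ := hq'
      exact ((show Commute (ι s) (ι ⟨z, hzT⟩) from hzs s).map (QuotientGroup.mk' _)).symm.eq.symm)
    (fun n hn => by
      obtain ⟨k', rfl⟩ := QuotientGroup.mk'_surjective _ n
      rw [← hPY, h.mem_normalizer_secW_iff] at hn
      rw [← map_pow, ← map_mul, ← map_mul, hfix k' hn]) (QuotientGroup.mk' _ k)
  simp only [map_mul, map_inv, map_pow]
  rw [h1]
  group

end Cfsg.Agent.S5253
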