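import Cfsg.Agent.Fusion92.Congruence
import Cfsg.Statements.S5255
-- import your own Cfsg.Agent.* helpers here

set_option autoImplicit false
open Cfsg

namespace Cfsg.Agent.S5255

/-- Let F be a saturated fusion system over a finite p-group S and T a subgroup of S strongly closed in F. Then T·C_S(T) is strongly closed in F. -/
theorem result {Ω : Type*} [Group Ω] {S : Subgroup Ω} [Finite S] (p : ℕ) [Fact p.Prime] (hS : IsPGroup p S) (F : Cfsg.FusionSystem S) (hF : F.IsSaturated p) (T : Subgroup Ω) (hT : F.StronglyClosed T) : F.StronglyClosed (T ⊔ Cfsg.FusionSystem.centralizerIn S T) := by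
  rw [Cfsg.Agent.Fusion.stronglyClosed_iff]
  refine ⟨sup_le hT.1 inf_le_left, fun R f hf x hx hxT => ?_⟩
  have hset : x ∈ (↑(T ⊔ Cfsg.FusionSystem.centralizerIn S T) : Set Ω) := hxT
  rw [Subgroup.coe_mul_of_right_le_normalizer_left T (Cfsg.FusionSystem.centralizerIn S T)
    (inf_le_right.trans (Subgroup.centralizer_le_normalizer (T : Set Ω)))] at hset
  obtain ⟨t, ht, c, hc, hxe⟩ := hset
  have hxR : Subgroup.zpowers x ≤ R := Subgroup.zpowers_le.mpr hx
  obtain ⟨f', hf', hm⟩ := Cfsg.Agent.Fusion92.exists_map_mod hS hF hT (hf.mono hxR)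
  have hx' : x ∈ Subgroup.zpowers x ⊔ T := (le_sup_left (b := T)) (Subgroup.mem_zpowers x)
  have hT' : ∀ y ∈ T, y ∈ Subgroup.zpowers x ⊔ T := fun y hy => (le_sup_right (a := Subgroup.zpowers x)) hy
  have hfx : f x = f' x * ((f x)⁻¹ * f' x)⁻¹ := by group
  rw [hfx]
  refine mul_mem ?_ ((le_sup_left (b := Cfsg.FusionSystem.centralizerIn S T))
    (T.inv_mem (hm x (Subgroup.mem_zpowers x))))
  rw [show f' x = f' t * ((f' t)⁻¹ * f' x) by group]
  refine mul_mem ((le_sup_left (b := Cfsg.FusionSystem.centralizerIn S T))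
    (Cfsg.Agent.Fusion92.closed_apply hT hf' (hT' t ht) ht)) ((le_sup_right (a := T)) ⟨?_, ?_⟩)
  · exact S.mul_mem (S.inv_mem (hf'.apply_mem (hT' t ht))) (hf'.apply_mem hx')
  · intro y hy
    obtain ⟨z, hz, rfl⟩ := Cfsg.Agent.Fusion.surjOn_of_card_le hT.1 (hf'.injOn.mono hT')
      (fun w hw => Cfsg.Agent.Fusion92.closed_apply hT hf' (hT' w hw) hw) le_rfl y hy
    rw [← hf'.map_inv (hT' t ht), ← hf'.map_mul (inv_mem (hT' t ht)) hx',
      ← hf'.map_mul (hT' z hz) (mul_mem (inv_mem (hT' t ht)) hx'),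
      ← hf'.map_mul (mul_mem (inv_mem (hT' t ht)) hx') (hT' z hz)]
    have h1 : t⁻¹ * x = c := by rw [← hxe]; group
    rw [h1]
    exact congrArg f' (hc.2 z hz)

end Cfsg.Agent.S5255
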