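import Cfsg.Statements.S5264
import Cfsg.Agent.OrderFive52.Main

set_option autoImplicit false
open Cfsg

namespace Cfsg.Agent.S5264

/-- Let p be an odd prime other than 7, S a finite p-group of order p^5, and F a saturated fusion system over S with no nontrivial normal subgroup and with hyperfocal subgroup equal to S (so F is its own p-residual subsystem). Then S has an abelian subgroup of index p. -/
theorem result {Ω : Type*} [Group Ω] {S : Subgroup Ω} [Finite S] (p : ℕ) [Fact p.Prime] (hS : IsPGroup p ↥S) (F : Cfsg.FusionSystem S) (hF : F.IsSaturated p) (hp : p ≠ 2) (hp7 : p ≠ 7) (hcard : Nat.card S = p ^ 5) (hcore : F.core = ⊥) (hhyp : F.hyperfocalSubgroup p = S) : ∃ A : Subgroup Ω, A ≤ S ∧ IsMulCommutative ↥A ∧ (A.subgroupOf S).index = p := by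
  by_contra hno
  have hpp := (Fact.out : p.Prime)
  refine OrderFive52.false_of_nab (p := p) (F := F)
    ⟨hS, hF, hcard, ?_, lt_of_le_of_ne hpp.two_le (Ne.symm hp)⟩ hp7 hcore hhyp
  intro A hA
  by_contra hlt
  push Not at hlt
  obtain ⟨n, hn⟩ := IsPGroup.iff_card.mp (hS.to_subgroup A)
  rw [hn] at hlt
  have h4n : 4 ≤ n := (Nat.pow_le_pow_iff_right hpp.one_lt).mp hlt
  obtain ⟨B, hB, hBA⟩ : ∃ B : Subgroup S, Nat.card B = p ^ 4 ∧ B ≤ A := by
    obtain ⟨B, hB⟩ := Sylow.exists_subgroup_card_pow_prime p (G := A) (n := 4)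
      (hn ▸ pow_dvd_pow p h4n)
    exact ⟨B.map A.subtype, by rw [Subgroup.card_map_of_injective A.subtype_injective, hB],
      Subgroup.map_subtype_le B⟩
  refine hno ⟨B.map S.subtype, Subgroup.map_subtype_le B, ⟨⟨?_⟩⟩, ?_⟩
  · rintro ⟨_, a, ha, rfl⟩ ⟨_, b, hb, rfl⟩
    have e : (a : Ω) * b = b * a := congrArg Subtype.val (hA a (hBA ha) b (hBA hb))
    exact Subtype.ext e
  · rw [Subgroup.subgroupOf, Subgroup.comap_map_eq_self_of_injective S.subtype_injective]
    have h := B.card_mul_index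
    rw [hB, hcard, pow_succ p 4] at h
    exact Nat.eq_of_mul_eq_mul_left (pow_pos hpp.pos 4) h

end Cfsg.Agent.S5264
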