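import Cfsg.Statements.S5265
import Cfsg.Agent.Lib.Fusion.CenterIndexMain
import Cfsg.Agent.Lib.Fusion.Hyperfocal
import Cfsg.Agent.Lib.UnitaryOrthogonal.Dihedral

set_option autoImplicit false
open Cfsg

namespace Cfsg.Agent.S5265

open Cfsg.Agent.Fusion Cfsg.Agent.Fusion.CenterIndex
open Cfsg.FusionSystem (normalizerIn centralizerIn)
open scoped commutatorElement Pointwise

variable {Ω : Type*} [Group Ω] {S : Subgroup Ω} {F : Cfsg.FusionSystem S} {p : ℕ} [hp : Fact p.Prime]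
  {c : Ω} [Finite S]

omit hp [Finite S] in
theorem kept_zc {E : Subgroup Ω} {w : Ω} (hw : w ∈ kept F E) : w ∈ Zc S := hw.1

/-- The kept set as a subgroup. -/
def keptSub {E : Subgroup Ω} (hE : IsMid p S E) (F : Cfsg.FusionSystem S) : Subgroup Ω where
  carrier := kept F E
  one_mem' := ⟨Subgroup.one_mem _, fun γ _ => by rw [ap_map_one]; exact Subgroup.one_mem _⟩
  mul_mem' {u v} hu hv := ⟨Subgroup.mul_mem _ hu.1 hv.1, fun γ hγ => by
    rw [ap_map_mul γ (hE.zc_le hu.1) (hE.zc_le hv.1)]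
    exact Subgroup.mul_mem _ (hu.2 γ hγ) (hv.2 γ hγ)⟩
  inv_mem' {u} hu := ⟨Subgroup.inv_mem _ hu.1, fun γ hγ => by
    rw [ap_map_inv γ (hE.zc_le hu.1)]
    exact Subgroup.inv_mem _ (hu.2 γ hγ)⟩

variable (hc : Ctx p S c)
include hc

theorem h_c_two (hp2 : p = 2) {h : Ω → Ω} (hh : IsIso F S S h) : h c = c := by
  subst hp2
  obtain ⟨n, hn⟩ := exists_pow_of_zpowers hc.c_inS (h_c hc hh)
  rcases Nat.even_or_odd n with ⟨m, rfl⟩ | ⟨m, rfl⟩
  · exfalso
    rw [← two_mul, pow_mul, hc.c_pow, one_pow] at hn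
    refine hc.c_ne (hh.1.injOn hc.c_inS S.one_mem ?_)
    rw [← hn, hh.1.map_one]
  · rw [← hn, pow_succ, pow_mul, hc.c_pow, one_pow, one_mul]

theorem sq_eq_c (hp2 : p = 2) {x y : Ω} (hx : x ∈ S) (hy : y ∈ S) (hxy : ⁅x, y⁆ ≠ 1) : ⁅x, y⁆ = c := by
  subst hp2
  obtain ⟨n, hn⟩ := exists_pow_of_zpowers hc.c_inS (hc.comm_mem x hx y hy)
  rcases Nat.even_or_odd n with ⟨m, rfl⟩ | ⟨m, rfl⟩
  · exact absurd (by rw [← hn, ← two_mul, pow_mul, hc.c_pow, one_pow]) hxy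
  · rw [← hn, pow_succ, pow_mul, hc.c_pow, one_pow, one_mul]

/-- For `p = 2` there are only two moving subgroups. -/
theorem only_two (hp2 : p = 2) (hF : F.IsSaturated p) {E₁ E₂ : Subgroup Ω} (h₁ : IsMoving p F E₁)
    (h₂ : IsMoving p F E₂) (hne : E₁ ≠ E₂) {E : Subgroup Ω} (hE : IsMoving p F E) : E = E₁ ∨ E = E₂ := by
  by_contra! hno
  obtain ⟨k₁, d₁⟩ := moving_data hc hF h₁
  obtain ⟨k₂, d₂⟩ := moving_data hc hF h₂
  obtain ⟨k₃, d₃⟩ := moving_data hc hF hE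
  obtain ⟨hk, hco⟩ := coords hc h₁.1 h₂.1 d₁.k_mem d₁.k_not d₂.k_mem d₂.k_not hne
  obtain ⟨i, j, z, hz, hx⟩ := hco k₃ (hE.1.le d₃.k_mem)
  obtain ⟨hk3, -⟩ := coords hc hE.1 h₁.1 d₃.k_mem d₃.k_not d₁.k_mem d₁.k_not hno.1
  obtain ⟨hk3', -⟩ := coords hc hE.1 h₂.1 d₃.k_mem d₃.k_not d₂.k_mem d₂.k_not hno.2
  subst hp2
  have hk12 : k₁ * k₂ * (k₁ * k₂) = c := by
    rw [← sq_eq_c hc rfl (h₁.1.le d₁.k_mem) (h₂.1.le d₂.k_mem) fun h =>
      d₂.k_not (h₂.1.mem_zc_of_commute hc (h₁.1.le d₁.k_mem) hk d₂.k_mem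
        (commutatorElement_eq_one_iff_commute.mp h).symm)]
    have e1 : k₂⁻¹ = k₂ := inv_eq_of_mul_eq_one_right (by rw [← sq]; exact d₂.k_pow)
    have e2 : k₁⁻¹ = k₁ := inv_eq_of_mul_eq_one_right (by rw [← sq]; exact d₁.k_pow)
    rw [commutatorElement_def, e1, e2]
    simp [mul_assoc]
  rcases Nat.even_or_odd i with ⟨m, rfl⟩ | ⟨m, rfl⟩
  · rw [← two_mul, pow_mul, d₁.k_pow, one_pow, one_mul] at hx
    exact hk3' (hx ▸ E₂.mul_mem (h₂.1.zc_le hz) (E₂.pow_mem d₂.k_mem j))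
  rw [pow_succ, pow_mul, d₁.k_pow, one_pow, one_mul] at hx
  rcases Nat.even_or_odd j with ⟨n, rfl⟩ | ⟨n, rfl⟩
  · rw [← two_mul, pow_mul, d₂.k_pow, one_pow, mul_one] at hx
    exact hk3 (hx ▸ E₁.mul_mem d₁.k_mem (h₁.1.zc_le hz))
  rw [pow_succ, pow_mul, d₂.k_pow, one_pow, one_mul] at hx
  have hz2 : z ^ 2 * c = 1 := by
    have e : k₃ = z * (k₁ * k₂) := by
      rw [hx, ← mul_assoc, ← (zc_comm hz (h₁.1.le d₁.k_mem)).eq, mul_assoc]
    have h0 := d₃.k_pow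
    rwa [e, (zc_comm hz (S.mul_mem (h₁.1.le d₁.k_mem) (h₂.1.le d₂.k_mem))).mul_pow, sq (k₁ * k₂), hk12] at h0
  obtain ⟨w, hw, l, rfl⟩ := d₁.decomp z hz
  rw [(zc_comm hw.1 (S.pow_mem hc.c_inS l)).mul_pow, ← pow_mul, mul_comm l, pow_mul, hc.c_pow, one_pow,
    mul_one] at hz2
  refine hc.c_ne ?_
  have hcw : c ^ 1 ∈ kept F E₁ := by
    rw [pow_one, ← inv_eq_of_mul_eq_one_right hz2]
    exact ((keptSub h₁.1 F).inv_mem ((keptSub h₁.1 F).pow_mem (show w ∈ keptSub h₁.1 F from hw) 2) :)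
  simpa using d₁.disjoint 1 hcw

theorem fix_moving (hp2 : p = 2) (hF : F.IsSaturated p) {E₁ E₂ : Subgroup Ω} (h₁ : IsMoving p F E₁)
    (h₂ : IsMoving p F E₂) (hne : E₁ ≠ E₂) {h : Ω → Ω} (hh : IsIso F S S h) : IsIso F E₁ E₁ h := by
  haveI := finite_mulAut S
  obtain ⟨E', hE', hm, -⟩ := moving_image hc hh h₁
  obtain ⟨E'', hE'', hm', -⟩ := moving_image hc hh h₂
  rcases only_two hc hp2 hF h₁ h₂ hne hm with h0 | h0
  · exact h0 ▸ hE'
  rw [h0] at hE'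
  exfalso
  rcases only_two hc hp2 hF h₁ h₂ hne hm' with h3 | h3
  swap
  · rw [h3] at hE''
    refine hne (SetLike.coe_injective (Set.Subset.antisymm (fun x hx => ?_) fun x hx => ?_))
    · obtain ⟨y, hy, hxy⟩ := hE''.exists_preimage (hE'.mem hx)
      rwa [← hh.1.injOn (h₂.1.le hy) (h₁.1.le hx) hxy]
    · obtain ⟨y, hy, hxy⟩ := hE'.exists_preimage (hE''.mem hx)
      rwa [← hh.1.injOn (h₁.1.le hy) (h₂.1.le hx) hxy]
  rw [h3] at hE''
  obtain ⟨α, hα, he⟩ := hh.exists_aut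
  have f₁ : ∀ x ∈ E₁, autFun α x ∈ E₂ := fun x hx => by rw [he (h₁.1.le hx)]; exact hE'.mem hx
  have f₂ : ∀ x ∈ E₂, autFun α x ∈ E₁ := fun x hx => by rw [he (h₂.1.le hx)]; exact hE''.mem hx
  set g : F.autGroup S := ⟨α, hα⟩
  have hit : ∀ n : ℕ, ∀ x ∈ E₁, autFun (α ^ n) x ∈ if Even n then E₁ else E₂ := by
    intro n
    induction n with
    | zero => intro x hx; simpa [ap_one (h₁.1.le hx)] using hx
    | succ n ih =>
      intro x hx
      rw [pow_succ', ap_mul _ _ (h₁.1.le hx)]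
      have := ih x hx
      by_cases hn : Even n
      · rw [if_pos hn] at this
        rw [if_neg (by simpa [Nat.even_add_one] using hn)]
        exact f₁ _ this
      · rw [if_neg hn] at this
        rw [if_pos (by simpa [Nat.even_add_one] using hn)]
        exact f₂ _ this
  obtain ⟨k, m, hm0, hkm⟩ := Nat.exists_eq_pow_mul_and_not_dvd (orderOf_pos g).ne' p hp.out.ne_one
  obtain ⟨R, hR⟩ := (fullyAutomized_of_fullyNormalized hc.pgroup hF (fullyNormalized_self (F := F))).2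
  rw [autInducedBy_self_eq_inn] at hR
  haveI hRn : (R : Subgroup (F.autGroup S)).Normal := hR ▸ inn_subgroupOf_normal
  have hgm : g ^ m ∈ (Cfsg.Inn S).subgroupOf (F.autGroup S) := by
    rw [← hR]
    have hpg : IsPGroup p (Subgroup.zpowers (g ^ m)) := IsPGroup.of_card (n := k) (by
      rw [Nat.card_zpowers, orderOf_pow' g (by rintro rfl; exact hm0 (dvd_zero p)),
        Nat.gcd_eq_right (Dvd.intro_left _ hkm.symm), hkm,
        Nat.mul_div_cancel _ (Nat.pos_of_ne_zero (by rintro rfl; exact hm0 (dvd_zero p)))])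
    obtain ⟨Q, hQ⟩ := hpg.exists_le_sylow
    haveI := Sylow.unique_of_normal R hRn
    rw [Subsingleton.elim R Q]
    exact hQ (Subgroup.mem_zpowers _)
  have hodd : ¬ Even m := by rw [hp2] at hm0; rwa [even_iff_two_dvd]
  obtain ⟨s, hs, hsx⟩ := mem_inn.mp hgm
  obtain ⟨k₁, d₁⟩ := moving_data hc hF h₁
  obtain ⟨k₂, d₂⟩ := moving_data hc hF h₂
  have h4 := hit m k₁ d₁.k_mem
  rw [if_neg hodd, autFun_of_mem _ (h₁.1.le d₁.k_mem)] at h4
  have h5 : s * k₁ * s⁻¹ ∈ E₂ := by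
    have := hsx ⟨k₁, h₁.1.le d₁.k_mem⟩
    rw [Subgroup.coe_subtype, Subgroup.coe_pow] at this
    exact this ▸ h4
  have h6 := h₂.1.conj_mem hc (S.inv_mem hs) h5
  exact (coords hc h₁.1 h₂.1 d₁.k_mem d₁.k_not d₂.k_mem d₂.k_not hne).1 (by simpa [mul_assoc] using h6)

/-- Words in `c`, two elements and a central subgroup. -/
theorem kept_eq_two (hp2 : p = 2) (hF : F.IsSaturated p) (hhyp : F.hyperfocalSubgroup p = S)
    {E₁ E₂ : Subgroup Ω} (h₁ : IsMoving p F E₁) (h₂ : IsMoving p F E₂) (hne : E₁ ≠ E₂) {w : Ω}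
    (hw : w ∈ kept F E₁) : w ∈ kept F E₂ := by
  obtain ⟨k₁, d₁⟩ := moving_data hc hF h₁
  obtain ⟨k₂, d₂⟩ := moving_data hc hF h₂
  obtain ⟨hk, hco⟩ := coords hc h₁.1 h₂.1 d₁.k_mem d₁.k_not d₂.k_mem d₂.k_not hne
  set G : Set Ω := {y | ∃ h, IsIso F S S h ∧ ∃ z ∈ Zc S, y = z⁻¹ * h z}
  set Y := Subgroup.closure G
  set N := Y ⊔ Subgroup.zpowers c
  have hNZ : N ≤ Zc S := sup_le ((Subgroup.closure_le _).mpr (by
    rintro _ ⟨h, hh, z, hz, rfl⟩
    exact Subgroup.mul_mem _ (Subgroup.inv_mem _ hz) (h_zc hh hz))) hc.zpowers_le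
  have hcN : ∀ x ∈ S, ∀ y ∈ S, ⁅x, y⁆ ∈ N := fun x hx y hy => Subgroup.mem_sup_right (hc.comm_mem x hx y hy)
  have hk₁S := h₁.1.le d₁.k_mem
  have hk₂S := h₂.1.le d₂.k_mem
  let J : Subgroup Ω :=
    { carrier := {x | ∃ i j : ℕ, ∃ n ∈ N, x = k₁ ^ i * (n * k₂ ^ j)}
      one_mem' := ⟨0, 0, 1, N.one_mem, by simp⟩
      mul_mem' := by
        rintro _ _ ⟨i, j, n, hn, rfl⟩ ⟨i', j', n', hn', rfl⟩
        refine ⟨i + i', j + j', n * n' * ⁅k₂ ^ j, k₁ ^ i'⁆,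
          N.mul_mem (N.mul_mem hn hn') (hcN _ (S.pow_mem hk₂S j) _ (S.pow_mem hk₁S i')), ?_⟩
        have a1 := (zc_comm (hNZ hn) (S.pow_mem hk₁S i')).eq
        have a2 := (zc_comm (hNZ hn') (S.pow_mem hk₂S j)).eq
        set C := ⁅k₂ ^ j, k₁ ^ i'⁆ with hC
        have hCz := hc.comm_zc (S.pow_mem hk₂S j) (S.pow_mem hk₁S i')
        have a3 : k₂ ^ j * k₁ ^ i' = C * (k₁ ^ i' * k₂ ^ j) := by
          rw [hC, commutatorElement_def]; group
        have a4 : Commute (n * C) (k₁ ^ i') := zc_comm (Subgroup.mul_mem _ (hNZ hn) hCz) (S.pow_mem hk₁S i')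
        have a5 : Commute (C * n') (k₂ ^ j) := zc_comm (Subgroup.mul_mem _ hCz (hNZ hn')) (S.pow_mem hk₂S j)
        calc k₁ ^ i * (n * k₂ ^ j) * (k₁ ^ i' * (n' * k₂ ^ j'))
            = k₁ ^ i * n * (k₂ ^ j * k₁ ^ i') * n' * k₂ ^ j' := by group
          _ = k₁ ^ i * ((n * C) * k₁ ^ i') * (k₂ ^ j * n') * k₂ ^ j' := by rw [a3]; group
          _ = k₁ ^ i * (k₁ ^ i' * (n * C)) * (n' * k₂ ^ j) * k₂ ^ j' := by rw [a4.eq, a2]
          _ = k₁ ^ (i + i') * (n * (C * n') * k₂ ^ (j + j')) := by rw [pow_add, pow_add]; group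
          _ = k₁ ^ (i + i') * ((n * n' * C) * k₂ ^ (j + j')) := by
            rw [(zc_comm hCz (zcS_le (hNZ hn'))).eq, ← mul_assoc n n' C]
      inv_mem' := by
        rintro _ ⟨i, j, n, hn, rfl⟩
        refine ⟨i, j, n⁻¹ * ⁅(k₂ ^ j)⁻¹, (k₁ ^ i)⁻¹⁆,
          N.mul_mem (N.inv_mem hn) (hcN _ (S.inv_mem (S.pow_mem hk₂S j)) _ (S.inv_mem (S.pow_mem hk₁S i))), ?_⟩
        have e1 : (k₁ ^ i)⁻¹ = k₁ ^ i := inv_eq_of_mul_eq_one_right (by
          rw [← pow_add, ← two_mul, pow_mul, show k₁ ^ 2 = 1 from hp2 ▸ d₁.k_pow, one_pow])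
        have e2 : (k₂ ^ j)⁻¹ = k₂ ^ j := inv_eq_of_mul_eq_one_right (by
          rw [← pow_add, ← two_mul, pow_mul, show k₂ ^ 2 = 1 from hp2 ▸ d₂.k_pow, one_pow])
        set A := k₁ ^ i
        set B := k₂ ^ j
        have hA : A ∈ S := S.pow_mem hk₁S i
        have hB : B ∈ S := S.pow_mem hk₂S j
        have hn' := Subgroup.inv_mem _ (hNZ hn)
        have hC := hc.comm_zc (S.inv_mem hB) (S.inv_mem hA)
        calc (A * (n * B))⁻¹ = B⁻¹ * n⁻¹ * A⁻¹ := by group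
          _ = n⁻¹ * (B⁻¹ * A⁻¹) := by rw [← (zc_comm hn' (S.inv_mem hB)).eq]; group
          _ = n⁻¹ * ⁅B⁻¹, A⁻¹⁆ * (A⁻¹ * B⁻¹) := by rw [commutatorElement_def]; group
          _ = A * (n⁻¹ * ⁅B⁻¹, A⁻¹⁆ * B) := by
            rw [e1, e2, ← mul_assoc, (zc_comm (Subgroup.mul_mem _ hn' (by rw [e1, e2] at hC; exact hC)) hA).eq,
              mul_assoc] }
  have hNJ : N ≤ J := fun n hn => ⟨0, 0, n, hn, by simp⟩
  have hcJ : c ∈ J := hNJ (Subgroup.mem_sup_right (Subgroup.mem_zpowers c))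
  have hk₁J : k₁ ∈ J := ⟨1, 0, 1, N.one_mem, by simp⟩
  have hk₂J : k₂ ∈ J := ⟨0, 1, 1, N.one_mem, by simp⟩
  have hJS : J ≤ S := by
    rintro _ ⟨i, j, n, hn, rfl⟩
    exact S.mul_mem (S.pow_mem hk₁S i) (S.mul_mem (zcS_le (hNZ hn)) (S.pow_mem hk₂S j))
  have hconj : ∀ u ∈ J, ∀ y ∈ S, y⁻¹ * u * y ∈ J := by
    intro u hu y hy
    have h : ⁅y⁻¹, u⁆ * u ∈ J := J.mul_mem (hNJ (hcN _ (S.inv_mem hy) _ (hJS hu))) hu
    simpa [commutatorElement_def, mul_assoc] using h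
  have hgood : ∀ (E : Subgroup Ω) (k : Ω), IsMoving p F E → MovingData p F c E k → k ∈ J →
      ∀ γ ∈ F.autGroup E, autFun γ k ∈ J ∧ autFun γ c ∈ J ∧
        ∀ v ∈ kept F E, v⁻¹ * autFun γ v ∈ J := by
    intro E k hE d hkJ γ hγ
    have key : ∀ γ ∈ F.autGroup E, autFun γ c ∈ J ∧ ∀ v ∈ kept F E, v⁻¹ * autFun γ v ∈ J := by
      intro γ hγ
      obtain ⟨τ, hτ, hτW, hτZ, hτc⟩ := d.factor γ hγ
      obtain ⟨h, hh, he⟩ := exists_extend hc hE.1 hF (mul_mem (inv_mem hτ) hγ) hτZ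
      have e : ∀ x ∈ E, autFun γ x = autFun τ (autFun (τ⁻¹ * γ) x) := fun x hx => by
        rw [← ap_mul _ _ hx, mul_inv_cancel_left]
      have hcE := hE.1.zc_le hc.c_mem
      refine ⟨?_, fun v hv => ?_⟩
      · rw [e c hcE, ← he hcE, h_c_two hc hp2 hh]
        rcases hτc with h1 | ⟨i, h1⟩
        · rwa [h1]
        · rw [h1]; exact J.mul_mem (J.pow_mem hcJ i) hkJ
      · have hvE := hE.1.zc_le hv.1
        have hmem : autFun (τ⁻¹ * γ) v ∈ kept F E := by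
          refine ⟨hτZ v hv.1, fun δ hδ => ?_⟩
          rw [← ap_mul _ _ hvE]
          exact hv.2 _ (mul_mem hδ (mul_mem (inv_mem hτ) hγ))
        rw [e v hvE, hτW _ hmem, ← he hvE]
        exact hNJ (Subgroup.mem_sup_left (Subgroup.subset_closure ⟨h, hh, v, hv.1, rfl⟩))
    refine ⟨?_, key γ hγ⟩
    obtain ⟨α, hα, hαk⟩ := d.image_c
    rw [← hαk, ← ap_mul _ _ (hE.1.zc_le hc.c_mem)]
    exact (key _ (mul_mem hγ hα)).1
  have hfoc : ∀ P f, IsMap F P f → ∀ x ∈ P, x⁻¹ * f x ∈ J := by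
    refine alperin_induction hc.pgroup hF _ (fun P f g h hfg x hx => hfg hx ▸ h x hx) ?_ ?_ ?_
    · intro P Q f g hf _ h1 h2 x hx
      have := J.mul_mem (h1 x hx) (h2 _ (hf.mem hx))
      simpa [mul_assoc] using this
    · exact fun P Q f _ hle h x hx => h x (hle hx)
    · intro E hE f hf
      have hes : E ≤ S := hf.dom_le
      have hgrp : ∀ u ∈ E, ∀ v ∈ E, u⁻¹ * f u ∈ J → v⁻¹ * f v ∈ J → (u * v)⁻¹ * f (u * v) ∈ J := by
        intro u hu v hv h1 h2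
        have := J.mul_mem (hconj _ h1 v (hes hv)) h2
        rw [hf.1.map_mul hu hv]
        simpa [mul_assoc] using this
      have hpw : ∀ u ∈ E, u⁻¹ * f u ∈ J → ∀ n : ℕ, (u ^ n)⁻¹ * f (u ^ n) ∈ J := by
        intro u hu h1 n
        induction n with
        | zero => simp [hf.1.map_one]
        | succ n ih => rw [pow_succ]; exact hgrp _ (E.pow_mem hu n) _ hu ih h1
      rcases hE with hES | hess
      · subst hES
        intro x hx
        obtain ⟨i, j, z, hz, rfl⟩ := hco x hx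
        have hkS : ∀ (E : Subgroup Ω) (k : Ω), IsMoving p F E → MovingData p F c E k → k ∈ J →
            IsIso F E E f → k⁻¹ * f k ∈ J := by
          intro E k hE d hkJ hfE
          obtain ⟨α, hα, he⟩ := hfE.exists_aut
          rw [← he d.k_mem]
          exact J.mul_mem (J.inv_mem hkJ) (hgood E k hE d hkJ α hα).1
        exact hgrp _ (E.pow_mem hk₁S i) _ (E.mul_mem (zcS_le hz) (E.pow_mem hk₂S j))
          (hpw k₁ hk₁S (hkS E₁ k₁ h₁ d₁ hk₁J (fix_moving hc hp2 hF h₁ h₂ hne hf)) i)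
          (hgrp _ (zcS_le hz) _ (E.pow_mem hk₂S j)
            (hNJ (Subgroup.mem_sup_left (Subgroup.subset_closure ⟨f, hf, z, hz, rfl⟩)))
            (hpw k₂ hk₂S (hkS E₂ k₂ h₂ d₂ hk₂J (fix_moving hc hp2 hF h₂ h₁ hne.symm hf)) j))
      · have hmv := moving_of_essential hc hF hess
        obtain ⟨k, d, hkJ⟩ : ∃ k, MovingData p F c E k ∧ k ∈ J := by
          rcases only_two hc hp2 hF h₁ h₂ hne hmv with rfl | rfl
          · exact ⟨k₁, d₁, hk₁J⟩
          · exact ⟨k₂, d₂, hk₂J⟩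
        intro x hx
        obtain ⟨z, hz, n, rfl⟩ := hmv.1.decomp d.k_mem d.k_not hx
        obtain ⟨v, hv, l, rfl⟩ := d.decomp z hz
        obtain ⟨α, hα, he⟩ := hf.exists_aut
        obtain ⟨g1, g2, g3⟩ := hgood E k hmv d hkJ α hα
        have hcE := hmv.1.zc_le hc.c_mem
        have hvE := hmv.1.zc_le hv.1
        refine hgrp _ (E.mul_mem hvE (E.pow_mem hcE l)) _ (E.pow_mem d.k_mem n)
          (hgrp _ hvE _ (E.pow_mem hcE l) ?_ (hpw c hcE ?_ l)) (hpw k d.k_mem ?_ n)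
        · rw [← he hvE]; exact g3 v hv
        · rw [← he hcE]; exact J.mul_mem (J.inv_mem hcJ) g2
        · rw [← he d.k_mem]; exact J.mul_mem (J.inv_mem hkJ) g1
  have hSJ : S ≤ J := by
    have h1 : S ≤ F.focalSubgroup := by
      conv_lhs => rw [← hhyp]
      exact Cfsg.Agent.Fusion.hyperfocal_le_focal
    refine h1.trans ((Subgroup.closure_le _).mpr ?_)
    rintro _ ⟨P, φ, x, hφ, rfl⟩
    have := hfoc P _ (isMap_extFun hφ) x x.2
    rwa [extFun_coe] at this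
  have hwN : w ∈ N := by
    obtain ⟨i, j, n, hn, hx⟩ := hSJ (zcS_le hw.1)
    have hi : k₁ ^ i ∈ E₂ := by
      rw [eq_mul_inv_of_mul_eq hx.symm]
      exact E₂.mul_mem (h₂.1.zc_le hw.1) (E₂.inv_mem (E₂.mul_mem (h₂.1.zc_le (hNZ hn)) (E₂.pow_mem d₂.k_mem j)))
    have hi1 : k₁ ^ i = 1 := by
      rcases Nat.even_or_odd i with ⟨m, rfl⟩ | ⟨m, rfl⟩
      · rw [← two_mul, pow_mul, show k₁ ^ 2 = 1 from hp2 ▸ d₁.k_pow, one_pow]
      · rw [pow_succ, pow_mul, show k₁ ^ 2 = 1 from hp2 ▸ d₁.k_pow, one_pow, one_mul] at hi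
        exact absurd hi hk
    rw [hi1, one_mul] at hx
    have hj1 : k₂ ^ j = 1 := by
      rcases Nat.even_or_odd j with ⟨m, rfl⟩ | ⟨m, rfl⟩
      · rw [← two_mul, pow_mul, show k₂ ^ 2 = 1 from hp2 ▸ d₂.k_pow, one_pow]
      · exfalso
        refine d₂.k_not ?_
        rw [pow_succ, pow_mul, show k₂ ^ 2 = 1 from hp2 ▸ d₂.k_pow, one_pow, one_mul] at hx
        rw [eq_inv_mul_of_mul_eq hx.symm]
        exact Subgroup.mul_mem _ (Subgroup.inv_mem _ (hNZ hn)) hw.1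
    rw [hj1, mul_one] at hx
    exact hx ▸ hn
  have hY : ∀ (A B : Subgroup Ω), IsMoving p F A → IsMoving p F B → A ≠ B → ∀ k, MovingData p F c A k →
      ∀ y ∈ Y, y ∈ kept F A := by
    intro A B hA hB hAB k d y hy
    have hle : Y ≤ keptSub hA.1 F := by
      refine (Subgroup.closure_le _).mpr ?_
      rintro _ ⟨h, hh, z, hz, rfl⟩
      obtain ⟨v, hv, n, rfl⟩ := d.decomp z hz
      obtain ⟨A', hA', -, hk'⟩ := moving_image hc hh hA
      obtain rfl := (fix_moving hc hp2 hF hA hB hAB hh).cod_unique hA'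
      have e : (v * c ^ n)⁻¹ * h (v * c ^ n) = v⁻¹ * h v := by
        rw [hh.1.map_mul (zcS_le hv.1) (S.pow_mem hc.c_inS n), hh.1.map_pow hc.c_inS, h_c_two hc hp2 hh,
          mul_inv_rev, mul_assoc, ← mul_assoc v⁻¹,
          ← (zc_comm (Subgroup.mul_mem _ (Subgroup.inv_mem _ hv.1) (h_zc hh hv.1)) (S.pow_mem hc.c_inS n)).symm.eq,
          inv_mul_cancel_left]
      rw [e]
      exact ((keptSub hA.1 F).mul_mem ((keptSub hA.1 F).inv_mem (show v ∈ keptSub hA.1 F from hv))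
        (show h v ∈ keptSub hA.1 F from hk' v hv) :)
    exact hle hy
  have hYS : Subgroup.zpowers c ≤ Subgroup.normalizer (Y : Set Ω) := by
    refine Subgroup.zpowers_le.mpr (Subgroup.centralizer_le_normalizer _ (Subgroup.mem_centralizer_iff.mpr
      fun y hy => ?_))
    exact (zc_comm (hY E₁ E₂ h₁ h₂ hne k₁ d₁ y hy).1 hc.c_inS).eq
  obtain ⟨y, hy, u, hu, hyu⟩ : w ∈ (Y : Set Ω) * (Subgroup.zpowers c : Set Ω) := by
    rw [← Subgroup.coe_mul_of_right_le_normalizer_left _ _ hYS]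
    exact hwN
  obtain ⟨l, rfl⟩ := exists_pow_of_zpowers hc.c_inS hu
  have hy1 := hY E₁ E₂ h₁ h₂ hne k₁ d₁ y hy
  have hl : c ^ l ∈ kept F E₁ := by
    rw [eq_inv_mul_of_mul_eq hyu]
    exact ((keptSub h₁.1 F).mul_mem ((keptSub h₁.1 F).inv_mem (show y ∈ keptSub h₁.1 F from hy1))
      (show w ∈ keptSub h₁.1 F from hw) :)
  simp only at hyu
  rw [d₁.disjoint l hl, mul_one] at hyu
  exact hyu ▸ hY E₂ E₁ h₂ h₁ hne.symm k₂ d₂ y hy

theorem kept_eq (hF : F.IsSaturated p) (hhyp : F.hyperfocalSubgroup p = S) {A B : Subgroup Ω}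
    (hA : IsMoving p F A) (hB : IsMoving p F B) {w : Ω} (hw : w ∈ kept F A) : w ∈ kept F B := by
  by_cases hAB : A = B
  · exact hAB ▸ hw
  by_cases hp2 : p = 2
  · exact kept_eq_two hc hp2 hF hhyp hA hB hAB hw
  · obtain ⟨k₁, d₁⟩ := moving_data hc hF hA
    obtain ⟨k₂, d₂⟩ := moving_data hc hF hB
    exact kept_le_kept hc hF hp2 hB.1 d₂ hA.1 d₁ hw

omit hc

/-- Let p be a prime, S a nontrivial finite p-group whose centre has index at most p², and F a saturated fusion system over S with no nontrivial normal subgroup and with hyperfocal subgroup equal to S. Then S is extraspecial of order p³; for odd p it has exponent p, and for p = 2 it is dihedral of order 8. -/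
theorem result {Ω : Type*} [Group Ω] {S : Subgroup Ω} [Finite S] (p : ℕ) [Fact p.Prime] (hS : IsPGroup p ↥S) (F : Cfsg.FusionSystem S) (hF : F.IsSaturated p) (hS1 : S ≠ ⊥) (hcore : F.core = ⊥) (hhyp : F.hyperfocalSubgroup p = S) (hZ : (Subgroup.center ↥S).index ≤ p ^ 2) : Cfsg.IsExtraspecial p ↥S ∧ Nat.card S = p ^ 3 ∧ (p ≠ 2 → Monoid.exponent ↥S = p) ∧ (p = 2 → Nonempty (↥S ≃* DihedralGroup 4)) := by
  have hab := not_abelian hS hF hS1 hcore
  obtain ⟨c, hc⟩ := exists_ctx hS hab hZ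
  obtain ⟨E₁, E₂, h₁, h₂, hne⟩ := exists_two_moving hc hF hS1 hcore
  have hnorm : F.IsNormal (keptSub h₁.1 F) := by
    refine isNormal_of_invariant hS hF fun P hP => ?_
    rcases hP with hPS | hP
    · subst hPS
      refine ⟨fun w hw => zcS_le (hw : w ∈ kept F E₁).1, fun α hα => ?_⟩
      obtain ⟨E', -, hm, hk⟩ := moving_image hc ((mem_autGroup le_rfl).mp hα) h₁
      have hmaps : ∀ w ∈ keptSub h₁.1 F, autFun α w ∈ keptSub h₁.1 F := fun w hw =>
        kept_eq hc hF hhyp hm h₁ (hk w hw)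
      refine Set.Subset.antisymm (fun y ⟨x, hx, hxy⟩ => hxy ▸ hmaps x hx) fun y hy => ?_
      exact surjOn_of_card_le (fun w hw => zcS_le (hw : w ∈ kept F E₁).1)
        ((ap_injOn α).mono fun w hw => zcS_le (hw : w ∈ kept F E₁).1) hmaps le_rfl y hy
    · have hm := moving_of_essential hc hF hP
      have hle : keptSub h₁.1 F ≤ P := fun w hw => hm.1.zc_le (hw : w ∈ kept F E₁).1
      refine ⟨hle, fun α hα => ?_⟩
      have hmaps : ∀ w ∈ keptSub h₁.1 F, autFun α w ∈ keptSub h₁.1 F := fun w hw => by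
        have hwP := kept_eq hc hF hhyp h₁ hm hw
        refine kept_eq hc hF hhyp hm h₁ ⟨hwP.2 α hα, fun γ hγ => ?_⟩
        rw [← ap_mul _ _ (hle hw)]
        exact hwP.2 _ (mul_mem hγ hα)
      refine Set.Subset.antisymm (fun y ⟨x, hx, hxy⟩ => hxy ▸ hmaps x hx) fun y hy => ?_
      exact surjOn_of_card_le (hle.trans hm.1.le) ((ap_injOn α).mono hle) hmaps le_rfl y hy
  have hbot : keptSub h₁.1 F ≤ ⊥ := hcore ▸ le_sSup hnorm
  obtain ⟨k₁, d₁⟩ := moving_data hc hF h₁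
  obtain ⟨k₂, d₂⟩ := moving_data hc hF h₂
  have hZc : Zc S = Subgroup.zpowers c := by
    refine le_antisymm (fun z hz => ?_) hc.zpowers_le
    obtain ⟨w, hw, n, rfl⟩ := d₁.decomp z hz
    rw [Subgroup.mem_bot.mp (hbot hw), one_mul]
    exact Subgroup.npow_mem_zpowers c n
  have hcardZ : Nat.card (Subgroup.center S) = p := by
    rw [← card_zc, hZc, Nat.card_zpowers, orderOf_eq_prime hc.c_pow hc.c_ne]
  have hcardS : Nat.card S = p ^ 3 := by
    rw [hc.card_eq, card_zc, hcardZ]; ring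
  obtain ⟨hk, hco⟩ := coords hc h₁.1 h₂.1 d₁.k_mem d₁.k_not d₂.k_mem d₂.k_not hne
  have hcomm : ⁅k₁, k₂⁆ ≠ 1 := fun h => d₂.k_not (h₂.1.mem_zc_of_commute hc (h₁.1.le d₁.k_mem) hk d₂.k_mem
    (commutatorElement_eq_one_iff_commute.mp h).symm)
  refine ⟨⟨⟨hS, ?_, ?_⟩, hcardZ⟩, hcardS, fun hp2 => ?_, fun hp2 => ?_⟩
  · refine le_antisymm (fun x hx => ?_) (le_trans ?_ (Cfsg.Agent.PGroup.commutator_le_frattini hS))
    · have hco' : ∀ E : Subgroup Ω, Cfsg.Agent.Fusion.CenterIndex.IsMid p S E → (x : Ω) ∈ E := by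
        intro E hE
        refine frattini_le_coatom (K := E.subgroupOf S) ⟨fun h => ?_, fun b hb => ?_⟩ hx
        · obtain ⟨b, hb, hbE⟩ := hE.exists_outside hc
          exact hbE (Subgroup.mem_subgroupOf.mp (h.symm ▸ Subgroup.mem_top (⟨b, hb⟩ : S)))
        · obtain ⟨y, hyb, hyE⟩ := SetLike.exists_of_lt hb
          refine eq_top_iff.mpr fun s _ => ?_
          obtain ⟨n, e, he, hse⟩ := hE.split hc y.2 (fun h => hyE (Subgroup.mem_subgroupOf.mpr h)) s.2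
          rw [show s = y ^ n * ⟨e, hE.le he⟩ from Subtype.ext hse]
          exact b.mul_mem (b.pow_mem hyb n) (hb.le (Subgroup.mem_subgroupOf.mpr he))
      obtain ⟨z, hz, n, hzn⟩ := h₁.1.decomp d₁.k_mem d₁.k_not (hco' E₁ h₁.1)
      have hk1 : k₁ ^ n ∈ E₂ := by
        rw [eq_inv_mul_of_mul_eq hzn.symm]
        exact E₂.mul_mem (E₂.inv_mem (h₂.1.zc_le hz)) (hco' E₂ h₂.1)
      have hkn : k₁ ^ n ∈ Zc S := h₁.1.mem_zc_of_commute hc (h₂.1.le d₂.k_mem)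
        (fun h => (coords hc h₂.1 h₁.1 d₂.k_mem d₂.k_not d₁.k_mem d₁.k_not hne.symm).1 h)
        (E₁.pow_mem d₁.k_mem n) (h₂.1.commute hc hk1 d₂.k_mem)
      have hxZ : (x : Ω) ∈ Zc S := hzn ▸ Subgroup.mul_mem _ hz hkn
      rw [zc_eq_map] at hxZ
      obtain ⟨x', hx', hxx⟩ := hxZ
      rwa [← Subtype.ext hxx]
    · intro x hx
      have hx' : (x : Ω) ∈ Zc S := by rw [zc_eq_map]; exact ⟨x, hx, rfl⟩
      rw [hZc] at hx'
      obtain ⟨m, hm⟩ := hc.gen_c (hc.comm_mem k₁ (h₁.1.le d₁.k_mem) k₂ (h₂.1.le d₂.k_mem)) hcomm hx'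
      rw [show x = ⁅(⟨k₁, h₁.1.le d₁.k_mem⟩ : S), (⟨k₂, h₂.1.le d₂.k_mem⟩ : S)⁆ ^ m from
        Subtype.ext hm.symm]
      exact pow_mem (Subgroup.commutator_mem_commutator (Subgroup.mem_top _) (Subgroup.mem_top _)) m
  · refine le_antisymm (Subgroup.commutator_le.mpr fun x _ y _ => ?_) ?_
    · have h := hc.comm_zc x.2 y.2
      rw [zc_eq_map] at h
      obtain ⟨z, hz, hzz⟩ := h
      rwa [← show z = ⁅x, y⁆ from Subtype.ext hzz]
    · intro x hx
      have hx' : (x : Ω) ∈ Zc S := by rw [zc_eq_map]; exact ⟨x, hx, rfl⟩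
      rw [hZc] at hx'
      obtain ⟨m, hm⟩ := hc.gen_c (hc.comm_mem k₁ (h₁.1.le d₁.k_mem) k₂ (h₂.1.le d₂.k_mem)) hcomm hx'
      rw [show x = ⁅(⟨k₁, h₁.1.le d₁.k_mem⟩ : S), (⟨k₂, h₂.1.le d₂.k_mem⟩ : S)⁆ ^ m from
        Subtype.ext hm.symm]
      exact pow_mem (Subgroup.commutator_mem_commutator (Subgroup.mem_top _) (Subgroup.mem_top _)) m
  · have hp' : Nat.Prime p := Fact.out
    have hpow : ∀ u ∈ S, ∀ v ∈ S, u ^ p = 1 → v ^ p = 1 → (u * v) ^ p = 1 := by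
      intro u hu v hv hu1 hv1
      have key : ∀ n : ℕ, (u * v) ^ n = u ^ n * v ^ n * ⁅v, u⁆ ^ (n.choose 2) := by
        intro n
        induction n with
        | zero => simp
        | succ n ih =>
          rw [pow_succ, ih, Nat.choose_succ_succ, Nat.choose_one_right, pow_add]
          have hC := hc.comm_zc hv hu
          have a1 : ⁅v, u⁆ ^ n = ⁅v ^ n, u⁆ := (hc.comm_pow_left hv hu n).symm
          have a2 : v ^ n * u = ⁅v ^ n, u⁆ * (u * v ^ n) := by rw [commutatorElement_def]; group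
          set C := ⁅v, u⁆
          have b1 := (zc_comm (Subgroup.pow_mem _ hC (n.choose 2)) hu).eq
          have b2 := (zc_comm (Subgroup.mul_mem _ (Subgroup.pow_mem _ hC n) (Subgroup.pow_mem _ hC (n.choose 2)))
            (S.mul_mem (S.mul_mem hu (S.pow_mem hv n)) hv)).eq
          have b3 := (zc_comm (Subgroup.pow_mem _ hC (n.choose 2)) (S.mul_mem hu hv)).eq
          calc u ^ n * v ^ n * C ^ n.choose 2 * (u * v)
              = u ^ n * v ^ n * ((u * v) * C ^ n.choose 2) := by rw [← b3]; group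
            _ = u ^ n * (v ^ n * u) * v * C ^ n.choose 2 := by group
            _ = u ^ n * ((C ^ n * (u * v ^ n * v)) * C ^ n.choose 2) := by rw [a2, ← a1]; group
            _ = u ^ n * ((u * v ^ n * v) * (C ^ n * C ^ n.choose 2)) := by
                rw [(zc_comm (Subgroup.pow_mem _ hC n) (S.mul_mem (S.mul_mem hu (S.pow_mem hv n)) hv)).eq]
                group
            _ = _ := by rw [pow_succ, pow_succ]; group
      obtain ⟨r, hr⟩ := hp'.dvd_choose_self (k := 2) (by norm_num) (lt_of_le_of_ne hp'.two_le (Ne.symm hp2))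
      rw [key, hu1, hv1, hr, pow_mul, ← hc.comm_pow_left hv hu, hv1]
      simp
    refine Nat.dvd_antisymm (Monoid.exponent_dvd_of_forall_pow_eq_one fun x => Subtype.ext ?_) ?_
    · obtain ⟨i, j, z, hz, hx⟩ := hco x x.2
      rw [Subgroup.coe_pow, hx, Subgroup.coe_one]
      rw [hZc] at hz
      obtain ⟨n, rfl⟩ := exists_pow_of_zpowers hc.c_inS hz
      have e : ∀ (u : Ω) (n : ℕ), u ^ p = 1 → (u ^ n) ^ p = 1 := fun u n h => by
        rw [← pow_mul, mul_comm, pow_mul, h, one_pow]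
      exact hpow _ (S.pow_mem (h₁.1.le d₁.k_mem) i) _ (S.mul_mem (S.pow_mem hc.c_inS n)
        (S.pow_mem (h₂.1.le d₂.k_mem) j)) (e _ i d₁.k_pow)
        (hpow _ (S.pow_mem hc.c_inS n) _ (S.pow_mem (h₂.1.le d₂.k_mem) j) (e _ n hc.c_pow) (e _ j d₂.k_pow))
    · have h1 : orderOf (⟨c, hc.c_inS⟩ : S) = p := by
        rw [← Subgroup.orderOf_coe]
        exact orderOf_eq_prime hc.c_pow hc.c_ne
      calc p = orderOf (⟨c, hc.c_inS⟩ : S) := h1.symm
        _ ∣ _ := Monoid.order_dvd_exponent _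
  · subst hp2
    set a : S := ⟨k₁, h₁.1.le d₁.k_mem⟩
    set b : S := ⟨k₂, h₂.1.le d₂.k_mem⟩
    have ha : a * a = 1 := Subtype.ext (by rw [← sq]; exact d₁.k_pow)
    have hb : b * b = 1 := Subtype.ext (by rw [← sq]; exact d₂.k_pow)
    have hab' : ⁅a, b⁆ = ((a * b) ^ 2 : S) := by
      rw [commutatorElement_def, inv_eq_of_mul_eq_one_right ha, inv_eq_of_mul_eq_one_right hb, sq]
      group
    have ho : orderOf (a * b) = 4 := by
      refine orderOf_eq_prime_pow (p := 2) (n := 1) ?_ ?_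
      · rw [pow_one, ← hab']
        exact fun h => hcomm (congrArg Subtype.val h)
      · rw [show (2 : ℕ) ^ (1 + 1) = 2 * 2 by norm_num, pow_mul, ← hab']
        refine Subtype.ext ?_
        rw [Subgroup.coe_pow, Subgroup.coe_one]
        show ⁅k₁, k₂⁆ ^ 2 = 1
        rw [sq_eq_c hc rfl (h₁.1.le d₁.k_mem) (h₂.1.le d₂.k_mem) hcomm, hc.c_pow]
    refine Cfsg.Agent.UnitaryOrthogonal.nonempty_mulEquiv_dihedralGroup (a * b) a ho ha ?_ ?_
      (by rw [hcardS]; norm_num)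
    · rw [mul_inv_rev, inv_eq_of_mul_eq_one_right ha, inv_eq_of_mul_eq_one_right hb, ← mul_assoc a a b, ha,
        one_mul]
    · intro hmem
      have hcom : Commute a (a * b) := by
        obtain ⟨n, hn⟩ := Subgroup.mem_zpowers_iff.mp hmem
        have := (Commute.refl (a * b)).zpow_left n
        rwa [hn] at this
      have h2 : a * b = b * a := mul_left_cancel (a := a) (by rw [hcom.eq, mul_assoc])
      exact hcomm (commutatorElement_eq_one_iff_commute.mpr (congrArg Subtype.val h2))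

end Cfsg.Agent.S5265
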