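import Cfsg.Statements.S5270
import Cfsg.Agent.Classification.MaxClassSeries
import Cfsg.Agent.Lib.Fusion.CenterIndexMain
import Cfsg.Agent.LargeSub.StrongEmb
-- import your own Cfsg.Agent.* helpers here

set_option autoImplicit false
open Cfsg
open scoped commutatorElement

namespace Cfsg.Agent.S5270

/-- Let p ≥ 5 be a prime, S a finite p-group of maximal class of order p^n with n ≥ 4, and F a saturated fusion system over S. If some map of F defined on the second centre Z₂(S) with image Z₂(S) does not carry Z(S) into itself, then the centralizer C_S(Z₂(S)) is an F-essential subgroup. -/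
theorem result {Ω : Type*} [Group Ω] {S : Subgroup Ω} [Finite S] (p : ℕ) [Fact p.Prime] (hS : IsPGroup p ↥S) (n : ℕ) (hn : Nat.card S = p ^ n) (h4 : 4 ≤ n) (hmax : Subgroup.lowerCentralSeries S (n - 2) ≠ ⊥) (F : Cfsg.FusionSystem S) (hF : F.IsSaturated p) (hp : 5 ≤ p) (φ : ↥((Subgroup.upperCentralSeries ↥S 2).map S.subtype) →* Ω) (hφ : φ ∈ F.Hom ((Subgroup.upperCentralSeries ↥S 2).map S.subtype)) (hφZ : φ.range = ((Subgroup.upperCentralSeries ↥S 2).map S.subtype)) (hmove : ∃ (z : Ω) (hz : z ∈ ((Subgroup.upperCentralSeries ↥S 2).map S.subtype)), z ∈ ((Subgroup.center ↥S).map S.subtype) ∧ φ ⟨z, hz⟩ ∉ ((Subgroup.center ↥S).map S.subtype)) : F.IsEssential p (S ⊓ Subgroup.centralizer (((Subgroup.upperCentralSeries ↥S 2).map S.subtype) : Set Ω)) := by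
  classical
  haveI : Fact (Nat.Prime p) := inferInstance
  have hp1 := (Fact.out : p.Prime).one_lt
  set Z := (Subgroup.center ↥S).map S.subtype with hZdef
  generalize hW' : (Subgroup.upperCentralSeries ↥S 2).map S.subtype = W at φ hφ hφZ hmove ⊢
  have hWdef : W = (Subgroup.upperCentralSeries ↥S 2).map S.subtype := hW'.symm
  have hZS : Z ≤ S := Subgroup.map_subtype_le _
  have hWS : W ≤ S := hWdef.trans_le (Subgroup.map_subtype_le _)
  haveI : Finite ↥Z := Fusion.finite_of_le hZS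
  haveI : Finite ↥W := Fusion.finite_of_le hWS
  have hucs : Subgroup.upperCentralSeries ↥S (n - 2) ≠ ⊤ := by
    intro h
    apply hmax
    rw [← Subgroup.top_subtype_lowerCentralSeries]
    haveI := hS.isNilpotent
    rw [Subgroup.lowerCentralSeries_eq_bot_iff_nilpotencyClass_le.mpr
      (Subgroup.upperCentralSeries_eq_top_iff_nilpotencyClass_le.mp h), Subgroup.map_bot]
  have hZcard : Nat.card Z ≤ p := by
    rw [hZdef, Subgroup.card_map_of_injective S.subtype_injective, ← Subgroup.upperCentralSeries_one]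
    simpa using Classification.MaxClassSeries.card_ucs_le hS (by omega) hn hucs (j := 1) (by omega)
  have hWcard : Nat.card W ≤ p ^ 2 := by
    rw [hWdef, Subgroup.card_map_of_injective S.subtype_injective]
    exact Classification.MaxClassSeries.card_ucs_le hS (by omega) hn hucs (by omega)
  have hZcomm : ∀ c ∈ Z, ∀ s ∈ S, s * c = c * s := by
    rintro _ ⟨c, hc, rfl⟩ s hs
    exact congrArg Subtype.val (Subgroup.mem_center_iff.mp hc ⟨s, hs⟩)
  have hZmem : ∀ c ∈ S, (∀ s ∈ S, s * c = c * s) → c ∈ Z := fun c hc h =>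
    ⟨⟨c, hc⟩, Subgroup.mem_center_iff.mpr fun s => Subtype.ext (h s s.2), rfl⟩
  have hWcomm : ∀ w ∈ W, ∀ s ∈ S, ⁅s, w⁆ ∈ Z := by
    intro w0 hw0 s hs
    rw [hWdef] at hw0
    obtain ⟨w, hw, rfl⟩ := hw0
    refine ⟨⁅(⟨s, hs⟩ : ↥S), w⁆, ?_, rfl⟩
    rw [SetLike.mem_coe, ← Subgroup.upperCentralSeries_one, ← commutatorElement_inv]
    exact inv_mem (Subgroup.mem_upperCentralSeries_succ_iff.mp hw ⟨s, hs⟩)
  have hZW : Z ≤ W := by
    rw [hZdef, hWdef, ← Subgroup.upperCentralSeries_one]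
    exact Subgroup.map_mono (Subgroup.upperCentralSeries_mono ↥S one_le_two)
  obtain ⟨z, hzW, hzZ, hzmove⟩ := hmove
  set w := φ ⟨z, hzW⟩ with hwdef
  have hwW : w ∈ W := hφZ ▸ ⟨_, rfl⟩
  have hwS : w ∈ S := hWS hwW
  -- `W = Z ⟨w⟩`
  have hgen : Z ⊔ Subgroup.zpowers w = W := by
    refine Subgroup.eq_of_le_of_card_ge (sup_le hZW (Subgroup.zpowers_le.mpr hwW)) ?_
    haveI : Finite ↥(Z ⊔ Subgroup.zpowers w) :=
      Fusion.finite_of_le (sup_le hZS (Subgroup.zpowers_le.mpr hwS))
    refine hWcard.trans ?_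
    have hlt : Z.subgroupOf S < (Z ⊔ Subgroup.zpowers w).subgroupOf S := by
      refine lt_of_le_of_ne (Subgroup.comap_mono le_sup_left) fun e => hzmove ?_
      have : (⟨w, hwS⟩ : ↥S) ∈ (Z ⊔ Subgroup.zpowers w).subgroupOf S :=
        Subgroup.mem_sup_right (Subgroup.mem_zpowers w)
      rwa [← e] at this
    have h1 := Classification.MaxClassSeries.mul_card_le hS hlt
    rw [Nat.card_congr (Subgroup.subgroupOfEquivOfLe hZS).toEquiv,
      Nat.card_congr (Subgroup.subgroupOfEquivOfLe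
        (sup_le hZS (Subgroup.zpowers_le.mpr hwS))).toEquiv] at h1
    refine le_trans ?_ h1
    rw [pow_two]
    refine Nat.mul_le_mul_left p (Nat.le_of_dvd Nat.card_pos ?_)
    have hZne : Z ≠ ⊥ := fun e => by
      rw [e, Subgroup.mem_bot] at hzZ
      exact hzmove (by simp [hwdef, hzZ, show (⟨(1 : Ω), one_mem W⟩ : ↥W) = 1 from rfl])
    exact ((hS.to_le hZS).card_eq_or_dvd).resolve_left fun e => hZne (Subgroup.card_eq_one.mp e)
  set C := S ⊓ Subgroup.centralizer (W : Set Ω) with hCdef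
  have hCS : C ≤ S := inf_le_left
  haveI : Finite ↥C := Fusion.finite_of_le hCS
  have hmemC : ∀ s ∈ S, s * w = w * s → s ∈ C := by
    intro s hs hsw
    refine ⟨hs, Subgroup.mem_centralizer_iff.mpr fun y hy => ?_⟩
    have : W ≤ Subgroup.centralizer ({s} : Set Ω) := hgen ▸ sup_le
      (fun c hc => Subgroup.mem_centralizer_singleton_iff.mpr (hZcomm c hc s hs).symm)
      (Subgroup.zpowers_le.mpr (Subgroup.mem_centralizer_singleton_iff.mpr hsw.symm))
    exact Subgroup.mem_centralizer_singleton_iff.mp (this hy)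
  have hWC : W ≤ C := by
    intro y hy
    refine hmemC y (hWS hy) ?_
    have : W ≤ Subgroup.centralizer ({w} : Set Ω) := hgen ▸ sup_le
      (fun c hc => Subgroup.mem_centralizer_singleton_iff.mpr (hZcomm c hc w hwS).symm)
      (Subgroup.zpowers_le.mpr (Subgroup.mem_centralizer_singleton_iff.mpr rfl))
    exact Subgroup.mem_centralizer_singleton_iff.mp (this hy)
  -- conjugation on `w` has kernel `C`
  let ψ : ↥S →* ↥Z :=
    { toFun := fun s => ⟨⁅(s : Ω), w⁆, hWcomm w hwW s s.2⟩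
      map_one' := Subtype.ext (commutatorElement_one_left w)
      map_mul' := fun a b => Subtype.ext (by
        have h1 := hZcomm _ (hWcomm w hwW b b.2) a a.2
        show ⁅(a : Ω) * b, w⁆ = ⁅(a : Ω), w⁆ * ⁅(b : Ω), w⁆
        rw [show ⁅(a : Ω) * b, w⁆ = (a * ⁅(b : Ω), w⁆) * (a : Ω)⁻¹ * ⁅(a : Ω), w⁆ by
          simp only [commutatorElement_def]; group, h1, mul_inv_cancel_right]
        exact (hZcomm _ (hWcomm w hwW a a.2) _ (hZS (hWcomm w hwW b b.2)))) }
  have hker : C.subgroupOf S = ψ.ker := by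
    ext s
    rw [Subgroup.mem_subgroupOf, MonoidHom.mem_ker, Subtype.ext_iff]
    show (s : Ω) ∈ C ↔ ⁅(s : Ω), w⁆ = 1
    rw [commutatorElement_eq_one_iff_mul_comm]
    exact ⟨fun h => (Subgroup.mem_centralizer_iff.mp h.2 w hwW).symm, hmemC s s.2⟩
  haveI hCn : (C.subgroupOf S).Normal := hker ▸ inferInstance
  have hidx : (C.subgroupOf S).index ≤ p := by
    rw [hker, Subgroup.index_ker]
    exact (Subgroup.card_le_card_group _).trans hZcard
  have hCne : C ≠ S := fun e => hzmove (hZmem w hwS fun s hs =>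
    ((Subgroup.mem_centralizer_iff.mp (show s ∈ C from e.symm ▸ hs).2 w hwW)).symm)
  have hCidx : (C.subgroupOf S).index = p := by
    obtain ⟨k, hk⟩ := hS.index (C.subgroupOf S)
    rcases Nat.lt_or_ge k 2 with h | h
    · interval_cases k
      · exact absurd (le_antisymm hCS (Subgroup.subgroupOf_eq_top.mp (Subgroup.index_eq_one.mp
          (by rw [hk, pow_zero])))) hCne
      · rw [hk, pow_one]
    · exfalso
      rw [hk] at hidx
      have hk1 : k ≤ 1 := (Nat.pow_le_pow_iff_right hp1).mp (hidx.trans_eq (pow_one p).symm)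
      omega
  have hCN : FusionSystem.normalizerIn S C = S := by
    refine inf_eq_left.mpr fun s hs => Subgroup.mem_normalizer_iff.mpr fun y => ⟨fun hy => ?_, fun hy => ?_⟩
    · exact hCn.conj_mem (⟨y, hCS hy⟩ : ↥S) hy ⟨s, hs⟩
    · have hyS : y ∈ S := by
        have := S.mul_mem (S.mul_mem (S.inv_mem hs) (hCS hy)) hs
        rwa [show s⁻¹ * (s * y * s⁻¹) * s = y by group] at this
      have := hCn.conj_mem (⟨s * y * s⁻¹, hCS hy⟩ : ↥S) hy ⟨s⁻¹, S.inv_mem hs⟩
      change (s⁻¹ * (s * y * s⁻¹) * s⁻¹⁻¹ : Ω) ∈ C at this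
      rwa [show s⁻¹ * (s * y * s⁻¹) * s⁻¹⁻¹ = y by group] at this
  have hCfn : F.IsFullyNormalized C := ⟨hCS, fun Q _ => by
    rw [hCN]; exact Subgroup.card_le_of_le (inf_le_left)⟩
  have hCc : F.IsCentric C := by
    refine ⟨hCS, fun Q hQ c hc => ?_⟩
    have hQS := Fusion.isConj_le_right hQ
    have hQidx : (Q.subgroupOf S).index = p := by
      have h1 := (C.subgroupOf S).card_mul_index
      have h2 := (Q.subgroupOf S).card_mul_index
      rw [Nat.card_congr (Subgroup.subgroupOfEquivOfLe hCS).toEquiv, hCidx, ← h2,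
        Nat.card_congr (Subgroup.subgroupOfEquivOfLe hQS).toEquiv, Fusion.isConj_card hQ] at h1
      haveI : Finite ↥Q := Fusion.finite_of_le hQS
      exact (Nat.eq_of_mul_eq_mul_left Nat.card_pos h1).symm
    haveI hQn : (Q.subgroupOf S).Normal := PGroup.normal_of_index_eq_prime hS hQidx
    by_contra hcQ
    have htop : Q.subgroupOf S ⊔ Subgroup.zpowers (⟨c, hc.1⟩ : ↥S) = ⊤ :=
      (PGroup.isCoatom_of_index_prime (hQidx ▸ (Fact.out : p.Prime))).2 _
        (lt_of_le_of_ne le_sup_left fun e => hcQ ((e.symm ▸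
          Subgroup.mem_sup_right (Subgroup.mem_zpowers _) : (⟨c, hc.1⟩ : ↥S) ∈ Q.subgroupOf S)))
    have hccen : (⟨c, hc.1⟩ : ↥S) ∈ Subgroup.center ↥S := by
      refine Subgroup.mem_center_iff.mpr fun s => ?_
      have : (⊤ : Subgroup ↥S) ≤ Subgroup.centralizer ({(⟨c, hc.1⟩ : ↥S)} : Set ↥S) := htop ▸ sup_le
        (fun q hq => Subgroup.mem_centralizer_singleton_iff.mpr
          (Subtype.ext (Subgroup.mem_centralizer_iff.mp hc.2 q hq)))
        (Subgroup.zpowers_le.mpr (Subgroup.mem_centralizer_singleton_iff.mpr rfl))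
      exact Subgroup.mem_centralizer_singleton_iff.mp (this (Subgroup.mem_top s))
    have hQne : Q.subgroupOf S ≠ ⊥ := fun e => by
      rw [e, Subgroup.index_bot, hn] at hQidx
      exact absurd (Nat.pow_eq_self_iff hp1 |>.mp hQidx) (by omega)
    have hint := PGroup.inf_center_ne_bot hS hQne
    have hcent : Subgroup.center ↥S ≤ Q.subgroupOf S := by
      have hcard : Nat.card (Subgroup.center ↥S) ≤ p := by
        rw [← Subgroup.card_map_of_injective S.subtype_injective]; exact hZcard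
      have h2 := PGroup.le_card_of_ne_bot hS hint
      have h3 := Subgroup.eq_of_le_of_card_ge
        (inf_le_right : Q.subgroupOf S ⊓ Subgroup.center ↥S ≤ _) (hcard.trans h2)
      exact h3 ▸ inf_le_left
    exact hcQ (hcent hccen)
  -- an extension of `φ` to `C`
  have hWfc : F.IsFullyCentralized W := by
    refine ⟨hWS, fun Q hQ => ?_⟩
    show Nat.card ↥(FusionSystem.centralizerIn S Q) ≤ Nat.card ↥C
    have hQS := Fusion.isConj_le_right hQ
    haveI : Finite ↥(FusionSystem.centralizerIn S Q) := Fusion.finite_of_le inf_le_left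
    have hne : FusionSystem.centralizerIn S Q ≠ S := by
      intro e
      have hQZ : Q ≤ Z := fun q hq => hZmem q (hQS hq) fun s hs =>
        (Subgroup.mem_centralizer_iff.mp (show s ∈ FusionSystem.centralizerIn S Q from e.symm ▸ hs).2
          q hq).symm
      haveI : Finite ↥Q := Fusion.finite_of_le hQS
      have h1 := Subgroup.card_le_of_le hQZ
      rw [← Fusion.isConj_card hQ] at h1
      exact hzmove ((Subgroup.eq_of_le_of_card_ge hZW h1).symm ▸ hwW)
    have hlt : (FusionSystem.centralizerIn S Q).subgroupOf S < ⊤ :=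
      lt_top_iff_ne_top.mpr fun e => hne (le_antisymm inf_le_left (Subgroup.subgroupOf_eq_top.mp e))
    have h1 := Classification.MaxClassSeries.mul_card_le hS hlt
    have h2 := (C.subgroupOf S).card_mul_index
    rw [Subgroup.card_top, ← h2, hCidx,
      Nat.card_congr (Subgroup.subgroupOfEquivOfLe hCS).toEquiv,
      Nat.card_congr (Subgroup.subgroupOfEquivOfLe
        (show FusionSystem.centralizerIn S Q ≤ S from inf_le_left)).toEquiv, mul_comm] at h1
    exact Nat.le_of_mul_le_mul_right h1 (Fact.out : p.Prime).pos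
  have hiso : Fusion.IsIso F W W (Fusion.extFun φ) := by
    have := Fusion.IsMap.isIso_range hφ
    rwa [hφZ] at this
  obtain ⟨f, hf, hfe⟩ := Fusion.receptive_extend (Fusion.receptive_of_fullyCentralized hS hF hWfc)
    hiso (Fusion.isExtendable_centralizerIn _)
  have hf' : Fusion.IsMap F C f := hf.mono le_sup_right
  obtain ⟨D, hD⟩ := hf'.exists_image
  have hDC : D = C := by
    refine Subgroup.eq_of_le_of_card_ge (fun y hy => ?_) hD.card_eq.le
    obtain ⟨x, hx, rfl⟩ := hD.exists_preimage hy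
    refine ⟨hD.cod_le hy, Subgroup.mem_centralizer_iff.mpr fun v hv => ?_⟩
    obtain ⟨u, hu, rfl⟩ := hiso.exists_preimage hv
    rw [← hfe hu, ← hf'.map_mul (hWC hu) hx, ← hf'.map_mul hx (hWC hu),
      Subgroup.mem_centralizer_iff.mp hx.2 u hu]
  subst hDC
  obtain ⟨α, hα, hαf⟩ : ∃ α ∈ F.autGroup C, ∀ x (hx : x ∈ C), (α ⟨x, hx⟩ : Ω) = f x :=
    ⟨_, hD.equiv_mem_autGroup, fun x hx => hD.equiv_apply ⟨x, hx⟩⟩
  -- the outer automorphism group
  haveI := Fusion.finite_mulAut ↥C
  haveI hN : ((Inn C).subgroupOf (F.autGroup C)).Normal := Fusion.inn_subgroupOf_normal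
  obtain ⟨T, hT⟩ := Fusion.exists_outSylow hS hF hCfn
  have hTne := Fusion.outSylow_ne_bot hS (lt_of_le_of_ne hCS hCne) hCc hT
  let κ : ↥S →* F.autGroup C ⧸ (Inn C).subgroupOf (F.autGroup C) :=
    (QuotientGroup.mk' _).comp
      (((Fusion.conjAutHom S C).comp (Subgroup.inclusion hCN.ge)).codRestrict (F.autGroup C)
        fun s => Fusion.autInducedBy_le_autGroup hCS
          (Fusion.range_conjAutHom S C ▸ ⟨_, rfl⟩ : _ ∈ autInducedBy S C))
  have hκC : C.subgroupOf S ≤ κ.ker := by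
    intro s hs
    refine (QuotientGroup.eq_one_iff _).mpr (Subgroup.mem_subgroupOf.mpr ?_)
    rw [Fusion.mem_inn]
    exact ⟨s, hs, fun x => rfl⟩
  have hTκ : T.toSubgroup ≤ κ.range := by
    intro y hy
    obtain ⟨β, rfl⟩ := QuotientGroup.mk'_surjective _ y
    obtain ⟨s, hs, hsβ⟩ := Fusion.mem_autInducedBy.mp ((hT β).mp hy)
    exact ⟨⟨s, hs⟩, congrArg _ (Subtype.ext (MulEquiv.ext fun x => Subtype.ext (hsβ x).symm))⟩
  have hTcard : Nat.card T = p := by
    have h1 : Nat.card κ.range ∣ p := by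
      rw [← Subgroup.index_ker, ← hCidx]
      exact Subgroup.index_dvd_of_le hκC
    rcases (Nat.dvd_prime Fact.out).mp ((Subgroup.card_dvd_of_le hTκ).trans h1) with h | h
    · exact absurd (Subgroup.card_eq_one.mp h) hTne
    · exact h
  refine ⟨hCc, hCfn, hN, Subgroup.normalizer (T.toSubgroup : Set _), ?_, ?_, T, ?_⟩
  · rw [← hTcard]
    exact Subgroup.card_subgroup_dvd_card _
  · intro htop
    obtain ⟨y, hy, hy1⟩ := (Subgroup.bot_or_exists_ne_one T.toSubgroup).resolve_left hTne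
    obtain ⟨β, rfl⟩ := QuotientGroup.mk'_surjective _ y
    have hmem := (Subgroup.mem_normalizer_iff.mp
      (htop ▸ Subgroup.mem_top (QuotientGroup.mk' _ (⟨α, hα⟩ : F.autGroup C))) _).mp hy
    rw [← map_inv, ← map_mul, ← map_mul] at hmem
    obtain ⟨b, hb, hbβ⟩ := Fusion.mem_autInducedBy.mp ((hT β).mp hy)
    obtain ⟨s, hs, hsβ⟩ := Fusion.mem_autInducedBy.mp ((hT _).mp hmem)
    have hαz : (α ⟨z, hWC hzW⟩ : Ω) = w := by
      rw [hαf, hfe hzW, Fusion.extFun_of_mem]
    have hsw : s * w = w * s := by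
      refine mul_inv_eq_iff_eq_mul.mp ?_
      have h1 := hsβ (α ⟨z, hWC hzW⟩)
      rw [Subgroup.coe_mul, Subgroup.coe_mul, Subgroup.coe_inv, MulAut.mul_apply, MulAut.mul_apply,
        MulAut.inv_apply_self] at h1
      have hbz : (β : MulAut C) ⟨z, hWC hzW⟩ = ⟨z, hWC hzW⟩ := by
        refine Subtype.ext ?_
        rw [hbβ]
        show b * z * b⁻¹ = z
        rw [hZcomm z hzZ b hb, mul_inv_cancel_right]
      rw [hbz, hαz] at h1
      exact h1.symm
    apply hy1
    have hsC := hmemC s hs hsw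
    have hinn : ((⟨α, hα⟩ * β * ⟨α, hα⟩⁻¹ : F.autGroup C) : MulAut C) ∈ Inn C := by
      rw [Fusion.mem_inn]
      exact ⟨s, hsC, hsβ⟩
    have h2 : QuotientGroup.mk' ((Inn C).subgroupOf (F.autGroup C)) (⟨α, hα⟩ * β * ⟨α, hα⟩⁻¹) = 1 :=
      (QuotientGroup.eq_one_iff _).mpr hinn
    rw [map_mul, map_mul, map_inv, conj_eq_one_iff] at h2
    exact h2
  · refine iSup_le fun Q => ?_
    have hQ : (Q : Subgroup _) = T.toSubgroup := by
      refine Subgroup.eq_of_le_of_card_ge Q.2.1 ?_
      rw [hTcard]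
      rcases (Nat.dvd_prime Fact.out).mp (hTcard ▸ Subgroup.card_dvd_of_le Q.2.1) with h | h
      · exact absurd (Subgroup.card_eq_one.mp h) (LargeSub.ne_bot_of_not_pRankLE Q.2.2)
      · exact h.ge
    rw [hQ]

end Cfsg.Agent.S5270
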