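import Cfsg.Statements.S5271
import Cfsg.Agent.Fusion92.WeakEmbedInner

set_option autoImplicit false
open Cfsg

namespace Cfsg.Agent.S5271

/-- A nilpotency criterion for fusion systems. Let F be a saturated fusion system over a finite p-group S of order at least p². Call a subgroup Q of S weakly embedded in F when there is a subgroup P of S strongly closed in F such that both the product QP and the intersection Q ∩ P are strongly closed in F. Then F is the inner fusion system of S if and only if there is a subgroup D of S with 1 < D < S such that every subgroup of S of the same order as D is weakly embedded in F and, for every fully normalized subgroup H of S of that order, the normalizer fusion system of H in F is the inner fusion system of N_S(H). -/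
theorem result {Ω : Type*} [Group Ω] {S : Subgroup Ω} [Finite S] (p : ℕ) [Fact p.Prime] (hS : IsPGroup p ↥S) (F : Cfsg.FusionSystem S) (hF : F.IsSaturated p) (hcard : p ^ 2 ≤ Nat.card S) : (∀ P : Subgroup Ω, F.Hom P = (Cfsg.innerFusionSystem S).Hom P) ↔ ∃ D : Subgroup Ω, ⊥ < D ∧ D < S ∧ (∀ Q : Subgroup Ω, Q ≤ S → Nat.card ↥Q = Nat.card ↥D → ∃ P : Subgroup Ω, F.StronglyClosed P ∧ F.StronglyClosed (Q ⊔ P) ∧ F.StronglyClosed (Q ⊓ P)) ∧ (∀ H : Subgroup Ω, F.IsFullyNormalized H → Nat.card ↥H = Nat.card ↥D → ∀ N : Cfsg.FusionSystem (Cfsg.FusionSystem.normalizerIn S H), F.IsNormalizerSystem H N → ∀ P : Subgroup Ω, N.Hom P = (Cfsg.innerFusionSystem (Cfsg.FusionSystem.normalizerIn S H)).Hom P) := by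
  open Cfsg.Agent.Fusion Cfsg.Agent.Fusion92 Cfsg.Agent.Fusion92.WeakEmbed in
  constructor
  · intro hinner
    have hS2 : S ≠ ⊥ := fun h => by
      rw [h, Subgroup.card_bot] at hcard
      exact absurd hcard (not_le.mpr (Nat.one_lt_pow two_ne_zero (Fact.out : p.Prime).one_lt))
    obtain ⟨M, -, -, hMi⟩ := Cfsg.Agent.PGroup.exists_le_index_eq_prime hS
      (H := (⊥ : Subgroup S)) (fun h => by
        apply hS2
        rw [← Subgroup.range_subtype S, MonoidHom.range_eq_map, ← h, Subgroup.map_bot])
    have hmul := M.card_mul_index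
    rw [hMi] at hmul
    set D := M.map S.subtype with hDdef
    have hDcard : Nat.card D * p = Nat.card S := by
      rw [hDdef, Subgroup.card_map_of_injective S.subtype_injective]; exact hmul
    have hDS : D ≤ S := Subgroup.map_subtype_le _
    haveI : Finite D := Cfsg.Agent.Fusion.finite_of_le hDS
    have hpos : 0 < Nat.card D := Nat.card_pos
    have hp1 := (Fact.out : p.Prime).one_lt
    have hnormal : ∀ Q : Subgroup Ω, Q ≤ S → Nat.card Q = Nat.card D →
        S ≤ Subgroup.normalizer (Q : Set Ω) := by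
      intro Q hQ hQd s hs
      have hi : (Q.subgroupOf S).index = p := by
        have h1 := (Q.subgroupOf S).card_mul_index
        rw [Nat.card_congr (Subgroup.subgroupOfEquivOfLe hQ).toEquiv, hQd, ← hDcard] at h1
        exact Nat.eq_of_mul_eq_mul_left hpos h1
      haveI := Cfsg.Agent.PGroup.normal_of_index_eq_prime hS hi
      haveI : Finite Q := Cfsg.Agent.Fusion.finite_of_le hQ
      exact mem_normalizer_of_conj_mem fun y hy =>
        (Subgroup.normal_subgroupOf_iff hQ).mp inferInstance y s hy hs
    have hclosed : ∀ Q : Subgroup Ω, Q ≤ S → S ≤ Subgroup.normalizer (Q : Set Ω) →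
        F.StronglyClosed Q := fun Q hQ hn => stronglyClosed_iff.mpr ⟨hQ, fun R f hf x hx hxQ => by
      obtain ⟨-, g, hg, hge⟩ := isMap_inner_iff.mp (hf.of_subset (hinner R).subset)
      rw [hge x hx]
      exact conj_mem_of_mem_normalizer (hn hg) hxQ⟩
    refine ⟨D, bot_lt_iff_ne_bot.mpr fun h => ?_, lt_of_le_of_ne hDS fun h => ?_,
      fun Q hQ hQd => ⟨S, hclosed S le_rfl S.le_normalizer, ?_, ?_⟩, fun H hH hHd N hN P => ?_⟩
    · rw [h, Subgroup.card_bot, one_mul] at hDcard
      rw [← hDcard, pow_two] at hcard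
      exact absurd hcard (not_le.mpr (lt_mul_of_one_lt_left (by omega) hp1))
    · rw [h] at hDcard
      exact absurd hDcard (ne_of_gt (lt_mul_of_one_lt_right (h ▸ hpos) hp1))
    · rw [sup_eq_right.mpr hQ]
      exact hclosed S le_rfl S.le_normalizer
    · rw [inf_eq_left.mpr hQ]
      exact hclosed Q hQ (hnormal Q hQ hQd)
    · refine Set.Subset.antisymm ?_ ?_
      · refine hom_subset_of_isMap fun f hf => ?_
        obtain ⟨h1, h2, -, -⟩ := (IsNormalizerSystem.isMap_iff hN).mp hf
        obtain ⟨-, g, hg, hge⟩ := isMap_inner_iff.mp (h1.of_subset (hinner P).subset)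
        exact isMap_inner_iff.mpr ⟨h2, g, ⟨hg, hnormal H hH.1 hHd hg⟩, hge⟩
      · refine hom_subset_of_isMap fun f hf => ?_
        obtain ⟨h1, g, hg, hge⟩ := isMap_inner_iff.mp hf
        exact (isMap_conj (F := N) h1 hg).congr fun x hx => (hge x hx).symm
  · rintro ⟨D, hD, hDS, hweak, hN⟩ P
    obtain ⟨k, hk⟩ := IsPGroup.iff_card.mp hS
    haveI : Finite D := Cfsg.Agent.Fusion.finite_of_le hDS.le
    have hh : Hyp F p (Nat.card D) :=
      ⟨hF, hS, IsPGroup.iff_card.mp (hS.to_le hDS.le),
        lt_of_le_of_ne (Subgroup.card_le_of_le hDS.le) fun h =>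
          hDS.ne (Subgroup.eq_of_le_of_card_ge hDS.le h.ge), hweak, hN⟩
    rw [hh.eq_inner]

end Cfsg.Agent.S5271
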