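import Cfsg.Statements.S5272
import Cfsg.Agent.Fusion92.FamilyInner

set_option autoImplicit false
open Cfsg Cfsg.Agent

namespace Cfsg.Agent.S5272

/-- An axiomatic Glauberman–Thompson nilpotency criterion for fusion systems. Let p be an odd prime, F a saturated fusion system over a finite p-group S, and 𝒜 a nonempty family of abelian subgroups of S. For Q ≤ S write I(Q) for the intersection of the members of 𝒜 contained in Q. Assume (invariance) that for every Q ≤ S containing a member of 𝒜, every F-automorphism of Q maps I(Q) into itself, and (replacement) that for every subgroup B of S of nilpotency class at most 2, if some member of 𝒜 contains [B,B] but not B, then B normalizes some member of 𝒜 that contains [B,B] but not B. Then F is the inner fusion system of S if and only if the normalizer fusion system of I(S) in F is the inner fusion system of N_S(I(S)).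 -/
theorem result {Ω : Type*} [Group Ω] {S : Subgroup Ω} [Finite S] (p : ℕ) [Fact p.Prime] (hS : IsPGroup p ↥S) (F : Cfsg.FusionSystem S) (hF : F.IsSaturated p) (hp : p ≠ 2) (𝒜 : Set (Subgroup Ω)) (h𝒜 : ∀ A ∈ 𝒜, A ≤ S ∧ IsMulCommutative ↥A) (hne : 𝒜.Nonempty) (hinv : ∀ Q : Subgroup Ω, Q ≤ S → (∃ A ∈ 𝒜, A ≤ Q) → ∀ α ∈ F.autGroup Q, ∀ x : ↥Q, (x : Ω) ∈ (⨅ A ∈ {A : Subgroup Ω | A ∈ 𝒜 ∧ A ≤ Q}, A) → (((α : MulAut ↥Q) x : ↥Q) : Ω) ∈ (⨅ A ∈ {A : Subgroup Ω | A ∈ 𝒜 ∧ A ≤ Q}, A)) (hrep : ∀ B : Subgroup Ω, B ≤ S → ⁅⁅B, B⁆, B⁆ = ⊥ → (∃ A ∈ 𝒜, ⁅B, B⁆ ≤ A ∧ ¬ B ≤ A) → ∃ A ∈ 𝒜, ⁅B, B⁆ ≤ A ∧ ¬ B ≤ A ∧ B ≤ Subgroup.normalizer (A : Set Ω)) : (∀ P : Subgroup Ω, F.Hom P = (Cfsg.innerFusionSystem S).Hom P) ↔ ∀ N : Cfsg.FusionSystem (Cfsg.FusionSystem.normalizerIn S (⨅ A ∈ 𝒜, A)), F.IsNormalizerSystem (⨅ A ∈ 𝒜, A) N → ∀ P : Subgroup Ω, N.Hom P = (Cfsg.innerFusionSystem (Cfsg.FusionSystem.normalizerIn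 S (⨅ A ∈ 𝒜, A))).Hom P := by
  obtain ⟨A₀, hA₀⟩ := id hne
  have hI : (⨅ A ∈ 𝒜, A) = Fusion92.famCore 𝒜 S :=
    le_antisymm (Fusion92.le_famCore fun A hA _ => iInf₂_le A hA)
      (le_iInf₂ fun A hA => Fusion92.famCore_le hA (h𝒜 A hA).1)
  have hV : (⨅ A ∈ 𝒜, A) ≤ S := (iInf₂_le A₀ hA₀).trans (h𝒜 A₀ hA₀).1
  have hSV : S ≤ Subgroup.normalizer ((⨅ A ∈ 𝒜, A : Subgroup Ω) : Set Ω) := by
    have key : ∀ t ∈ S, ∀ x ∈ (⨅ A ∈ 𝒜, A), t * x * t⁻¹ ∈ (⨅ A ∈ 𝒜, A) := by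
      intro t ht x hx
      have hiso : Fusion.IsIso F S S (fun y => t * y * t⁻¹) :=
        ⟨Fusion.isMap_conj le_rfl ht, Set.Subset.antisymm
          (fun _ ⟨y, hy, he⟩ => he ▸ S.mul_mem (S.mul_mem ht hy) (S.inv_mem ht))
          fun y hy => ⟨t⁻¹ * y * t, S.mul_mem (S.mul_mem (S.inv_mem ht) hy) ht, by simp [mul_assoc]⟩⟩
      obtain ⟨α, hα, hαe⟩ := hiso.exists_aut
      have hxS : x ∈ S := hV hx
      have h2 := hinv S le_rfl ⟨A₀, hA₀, (h𝒜 A₀ hA₀).1⟩ α hα ⟨x, hxS⟩ (hI.le hx)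
      rw [← Fusion.autFun_of_mem α hxS, hαe hxS] at h2
      exact hI.ge h2
    intro s hs
    refine Subgroup.mem_normalizer_iff.mpr fun x => ⟨key s hs x, fun hx => ?_⟩
    simpa [mul_assoc] using key s⁻¹ (S.inv_mem hs) _ hx
  refine ⟨fun h N hN P => Fusion92.normalizerSystem_inner hSV h hN P, fun h => ?_⟩
  exact Fusion92.inner_of_family hp _ hS F hF rfl 𝒜 h𝒜 hne hinv hrep
    (hI ▸ Fusion92.inner_of_normalizerSystem hV hSV h)

end Cfsg.Agent.S5272
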