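import Cfsg.Statements.S5296
import Cfsg.Agent.Fus93.SmallControl
set_option autoImplicit false
universe u
open Cfsg

namespace Cfsg.Agent.S5296

/-- Small-exponent abelian subgroups of the hyperfocal subgroup control fusion. Let E and F be saturated fusion systems over the same finite p-group S with E contained in F. Suppose that E and F have the same maps between A and B for all subgroups A, B of the hyperfocal subgroup of F that are elementary abelian when p is odd, respectively abelian of exponent dividing 4 when p = 2. Then E = F. -/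
theorem result {Ω : Type u} [Group Ω] {S : Subgroup Ω} [Finite S] (p : ℕ) [Fact p.Prime] (hS : IsPGroup p S)
    (E F : Cfsg.FusionSystem S) (hE : E.IsSaturated p) (hF : F.IsSaturated p) (hEF : E.IsSubsystemOf F)
    (hodd : p ≠ 2 → ∀ A B : Subgroup Ω, A ≤ (F.hyperfocalSubgroup p) → B ≤ (F.hyperfocalSubgroup p) →
      Cfsg.IsElementaryAbelian p A → Cfsg.IsElementaryAbelian p B → E.homSet A B = F.homSet A B)
    (htwo : p = 2 → ∀ A B : Subgroup Ω, A ≤ (F.hyperfocalSubgroup p) → B ≤ (F.hyperfocalSubgroup p) →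
      IsMulCommutative ↥A → IsMulCommutative ↥B → (∀ a ∈ A, a ^ 4 = 1) → (∀ b ∈ B, b ^ 4 = 1) → E.homSet A B = F.homSet A B) :
    ∀ P : Subgroup Ω, E.Hom P = F.Hom P := by
  have hle : E ≤ F := hEF
  have hmain : F ≤ E := by
    refine Fus93.le_of_small_abelian (Fus93.mapSet F).ncard hS E F hE hF hle le_rfl fun A hA hAs f hf => ?_
    obtain ⟨B, hB⟩ := hf.exists_image
    have hBH : B ≤ F.hyperfocalSubgroup p := fun y hy => by
      obtain ⟨x, hx, rfl⟩ := hB.exists_preimage hy
      exact (Fus93.hyperfocal_stronglyClosed hS hF hf x hx).mp (hA hx)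
    have hBc : ∀ a ∈ B, ∀ b ∈ B, a * b = b * a := fun a ha b hb => by
      obtain ⟨x, hx, rfl⟩ := hB.exists_preimage ha
      obtain ⟨y, hy, rfl⟩ := hB.exists_preimage hb
      rw [← hf.map_mul hx hy, ← hf.map_mul hy hx, hAs.1 x hx y hy]
    have hBp : ∀ n : ℕ, (∀ a ∈ A, a ^ n = 1) → ∀ b ∈ B, b ^ n = 1 := fun n hn b hb => by
      obtain ⟨x, hx, rfl⟩ := hB.exists_preimage hb
      rw [← hf.map_pow hx, hn x hx, hf.map_one]
    have hcomm : ∀ C : Subgroup Ω, (∀ a ∈ C, ∀ b ∈ C, a * b = b * a) → IsMulCommutative ↥C :=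
      fun C hC => ⟨⟨fun a b => Subtype.ext (hC a a.2 b b.2)⟩⟩
    obtain ⟨φ, hφ, hφf⟩ := id hf
    have hmem : φ ∈ F.homSet A B := ⟨hφ, fun x => hφf x ▸ hB.mem x.2⟩
    by_cases hp2 : p = 2
    · have h4 : ∀ a ∈ A, a ^ 4 = 1 := fun a ha => by
        rcases hAs.2 a ha with hw | hw
        · rw [show 4 = p * 2 by omega, pow_mul, hw, one_pow]
        · exact hw.2
      rw [← htwo hp2 A B hA hBH (hcomm A hAs.1) (hcomm B hBc) h4 (hBp 4 h4)] at hmem
      exact ⟨φ, hmem.1, hφf⟩
    · have h1 : ∀ a ∈ A, a ^ p = 1 := fun a ha => (hAs.2 a ha).resolve_right fun h => hp2 h.1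
      rw [← hodd hp2 A B hA hBH ⟨hcomm A hAs.1, h1⟩ ⟨hcomm B hBc, hBp p h1⟩] at hmem
      exact ⟨φ, hmem.1, hφf⟩
  exact fun P => Set.Subset.antisymm (hle P) (hmain P)

end Cfsg.Agent.S5296
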