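import Cfsg.Statements.S5274
import Cfsg.Agent.Lib.Fusion.Normal

set_option autoImplicit false
open Cfsg

namespace Cfsg.Agent.S5274

open Cfsg.Agent.Fusion
open Cfsg.FusionSystem (normalizerIn centralizerIn)
open scoped commutatorElement

variable {Ω : Type*} [Group Ω] {S : Subgroup Ω} {F : Cfsg.FusionSystem S} {p : ℕ}

theorem map_zpow' {P : Subgroup Ω} {f : Ω → Ω} (hf : IsMap F P f) {x : Ω} (hx : x ∈ P) (i : ℤ) :
    f (x ^ i) = f x ^ i := by
  obtain ⟨φ, -, hφf⟩ := hf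
  rw [← hφf ⟨x, hx⟩, ← map_zpow]
  exact (hφf (⟨x, hx⟩ ^ i)).symm

theorem iso_zpowers {f : Ω → Ω} {x : Ω} (hf : IsMap F (Subgroup.zpowers x) f) :
    IsIso F (Subgroup.zpowers x) (Subgroup.zpowers (f x)) f := by
  refine ⟨hf, Set.ext fun y => ⟨?_, ?_⟩⟩
  · rintro ⟨w, ⟨i, rfl⟩, rfl⟩
    exact ⟨i, (map_zpow' hf (Subgroup.mem_zpowers x) i).symm⟩
  · rintro ⟨i, rfl⟩
    exact ⟨x ^ i, ⟨i, rfl⟩, map_zpow' hf (Subgroup.mem_zpowers x) i⟩

theorem mem_centralizerIn_zpowers {x g : Ω} (hg : g ∈ S) (h : g * x = x * g) :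
    g ∈ centralizerIn S (Subgroup.zpowers x) := by
  refine ⟨hg, Subgroup.mem_centralizer_iff.mpr ?_⟩
  rintro _ ⟨i, rfl⟩
  exact ((show Commute g x from h).zpow_right i).eq.symm

/-- A map onto a central element extends to the centralizer of its source. -/
theorem extend_of_central [Finite S] [Fact p.Prime] (hS : IsPGroup p S) (hF : F.IsSaturated p)
    {f : Ω → Ω} {x : Ω} (hf : IsMap F (Subgroup.zpowers x) f) (hz : ∀ s ∈ S, s * f x = f x * s) :
    ∃ f', IsMap F (Subgroup.zpowers x ⊔ centralizerIn S (Subgroup.zpowers x)) f' ∧ f' x = f x := by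
  have hiso := iso_zpowers hf
  have hn : F.IsFullyNormalized (Subgroup.zpowers (f x)) := by
    refine ⟨hiso.cod_le, fun Q _ => ?_⟩
    rw [show normalizerIn S (Subgroup.zpowers (f x)) = S from inf_eq_left.mpr fun s hs =>
      Subgroup.centralizer_le_normalizer _ (mem_centralizerIn_zpowers hs (hz s hs)).2]
    exact Subgroup.card_le_of_le inf_le_left
  obtain ⟨f', hf', he⟩ := receptive_extend (receptive_of_fullyNormalized hS hF hn) hiso
    (isExtendable_centralizerIn f)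
  exact ⟨f', hf', he (Subgroup.mem_zpowers x)⟩

/-- The key step. -/
theorem sq_mem [Finite S] (hS : IsPGroup 2 S) (hF : F.IsSaturated 2)
    (h : ∀ x ∈ S, ∃ z ∈ S ⊓ Subgroup.centralizer (S : Set Ω), F.IsConjElt x z) {k : ℕ}
    (ih : ∀ x ∈ S, x ^ 2 ^ k = 1 → ∀ s ∈ S, x * s = s * x) {x y : Ω} (hx : x ∈ S) (hy : y ∈ S)
    (hxx : (x * x) ^ 2 ^ k = 1) (hyy : (y * y) ^ 2 ^ k = 1) :
    ((x * y) * (x * y)) ^ 2 ^ k = 1 := by
  haveI : Fact (Nat.Prime 2) := ⟨Nat.prime_two⟩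
  set r := x * y with hr
  have hrS : r ∈ S := mul_mem hx hy
  set a := (x * x) * (y * y) with ha
  have haS : a ∈ S := mul_mem (mul_mem hx hx) (mul_mem hy hy)
  have hak : a ^ 2 ^ k = 1 := by
    rw [ha, Commute.mul_pow (ih _ (mul_mem hx hx) hxx _ (mul_mem hy hy)), hxx, hyy, one_mul]
  have hac : a * r = r * a := ih a haS hak r hrS
  have hrel : x * r * x⁻¹ = r⁻¹ * a := by
    rw [eq_inv_mul_iff_mul_eq, hr, ha]
    calc x * y * (x * (x * y) * x⁻¹) = x * (y * (x * x)) * (y * x⁻¹) := by group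
      _ = x * ((x * x) * y) * (y * x⁻¹) := by rw [ih _ (mul_mem hx hx) hxx y hy]
      _ = (x * x) * (x * (y * y)) * x⁻¹ := by group
      _ = (x * x) * ((y * y) * x) * x⁻¹ := by rw [ih _ (mul_mem hy hy) hyy x hx]
      _ = (x * x) * (y * y) := by group
  obtain ⟨z, ⟨hzS, hzC⟩, φ, hφ, hφz⟩ := h r hrS
  obtain ⟨f, hf, hfr⟩ : ∃ f, IsMap F (Subgroup.zpowers r ⊔ centralizerIn S (Subgroup.zpowers r)) f ∧
      f r = z := by
    have hz' : extFun φ r = z := (extFun_of_mem φ (Subgroup.mem_zpowers r)).trans hφz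
    obtain ⟨f, hf, he⟩ := extend_of_central hS hF (isMap_extFun hφ) (fun s hs => by
      rw [hz']; exact Subgroup.mem_centralizer_iff.mp hzC s hs)
    exact ⟨f, hf, he.trans hz'⟩
  set M := Subgroup.zpowers r ⊔ centralizerIn S (Subgroup.zpowers r) with hM
  have hrM : r ∈ M := Subgroup.mem_sup_left (Subgroup.mem_zpowers r)
  have haM : a ∈ M := Subgroup.mem_sup_right (mem_centralizerIn_zpowers haS hac)
  obtain ⟨M', hM'⟩ := hf.exists_image
  obtain ⟨g, hg, hgl, hgr⟩ := hM'.exists_inv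
  have hzM' : z ∈ M' := hfr ▸ hM'.mem hrM
  set b := f a with hb
  have hbS : b ∈ S := hf.apply_mem haM
  have hbk : b ^ 2 ^ k = 1 := by rw [hb, ← hf.map_pow haM, hak, hf.map_one]
  set w := z⁻¹ * b with hw
  have hzc : ∀ s ∈ S, s * z = z * s := fun s hs => Subgroup.mem_centralizer_iff.mp hzC s hs
  have hwc : ∀ s ∈ S, s * w = w * s := fun s hs =>
    (show Commute s w from (Commute.inv_right (hzc s hs)).mul_right (ih b hbS hbk s hs).symm).eq
  -- the map sending `z` to `w`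
  have hgz : g z = r := by rw [← hfr]; exact hgl r hrM
  have h1 : IsMap F (Subgroup.zpowers z) g := hg.1.mono (Subgroup.zpowers_le.mpr hzM')
  have h1i : IsIso F (Subgroup.zpowers z) (Subgroup.zpowers r) g := hgz ▸ iso_zpowers h1
  have h2 : IsMap F (Subgroup.zpowers r) (fun u => x * u * x⁻¹) :=
    isMap_conj (Subgroup.zpowers_le.mpr hrS) hx
  have h2i : IsIso F (Subgroup.zpowers r) (Subgroup.zpowers (r⁻¹ * a)) (fun u => x * u * x⁻¹) := by
    have := iso_zpowers h2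
    simp only [hrel] at this
    exact this
  have h3 : IsMap F (Subgroup.zpowers (r⁻¹ * a)) f :=
    hf.mono (Subgroup.zpowers_le.mpr (M.mul_mem (M.inv_mem hrM) haM))
  have hchain := (h1i.comp h2i).comp_map h3
  obtain ⟨u, hu, huz⟩ : ∃ u, IsMap F S u ∧ u z = w := by
    have hz' : (f ∘ (fun u => x * u * x⁻¹) ∘ g) z = w := by
      simp only [Function.comp_apply, hgz, hrel]
      rw [hf.map_mul (M.inv_mem hrM) haM, hf.map_inv hrM, hfr]
    obtain ⟨u, hu, he⟩ := extend_of_central hS hF hchain (fun s hs => by rw [hz']; exact hwc s hs)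
    refine ⟨u, hu.mono fun s hs => Subgroup.mem_sup_right (mem_centralizerIn_zpowers hs (hzc s hs)),
      he.trans hz'⟩
  obtain ⟨S', hS'⟩ := hu.exists_image
  obtain rfl : S' = S := Subgroup.eq_of_le_of_card_ge hS'.cod_le hS'.card_eq.le
  obtain ⟨α, hα, hαe⟩ := hS'.exists_aut
  set zS : S' := ⟨z, hzS⟩ with hzSdef
  set bS : S' := ⟨b, hbS⟩ with hbSdef
  have hαz : α zS = zS⁻¹ * bS := by
    apply Subtype.ext
    rw [← autFun_coe, hαe hzS, huz]
    rfl
  -- remove the part of `2`-power order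
  haveI := Fusion92.finite_mulAut S'
  obtain ⟨β, hβz, hβodd⟩ : ∃ β : MulAut S', β zS = zS⁻¹ * bS ∧ Odd (orderOf β) := by
    obtain ⟨-, R, hR⟩ := fullyAutomized_of_fullyNormalized hS hF (fullyNormalized_self (F := F))
    rw [autInducedBy_self_eq_inn] at hR
    set αA : F.autGroup S' := ⟨α, hα⟩ with hαA
    set e := (orderOf αA).factorization 2
    set o := orderOf αA / 2 ^ e with ho
    have hoe : 2 ^ e * o = orderOf αA := Nat.ordProj_mul_ordCompl_eq_self _ 2
    have hodd : ¬ 2 ∣ o := Nat.not_dvd_ordCompl Nat.prime_two (orderOf_pos αA).ne'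
    obtain ⟨j, hj1, hj2⟩ : ∃ j : ℕ, j ≡ 0 [MOD 2 ^ e] ∧ j ≡ 1 [MOD o] := by
      have hco : Nat.Coprime (2 ^ e) o :=
        Nat.Coprime.pow_left _ (Nat.prime_two.coprime_iff_not_dvd.mpr hodd)
      obtain ⟨j, hj⟩ := Nat.chineseRemainder hco 0 1
      exact ⟨j, hj⟩
    set t := (αA ^ j)⁻¹ * αA with ht
    have ht2 : t ^ 2 ^ e = 1 := by
      have hcm : Commute (αA ^ j)⁻¹ αA := ((Commute.refl αA).pow_left j).inv_left
      rw [ht, hcm.mul_pow, inv_pow, ← pow_mul, inv_mul_eq_one, pow_eq_pow_iff_modEq, ← hoe,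
        mul_comm (2 ^ e) o]
      simpa using Nat.ModEq.mul_right' (2 ^ e) hj2
    have htR : t ∈ (R : Subgroup (F.autGroup S')) := by
      haveI hn : (R : Subgroup (F.autGroup S')).Normal := hR ▸ inn_subgroupOf_normal
      have hZ : IsPGroup 2 (Subgroup.zpowers t) := by
        obtain ⟨i, -, hi⟩ := (Nat.dvd_prime_pow Nat.prime_two).mp (orderOf_dvd_of_pow_eq_one ht2)
        exact IsPGroup.of_card (n := i) (by rw [Nat.card_zpowers, hi])
      have h2 := hZ.to_sup_of_normal_right R.isPGroup'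
      exact R.is_maximal' h2 le_sup_right ▸
        (le_sup_left : Subgroup.zpowers t ≤ _) (Subgroup.mem_zpowers t)
    rw [hR] at htR
    obtain ⟨s, hs, hst⟩ := mem_inn.mp htR
    have htz : (t : MulAut S') zS = zS := by
      apply Subtype.ext
      refine (hst zS).trans ?_
      show s * z * s⁻¹ = z
      rw [hzc s hs, mul_inv_cancel_right]
    refine ⟨((αA ^ j : F.autGroup S') : MulAut S'), ?_, ?_⟩
    · have he2 : αA ^ j * t = αA := by rw [ht, mul_inv_cancel_left]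
      rw [← hαz]
      conv_lhs => rw [← htz, ← MulAut.mul_apply, ← Subgroup.coe_mul, he2]
    · rw [Subgroup.orderOf_coe]
      have hd : orderOf (αA ^ j) ∣ o := by
        obtain ⟨q, hq⟩ := Nat.modEq_zero_iff_dvd.mp hj1
        rw [orderOf_dvd_iff_pow_eq_one, ← pow_mul, hq, mul_right_comm, hoe, pow_mul,
          pow_orderOf_eq_one, one_pow]
      refine Nat.odd_iff.mpr ?_
      have : ¬ 2 ∣ orderOf (αA ^ j) := fun h2 => hodd (h2.trans hd)
      omega
  have hAc : ∀ c : S', c ^ 2 ^ k = 1 → ∀ v : S', Commute c v := fun c hc v =>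
    Subtype.ext (ih c c.2 (by simpa using congrArg Subtype.val hc) v v.2)
  have hbSk : bS ^ 2 ^ k = 1 := Subtype.ext (by simpa using hbk)
  have hiter : ∀ i : ℕ, ∃ c : S', c ^ 2 ^ k = 1 ∧ (β ^ (2 * i + 1)) zS = zS⁻¹ * c := by
    have h2 : β (β zS) = bS⁻¹ * zS * β bS := by
      rw [hβz, map_mul, map_inv, hβz, mul_inv_rev, inv_inv]
    intro i
    induction i with
    | zero => exact ⟨bS, hbSk, by simpa using hβz⟩
    | succ i ihi =>
      obtain ⟨c, hc, hce⟩ := ihi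
      refine ⟨(β bS)⁻¹ * bS * β (β c), ?_, ?_⟩
      · have hβbk : (β bS) ^ 2 ^ k = 1 := by rw [← map_pow, hbSk, map_one]
        have hββ : (β (β c)) ^ 2 ^ k = 1 := by rw [← map_pow, ← map_pow, hc, map_one, map_one]
        rw [((hAc _ hββ _).symm).mul_pow, ((hAc _ hbSk _).symm).mul_pow, inv_pow, hβbk, hbSk, hββ]
        group
      · rw [show 2 * (i + 1) + 1 = 2 + (2 * i + 1) by ring, pow_add, MulAut.mul_apply, hce, pow_two,
          MulAut.mul_apply, map_mul, map_inv, map_mul, map_inv, h2]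
        have hbz : zS⁻¹ * bS = bS * zS⁻¹ := (hAc _ hbSk zS⁻¹).eq.symm
        have hbb : zS⁻¹ * (β bS)⁻¹ = (β bS)⁻¹ * zS⁻¹ := by
          have : (β bS) ^ 2 ^ k = 1 := by rw [← map_pow, hbSk, map_one]
          exact ((hAc _ this zS⁻¹).inv_left).eq.symm
        calc (bS⁻¹ * zS * β bS)⁻¹ * β (β c) = (β bS)⁻¹ * (zS⁻¹ * bS) * β (β c) := by group
          _ = (zS⁻¹ * (β bS)⁻¹) * bS * β (β c) := by rw [hbb]; group
          _ = zS⁻¹ * ((β bS)⁻¹ * bS * β (β c)) := by group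
  obtain ⟨i, hi⟩ := hβodd
  obtain ⟨c, hc, hce⟩ := hiter i
  rw [← hi, pow_orderOf_eq_one, MulAut.one_apply] at hce
  have hzz : zS * zS = c := eq_inv_mul_iff_mul_eq.mp hce
  refine hf.injOn (pow_mem (mul_mem hrM hrM) _) M.one_mem ?_
  rw [hf.map_pow (mul_mem hrM hrM), hf.map_mul hrM hrM, hfr, hf.map_one]
  have : (zS * zS) ^ 2 ^ k = 1 := hzz ▸ hc
  simpa using congrArg Subtype.val this

/-- Inductively, the elements of exponent `2 ^ k` are central. -/
theorem central [Finite S] (hS : IsPGroup 2 S) (hF : F.IsSaturated 2)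
    (h : ∀ x ∈ S, ∃ z ∈ S ⊓ Subgroup.centralizer (S : Set Ω), F.IsConjElt x z) (k : ℕ) :
    ∀ x ∈ S, x ^ 2 ^ k = 1 → ∀ s ∈ S, x * s = s * x := by
  haveI : Fact (Nat.Prime 2) := ⟨Nat.prime_two⟩
  induction k with
  | zero =>
    intro x _ hx s _
    rw [pow_zero, pow_one] at hx
    rw [hx, one_mul, mul_one]
  | succ k ih =>
  have hsq : ∀ x : Ω, (x * x) ^ 2 ^ k = x ^ 2 ^ (k + 1) := fun x => by
    rw [pow_succ', pow_mul, pow_two]
  let A : Subgroup Ω :=
    { carrier := {x | x ∈ S ∧ x ^ 2 ^ k = 1}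
      one_mem' := ⟨one_mem _, one_pow _⟩
      mul_mem' := fun {a b} ha hb => ⟨mul_mem ha.1 hb.1, by
        rw [Commute.mul_pow (ih a ha.1 ha.2 b hb.1), ha.2, hb.2, one_mul]⟩
      inv_mem' := fun {a} ha => ⟨inv_mem ha.1, by rw [inv_pow, ha.2, inv_one]⟩ }
  let B : Subgroup Ω :=
    { carrier := {x | x ∈ S ∧ x ^ 2 ^ (k + 1) = 1}
      one_mem' := ⟨one_mem _, one_pow _⟩
      mul_mem' := fun {a b} ha hb => ⟨mul_mem ha.1 hb.1, by
        rw [← hsq]
        exact sq_mem hS hF h ih ha.1 hb.1 (by rw [hsq]; exact ha.2) (by rw [hsq]; exact hb.2)⟩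
      inv_mem' := fun {a} ha => ⟨inv_mem ha.1, by rw [inv_pow, ha.2, inv_one]⟩ }
  have hclosed : ∀ (T : Subgroup Ω) (m : ℕ), T ≤ S → (∀ x, x ∈ T ↔ x ∈ S ∧ x ^ m = 1) →
      F.StronglyClosed T := fun T m hT hiff => stronglyClosed_iff.mpr ⟨hT, fun R f hf x hx hxT => by
    rw [hiff] at hxT ⊢
    exact ⟨hf.apply_mem hx, by rw [← hf.map_pow hx, hxT.2, hf.map_one]⟩⟩
  have hB : F.IsNormal B := by
    refine isNormal_of_series hS hF (fun i => if i = 0 then ⊥ else if i = 1 then A else B) 2 rfl rfl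
      (fun i hi => ?_) (fun i hi => ?_)
    · rcases i with _ | _ | i
      · exact stronglyClosed_iff.mpr ⟨bot_le, fun R f hf x _ hx => by
          simp only [if_true, Subgroup.mem_bot] at hx ⊢
          rw [hx, hf.map_one]⟩
      · exact hclosed A _ (fun x hx => hx.1) fun _ => Iff.rfl
      · simp only [Nat.succ_ne_zero, if_false, Nat.succ_succ_ne_one]
        exact hclosed B _ (fun x hx => hx.1) fun _ => Iff.rfl
    · refine Subgroup.commutator_le.mpr fun u hu v hv => ?_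
      rcases i with _ | _ | i
      · simp only [Nat.zero_add, one_ne_zero, if_false, if_true] at hv
        simp only [if_true, Subgroup.mem_bot]
        rw [commutatorElement_def, ← ih v hv.1 hv.2 u hu.1]
        group
      · simp only [Nat.succ_ne_zero, if_false, Nat.succ_succ_ne_one] at hv
        simp only [Nat.succ_ne_zero, if_false, if_true, Nat.zero_add]
        refine ⟨mul_mem (mul_mem (mul_mem hu.1 hv.1) (inv_mem hu.1)) (inv_mem hv.1), ?_⟩
        have hA : ∀ x, x ∈ B → x * x ∈ A := fun x hx => ⟨mul_mem hx.1 hx.1, by rw [hsq]; exact hx.2⟩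
        have huv : u⁻¹ * v ∈ B := mul_mem (inv_mem (show u ∈ B from hu)) hv
        have h1 := hA _ (mul_mem (show u ∈ B from hu) (show v ∈ B from hv))
        have h2 := hA _ (inv_mem (show u ∈ B from hu))
        have h3 := hA _ (inv_mem (show v ∈ B from hv))
        have e : ⁅u, v⁆ = ((u * v) * (u * v)) * ((v⁻¹ * (u⁻¹ * u⁻¹) * v) * (v⁻¹ * v⁻¹)) := by
          rw [commutatorElement_def]; group
        rw [e, show v⁻¹ * (u⁻¹ * u⁻¹) * v = u⁻¹ * u⁻¹ by
          rw [mul_assoc, ih _ h2.1 h2.2 v hv.1, inv_mul_cancel_left]]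
        exact (A.mul_mem h1 (A.mul_mem h2 h3)).2
      · omega
  intro x hx hxk s hs
  have hxB : x ∈ B := ⟨hx, hxk⟩
  obtain ⟨z, ⟨-, hzC⟩, φ, hφ, hφz⟩ := h s hs
  obtain ⟨f', hf', he, hB'⟩ := normal_extendsStab hB (isMap_extFun hφ)
  have hsM : s ∈ Subgroup.zpowers s ⊔ B := Subgroup.mem_sup_left (Subgroup.mem_zpowers s)
  have hxM : x ∈ Subgroup.zpowers s ⊔ B := Subgroup.mem_sup_right hxB
  refine hf'.injOn (mul_mem hxM hsM) (mul_mem hsM hxM) ?_
  rw [hf'.map_mul hxM hsM, hf'.map_mul hsM hxM, he (Subgroup.mem_zpowers s), extFun_of_mem φ (Subgroup.mem_zpowers s), hφz]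
  exact Subgroup.mem_centralizer_iff.mp hzC _ (hf'.apply_mem hxM)

/-- Let F be a saturated fusion system over a finite 2-group S. Suppose that every element of S is F-conjugate to an element of the centre Z(S) (some map of F defined on the cyclic subgroup it generates sends it into Z(S)). Then S is abelian. -/
theorem result {Ω : Type*} [Group Ω] {S : Subgroup Ω} [Finite S] (hS : IsPGroup 2 ↥S) (F : Cfsg.FusionSystem S) (hF : F.IsSaturated 2) (h : ∀ x ∈ S, ∃ z ∈ S ⊓ Subgroup.centralizer (S : Set Ω), F.IsConjElt x z) : IsMulCommutative ↥S := by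
  refine ⟨⟨fun a b => Subtype.ext ?_⟩⟩
  obtain ⟨j, hj⟩ := hS a
  exact central hS hF h j a a.2 (by simpa using congrArg Subtype.val hj) b b.2

end Cfsg.Agent.S5274
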