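import Cfsg.Statements.S5275
import Cfsg.Agent.Fusion92.StrongInner

set_option autoImplicit false
open Cfsg Cfsg.Agent

namespace Cfsg.Agent.S5275

/-- A Glauberman–Thompson nilpotency criterion for fusion systems relative to a strongly closed subgroup. Let p be an odd prime, F a saturated fusion system over a finite p-group S, and D a subgroup of S that is strongly closed in F. Let Z(J(D)) be the centre of the subgroup of D generated by the abelian subgroups of D of largest order. Then F is the inner fusion system of S if and only if the normalizer fusion system of Z(J(D)) in F is the inner fusion system of N_S(Z(J(D))) = S. -/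
theorem result {Ω : Type*} [Group Ω] {S : Subgroup Ω} [Finite S] (p : ℕ) [Fact p.Prime] (hS : IsPGroup p ↥S) (F : Cfsg.FusionSystem S) (hF : F.IsSaturated p) (hp : p ≠ 2) (D : Subgroup Ω) (hD : F.StronglyClosed D) : (∀ P : Subgroup Ω, F.Hom P = (Cfsg.innerFusionSystem S).Hom P) ↔ ∀ N : Cfsg.FusionSystem (Cfsg.FusionSystem.normalizerIn S (Cfsg.centerThompsonAOf D)), F.IsNormalizerSystem (Cfsg.centerThompsonAOf D) N → ∀ P : Subgroup Ω, N.Hom P = (Cfsg.innerFusionSystem (Cfsg.FusionSystem.normalizerIn S (Cfsg.centerThompsonAOf D))).Hom P := by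
  haveI := Fusion.finite_of_le hD.1
  have hV : Cfsg.centerThompsonAOf D ≤ S :=
    (inf_le_left.trans (Subgroup.map_subtype_le _)).trans hD.1
  have hSV : S ≤ Subgroup.normalizer (Cfsg.centerThompsonAOf D : Set Ω) := by
    intro s hs
    have hDs : D.map (MulAut.conj s).toMonoidHom = D := by
      have key : ∀ t ∈ S, ∀ y ∈ D, t * y * t⁻¹ ∈ D := fun t ht y hy => by
        obtain ⟨φ, hφ, hφf⟩ := Fusion.isMap_conj (F := F) hD.1 ht
        exact (congrArg (· ∈ D) (hφf ⟨y, hy⟩)).mp (hD.2 D le_rfl φ hφ ⟨y, hy⟩)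
      refine le_antisymm ?_ fun y hy => ⟨s⁻¹ * y * s⁻¹⁻¹, key _ (S.inv_mem hs) y hy, ?_⟩
      · rintro _ ⟨y, hy, rfl⟩
        exact key s hs y hy
      · show s * (s⁻¹ * y * s⁻¹⁻¹) * s⁻¹ = y
        group
    refine Subgroup.mem_normalizer_iff_map_conj_eq.mpr ?_
    refine (Fusion92.centerThompsonAOf_map_inj _ (MulAut.conj s).injective D).trans ?_
    exact congrArg Cfsg.centerThompsonAOf hDs
  refine ⟨fun h N hN P => Fusion92.normalizerSystem_inner hSV h hN P, fun h => ?_⟩
  exact Fusion92.inner_of_strongly_closed hp _ hS F hF rfl D hD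
    (Fusion92.inner_of_normalizerSystem hV hSV h)

end Cfsg.Agent.S5275
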