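import Cfsg.Statements.S5278
import Cfsg.Agent.Fusion91.TCentral.Fusion

set_option autoImplicit false
open Cfsg

namespace Cfsg.Agent.S5278

/-- Let p be an odd prime, F a saturated fusion system over a finite p-group S, and T a subgroup of Z(S) such that the normalizer fusion system of J(S) in F is contained in the normalizer fusion system of T, J(S) being the subgroup generated by the abelian subgroups of S of largest order. Then either T is weakly closed in F, or Aut_F(T) has a nontrivial cyclic subgroup X of order prime to p that permutes transitively the non-identity elements of the commutator [T, X] (the subgroup of T generated by the elements ψ(t)·t⁻¹ with ψ in X and t in T). -/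
theorem result {Ω : Type*} [Group Ω] {S : Subgroup Ω} [Finite S] (p : ℕ) [Fact p.Prime] (hS : IsPGroup p ↥S) (F : Cfsg.FusionSystem S) (hF : F.IsSaturated p) (hp : p ≠ 2) (T : Subgroup Ω) (hT : T ≤ S ⊓ Subgroup.centralizer (S : Set Ω)) (hJT : ∀ NJ : Cfsg.FusionSystem (Cfsg.FusionSystem.normalizerIn S (Cfsg.thompsonSubgroupAOf S)), F.IsNormalizerSystem (Cfsg.thompsonSubgroupAOf S) NJ → ∀ NT : Cfsg.FusionSystem (Cfsg.FusionSystem.normalizerIn S T), F.IsNormalizerSystem T NT → NJ.IsSubsystemOf NT) : F.WeaklyClosed T ∨ ∃ X : Subgroup (MulAut ↥T), X ≤ F.autGroup T ∧ X ≠ ⊥ ∧ IsCyclic ↥X ∧ (Nat.card ↥X).Coprime p ∧ ∀ a b : ↥T, a ∈ Subgroup.closure {y : ↥T | ∃ ψ ∈ X, ∃ t : ↥T, y = ψ t * t⁻¹} → b ∈ Subgroup.closure {y : ↥T | ∃ ψ ∈ X, ∃ t : ↥T, y = ψ t * t⁻¹} → a ≠ 1 → b ≠ 1 → ∃ ψ ∈ X, ψ a = b := by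
  refine Agent.Fusion91.TCentral.weaklyClosed_or_transitive hS hF hp T hT fun P f hf hext => ?_
  have hTS : T ≤ S := hT.trans inf_le_left
  have hJS : Cfsg.thompsonSubgroupAOf S ≤ S := Subgroup.map_subtype_le _
  have hNS : Cfsg.FusionSystem.normalizerIn S (Cfsg.thompsonSubgroupAOf S) = S :=
    inf_eq_left.mpr (Agent.Fusion92.le_normalizer_map_W (W := Agent.WeakClosure.jaFun)
      Agent.WeakClosure.isInvariantW_jaFun hS)
  have hsub := hJT _ (Agent.Fusion.isNormalizerSystem_normalizerSystem (F := F) _ hJS) _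
    (Agent.Fusion.isNormalizerSystem_normalizerSystem (F := F) T hTS)
  obtain ⟨φ, hφ, hφf⟩ :=
    (Agent.Fusion.IsNormalizerSystem.isMap_iff
      (Agent.Fusion.isNormalizerSystem_normalizerSystem (F := F) _ hJS)).mpr
      ⟨hf, hNS.symm ▸ hf.dom_le, fun y hy => hNS.symm ▸ hf.apply_mem hy, hext⟩
  exact ((Agent.Fusion.IsNormalizerSystem.isMap_iff
    (Agent.Fusion.isNormalizerSystem_normalizerSystem (F := F) T hTS)).mp
      ⟨φ, hsub P hφ, hφf⟩).2.2.2

end Cfsg.Agent.S5278
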