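import Cfsg.Statements.S5281
import Cfsg.Agent.Fus93.Generation
import Cfsg.Agent.Fus93.CentricExt
import Cfsg.Agent.Lib.Fusion.SubSat
set_option autoImplicit false
open Cfsg

namespace Cfsg.Agent.S5281

/-- Quadratic automorphisms of `Q` lie in the largest normal `p`-subgroup. -/
def Stable {Ω : Type*} [Group Ω] (p : ℕ) {Q : Subgroup Ω} (A : Subgroup (MulAut Q)) : Prop :=
  ∀ χ : MulAut ↥Q, χ ∈ A → (∀ a : ↥Q, (χ a⁻¹) * a * (χ a⁻¹) * (χ (χ a)) = 1) →
    χ ∈ ((Cfsg.pCore p ↥A).map A.subtype : Subgroup (MulAut ↥Q))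

theorem stable_of_le {Ω : Type*} [Group Ω] {p : ℕ} {Q : Subgroup Ω} {A B : Subgroup (MulAut Q)}
    [Finite Q] [Fact p.Prime] (hAB : A ≤ B) (hB : Stable p B) : Stable p A := by
  intro χ hχ hquad
  obtain ⟨b, hb, hbe⟩ := hB χ (hAB hχ) hquad
  refine ⟨⟨χ, hχ⟩, ?_, rfl⟩
  haveI := Fusion.finite_mulAut Q
  haveI : (Cfsg.pCore p B).Normal := Thompson.sSup_normal fun N hN => hN.1
  refine Thompson.le_pCore (N := (Cfsg.pCore p B).comap (Subgroup.inclusion hAB)) inferInstance
    ((Thompson.isPGroup_pCore).comap_of_injective _ (Subgroup.inclusion_injective hAB)) ?_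
  rw [Subgroup.mem_comap, show Subgroup.inclusion hAB ⟨χ, hχ⟩ = b from Subtype.ext hbe.symm]
  exact hb

theorem stable_transport {Ω : Type*} [Group Ω] {S : Subgroup Ω} {F : Cfsg.FusionSystem S} {p : ℕ}
    {P P' : Subgroup Ω} {f : Ω → Ω} (hf : Fusion.IsIso F P P' f) (h : Stable p (F.autGroup P')) :
    Stable p (F.autGroup P) := by
  intro χ hχ hquad
  have hval : ∀ x, (hf.autEquiv ⟨χ, hχ⟩ : MulAut P') (hf.equiv x) = hf.equiv (χ x) := fun x =>
    Subtype.ext (by rw [Fusion.IsIso.autEquiv_coe, Fusion.congr_apply_equiv]; rfl)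
  obtain ⟨b, hb, hbe⟩ := h (hf.autEquiv ⟨χ, hχ⟩ : MulAut P') (hf.autEquiv ⟨χ, hχ⟩).2 (fun y => by
    obtain ⟨x, rfl⟩ := hf.equiv.surjective y
    rw [← map_inv hf.equiv, hval, hval, hval, ← map_mul, ← map_mul, ← map_mul, hquad x, map_one])
  obtain rfl : b = hf.autEquiv ⟨χ, hχ⟩ := Subtype.ext hbe
  rw [← Thompson.map_pCore_equiv hf.autEquiv] at hb
  obtain ⟨c, hc, hce⟩ := hb
  exact ⟨c, hc, congrArg Subtype.val (hf.autEquiv.injective hce)⟩

theorem stable_everywhere {Ω : Type*} [Group Ω] {S : Subgroup Ω} [Finite S] {F : Cfsg.FusionSystem S}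
    {p : ℕ} (h : ∀ Q : Subgroup Ω, F.IsFullyNormalized Q → Stable p (F.autGroup Q)) (Q : Subgroup Ω)
    (hQ : Q ≤ S) : Stable p (F.autGroup Q) := by
  obtain ⟨Q', hQQ', hQ'⟩ := Fusion.exists_fullyNormalized (F := F) hQ
  obtain ⟨f, hf⟩ := Fusion.isConj_iff.mp hQQ'
  exact stable_transport hf (h Q' hQ')

/-- Climbing from a centric subgroup over which all automorphisms of `Q` extend to a radical one. -/
theorem climb {Ω : Type*} [Group Ω] {S : Subgroup Ω} [Finite S] {p : ℕ} [Fact p.Prime]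
    (hS : IsPGroup p S) {F : Cfsg.FusionSystem S} (hF : F.IsSaturated p)
    (hloc : ∀ R : Subgroup Ω, F.IsFullyNormalized R → F.IsCentric R → F.IsRadical p R →
      ∀ N : Cfsg.FusionSystem (Cfsg.FusionSystem.normalizerIn S R), F.IsNormalizerSystem R N →
        ∀ Q : Subgroup Ω, N.IsFullyNormalized Q → Stable p (N.autGroup Q)) :
    ∀ (n : ℕ) (Q R : Subgroup Ω), Nat.card S ≤ Nat.card R + n → Q ≤ R → F.IsCentric R →
      (∀ α ∈ F.autGroup Q, ∃ f, Fusion.IsIso F R R f ∧ Set.EqOn f (Fusion.autFun α) Q) →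
      Stable p (F.autGroup Q) := by
  intro n
  induction n using Nat.strong_induction_on with
  | _ n ih =>
    intro Q R hn hQR hRc hext
    obtain ⟨R', hRR', hR'⟩ := Fusion.exists_fullyNormalized (F := F) hRc.1
    obtain ⟨φ, hφ⟩ := Fusion.isConj_iff.mp hRR'
    obtain ⟨Q', hQ'R', hφQ⟩ := hφ.restrict hQR
    refine stable_transport hφQ ?_
    obtain ⟨φi, hφi, hφil, -⟩ := hφ.exists_inv
    have hcard : Nat.card R' = Nat.card R := (Fusion.isConj_card hRR').symm
    have hext' : ∀ α ∈ F.autGroup Q', ∃ f, Fusion.IsIso F R' R' f ∧ Set.EqOn f (Fusion.autFun α) Q' := by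
      intro α hα
      obtain ⟨Q'', -, hiQ⟩ := hφi.restrict hQ'R'
      obtain rfl : Q'' = Q := SetLike.coe_injective (by
        rw [← hiQ.2, ← hφQ.2, Set.image_image]
        exact (Set.image_congr fun x hx => hφil x (hQR hx)).trans (Set.image_id' _))
      obtain ⟨β, hβ, hβe⟩ := ((hφQ.comp ((Fusion.mem_autGroup hφQ.cod_le).mp hα)).comp hiQ).exists_aut
      obtain ⟨f, hf, hfe⟩ := hext β hβ
      refine ⟨φ ∘ f ∘ φi, (hφi.comp hf).comp hφ, fun y hy => ?_⟩
      obtain ⟨x, hx, rfl⟩ := hφQ.exists_preimage hy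
      simp only [Function.comp_apply, hφil x (hQR hx)]
      rw [hfe hx, hβe hx]
      show φ (φi (Fusion.autFun α (φ x))) = _
      obtain ⟨z, hz, hze⟩ := hφ.exists_preimage (hQ'R' (((Fusion.mem_autGroup hφQ.cod_le).mp hα).mem (hφQ.mem hx)))
      rw [← hze, hφil z hz]
    have hR'c : F.IsCentric R' := Fus93.isCentric_of_isConj hRc hRR'
    have hR'S := hR'.1
    haveI := Fusion.finite_of_le hR'S
    haveI := Fus93.finite_autGroup (F := F) hR'S
    by_cases hr : F.IsRadical p R'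
    · -- the normalizer system of `R'` contains all of `Aut(Q')`
      set N := Fusion.normalizerSystem F R' hR'S
      have hN := Fusion.isNormalizerSystem_normalizerSystem (F := F) R' hR'S
      have hQ'S : Q' ≤ S := hQ'R'.trans hR'S
      have hQ'N : Q' ≤ Cfsg.FusionSystem.normalizerIn S R' := hQ'R'.trans (Fusion.le_normalizerIn hR'S)
      have hle : F.autGroup Q' ≤ N.autGroup Q' := by
        intro α hα
        obtain ⟨f, hf, hfe⟩ := hext' α hα
        refine Fusion.autGroup_mem_of_isMap ((Fusion.IsNormalizerSystem.isMap_iff hN).mpr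
          ⟨((Fusion.mem_autGroup hQ'S).mp hα).1, hQ'N, fun x hx => ?_, f, hf.1.mono (sup_le hQ'R' le_rfl), hfe, hf.2⟩)
        exact hQ'N (((Fusion.mem_autGroup hQ'S).mp hα).mem hx)
      haveI : Finite (Cfsg.FusionSystem.normalizerIn S R') := Fusion.finite_of_le (Fusion.normalizerIn_le S R')
      have hst := stable_everywhere (F := N) (hloc R' hR' hR'c hr N hN) Q' hQ'N
      haveI := Fusion.finite_of_le hQ'S
      exact stable_of_le hle hst
    · -- enlarge `R'`
      set A := F.autGroup R'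
      obtain ⟨-, R₀, hR₀⟩ := Fusion.fullyAutomized_of_fullyNormalized hS hF hR'
      let K : Subgroup Ω := (((Cfsg.pCore p A).map A.subtype).comap (Fusion.conjAutHom S R')).map
        (Cfsg.FusionSystem.normalizerIn S R').subtype
      have hKle : (Cfsg.pCore p A).map A.subtype ≤ Cfsg.autInducedBy S R' := by
        rintro _ ⟨a, ha, rfl⟩
        have h1 : a ∈ (R₀ : Subgroup A) := Thompson.pCore_le_sylow R₀ ha
        rw [hR₀] at h1
        exact h1
      have hKS : K ≤ S := (Subgroup.map_subtype_le _).trans inf_le_left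
      haveI : (Cfsg.pCore p A).Normal := Thompson.sSup_normal fun N hN => hN.1
      have hinnA : (Cfsg.Inn R').subgroupOf A ≤ Cfsg.pCore p A := by
        refine Thompson.le_pCore Fusion.inn_subgroupOf_normal ?_
        refine IsPGroup.comap_of_injective ?_ _ (Subgroup.subtype_injective _)
        exact (hS.of_injective _ (Subgroup.inclusion_injective hR'S)).of_surjective _
          (MulAut.conj : R' →* MulAut R').rangeRestrict_surjective
      have hR'K : R' ≤ K := fun x hx => by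
        have hxN : x ∈ Cfsg.FusionSystem.normalizerIn S R' := Fusion.le_normalizerIn hR'S hx
        have hm : Fusion.conjAutHom S R' ⟨x, hxN⟩ ∈ Cfsg.Inn R' :=
          Fusion.mem_inn.mpr ⟨x, hx, fun y => rfl⟩
        exact ⟨⟨x, hxN⟩, ⟨⟨_, Fusion.inn_le_autGroup hR'S hm⟩, hinnA hm, rfl⟩, rfl⟩
      have hlt : Nat.card R' < Nat.card K := by
        haveI : Finite K := Fusion.finite_of_le hKS
        refine lt_of_le_of_ne (Subgroup.card_le_of_le hR'K) fun he => hr ⟨hR'S, le_antisymm ?_ ?_⟩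
        · rintro _ ⟨a, ha, rfl⟩
          obtain ⟨t, ht, hte⟩ := Fusion.mem_autInducedBy.mp (hKle ⟨a, ha, rfl⟩)
          have htN : t ∈ Cfsg.FusionSystem.normalizerIn S R' := ⟨ht, Fusion.mem_normalizer_of_induces hte⟩
          refine Fusion.mem_inn.mpr ⟨t, (Subgroup.eq_of_le_of_card_ge hR'K he.ge).ge
            ⟨⟨t, htN⟩, ⟨a, ha, ?_⟩, rfl⟩, hte⟩
          exact MulEquiv.ext fun x => Subtype.ext (hte x)
        · intro β hβ
          exact ⟨⟨β, Fusion.inn_le_autGroup hR'S hβ⟩, hinnA hβ, rfl⟩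
      refine ih (Nat.card S - Nat.card K) ?_ Q' K ?_ (hQ'R'.trans hR'K)
        (Fus93.isCentric_of_le hR'c hR'K hKS) fun α hα => ?_
      · have := Subgroup.card_le_of_le hKS
        omega
      · have := Subgroup.card_le_of_le hKS
        omega
      obtain ⟨f, hf, hfe⟩ := hext' α hα
      obtain ⟨γ, hγ, hγe⟩ := hf.exists_aut
      have hinv : ∀ s : ↥(Cfsg.FusionSystem.normalizerIn S R'), (s : Ω) ∈ K →
          ∃ a : A, a ∈ Cfsg.pCore p A ∧ (a : MulAut R') = Fusion.conjAutHom S R' s := by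
        rintro s ⟨s', ⟨a, ha, hae⟩, hs'⟩
        obtain rfl : s' = s := Subtype.ext hs'
        exact ⟨a, ha, hae⟩
      obtain ⟨g, hg, hge⟩ := Fusion.receptive_extend (Fusion.receptive_of_fullyNormalized hS hF hR') hf
        (M := K) ⟨hKS, fun s hs => by
          obtain ⟨s', hs', rfl⟩ := id hs
          obtain ⟨a, ha, hae⟩ := hinv s' hs
          refine ⟨s'.2.2, ?_⟩
          obtain ⟨t, ht, hte⟩ := Fusion.mem_autInducedBy.mp
            (hKle ⟨⟨γ, hγ⟩ * a * ⟨γ, hγ⟩⁻¹, Subgroup.Normal.conj_mem inferInstance a ha _, rfl⟩)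
          refine ⟨t, ht, fun x hx => ?_⟩
          have h2 : ((γ ((a : MulAut R') ⟨x, hx⟩) : R') : Ω) = t * ((γ ⟨x, hx⟩ : R') : Ω) * t⁻¹ := by
            have h3 := hte (γ ⟨x, hx⟩)
            simpa [MulAut.mul_apply] using h3
          rw [hae, ← Fusion.autFun_coe γ, ← Fusion.autFun_coe γ] at h2
          simp only [Fusion.conjAutHom_apply] at h2
          rwa [hγe (Fusion.conj_mem_of_mem_normalizer s'.2.2 hx), hγe hx] at h2⟩
      rw [sup_eq_right.mpr hR'K] at hg
      have hgR : g '' (R' : Set Ω) = (R' : Set Ω) := (Set.image_congr hge).trans hf.2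
      have hgK : ∀ s ∈ K, g s ∈ K := by
        intro s hs
        obtain ⟨s', hs', rfl⟩ := id hs
        obtain ⟨a, ha, hae⟩ := hinv s' hs
        have hgN := Fusion.map_mem_normalizer hg hR'K hgR hs s'.2.2
        refine ⟨⟨g s', hgN⟩, ⟨⟨γ, hγ⟩ * a * ⟨γ, hγ⟩⁻¹, Subgroup.Normal.conj_mem inferInstance a ha _, ?_⟩, rfl⟩
        refine MulEquiv.ext fun y => ?_
        obtain ⟨x, rfl⟩ := γ.surjective y
        apply Subtype.ext
        show (((γ * (a : MulAut R') * γ⁻¹) (γ x) : R') : Ω) = g s' * ((γ x : R') : Ω) * (g s')⁻¹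
        rw [MulAut.mul_apply, MulAut.mul_apply, MulAut.inv_apply_self, hae, ← Fusion.autFun_coe, ← Fusion.autFun_coe γ]
        rw [hγe (Subtype.mem _), hγe x.2, Fusion.conjAutHom_apply, ← hge x.2,
          ← hge (Fusion.conj_mem_of_mem_normalizer s'.2.2 x.2), hg.map_conj (show (s' : Ω) ∈ K from hs) (hR'K x.2)]
      refine ⟨g, ⟨hg, Set.Subset.antisymm ?_ (Fusion.surjOn_of_card_le hKS hg.injOn hgK le_rfl)⟩,
        fun x hx => (hge (hQ'R' hx)).trans (hfe hx)⟩
      rintro _ ⟨x, hx, rfl⟩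
      exact hgK x hx

/-- Let p be an odd prime and F a saturated fusion system over a finite p-group S. Call a fusion system E (over any subgroup) p-stable when, for every fully E-normalized subgroup Q and every χ in Aut_E(Q) with χ(a⁻¹)·a·χ(a⁻¹)·χ(χ(a)) = 1 for all a in Q (χ acts quadratically), χ lies in O_p(Aut_E(Q)). Then F is p-stable if and only if the normalizer fusion system of R in F is p-stable for every fully F-normalized, F-centric, F-radical subgroup R of S. -/
theorem result {Ω : Type*} [Group Ω] {S : Subgroup Ω} [Finite S] (p : ℕ) [Fact p.Prime] (hS : IsPGroup p ↥S) (F : Cfsg.FusionSystem S) (hF : F.IsSaturated p) (hp : p ≠ 2) : (∀ Q : Subgroup Ω, F.IsFullyNormalized Q → ∀ χ : MulAut ↥Q, χ ∈ F.autGroup Q → (∀ a : ↥Q, (χ a⁻¹) * a * (χ a⁻¹) * (χ (χ a)) = 1) → χ ∈ ((Cfsg.pCore p ↥(F.autGroup Q)).map (F.autGroup Q).subtype : Subgroup (MulAut ↥Q))) ↔ ∀ R : Subgroup Ω, F.IsFullyNormalized R → F.IsCentric R → F.IsRadical p R → ∀ N : Cfsg.FusionSystem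 (Cfsg.FusionSystem.normalizerIn S R), F.IsNormalizerSystem R N → (∀ Q : Subgroup Ω, N.IsFullyNormalized Q → ∀ χ : MulAut ↥Q, χ ∈ N.autGroup Q → (∀ a : ↥Q, (χ a⁻¹) * a * (χ a⁻¹) * (χ (χ a)) = 1) → χ ∈ ((Cfsg.pCore p ↥(N.autGroup Q)).map (N.autGroup Q).subtype : Subgroup (MulAut ↥Q))) := by
  constructor
  · intro h R hR hc hr N hN Q hQ χ hχ hquad
    haveI := Fusion.finite_of_le (hQ.1.trans (Fusion.normalizerIn_le S R))
    have hall := stable_everywhere (F := F) h Q (hQ.1.trans (Fusion.normalizerIn_le S R))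
    exact stable_of_le (Fusion.autGroup_mono (Fusion.hom_subset_of_isMap fun f hf =>
      ((Fusion.IsNormalizerSystem.isMap_iff hN).mp hf).1)) hall χ hχ hquad
  · intro h Q hQ
    have hQS := hQ.1
    set R := Q ⊔ Cfsg.FusionSystem.centralizerIn S Q
    have hRS : R ≤ S := sup_le hQS inf_le_left
    have hRc : F.IsCentric R := by
      refine ⟨hRS, fun R' hR' => ?_⟩
      obtain ⟨f, hf⟩ := Fusion.isConj_iff.mp hR'
      obtain ⟨Q', hQ'R, hfQ⟩ := hf.restrict (le_sup_left : Q ≤ R)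
      intro x hx
      have hfull := (Fusion.fullyCentralized_of_fullyNormalized hS hF hQ).2 Q' hfQ.isConj
      haveI : Finite ↥(Cfsg.FusionSystem.centralizerIn S Q') := Fusion.finite_of_le inf_le_left
      have hxC : x ∈ Cfsg.FusionSystem.centralizerIn S Q' := ⟨hx.1, Subgroup.mem_centralizer_iff.mpr
        fun y hy => Subgroup.mem_centralizer_iff.mp hx.2 y (hQ'R hy)⟩
      obtain ⟨y, hy, rfl⟩ := Fusion.surjOn_of_card_le (inf_le_left : Cfsg.FusionSystem.centralizerIn S Q' ≤ S)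
        (hf.1.injOn.mono fun z hz => Subgroup.mem_sup_right hz) (fun z hz => Fusion.map_mem_centralizer hf.1
          (le_sup_left : Q ≤ R) hfQ.2 (Subgroup.mem_sup_right hz) hz.2) hfull x hxC
      exact hf.mem (Subgroup.mem_sup_right hy)
    refine climb hS hF h (Nat.card S) Q R (Nat.le_add_left _ _) le_sup_left hRc fun α hα => ?_
    obtain ⟨f, hf, he⟩ := Fusion.receptive_extend (Fusion.receptive_of_fullyNormalized hS hF hQ)
      ((Fusion.mem_autGroup hQS).mp hα) (Fusion.isExtendable_centralizerIn _)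
    refine ⟨f, ⟨hf, ?_⟩, he⟩
    have hfQ : f '' (Q : Set Ω) = (Q : Set Ω) := (Set.image_congr he).trans (Fusion.autFun_image α)
    refine Set.Subset.antisymm ?_ fun y hy => ?_
    · rintro _ ⟨x, hx, rfl⟩
      exact Fusion.isMap_mem_sup hf le_sup_left le_sup_right
        (fun z hz => Subgroup.mem_sup_left (show f z ∈ (Q : Set Ω) from hfQ ▸ ⟨z, hz, rfl⟩))
        (fun z hz => Subgroup.mem_sup_right (Fusion.map_mem_centralizer hf (le_sup_left : Q ≤ R) hfQ
          (Subgroup.mem_sup_right hz) hz.2)) x hx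
    · exact Fusion.surjOn_of_card_le hRS hf.injOn (fun z hz => Fusion.isMap_mem_sup hf le_sup_left le_sup_right
        (fun z hz => Subgroup.mem_sup_left (show f z ∈ (Q : Set Ω) from hfQ ▸ ⟨z, hz, rfl⟩))
        (fun z hz => Subgroup.mem_sup_right (Fusion.map_mem_centralizer hf (le_sup_left : Q ≤ R) hfQ
          (Subgroup.mem_sup_right hz) hz.2)) z hz) le_rfl y hy

end Cfsg.Agent.S5281
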