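/-
Every fusion system on a finite group is realized by a virtually free group: the group of pairs
(q, path from the base vertex v to q • v) in FreeGroup(edges) ⋊ Sym(S).
-/
import Cfsg.Statements.S5286
import Mathlib.GroupTheory.SemidirectProduct
import Mathlib.GroupTheory.FreeGroup.NielsenSchreier
import Mathlib.Data.Finite.Perm
import Cfsg.Agent.FusTree81.Words

set_option autoImplicit false
universe u
open Cfsg

namespace Cfsg.Agent.S5286

open FreeGroup hiding map_mul map_one map_inv
open Cfsg.Agent.FusTree81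

section Chains

variable {E V : Type u}

/-- Source of a letter. -/
def ls (src tgt : E → V) (l : E × Bool) : V := if l.2 then src l.1 else tgt l.1
/-- Target of a letter. -/
def lt' (src tgt : E → V) (l : E × Bool) : V := if l.2 then tgt l.1 else src l.1

lemma ls_not (src tgt : E → V) (x : E) (b : Bool) : ls src tgt (x, !b) = lt' src tgt (x, b) := by
  cases b <;> rfl
lemma lt_not (src tgt : E → V) (x : E) (b : Bool) : lt' src tgt (x, !b) = ls src tgt (x, b) := by
  cases b <;> rfl

/-- `Chain src tgt a b L`: the word `L` is an edge path from `a` to `b`. -/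
def Chain (src tgt : E → V) (a b : V) : List (E × Bool) → Prop
  | [] => a = b
  | l :: L => ls src tgt l = a ∧ Chain src tgt (lt' src tgt l) b L

lemma chain_append (src tgt : E → V) (L : List (E × Bool)) :
    ∀ (a c : V) (M : List (E × Bool)),
      Chain src tgt a c (L ++ M) ↔ ∃ b, Chain src tgt a b L ∧ Chain src tgt b c M := by
  induction L with
  | nil => intro a c M; simp [Chain]
  | cons l L ih =>
    intro a c M
    simp only [List.cons_append, Chain, ih]
    constructor
    · rintro ⟨h, b, h1, h2⟩; exact ⟨b, ⟨h, h1⟩, h2⟩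
    · rintro ⟨b, ⟨h, h1⟩, h2⟩; exact ⟨h, b, h1, h2⟩

lemma chain_red (src tgt : E → V) {L M : List (E × Bool)} (h : Red L M) :
    ∀ a b, Chain src tgt a b L → Chain src tgt a b M := by
  induction h with
  | refl => exact fun _ _ h => h
  | tail _ hs ih =>
    intro a b hL
    have h2 := ih a b hL
    cases hs with
    | @not L₁ L₂ x c =>
      rw [chain_append] at h2 ⊢
      obtain ⟨v, h1, h2, h3, h4⟩ := h2
      refine ⟨v, h1, ?_⟩
      rw [lt_not] at h4
      rw [← h2]
      exact h4

lemma chain_invRev (src tgt : E → V) : ∀ (L : List (E × Bool)) (a b : V),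
    Chain src tgt a b L → Chain src tgt b a (invRev L) := by
  intro L
  induction L with
  | nil => intro a b h; exact h.symm
  | cons l L ih =>
    intro a b h
    obtain ⟨h1, h2⟩ := h
    have h3 := ih _ _ h2
    have : invRev (l :: L) = invRev L ++ [(l.1, !l.2)] := by simp [invRev]
    rw [this, chain_append]
    refine ⟨_, h3, ?_, ?_⟩
    · rw [ls_not]
    · show lt' src tgt (l.1, !l.2) = a
      rw [lt_not]
      exact h1

lemma chain_map (src tgt : E → V) (f : E → E) (g : V → V)
    (hs : ∀ e, src (f e) = g (src e)) (ht : ∀ e, tgt (f e) = g (tgt e)) :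
    ∀ (L : List (E × Bool)) (a b : V), Chain src tgt a b L →
      Chain src tgt (g a) (g b) (L.map fun x => (f x.1, x.2)) := by
  intro L
  induction L with
  | nil => intro a b h; exact congrArg g h
  | cons l L ih =>
    intro a b h
    obtain ⟨h1, h2⟩ := h
    refine ⟨?_, ?_⟩
    · subst h1; rcases l with ⟨e, _ | _⟩ <;> simp [ls, hs, ht]
    · have := ih _ _ h2
      rcases l with ⟨e, _ | _⟩ <;> simpa [lt', hs, ht] using this

end Chains

section Words

variable {E : Type u} [DecidableEq E]

lemma toWord_map_inj {f : E → E} (hf : Function.Injective f) (x : FreeGroup E) :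
    (FreeGroup.map f x).toWord = x.toWord.map fun a => (f a.1, a.2) := by
  conv_lhs => rw [← mk_toWord (x := x), map.mk, toWord_mk]
  apply FreeGroup.IsReduced.reduce_eq
  have h : FreeGroup.IsReduced x.toWord := isReduced_toWord
  unfold FreeGroup.IsReduced at h ⊢
  rw [List.isChain_map]
  exact h.imp fun a b hab he => hab (hf he)

end Words

section Perm

/-- Two injective maps of a finite group `P` into the finite group `S` are intertwined by a
permutation of `S`. -/
lemma exists_intertwine {S P : Type u} [Group S] [Finite S] [Group P] (a b : P →* S)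
    (ha : Function.Injective a) (hb : Function.Injective b) :
    ∃ σ : Equiv.Perm S, ∀ x s, σ (a x * s) = b x * σ s := by
  have key : ∀ a : P →* S, Function.Injective a →
      ∃ e : (S ⧸ a.range) × P ≃ S, ∀ c x, e (c, x) = a x * (Quotient.out c)⁻¹ := by
    intro a ha
    refine ⟨Equiv.ofBijective (fun p => a p.2 * (Quotient.out p.1)⁻¹) ⟨?_, ?_⟩, fun c x => rfl⟩
    · rintro ⟨c, x⟩ ⟨d, y⟩ h
      simp only at h
      have hcd : c = d := by
        have h' : Quotient.out c * (a x)⁻¹ = Quotient.out d * (a y)⁻¹ := by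
          have := congrArg (fun t => t⁻¹) h
          simpa using this
        rw [← QuotientGroup.out_eq' c, ← QuotientGroup.out_eq' d, QuotientGroup.eq]
        refine ⟨(x)⁻¹ * y, ?_⟩
        rw [map_mul, map_inv]
        calc (a x)⁻¹ * a y = (Quotient.out c)⁻¹ * (Quotient.out c * (a x)⁻¹) * a y := by group
          _ = (Quotient.out c)⁻¹ * (Quotient.out d * (a y)⁻¹) * a y := by rw [h']
          _ = _ := by group
      subst hcd
      rw [mul_left_inj] at h
      exact Prod.ext rfl (ha h)
    · intro g
      obtain ⟨⟨h, y, rfl⟩, hh⟩ := QuotientGroup.mk_out_eq_mul a.range g⁻¹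
      refine ⟨((g⁻¹ : S), y), ?_⟩
      show a y * (Quotient.out ((g⁻¹ : S) : S ⧸ a.range))⁻¹ = g
      rw [hh]
      simp
  obtain ⟨ea, hea⟩ := key a ha
  obtain ⟨eb, heb⟩ := key b hb
  haveI : Finite P := Finite.of_injective a ha
  have hcard : Nat.card (S ⧸ a.range) = Nat.card (S ⧸ b.range) := by
    have h1 := Nat.card_congr ea
    have h2 := Nat.card_congr eb
    rw [Nat.card_prod] at h1 h2
    exact Nat.eq_of_mul_eq_mul_right Nat.card_pos (h1.trans h2.symm)
  let ψ : (S ⧸ a.range) ≃ (S ⧸ b.range) := (Finite.card_eq.1 hcard).some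
  refine ⟨ea.symm.trans ((ψ.prodCongr (Equiv.refl P)).trans eb), fun x s => ?_⟩
  obtain ⟨⟨c, y⟩, rfl⟩ := ea.surjective s
  have : a x * ea (c, y) = ea (c, x * y) := by rw [hea, hea, map_mul, mul_assoc]
  rw [this]
  simp [heb, mul_assoc]

end Perm

section Construction

variable {Ω : Type u} [Group Ω] {S : Subgroup Ω} (F : Cfsg.FusionSystem S)

abbrev Idx : Type u := Σ P : Subgroup Ω, {φ : P →* Ω // φ ∈ F.Hom P}

abbrev Q (S : Subgroup Ω) : Type u := Equiv.Perm S

/-- The left regular representation. -/
def L (S : Subgroup Ω) : ↥S →* Q S := MulAction.toPermHom ↥S ↥S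

lemma L_inj : Function.Injective (L S) := fun x y h => by
  have := congrArg (fun e : Q S => e 1) h
  simpa [L] using this

variable {F}

/-- The map of the index `i`, seen as a map into `S`. -/
def fi (i : Idx F) : i.1 →* S := i.2.1.codRestrict S (F.le_of_mem i.2.2).2

/-- The inclusion of the source. -/
def inc (i : Idx F) : i.1 →* S := Subgroup.inclusion (F.le_of_mem i.2.2).1

variable (F)

/-- Edge stabilisers. -/
def R (i : Idx F) : Subgroup (Q S) := ((L S).comp (fi i)).range

abbrev Edge : Type u := Σ i : Idx F, Q S ⧸ R F i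

abbrev Vtx (S : Subgroup Ω) : Type u := Q S ⧸ (L S).range

variable [Finite S]

lemma exists_sigma (i : Idx F) :
    ∃ σ : Q S, ∀ x : i.1, σ * L S (inc i x) = L S (fi i x) * σ := by
  have hi : Function.Injective (inc i) := Subgroup.inclusion_injective _
  have hf : Function.Injective (fi i) := fun a b h =>
    F.injective_of_mem i.2.2 (congrArg (fun t : S => (t : Ω)) h)
  obtain ⟨σ, hσ⟩ := exists_intertwine (inc i) (fi i) hi hf
  exact ⟨σ, fun x => Equiv.ext fun s => by simpa [L, Equiv.Perm.mul_apply] using hσ x s⟩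

/-- The permutation attached to the index `i`. -/
noncomputable def sigma (i : Idx F) : Q S := (exists_sigma F i).choose

lemma sigma_spec (i : Idx F) (x : i.1) :
    sigma F i * L S (inc i x) = L S (fi i x) * sigma F i :=
  (exists_sigma F i).choose_spec x

/-- The action on edges. -/
def eact : Q S →* Equiv.Perm (Edge F) where
  toFun q := Equiv.sigmaCongrRight fun i => MulAction.toPerm q
  map_one' := Equiv.ext fun e => by
    obtain ⟨i, c⟩ := e
    show (⟨i, (1 : Q S) • c⟩ : Edge F) = ⟨i, c⟩
    rw [one_smul]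
  map_mul' := fun a b => Equiv.ext fun e => by
    obtain ⟨i, c⟩ := e
    show (⟨i, (a * b) • c⟩ : Edge F) = ⟨i, a • b • c⟩
    rw [mul_smul]

/-- The action on the free group. -/
def act : Q S →* MulAut (FreeGroup (Edge F)) where
  toFun q := freeGroupCongr (eact F q)
  map_one' := by
    refine MulEquiv.ext fun x => ?_
    show FreeGroup.map _ x = x
    rw [map_one]
    exact map.id x
  map_mul' := fun a b => by
    refine MulEquiv.ext fun x => ?_
    show FreeGroup.map _ x = FreeGroup.map _ (FreeGroup.map _ x)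
    rw [map.comp, map_mul]
    rfl

lemma act_apply (q : Q S) (x : FreeGroup (Edge F)) :
    act F q x = FreeGroup.map (eact F q) x := rfl

/-- Source of an edge. -/
def src (e : Edge F) : Vtx S :=
  Quotient.liftOn' e.2 (fun q => (q : Vtx S)) (by
    intro a b h
    rw [QuotientGroup.leftRel_apply] at h
    obtain ⟨x, hx⟩ := h
    exact QuotientGroup.eq.2 ⟨fi e.1 x, hx⟩)

/-- Target of an edge. -/
noncomputable def tgt (e : Edge F) : Vtx S :=
  Quotient.liftOn' e.2 (fun q => (q * sigma F e.1 : Q S)) (by
    intro a b h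
    rw [QuotientGroup.leftRel_apply] at h
    obtain ⟨x, hx⟩ := h
    refine QuotientGroup.eq.2 ⟨inc e.1 x, ?_⟩
    have hx' : L S (fi e.1 x) = a⁻¹ * b := hx
    have h2 := sigma_spec F e.1 x
    rw [hx'] at h2
    calc L S (inc e.1 x) = (sigma F e.1)⁻¹ * (sigma F e.1 * L S (inc e.1 x)) := by group
      _ = _ := by rw [h2]; group)

lemma src_eact (q : Q S) (e : Edge F) : src F (eact F q e) = q • src F e := by
  obtain ⟨i, c⟩ := e
  obtain ⟨m, rfl⟩ := QuotientGroup.mk_surjective c
  rfl

lemma tgt_eact (q : Q S) (e : Edge F) : tgt F (eact F q e) = q • tgt F e := by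
  obtain ⟨i, c⟩ := e
  obtain ⟨m, rfl⟩ := QuotientGroup.mk_surjective c
  show ((q * m * sigma F i : Q S) : Vtx S) = ((q * (m * sigma F i) : Q S) : Vtx S)
  rw [mul_assoc]

open scoped Classical in
/-- `Conn a b w`: the reduced word of `w` is a path from `a` to `b`. -/
noncomputable def Conn (a b : Vtx S) (w : FreeGroup (Edge F)) : Prop :=
  Chain (src F) (tgt F) a b w.toWord

open scoped Classical

lemma conn_one (a : Vtx S) : Conn F a a 1 := by simp [Conn, Chain]

lemma conn_mul {a b c : Vtx S} {x y : FreeGroup (Edge F)} (hx : Conn F a b x)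
    (hy : Conn F b c y) : Conn F a c (x * y) := by
  unfold Conn
  rw [toWord_mul]
  exact chain_red _ _ reduce.red a c ((chain_append _ _ _ _ _ _).2 ⟨b, hx, hy⟩)

lemma conn_inv {a b : Vtx S} {x : FreeGroup (Edge F)} (hx : Conn F a b x) : Conn F b a x⁻¹ := by
  unfold Conn
  rw [toWord_inv]
  exact chain_invRev _ _ _ _ _ hx

lemma toWord_act (q : Q S) (x : FreeGroup (Edge F)) :
    (act F q x).toWord = x.toWord.map fun a => (eact F q a.1, a.2) :=
  toWord_map_inj (eact F q).injective x

lemma conn_act {a b : Vtx S} {x : FreeGroup (Edge F)} (q : Q S) (hx : Conn F a b x) :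
    Conn F (q • a) (q • b) (act F q x) := by
  unfold Conn
  rw [toWord_act]
  exact chain_map _ _ (eact F q) (fun v => q • v) (src_eact F q) (tgt_eact F q) _ _ _ hx

/-- The base vertex. -/
def v0 (S : Subgroup Ω) : Vtx S := ((1 : Q S) : Vtx S)

lemma smul_v0 (q : Q S) : q • v0 S = (q : Vtx S) := by
  show ((q * 1 : Q S) : Vtx S) = _
  rw [mul_one]

abbrev W : Type u := FreeGroup (Edge F) ⋊[act F] Q S

/-- The fundamental group of the graph of groups. -/
noncomputable def GG : Subgroup (W F) where
  carrier := {g | Conn F (v0 S) (g.right • v0 S) g.left}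
  one_mem' := by
    show Conn F _ _ _
    rw [SemidirectProduct.one_right, SemidirectProduct.one_left, one_smul]
    exact conn_one F _
  mul_mem' := by
    intro g h hg hh
    show Conn F _ _ _
    rw [SemidirectProduct.mul_right, SemidirectProduct.mul_left, mul_smul]
    exact conn_mul F hg (conn_act F g.right hh)
  inv_mem' := by
    intro g hg
    show Conn F _ _ _
    rw [SemidirectProduct.inv_right, SemidirectProduct.inv_left]
    have := conn_act F g.right⁻¹ (conn_inv F hg)
    rwa [inv_smul_smul] at this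

lemma mem_GG (g : W F) : g ∈ GG F ↔ Conn F (v0 S) (g.right • v0 S) g.left := Iff.rfl

lemma inr_mem_GG (s : S) : SemidirectProduct.inr (L S s) ∈ GG F := by
  rw [mem_GG, SemidirectProduct.right_inr, SemidirectProduct.left_inr, smul_v0]
  have : ((L S s : Q S) : Vtx S) = v0 S := QuotientGroup.eq.2 ⟨s⁻¹, by simp⟩
  rw [this]
  exact conn_one F _

/-- The embedding of `S`. -/
noncomputable def iota : ↥S →* GG F :=
  ((SemidirectProduct.inr).comp (L S)).codRestrict (GG F) (inr_mem_GG F)

lemma iota_val (s : S) : ((iota F s : GG F) : W F) = SemidirectProduct.inr (L S s) := rfl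

lemma iota_inj : Function.Injective (iota F) := fun a b h =>
  L_inj (SemidirectProduct.inr_injective (congrArg (fun t : GG F => (t : W F)) h))

lemma eact_mk (q : Q S) (i : Idx F) (m : Q S) :
    eact F q ⟨i, (m : Q S ⧸ R F i)⟩ = ⟨i, ((q * m : Q S) : Q S ⧸ R F i)⟩ := rfl

/-- The element attached to the index `i`. -/
noncomputable def t (i : Idx F) : GG F :=
  ⟨⟨of ⟨i, ((1 : Q S) : Q S ⧸ R F i)⟩, sigma F i⟩, by
    rw [mem_GG]
    unfold Conn
    rw [toWord_of, smul_v0]
    refine ⟨rfl, ?_⟩
    show ((1 * sigma F i : Q S) : Vtx S) = _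
    rw [one_mul]⟩

lemma t_conj (i : Idx F) (x : i.1) :
    iota F (fi i x) * t F i = t F i * iota F (inc i x) := by
  apply Subtype.ext
  apply SemidirectProduct.ext
  · simp only [Subgroup.coe_mul, iota_val, t, SemidirectProduct.mul_left,
      SemidirectProduct.left_inr, SemidirectProduct.right_inr, one_mul, map_one, mul_one]
    rw [act_apply, map.of, eact_mk, mul_one]
    have e : ((L S (fi i x) : Q S) : Q S ⧸ R F i) = ((1 : Q S) : Q S ⧸ R F i) :=
      (QuotientGroup.eq.2 (show (1 : Q S)⁻¹ * L S (fi i x) ∈ R F i from ⟨x, by simp⟩)).symm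
    rw [e]
  · simp only [Subgroup.coe_mul, iota_val, t, SemidirectProduct.mul_right,
      SemidirectProduct.right_inr]
    exact (sigma_spec F i x).symm

/-- Paths whose letters are fixed by a conjugated copy of `P` induce maps of the system. -/
lemma path_hom (P : Subgroup Ω) (hP : P ≤ S) (q : Q S) :
    ∀ (Lw : List (Edge F × Bool)) (c : Q S), Chain (src F) (tgt F) (c : Vtx S) (q : Vtx S) Lw →
      ∀ f : P → S, (∀ x, ∀ l ∈ Lw, eact F (c * L S (f x) * c⁻¹) l.1 = l.1) →
        (∀ x, c * L S (f x) * c⁻¹ * q = q * L S ⟨x, hP x.2⟩) →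
          ∃ φ ∈ F.Hom P, ∀ x : P, φ x = f x := by
  intro Lw
  induction Lw with
  | nil =>
    intro c hc f _ hk
    have hcq : (c : Vtx S) = (q : Vtx S) := hc
    obtain ⟨r0, hr0⟩ := QuotientGroup.eq.1 hcq
    refine ⟨conjHom P r0, F.conj_mem hP r0.2, fun x => ?_⟩
    have h1 : L S (f x) = L S (r0 * ⟨x, hP x.2⟩ * r0⁻¹) := by
      rw [map_mul, map_mul, map_inv, hr0]
      have := hk x
      calc L S (f x) = c⁻¹ * (c * L S (f x) * c⁻¹ * q) * q⁻¹ * c := by group
        _ = _ := by rw [this]; group
    have h2 := congrArg (fun t : S => (t : Ω)) (L_inj h1)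
    simpa [conjHom] using h2.symm
  | cons l Lw ih =>
    intro c hc f hfix hk
    obtain ⟨⟨i, cl⟩, b⟩ := l
    obtain ⟨m, rfl⟩ := QuotientGroup.mk_surjective cl
    obtain ⟨h1, h2⟩ := hc
    have hR : ∀ x, ∃ u : i.1, L S (fi i u) = m⁻¹ * (c * L S (f x) * c⁻¹) * m := by
      intro x
      have h := hfix x _ List.mem_cons_self
      rw [eact_mk] at h
      have h' := QuotientGroup.eq.1 (eq_of_heq (Sigma.mk.inj_iff.1 h).2).symm
      obtain ⟨u, hu⟩ := h'
      exact ⟨u, by simpa [mul_assoc] using hu⟩
    choose u hu using hR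
    cases b
    · -- the edge is traversed backwards
      have h1' : ((m * sigma F i : Q S) : Vtx S) = (c : Vtx S) := h1
      obtain ⟨r0, hr0⟩ := QuotientGroup.eq.1 h1'.symm
      have hu' : ∀ x, L S (inc i (u x)) = L S (r0⁻¹ * f x * r0) := by
        intro x
        have := sigma_spec F i (u x)
        rw [hu x] at this
        rw [map_mul, map_mul, map_inv, hr0]
        calc L S (inc i (u x)) = (sigma F i)⁻¹ * (sigma F i * L S (inc i (u x))) := by group
          _ = _ := by rw [this]; group
      have hkey : ∀ x, m * L S (fi i (u x)) * m⁻¹ = c * L S (f x) * c⁻¹ := by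
        intro x; rw [hu x]; group
      obtain ⟨ψ, hψ, hψx⟩ := ih m h2 (fun x => fi i (u x))
        (fun x l hl => by rw [hkey x]; exact hfix x l (List.mem_cons_of_mem _ hl))
        (fun x => by rw [hkey x]; exact hk x)
      obtain ⟨χ, hχ, hχx⟩ := F.inv_mem i.2.2
      have hmem : ∀ x, ψ x ∈ i.2.1.range := fun x => ⟨u x, by rw [hψx]; rfl⟩
      have h3 := F.comp_mem hψ hχ hmem
      have hin : ∀ x, (χ.comp (ψ.codRestrict _ hmem)) x ∈ S := (F.le_of_mem h3).2
      have h4 := F.comp_mem h3 (F.conj_mem le_rfl r0.2) hin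
      refine ⟨_, h4, fun x => ?_⟩
      have hc1 : (χ.comp (ψ.codRestrict _ hmem)) x = (u x : Ω) := by
        rw [← hχx (u x)]
        show χ _ = χ _
        congr 1
        exact Subtype.ext (hψx x)
      have h5 : (u x : Ω) = (r0 : Ω)⁻¹ * f x * r0 := by
        have := congrArg (fun t : S => (t : Ω)) (L_inj (hu' x))
        simpa [inc] using this
      show (r0 : Ω) * ((χ.comp (ψ.codRestrict _ hmem)) x) * (r0 : Ω)⁻¹ = f x
      rw [hc1, h5]
      group
    · -- the edge is traversed forwards
      have h1' : (m : Vtx S) = (c : Vtx S) := h1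
      obtain ⟨r0, hr0⟩ := QuotientGroup.eq.1 h1'.symm
      have hu' : ∀ x, L S (fi i (u x)) = L S (r0⁻¹ * f x * r0) := by
        intro x
        rw [hu x, map_mul, map_mul, map_inv, hr0]
        group
      have hkey : ∀ x, (m * sigma F i) * L S (inc i (u x)) * (m * sigma F i)⁻¹
          = c * L S (f x) * c⁻¹ := by
        intro x
        calc (m * sigma F i) * L S (inc i (u x)) * (m * sigma F i)⁻¹
            = m * (sigma F i * L S (inc i (u x))) * (sigma F i)⁻¹ * m⁻¹ := by group
          _ = _ := by rw [sigma_spec F i (u x), hu x]; group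
      obtain ⟨ψ, hψ, hψx⟩ := ih (m * sigma F i) h2 (fun x => inc i (u x))
        (fun x l hl => by rw [hkey x]; exact hfix x l (List.mem_cons_of_mem _ hl))
        (fun x => by rw [hkey x]; exact hk x)
      have hmem : ∀ x, ψ x ∈ i.1 := fun x => by rw [hψx]; exact (u x).2
      have h3 := F.comp_mem hψ i.2.2 hmem
      have hin : ∀ x, (i.2.1.comp (ψ.codRestrict _ hmem)) x ∈ S := (F.le_of_mem h3).2
      have h4 := F.comp_mem h3 (F.conj_mem le_rfl r0.2) hin
      refine ⟨_, h4, fun x => ?_⟩
      have hc1 : (i.2.1.comp (ψ.codRestrict _ hmem)) x = i.2.1 (u x) := by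
        show i.2.1 _ = i.2.1 _
        congr 1
        exact Subtype.ext (hψx x)
      have h5 : i.2.1 (u x) = (r0 : Ω)⁻¹ * f x * r0 := by
        have := congrArg (fun t : S => (t : Ω)) (L_inj (hu' x))
        simpa [fi] using this
      show (r0 : Ω) * ((i.2.1.comp (ψ.codRestrict _ hmem)) x) * (r0 : Ω)⁻¹ = f x
      rw [hc1, h5]
      group

/-- The realisation property. -/
lemma realized : F.IsRealizedBy (iota F) := by
  refine ⟨iota_inj F, fun P hP φ hφ => ⟨fun h => ?_, ?_⟩⟩
  · refine ⟨t F ⟨P, φ, h⟩, fun x => ?_⟩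
    rw [eq_mul_inv_iff_mul_eq]
    exact t_conj F ⟨P, φ, h⟩ x
  · rintro ⟨g, hg⟩
    have hpair : ∀ x : P, ((iota F ⟨φ x, hφ x⟩ : GG F) : W F) * g =
        g * ((iota F ⟨x, hP x.2⟩ : GG F) : W F) := by
      intro x
      rw [hg x, Subgroup.coe_mul, Subgroup.coe_mul, Subgroup.coe_inv]
      group
    have hl : ∀ x : P, act F (L S ⟨φ x, hφ x⟩) (g : W F).left = (g : W F).left := by
      intro x
      have := congrArg SemidirectProduct.left (hpair x)
      simpa [iota_val] using this
    have hr : ∀ x : P, L S ⟨φ x, hφ x⟩ * (g : W F).right = (g : W F).right * L S ⟨x, hP x.2⟩ := by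
      intro x
      have := congrArg SemidirectProduct.right (hpair x)
      simpa [iota_val] using this
    have hchain : Chain (src F) (tgt F) ((1 : Q S) : Vtx S) ((g : W F).right : Vtx S)
        (g : W F).left.toWord := by
      have := g.2
      rw [mem_GG, smul_v0] at this
      exact this
    obtain ⟨ψ, hψ, hψx⟩ := path_hom F P hP _ _ 1 hchain (fun x => ⟨φ x, hφ x⟩)
      (fun x l hl' => by
        simp only [one_mul, inv_one, mul_one]
        have h := toWord_act F (L S ⟨φ x, hφ x⟩) (g : W F).left
        rw [hl x] at h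
        have h' := List.map_inj_left.1 (h.symm.trans (List.map_id _).symm) l hl'
        exact congrArg Prod.fst h')
      (fun x => by simpa using hr x)
    have : ψ = φ := MonoidHom.ext hψx
    rwa [← this]

/-- The projection to `Sym(S)`. -/
noncomputable def proj : GG F →* Q S := SemidirectProduct.rightHom.comp (GG F).subtype

lemma free_kernel : (proj F).ker.Normal ∧ IsFreeGroup (proj F).ker ∧
    (proj F).ker.index ∣ (Nat.card S).factorial := by
  refine ⟨inferInstance, ?_, ?_⟩
  · let j : (proj F).ker →* FreeGroup (Edge F) :=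
      { toFun := fun g => ((g : GG F) : W F).left
        map_one' := rfl
        map_mul' := fun a b => by
          have ha : ((a : GG F) : W F).right = 1 := a.2
          simp [SemidirectProduct.mul_left, ha] }
    have hj : Function.Injective j := by
      intro a b h
      apply Subtype.ext
      apply Subtype.ext
      exact SemidirectProduct.ext h
        ((a.2 : ((a : GG F) : W F).right = 1).trans (b.2 : ((b : GG F) : W F).right = 1).symm)
    exact IsFreeGroup.ofMulEquiv (MonoidHom.ofInjective hj).symm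
  · rw [Subgroup.index_ker, ← Nat.card_perm]
    exact Subgroup.card_subgroup_dvd_card _

/-- Translating action of `W` on vertices of the Cayley tree. -/
def pt (g : W F) (x : FreeGroup (Edge F)) : FreeGroup (Edge F) := g.left * act F g.right x

lemma pt_mul (g h : W F) (x : FreeGroup (Edge F)) : pt F (g * h) x = pt F g (pt F h x) := by
  simp [pt, mul_assoc]

lemma pt_inj (g : W F) : Function.Injective (pt F g) := fun _ _ h =>
  (act F g.right).injective (mul_left_cancel h)

lemma norm_act (q : Q S) (x : FreeGroup (Edge F)) : FreeGroup.norm (act F q x) = FreeGroup.norm x := by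
  simp [FreeGroup.norm, toWord_act]

lemma norm_pt (g : W F) (x y : FreeGroup (Edge F)) :
    FreeGroup.norm ((pt F g x)⁻¹ * pt F g y) = FreeGroup.norm (x⁻¹ * y) := by
  have : (pt F g x)⁻¹ * pt F g y = act F g.right (x⁻¹ * y) := by
    simp only [pt, map_mul, map_inv]; group
  rw [this, norm_act]

/-- A finite subgroup fixes a point of the tree reachable from the base vertex. -/
lemma fixed_point (H : Subgroup (GG F)) [Finite H] :
    ∃ (y : Q S) (c : FreeGroup (Edge F)), Conn F (v0 S) (y : Vtx S) c ∧
      ∀ h ∈ H, pt F (h : W F) c = c := by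
  obtain ⟨h0, hmax⟩ := Finite.exists_max fun h : H => FreeGroup.norm ((h : GG F) : W F).left
  generalize hw : ((h0 : GG F) : W F).left = w at hmax
  have hone : ∀ h : H, ((h : GG F) : W F).left = pt F ((h : GG F) : W F) 1 := fun h => by simp [pt]
  have hdia : ∀ h k : H, FreeGroup.norm ((pt F ((h : GG F) : W F) 1)⁻¹ * pt F ((k : GG F) : W F) 1) ≤ FreeGroup.norm w := by
    intro h k
    have e : pt F ((k : GG F) : W F) 1 =
        pt F ((h : GG F) : W F) (pt F (((h⁻¹ * k : H) : GG F) : W F) 1) := by
      rw [← pt_mul]; simp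
    rw [e, norm_pt]
    simpa [pt] using hmax (h⁻¹ * k)
  set j := FreeGroup.norm w / 2 with hj
  have hball : ∀ h : H, FreeGroup.norm ((pre w j)⁻¹ * pt F ((h : GG F) : W F) 1) ≤ FreeGroup.norm w - j := by
    intro h
    have h1 : FreeGroup.norm (pt F ((h : GG F) : W F) 1) ≤ FreeGroup.norm w := by rw [← hone]; exact hmax h
    have h2 := hdia h0 h
    rw [← hone h0, hw] at h2
    rcases pre_near w (pt F ((h : GG F) : W F) 1) (j := j) (by omega) with h3 | h3 <;> omega
  have himg : ∀ g : H, pt F ((g : GG F) : W F) (pre w j) = pre w j ∨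
      (FreeGroup.norm w % 2 = 1 ∧ pt F ((g : GG F) : W F) (pre w j) = pre w (j + 1)) := by
    intro g
    have hb : ∀ h : H, FreeGroup.norm ((pt F ((g : GG F) : W F) (pre w j))⁻¹ * pt F ((h : GG F) : W F) 1)
        ≤ FreeGroup.norm w - j := by
      intro h
      have e : pt F ((h : GG F) : W F) 1 =
          pt F ((g : GG F) : W F) (pt F (((g⁻¹ * h : H) : GG F) : W F) 1) := by
        rw [← pt_mul]; simp
      rw [e, norm_pt]
      exact hball _
    generalize hx : pt F ((g : GG F) : W F) (pre w j) = x at hb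
    have h1 : FreeGroup.norm x ≤ FreeGroup.norm w - j := by
      have := hb 1
      simpa [pt] using this
    have h2 : FreeGroup.norm (w⁻¹ * x) ≤ FreeGroup.norm w - j := by
      have := hb h0
      rw [← hone, hw] at this
      calc FreeGroup.norm (w⁻¹ * x) = FreeGroup.norm (x⁻¹ * w)⁻¹ := by simp
        _ ≤ _ := by rwa [norm_inv_eq]
    have h3 := le_norm_add w x
    have h4 := norm_mul_parity w⁻¹ x
    rw [norm_inv_eq] at h4
    have h5 := eq_pre w x (by omega)
    have h6 : FreeGroup.norm x = j ∨ (FreeGroup.norm w % 2 = 1 ∧ FreeGroup.norm x = j + 1) := by omega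
    rcases h6 with h6 | ⟨h7, h6⟩
    · left; rw [h5, h6]
    · right; exact ⟨h7, by rw [h5, h6]⟩
  have hfix : ∀ g : H, pt F ((g : GG F) : W F) (pre w j) = pre w j := by
    intro g
    rcases himg g with h | ⟨hodd, h⟩
    · exact h
    exfalso
    have hlt : j < w.toWord.length := by simp only [FreeGroup.norm] at hodd hj; omega
    have hne : pre w (j + 1) ≠ pre w j := fun he => by
      have := congrArg (fun t => (toWord t).length) he
      simp only [toWord_pre, List.length_take] at this
      omega
    have hc : pre w (j + 1) = pre w j * mk [w.toWord[j]] := by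
      rw [pre, pre, mul_mk, List.take_append_getElem]
    have hback : pt F ((g : GG F) : W F) (pre w (j + 1)) = pre w j := by
      rcases himg (g * g) with h2 | ⟨_, h2⟩
      · rwa [Subgroup.coe_mul, Subgroup.coe_mul, pt_mul, h] at h2
      · rw [Subgroup.coe_mul, Subgroup.coe_mul, pt_mul, h] at h2
        exact absurd (pt_inj F _ (h2.trans h.symm)) hne
    generalize w.toWord[j] = l at hc
    have e1 : pt F ((g : GG F) : W F) (pre w j * mk [l]) =
        pt F ((g : GG F) : W F) (pre w j) * act F ((g : GG F) : W F).right (mk [l]) := by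
      simp [pt, mul_assoc]
    rw [← hc, hback, h, hc, mul_assoc, left_eq_mul, mul_eq_one_iff_inv_eq] at e1
    have e2 := congrArg toWord e1
    rw [toWord_inv, toWord_act, toWord_mk, FreeGroup.IsReduced.singleton.reduce_eq] at e2
    simp [invRev, Prod.ext_iff] at e2
  have hconn : Conn F (v0 S) (((h0 : GG F) : W F).right • v0 S) w := by
    have := (h0 : GG F).2
    rwa [mem_GG, hw] at this
  unfold Conn at hconn
  rw [← List.take_append_drop j w.toWord, chain_append] at hconn
  obtain ⟨b, hb, -⟩ := hconn
  obtain ⟨y, rfl⟩ := QuotientGroup.mk_surjective b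
  refine ⟨y, pre w j, ?_, fun h hh => hfix ⟨h, hh⟩⟩
  show Chain _ _ _ _ _
  rwa [toWord_pre]

lemma finite_conj (H : Subgroup (GG F)) [Finite H] :
    ∃ g : GG F, ∀ h ∈ H, g * h * g⁻¹ ∈ (iota F).range := by
  obtain ⟨y, c, hconn, hfix⟩ := fixed_point F H
  have hgmem : (⟨c, y⟩ : W F) ∈ GG F := by rw [mem_GG, smul_v0]; exact hconn
  let g0 : GG F := ⟨⟨c, y⟩, hgmem⟩
  refine ⟨g0⁻¹, fun h hh => ?_⟩
  rw [inv_inv]
  set k := g0⁻¹ * h * g0 with hk
  have hleft : (k : W F).left = 1 := by
    have e : pt F (k : W F) 1 = 1 := by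
      rw [hk, Subgroup.coe_mul, Subgroup.coe_mul, pt_mul, pt_mul]
      have e1 : pt F (g0 : W F) 1 = c := by simp [pt, g0]
      rw [e1, hfix h hh]
      simp [pt, g0, SemidirectProduct.inv_left, SemidirectProduct.inv_right]
    simpa [pt] using e
  have hright : (v0 S : Vtx S) = ((k : W F).right : Vtx S) := by
    have := k.2
    rw [mem_GG, hleft, smul_v0, Conn, toWord_one] at this
    exact this
  obtain ⟨s, hs⟩ := QuotientGroup.eq.1 hright
  refine ⟨s, Subtype.ext (SemidirectProduct.ext ?_ ?_)⟩
  · rw [iota_val, SemidirectProduct.left_inr, hleft]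
  · rw [iota_val, SemidirectProduct.right_inr, hs, inv_one, one_mul]

end Construction

/-- Every fusion system F over a finite p-group S, saturated or not, is realized by a possibly infinite group: there are a group G and an injective homomorphism ι of S into G such that the maps of F are exactly the conjugations by elements of G between subgroups of ι(S), every finite subgroup of G is conjugate to a subgroup of ι(S), and G has a free normal subgroup whose index divides (#S)!. -/
theorem result {Ω : Type u} [Group Ω] {S : Subgroup Ω} [Finite S] (p : ℕ) [Fact p.Prime] (hS : IsPGroup p ↥S) (F : Cfsg.FusionSystem S) : ∃ (G : Type u) (_ : Group G) (ι : ↥S →* G), F.IsRealizedBy ι ∧ (∀ H : Subgroup G, Finite ↥H → ∃ g : G, ∀ h ∈ H, g * h * g⁻¹ ∈ ι.range) ∧ ∃ N : Subgroup G, N.Normal ∧ IsFreeGroup ↥N ∧ N.index ∣ (Nat.card ↥S).factorial :=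
  ⟨GG F, inferInstance, iota F, realized F,
    fun H hH => by haveI := hH; exact finite_conj F H,
    (proj F).ker, free_kernel F⟩

end Cfsg.Agent.S5286
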