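import Cfsg.Statements.S5287
import Cfsg.Agent.Lib.SupersolType.NonNormal
import Cfsg.Agent.Lib.SupersolType.SemilinearModel
import Cfsg.Agent.Lib.SupersolType.AbelianAut
import Cfsg.Agent.S5234
import Cfsg.Agent.S5235
import Cfsg.Agent.S1896
import Cfsg.Agent.S1447

set_option autoImplicit false
open Cfsg

namespace Cfsg.Agent.S5287

open Cfsg.Agent.SupersolType

universe u

section

variable {T : Type u} [Group T]

/-- The solutions of `x ^ p = 1` in an abelian metacyclic group are at most `p ^ 2`. -/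
theorem no_third_factor [Finite T] {p n : ℕ} [Fact p.Prime] (hm : Cfsg.IsMetacyclic T) (hn : 0 < n)
    (hT : IsPGroup p T) {H : Type*} [CommGroup H]
    (e : T ≃* (Multiplicative (ZMod (p ^ n)) × Multiplicative (ZMod (p ^ n))) × H) :
    Subsingleton H := by
  classical
  have hpp : p.Prime := Fact.out
  haveI : Fact (1 < p ^ n) := ⟨Nat.one_lt_pow hn.ne' hpp.one_lt⟩
  haveI : Finite ((Multiplicative (ZMod (p ^ n)) × Multiplicative (ZMod (p ^ n))) × H) :=
    Finite.of_equiv T e.toEquiv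
  haveI : Finite H := Finite.of_surjective
    (fun w : (Multiplicative (ZMod (p ^ n)) × Multiplicative (ZMod (p ^ n))) × H => w.2)
    fun h => ⟨(1, h), rfl⟩
  have hH : IsPGroup p H := hT.of_surjective
    ((MonoidHom.snd _ H).comp e.toMonoidHom) fun h => ⟨e.symm (1, h), by simp⟩
  by_contra hs
  haveI := not_subsingleton_iff_nontrivial.mp hs
  obtain ⟨m, hm0, hm1⟩ := hH.nontrivial_iff_card.mp ‹_›
  have hdvd : p ∣ Nat.card H := by rw [hm1]; exact dvd_pow_self p (by omega)
  obtain ⟨z, hz⟩ := exists_prime_orderOf_dvd_card' (G := H) p hdvd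
  set g := Multiplicative.ofAdd (1 : ZMod (p ^ n))
  have hg : orderOf g = p ^ n := by rw [orderOf_ofAdd_eq_addOrderOf, ZMod.addOrderOf_one]
  set c := g ^ p ^ (n - 1)
  have hc : orderOf c = p := by
    rw [orderOf_pow_of_dvd (pow_ne_zero _ hpp.ne_zero) (by rw [hg]; exact pow_dvd_pow p (Nat.sub_le n 1)), hg,
      Nat.pow_div (by omega) hpp.pos, show n - (n - 1) = 1 by omega, pow_one]
  obtain ⟨N, hNn, hNc, hQc⟩ := hm
  haveI := hNn
  let F : Fin p × Fin p × Fin p → T := fun w => e.symm ((c ^ w.1.val, c ^ w.2.1.val), z ^ w.2.2.val)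
  have hF : Function.Injective F := by
    rintro ⟨a, b, d⟩ ⟨a', b', d'⟩ h
    have h1 := e.symm.injective h
    simp only [Prod.mk.injEq] at h1
    exact Prod.ext (Fin.ext (pow_injOn_Iio_orderOf (by simp [hc]) (by simp [hc]) h1.1.1))
      (Prod.ext (Fin.ext (pow_injOn_Iio_orderOf (by simp [hc]) (by simp [hc]) h1.1.2))
        (Fin.ext (pow_injOn_Iio_orderOf (by simp [hz]) (by simp [hz]) h1.2)))
  have hcp : ∀ k : ℕ, (c ^ k) ^ p = 1 := fun k => by
    rw [pow_right_comm, orderOf_dvd_iff_pow_eq_one.mp hc.dvd, one_pow]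
  have hzp : ∀ k : ℕ, (z ^ k) ^ p = 1 := fun k => by
    rw [pow_right_comm, orderOf_dvd_iff_pow_eq_one.mp hz.dvd, one_pow]
  have hFp : ∀ w, F w ^ p = 1 := fun w => by
    rw [← map_pow, Prod.pow_mk, Prod.pow_mk, hcp, hcp, hzp]
    exact map_one e.symm
  letI : Fintype T := Fintype.ofFinite T
  letI : CommGroup N := IsCyclic.commGroup
  letI : CommGroup (T ⧸ N) := IsCyclic.commGroup
  have hbound : Nat.card {x : T // x ^ p = 1} ≤ p * p := by
    have hN' : (Finset.univ.filter fun x : N => x ^ p = 1).card ≤ p :=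
      IsCyclic.card_pow_eq_one_le hpp.pos
    have hQ' : (Finset.univ.filter fun x : T ⧸ N => x ^ p = 1).card ≤ p :=
      IsCyclic.card_pow_eq_one_le hpp.pos
    rw [Nat.card_eq_fintype_card, Fintype.card_subtype]
    refine (Finset.card_le_mul_card_image_of_maps_to (f := fun x : T => (x : T ⧸ N))
      (t := Finset.univ.filter fun x : T ⧸ N => x ^ p = 1) ?_ p ?_).trans
      (Nat.mul_le_mul_left _ hQ')
    · intro x hx
      simp only [Finset.mem_filter, Finset.mem_univ, true_and] at hx ⊢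
      rw [← QuotientGroup.mk_pow, hx, QuotientGroup.mk_one]
    · intro q _
      by_cases hne : ((Finset.univ.filter fun x : T => x ^ p = 1).filter
          fun x : T => (x : T ⧸ N) = q).Nonempty
      · obtain ⟨x₀, hx₀⟩ := hne
        simp only [Finset.mem_filter, Finset.mem_univ, true_and] at hx₀
        have hcomm : ∀ x : T, Commute x₀⁻¹ x := fun x => by
          have hab : ∀ a b : T, a * b = b * a := fun a b => by
            refine e.injective ?_
            rw [map_mul, map_mul, mul_comm]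
          exact hab _ _
        refine le_trans (Finset.card_le_card_of_injOn
          (fun x => if hx : x₀⁻¹ * x ∈ N then (⟨_, hx⟩ : N) else 1) ?_ ?_) hN'
        · intro x hx
          simp only [Finset.coe_filter, Finset.mem_filter, Finset.mem_univ, true_and,
            Set.mem_setOf_eq] at hx ⊢
          rw [dif_pos (QuotientGroup.eq.mp (hx₀.2.trans hx.2.symm))]
          refine Subtype.ext ?_
          push_cast
          rw [(hcomm x).mul_pow, inv_pow, hx₀.1, hx.1, inv_one, one_mul]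
        · intro x hx x' hx' hxx
          simp only [Finset.coe_filter, Finset.mem_filter, Finset.mem_univ, true_and,
            Set.mem_setOf_eq] at hx hx'
          simp only [dif_pos (QuotientGroup.eq.mp (hx₀.2.trans hx.2.symm)),
            dif_pos (QuotientGroup.eq.mp (hx₀.2.trans hx'.2.symm))] at hxx
          exact mul_left_cancel (congrArg Subtype.val hxx)
      · rw [Finset.not_nonempty_iff_eq_empty.mp hne]; simp
  have h3 := (Nat.card_le_card_of_injective (fun w => (⟨F w, hFp w⟩ : {x : T // x ^ p = 1}))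
    (fun a b hab => hF (congrArg Subtype.val hab))).trans hbound
  simp only [Nat.card_prod, Nat.card_fin] at h3
  have := hpp.two_le
  nlinarith

end

variable {Ω : Type u} [Group Ω] {S : Subgroup Ω} [Finite S]

/-- An automorphism of order three forbids supersolubility at the prime two. -/
theorem false_of_aut_three (hS : IsPGroup 2 S)
    (h : ∀ F : FusionSystem S, F.IsSaturated 2 → Supersoluble F) {U : Type*} [Group U] (e : S ≃* U)
    (α : MulAut U) (h3 : α ^ 3 = 1) (h1 : α ≠ 1) : False := by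
  haveI : Fact (Nat.Prime 2) := ⟨Nat.prime_two⟩
  let β : MulAut S := (MulAut.congr e).symm α
  have hβ : β ^ 3 = 1 := by rw [← map_pow, h3, map_one]
  have hcop : (Nat.card (Subgroup.zpowers β)).Coprime 2 := by
    rw [Nat.card_zpowers]
    exact Nat.Coprime.coprime_dvd_left (orderOf_dvd_of_pow_eq_one hβ) (by decide)
  have h2 := (coprime_aut_of_forall hS h _ hcop).2 β (Subgroup.mem_zpowers β)
  rw [pow_one] at h2
  exact h1 ((MulAut.congr e).symm.injective (h2.trans (map_one _).symm))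

/-- The cyclic permutation of the three involutions of the four group. -/
def kleinAut : MulAut (DihedralGroup 2) where
  toFun
    | .r i => if i = 0 then .r 0 else .sr 0
    | .sr i => if i = 0 then .sr 1 else .r 1
  invFun
    | .r i => if i = 0 then .r 0 else .sr 1
    | .sr i => if i = 0 then .r 1 else .sr 0
  left_inv := by unfold Function.LeftInverse; decide
  right_inv := by unfold Function.RightInverse Function.LeftInverse; decide
  map_mul' := by decide

/-- The automorphism of order three permuting `i, j, k` in the quaternion group. -/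
def quatAut : MulAut (QuaternionGroup 2) where
  toFun
    | .a i => if i = 0 then .a 0 else if i = 2 then .a 2 else if i = 1 then .xa 0 else .xa 2
    | .xa i => if i = 0 then .xa 1 else if i = 2 then .xa 3 else if i = 1 then .a 1 else .a 3
  invFun
    | .a i => if i = 0 then .a 0 else if i = 2 then .a 2 else if i = 1 then .xa 1 else .xa 3
    | .xa i => if i = 0 then .a 1 else if i = 2 then .a 3 else if i = 1 then .xa 0 else .xa 2
  left_inv := by unfold Function.LeftInverse; decide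
  right_inv := by unfold Function.RightInverse Function.LeftInverse; decide
  map_mul' := by decide

theorem exists_exp_of_card (hS : IsPGroup 2 S) {n c : ℕ} (hn : Nat.card S = c * n) :
    ∃ a, n = 2 ^ a := by
  haveI : Fact (Nat.Prime 2) := ⟨Nat.prime_two⟩
  obtain ⟨j, hj⟩ := hS.exists_card_eq
  obtain ⟨a, -, ha⟩ := (Nat.dvd_prime_pow Nat.prime_two).mp
    (hj ▸ hn ▸ dvd_mul_left n c)
  exact ⟨a, ha⟩

theorem not_dihedral (hS : IsPGroup 2 S)
    (h : ∀ F : FusionSystem S, F.IsSaturated 2 → Supersoluble F) {n : ℕ} (hn : 2 ≤ n)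
    (e : S ≃* DihedralGroup n) : False := by
  have hcard : Nat.card S = 2 * n := (Nat.card_congr e.toEquiv).trans DihedralGroup.nat_card
  obtain ⟨a, rfl⟩ := exists_exp_of_card hS hcard
  have ha : 1 ≤ a := by rcases a with - | a <;> omega
  obtain rfl | ha2 := ha.eq_or_lt
  · refine false_of_aut_three hS h e kleinAut (by ext w; revert w; decide) ?_
    intro hk
    exact absurd (congrArg (fun α : MulAut _ => α (.sr 0)) hk) (by decide)
  obtain ⟨M⟩ := exists_model (a := a) ha2
  letI := M.grp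
  haveI := M.fin
  haveI := M.normal
  let π := QuotientGroup.mk' M.Z
  haveI : Fact (Nat.Prime 2) := ⟨Nat.prime_two⟩
  have hpa : 2 ^ a = 2 ^ (a - 1) + 2 ^ (a - 1) := by
    rw [← two_mul, ← pow_succ', show a - 1 + 1 = a by omega]
  have hX : orderOf (π M.X) = 2 ^ a := by
    suffices h' : orderOf (π M.X) = 2 ^ (a - 1 + 1) by rwa [show a - 1 + 1 = a by omega] at h'
    refine orderOf_eq_prime_pow ?_ ?_
    · rw [← map_pow]; exact fun hh => M.halfX ((QuotientGroup.eq_one_iff _).mp hh)
    · rw [← map_pow, show a - 1 + 1 = a by omega]; exact (QuotientGroup.eq_one_iff _).mpr M.topX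
  have hY : π M.Y ∉ Subgroup.zpowers (π M.X) := by
    rintro ⟨j, hj⟩
    change π M.X ^ j = π M.Y at hj
    rw [← map_zpow] at hj
    exact M.notMemY _ (QuotientGroup.eq.mp hj) j (by rw [mul_inv_cancel_left])
  have hC : π M.Y * π M.X * (π M.Y)⁻¹ = π M.X ^ (2 ^ a - 1) := by
    rw [← map_inv, ← map_mul, ← map_mul, M.rel, map_pow]
  have hy2 : e.symm (.sr 0) * e.symm (.sr 0) = e.symm (.r 1) ^ 0 := by
    rw [← map_mul, pow_zero]; simp
  have hc : e.symm (.sr 0) * e.symm (.r 1) * (e.symm (.sr 0))⁻¹ = e.symm (.r 1) ^ (2 ^ a - 1) := by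
    rw [← map_inv, ← map_mul, ← map_mul, ← map_pow]
    congr 1
    simp [Nat.cast_sub Nat.one_le_two_pow, ← DihedralGroup.r_one_pow]
  have hG : ¬ 2 * (2 * 2 ^ a) ∣ Nat.card (M.G ⧸ M.Z) := fun hd => M.card (by
    rw [Subgroup.card_eq_card_quotient_mul_card_subgroup M.Z]
    have := Nat.mul_dvd_mul hd M.cardZ
    rwa [show 2 * (2 * 2 ^ a) * 2 = 2 ^ (a + 3) by ring] at this)
  obtain ⟨g, hg⟩ := M.conj
  refine false_of_model hS h (N := 2 ^ a) (by positivity) (e := 2 ^ (a - 1))
    (Nat.even_pow.mpr ⟨even_two, by omega⟩) hcard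
    ((orderOf_injective e.symm.toMonoidHom e.symm.injective _).trans DihedralGroup.orderOf_r_one)
    ?_ hy2 hc hX hY (by rw [← map_mul, M.sqY, map_one, pow_zero]) hC hG
    ⟨π g, 1, by rw [pow_one, ← map_pow, ← map_inv, ← map_mul, ← map_mul, ← map_mul, hg]⟩
  rintro ⟨j, hj⟩
  change e.symm (.r 1) ^ j = _ at hj
  rw [← map_zpow, DihedralGroup.r_one_zpow] at hj
  exact absurd (e.symm.injective hj) (by simp)

theorem not_quasiDihedral (hS : IsPGroup 2 S)
    (h : ∀ F : FusionSystem S, F.IsSaturated 2 → Supersoluble F)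
    (hq : Cfsg.IsQuasiDihedral S) : False := by
  obtain ⟨n, hn, hcard, x, y, hx, hy, hc⟩ := hq
  obtain ⟨a, rfl⟩ : ∃ a, n = a + 1 := ⟨n - 1, by omega⟩
  obtain ⟨M⟩ := exists_model (a := a) (by omega)
  letI := M.grp
  haveI := M.fin
  have hpa : 2 ^ a = 2 ^ (a - 1) + 2 ^ (a - 1) := by
    rw [← two_mul, ← pow_succ', show a - 1 + 1 = a by omega]
  have h2 : 2 ^ (a - 1) = 2 * 2 ^ (a - 2) := by rw [← pow_succ', show a - 2 + 1 = a - 1 by omega]
  have h1 : (0 : ℕ) < 2 ^ (a - 2) := by positivity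
  rw [Nat.add_sub_cancel] at hc
  obtain ⟨g, hg⟩ := M.conj
  refine false_of_model hS h (N := 2 ^ (a + 1)) (by positivity) (e := 2 ^ (a - 1)) ⟨_, by
      rw [h2, two_mul]⟩ (x := x) (y := y) (by rw [hcard, pow_succ']) hx ?_ (t := 0)
    (by rw [pow_zero, ← sq, ← hy, pow_orderOf_eq_one]) hc M.ordX ?_
    (by rw [M.sqY, pow_zero]) M.rel ?_ ⟨g, 1, by rw [pow_one, hg]⟩
  · rintro ⟨j, hj⟩
    change x ^ j = y at hj
    rw [← hj, ← zpow_add_one, add_comm, zpow_one_add, mul_inv_cancel_right] at hc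
    have h3 : x ^ (2 ^ a - 2) = 1 := by
      refine mul_left_cancel (a := x) ?_
      rw [← pow_succ', mul_one, show 2 ^ a - 2 + 1 = 2 ^ a - 1 by omega, ← hc]
    have := Nat.le_of_dvd (by omega) (orderOf_dvd_of_pow_eq_one h3)
    rw [hx, pow_succ] at this
    omega
  · rintro ⟨j, hj⟩
    exact M.notMemY 1 (one_mem _) j (by rw [mul_one]; exact hj.symm)
  · rw [show 2 * (2 * 2 ^ (a + 1)) = 2 ^ (a + 3) by ring]; exact M.card

theorem not_quaternion (hS : IsPGroup 2 S)
    (h : ∀ F : FusionSystem S, F.IsSaturated 2 → Supersoluble F) {n : ℕ} (hn : 2 ≤ n)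
    (e : S ≃* QuaternionGroup n) : False := by
  haveI : NeZero n := ⟨by omega⟩
  have hcard' : Nat.card S = 4 * n := (Nat.card_congr e.toEquiv).trans
    (Nat.card_eq_fintype_card.trans QuaternionGroup.card)
  obtain ⟨b, rfl⟩ := exists_exp_of_card hS hcard'
  have hb : 1 ≤ b := by rcases b with - | b <;> omega
  obtain rfl | hb2 := hb.eq_or_lt
  · refine false_of_aut_three hS h e quatAut (by ext w; revert w; decide) ?_
    intro hk
    exact absurd (congrArg (fun α : MulAut _ => α (.xa 0)) hk) (by decide)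
  obtain ⟨M⟩ := exists_model (a := b + 1) (by omega)
  letI := M.grp
  haveI := M.fin
  obtain ⟨C, hC, χ, hχ, hY, hprod⟩ := M.char
  obtain ⟨g, hg⟩ := M.conj
  rw [Nat.add_sub_cancel] at hg
  have hrel : M.Y * M.X * M.Y⁻¹ = M.X ^ (2 ^ (b + 1) - 1) := M.rel
  have hpb : 2 ^ (b + 1) = 2 * 2 ^ b := pow_succ' 2 b
  have hposb : 0 < 2 ^ b := by positivity
  have hsq : ∀ v, χ (v ^ 2) = 1 := fun v => by rw [map_pow, sq]; exact hχ v
  have hXY : χ (M.X * M.Y) = 1 := by
    rw [← hg, map_mul, map_mul, map_inv, mul_comm, inv_mul_cancel_left,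
      show 2 ^ b = 2 ^ (b - 1) * 2 by rw [← pow_succ, show b - 1 + 1 = b by omega], pow_mul]
    exact hsq _
  let X' : χ.ker := ⟨M.X ^ 2, hsq _⟩
  let Y' : χ.ker := ⟨M.X * M.Y, hXY⟩
  have htop : M.X * M.Y * (M.X * M.Y) = M.X ^ 2 ^ (b + 1) := by
    calc M.X * M.Y * (M.X * M.Y) = M.X * (M.Y * M.X * M.Y⁻¹) * (M.Y * M.Y) := by group
      _ = _ := by rw [hrel, M.sqY, mul_one, ← pow_succ', Nat.sub_add_cancel (by omega)]
  have hX' : orderOf X' = 2 ^ (b + 1) := by
    rw [← orderOf_injective χ.ker.subtype Subtype.val_injective X']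
    change orderOf (M.X ^ 2) = _
    rw [orderOf_pow_of_dvd two_ne_zero (M.ordX ▸ dvd_pow_self 2 (by omega)), M.ordX, pow_succ,
      Nat.mul_div_cancel _ two_pos]
  have hY' : Y' ∉ Subgroup.zpowers X' := by
    rintro ⟨j, hj⟩
    have hj' : (M.X ^ 2) ^ j = M.X * M.Y := by simpa [X', Y'] using congrArg Subtype.val hj
    refine M.notMemY 1 (one_mem _) (-1 + (2 : ℕ) * j) ?_
    rw [mul_one, zpow_add, zpow_mul, zpow_natCast, hj', zpow_neg_one, inv_mul_cancel_left]
  have hY2 : Y' * Y' = X' ^ 2 ^ b := Subtype.ext (by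
    change M.X * M.Y * (M.X * M.Y) = (M.X ^ 2) ^ 2 ^ b
    rw [htop, ← pow_mul, hpb])
  have hC' : Y' * X' * Y'⁻¹ = X' ^ (2 ^ (b + 1) - 1) := Subtype.ext (by
    change M.X * M.Y * M.X ^ 2 * (M.X * M.Y)⁻¹ = (M.X ^ 2) ^ (2 ^ (b + 1) - 1)
    calc M.X * M.Y * M.X ^ 2 * (M.X * M.Y)⁻¹
        = M.X * (M.Y * M.X * M.Y⁻¹) * (M.Y * M.X * M.Y⁻¹) * M.X⁻¹ := by
          rw [sq]; simp only [mul_inv_rev, mul_assoc, inv_mul_cancel_left]
      _ = M.X * (M.X ^ (2 ^ (b + 1) - 1) * M.X ^ (2 ^ (b + 1) - 1)) * M.X⁻¹ := by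
          rw [hrel]; simp only [mul_assoc]
      _ = (M.X ^ 2) ^ (2 ^ (b + 1) - 1) := by
          rw [← pow_add, ← two_mul, pow_mul, ((Commute.self_pow M.X 2).pow_right _).eq,
            mul_inv_cancel_right])
  have hG : ¬ 2 * (2 * 2 ^ (b + 1)) ∣ Nat.card χ.ker := fun hd => M.card (by
    haveI : Fact (Nat.Prime 2) := ⟨Nat.prime_two⟩
    have h2 : 2 ∣ Nat.card χ.range := by
      have h3 : orderOf (⟨χ M.Y, ⟨M.Y, rfl⟩⟩ : χ.range) = 2 :=
        orderOf_eq_prime (Subtype.ext (by
          change χ M.Y ^ 2 = 1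
          rw [← map_pow]; exact hsq _)) (fun hh => hY (congrArg Subtype.val hh))
      exact h3 ▸ orderOf_dvd_natCard _
    rw [← χ.ker.card_mul_index, Subgroup.index_ker]
    have := Nat.mul_dvd_mul hd h2
    rwa [show 2 * (2 * 2 ^ (b + 1)) * 2 = 2 ^ (b + 1 + 3) by ring] at this)
  obtain ⟨g', i, hg'⟩ : ∃ (g' : χ.ker) (i : ℕ),
      (g' : M.G) * M.X ^ 2 ^ b * (g' : M.G)⁻¹ = (M.X ^ 2) ^ i * (M.X * M.Y) := by
    by_cases hgk : χ g = 1
    · exact ⟨⟨g, hgk⟩, 0, by rw [pow_zero, one_mul]; exact hg⟩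
    · refine ⟨⟨g * M.Y, ?_⟩, 2 ^ b, ?_⟩
      · change χ (g * M.Y) = 1
        rw [map_mul]
        exact hprod _ _ hgk hY
      · change g * M.Y * M.X ^ 2 ^ b * (g * M.Y)⁻¹ = _
        rw [← pow_mul, ← hpb, mul_inv_rev]
        calc g * M.Y * M.X ^ 2 ^ b * (M.Y⁻¹ * g⁻¹)
            = g * (M.Y * M.X ^ 2 ^ b * M.Y⁻¹) * g⁻¹ := by simp only [mul_assoc]
          _ = g * (M.X ^ 2 ^ b) ^ (2 ^ (b + 1) - 1) * g⁻¹ := by
              rw [← conj_pow, hrel, ← pow_mul, ← pow_mul, mul_comm]
          _ = (M.X * M.Y) ^ (2 ^ (b + 1) - 1) := by rw [← conj_pow, hg]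
          _ = M.X ^ 2 ^ (b + 1) * (M.X * M.Y) := by
              have h4 : (M.X * M.Y) ^ 4 = 1 := by
                rw [show 4 = 2 * 2 by rfl, pow_mul, sq (M.X * M.Y), htop, ← pow_mul, ← pow_succ,
                  ← M.ordX, pow_orderOf_eq_one]
              have h5 : 2 ^ (b + 1) - 1 = 4 * (2 ^ (b - 1) - 1) + 3 := by
                have h6 : 2 ^ b = 2 * 2 ^ (b - 1) := by
                  rw [← pow_succ', show b - 1 + 1 = b by omega]
                have : 0 < 2 ^ (b - 1) := by positivity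
                omega
              rw [h5, pow_add, pow_mul, h4, one_pow, one_mul, pow_succ, sq, htop]
  have hy2 : e.symm (.xa 0) * e.symm (.xa 0) = e.symm (.a 1) ^ 2 ^ b := by
    rw [← map_mul, ← map_pow, QuaternionGroup.a_one_pow]; congr 1; simp
  have hc : e.symm (.xa 0) * e.symm (.a 1) * (e.symm (.xa 0))⁻¹ =
      e.symm (.a 1) ^ (2 ^ (b + 1) - 1) := by
    rw [mul_inv_eq_iff_eq_mul, ← map_mul, ← map_pow, ← map_mul, QuaternionGroup.a_one_pow]
    congr 1
    rw [QuaternionGroup.xa_mul_a, QuaternionGroup.a_mul_xa, Nat.cast_sub Nat.one_le_two_pow, hpb,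
      ZMod.natCast_self]
    simp
  refine false_of_model hS h (N := 2 ^ (b + 1)) (by positivity) (e := 2 ^ (b - 1))
    (Nat.even_pow.mpr ⟨even_two, by omega⟩) (by rw [hcard', hpb]; ring)
    ((orderOf_injective e.symm.toMonoidHom e.symm.injective _).trans
      (by rw [QuaternionGroup.orderOf_a_one, hpb]))
    ?_ hy2 hc hX' hY' hY2 hC' hG ⟨g', i, Subtype.ext ?_⟩
  · rintro ⟨j, hj⟩
    change e.symm (.a 1) ^ j = _ at hj
    have hmem : (QuaternionGroup.xa 0 : QuaternionGroup (2 ^ b)) ∈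
        Submonoid.powers (QuaternionGroup.a 1) := by
      rw [(isOfFinOrder_of_finite _).mem_powers_iff_mem_zpowers]
      exact ⟨j, e.symm.injective (by rw [map_zpow]; exact hj)⟩
    obtain ⟨k, hk⟩ := hmem
    change QuaternionGroup.a 1 ^ k = _ at hk
    rw [QuaternionGroup.a_one_pow] at hk
    exact absurd hk (by simp)
  · change (g' : M.G) * (M.X ^ 2) ^ 2 ^ (b - 1) * (g' : M.G)⁻¹ = (M.X ^ 2) ^ i * (M.X * M.Y)
    rw [← pow_mul M.X, ← pow_succ', show b - 1 + 1 = b by omega, hg']

/-- Coprime automorphisms of a non-abelian metacyclic group of odd order. -/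
theorem coprime_aut_odd {p : ℕ} [Fact p.Prime] (hp : p ≠ 2) (hS : IsPGroup p S)
    (hm : Cfsg.IsMetacyclic S) (hab : ¬ IsMulCommutative S) (H : Subgroup (MulAut S))
    (hH : (Nat.card H).Coprime p) : IsMulCommutative H ∧ ∀ h ∈ H, h ^ (p - 1) = 1 := by
  haveI := Fusion.finite_mulAut S
  haveI : Finite (S ⋊[H.subtype] H) := Finite.of_equiv _ SemidirectProduct.equivProd.symm
  by_cases hbot : H = ⊥
  · subst hbot
    refine ⟨inferInstance, fun h hh => ?_⟩
    rw [Subgroup.mem_bot.mp hh, one_pow]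
  let ι : S →* S ⋊[H.subtype] H := SemidirectProduct.inl
  let eR : S ≃* ι.range := MonoidHom.ofInjective SemidirectProduct.inl_injective
  let A : Subgroup (S ⋊[H.subtype] H) := (SemidirectProduct.inr : H →* S ⋊[H.subtype] H).range
  have hRm : Cfsg.IsMetacyclic ι.range := by
    obtain ⟨N, hN, hNc, hQc⟩ := hm
    have hN' : (N.map (eR : S →* ι.range)).Normal := hN.map _ eR.surjective
    haveI := hN'
    refine ⟨N.map (eR : S →* ι.range), hN', ?_, ?_⟩
    · exact isCyclic_of_surjective ((eR : S →* ι.range).subgroupMap N)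
        ((eR : S →* ι.range).subgroupMap_surjective N)
    · exact isCyclic_of_surjective _ (QuotientGroup.congr N _ eR rfl).surjective
  have hact : ∀ (h : H) (s : S), (SemidirectProduct.inr h : S ⋊[H.subtype] H) * ι s *
      (SemidirectProduct.inr h)⁻¹ = ι ((h : MulAut S) s) := fun h s => by
    rw [← map_inv]; exact (SemidirectProduct.inl_aut h s).symm
  have hA : A ≤ Subgroup.normalizer (ι.range : Set (S ⋊[H.subtype] H)) := by
    rintro _ ⟨h, rfl⟩
    refine Subgroup.mem_normalizer_iff.mpr fun w => ⟨?_, ?_⟩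
    · rintro ⟨s, rfl⟩
      exact ⟨(h : MulAut S) s, (hact h s).symm⟩
    · rintro ⟨s, hs⟩
      refine ⟨((h⁻¹ : H) : MulAut S) s, ?_⟩
      rw [← hact, hs, map_inv]
      simp only [mul_assoc, inv_mul_cancel_left, inv_inv, inv_mul_cancel, mul_one]
  have hcop : (Nat.card A).Coprime p := by
    rwa [← Nat.card_congr (MonoidHom.ofInjective SemidirectProduct.inr_injective).toEquiv]
  have hab' : ¬ IsMulCommutative ι.range := fun hh => hab ⟨⟨fun u w => eR.injective (by
    rw [map_mul, map_mul, hh.is_comm.comm])⟩⟩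
  have hA1 : ¬ A ≤ Subgroup.centralizer (ι.range : Set (S ⋊[H.subtype] H)) := fun hh => hbot (by
    rw [eq_bot_iff]
    intro h hh'
    rw [Subgroup.mem_bot]
    refine MulEquiv.ext fun s => SemidirectProduct.inl_injective (φ := H.subtype) ?_
    have h2 := Subgroup.mem_centralizer_iff.mp (hh ⟨⟨h, hh'⟩, rfl⟩) (ι s) ⟨s, rfl⟩
    change ι (h s) = ι s
    rw [← hact ⟨h, hh'⟩, ← h2, mul_inv_cancel_right])
  obtain ⟨-, hgen, -, hrest⟩ := S1447.result p hp ι.range A (hS.of_surjective eR.toMonoidHom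
    eR.surjective) hRm hA hcop
  obtain ⟨-, hCc, -, -, -⟩ := hrest hab' hA1
  set C := ⁅ι.range, A⁆ with hCdef
  have hCR : C ≤ ι.range := by
    rw [hCdef, Subgroup.commutator_le]
    intro u hu a ha
    rw [commutatorElement_def, mul_assoc u a, mul_assoc u]
    exact mul_mem hu ((Subgroup.mem_normalizer_iff.mp (hA ha) _).mp (inv_mem hu))
  have hCA : ∀ a ∈ A, ∀ w ∈ C, a * w * a⁻¹ ∈ C := fun a ha w hw => by
    have h1 : C.map (MulAut.conj a).toMonoidHom ≤ C := by
      rw [hCdef, Subgroup.map_commutator]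
      refine Subgroup.commutator_mono ?_ ?_
      · rintro _ ⟨r, hr, rfl⟩
        exact (Subgroup.mem_normalizer_iff.mp (hA ha) r).mp hr
      · rintro _ ⟨r, hr, rfl⟩
        exact mul_mem (mul_mem ha hr) (inv_mem ha)
    exact h1 ⟨w, hw, rfl⟩
  obtain ⟨⟨c, hc⟩, hcgen⟩ := hCc.exists_generator
  obtain ⟨c0, rfl⟩ := hCR hc
  -- every element of `H` is a power on `C` and trivial on the centralizer
  have hext : ∀ u w : MulAut S, u ∈ H → w ∈ H → u c0 = w c0 → u = w := by
    intro u w hu hw huw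
    have hdef : ∀ z ∈ ι.range, ∃ s, ι s = z ∧ True := fun z ⟨s, hs⟩ => ⟨s, hs, trivial⟩
    let K : Subgroup (S ⋊[H.subtype] H) := (u.toMonoidHom.eqLocus w.toMonoidHom).map ι
    have hK : ι.range ≤ K := by
      rw [← hgen]
      refine sup_le (fun z hz => ?_) (fun z hz => ?_)
      · obtain ⟨k, hk⟩ := Subgroup.mem_zpowers_iff.mp (hcgen ⟨z, hz⟩)
        refine ⟨c0 ^ k, ?_, ?_⟩
        · exact zpow_mem (show c0 ∈ u.toMonoidHom.eqLocus w.toMonoidHom from huw) k
        · rw [map_zpow]; exact congrArg Subtype.val hk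
      · obtain ⟨⟨s, rfl⟩, hs⟩ := Subgroup.mem_inf.mp hz
        have hfix : ∀ x (hx : x ∈ H), x s = s := fun x hx => by
          refine SemidirectProduct.inl_injective (φ := H.subtype) ?_
          have h2 := Subgroup.mem_centralizer_iff.mp hs (SemidirectProduct.inr ⟨x, hx⟩)
            ⟨⟨x, hx⟩, rfl⟩
          change ι (x s) = ι s
          rw [← hact ⟨x, hx⟩, h2, mul_inv_cancel_right]
        exact ⟨s, (hfix u hu).trans (hfix w hw).symm, rfl⟩
    refine MulEquiv.ext fun s => ?_
    obtain ⟨s', hs', he⟩ := hK ⟨s, rfl⟩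
    rw [← SemidirectProduct.inl_injective he]
    exact hs'
  have hpow : ∀ u ∈ H, ∃ j : ℕ, u c0 = c0 ^ j := by
    intro u hu
    have h1 : ι (u c0) ∈ C := by rw [← hact ⟨u, hu⟩]; exact hCA _ ⟨_, rfl⟩ _ hc
    obtain ⟨j, hj⟩ := Subgroup.mem_zpowers_iff.mp (hcgen ⟨_, h1⟩)
    have h2 : u c0 ∈ Subgroup.zpowers c0 := ⟨j, SemidirectProduct.inl_injective (φ := H.subtype) (by
      change ι (c0 ^ j) = ι (u c0)
      rw [map_zpow]; exact congrArg Subtype.val hj)⟩
    rw [← (isOfFinOrder_of_finite c0).mem_powers_iff_mem_zpowers] at h2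
    exact ⟨h2.choose, h2.choose_spec.symm⟩
  refine ⟨⟨⟨fun u w => Subtype.ext ?_⟩⟩, fun u hu => ?_⟩
  · obtain ⟨i, hi⟩ := hpow u u.2
    obtain ⟨j, hj⟩ := hpow w w.2
    refine hext _ _ (mul_mem u.2 w.2) (mul_mem w.2 u.2) ?_
    rw [Subgroup.coe_mul, Subgroup.coe_mul, MulAut.mul_apply, MulAut.mul_apply, hi, hj, map_pow, map_pow, hi, hj, ← pow_mul, ← pow_mul,
      mul_comm]
  · obtain ⟨i, hi⟩ := hpow u hu
    have hit : ∀ k : ℕ, (u ^ k) c0 = c0 ^ i ^ k := by
      intro k
      induction k with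
      | zero => simp
      | succ k ih => rw [pow_succ', MulAut.mul_apply, ih, map_pow, hi, ← pow_mul, ← pow_succ']
    obtain ⟨m, hm'⟩ := hS c0
    obtain ⟨l, -, hl⟩ := (Nat.dvd_prime_pow (Fact.out : p.Prime)).mp (orderOf_dvd_of_pow_eq_one hm')
    rcases Nat.eq_zero_or_pos l with rfl | hlpos
    · rw [pow_zero, orderOf_eq_one_iff] at hl
      exact hext _ _ (pow_mem hu _) (one_mem H) (by rw [hl, map_one, map_one])
    have hco : Nat.Coprime i (p ^ l) := by
      refine Nat.Coprime.pow_right _ ((Fact.out : p.Prime).coprime_iff_not_dvd.mpr ?_).symm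
      rintro ⟨d, rfl⟩
      have h1 : orderOf (u c0) = p ^ l :=
        hl ▸ orderOf_injective u.toMonoidHom u.injective c0
      have h2 : (u c0) ^ p ^ (l - 1) = 1 := by
        rw [hi, ← pow_mul, show p * d * p ^ (l - 1) = p ^ l * d by
          conv_rhs => rw [show l = l - 1 + 1 by omega, pow_succ]
          ring, pow_mul, ← hl, pow_orderOf_eq_one, one_pow]
      have h3 := Nat.le_of_dvd (pow_pos (Fact.out : p.Prime).pos _) (h1 ▸ orderOf_dvd_of_pow_eq_one h2)
      exact absurd h3 (not_le.mpr (Nat.pow_lt_pow_right (Fact.out : p.Prime).one_lt (by omega)))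
    have hfix : u ^ (p ^ (l - 1) * (p - 1)) = 1 := by
      refine hext _ _ (pow_mem hu _) (one_mem H) ?_
      rw [hit, MulAut.one_apply]
      nth_rw 2 [← pow_one c0]
      rw [pow_inj_mod, hl, ← Nat.totient_prime_pow (Fact.out : p.Prime) hlpos]
      exact Nat.ModEq.pow_totient hco
    have hord : orderOf u ∣ p - 1 := by
      refine ((Nat.Coprime.pow_right (l - 1) ?_)).dvd_of_dvd_mul_left (orderOf_dvd_of_pow_eq_one hfix)
      refine hH.coprime_dvd_left ?_
      rw [← Subgroup.orderOf_mk u hu]; exact orderOf_dvd_natCard _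
    exact orderOf_dvd_iff_pow_eq_one.mp hord

/-- Let S be a finite metacyclic p-group (an extension of a cyclic group by a cyclic group). Every saturated fusion system over S is supersoluble (S has a chain of F-strongly closed subgroups from 1 to S with cyclic steps) if and only if S is not homocyclic of rank two (isomorphic to Z/p^n × Z/p^n with n ≥ 1) and, when p = 2, S is not dihedral of order at least 4, not quasi-dihedral (semidihedral) and not generalized quaternion of order at least 8. -/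
theorem result {Ω : Type*} [Group Ω] {S : Subgroup Ω} [Finite S] (p : ℕ) [Fact p.Prime] (hS : IsPGroup p ↥S) (hm : Cfsg.IsMetacyclic ↥S) : (∀ F : Cfsg.FusionSystem S, F.IsSaturated p → (∃ (m : ℕ) (c : Fin (m + 1) → Subgroup Ω), c 0 = ⊥ ∧ c (Fin.last m) = S ∧ (∀ i : Fin (m + 1), F.StronglyClosed (c i)) ∧ ∀ i : Fin m, c i.castSucc ≤ c i.succ ∧ ∃ x ∈ S, c i.succ = c i.castSucc ⊔ Subgroup.zpowers x)) ↔ ¬ ((∃ n : ℕ, 0 < n ∧ Nonempty (↥S ≃* Multiplicative (ZMod (p ^ n)) × Multiplicative (ZMod (p ^ n)))) ∨ (p = 2 ∧ ((∃ n : ℕ, 2 ≤ n ∧ Nonempty (↥S ≃* DihedralGroup n)) ∨ Cfsg.IsQuasiDihedral ↥S ∨ (∃ n : ℕ, 2 ≤ n ∧ Nonempty (↥S ≃* QuaternionGroup n))))) := by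
  constructor
  · rintro h (⟨n, hn, ⟨e⟩⟩ | ⟨rfl, hx⟩)
    · letI : CommGroup ↥S :=
        { (inferInstance : Group ↥S) with
          mul_comm := fun a b => e.injective (by rw [map_mul, map_mul, mul_comm]) }
      exact exists_bad_aut (p := p) hn (H := PUnit.{1}) (e.trans
        (MulEquiv.prodUnique (M := Multiplicative (ZMod (p ^ n)) × Multiplicative (ZMod (p ^ n)))
          (N := PUnit.{1})).symm) fun X hX => coprime_aut_of_forall hS h X hX
    · rcases hx with ⟨n, hn, ⟨e⟩⟩ | hq | ⟨n, hn, ⟨e⟩⟩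
      · exact not_dihedral hS h hn e
      · exact not_quasiDihedral hS h hq
      · exact not_quaternion hS h hn e
  · intro hne F hF
    push Not at hne
    obtain ⟨hne1, hne2⟩ := hne
    have hSS : F.StronglyClosed S := ⟨le_rfl, fun R _ φ hφ x => (F.le_of_mem hφ).2 x⟩
    by_cases hab : IsMulCommutative S
    · letI : CommGroup ↥S :=
        { (inferInstance : Group ↥S) with mul_comm := fun a b => hab.is_comm.comm a b }
      have hn := Fusion.isNormal_of_abelian hS hF hSS fun x hx y hy =>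
        congrArg Subtype.val (hab.is_comm.comm ⟨x, hx⟩ ⟨y, hy⟩)
      refine supersoluble_of_normal hS F hF hn fun H hH => coprime_aut_abelian hS ?_ H hH
      rintro ⟨n, K, hK, hn0, ⟨e⟩⟩
      letI := hK
      haveI := no_third_factor hm hn0 hS e
      haveI : Unique K := uniqueOfSubsingleton 1
      exact (hne1 n hn0).false (e.trans MulEquiv.prodUnique)
    · rcases eq_or_ne p 2 with rfl | hp
      · obtain ⟨hd, hsd, hq⟩ := hne2 rfl
        have hcomm : ∀ {U : Type} [CommGroup U], IsEmpty (S ≃* U) := fun {U} _ =>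
          ⟨fun e => hab ⟨⟨fun a b => e.injective (by rw [map_mul, map_mul, mul_comm])⟩⟩⟩
        have hd' : ¬ ∃ m : ℕ, Nonempty (↥S ≃* DihedralGroup m) := by
          rintro ⟨m, ⟨e⟩⟩
          rcases lt_or_ge m 2 with hm2 | hm2
          · interval_cases m
            · exact Infinite.not_finite (Finite.of_equiv S e.toEquiv)
            · exact hab ⟨⟨fun a b => e.injective (by
                rw [map_mul, map_mul]; generalize e a = u; generalize e b = v
                revert u v; decide)⟩⟩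
          · exact (hd m hm2).false e
        have hq' : ¬ ∃ m : ℕ, Nonempty (↥S ≃* QuaternionGroup m) := by
          rintro ⟨m, ⟨e⟩⟩
          rcases lt_or_ge m 2 with hm2 | hm2
          · interval_cases m
            · haveI : Finite (QuaternionGroup 0) := Finite.of_equiv S e.toEquiv
              haveI : Finite (ZMod (2 * 0)) := Finite.of_injective (QuaternionGroup.a (n := 0))
                fun a b h => by injection h
              exact not_finite (ZMod 0)
            · exact hab ⟨⟨fun a b => e.injective (by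
                rw [map_mul, map_mul]; generalize e a = u; generalize e b = v
                revert u v; decide)⟩⟩
          · exact (hq m hm2).false e
        have hn := S5235.result 2 hS F hF S hSS rfl hm hd' hq' hsd
        have hA : IsPGroup 2 (MulAut S) := by
          by_contra hA
          rcases S1896.result hS hm hA with ⟨⟨e⟩⟩ | ⟨n, ⟨e⟩⟩
          · exact hq' ⟨2, ⟨e⟩⟩
          · exact hcomm.false e
        haveI := Fusion.finite_mulAut S
        refine supersoluble_of_normal hS F hF hn fun H hH => ?_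
        have hH1 : H = ⊥ := Subgroup.eq_bot_of_card_eq _ (by
          obtain ⟨k, hk⟩ := (hA.to_subgroup H).exists_card_eq
          rw [hk] at hH ⊢
          rcases k with - | k
          · rfl
          · exact absurd hH (fun hc => absurd (Nat.Coprime.eq_one_of_dvd hc.symm (dvd_pow_self 2 (by omega))) (by norm_num)))
        · subst hH1
          exact ⟨inferInstance, fun h hh => by rw [Subgroup.mem_bot.mp hh, one_pow]⟩
      · exact supersoluble_of_normal hS F hF (S5234.result p hS F hF S hSS hp hm) fun H hH =>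
          coprime_aut_odd hp hS hm hab H hH

end Cfsg.Agent.S5287
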