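import Cfsg.Statements.S5291
import Cfsg.Agent.Fus93.Frattini
import Cfsg.Agent.Fusion91.Core

set_option autoImplicit false
open Cfsg

namespace Cfsg.Agent.S5291

/-- Let F be a saturated fusion system over a finite p-group S and E a weakly normal subsystem of F over a subgroup T. Suppose a subgroup R of T is normal in E (E = N_E(R)), and let R* be the subgroup of T generated by the images of R under all maps of F with source R. Then R* is normal in F (F = N_F(R*)). -/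
theorem result {Ω : Type*} [Group Ω] {S : Subgroup Ω} [Finite S] (p : ℕ) [Fact p.Prime] (hS : IsPGroup p S)
    (F : Cfsg.FusionSystem S) (hF : F.IsSaturated p)
    {T : Subgroup Ω} (E : Cfsg.FusionSystem T) (hE : E.IsWeaklyNormalIn F p)
    (R : Subgroup Ω) (hR : E.IsNormal R) :
    F.IsNormal (Subgroup.closure {x : Ω | ∃ φ ∈ F.Hom R, ∃ r : R, x = φ r}) := by
  obtain ⟨hEs, -, hinv⟩ := hE
  have hRT : R ≤ T := hR.1
  obtain ⟨hTS, hTc⟩ := Fusion.stronglyClosed_iff.mp hinv.2.1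
  haveI : Finite T := Fusion.finite_of_le hTS
  set X : Subgroup Ω := Subgroup.closure {x : Ω | ∃ φ ∈ F.Hom R, ∃ r : R, x = φ r}
  have hXT : X ≤ T := (Subgroup.closure_le _).mpr fun x ⟨φ, hφ, r, hx⟩ => hx ▸
    Fusion.extFun_coe φ r ▸ hTc R _ (Fusion.isMap_extFun hφ) r r.2 (hRT r.2)
  -- `X` is invariant under `Aut_F(T)`
  have hXα : ∀ α ∈ F.autGroup T, ∀ x ∈ X, Fusion.autFun α x ∈ X := by
    intro α hα
    have hle : X ≤ ((X.subgroupOf T).comap α.toMonoidHom).map T.subtype := by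
      refine (Subgroup.closure_le _).mpr fun x ⟨φ, hφ, r, hx⟩ => ?_
      have hxT : x ∈ T := hXT (Subgroup.subset_closure ⟨φ, hφ, r, hx⟩)
      refine ⟨⟨x, hxT⟩, ?_, rfl⟩
      show ((α ⟨x, hxT⟩ : T) : Ω) ∈ X
      obtain ⟨φ', hφ', he⟩ := (Fusion.isMap_extFun hφ).comp ((Fusion.mem_autGroup hTS).mp hα).1
        fun y hy => hTc R _ (Fusion.isMap_extFun hφ) y hy (hRT hy)
      refine Subgroup.subset_closure ⟨φ', hφ', r, ?_⟩
      rw [he, Function.comp_apply, Fusion.extFun_coe, ← hx, Fusion.autFun_of_mem α hxT]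
    intro x hx
    obtain ⟨z, hz, rfl⟩ := hle hx
    exact Fusion.autFun_coe α z ▸ hz
  -- maps of `E` inside `X` are restrictions of automorphisms of `X`
  have hEX : ∀ P f, Fusion.IsMap E P f → P ≤ X → ∃ f', Fusion.IsIso E X X f' ∧ Set.EqOn f' f P := by
    let N : ∀ α ∈ F.autGroup T, E.IsNormal ((R.subgroupOf T).map (T.subtype.comp α.toMonoidHom)) := by
      intro α hα
      have hαe : ∀ x ∈ R, Fusion.autFun α x ∈ (R.subgroupOf T).map (T.subtype.comp α.toMonoidHom) :=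
        fun x hx => ⟨⟨x, hRT hx⟩, hx, (Fusion.autFun_of_mem α (hRT hx)).symm⟩
      refine Fusion.isNormal_iff.mpr ⟨by rintro _ ⟨z, -, rfl⟩; exact (α z).2, fun P f hf => ?_⟩
      obtain ⟨P', g, hP', hP's, hg, hge⟩ := Fus93.transport_isMap hinv hf (inv_mem hα)
      obtain ⟨g', hg', hge', hgiso⟩ := Fus93.normal_frattini hR hg
      obtain ⟨M, h, hM, hMs, hh, hhe⟩ := Fus93.transport_isMap hinv hg' hα
      have hinvapp : ∀ x ∈ T, Fusion.autFun α (Fusion.autFun α⁻¹ x) = x := fun x hx => by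
        have := Fusion.autFun_mul α α⁻¹ hx
        rw [mul_inv_cancel, Fusion.autFun_one hx] at this
        exact this.symm
      have hPM : P ≤ M := fun x hx => by
        have := hM _ (Subgroup.mem_sup_left (hP' x hx))
        rwa [hinvapp x (hf.dom_le hx)] at this
      have hRM : (R.subgroupOf T).map (T.subtype.comp α.toMonoidHom) ≤ M := by
        rintro _ ⟨z, hz, rfl⟩
        have := hM _ (Subgroup.mem_sup_right hz)
        rwa [Subgroup.coe_subtype, Fusion.autFun_coe] at this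
      refine ⟨h, hh.mono (sup_le hPM hRM), fun x hx => ?_, ?_⟩
      · have h1 := hhe _ (Subgroup.mem_sup_left (hP' x hx))
        rw [hinvapp x (hf.dom_le hx), hge' (hP' x hx), hge x hx, hinvapp _ (hf.apply_mem hx)] at h1
        exact h1
      · refine Set.Subset.antisymm ?_ fun y hy => ?_
        · rintro _ ⟨_, ⟨z, hz, rfl⟩, rfl⟩
          have h1 := hhe _ (Subgroup.mem_sup_right hz)
          rw [Subgroup.coe_subtype, Fusion.autFun_coe] at h1
          exact Eq.mpr (congrArg (· ∈ _) h1) (hαe _ (hgiso.mem hz))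
        · obtain ⟨z, hz, rfl⟩ := hy
          obtain ⟨w, hw, hwz⟩ := hgiso.exists_preimage (show (z : Ω) ∈ R from hz)
          refine ⟨Fusion.autFun α w, hαe w hw, ?_⟩
          rw [hhe _ (Subgroup.mem_sup_right hw), hwz, Fusion.autFun_coe]
          rfl
    let 𝒬 : Set (Subgroup Ω) :=
      {Q | ∃ α ∈ F.autGroup T, Q = (R.subgroupOf T).map (T.subtype.comp α.toMonoidHom)}
    have hfin : 𝒬.Finite := (Cfsg.Agent.Fusion91.finite_subgroups_le (S := T)).subset
      fun Q ⟨α, hα, hQ⟩ => hQ ▸ (N α hα).1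
    have hsup : E.IsNormal (sSup 𝒬) := by
      have hgen : ∀ s : Set (Subgroup Ω), s.Finite → s ⊆ 𝒬 → E.IsNormal (sSup s) := by
        intro s hs
        induction s, hs using Set.Finite.induction_on with
        | empty => intro _; rw [sSup_empty]; exact Cfsg.Agent.Fusion91.isNormal_bot E
        | @insert Q t _ _ ih =>
          intro hsub
          rw [sSup_insert]
          obtain ⟨α, hα, hQ⟩ := hsub (Set.mem_insert _ _)
          exact Cfsg.Agent.Fusion91.IsNormal.sup E (hQ ▸ N α hα)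
            (ih ((Set.subset_insert _ _).trans hsub))
      exact hgen 𝒬 hfin subset_rfl
    have hX : sSup 𝒬 = X := by
      refine le_antisymm (sSup_le ?_) ((Subgroup.closure_le _).mpr ?_)
      · rintro _ ⟨α, hα, rfl⟩ _ ⟨z, hz, rfl⟩
        have h1 := hXα α hα z (Subgroup.subset_closure
          ⟨R.subtype, Fusion.subtype_mem (hRT.trans hTS), ⟨z, hz⟩, rfl⟩)
        show ((α z : T) : Ω) ∈ X
        rw [← Fusion.autFun_coe]
        exact h1
      · rintro _ ⟨φ, hφ, r, rfl⟩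
        obtain ⟨α, hα, φ₀, hφ₀, he⟩ := hinv.2.2.2 R hRT φ hφ
        obtain ⟨f', -, hf', hiso⟩ := Fus93.normal_frattini hR (Fusion.isMap_extFun hφ₀)
        have hm : φ₀ r ∈ R := by rw [← Fusion.extFun_coe φ₀ r, ← hf' r.2]; exact hiso.mem r.2
        rw [SetLike.mem_coe, he r (hRT hm)]
        exact le_sSup (s := 𝒬) ⟨α, hα, rfl⟩ ⟨⟨φ₀ r, hRT hm⟩, hm, rfl⟩
    intro P f hf _
    obtain ⟨f', -, he, hiso⟩ := Fus93.normal_frattini (hX ▸ hsup) hf
    exact ⟨f', hiso, he⟩
  refine Fus93.isNormal_of_frattini hS hF ?_ fun P f hf hPX => ?_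
  · refine Fusion.stronglyClosed_iff.mpr ⟨hXT.trans hTS, fun P f hf x hxP hxX => ?_⟩
    obtain ⟨φ, hφ, hφf⟩ := hf.mono (inf_le_left : P ⊓ X ≤ P)
    obtain ⟨α, hα, φ₀, hφ₀, he⟩ := hinv.2.2.2 (P ⊓ X) (inf_le_right.trans hXT) φ hφ
    obtain ⟨f', hiso, hf'⟩ := hEX _ _ (Fusion.isMap_extFun hφ₀) inf_le_right
    have hm : φ₀ ⟨x, hxP, hxX⟩ ∈ X := by
      rw [← Fusion.extFun_of_mem φ₀ ⟨hxP, hxX⟩, ← hf' (show x ∈ P ⊓ X from ⟨hxP, hxX⟩)]
      exact hiso.mem hxX
    rw [← hφf ⟨x, hxP, hxX⟩, he ⟨x, hxP, hxX⟩ (hXT hm), ← Fusion.autFun_of_mem α (hXT hm)]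
    exact hXα α hα _ hm
  · obtain ⟨φ, hφ, hφf⟩ := hf
    obtain ⟨α, hα, φ₀, hφ₀, he⟩ := hinv.2.2.2 P (hPX.trans hXT) φ hφ
    obtain ⟨f', hiso, hf'⟩ := hEX _ _ (Fusion.isMap_extFun hφ₀) hPX
    haveI : Finite X := Fusion.finite_of_le (hXT.trans hTS)
    let αX : MulAut X := MulEquiv.ofBijective
      (((T.subtype.comp α.toMonoidHom).comp (Subgroup.inclusion hXT)).codRestrict X fun z =>
        (by
          show ((α ⟨z, hXT z.2⟩ : T) : Ω) ∈ X
          rw [← Fusion.autFun_of_mem α (hXT z.2)]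
          exact hXα α hα z z.2))
      (Finite.injective_iff_bijective.mp fun a b hab => Subtype.ext
        (congrArg (fun x : T => (x : Ω))
          (α.injective (Subtype.ext (congrArg (fun x : X => (x : Ω)) hab)) :
            Subgroup.inclusion hXT a = Subgroup.inclusion hXT b)))
    refine ⟨αX * hiso.equiv, fun x hx => ?_⟩
    have hm : φ₀ ⟨x, hx⟩ ∈ X := by
      rw [← Fusion.extFun_of_mem φ₀ hx, ← hf' hx]; exact hiso.mem (hPX hx)
    rw [← hφf ⟨x, hx⟩, he ⟨x, hx⟩ (hXT hm), Fusion.autFun_of_mem _ (hPX hx)]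
    show _ = ((α ⟨((hiso.equiv ⟨x, hPX hx⟩ : X) : Ω), _⟩ : T) : Ω)
    congr 2
    apply Subtype.ext
    show φ₀ ⟨x, hx⟩ = _
    rw [hiso.equiv_apply ⟨x, hPX hx⟩, hf' hx, Fusion.extFun_of_mem φ₀ hx]


end Cfsg.Agent.S5291
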