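import Cfsg.Statements.S5292
import Cfsg.Agent.Lib.Fusion.Constrained
import Cfsg.Agent.Fusion92.Radical
import Cfsg.Agent.Lib.Thompson.PSolvable
import Cfsg.Agent.Fusion91.Core
import Cfsg.Agent.Fusion91.QuotientFusion
import Cfsg.Agent.Fus93.CentricExt
set_option autoImplicit false
universe u
open Cfsg

namespace Cfsg.Agent.S5292

theorem core_normal_centric {Ω : Type u} [Group Ω] {S : Subgroup Ω} [Finite S] {p : ℕ} {F : Cfsg.FusionSystem S}
    (hcon : F.IsConstrained p) : F.IsNormal F.core ∧ F.IsCentric F.core := by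
  obtain ⟨-, Q, hQn, hQc⟩ := hcon
  have hn := Fusion91.isNormal_core F
  exact ⟨hn, Fus93.isCentric_of_le hQc (Fusion91.le_core hQn) hn.1⟩

/-- A system with a model is constrained. -/
theorem constrained_of_model {Ω : Type u} [Group Ω] {S : Subgroup Ω} [Finite S] {p : ℕ} [Fact p.Prime]
    (hS : IsPGroup p S) {F : Cfsg.FusionSystem S} (hF : F.IsSaturated p) {G : Type*} [Group G] {ι : ↥S →* G}
    (hM : F.IsModel p G ι) : F.IsConstrained p := by
  classical
  obtain ⟨hfin, ⟨hinj, hreal⟩, ⟨T, hT⟩, hcore⟩ := hM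
  haveI := hfin
  haveI : (Cfsg.pCore p G).Normal := Thompson.sSup_normal fun N hN => hN.1
  have hle : Cfsg.pCore p G ≤ ι.range := hT ▸ Thompson.pCore_le_sylow T
  set Q := ((Cfsg.pCore p G).comap ι).map S.subtype
  have hQS : Q ≤ S := Subgroup.map_subtype_le _
  have hmem : ∀ (x : Ω) (hx : x ∈ S), x ∈ Q ↔ ι ⟨x, hx⟩ ∈ Cfsg.pCore p G := fun x hx =>
    ⟨fun ⟨z, hz, hze⟩ => (show z = ⟨x, hx⟩ from Subtype.ext hze) ▸ hz, fun h => ⟨⟨x, hx⟩, h, rfl⟩⟩
  -- conjugation by `g` on a subgroup containing `Q`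
  have hn : F.IsNormal Q := by
    refine Fusion.isNormal_iff.mpr ⟨hQS, fun P f hf => ?_⟩
    obtain ⟨φ, hφ, hφf⟩ := hf
    obtain ⟨hP, hφS⟩ := F.le_of_mem hφ
    obtain ⟨g, hg⟩ := (hreal P hP φ hφS).mp hφ
    set M := P ⊔ Q
    have hM : M ≤ S := sup_le hP hQS
    have hgq : ∀ (x : Ω) (hx : x ∈ Q), g * ι ⟨x, hQS hx⟩ * g⁻¹ ∈ Cfsg.pCore p G := fun x hx =>
      Subgroup.Normal.conj_mem inferInstance _ ((hmem x (hQS hx)).mp hx) g
    have hsub : M ≤ ((ι.range).comap ((MulAut.conj g).toMonoidHom.comp ι)).map S.subtype := by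
      refine sup_le (fun x hx => ⟨⟨x, hP hx⟩, ?_, rfl⟩) fun x hx => ⟨⟨x, hQS hx⟩, hle (hgq x hx), rfl⟩
      exact ⟨_, hg ⟨x, hx⟩⟩
    have hex : ∀ x : M, ∃ s : S, ι s = g * ι ⟨x, hM x.2⟩ * g⁻¹ := fun x => by
      obtain ⟨z, hz, hze⟩ := hsub x.2
      obtain rfl : z = ⟨x, hM x.2⟩ := Subtype.ext hze
      exact hz
    choose ψ₀ hψ₀ using hex
    let ψ : M →* Ω := MonoidHom.mk' (fun x => ((ψ₀ x : S) : Ω)) fun x y => by
      rw [← Subgroup.coe_mul]
      congr 1
      refine hinj ?_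
      rw [map_mul, hψ₀, hψ₀, hψ₀, show (⟨((x * y : M) : Ω), hM (x * y).2⟩ : S) = ⟨x, hM x.2⟩ * ⟨y, hM y.2⟩ from rfl,
        map_mul]
      group
    have hψm : ψ ∈ F.Hom M := (hreal M hM ψ fun x => (ψ₀ x).2).mpr ⟨g, hψ₀⟩
    refine ⟨Fusion.extFun ψ, Fusion.isMap_extFun hψm, fun x hx => ?_, ?_⟩
    · rw [Fusion.extFun_of_mem ψ (Subgroup.mem_sup_left hx), ← hφf ⟨x, hx⟩]
      exact congrArg Subtype.val (hinj ((hψ₀ ⟨x, Subgroup.mem_sup_left hx⟩).trans (hg ⟨x, hx⟩).symm))
    · refine Set.Subset.antisymm ?_ fun y hy => ?_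
      · rintro _ ⟨x, hx, rfl⟩
        rw [Fusion.extFun_of_mem ψ (Subgroup.mem_sup_right hx)]
        refine (hmem _ (ψ₀ _).2).mpr ?_
        rw [Subtype.coe_eta, hψ₀]
        exact hgq x hx
      · exact Fusion.surjOn_of_card_le hQS
          ((Fusion.isMap_extFun hψm).injOn.mono fun x hx => Subgroup.mem_sup_right hx)
          (fun x hx => by
            rw [Fusion.extFun_of_mem ψ (Subgroup.mem_sup_right hx)]
            refine (hmem _ (ψ₀ _).2).mpr ?_
            rw [Subtype.coe_eta, hψ₀]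
            exact hgq x hx) le_rfl y hy
  refine ⟨hF, Q, hn, hQS, fun R hR => ?_⟩
  obtain ⟨f, hf⟩ := Fusion.isConj_iff.mp hR
  obtain ⟨f', -, he, hQ'⟩ := (Fusion.isNormal_iff.mp hn).2 Q f hf.1
  obtain rfl : R = Q := SetLike.coe_injective (hf.2.symm.trans ((Set.image_congr fun x hx => (he hx).symm).trans hQ'))
  intro x hx
  refine (hmem x hx.1).mpr (hcore (Subgroup.mem_centralizer_iff.mpr fun y hy => ?_))
  obtain ⟨z, rfl⟩ := hle hy
  have hz : (z : Ω) ∈ Q := (hmem z z.2).mpr hy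
  rw [← map_mul, ← map_mul]
  exact congrArg ι (Subtype.ext (Subgroup.mem_centralizer_iff.mp hx.2 z hz))

/-- Let F be a saturated fusion system over a finite p-group S. Then F is the fusion system of some finite p-solvable group on a Sylow p-subgroup if and only if F is constrained (some subgroup normal in F is centric in F) and the group of automorphisms that F induces on its largest normal subgroup O_p(F) is p-solvable. -/
theorem result {Ω : Type u} [Group Ω] {S : Subgroup Ω} [Finite S] (p : ℕ) [Fact p.Prime] (hS : IsPGroup p S)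
    (F : Cfsg.FusionSystem S) (hF : F.IsSaturated p) :
    (∃ (G : Type u) (_ : Group G) (_ : Finite G) (ι : S →* G), Cfsg.IsPSolvable p G ∧ F.IsRealizedBy ι ∧
        ∃ T : Sylow p G, (T : Subgroup G) = ι.range) ↔
      (F.IsConstrained p ∧ Cfsg.IsPSolvable p ↥(F.autGroup F.core)) := by
  constructor
  · rintro ⟨G, _, _, ι, hG, hι, T, hT⟩
    haveI : (Cfsg.pPrimeCore p G).Normal := Thompson.sSup_normal fun N hN => hN.1
    set K := Cfsg.pPrimeCore p G
    have hTK : ∀ s : S, ι s ∈ K → s = 1 := by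
      intro s hs
      have : ι s ∈ (T : Subgroup G) ⊓ K := ⟨hT ▸ ⟨s, rfl⟩, hs⟩
      rw [Thompson.inf_eq_bot_of_isPGroup_of_coprime T.isPGroup' Thompson.card_pPrimeCore_coprime,
        Subgroup.mem_bot] at this
      exact hι.1 (this.trans ι.map_one.symm)
    set ι' := (QuotientGroup.mk' K).comp ι
    have hι' : F.IsRealizedBy ι' := by
      refine ⟨fun s t hst => ?_, fun P hP φ hφ => ?_⟩
      · have h := hTK (s⁻¹ * t) (by rw [map_mul, map_inv]; exact QuotientGroup.eq.mp hst)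
        exact inv_mul_eq_one.mp h
      rw [hι.2 P hP φ hφ]
      constructor
      · rintro ⟨g, hg⟩
        exact ⟨g, fun x => by simp [ι', hg x]⟩
      · rintro ⟨γ, hγ⟩
        obtain ⟨g, hg⟩ := Fusion91.exists_lift_conj T K ((P.subgroupOf S).map ι)
          (hT ▸ Subgroup.map_le_range _ _) γ (by
            rintro _ ⟨z, hz, rfl⟩
            refine ⟨ι ⟨φ ⟨z, hz⟩, hφ _⟩, hT ▸ ⟨_, rfl⟩, ?_⟩
            exact hγ ⟨z, hz⟩)
        refine ⟨g, fun x => ?_⟩
        have hx := hg (ι ⟨x, hP x.2⟩) ⟨⟨x, hP x.2⟩, x.2, rfl⟩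
        have h1 := hx.1
        rw [hT] at h1
        obtain ⟨s, hs⟩ := h1
        rw [← hs]
        refine congrArg ι (inv_mul_eq_one.mp (hTK _ ?_))
        rw [map_mul, map_inv]
        refine QuotientGroup.eq.mp ?_
        rw [hs, hx.2]
        exact hγ x
    have hG' : Cfsg.IsPSolvable p (G ⧸ K) := Thompson.isPSolvable_quotient K hG
    have hcore := Thompson.centralizer_pCore_le hG' (Thompson.pPrimeCore_quotient_pPrimeCore)
    have hsyl : ∃ T' : Sylow p (G ⧸ K), (T' : Subgroup (G ⧸ K)) = ι'.range :=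
      ⟨T.mapSurjective (QuotientGroup.mk'_surjective K), by rw [Sylow.coe_mapSurjective, hT, MonoidHom.range_comp]⟩
    have hcon : F.IsConstrained p := constrained_of_model hS hF ⟨inferInstance, hι', hsyl, hcore⟩
    refine ⟨hcon, ?_⟩
    obtain ⟨hn, hc⟩ := core_normal_centric hcon
    have hloc := Fusion.model_isLocal hS hF hn hc (G := G ⧸ K) ⟨inferInstance, hι', hsyl, hcore⟩
    rw [← hloc.range_actHom]
    exact Thompson.isPSolvable_of_surjective _ hloc.shape.actHom.rangeRestrict_surjective hG'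
  · rintro ⟨hcon, hsol⟩
    obtain ⟨G, _, ι, hG⟩ := Fusion.exists_model hS hcon
    obtain ⟨hn, hc⟩ := core_normal_centric hcon
    have hloc := Fusion.model_isLocal hS hF hn hc hG
    haveI := hG.1
    rw [← hloc.range_actHom] at hsol
    have hker : IsPGroup p hloc.shape.actHom.ker := (hloc.isPGroup_map hS).to_le hloc.shape.actHom_ker_le
    exact ⟨G, inferInstance, hG.1, ι, Thompson.isPSolvable_of_quotient _ (Or.inl hker)
      (Thompson.isPSolvable_of_equiv (QuotientGroup.quotientKerEquivRange hloc.shape.actHom).symm hsol),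
      hG.2.1, hG.2.2.1⟩

end Cfsg.Agent.S5292
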