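import Cfsg.Statements.S5293
import Cfsg.Agent.Fus93.NormalFocal

set_option autoImplicit false
open Cfsg

namespace Cfsg.Agent.S5293

/-- Let F be a saturated fusion system over a finite p-group S, E a normal subsystem of F over T ≤ S, and C the join of the subgroups X ≤ C_S(T) such that E is contained in the centralizer system C_F(X). Then for the centralizer fusion system C_F(T) over C_S(T), the focal subgroup of C_F(T) is contained in C. -/
theorem result {Ω : Type*} [Group Ω] {S : Subgroup Ω} [Finite S] (p : ℕ) [Fact p.Prime] (hS : IsPGroup p S)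
    (F : Cfsg.FusionSystem S) (hF : F.IsSaturated p)
    {T : Subgroup Ω} (E : Cfsg.FusionSystem T) (hE : E.IsNormalIn F p)
    (C : Subgroup Ω)
    (hC : C = sSup {X : Subgroup Ω | X ≤ Cfsg.FusionSystem.centralizerIn S T ∧ ∀ P : Subgroup Ω, E.Hom P ⊆ F.centralizerHom X P})
    (D : Cfsg.FusionSystem (Cfsg.FusionSystem.centralizerIn S T)) (hD : F.IsCentralizerSystem T D) :
    D.focalSubgroup ≤ C := by
  have h : Fusion.NormalLift.NData F E p := ⟨hS, hF, hE⟩
  have hD0 : Subgroup.closure (Fus93.NormalFocal.focGen F T) ≤ Cfsg.FusionSystem.centralizerIn S T :=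
    (Subgroup.closure_le _).mpr fun u hu => Fus93.NormalFocal.focGen_subset h.tS hu
  rw [hC]
  refine le_trans ((Subgroup.closure_le _).mpr ?_) (le_sSup (a := Subgroup.closure (Fus93.NormalFocal.focGen F T)) ?_)
  rotate_left
  · refine ⟨hD0, fun P φ hφ => ?_⟩
    have hm := Fusion.isMap_extFun hφ
    refine (Fusion.mem_centralizerHom fun x => (Fusion.extFun_coe φ x).symm).mpr
      ⟨hm.of_isSubsystemOf h.sub, fun x hx => ⟨h.tS (hm.dom_le hx), ?_⟩,
        fun x hx => ⟨h.tS (hm.apply_mem hx), ?_⟩, Fus93.NormalFocal.extends_all h P _ hm⟩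
    · exact Subgroup.mem_centralizer_iff.mpr fun c hc =>
        (Subgroup.mem_centralizer_iff.mp (hD0 hc).2 x (hm.dom_le hx)).symm
    · exact Subgroup.mem_centralizer_iff.mpr fun c hc =>
        (Subgroup.mem_centralizer_iff.mp (hD0 hc).2 _ (hm.apply_mem hx)).symm
  · rintro y ⟨P, φ, x, hφ, rfl⟩
    obtain ⟨-, hP, -, g, hg, hge, hgT⟩ :=
      (Fusion.IsCentralizerSystem.isMap_iff hD).mp (Fusion.isMap_extFun hφ)
    refine Subgroup.subset_closure ⟨x, hP x.2, g,
      hg.mono (sup_le_sup_right ((Subgroup.zpowers_le).mpr x.2) T), hgT, ?_⟩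
    rw [hge x.2, Fusion.extFun_coe]

end Cfsg.Agent.S5293
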