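import Cfsg.Statements.S5294
import Cfsg.Agent.Lib.Fusion.Saturation
import Cfsg.Agent.Lib.Fusion.Closed
import Cfsg.Agent.Fusion91.Core

set_option autoImplicit false
universe u
open Cfsg

namespace Cfsg.Agent.S5294

/-- Let F be a saturated fusion system over a finite p-group S whose centre Z(S) lies in the largest subgroup O_p(F) normal in F. Then the centre Z(F) of F is a direct factor of Z(S): there is a subgroup K of Z(S) with Z(F) ∩ K = 1 and Z(F)K = Z(S). -/
theorem result {Ω : Type u} [Group Ω] {S : Subgroup Ω} [Finite S] (p : ℕ) [Fact p.Prime] (hS : IsPGroup p S)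
    (F : Cfsg.FusionSystem S) (hF : F.IsSaturated p) (hZ : (S ⊓ Subgroup.centralizer (S : Set Ω)) ≤ F.core) :
    ∃ K : Subgroup Ω, K ≤ (S ⊓ Subgroup.centralizer (S : Set Ω)) ∧ F.center ⊓ K = ⊥ ∧ F.center ⊔ K = (S ⊓ Subgroup.centralizer (S : Set Ω)) := by
  classical
  open scoped IsMulCommutative in
  set Q := F.core with hQdef
  have hQn : F.IsNormal Q := Cfsg.Agent.Fusion91.isNormal_core F
  obtain ⟨hQS, hQext⟩ := Fusion.isNormal_iff.mp hQn
  haveI : Finite Q := Fusion.finite_of_le hQS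
  haveI : Finite (MulAut Q) := Fusion.finite_mulAut Q
  -- `Q` is fully normalized
  have hQconj : ∀ R, F.IsConj Q R → R = Q := by
    intro R hR
    obtain ⟨f, hf⟩ := Fusion.isConj_iff.mp hR
    obtain ⟨f', hf', he, hQ'⟩ := hQext Q f hf.1
    exact SetLike.coe_injective (hf.2.symm.trans ((Set.image_congr he).symm.trans hQ'))
  have hQfn : F.IsFullyNormalized Q := ⟨hQS, fun R hR => by rw [hQconj R hR]⟩
  set A := F.autGroup Q
  set B : Subgroup A := (autInducedBy S Q).subgroupOf A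
  obtain ⟨-, R₀, hR₀⟩ := Fusion.fullyAutomized_of_fullyNormalized hS hF hQfn
  have hk : ¬ p ∣ B.index := by
    have h := R₀.not_dvd_index
    rwa [hR₀] at h
  -- `S` normalizes `Q`
  have hSN : ∀ s ∈ S, ∀ x ∈ Q, s * x * s⁻¹ ∈ Q := by
    intro s hs x hx
    obtain ⟨f', hf', he, hQ'⟩ := hQext S _ (Fusion.isMap_conj (F := F) le_rfl hs)
    have h1 : f' x ∈ (Q : Set Ω) := hQ' ▸ ⟨x, hx, rfl⟩
    rwa [he (hQS hx)] at h1
  set Z : Subgroup Ω := S ⊓ Subgroup.centralizer (S : Set Ω)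
  let inc : Z →* Subgroup.center Q := (Subgroup.inclusion hZ).codRestrict _ fun z =>
    Subgroup.mem_center_iff.mpr fun q => Subtype.ext
      (Subgroup.mem_centralizer_iff.mp z.2.2 q (hQS q.2))
  have hact : ∀ (α : MulAut Q) (c : Subgroup.center Q), α (c : Q) ∈ Subgroup.center Q := fun α c =>
    Subgroup.mem_center_iff.mpr fun q => by
      obtain ⟨q', rfl⟩ := α.surjective q
      rw [← map_mul, ← map_mul, Subgroup.mem_center_iff.mp c.2 q']
  let act : MulAut Q → Subgroup.center Q →* Subgroup.center Q := fun α =>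
    (α.toMonoidHom.comp (Subgroup.center Q).subtype).codRestrict _ (hact α)
  have hB : ∀ (b : A), b ∈ B → ∀ z : Z, act b (inc z) = inc z := by
    intro b hb z
    obtain ⟨g, hg, he⟩ := Fusion.mem_autInducedBy.mp (Subgroup.mem_subgroupOf.mp hb)
    refine Subtype.ext (Subtype.ext ((he _).trans ?_))
    show g * (z : Ω) * g⁻¹ = z
    rw [Subgroup.mem_centralizer_iff.mp z.2.2 g hg, mul_inv_cancel_right]
  haveI : Fintype (A ⧸ B) := Fintype.ofFinite _
  let t : Z →* Subgroup.center Q :=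
    { toFun := fun z => ∏ c : A ⧸ B, act (c.out : A) (inc z)
      map_one' := by simp
      map_mul' := fun a b => by simp [Finset.prod_mul_distrib] }
  have hwell : ∀ (z : Z) (a : A), act ((a : A ⧸ B).out : A) (inc z) = act a (inc z) := by
    intro z a
    have hb : a⁻¹ * (a : A ⧸ B).out ∈ B := QuotientGroup.eq.mp (QuotientGroup.out_eq' _).symm
    have h1 : ((a : A ⧸ B).out : A) = a * (a⁻¹ * (a : A ⧸ B).out) := (mul_inv_cancel_left _ _).symm
    conv_lhs => rw [h1]
    exact congrArg (act a) (hB _ hb z)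
  have htfix : ∀ (a : A) (z : Z), act a (t z) = t z := by
    intro a z
    show act a (∏ c : A ⧸ B, act (c.out : A) (inc z)) = ∏ c : A ⧸ B, act (c.out : A) (inc z)
    rw [map_prod]
    refine Fintype.prod_equiv (MulAction.toPerm a) _ _ fun c => ?_
    obtain ⟨d, rfl⟩ := QuotientGroup.mk_surjective c
    rw [hwell z d, MulAction.toPerm_apply, MulAction.Quotient.smul_coe, hwell z (a • d)]
    rfl
  have hcen : ∀ z : Ω, z ∈ F.center → ∃ hz : z ∈ Z, ∀ a : A, act a (inc ⟨z, hz⟩) = inc ⟨z, hz⟩ := by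
    intro z hz
    obtain ⟨hcS, hc⟩ := Cfsg.Agent.Fusion91.isCentral_center F
    have hzZ : z ∈ Z := ⟨hcS hz, F.center_le_centralizer hz⟩
    refine ⟨hzZ, fun a => ?_⟩
    obtain ⟨ψ, -, h1, h2⟩ := hc Q _ ((Fusion.mem_autGroup_iff_hom hQS).mp a.2)
    exact Subtype.ext (Subtype.ext ((h1 ⟨z, hZ hzZ⟩).symm.trans (h2 ⟨z, hz⟩)))
  have htmem : ∀ z : Z, ((t z : Q) : Ω) ∈ F.center := by
    intro z
    set w : Ω := ((t z : Q) : Ω)
    have hwQ : w ∈ Q := ((t z : Q)).2
    refine le_sSup (s := {R | F.IsCentral R}) ?_ (Subgroup.mem_zpowers w)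
    refine Fusion.isCentral_iff.mpr ⟨Subgroup.zpowers_le.mpr (hQS hwQ), fun P f hf => ?_⟩
    obtain ⟨f', hf', he, hQ'⟩ := hQext P f hf
    obtain ⟨α, hα, hαe⟩ := (show Fusion.IsIso F Q Q f' from ⟨hf'.mono le_sup_right, hQ'⟩).exists_aut
    refine ⟨f', hf'.mono (sup_le_sup le_rfl (Subgroup.zpowers_le.mpr hwQ)), he, fun x hx => ?_⟩
    obtain ⟨m, rfl⟩ := hx
    have hwm : w ^ m = (((t z : Q) ^ m : Q) : Ω) := by simp [w]
    show f' (w ^ m) = w ^ m
    rw [hwm, ← hαe ((t z : Q) ^ m).2, Fusion.autFun_coe, map_zpow]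
    congr 2
    exact congrArg Subtype.val (htfix ⟨α, hα⟩ z)
  have htpow : ∀ z : Z, (∀ a : A, act a (inc z) = inc z) → t z = inc z ^ B.index := by
    intro z hz
    show (∏ c : A ⧸ B, act (c.out : A) (inc z)) = _
    simp only [hz, Finset.prod_const, Finset.card_univ, Subgroup.index, Nat.card_eq_fintype_card]
  have hincinj : ∀ z : Z, inc z = 1 → z = 1 := fun z h =>
    Subtype.ext (congrArg (fun c : Subgroup.center Q => ((c : Q) : Ω)) h : _)
  haveI : Finite Z := Fusion.finite_of_le inf_le_left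
  have hcop : (Nat.card Z).Coprime B.index := by
    obtain ⟨n, hn⟩ := IsPGroup.iff_card.mp
      (hS.of_injective _ (Subgroup.inclusion_injective (inf_le_left : Z ≤ S)))
    rw [hn]
    exact Nat.Coprime.pow_left n ((Fact.out : p.Prime).coprime_iff_not_dvd.mpr hk)
  refine ⟨t.ker.map Z.subtype, Subgroup.map_subtype_le _, ?_, ?_⟩
  · refine (Subgroup.eq_bot_iff_forall _).mpr fun x ⟨hx, z, hz, hzx⟩ => ?_
    subst hzx
    obtain ⟨hz', hfix⟩ := hcen _ hx
    have h1 := htpow z hfix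
    rw [show t z = 1 from hz, ← map_pow] at h1
    have h2 : z ^ B.index = 1 := hincinj _ h1.symm
    have h3 : z = 1 := (powCoprime hcop).injective (by simpa using h2)
    exact congrArg Subtype.val h3
  · refine le_antisymm (sup_le (fun z hz => (hcen z hz).1) (Subgroup.map_subtype_le _)) fun x hx => ?_
    obtain ⟨s, hs⟩ := (powCoprime hcop).surjective ⟨x, hx⟩
    obtain ⟨hwZ, hwfix⟩ := hcen _ (htmem s)
    let w : Z := ⟨((t s : Q) : Ω), hwZ⟩
    have hw : inc w = t s := Subtype.ext (Subtype.ext rfl)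
    have hker : s ^ B.index * w⁻¹ ∈ t.ker := by
      rw [MonoidHom.mem_ker, map_mul, map_pow, map_inv, htpow w hwfix, hw, mul_inv_cancel]
    have hxe : x = (w : Ω) * ((s ^ B.index * w⁻¹ : Z) : Ω) := by
      have h1 : (w : Z) * (s ^ B.index * w⁻¹) = s ^ B.index := by
        have hcomm : s ^ B.index * w⁻¹ = w⁻¹ * s ^ B.index := Subtype.ext
          ((Subgroup.mem_centralizer_iff.mp (w⁻¹).2.2 _ (s ^ B.index).2.1))
        rw [hcomm, mul_inv_cancel_left]
      rw [← Subgroup.coe_mul, h1]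
      exact congrArg Subtype.val hs.symm
    rw [hxe]
    exact Subgroup.mul_mem_sup (htmem s) ⟨_, hker, rfl⟩


end Cfsg.Agent.S5294
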