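import Cfsg.Statements.S5295
import Cfsg.Agent.JFix.FusionCenter
-- import your own Cfsg.Agent.* helpers here

set_option autoImplicit false
universe u
open Cfsg

namespace Cfsg.Agent.S5295

open Cfsg.Agent.Fusion Cfsg.Agent.JFix
open scoped IsMulCommutative

/-- A `p'`-index trace retracts fixed points of a Sylow subgroup onto those of the group. -/
theorem exists_complement {A V : Type u} [Group A] [Finite A] [CommGroup V] [Finite V]
    [MulDistribMulAction A V] {p : ℕ} [Fact p.Prime] (hV : IsPGroup p V) (R : Subgroup A)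
    (hR : ¬ p ∣ R.index) :
    ∃ K : Subgroup V, (∀ v ∈ K, ∀ r ∈ R, r • v = v) ∧ (∀ v ∈ K, (∀ a : A, a • v = v) → v = 1) ∧
      ∀ v : V, (∀ r ∈ R, r • v = v) → ∃ c k, k ∈ K ∧ (∀ a : A, a • c = c) ∧ v = c * k := by
  classical
  haveI := Fintype.ofFinite (A ⧸ R)
  let D : Subgroup V :=
    { carrier := {v | ∀ r ∈ R, r • v = v}
      one_mem' := fun r _ => smul_one r
      mul_mem' := fun {x y} hx hy r hr => by rw [smul_mul', hx r hr, hy r hr]
      inv_mem' := fun {x} hx r hr => by rw [smul_inv', hx r hr] }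
  let τ : D →* V :=
    { toFun := fun d => ∏ q : A ⧸ R, q.out • (d : V)
      map_one' := Finset.prod_eq_one fun q _ => by simp
      map_mul' := fun a b => by
        rw [← Finset.prod_mul_distrib]
        exact Finset.prod_congr rfl fun q _ => by rw [Subgroup.coe_mul, smul_mul'] }
  have hfixed : ∀ (d : D) (a : A), a • τ d = τ d := fun d a => by
    show a • ∏ q : A ⧸ R, q.out • (d : V) = ∏ q : A ⧸ R, q.out • (d : V)
    rw [Finset.smul_prod']
    refine Fintype.prod_equiv (MulAction.toPerm a) _ _ fun q => ?_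
    show a • q.out • (d : V) = (a • q).out • (d : V)
    obtain ⟨r, hr⟩ : ∃ r : R, (a • q).out = a * q.out * r := by
      have h : ((a * q.out : A) : A ⧸ R) = a • q := by
        conv_rhs => rw [← QuotientGroup.out_eq' q]
        rfl
      obtain ⟨r, hr⟩ := QuotientGroup.mk_out_eq_mul R (a * q.out)
      exact ⟨r, by rw [← h, hr]⟩
    rw [hr, mul_smul, mul_smul, d.2 r r.2]
  have hpow : ∀ (d : D), (∀ a : A, a • (d : V) = d) → τ d = (d : V) ^ R.index := fun d hd => by
    show ∏ q : A ⧸ R, q.out • (d : V) = _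
    rw [Finset.prod_congr rfl fun q _ => hd q.out, Finset.prod_const, Finset.card_univ,
      ← Nat.card_eq_fintype_card, Subgroup.index_eq_card]
  refine ⟨τ.ker.map D.subtype, ?_, ?_, fun v hv => ?_⟩
  · rintro _ ⟨d, -, rfl⟩ r hr
    exact d.2 r hr
  · rintro _ ⟨d, hd, rfl⟩ hfix
    have h := hpow d hfix
    rw [MonoidHom.mem_ker.1 hd] at h
    exact (hV.powEquiv' hR).injective (show (d : V) ^ R.index = (1 : V) ^ R.index by rw [one_pow, ← h])
  · obtain ⟨c, hc⟩ := (hV.powEquiv' hR).surjective (τ ⟨v, hv⟩)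
    change c ^ R.index = τ ⟨v, hv⟩ at hc
    have hcA : ∀ a : A, a • c = c := fun a => (hV.powEquiv' hR).injective
      (show (a • c) ^ R.index = c ^ R.index by rw [← smul_pow', hc, hfixed])
    let cd : D := ⟨c, fun r _ => hcA r⟩
    refine ⟨c, c⁻¹ * v, ⟨cd⁻¹ * ⟨v, hv⟩, ?_, rfl⟩, hcA, (mul_inv_cancel_left c v).symm⟩
    rw [SetLike.mem_coe, MonoidHom.mem_ker, map_mul, map_inv, hpow cd hcA, hc, inv_mul_cancel]

theorem center_direct_factor {Ω : Type u} [Group Ω] {S : Subgroup Ω} [Finite S] (p : ℕ) [Fact p.Prime]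
    (hp : p ≠ 2) (hS : IsPGroup p S) (F : Cfsg.FusionSystem S) (hF : F.IsSaturated p) :
    ∃ K : Subgroup Ω, K ≤ (S ⊓ Subgroup.centralizer (S : Set Ω)) ∧ F.center ⊓ K = ⊥ ∧
      F.center ⊔ K = (S ⊓ Subgroup.centralizer (S : Set Ω)) := by
  classical
  set J := Cfsg.thompsonSubgroupAOf S with hJdef
  have hJS : J ≤ S := Subgroup.map_subtype_le _
  haveI : Finite J := finite_of_le hJS
  haveI := finite_mulAut J
  obtain ⟨R, hR⟩ := (fullyAutomized_of_fullyNormalized hS hF (fullyNormalized_J (S := S) F).1).2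
  letI act : MulDistribMulAction (F.autGroup J) (Subgroup.center J) :=
    { smul := fun α v => ⟨(α : MulAut J) v, Subgroup.mem_center_iff.2 fun y => by
        have h := congrArg (α : MulAut J) (Subgroup.mem_center_iff.1 v.2 ((α : MulAut J)⁻¹ y))
        rwa [map_mul, map_mul, MulAut.apply_inv_self] at h⟩
      one_smul := fun v => Subtype.ext rfl
      mul_smul := fun a b v => Subtype.ext rfl
      smul_mul := fun a v w => Subtype.ext (map_mul (a : MulAut J) _ _)
      smul_one := fun a => Subtype.ext (map_one (a : MulAut J)) }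
  obtain ⟨K, hK1, hK2, hK3⟩ := exists_complement
    ((hS.to_le hJS).to_subgroup (Subgroup.center J)) (R : Subgroup (F.autGroup J)) R.not_dvd_index
  let ι : Subgroup.center J →* Ω := J.subtype.comp (Subgroup.center J).subtype
  have hRfix : ∀ v : Subgroup.center J, (∀ r ∈ (R : Subgroup (F.autGroup J)), r • v = v) ↔
      ι v ∈ S ⊓ Subgroup.centralizer (S : Set Ω) := by
    intro v
    constructor
    · intro hv
      refine ⟨hJS (v : J).2, Subgroup.mem_centralizer_iff.2 fun g hg => ?_⟩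
      have hgN : g ∈ Cfsg.FusionSystem.normalizerIn S J := by
        rw [(fullyNormalized_J (S := S) F).2]; exact hg
      have hmem : conjAutHom S J ⟨g, hgN⟩ ∈ Cfsg.autInducedBy S J := by
        rw [← range_conjAutHom]; exact ⟨_, rfl⟩
      have h := hv ⟨_, autInducedBy_le_autGroup hJS hmem⟩
        (by rw [hR, Subgroup.mem_subgroupOf]; exact hmem)
      have h' : g * ι v * g⁻¹ = ι v :=
        congrArg (fun w : Subgroup.center J => ((w : J) : Ω)) h
      exact mul_inv_eq_iff_eq_mul.1 h'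
    · intro hv r hr
      rw [hR, Subgroup.mem_subgroupOf, mem_autInducedBy] at hr
      obtain ⟨g, hg, hgx⟩ := hr
      refine Subtype.ext (Subtype.ext ?_)
      show (((r : MulAut J) (v : J) : J) : Ω) = ι v
      rw [hgx, mul_inv_eq_iff_eq_mul]
      exact Subgroup.mem_centralizer_iff.1 hv.2 g hg
  have hAfix : ∀ v : Subgroup.center J, (∀ r ∈ (R : Subgroup (F.autGroup J)), r • v = v) →
      ((∀ a : F.autGroup J, a • v = v) ↔ ι v ∈ F.center) := by
    intro v hv
    rw [JFix.mem_center_iff hp hS hF]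
    constructor
    · refine fun h => ⟨(hRfix v).1 hv, fun α hα => ?_⟩
      show autFun α ((v : J) : Ω) = ((v : J) : Ω)
      rw [autFun_coe]
      exact congrArg (fun w : Subgroup.center J => ((w : J) : Ω)) (h ⟨α, hα⟩)
    · intro h a
      refine Subtype.ext (Subtype.ext ?_)
      have h2 := h.2 a a.2
      show (((a : MulAut J) (v : J) : J) : Ω) = ((v : J) : Ω)
      rwa [show ι v = ((v : J) : Ω) from rfl, autFun_coe] at h2
  have hZc : ∀ x ∈ S ⊓ Subgroup.centralizer (S : Set Ω), ∃ v : Subgroup.center J, ι v = x :=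
    fun x hx => ⟨⟨⟨x, zcenter_le_J hx⟩, Subgroup.mem_center_iff.2 fun y => Subtype.ext
      (Subgroup.mem_centralizer_iff.1 hx.2 y (hJS y.2))⟩, rfl⟩
  have hcle : F.center ≤ S ⊓ Subgroup.centralizer (S : Set Ω) :=
    fun x hx => ((JFix.mem_center_iff hp hS hF).1 hx).1
  refine ⟨K.map ι, ?_, le_bot_iff.1 ?_, le_antisymm (sup_le hcle ?_) ?_⟩
  · rintro _ ⟨v, hv, rfl⟩
    exact (hRfix v).1 (hK1 v hv)
  · rintro _ ⟨hx, v, hv, rfl⟩
    rw [Subgroup.mem_bot, hK2 v hv ((hAfix v (hK1 v hv)).2 hx), map_one]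
  · rintro _ ⟨v, hv, rfl⟩
    exact (hRfix v).1 (hK1 v hv)
  · intro x hx
    obtain ⟨v, rfl⟩ := hZc x hx
    obtain ⟨c, k, hk, hc, rfl⟩ := hK3 v ((hRfix v).2 hx)
    rw [map_mul]
    exact mul_mem (Subgroup.mem_sup_left ((hAfix c fun r _ => hc r).1 hc))
      (Subgroup.mem_sup_right ⟨k, hk, rfl⟩)

/-- Let F be a saturated fusion system over a finite p-group S with p odd. Then the centre Z(F) of F is a direct factor of Z(S): there is a subgroup K of Z(S) with Z(F) ∩ K = 1 and Z(F)K = Z(S). (At the prime 2 this can fail.) -/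
theorem result {Ω : Type u} [Group Ω] {S : Subgroup Ω} [Finite S] (p : ℕ) [Fact p.Prime] (hp : p ≠ 2) (hS : IsPGroup p S)
    (F : Cfsg.FusionSystem S) (hF : F.IsSaturated p) :
    ∃ K : Subgroup Ω, K ≤ (S ⊓ Subgroup.centralizer (S : Set Ω)) ∧ F.center ⊓ K = ⊥ ∧ F.center ⊔ K = (S ⊓ Subgroup.centralizer (S : Set Ω)) := by
  exact center_direct_factor p hp hS F hF

end Cfsg.Agent.S5295
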