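import Cfsg.Statements.S5297
import Cfsg.Agent.Fus93.Criteria
import Cfsg.Agent.Fus93.Small
set_option autoImplicit false
open scoped commutatorElement
universe u
open Cfsg

namespace Cfsg.Agent.S5297

/-- An automorphism moving the small elements of the hyperfocal subgroup within the upper central
series lies in `O_p(Aut_F(P))`. -/
theorem mem_core {Ω : Type*} [Group Ω] {S : Subgroup Ω} [Finite S] {p : ℕ} [Fact p.Prime]
    (hS : IsPGroup p S) {F : Cfsg.FusionSystem S} {P : Subgroup Ω} (hPS : P ≤ S)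
    (h : ∀ A B : Subgroup Ω, A ≤ (F.hyperfocalSubgroup p) → B ≤ (F.hyperfocalSubgroup p) → IsCyclic ↥A →
      (Nat.card ↥A = p ∨ Nat.card ↥A = 4) → IsCyclic ↥B → (Nat.card ↥B = p ∨ Nat.card ↥B = 4) →
      F.homSet A B ⊆ F.normalizerHom S A)
    (α : F.autGroup P)
    (hα : ∀ x : P, (x : Ω) ∈ F.hyperfocalSubgroup p → (x ^ p = 1 ∨ (p = 2 ∧ x ^ 4 = 1)) → ∀ i,
      (x : Ω) ∈ (Subgroup.upperCentralSeries S (i + 1)).map S.subtype →
      ((x⁻¹ * (α : MulAut P) x : P) : Ω) ∈ (Subgroup.upperCentralSeries S i).map S.subtype) :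
    α ∈ pCore p (F.autGroup P) := by
  haveI := Fusion.finite_of_le hPS
  haveI := hS.isNilpotent
  let A := F.autGroup P
  let D : Subgroup P := Subgroup.closure {y | ∃ β ∈ pResidual p A, ∃ x : P, y = x⁻¹ * (β : MulAut P) x}
  have hDh : ∀ y ∈ D, (y : Ω) ∈ F.hyperfocalSubgroup p := by
    have hle : D ≤ (F.hyperfocalSubgroup p).subgroupOf P := (Subgroup.closure_le _).mpr
      fun y ⟨β, hβ, x, hy⟩ => Subgroup.subset_closure ⟨P, β, x, hPS, hβ, congrArg Subtype.val hy⟩
    exact fun y hy => hle hy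
  have hD : ∀ γ ∈ A, ∀ x ∈ D, γ x ∈ D := by
    intro γ hγ
    have hle : D ≤ D.comap (γ : MulAut P).toMonoidHom := (Subgroup.closure_le _).mpr
      fun y ⟨β, hβ, x, hy⟩ => Subgroup.subset_closure ⟨⟨γ, hγ⟩ * β * ⟨γ, hγ⟩⁻¹,
        (Subgroup.normal_of_characteristic (pResidual p A)).conj_mem β hβ _, γ x, by
          subst hy; simp [MulAut.mul_apply]⟩
    exact fun x hx => hle hx
  have hmove : ∀ β ∈ A, (orderOf β).Coprime p → ∀ x, x⁻¹ * β x ∈ D := fun β hβ hcop x =>
    Subgroup.subset_closure ⟨⟨β, hβ⟩, Thompson.mem_pResidual_of_coprime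
      (by rw [← Subgroup.orderOf_coe]; exact hcop), x, rfl⟩
  refine Fus93.mem_pCore_of_small_series (hS.of_injective _ (Subgroup.inclusion_injective hPS)) A D hD
    hmove (Group.nilpotencyClass S) (fun i => ((Subgroup.upperCentralSeries S i).map S.subtype).subgroupOf P)
    ?_ (fun x _ _ => ?_) ?_ α fun i _ x hx hxs hxi => hα x (hDh x hx) hxs i hxi
  · simp
  · exact ⟨⟨x, hPS x.2⟩, by rw [Subgroup.upperCentralSeries_nilpotencyClass]; trivial, rfl⟩
  intro β hβ i _ x hx hxs hxi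
  by_cases hx1 : x = 1
  · rw [hx1, map_one]; exact one_mem _
  have hord : ∀ y : P, y ≠ 1 → (y ^ p = 1 ∨ (p = 2 ∧ y ^ 4 = 1)) →
      Nat.card (Subgroup.zpowers (y : Ω)) = p ∨ Nat.card (Subgroup.zpowers (y : Ω)) = 4 := by
    intro y hy hys
    rw [Nat.card_zpowers, Subgroup.orderOf_coe]
    rcases hys with hy' | ⟨hp2, hy'⟩
    · exact Or.inl (orderOf_eq_prime hy' hy)
    · by_cases h2 : y ^ 2 = 1
      · exact Or.inl (hp2 ▸ orderOf_eq_prime h2 hy)
      · exact Or.inr (orderOf_eq_prime_pow (p := 2) (n := 1) (by simpa using h2) (by simpa using hy'))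
  have hβx : β x ^ p = 1 ∨ (p = 2 ∧ β x ^ 4 = 1) := hxs.imp (fun h => by rw [← map_pow, h, map_one])
    fun h => ⟨h.1, by rw [← map_pow, h.2, map_one]⟩
  have hm := ((Fusion.mem_autGroup hPS).mp hβ).1.mono (Subgroup.zpowers_le.mpr x.2)
  obtain ⟨φ, hφ, hφf⟩ := hm
  have hφx : φ ⟨x, Subgroup.mem_zpowers _⟩ = ((β x : P) : Ω) := by rw [hφf, Fusion.autFun_coe]
  obtain ⟨-, -, -, ψ, hψ, hψe, hψS⟩ := h (Subgroup.zpowers (x : Ω)) (Subgroup.zpowers ((β x : P) : Ω))
    (Subgroup.zpowers_le.mpr (hDh x hx)) (Subgroup.zpowers_le.mpr (hDh _ (hD β hβ x hx))) inferInstance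
    (hord x hx1 hxs) inferInstance (hord _ (fun he => hx1 (β.injective (he.trans (map_one β).symm))) hβx)
    (show φ ∈ F.homSet _ _ from ⟨hφ, fun z => by
      obtain ⟨k, hk⟩ := Subgroup.mem_zpowers_iff.mp z.2
      have hz : z = (⟨x, Subgroup.mem_zpowers _⟩ : Subgroup.zpowers (x : Ω)) ^ k :=
        Subtype.ext (by simpa using hk.symm)
      rw [hz, map_zpow, hφx]
      exact zpow_mem (Subgroup.mem_zpowers _) _⟩)
  -- the extension to `S` gives an automorphism of `S`
  let σ : S →* S := (ψ.comp (Subgroup.inclusion le_sup_right)).codRestrict S fun s => by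
    have : ψ (Subgroup.inclusion le_sup_right s) ∈ (S.subgroupOf _).map ψ := ⟨_, s.2, rfl⟩
    rwa [hψS] at this
  have hσ : Function.Bijective σ := Finite.injective_iff_bijective.mp fun a b hab =>
    Subgroup.inclusion_injective le_sup_right (F.injective_of_mem hψ (congrArg Subtype.val hab))
  obtain ⟨z, hz, hze⟩ := hxi
  have hz' : MulEquiv.ofBijective σ hσ z ∈ Subgroup.upperCentralSeries S i := by
    have hc : (Subgroup.upperCentralSeries S i).Characteristic := inferInstance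
    exact Subgroup.characteristic_iff_le_comap.mp hc _ hz
  refine ⟨_, hz', ?_⟩
  show ψ (Subgroup.inclusion le_sup_right z) = _
  rw [Subgroup.coe_subtype, ← hφx, ← hψe]
  exact congrArg ψ (Subtype.ext hze)

/-- Let F be a saturated fusion system over a finite p-group S. If every map of F between cyclic subgroups of the hyperfocal subgroup of F of order p or 4 is a map of the normalizer system of S (it extends to a map of F defined on all of S), then S is normal in F. -/
theorem result {Ω : Type u} [Group Ω] {S : Subgroup Ω} [Finite S] (p : ℕ) [Fact p.Prime] (hS : IsPGroup p S)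
    (F : Cfsg.FusionSystem S) (hF : F.IsSaturated p)
    (h : ∀ A B : Subgroup Ω, A ≤ (F.hyperfocalSubgroup p) → B ≤ (F.hyperfocalSubgroup p) → IsCyclic ↥A → (Nat.card ↥A = p ∨ Nat.card ↥A = 4) → IsCyclic ↥B → (Nat.card ↥B = p ∨ Nat.card ↥B = 4) →
      F.homSet A B ⊆ F.normalizerHom S A) :
    F.IsNormal S := by
  refine Fus93.isNormal_self_of_sylow_le_core hS hF fun P hne hfn hc hr g hg => ?_
  refine mem_core hS hc.1 h _ fun x hx hxs i hi => ?_
  obtain ⟨z, hz, hze⟩ := hi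
  obtain rfl : z = ⟨x, hc.1 x.2⟩ := Subtype.ext hze
  refine ⟨(⟨x, hc.1 x.2⟩ : S)⁻¹ * (⟨g, hg.1⟩ * ⟨x, hc.1 x.2⟩ * ⟨g, hg.1⟩⁻¹), ?_, rfl⟩
  simpa [mul_assoc, commutatorElement_def] using Subgroup.mem_upperCentralSeries_succ_iff.mp (inv_mem hz) ⟨g, hg.1⟩

end Cfsg.Agent.S5297
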