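import Cfsg.Statements.S5298
import Cfsg.Agent.S5297
import Cfsg.Agent.Fus93.Basic
import Cfsg.Agent.Lib.Fusion.Subsystem
set_option autoImplicit false
open scoped commutatorElement
universe u
open Cfsg

namespace Cfsg.Agent.S5298

/-- The hyperfocal subgroup is invariant under maps defined on all of `S`. -/
theorem hyperfocal_invariant {Ω : Type*} [Group Ω] {S : Subgroup Ω} [Finite S] {p : ℕ}
    {F : Cfsg.FusionSystem S} {σ : Ω → Ω} (hσ : Fusion.IsMap F S σ) :
    ∀ x ∈ F.hyperfocalSubgroup p, σ x ∈ F.hyperfocalSubgroup p := by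
  obtain ⟨θ, hθ, hθσ⟩ := id hσ
  have hle : F.hyperfocalSubgroup p ≤ ((F.hyperfocalSubgroup p).comap θ).map S.subtype := by
    refine (Subgroup.closure_le _).mpr ?_
    rintro _ ⟨P, α, x, hPS, hα, rfl⟩
    refine ⟨⟨_, S.mul_mem (S.inv_mem (hPS x.2)) (hPS ((α : MulAut P) x).2)⟩, ?_, rfl⟩
    obtain ⟨P', hP'⟩ := (hσ.mono hPS).exists_image
    refine Subgroup.subset_closure ⟨P', hP'.autEquiv α, hP'.equiv x, hP'.cod_le, ?_, ?_⟩
    · rw [← Thompson.map_pResidual_equiv hP'.autEquiv]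
      exact ⟨α, hα, rfl⟩
    · rw [Fusion.IsIso.autEquiv_coe, Fusion.congr_apply_equiv, Fusion.IsIso.equiv_apply, hθσ]
      show σ ((x : Ω)⁻¹ * ((α : MulAut P) x : P)) = _
      rw [hσ.map_mul (S.inv_mem (hPS x.2)) (hPS ((α : MulAut P) x).2), hσ.map_inv (hPS x.2)]
  intro x hx
  obtain ⟨z, hz, rfl⟩ := hle hx
  exact (hθσ z) ▸ hz

/-- Let F be a saturated fusion system over a finite p-group S. If every map of F between cyclic subgroups of the hyperfocal subgroup of F of order p or 4 is conjugation by an element of S, then F is the inner fusion system of S. -/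
theorem result {Ω : Type u} [Group Ω] {S : Subgroup Ω} [Finite S] (p : ℕ) [Fact p.Prime] (hS : IsPGroup p S)
    (F : Cfsg.FusionSystem S) (hF : F.IsSaturated p)
    (h : ∀ A B : Subgroup Ω, A ≤ (F.hyperfocalSubgroup p) → B ≤ (F.hyperfocalSubgroup p) → IsCyclic ↥A → (Nat.card ↥A = p ∨ Nat.card ↥A = 4) → IsCyclic ↥B → (Nat.card ↥B = p ∨ Nat.card ↥B = 4) →
      F.homSet A B ⊆ (Cfsg.innerFusionSystem S).Hom A) :
    ∀ P : Subgroup Ω, F.Hom P = (Cfsg.innerFusionSystem S).Hom P := by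
  have h' : ∀ A B : Subgroup Ω, A ≤ (F.hyperfocalSubgroup p) → B ≤ (F.hyperfocalSubgroup p) → IsCyclic ↥A →
      (Nat.card ↥A = p ∨ Nat.card ↥A = 4) → IsCyclic ↥B → (Nat.card ↥B = p ∨ Nat.card ↥B = 4) →
      F.homSet A B ⊆ F.normalizerHom S A := by
    intro A B hA hB hAc hAn hBc hBn φ hφ
    obtain ⟨hAS, s, hs, hse⟩ := h A B hA hB hAc hAn hBc hBn hφ
    refine (Fusion.mem_normalizerHom (f := fun x => s * x * s⁻¹) hse).mpr
      ⟨Fusion.isMap_conj hAS hs, hAS.trans (Fusion.le_normalizerIn le_rfl), fun x hx =>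
        Fusion.le_normalizerIn le_rfl (S.mul_mem (S.mul_mem hs (hAS hx)) (S.inv_mem hs)),
      _, Fusion.isMap_conj (sup_le hAS le_rfl) hs, fun _ _ => rfl,
      Fusion.image_conj_eq_self (S.le_normalizer hs)⟩
  haveI := hS.isNilpotent
  have hn := S5297.result p hS F hF h'
  haveI := Fus93.finite_autGroup (F := F) (le_refl S)
  -- every automorphism of `S` lies in `O_p`
  have hcore : ∀ a : F.autGroup S, a ∈ pCore p (F.autGroup S) := by
    intro a
    refine S5297.mem_core hS le_rfl h' a fun x hx hxs i hi => ?_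
    have hax : (((a : MulAut S) x : S) : Ω) ∈ F.hyperfocalSubgroup p := by
      rw [← Fusion.autFun_coe]
      exact hyperfocal_invariant ((Fusion.mem_autGroup le_rfl).mp a.2).1 _ hx
    by_cases hx1 : x = 1
    · simp [hx1]
    have hord : ∀ y : S, y ≠ 1 → (y ^ p = 1 ∨ (p = 2 ∧ y ^ 4 = 1)) →
        Nat.card (Subgroup.zpowers (y : Ω)) = p ∨ Nat.card (Subgroup.zpowers (y : Ω)) = 4 := by
      intro y hy hys
      rw [Nat.card_zpowers, Subgroup.orderOf_coe]
      rcases hys with hy' | ⟨hp2, hy'⟩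
      · exact Or.inl (orderOf_eq_prime hy' hy)
      · by_cases h2 : y ^ 2 = 1
        · exact Or.inl (hp2 ▸ orderOf_eq_prime h2 hy)
        · exact Or.inr (orderOf_eq_prime_pow (p := 2) (n := 1) (by simpa using h2) (by simpa using hy'))
    have hxs' : (a : MulAut S) x ^ p = 1 ∨ (p = 2 ∧ (a : MulAut S) x ^ 4 = 1) := hxs.imp
      (fun h => by rw [← map_pow, h, map_one]) fun h => ⟨h.1, by rw [← map_pow, h.2, map_one]⟩
    have hm := ((Fusion.mem_autGroup le_rfl).mp a.2).1.mono (Subgroup.zpowers_le.mpr x.2)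
    obtain ⟨φ, hφ, hφf⟩ := hm
    have hφx : φ ⟨x, Subgroup.mem_zpowers _⟩ = (((a : MulAut S) x : S) : Ω) := by
      rw [hφf, Fusion.autFun_coe]
    obtain ⟨-, s, hs, hse⟩ := h (Subgroup.zpowers (x : Ω)) (Subgroup.zpowers (((a : MulAut S) x : S) : Ω))
      (Subgroup.zpowers_le.mpr hx) (Subgroup.zpowers_le.mpr hax) inferInstance (hord x hx1 hxs) inferInstance
      (hord _ (fun he => hx1 ((a : MulAut S).injective (he.trans (map_one _).symm))) hxs')
      (show φ ∈ F.homSet _ _ from ⟨hφ, fun z => by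
        obtain ⟨k, hk⟩ := Subgroup.mem_zpowers_iff.mp z.2
        have hz : z = (⟨x, Subgroup.mem_zpowers _⟩ : Subgroup.zpowers (x : Ω)) ^ k :=
          Subtype.ext (by simpa using hk.symm)
        rw [hz, map_zpow, hφx]
        exact zpow_mem (Subgroup.mem_zpowers _) _⟩)
    have h2 := hse ⟨x, Subgroup.mem_zpowers _⟩
    rw [hφx] at h2
    obtain ⟨z, hz, hze⟩ := hi
    obtain rfl : z = x := Subtype.ext hze
    refine ⟨z⁻¹ * (⟨s, hs⟩ * z * ⟨s, hs⟩⁻¹), ?_, by simp [h2]⟩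
    simpa [mul_assoc, commutatorElement_def] using
      Subgroup.mem_upperCentralSeries_succ_iff.mp (inv_mem hz) ⟨s, hs⟩
  have hfn : F.IsFullyNormalized S := ⟨le_rfl, fun R hR =>
    haveI := Fusion.finite_of_le (Fusion.normalizerIn_le S S)
    Subgroup.card_le_of_le (inf_le_left.trans (Fusion.le_normalizerIn le_rfl))⟩
  obtain ⟨-, R₀, hR₀⟩ := Fusion.fullyAutomized_of_fullyNormalized hS hF hfn
  have hinner : F.autGroup S ≤ autInducedBy S S := by
    intro a ha
    have hmem : (⟨a, ha⟩ : F.autGroup S) ∈ (autInducedBy S S).subgroupOf (F.autGroup S) :=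
      hR₀ ▸ Thompson.pCore_le_sylow R₀ (hcore ⟨a, ha⟩)
    exact hmem
  intro P
  refine Set.Subset.antisymm (fun φ hφ => ?_) (Fus93.inner_le F P)
  obtain ⟨f', hf', he, himg⟩ := (Fusion.isNormal_iff.mp hn).2 P _ (Fusion.isMap_extFun hφ)
  obtain ⟨a, ha, hae⟩ := Fusion.IsIso.exists_aut (show Fusion.IsIso F S S f' from ⟨hf'.mono le_sup_right, himg⟩)
  obtain ⟨s, hs, hse⟩ := Fusion.mem_autInducedBy.mp (hinner ha)
  have hPS := (F.le_of_mem hφ).1
  refine ⟨hPS, s, hs, fun x => ?_⟩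
  rw [← Fusion.extFun_coe φ x, ← he x.2, ← hae (hPS x.2), Fusion.autFun_of_mem _ (hPS x.2)]
  exact hse _

end Cfsg.Agent.S5298
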