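import Cfsg.Statements.S5299
-- import your own Cfsg.Agent.* helpers here

set_option autoImplicit false
universe u
open Cfsg

namespace Cfsg.Agent.S5299

theorem involves_of_surjective_of_injective {A B C : Type*} [Group A] [Group B] [Group C] (f : A →* B)
    (hf : Function.Surjective f) (j : A →* C) (hj : Function.Injective j) : Involves B C := by
  let e : A ≃* j.range := MonoidHom.ofInjective hj
  let k : j.range →* B := f.comp e.symm.toMonoidHom
  have hk : (k.ker.map j.range.subtype).subgroupOf j.range = k.ker :=
    Subgroup.comap_map_eq_self_of_injective Subtype.val_injective _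
  refine ⟨j.range, k.ker.map j.range.subtype, by rw [hk]; infer_instance, ⟨?_⟩⟩
  haveI : ((k.ker.map j.range.subtype).subgroupOf j.range).Normal := by rw [hk]; infer_instance
  exact (QuotientGroup.quotientMulEquivOfEq hk).trans
    (QuotientGroup.quotientKerEquivOfSurjective k (hf.comp e.symm.surjective))

/-- Let F be a saturated fusion system over a finite p-group S, H a finite group and Q a p-subgroup of H. If Q is not involved in S (no section of S is isomorphic to Q), then F is H-free: H is involved in no model of the normalizer system of a fully normalized centric subgroup. -/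
theorem result {Ω : Type u} [Group Ω] {S : Subgroup Ω} [Finite S] (p : ℕ) [Fact p.Prime] (hS : IsPGroup p S)
    (F : Cfsg.FusionSystem S) (hF : F.IsSaturated p) (H : Type*) [Group H] [Finite H] (Q : Subgroup H) (hQ : IsPGroup p Q)
    (hfree : ¬ Cfsg.Involves (↥Q) (↥S)) : F.IsSectionFree p H := by
  intro P _ _ N _ L _ ι hN
  obtain ⟨hfin, hι, ⟨T, hT⟩, -⟩ := hN
  rintro ⟨K, R, hR, ⟨e⟩⟩
  -- the preimage of `Q` in `K` and a Sylow subgroup of it
  let f : K →* H := e.toMonoidHom.comp (QuotientGroup.mk' (R.subgroupOf K))
  have hf : Function.Surjective f := e.surjective.comp (QuotientGroup.mk'_surjective _)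
  let K₁ : Subgroup K := Q.comap f
  let f₁ : K₁ →* Q := (f.comp K₁.subtype).codRestrict Q fun x => x.2
  have hf₁ : Function.Surjective f₁ := fun q => by
    obtain ⟨k, hk⟩ := hf q
    exact ⟨⟨k, show f k ∈ Q from hk ▸ q.2⟩, Subtype.ext hk⟩
  obtain ⟨U⟩ : Nonempty (Sylow p K₁) := inferInstance
  have hU : Function.Surjective (f₁.comp (U : Subgroup K₁).subtype) := by
    rw [← MonoidHom.range_eq_top, MonoidHom.range_comp, Subgroup.range_subtype]
    exact Eq.symm ((U.mapSurjective hf₁).3 (hQ.to_subgroup _) le_top)
  -- move the Sylow subgroup into the image of `S`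
  obtain ⟨T', hT'⟩ := IsPGroup.exists_le_sylow ((U.2.map K₁.subtype).map K.subtype)
  obtain ⟨g, hg⟩ := MulAction.exists_smul_eq L T' T
  let j : (U : Subgroup K₁) →* L := (MulAut.conj g).toMonoidHom.comp
    (K.subtype.comp (K₁.subtype.comp (U : Subgroup K₁).subtype))
  have hjinj : Function.Injective j := (MulAut.conj g).injective.comp
    (Subtype.val_injective.comp (Subtype.val_injective.comp Subtype.val_injective))
  have hj : ∀ x, j x ∈ ι.range := fun x => by
    rw [← hT, ← hg, Sylow.smul_def]
    exact Subgroup.smul_mem_pointwise_smul _ (MulAut.conj g) _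
      (hT' ⟨_, ⟨x, x.2, rfl⟩, rfl⟩)
  let j' : (U : Subgroup K₁) →* S := (Subgroup.inclusion (inf_le_left : FusionSystem.normalizerIn S P ≤ S)).comp
    ((MonoidHom.ofInjective hι.1).symm.toMonoidHom.comp (j.codRestrict ι.range hj))
  have hj' : Function.Injective j' := (Subgroup.inclusion_injective (inf_le_left : FusionSystem.normalizerIn S P ≤ S)).comp
    ((MonoidHom.ofInjective hι.1).symm.injective.comp fun a b h => hjinj (congrArg Subtype.val h))
  exact hfree (involves_of_surjective_of_injective _ hU j' hj')

end Cfsg.Agent.S5299
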