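import Cfsg.Statements.S5300
import Cfsg.Agent.Fus93.Criteria
import Cfsg.Agent.Fus93.Small
set_option autoImplicit false
universe u
open Cfsg

namespace Cfsg.Agent.S5300

/-- Let F be a saturated fusion system over a finite p-group S. If every cyclic subgroup of the focal subgroup of F of order p (of order 2 or 4 when p = 2) is normal in S, then S is normal in F. -/
theorem result {Ω : Type u} [Group Ω] {S : Subgroup Ω} [Finite S] (p : ℕ) [Fact p.Prime] (hS : IsPGroup p S)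
    (F : Cfsg.FusionSystem S) (hF : F.IsSaturated p)
    (hnorm : ∀ x ∈ F.focalSubgroup, (x ^ p = 1 ∨ (p = 2 ∧ x ^ 4 = 1)) → ∀ s ∈ S, s * x * s⁻¹ ∈ Subgroup.zpowers x) :
    F.IsNormal S := by
  refine Fus93.isNormal_self_of_sylow_le_core hS hF fun P hne hfn hc hr g hg => ?_
  have hPS := hc.1
  haveI := Fusion.finite_of_le hPS
  set D : Subgroup P := F.focalSubgroup.subgroupOf P
  have hmove : ∀ β ∈ F.autGroup P, ∀ x : P, x⁻¹ * β x ∈ D := fun β hβ x =>
    Subgroup.subset_closure ⟨P, _, x, (Fusion.mem_autGroup_iff_hom hPS).mp hβ, rfl⟩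
  have hD : ∀ β ∈ F.autGroup P, ∀ x ∈ D, β x ∈ D := fun β hβ x hx => by
    simpa using mul_mem hx (hmove β hβ x)
  let W : Subgroup P := Subgroup.closure {x | x ∈ D ∧ x ^ p = 1}
  have hdiv : ∀ x ∈ D, (x ^ p = 1 ∨ (p = 2 ∧ x ^ 4 = 1)) →
      ∃ l : ℤ, x⁻¹ * Fusion.conjAutHom S P ⟨g, hg⟩ x = (x ^ p) ^ l := by
    intro x hx hxs
    have h1 := hnorm x hx (hxs.imp (fun h => congrArg Subtype.val h) fun h => ⟨h.1, congrArg Subtype.val h.2⟩)
      g hg.1
    obtain ⟨k, hk⟩ := Subgroup.mem_zpowers_iff.mp h1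
    obtain ⟨l, hl⟩ := Subgroup.mem_zpowers_iff.mp (Fus93.conj_div_mem_pow hS (g := ⟨g, hg.1⟩)
      (x := ⟨x, hPS x.2⟩) (Subgroup.mem_zpowers_iff.mpr ⟨k, Subtype.ext (by simpa using hk)⟩))
    exact ⟨l, Subtype.ext (by simpa using (congrArg (Subgroup.subtype S) hl).symm)⟩
  let Z : ℕ → Subgroup P := fun i => if i = 0 then ⊥ else if i = 1 then W else ⊤
  refine Fus93.mem_pCore_of_small_series (hS.of_injective _ (Subgroup.inclusion_injective hPS)) _ D
    hD (fun β hβ _ x => hmove β hβ x) 2 Z rfl (fun x _ _ => Subgroup.mem_top x) ?_ _ ?_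
  · intro β hβ i hi x hx _ hxi
    obtain rfl | rfl | rfl : i = 0 ∨ i = 1 ∨ i = 2 := by omega
    · show β x ∈ (⊥ : Subgroup P)
      rw [Subgroup.mem_bot] at *
      rw [show x = 1 from hxi, map_one]
    · have hle : W ≤ W.comap β.toMonoidHom := (Subgroup.closure_le _).mpr fun y hy =>
        Subgroup.subset_closure ⟨hD β hβ y hy.1, by
          show β y ^ p = 1
          rw [← map_pow, hy.2, map_one]⟩
      exact hle hxi
    · exact Subgroup.mem_top _
  · intro i hi x hx hxs hxi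
    obtain rfl | rfl : i = 0 ∨ i = 1 := by omega
    · have hle : W ≤ MonoidHom.eqLocus (Fusion.conjAutHom S P ⟨g, hg⟩).toMonoidHom (MonoidHom.id P) := by
        refine (Subgroup.closure_le _).mpr fun y hy => ?_
        obtain ⟨l, hl⟩ := hdiv y hy.1 (Or.inl hy.2)
        rw [hy.2, one_zpow, inv_mul_eq_one] at hl
        exact hl.symm
      exact Subgroup.mem_bot.mpr (inv_mul_eq_one.mpr (hle hxi).symm)
    · obtain ⟨l, hl⟩ := hdiv x hx hxs
      show x⁻¹ * Fusion.conjAutHom S P ⟨g, hg⟩ x ∈ W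
      rw [hl]
      refine zpow_mem (Subgroup.subset_closure ?_) _
      refine ⟨D.pow_mem hx p, ?_⟩
      rcases hxs with h | ⟨rfl, h⟩
      · simp [h]
      · rw [← pow_mul]; exact h

end Cfsg.Agent.S5300
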