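import Cfsg.Statements.S5301
import Cfsg.Agent.Fus93.Criteria

set_option autoImplicit false
universe u
open Cfsg

namespace Cfsg.Agent.S5301

/-- Let F be a saturated fusion system over a finite p-group S. If for every subgroup P of S that is fully normalized, centric and radical in F the automorphism group that F induces on P has a normal Sylow p-subgroup, then S is normal in F. -/
theorem result {Ω : Type u} [Group Ω] {S : Subgroup Ω} [Finite S] (p : ℕ) [Fact p.Prime] (hS : IsPGroup p S)
    (F : Cfsg.FusionSystem S) (hF : F.IsSaturated p)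
    (hcl : ∀ P : Subgroup Ω, F.IsFullyNormalized P → F.IsCentric P → F.IsRadical p P →
      ∃ R : Sylow p ↥(F.autGroup P), (R : Subgroup ↥(F.autGroup P)).Normal) :
    F.IsNormal S := by
  refine Fus93.isNormal_self_of_sylow_le_core hS hF fun P hne hfn hc hr g hg => ?_
  haveI := Fusion.finite_of_le hc.1
  haveI := Fusion.finite_mulAut P
  obtain ⟨R, hR⟩ := hcl P hfn hc hr
  obtain ⟨R₀, hR₀⟩ := (Fusion.fullyAutomized_of_fullyNormalized hS hF hfn).2
  obtain ⟨c, rfl⟩ := MulAction.exists_smul_eq (F.autGroup P) R R₀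
  have hfix : c • R = R := by haveI := hR; exact Sylow.smul_eq_of_normal
  rw [hfix] at hR₀
  have hle : (R : Subgroup (F.autGroup P)) ≤ Cfsg.pCore p (F.autGroup P) := Thompson.le_pCore hR R.2
  refine hle ?_
  rw [hR₀]
  exact (Fusion.range_conjAutHom S P ▸ ⟨_, rfl⟩ :
    Fusion.conjAutHom S P ⟨g, hg⟩ ∈ autInducedBy S P)


end Cfsg.Agent.S5301
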