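import Cfsg.Statements.S5306

set_option autoImplicit false
open Cfsg

namespace Cfsg.Agent.S5306

variable {p : ℕ} {X : Type*} [Group X]

theorem isElemAb_map {Y : Type*} [Group Y] (f : X →* Y) {A : Subgroup X}
    (hA : IsElementaryAbelian p A) : IsElementaryAbelian p (A.map f) := by
  haveI := hA.1
  refine ⟨⟨⟨?_⟩⟩, ?_⟩
  · rintro ⟨_, a, ha, rfl⟩ ⟨_, b, hb, rfl⟩
    have h : a * b = b * a := congrArg Subtype.val (mul_comm' (⟨a, ha⟩ : A) ⟨b, hb⟩)
    exact Subtype.ext (by simp [← map_mul, h])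
  · rintro _ ⟨a, ha, rfl⟩
    rw [← map_pow, hA.2 a ha, map_one]

theorem isElemAb_comap {Y : Type*} [Group Y] (f : X →* Y) (hf : Function.Injective f) {A : Subgroup Y}
    (hA : IsElementaryAbelian p A) : IsElementaryAbelian p (A.comap f) := by
  haveI := hA.1
  refine ⟨⟨⟨?_⟩⟩, ?_⟩
  · rintro ⟨a, ha⟩ ⟨b, hb⟩
    have h : f a * f b = f b * f a :=
      congrArg Subtype.val (mul_comm' (⟨f a, ha⟩ : A) ⟨f b, hb⟩)
    exact Subtype.ext (hf (by simpa using h))
  · intro a ha
    exact hf (by rw [map_pow, hA.2 _ ha, map_one])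

theorem map_thompson_le {Y : Type*} [Group Y] (e : X ≃* Y) :
    (thompsonSubgroup p X).map e.toMonoidHom ≤ thompsonSubgroup p Y := by
  rw [Subgroup.map_le_iff_le_comap]
  refine sSup_le fun A hA => ?_
  rw [← Subgroup.map_le_iff_le_comap]
  refine le_sSup ⟨isElemAb_map _ hA.1, fun B hB => ?_⟩
  have hinj : Function.Injective e.toMonoidHom := e.injective
  have h := hA.2 _ (isElemAb_comap e.toMonoidHom hinj hB)
  rw [Subgroup.card_map_of_injective hinj]
  rwa [← Subgroup.card_map_of_injective (K := B.comap e.toMonoidHom) hinj,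
    Subgroup.map_comap_eq_self_of_surjective e.surjective] at h

theorem map_thompson' {Y : Type*} [Group Y] (e : X ≃* Y) :
    (thompsonSubgroup p X).map e.toMonoidHom = thompsonSubgroup p Y :=
  le_antisymm (map_thompson_le e) fun y hy =>
    ⟨e.symm y, map_thompson_le e.symm ⟨y, hy, rfl⟩, e.apply_symm_apply y⟩

theorem map_thompsonOf (P : Subgroup X) (f : X ≃* X) :
    (thompsonSubgroupOf p P).map f.toMonoidHom = thompsonSubgroupOf p (P.map f.toMonoidHom) := by
  have h := map_thompson' (p := p) (f.subgroupMap P)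
  ext z
  constructor
  · rintro ⟨_, ⟨a, ha, rfl⟩, rfl⟩
    exact ⟨f.subgroupMap P a, h.le ⟨a, ha, rfl⟩, rfl⟩
  · rintro ⟨b, hb, rfl⟩
    obtain ⟨a, ha, rfl⟩ := h.ge hb
    exact ⟨_, ⟨a, ha, rfl⟩, rfl⟩

variable [Finite X] [Fact p.Prime]

theorem map_thompson (P : Sylow p X) (g : X) :
    (thompsonSubgroupOf p (P : Subgroup X)).map (MulAut.conj g).toMonoidHom =
      thompsonSubgroupOf p ((g • P : Sylow p X) : Subgroup X) := by
  rw [map_thompsonOf]; rfl

theorem thompson_eq (P Q : Sylow p X) (h : thompsonSubgroupOf p (P : Subgroup X) ≤ (Q : Subgroup X)) :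
    thompsonSubgroupOf p (P : Subgroup X) = thompsonSubgroupOf p (Q : Subgroup X) := by
  obtain ⟨g, rfl⟩ := MulAction.exists_smul_eq X P Q
  refine Subgroup.eq_of_le_of_card_ge ?_ ?_
  · rw [thompsonSubgroupOf, Subgroup.map_le_iff_le_comap]
    refine sSup_le fun A hA a ha => ?_
    rw [Subgroup.mem_comap]
    have hle : A.map (P : Subgroup X).subtype ≤ ((g • P : Sylow p X) : Subgroup X) :=
      fun z hz => h (Subgroup.map_mono (le_sSup hA) hz)
    have hmem : (A.map (P : Subgroup X).subtype).comap ((g • P : Sylow p X) : Subgroup X).subtype ∈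
        maxElementaryAbelianSubgroups p ((g • P : Sylow p X) : Subgroup X) := by
      refine ⟨?_, fun B hB => ?_⟩
      · exact isElemAb_comap _ Subtype.val_injective (isElemAb_map _ hA.1)
      · have h1 := hA.2 _ (isElemAb_map (Sylow.equivSMul P g).symm.toMonoidHom hB)
        have hinj : Function.Injective (Sylow.equivSMul P g).symm.toMonoidHom :=
          (Sylow.equivSMul P g).symm.injective
        rw [Subgroup.card_map_of_injective hinj] at h1
        refine h1.trans (le_of_eq ?_)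
        exact ((Nat.card_congr (Subgroup.subgroupOfEquivOfLe hle).toEquiv).trans
          (Subgroup.card_map_of_injective Subtype.val_injective)).symm
    exact ⟨⟨(a : X), hle ⟨a, ha, rfl⟩⟩, le_sSup hmem ⟨a, ha, rfl⟩, rfl⟩
  · rw [← map_thompson, Subgroup.card_map_of_injective (MulAut.conj g).injective]


/-- Let P be a Sylow p-subgroup of the finite group X and J = J(P) its Thompson subgroup (generated by the elementary abelian subgroups of P of largest order). If x and y lie in the centre of J and y = g x g⁻¹ for some g in X, then y = n x n⁻¹ for some n in the normalizer N_X(J). -/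
theorem result {X : Type*} [Group X] [Finite X] (p : ℕ) [Fact p.Prime] (P : Sylow p X) (J : Subgroup X) (hJ : J = Cfsg.thompsonSubgroupOf p (P : Subgroup X))
    (x y : X) (hx : x ∈ J ∧ ∀ j ∈ J, Commute j x) (hy : y ∈ J ∧ ∀ j ∈ J, Commute j y) (g : X) (hg : g * x * g⁻¹ = y) :
    ∃ n ∈ Subgroup.normalizer (J : Set X), n * x * n⁻¹ = y := by
  subst hJ
  set J := Cfsg.thompsonSubgroupOf p (P : Subgroup X) with hJdef
  set C : Subgroup X := Subgroup.centralizer {y}
  have hJP : J ≤ (P : Subgroup X) := Subgroup.map_subtype_le _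
  have h1 : J ≤ C := fun j hj => Subgroup.mem_centralizer_singleton_iff.mpr (hy.2 j hj)
  have h2 : J.map (MulAut.conj g).toMonoidHom ≤ C := by
    rintro _ ⟨j, hj, rfl⟩
    rw [Subgroup.mem_centralizer_singleton_iff]
    simp only [MulEquiv.coe_toMonoidHom, MulAut.conj_apply, ← hg]
    calc g * j * g⁻¹ * (g * x * g⁻¹) = g * (j * x) * g⁻¹ := by group
      _ = g * (x * j) * g⁻¹ := by rw [(hx.2 j hj).eq]
      _ = g * x * g⁻¹ * (g * j * g⁻¹) := by group
  have hpJ : IsPGroup p J := P.2.to_le hJP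
  obtain ⟨R₁, hR₁⟩ := IsPGroup.exists_le_sylow (hpJ.comap_subtype (K := C))
  obtain ⟨R₂, hR₂⟩ := IsPGroup.exists_le_sylow
    ((hpJ.map (MulAut.conj g).toMonoidHom).comap_subtype (K := C))
  obtain ⟨c, rfl⟩ := MulAction.exists_smul_eq C R₂ R₁
  obtain ⟨Q, hQ⟩ := IsPGroup.exists_le_sylow ((c • R₂ : Sylow p C).2.map C.subtype)
  have hJQ : J ≤ (Q : Subgroup X) := fun j hj => hQ ⟨⟨j, h1 hj⟩, hR₁ hj, rfl⟩
  have hgJQ : J.map (MulAut.conj ((c : X) * g)).toMonoidHom ≤ (Q : Subgroup X) := by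
    rintro _ ⟨j, hj, rfl⟩
    refine hQ ⟨c * ⟨g * j * g⁻¹, h2 ⟨j, hj, rfl⟩⟩ * c⁻¹, ?_, ?_⟩
    · rw [Sylow.smul_def]
      exact Subgroup.smul_mem_pointwise_smul _ (MulAut.conj c) _ (hR₂ ⟨j, hj, rfl⟩)
    · simp [mul_assoc]
  refine ⟨(c : X) * g, ?_, ?_⟩
  · rw [Subgroup.mem_normalizer_iff_map_conj_eq]
    refine (map_thompson P ((c : X) * g)).trans ?_
    rw [map_thompson P ((c : X) * g)] at hgJQ
    exact (thompson_eq _ Q hgJQ).trans (thompson_eq P Q hJQ).symm
  · have hc : (c : X) * y = y * c := (Subgroup.mem_centralizer_singleton_iff.mp c.2)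
    calc (c : X) * g * x * ((c : X) * g)⁻¹ = (c : X) * (g * x * g⁻¹) * (c : X)⁻¹ := by group
      _ = y := by rw [hg, hc]; group


end Cfsg.Agent.S5306
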