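import Cfsg.Statements.S5312
import Cfsg.Agent.Lib.Fusion.Comp.Main

set_option autoImplicit false
open Cfsg

namespace Cfsg.Agent.S5312

/-- Let F be a saturated fusion system over a finite p-group S. Every component C of F is a normal subsystem of every generalized Fitting subsystem of F. -/
theorem result {Ω : Type*} [Group Ω] {S : Subgroup Ω} [Finite S] (p : ℕ) [Fact p.Prime] (hS : IsPGroup p S) (F : Cfsg.FusionSystem S) (hF : F.IsSaturated p)
    {T : Subgroup Ω} (C : Cfsg.FusionSystem T) (hC : C.IsComponentIn F p)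
    {U : Subgroup Ω} (D : Cfsg.FusionSystem U) (hD : D.IsGeneralizedFittingOf F p) : C.IsNormalIn D p := by
  obtain ⟨V, E, hE, hprod⟩ := hD
  have hQn := Fusion91.isNormal_core F
  have hTE : V ≤ S := hE.1.1.2.2.2.1.1
  haveI := Fusion.finite_of_le hQn.1
  haveI := Fusion.finite_of_le hTE
  obtain ⟨D₀, θ, hcp⟩ := Fusion.Comp.exists_cpair (hS.to_le hQn.1) (hS.to_le hTE)
    (Fusion.inner_isNormalIn_of_normal hS hF hQn).1.1 hE.1.1.1 hprod
  have hDn := Fusion.Inter.fitting_isNormalIn hS hF ⟨V, E, hE, hprod⟩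
  haveI := Fusion.finite_of_le hDn.1.2.2.2.1.1
  have hEn := (hcp.factors_normal (p := p) (Fusion.inner_isNormalIn_of_normal hS hF hQn).1.1 hE.1.1.1
    hcp.sub_left (Fusion.subsystem_right_of_centralProduct hprod) hDn.1.1).2
  have hUp := hS.to_le hDn.1.2.2.2.1.1
  have hCE := Fusion.Comp.component_normal_layer hS hF hE hC
  refine Fusion.Comp.char_normal ⟨hUp, hDn.1.1, hEn⟩ ⟨hS.to_le hTE, hE.1.1.1, hCE⟩ fun k hk => ?_
  have hkE : Fusion.IsMap E V k := hcp.map_of_le₂ hk.1 le_rfl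
  have hcl : E.StronglyClosed T := hCE.1.2.2.2.1
  haveI := Fusion.finite_of_le hcl.1
  exact Fusion.Comp.preserves_of_invariant hCE.1.2.2 (Fusion.NormalLift.isIso_of_mapsTo (hkE.mono hcl.1) hcl.1
    (fun x hx => Fusion92.closed_apply hcl hkE (hcl.1 hx) hx) le_rfl)

end Cfsg.Agent.S5312
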