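import Cfsg.Statements.S5315
import Cfsg.Agent.Fus93.Generation
import Cfsg.Agent.Fus93.Stabilizer
import Cfsg.Agent.Fusion91.Core
import Cfsg.Agent.Fusion92.FactorFree
set_option autoImplicit false
open Cfsg

namespace Cfsg.Agent.S5315

/-- An analogue of Grün's lemma for fusion systems. Let F be a saturated fusion system over a finite p-group S that is perfect in the sense that its hyperfocal subgroup is all of S (F coincides with its p-residual subsystem). Then the second centre of F equals its centre: every fusion system over S/(Z(F) ∩ S) that is the factor system of F modulo its centre Z(F), read through the quotient map, has trivial centre. -/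
theorem result {Ω : Type*} [Group Ω] {S : Subgroup Ω} [Finite S] (p : ℕ) [Fact p.Prime] (hS : IsPGroup p S) (F : Cfsg.FusionSystem S) (hF : F.IsSaturated p)
    (hperf : F.hyperfocalSubgroup p = S)
    (E : Cfsg.FusionSystem (⊤ : Subgroup (↥S ⧸ (F.center).subgroupOf S)))
    (hE : F.IsFactorSystem F.center (QuotientGroup.mk' ((F.center).subgroupOf S)) E) : E.center = ⊥ := by
  set Z := F.center with hZdef
  set θ := QuotientGroup.mk' (Z.subgroupOf S) with hθdef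
  have hZc := Cfsg.Agent.Fusion91.isCentral_center F
  obtain ⟨hZS, hZext⟩ := Fusion.isCentral_iff.mp hZc
  have hZn : F.IsNormal Z := Fusion.isNormal_iff.mpr ⟨hZS, fun P f hf => (hZext P f hf).stab⟩
  have hfix : ∀ P f, Fusion.IsMap F P f → ∀ z ∈ P, z ∈ Z → f z = z := fun P f hf z hz hzZ => by
    obtain ⟨f', -, h2, h3⟩ := hZext P f hf
    rw [← h2 hz, h3 z hzZ]
  have hzc : ∀ z ∈ Z, ∀ s ∈ S, s * z = z * s := fun z hz s hs => F.center_le_centralizer hz s hs
  haveI : Finite ↥(⊤ : Subgroup (↥S ⧸ Z.subgroupOf S)) := inferInstance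
  set Xb := E.center
  obtain ⟨hXb, hXext⟩ := Fusion.isCentral_iff.mp (Cfsg.Agent.Fusion91.isCentral_center E)
  set X := Cfsg.FusionSystem.preimageAlong θ Xb
  have hXS : X ≤ S := Fusion91.preimageAlong_le θ Xb
  have hθeq : ∀ u v : S, θ u = θ v → ((u : Ω))⁻¹ * v ∈ Z := fun u v h => Subgroup.mem_subgroupOf.mp ((QuotientGroup.eq (s := Z.subgroupOf S) (a := u) (b := v)).mp h)
  -- extension to `X` modulo `Z`
  have key : ∀ P f, Fusion.IsMap F P f → Z ≤ P → ∃ f', Fusion.IsMap F (P ⊔ X) f' ∧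
      (∀ u ∈ P, (f u)⁻¹ * f' u ∈ Z) ∧ ∀ x ∈ X, x⁻¹ * f' x ∈ Z := by
    intro P f hf hZP
    set P' := (P.subgroupOf S).map θ
    have hPP : Cfsg.FusionSystem.preimageAlong θ P' = P := by
      ext x
      constructor
      · intro hx
        obtain ⟨hxS, v, hv, hve⟩ := Fusion91.mem_preimageAlong.mp hx
        have := P.mul_mem hv (hZP (hθeq v ⟨x, hxS⟩ hve))
        simpa using this
      · exact fun hx => Fusion91.mem_preimageAlong.mpr ⟨hf.dom_le hx, ⟨x, hf.dom_le hx⟩, hx, rfl⟩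
    obtain ⟨g, hg, hge⟩ := Fusion92.exists_descend hZn hE (P' := P') le_top (hPP.symm ▸ hf)
    obtain ⟨g', hg', hg'P, hg'X⟩ := hXext P' g hg
    obtain ⟨f', hf', hf'e⟩ := Fusion92.exists_lift hE hg'
    refine ⟨f', hf'.mono (sup_le (fun x hx => ?_) (fun x hx => ?_)), fun u hu => ?_, fun x hx => ?_⟩
    · exact Fusion91.mem_preimageAlong.mpr ⟨hf.dom_le hx, Subgroup.mem_sup_left ⟨⟨x, hf.dom_le hx⟩, hx, rfl⟩⟩
    · obtain ⟨hxS, hx'⟩ := Fusion91.mem_preimageAlong.mp hx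
      exact Fusion91.mem_preimageAlong.mpr ⟨hxS, Subgroup.mem_sup_right hx'⟩
    · have hu' : θ ⟨u, hf.dom_le hu⟩ ∈ P' := ⟨⟨u, hf.dom_le hu⟩, hu, rfl⟩
      obtain ⟨h1, h1e⟩ := hge ⟨u, hf.dom_le hu⟩ hu'
      obtain ⟨h2, h2e⟩ := hf'e ⟨u, hf.dom_le hu⟩ (Subgroup.mem_sup_left hu')
      exact hθeq ⟨_, h1⟩ ⟨_, h2⟩ (by rw [h1e, h2e, hg'P hu'])
    · obtain ⟨hxS, hx'⟩ := Fusion91.mem_preimageAlong.mp hx
      obtain ⟨h2, h2e⟩ := hf'e ⟨x, hxS⟩ (Subgroup.mem_sup_right hx')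
      exact hθeq ⟨x, hxS⟩ ⟨_, h2⟩ (by rw [h2e, hg'X _ hx'])
  -- conjugation by `S` is trivial on `X` modulo `Z`
  have hXS' : ∀ x ∈ X, ∀ u ∈ S, x⁻¹ * (u * x * u⁻¹) ∈ Z := by
    intro x hx u hu
    obtain ⟨f', -, h1, h2⟩ := key S _ (Fusion.isMap_conj le_rfl hu) hZS
    have h3 := mul_mem (h2 x hx) (inv_mem (h1 x (hXS hx)))
    simpa [mul_assoc] using h3
  -- `X` is central in `S`
  have hXc : ∀ x ∈ X, ∀ s ∈ S, s * x = x * s := by
    intro x hx
    suffices h : F.hyperfocalSubgroup p ≤ Subgroup.centralizer {x} by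
      exact fun s hs => (Subgroup.mem_centralizer_iff.mp (h (hperf.symm ▸ hs)) x rfl).symm
    refine (Subgroup.closure_le _).mpr ?_
    rintro _ ⟨P, α, u, hPS, -, rfl⟩
    have hm := ((Fusion.mem_autGroup hPS).mp α.2).1
    obtain ⟨f, hf, hfe, -⟩ := hZext P _ hm
    obtain ⟨f', hf', h1, h2⟩ := key _ f hf le_sup_right
    have hu : (u : Ω) ∈ P ⊔ Z := Subgroup.mem_sup_left u.2
    set c := x⁻¹ * ((u : Ω) * x * (u : Ω)⁻¹) with hcdef
    have hc : c ∈ Z := hXS' x hx u (hPS u.2)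
    have hxM : x ∈ (P ⊔ Z) ⊔ X := Subgroup.mem_sup_right hx
    have huM : (u : Ω) ∈ (P ⊔ Z) ⊔ X := Subgroup.mem_sup_left hu
    have e1 : (f' x)⁻¹ * (f' u * f' x * (f' u)⁻¹) = c := by
      rw [← hf'.map_conj huM hxM, ← hf'.map_inv hxM, ← hf'.map_mul (inv_mem hxM)
        (mul_mem (mul_mem huM hxM) (inv_mem huM))]
      exact hfix _ f' hf' c (mul_mem (inv_mem hxM) (mul_mem (mul_mem huM hxM) (inv_mem huM))) hc
    set v : Ω := (((α : MulAut P) u : P) : Ω)
    have hvS : v ∈ S := hPS ((α : MulAut P) u).2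
    have hfu : f u = v := (hfe u.2).trans (Fusion.autFun_coe _ u)
    obtain ⟨z₁, hz₁, hv1⟩ : ∃ z ∈ Z, f' u = z * v := ⟨v⁻¹ * f' u, hfu ▸ h1 u hu, by
      rw [← hzc _ (hfu ▸ h1 u hu) v hvS]; group⟩
    obtain ⟨z₂, hz₂, hv2⟩ : ∃ z ∈ Z, f' x = x * z := ⟨x⁻¹ * f' x, h2 x hx, by group⟩
    have e2 : f' u * f' x * (f' u)⁻¹ = v * x * v⁻¹ * z₂ := by
      rw [hv1, hv2]
      have h5 := hzc z₂ hz₂ _ (S.inv_mem hvS)
      have h6 := hzc z₁ hz₁ _ (S.mul_mem (S.mul_mem (S.mul_mem hvS (hXS hx)) (S.inv_mem hvS)) (hZS hz₂))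
      calc z₁ * v * (x * z₂) * (z₁ * v)⁻¹ = z₁ * (v * x * (z₂ * v⁻¹)) * z₁⁻¹ := by group
        _ = z₁ * (v * x * (v⁻¹ * z₂)) * z₁⁻¹ := by rw [h5]
        _ = z₁ * (v * x * v⁻¹ * z₂) * z₁⁻¹ := by group
        _ = v * x * v⁻¹ * z₂ := by rw [← h6]; group
    have e3 : c = x⁻¹ * (v * x * v⁻¹) := by
      rw [← e1, e2, hv2]
      have h5 := hzc z₂ hz₂ _ (S.mul_mem (S.inv_mem (hXS hx)) (S.mul_mem (S.mul_mem hvS (hXS hx)) (S.inv_mem hvS)))
      calc (x * z₂)⁻¹ * (v * x * v⁻¹ * z₂) = z₂⁻¹ * (x⁻¹ * (v * x * v⁻¹) * z₂) := by group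
        _ = _ := by rw [h5]; group
    refine Subgroup.mem_centralizer_iff.mpr fun y hy => ?_
    rw [Set.mem_singleton_iff.mp hy]
    have h7 : v * x * v⁻¹ = (u : Ω) * x * (u : Ω)⁻¹ := mul_left_cancel (e3.symm.trans hcdef)
    calc x * ((u : Ω)⁻¹ * v) = (u : Ω)⁻¹ * ((u : Ω) * x * (u : Ω)⁻¹) * v := by group
      _ = (u : Ω)⁻¹ * (v * x * v⁻¹) * v := by rw [h7]
      _ = (u : Ω)⁻¹ * v * x := by group
  have hXP : ∀ P, F.IsCentric P → X ≤ P := fun P hP x hx => hP.2 P (Fusion.isConj_refl hP.1)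
    ⟨hXS hx, Subgroup.mem_centralizer_iff.mpr fun y hy => hXc x hx y (hP.1 hy)⟩
  let E' : Cfsg.FusionSystem S := Fusion.mkSub F S (fun P f => Fusion.IsMap F P f ∧ Fusion.ExtendsFix F X P f)
    (fun hf hfg => ⟨hf.1.congr hfg, hf.2.congr hfg⟩)
    (fun hf => ⟨hf.1, hf.1.dom_le, fun x hx => hf.1.apply_mem hx⟩)
    (fun {P g} hP hg => ⟨Fusion.isMap_conj hP hg, _, Fusion.isMap_conj (sup_le hP hXS) hg, fun _ _ => rfl,
      fun x hx => by show g * x * g⁻¹ = x; rw [hXc x hx g hg]; group⟩)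
    (fun hf hg hm => ⟨hf.1.comp hg.1 hm, hf.2.comp hg.2 hm⟩)
    (fun hf hi hg hgl => ⟨hg.1, hf.2.inv hi hgl⟩)
  have haut : ∀ P, F.IsFullyNormalized P → F.IsCentric P → F.autGroup P ≤ E'.autGroup P := by
    intro P hfn hP
    have hPS := hP.1
    haveI := Fusion.finite_of_le hPS
    haveI := Fus93.finite_autGroup (F := F) hPS
    have hX := hXP P hP
    have hZP : Z ≤ P := fun z hz => hX (Fusion91.mem_preimageAlong.mpr ⟨hZS hz, by
      have : θ ⟨z, hZS hz⟩ = 1 := (QuotientGroup.eq_one_iff _).mpr hz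
      rw [this]; exact one_mem _⟩)
    set A := F.autGroup P
    let K : Subgroup A :=
      { carrier := {a | ∀ (x : Ω) (hx : x ∈ X), (a : MulAut P) ⟨x, hX hx⟩ = ⟨x, hX hx⟩}
        one_mem' := fun x hx => rfl
        mul_mem' := fun {a b} ha hb x hx => by
          show (a : MulAut P) ((b : MulAut P) ⟨x, hX hx⟩) = _
          rw [hb x hx, ha x hx]
        inv_mem' := fun {a} ha x hx => by
          show (a : MulAut P).symm ⟨x, hX hx⟩ = _
          rw [MulEquiv.symm_apply_eq, ha x hx] }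
    have hres : pResidual p A ≤ K := by
      refine (Subgroup.closure_le _).mpr fun a ha x hx => ?_
      have hm := ((Fusion.mem_autGroup hPS).mp a.2).1
      obtain ⟨f', -, h1, h2⟩ := key P _ hm hZP
      refine Fus93.eq_self_of_fixed (hS.of_injective _ (Subgroup.inclusion_injective hPS))
        (by rw [Subgroup.orderOf_coe]; exact ha) _ ?_
      have h3 := mul_mem (h2 x hx) (inv_mem (h1 x (hX hx)))
      rw [mul_inv_rev, inv_inv, mul_assoc, mul_inv_cancel_left, Fusion.autFun_of_mem _ (hX hx)] at h3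
      apply Subtype.ext
      rw [← Fusion.autFun_coe]
      exact hfix P _ hm _ (Subtype.mem _) (by simpa using h3)
    obtain ⟨-, R₀, hR₀⟩ := Fusion.fullyAutomized_of_fullyNormalized hS hF hfn
    have hRK : (R₀ : Subgroup A) ≤ K := by
      rw [hR₀]
      intro a ha x hx
      obtain ⟨g, hg, hge⟩ := Fusion.mem_autInducedBy.mp ha
      apply Subtype.ext
      show (((a : MulAut P) ⟨x, hX hx⟩ : P) : Ω) = x
      refine (hge ⟨x, hX hx⟩).trans ?_
      show g * x * g⁻¹ = x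
      rw [hXc x hx g hg]; group
    haveI : (pResidual p A).Normal := Subgroup.normal_of_characteristic _
    have htop : (R₀ : Subgroup A) ⊔ pResidual p A = ⊤ := by
      refine Subgroup.index_eq_one.mp ?_
      obtain ⟨n, hn⟩ := IsPGroup.iff_card.mp (Thompson.isPGroup_quotient_pResidual (p := p) (G := A))
      have hd : ((R₀ : Subgroup A) ⊔ pResidual p A).index ∣ p ^ n :=
        hn ▸ Subgroup.index_dvd_of_le le_sup_right
      have hd' : ¬ p ∣ ((R₀ : Subgroup A) ⊔ pResidual p A).index := fun h =>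
        R₀.not_dvd_index (h.trans (Subgroup.index_dvd_of_le le_sup_left))
      obtain ⟨k, -, hk⟩ := (Nat.dvd_prime_pow (Fact.out : p.Prime)).mp hd
      rcases k with _ | k
      · simpa using hk
      · exact absurd (hk ▸ dvd_pow_self p k.succ_ne_zero) hd'
    intro a ha
    have hK : (⟨a, ha⟩ : A) ∈ K := (sup_le hRK hres) (htop.ge trivial)
    refine Fusion.autGroup_mem_of_isMap (Fusion.isMap_mkSub.mpr ⟨((Fusion.mem_autGroup hPS).mp ha).1,
      Fusion.autFun a, ((Fusion.mem_autGroup hPS).mp ha).1.mono (sup_le le_rfl hX), fun _ _ => rfl,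
      fun x hx => ?_⟩)
    rw [Fusion.autFun_of_mem a (hX hx)]
    exact congrArg Subtype.val (hK x hx)
  have hcS : F.IsCentric S := ⟨le_rfl, fun R hR => by
    rw [Subgroup.eq_of_le_of_card_ge (Fusion.isConj_le_right hR) (Fusion.isConj_card hR).le]
    exact inf_le_left⟩
  have hfnS : F.IsFullyNormalized S := ⟨le_rfl, fun R hR =>
    haveI := Fusion.finite_of_le (Fusion.normalizerIn_le S S)
    Subgroup.card_le_of_le (inf_le_left.trans (Fusion.le_normalizerIn le_rfl))⟩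
  have hle : F ≤ E' := Fus93.le_of_aut hS hF E' (haut S hfnS hcS) fun P _ h1 h2 _ _ => haut P h1 h2
  have hX : F.IsCentral X := Fusion.isCentral_iff.mpr
    ⟨hXS, fun P f hf => (Fusion.isMap_mkSub.mp (hf.of_le hle)).2⟩
  refine eq_bot_iff.mpr fun y hy => ?_
  obtain ⟨s, rfl⟩ := QuotientGroup.mk'_surjective (Z.subgroupOf S) y
  exact Subgroup.mem_bot.mpr ((QuotientGroup.eq_one_iff s).mpr
    (le_sSup (s := {Q : Subgroup Ω | F.IsCentral Q}) hX (Fusion91.mem_preimageAlong.mpr ⟨s.2, hy⟩)))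

end Cfsg.Agent.S5315
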