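import Cfsg.Statements.S5316
import Cfsg.Agent.MaxEss41.TypeTwo
import Cfsg.Agent.Fusion91.SmallEssential

set_option autoImplicit false
open Cfsg

namespace Cfsg.Agent.S5316

open Cfsg.Agent.Fusion Cfsg.Agent.MaxEss41
open Cfsg.FusionSystem (normalizerIn centralizerIn)

variable {Ω : Type*} [Group Ω] {S : Subgroup Ω} {p : ℕ} [Fact p.Prime]

theorem cand_of_conj [Finite S] (hS : IsPGroup p ↥S) (hbig : p ^ 5 ≤ Nat.card ↥S)
    {F : Cfsg.FusionSystem S} {E E' : Subgroup Ω} (hE : F.IsEssential p E)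
    (hcard : Nat.card ↥E = p ^ 3) (hab : IsMulCommutative ↥E)
    (hN : Nat.card ↥(normalizerIn S E) = p ^ 4) (hc : F.IsConj E E') : Cand S p E' := by
  have hp1 := (Fact.out : p.Prime).one_lt
  have hle : E' ≤ S := isConj_le_right hc
  have hc3 : Nat.card ↥E' = p ^ 3 := (isConj_card hc).symm.trans hcard
  obtain ⟨f, hf⟩ := isConj_iff.1 hc
  have hab' : IsMulCommutative ↥E' := ⟨⟨fun a b => by
    obtain ⟨a', rfl⟩ := hf.equiv.surjective a
    obtain ⟨b', rfl⟩ := hf.equiv.surjective b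
    rw [← map_mul, ← map_mul, hab.is_comm.comm a' b']⟩⟩
  refine ⟨hle, hc3, hab', ?_, le_antisymm ((hE.2.1.2 E' hc).trans_eq hN) ?_⟩
  · exact le_antisymm (hE.1.2 E' hc) fun x hx => ⟨hle hx, Subgroup.mem_centralizer_iff.2 fun y hy =>
      congrArg Subtype.val (hab'.is_comm.comm (⟨y, hy⟩ : ↥E') ⟨x, hx⟩)⟩
  have hlt : E' < S := lt_of_le_of_ne hle fun h => by
    rw [← h, hc3] at hbig
    exact absurd ((Nat.pow_le_pow_iff_right hp1).1 hbig) (by omega)
  have h2 := lt_normalizerIn hS hlt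
  haveI : Finite ↥(normalizerIn S E') := finite_of_le inf_le_left
  have hp' : IsPGroup p ↥(normalizerIn S E') := hS.to_le inf_le_left
  obtain ⟨k, hk⟩ := IsPGroup.iff_card.1 hp'
  have h3 : Nat.card ↥E' < Nat.card ↥(normalizerIn S E') :=
    lt_of_le_of_ne (Subgroup.card_le_of_le h2.le)
      fun hh => h2.ne (Subgroup.eq_of_le_of_card_ge h2.le hh.ge)
  rw [hc3, hk] at h3
  rw [hk]
  exact Nat.pow_le_pow_right (Fact.out : p.Prime).pos ((Nat.pow_lt_pow_iff_right hp1).1 h3)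

theorem ess_of_conj [Finite S] {F : Cfsg.FusionSystem S} {E E' : Subgroup Ω}
    (hE : F.IsEssential p E) (hab : IsMulCommutative ↥E) (hab' : IsMulCommutative ↥E')
    (hc : F.IsConj E E')
    (hN : Nat.card ↥(normalizerIn S E') = Nat.card ↥(normalizerIn S E)) : F.IsEssential p E' := by
  obtain ⟨hcen, hfn, hn, M, hM⟩ := hE
  have hle : E' ≤ S := isConj_le_right hc
  refine ⟨⟨hle, fun Q hQ => hcen.2 Q (isConj_trans hc hQ)⟩,
    ⟨hle, fun Q hQ => (hfn.2 Q (isConj_trans hc hQ)).trans hN.ge⟩, inn_subgroupOf_normal, ?_⟩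
  obtain ⟨f, hf⟩ := isConj_iff.1 hc
  haveI : Finite ↥E := finite_of_le hcen.1
  haveI : Finite ↥E' := finite_of_le hle
  haveI := finite_mulAut ↥E
  haveI := finite_mulAut ↥E'
  haveI := inn_subgroupOf_normal (F := F) (P := E')
  have b1 : (Cfsg.Inn E).subgroupOf (F.autGroup E) = ⊥ := by
    rw [Fusion91.inn_eq_bot hab, Subgroup.bot_subgroupOf]
  have b2 : (Cfsg.Inn E').subgroupOf (F.autGroup E') = ⊥ := by
    rw [Fusion91.inn_eq_bot hab', Subgroup.bot_subgroupOf]
  exact ⟨_, spe_map ((((QuotientGroup.quotientMulEquivOfEq b1).trans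
    QuotientGroup.quotientBot).trans hf.autEquiv).trans
    ((QuotientGroup.quotientMulEquivOfEq b2).trans QuotientGroup.quotientBot).symm) hM⟩


/-- Let p ≥ 5 be a prime, S a finite p-group of maximal class of order p^n with n ≥ 5 (nilpotency class n − 1), F a saturated fusion system over S, and E an F-essential subgroup that is not a pearl (not elementary abelian of order p² and not extraspecial of order p³ and exponent p). Then E has order at least p⁴. -/
theorem result {Ω : Type*} [Group Ω] {S : Subgroup Ω} [Finite S] (p : ℕ) [Fact p.Prime] (hp : 5 ≤ p) (hS : IsPGroup p ↥S) (n : ℕ) (hn : Nat.card S = p ^ n) (h5 : 5 ≤ n)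
    (hmax : Subgroup.lowerCentralSeries S (n - 2) ≠ ⊥) (F : Cfsg.FusionSystem S) (hF : F.IsSaturated p)
    (E : Subgroup Ω) (hE : F.IsEssential p E)
    (hnp : ¬ ((Nat.card ↥E = p ^ 2 ∧ Cfsg.IsElementaryAbelian p E) ∨ (Nat.card ↥E = p ^ 3 ∧ Cfsg.IsExtraspecial p ↥E ∧ Monoid.exponent ↥E = p))) :
    p ^ 4 ≤ Nat.card ↥E := by
  have hp' := (Fact.out : p.Prime)
  have hp1 := hp'.one_lt
  have : Finite E := finite_of_le hE.1.1
  obtain ⟨k, hk⟩ := IsPGroup.iff_card.1 (hS.to_le hE.1.1)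
  by_contra hlt
  rw [hk, not_le] at hlt
  have hk4 : k < 4 := (Nat.pow_lt_pow_iff_right hp1).1 hlt
  have hk3 : k = 3 := by
    rcases (by omega : k = 0 ∨ k = 1 ∨ k = 2 ∨ k = 3) with rfl | rfl | rfl | rfl
    · refine absurd ?_ (Fusion91.not_isCyclic_of_essential hE)
      haveI : Subsingleton ↥E := (Nat.card_eq_one_iff_unique.1 (by simpa using hk)).1
      infer_instance
    · exact absurd (isCyclic_of_prime_card (p := p) (by simpa using hk))
        (Fusion91.not_isCyclic_of_essential hE)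
    · exact absurd (Or.inl ⟨hk, (Fusion91.sl2_of_essential_sq hS hE hk).1⟩) hnp
    · rfl
  subst hk3
  have hel : Cfsg.IsElementaryAbelian p E := by
    rcases Fusion91.essential_cube hS hE hk with h | ⟨-, hx, he⟩ | ⟨h2, -⟩
    · exact h
    · refine absurd (Or.inr ⟨hk, hx, ?_⟩) hnp
      have hd : Monoid.exponent ↥E ∣ p :=
        Monoid.exponent_dvd_of_forall_pow_eq_one fun x => Subtype.ext (he x x.2)
      rcases (Nat.dvd_prime hp').1 hd with h1 | h1
      · haveI := Monoid.exp_eq_one_iff.1 h1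
        rw [Nat.card_of_subsingleton (1 : ↥E)] at hk
        exact absurd hk (Nat.one_lt_pow (by omega) hp1).ne
      · exact h1
    · omega
  have hbig : p ^ 5 ≤ Nat.card ↥S := hn ▸ Nat.pow_le_pow_right hp'.pos h5
  have hC : Cfsg.FusionSystem.centralizerIn S E = E :=
    le_antisymm (hE.1.2 E (isConj_refl hE.1.1)) fun x hx =>
      ⟨hE.1.1 hx, Subgroup.mem_centralizer_iff.2 fun y hy =>
        congrArg Subtype.val (hel.1.is_comm.comm (⟨y, hy⟩ : ↥E) ⟨x, hx⟩)⟩
  obtain ⟨f, L, l, x0, φ⟩ :=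
    MaxEss41.exists_flip hS hF (by omega) hbig hE hk hel.1 hel.2 hC
  have hmc := MaxEss41.maxCl_of_lcs hS hn (by omega) hmax
  have hcand : ∀ E', F.IsConj E E' → Cand S p E' := fun E' hc =>
    cand_of_conj hS hbig hE hk hel.1 φ.card_N hc
  by_cases hall : ∀ E', F.IsConj E E' → gam S (n - 2) ≤ E'
  · exact (⟨hp, h5, hF, hmc, hE, hel.2, hcand⟩ : Ctx F p n E).false_all hall
  push Not at hall
  obtain ⟨E', hc, hZ⟩ := hall
  have c' := hcand E' hc
  have hexp : ∀ x ∈ E', x ^ p = 1 := by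
    intro x hx
    obtain ⟨g, hg⟩ := isConj_iff.1 hc
    obtain ⟨y, hy, rfl⟩ := hg.exists_preimage hx
    rw [← hg.1.map_pow hy, hel.2 y hy, hg.1.map_one]
  have hE' : F.IsEssential p E' :=
    ess_of_conj hE hel.1 c'.comm hc (c'.card_N.trans φ.card_N.symm)
  have C' : Ctx F p n E' :=
    ⟨hp, h5, hF, hmc, hE', hexp, fun Q hQ => hcand Q (isConj_trans hc hQ)⟩
  obtain ⟨f', L', l', x0', φ'⟩ := C'.exists_flip
  exact C'.false_two φ' hZ

end Cfsg.Agent.S5316
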