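import Cfsg.Statements.S5322
import Cfsg.Agent.J3Cert.CShape
import Cfsg.Agent.J2Fusion14.Shape
-- import your own Cfsg.Agent.* helpers here

set_option autoImplicit false
open Cfsg

namespace Cfsg.Agent.S5322

/-- For a finite group G isomorphic to the third Janko group J₃, the 2-fusion system of G on a Sylow 2-subgroup is simple: saturated, over a nontrivial 2-group, with no normal subsystem other than the trivial one and itself. -/
theorem result {G : Type*} [Group G] [Finite G] (hG : Cfsg.Spor.IsoJ3 G) (S : Sylow 2 G) : (Cfsg.groupFusionSystem (S : Subgroup G)).IsSimple 2 := by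
  obtain ⟨F, _, _, ω, hF, hω, ⟨e⟩⟩ := hG
  have h := Cfsg.Agent.J3Cert.four_of_card hF hω
  haveI : Finite (Cfsg.Spor.J3 F ω) :=
    Nat.finite_of_card_ne_zero (by rw [Cfsg.Agent.J3Cert.card_J3 h hF]; norm_num)
  obtain ⟨Q, hQ, h1, h2, -, -, ⟨eA⟩, hmove, hnwc⟩ := Cfsg.Agent.J3Cert.shape h hF
  haveI := hQ
  have hJ := Cfsg.Agent.J2Fusion14.hj_of_shape (Cfsg.Agent.J3Cert.orderOf_tQ h hF) Q h2 h1 eA hmove hnwc
  exact Cfsg.Agent.J2Fusion14.isSimple (Cfsg.Agent.J2Fusion14.hj_map e.symm hJ) S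

end Cfsg.Agent.S5322
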