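import Cfsg.Statements.S5326
import Cfsg.Agent.Lib.Fusion.Saturation
import Cfsg.Agent.LocalEven61.StronglyEmbedded

set_option autoImplicit false
open Cfsg

namespace Cfsg.Agent.S5326

open Cfsg.Agent.Fusion

variable {Ω : Type*} [Group Ω] {S : Subgroup Ω}

/-- The condition on a map out of a conjugate of `Q`: transported to `Q` it lies in `H`. -/
def Cond (F : FusionSystem S) (Q : Subgroup Ω) (ρ : Subgroup Ω → Ω → Ω)
    (H : Subgroup (F.autGroup Q)) (P : Subgroup Ω) (f : Ω → Ω) : Prop :=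
  ∀ P', F.IsConj Q P → IsIso F P P' f →
    ∃ α ∈ H, Set.EqOn (autFun (α : MulAut Q) ∘ ρ P) (ρ P' ∘ f) P

theorem cond_congr {F : FusionSystem S} {Q : Subgroup Ω} {ρ : Subgroup Ω → Ω → Ω}
    {H : Subgroup (F.autGroup Q)} {P : Subgroup Ω} {f g : Ω → Ω} (h : Cond F Q ρ H P f)
    (hfg : Set.EqOn f g P) : Cond F Q ρ H P g := by
  intro P' hP hg
  obtain ⟨α, hα, he⟩ := h P' hP (hg.congr hfg.symm)
  exact ⟨α, hα, fun x hx => (he hx).trans (congrArg (ρ P') (hfg hx))⟩

/-- A family of transports to `Q`. -/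
structure Transport (F : FusionSystem S) (Q : Subgroup Ω) (ρ : Subgroup Ω → Ω → Ω) : Prop where
  iso : ∀ P, F.IsConj Q P → IsIso F P Q (ρ P)
  map : ∀ P, F.IsConj Q P → IsMap F (FusionSystem.normalizerIn S P) (ρ P)

/-- The maps of `F` satisfying `Cond`. -/
def sys (F : FusionSystem S) (Q : Subgroup Ω) (ρ : Subgroup Ω → Ω → Ω) (hρ : Transport F Q ρ)
    (H : Subgroup (F.autGroup Q))
    (hext : ∀ P P' R f, F.IsConj Q P → IsIso F P P' f → IsMap F R f → P < R → Cond F Q ρ H P f)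
    (hlt : ∀ P, F.IsConj Q P → P < S) : FusionSystem S where
  Hom P := {φ | φ ∈ F.Hom P ∧ Cond F Q ρ H P (extFun φ)}
  le_of_mem h := F.le_of_mem h.1
  injective_of_mem h := F.injective_of_mem h.1
  conj_mem {P g} hP hg := by
    refine ⟨F.conj_mem hP hg, fun P' hQP hiso => ?_⟩
    have he : Set.EqOn (extFun (conjHom P g)) (fun x => g * x * g⁻¹) P := fun x hx =>
      extFun_of_mem (conjHom P g) hx
    exact cond_congr (hext P P' S _ hQP (hiso.congr he) (isMap_conj le_rfl hg) (hlt P hQP))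
      he.symm P' hQP hiso
  comp_mem {P R φ ψ} hφ hψ h := by
    refine ⟨F.comp_mem hφ.1 hψ.1 h, fun P₂ hQP hiso => ?_⟩
    obtain ⟨P₁, hP₁⟩ := (isMap_extFun hφ.1).exists_image
    obtain ⟨α, hα, ha⟩ := hφ.2 P₁ hQP hP₁
    have hQP₁ : F.IsConj Q P₁ := isConj_trans hQP hP₁.isConj
    have hle : P₁ ≤ R := fun y hy => by
      obtain ⟨x, hx, rfl⟩ := hP₁.exists_preimage hy
      rw [extFun_of_mem φ hx]; exact h _
    have hψm := (isMap_extFun hψ.1).mono hle
    have hcomp : Set.EqOn (extFun (ψ.comp (φ.codRestrict R h))) (extFun ψ ∘ extFun φ) P := by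
      intro x hx
      rw [Function.comp_apply, extFun_of_mem _ hx, extFun_of_mem _ hx, extFun_of_mem _ (h ⟨x, hx⟩)]
      rfl
    obtain ⟨P₂', hP₂⟩ := hψm.exists_image
    obtain rfl : P₂ = P₂' := hiso.cod_unique ((hP₁.comp hP₂).congr hcomp.symm)
    obtain ⟨β, hβ, hb⟩ : ∃ β ∈ H, Set.EqOn (autFun (β : MulAut Q) ∘ ρ P₁) (ρ P₂ ∘ extFun ψ) P₁ := by
      by_cases hR : P₁ = R
      · subst hR
        exact hψ.2 P₂ hQP₁ hP₂
      · exact hext P₁ P₂ R _ hQP₁ hP₂ (isMap_extFun hψ.1) (lt_of_le_of_ne hle hR) P₂ hQP₁ hP₂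
    refine ⟨β * α, mul_mem hβ hα, fun x hx => ?_⟩
    have hρx : ρ P x ∈ Q := (hρ.iso P hQP).mem hx
    have h1 : autFun ((β : MulAut Q) * (α : MulAut Q)) (ρ P x) = autFun (β : MulAut Q) (autFun (α : MulAut Q) (ρ P x)) :=
      autFun_mul _ _ hρx
    have h2 : autFun (α : MulAut Q) (ρ P x) = ρ P₁ (extFun φ x) := ha hx
    simp only [Function.comp_apply, Subgroup.coe_mul]
    rw [h1, h2]
    refine (hb (hP₁.mem hx)).trans ?_
    rw [hcomp hx]
    rfl
  inv_mem {P φ} hφ := by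
    obtain ⟨ψ, hψ, hi⟩ := F.inv_mem hφ.1
    refine ⟨ψ, ⟨hψ, fun P' hQ hiso => ?_⟩, hi⟩
    have hiso₀ := IsMap.isIso_range hφ.1
    have hleft : ∀ x ∈ P, extFun ψ (extFun φ x) = x := fun x hx => by
      rw [extFun_of_mem φ hx, extFun_of_mem ψ ⟨⟨x, hx⟩, rfl⟩]
      exact hi ⟨x, hx⟩
    obtain rfl : P' = P := by
      refine SetLike.coe_injective (hiso.2.symm.trans ?_)
      rw [← hiso₀.2, Set.image_image]
      exact (Set.image_congr hleft).trans (Set.image_id _)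
    have hQP : F.IsConj Q P' := isConj_trans hQ hiso.isConj
    obtain ⟨α, hα, ha⟩ := hφ.2 _ hQP hiso₀
    refine ⟨α⁻¹, inv_mem hα, fun y hy => ?_⟩
    obtain ⟨x, hx, rfl⟩ := hiso₀.exists_preimage hy
    have hρx : ρ P' x ∈ Q := (hρ.iso P' hQP).mem hx
    simp only [Function.comp_apply, Subgroup.coe_inv, hleft x hx]
    have h1 : ρ φ.range (extFun φ x) = autFun (α : MulAut Q) (ρ P' x) := (ha hx).symm
    rw [h1]
    have h2 := (autFun_mul (α : MulAut Q)⁻¹ (α : MulAut Q) hρx).symm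
    rw [Function.comp_apply, inv_mul_cancel, autFun_one hρx] at h2
    exact h2

/-- Let F be a saturated fusion system over a finite p-group S and Q an essential subgroup. Then the F-conjugacy class of Q cannot be left out of a generating family: there is a fusion system E over S whose automorphism group of every subgroup R ≤ S not F-conjugate to Q contains Aut_F(R), and yet E does not contain every map of F. -/
theorem result {Ω : Type*} [Group Ω] {S : Subgroup Ω} [Finite S] (p : ℕ) [Fact p.Prime] (hS : IsPGroup p S) (F : Cfsg.FusionSystem S) (hF : F.IsSaturated p) (Q : Subgroup Ω) (hQ : F.IsEssential p Q) : ∃ E : Cfsg.FusionSystem S, (∀ R : Subgroup Ω, R ≤ S → ¬ F.IsConj Q R → F.autGroup R ≤ E.autGroup R) ∧ ¬ F ≤ E := by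
  classical
  obtain ⟨hc, hn, hN, E₀, hE₀⟩ := hQ
  have hQS : Q ≤ S := hn.1
  haveI := hN
  haveI : Finite Q := Fusion.finite_of_le hQS
  haveI : Finite (MulAut Q) := Fusion.finite_mulAut Q
  let A := F.autGroup Q
  let N : Subgroup A := (Cfsg.Inn Q).subgroupOf A
  obtain ⟨R₀, hR₀⟩ := Fusion.fullyAutomized_of_fullyNormalized hS hF hn |>.2
  let T : Sylow p (A ⧸ N) := R₀.mapSurjective (QuotientGroup.mk'_surjective N)
  obtain ⟨hd, htop, P₀, hP₀⟩ := id hE₀
  have hmeet := Cfsg.Agent.LocalEven61.conjInterCoprime_of_normalizersLE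
    (Cfsg.Agent.LocalEven61.normalizersLE_of_spe hE₀)
  have hP₀E : (P₀ : Subgroup (A ⧸ N)) ≤ E₀ := by
    rw [Cfsg.Agent.LocalEven61.kGeneratedCore_one_le_iff P₀.2] at hP₀
    exact Subgroup.le_normalizer.trans (hP₀ _ le_rfl (Sylow.ne_bot_of_dvd_card P₀ hd))
  obtain ⟨c, hc'⟩ := MulAction.exists_smul_eq (A ⧸ N) T P₀
  let π : A →* A ⧸ N := (MulAut.conj c).toMonoidHom.comp (QuotientGroup.mk' N)
  have hπ : Function.Surjective π :=
    (MulAut.conj c).surjective.comp (QuotientGroup.mk'_surjective N)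
  let H : Subgroup A := E₀.comap π
  have hinner : ∀ a : A, (a : MulAut Q) ∈ autInducedBy S Q → π a ∈ (P₀ : Subgroup (A ⧸ N)) := by
    intro a ha
    rw [← hc', Sylow.smul_def]
    refine Subgroup.smul_mem_pointwise_smul _ (MulAut.conj c) _ ?_
    exact ⟨a, by rw [hR₀]; exact ha, rfl⟩
  have hρex : ∀ P, ∃ f : Ω → Ω, F.IsConj Q P →
      Fusion.IsMap F (FusionSystem.normalizerIn S P) f ∧ Fusion.IsIso F P Q f := by
    intro P
    by_cases h : F.IsConj Q P
    · obtain ⟨f, hf, hi, -⟩ := Fusion.exists_normalizer_map hS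
        (Fusion.fullyAutomized_of_fullyNormalized hS hF hn)
        (Fusion.receptive_of_fullyNormalized hS hF hn) (Fusion.isConj_symm h)
      exact ⟨f, fun _ => ⟨hf, hi⟩⟩
    · exact ⟨id, fun h' => absurd h' h⟩
  choose ρ hρ' using hρex
  have hρ : Transport F Q ρ := ⟨fun P h => (hρ' P h).2, fun P h => (hρ' P h).1⟩
  -- conjugates of `Q` are proper in `S`
  have hQlt : Q ≠ S := by
    rintro rfl
    refine hd.elim fun k hk => ?_
    have h1 : (autInducedBy Q Q).subgroupOf A = N := by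
      simp only [N, Fusion.autInducedBy_self_eq_inn]
    rw [h1] at hR₀
    exact R₀.not_dvd_index (show p ∣ (R₀ : Subgroup A).index from hR₀.symm ▸ hd)
  have hlt : ∀ P, F.IsConj Q P → P < S := fun P hP =>
    lt_of_le_of_ne (Fusion.isConj_le_right hP) fun h => hQlt
      (Subgroup.eq_of_le_of_card_ge hQS (by rw [Fusion.isConj_card hP, h]))
  -- a map extending to a larger subgroup transports into `H`
  have hext : ∀ P P' R f, F.IsConj Q P → Fusion.IsIso F P P' f → Fusion.IsMap F R f → P < R →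
      Cond F Q ρ H P f := by
    intro P P' R f hQP hiso hfR hPR P'' _ hiso'
    obtain rfl : P'' = P' := hiso'.cod_unique hiso
    have hQP' : F.IsConj Q P'' := Fusion.isConj_trans hQP hiso.isConj
    obtain ⟨σ, hσ, hσ1, -⟩ := (hρ.iso P hQP).exists_inv
    obtain ⟨θ, hθA, hθe⟩ := ((hσ.comp hiso).comp (hρ.iso P'' hQP')).exists_aut
    refine ⟨⟨θ, hθA⟩, ?_, fun x hx => ?_⟩
    swap
    · have h1 : autFun θ (ρ P x) = (ρ P'' ∘ f ∘ σ) (ρ P x) := hθe ((hρ.iso P hQP).mem hx)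
      simp only [Function.comp_apply, hσ1 x hx] at h1
      exact h1
    -- an element of `N_R(P)` outside `P`
    haveI : Finite R := Fusion.finite_of_le hfR.dom_le
    haveI : Fintype R := Fintype.ofFinite R
    haveI := (hS.of_injective _ (Subgroup.inclusion_injective hfR.dom_le)).isNilpotent
    have hlt' : P.subgroupOf R < ⊤ := by
      refine lt_top_iff_ne_top.mpr fun h => not_le_of_gt hPR ?_
      exact Subgroup.subgroupOf_eq_top.mp h
    obtain ⟨r, hrN, hrP⟩ := SetLike.exists_of_lt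
      (Group.normalizerCondition_of_isNilpotent (P.subgroupOf R) hlt')
    have hrn : (r : Ω) ∈ Subgroup.normalizer (P : Set Ω) := by
      refine Subgroup.mem_normalizer_iff.mpr fun y => ⟨fun hy => ?_, fun hy => ?_⟩
      · exact (Subgroup.mem_normalizer_iff.mp hrN ⟨y, hPR.le hy⟩).mp hy
      · have hyR : y ∈ R := by
          have := R.mul_mem (R.mul_mem (R.inv_mem r.2) (hPR.le hy)) r.2
          simpa [mul_assoc] using this
        exact (Subgroup.mem_normalizer_iff.mp hrN ⟨y, hyR⟩).mpr hy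
    have hrNS : (r : Ω) ∈ FusionSystem.normalizerIn S P := ⟨hfR.dom_le r.2, hrn⟩
    have hρm := hρ.map P hQP
    have hPN : P ≤ FusionSystem.normalizerIn S P :=
      Fusion.le_normalizerIn (Fusion.isConj_le_right hQP)
    set s := ρ P r
    have hs : s ∈ FusionSystem.normalizerIn S Q :=
      Fusion.map_mem_normalizer hρm hPN (hρ.iso P hQP).2 hrNS hrn
    have hfr : f r ∈ FusionSystem.normalizerIn S P'' :=
      Fusion.map_mem_normalizer hfR hPR.le hiso.2 r.2 hrn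
    set s' := ρ P'' (f r)
    have hPN' : P'' ≤ FusionSystem.normalizerIn S P'' := Fusion.le_normalizerIn hiso.cod_le
    have hρm' := hρ.map P'' hQP'
    have hs' : s' ∈ FusionSystem.normalizerIn S Q :=
      Fusion.map_mem_normalizer hρm' hPN' (hρ.iso P'' hQP').2 hfr hfr.2
    let a : A := ⟨Fusion.conjAutHom S Q ⟨s, hs⟩, Fusion.autInducedBy_le_autGroup hQS
      (Fusion.range_conjAutHom S Q ▸ ⟨_, rfl⟩)⟩
    let b : A := ⟨Fusion.conjAutHom S Q ⟨s', hs'⟩, Fusion.autInducedBy_le_autGroup hQS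
      (Fusion.range_conjAutHom S Q ▸ ⟨_, rfl⟩)⟩
    have hmul : (⟨θ, hθA⟩ : A) * a = b * ⟨θ, hθA⟩ := by
      refine Subtype.ext (MulEquiv.ext fun q => Subtype.ext ?_)
      obtain ⟨x, hx, hxq⟩ := (hρ.iso P hQP).exists_preimage q.2
      have hconj : (r : Ω) * x * (r : Ω)⁻¹ ∈ P := Fusion.conj_mem_of_mem_normalizer hrn hx
      have hθ : ∀ (u : Q) (y : Ω), y ∈ P → ρ P y = (u : Ω) → (θ u : Ω) = ρ P'' (f y) := by
        intro u y hy hu
        rw [← Fusion.autFun_coe θ u, ← hu, hθe ((hρ.iso P hQP).mem hy)]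
        simp [hσ1 y hy]
      show ((θ ((Fusion.conjAutHom S Q ⟨s, hs⟩) q) : Q) : Ω) =
        ((Fusion.conjAutHom S Q ⟨s', hs'⟩) (θ q) : Q)
      rw [hθ _ _ hconj ?_]
      · show _ = s' * ((θ q : Q) : Ω) * s'⁻¹
        rw [hθ q x hx hxq, hfR.map_conj r.2 (hPR.le hx)]
        exact hρm'.map_conj hfr (hPN' (hiso.mem hx))
      · show ρ P ((r : Ω) * x * (r : Ω)⁻¹) = s * (q : Ω) * s⁻¹
        rw [← hxq, hρm.map_conj hrNS (hPN hx)]
    have ha1 : π a ≠ 1 := by
      intro h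
      have h1 : a ∈ N := by
        have h2 : QuotientGroup.mk' N a = 1 := (MulAut.conj c).injective (h.trans (map_one _).symm)
        exact (QuotientGroup.eq_one_iff a).mp h2
      obtain ⟨u, hu, hue⟩ := Fusion.mem_inn.mp (Subgroup.mem_subgroupOf.mp h1)
      have hcen : u⁻¹ * s ∈ FusionSystem.centralizerIn S Q := by
        refine ⟨S.mul_mem (S.inv_mem (hQS hu)) hs.1, Subgroup.mem_centralizer_iff.mpr fun y hy => ?_⟩
        have h2 : s * y * s⁻¹ = u * y * u⁻¹ := hue ⟨y, hy⟩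
        calc y * (u⁻¹ * s) = u⁻¹ * (u * y * u⁻¹) * s := by group
          _ = u⁻¹ * (s * y * s⁻¹) * s := by rw [h2]
          _ = u⁻¹ * s * y := by group
      have hsQ : s ∈ Q := by
        have := Q.mul_mem hu (hc.2 Q (Fusion.isConj_refl hQS) hcen)
        simpa using this
      obtain ⟨x, hx, hxe⟩ := (hρ.iso P hQP).exists_preimage hsQ
      exact hrP (show (r : Ω) ∈ P from hρm.injOn (hPN hx) hrNS hxe ▸ hx)
    by_contra hθH
    refine hmeet (π ⟨θ, hθA⟩) hθH ?_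
    have hb : π b ∈ (P₀ : Subgroup (A ⧸ N)) :=
      hinner b (Fusion.range_conjAutHom S Q ▸ ⟨_, rfl⟩)
    have ha : π a ∈ (P₀ : Subgroup (A ⧸ N)) :=
      hinner a (Fusion.range_conjAutHom S Q ▸ ⟨_, rfl⟩)
    have hbconj : π b = π ⟨θ, hθA⟩ * π a * (π ⟨θ, hθA⟩)⁻¹ := by
      rw [← map_mul, hmul, map_mul, mul_inv_cancel_right]
    have hbne : π b ≠ 1 := by
      rw [hbconj]; intro h; exact ha1 (conj_eq_one_iff.mp h)
    have hmem : π b ∈ E₀ ⊓ E₀.map (MulAut.conj (π ⟨θ, hθA⟩)).toMonoidHom :=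
      ⟨hP₀E hb, π a, hP₀E ha, hbconj.symm⟩
    obtain ⟨k, hk⟩ := P₀.2 ⟨π b, hb⟩
    have hord : orderOf (π b) ∣ p ^ k :=
      orderOf_dvd_of_pow_eq_one (congrArg Subtype.val hk)
    obtain ⟨j, -, hj⟩ := (Nat.dvd_prime_pow Fact.out).mp hord
    have hj0 : j ≠ 0 := fun h0 => hbne (orderOf_eq_one_iff.mp (by rw [hj, h0, pow_zero]))
    exact (hj ▸ dvd_pow_self p hj0).trans (Subgroup.orderOf_dvd_natCard _ hmem)
  refine ⟨sys F Q ρ hρ H hext hlt, fun R hR hnc => ?_, fun hle => ?_⟩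
  · intro α hα
    refine Subgroup.subset_closure ⟨(Fusion.mem_autGroup_iff_hom hR).mp hα, ?_⟩
    exact fun P' hc' _ => absurd hc' hnc
  · have hH : H ≠ ⊤ := by
      intro h
      refine htop (eq_top_iff.mpr fun e _ => ?_)
      obtain ⟨a, rfl⟩ := hπ e
      exact (h ▸ Subgroup.mem_top a : a ∈ H)
    obtain ⟨γ, -, hγ⟩ := SetLike.exists_of_lt (lt_top_iff_ne_top.mpr hH)
    have hQQ : F.IsConj Q Q := Fusion.isConj_refl hQS
    obtain ⟨r, hrA, hre⟩ := (hρ.iso Q hQQ).exists_aut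
    let α : A := (⟨r, hrA⟩ : A)⁻¹ * γ * ⟨r, hrA⟩
    have hφ : Q.subtype.comp (α : MulAut Q).toMonoidHom ∈ F.Hom Q :=
      (Fusion.mem_autGroup_iff_hom hQS).mp α.2
    have hiso : Fusion.IsIso F Q Q (Fusion.autFun (α : MulAut Q)) :=
      (Fusion.mem_autGroup hQS).mp α.2
    obtain ⟨β, hβ, hbe⟩ := (hle Q hφ).2 Q hQQ hiso
    apply hγ
    convert hβ
    refine Subtype.ext (MulEquiv.ext fun q => Subtype.ext ?_)
    obtain ⟨x, hx, hxq⟩ := (hρ.iso Q hQQ).exists_preimage q.2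
    have h1 : Fusion.autFun (β : MulAut Q) (ρ Q x) = ρ Q (Fusion.autFun (α : MulAut Q) x) := hbe hx
    rw [hxq, Fusion.autFun_coe] at h1
    have hy : Fusion.autFun (α : MulAut Q) x ∈ Q := hiso.mem hx
    rw [h1, ← hre hy, Fusion.autFun_of_mem r hy]
    have hα' : (⟨_, hy⟩ : Q) = (α : MulAut Q) ⟨x, hx⟩ :=
      Subtype.ext (Fusion.autFun_of_mem _ hx)
    rw [hα']
    have hq : q = r ⟨x, hx⟩ := Subtype.ext (by rw [← hxq, ← hre hx, Fusion.autFun_of_mem r hx])
    rw [hq]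
    simp [α, MulAut.mul_apply]

end Cfsg.Agent.S5326
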