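import Cfsg.Statements.S5327
import Cfsg.Agent.Fus93.Basic

set_option autoImplicit false
open Cfsg

namespace Cfsg.Agent.S5327

variable {Ω : Type*} [Group Ω] {S : Subgroup Ω}

/-- The maps of `F` with the maps out of the subgroups in `big` required to lie in `E`. -/
def cut (F E : FusionSystem S) (big : Subgroup Ω → Prop)
    (hup : ∀ {P Q : Subgroup Ω} {φ : P →* Ω}, φ ∈ F.Hom P → (∀ x : P, φ x ∈ Q) → Q ≤ S →
      big P → big Q) : FusionSystem S where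
  Hom P := {φ | φ ∈ F.Hom P ∧ (big P → φ ∈ E.Hom P)}
  le_of_mem h := F.le_of_mem h.1
  injective_of_mem h := F.injective_of_mem h.1
  conj_mem hP hg := ⟨F.conj_mem hP hg, fun _ => E.conj_mem hP hg⟩
  comp_mem hφ hψ h :=
    ⟨F.comp_mem hφ.1 hψ.1 h, fun hb => E.comp_mem (hφ.2 hb)
      (hψ.2 (hup hφ.1 h (Fus93.hom_le F hψ.1) hb)) h⟩
  inv_mem := by
    intro P φ hφ
    by_cases hb : big φ.range
    · obtain ⟨ψ, hψ, h1⟩ := F.inv_mem hφ.1
      obtain ⟨ψ₀, hψ₀, -, -, hr⟩ := Fus93.inv_mem' F hφ.1 rfl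
      have hPS := Fus93.hom_le F hφ.1
      have hP : big P := hup hψ₀ (fun y => hr.le ⟨y, rfl⟩) hPS hb
      obtain ⟨ψ', hψ', h2⟩ := E.inv_mem (hφ.2 hP)
      have he : ψ = ψ' := by
        ext y
        obtain ⟨x, hx⟩ := y.2
        have hy : y = ⟨φ x, ⟨x, rfl⟩⟩ := Subtype.ext hx.symm
        rw [hy, h1, h2]
      exact ⟨ψ, ⟨hψ, fun _ => he ▸ hψ'⟩, h1⟩
    · obtain ⟨ψ, hψ, h1⟩ := F.inv_mem hφ.1
      exact ⟨ψ, ⟨hψ, fun h => absurd h hb⟩, h1⟩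

theorem step [Finite S] (F : FusionSystem S) (𝒬₁ 𝒬₂ : Set (Subgroup Ω))
    (h₁ : ∀ R ∈ 𝒬₁, ∀ R' : Subgroup Ω, F.IsConj R R' → R' ∈ 𝒬₁)
    (h₂ : ∀ R ∈ 𝒬₂, ∀ R' : Subgroup Ω, F.IsConj R R' → R' ∈ 𝒬₂)
    (hg₁ : ∀ E : FusionSystem S, (∀ R ∈ 𝒬₁, F.autGroup R ≤ E.autGroup R) → F ≤ E)
    (hg₂ : ∀ E : FusionSystem S, (∀ R ∈ 𝒬₂, F.autGroup R ≤ E.autGroup R) → F ≤ E)
    (E : FusionSystem S) (hE : ∀ R ∈ 𝒬₁ ∩ 𝒬₂, F.autGroup R ≤ E.autGroup R)
    (Q : Subgroup Ω) (hQ : Q ≤ S)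
    (hbig : ∀ R : Subgroup Ω, R ≤ S → Nat.card Q < Nat.card R → F.Hom R ⊆ E.Hom R) :
    F.Hom Q ⊆ E.Hom Q := by
  haveI : ∀ R : Subgroup Ω, Finite ↥(R ⊓ S) := fun R =>
    Finite.of_injective _ (Subgroup.inclusion_injective inf_le_right)
  let big : Subgroup Ω → Prop := fun R => Nat.card Q < Nat.card R ∨ F.IsConj Q R
  have hup : ∀ {P R : Subgroup Ω} {φ : P →* Ω}, φ ∈ F.Hom P → (∀ x : P, φ x ∈ R) → R ≤ S →
      big P → big R := by
    intro P R φ hφ hmem hRS hb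
    have hfin : Finite R := Finite.of_injective _ (Subgroup.inclusion_injective hRS)
    have hle : φ.range ≤ R := by rintro _ ⟨x, rfl⟩; exact hmem x
    have hc : Nat.card φ.range = Nat.card P := Fus93.card_range F hφ
    rcases hb with hb | hb
    · exact Or.inl (lt_of_lt_of_le (hc ▸ hb) (Subgroup.card_le_of_le hle))
    · by_cases he : φ.range = R
      · exact Or.inr (Fus93.isConj_trans F hb ⟨φ, hφ, he⟩)
      · refine Or.inl ?_
        rw [← Fus93.isConj_card F hb, ← hc]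
        refine lt_of_le_of_ne (Subgroup.card_le_of_le hle) fun h => he ?_
        exact Subgroup.eq_of_le_of_card_ge hle h.ge
  -- `Aut_F` of the members of one family lies in the cut system
  have key : ∀ 𝒬 : Set (Subgroup Ω),
      (∀ E : FusionSystem S, (∀ R ∈ 𝒬, F.autGroup R ≤ E.autGroup R) → F ≤ E) →
      (∀ R ∈ 𝒬, F.IsConj Q R → F.autGroup R ≤ E.autGroup R) → F.Hom Q ⊆ E.Hom Q := by
    intro 𝒬 hg hc
    have hle : F ≤ cut F E big hup := by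
      refine hg _ fun R hR => ?_
      rw [FusionSystem.autGroup, Subgroup.closure_le]
      intro α hα
      refine Subgroup.subset_closure ⟨hα, fun hb => ?_⟩
      have hRS := Fus93.hom_le F hα
      rcases hb with hb | hb
      · exact hbig R hRS hb hα
      · exact (Fus93.mem_autGroup E hRS).mp (hc R hR hb (Subgroup.subset_closure hα))
    intro φ hφ
    exact (hle Q hφ).2 (Or.inr (Fus93.isConj_refl F hQ))
  by_cases hm : Q ∈ 𝒬₁
  · by_cases hm' : Q ∈ 𝒬₂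
    · exact key 𝒬₁ hg₁ fun R hR hc => hE R ⟨hR, h₂ Q hm' R hc⟩
    · exact key 𝒬₂ hg₂ fun R hR hc => absurd (h₂ R hR Q (Fus93.isConj_symm F hc)) hm'
  · exact key 𝒬₁ hg₁ fun R hR hc => absurd (h₁ R hR Q (Fus93.isConj_symm F hc)) hm


/-- Let F be a saturated fusion system over a finite p-group S. Call a family of subgroups of S generating when every fusion system over S whose automorphism group of each member R contains Aut_F(R) contains every map of F. If two families are each closed under F-conjugacy and each generating, then their intersection is generating. -/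
theorem result {Ω : Type*} [Group Ω] {S : Subgroup Ω} [Finite S] (p : ℕ) [Fact p.Prime] (hS : IsPGroup p S) (F : Cfsg.FusionSystem S) (hF : F.IsSaturated p) (𝒬₁ 𝒬₂ : Set (Subgroup Ω)) (h₁ : ∀ R ∈ 𝒬₁, ∀ R' : Subgroup Ω, F.IsConj R R' → R' ∈ 𝒬₁) (h₂ : ∀ R ∈ 𝒬₂, ∀ R' : Subgroup Ω, F.IsConj R R' → R' ∈ 𝒬₂) (hg₁ : ∀ E : Cfsg.FusionSystem S, (∀ R ∈ 𝒬₁, F.autGroup R ≤ E.autGroup R) → F ≤ E) (hg₂ : ∀ E : Cfsg.FusionSystem S, (∀ R ∈ 𝒬₂, F.autGroup R ≤ E.autGroup R) → F ≤ E) (E : Cfsg.FusionSystem S) (hE : ∀ R ∈ 𝒬₁ ∩ 𝒬₂, F.autGroup R ≤ E.autGroup R) : F ≤ E := by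
  intro P φ hφ
  suffices hall : ∀ n : ℕ, ∀ Q : Subgroup Ω, Nat.card S ≤ Nat.card Q + n → Q ≤ S →
      F.Hom Q ⊆ E.Hom Q from hall (Nat.card S) P (Nat.le_add_left _ _) (Fus93.hom_le F hφ) hφ
  clear hφ φ P
  intro n
  induction n with
  | zero =>
    exact fun Q hn hQ => step F 𝒬₁ 𝒬₂ h₁ h₂ hg₁ hg₂ E hE Q hQ fun R hR hlt =>
      absurd (Subgroup.card_le_of_le hR) (by omega)
  | succ n ih =>
    exact fun Q hn hQ => step F 𝒬₁ 𝒬₂ h₁ h₂ hg₁ hg₂ E hE Q hQ fun R hR hlt =>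
      ih R (by omega) hR

end Cfsg.Agent.S5327
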