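import Cfsg.Statements.S5328
import Cfsg.Agent.Fus93.Basic
import Cfsg.Agent.Fus93.Marks

set_option autoImplicit false
universe u
open Cfsg



namespace Cfsg.Agent.S5328

open Cfsg.Agent.Fus93

variable {Ω : Type u} [Group Ω] {S : Subgroup Ω}

/-- The subgroups of `S × S` that are the graph of a map of the system. -/
def graphs (F : FusionSystem S) : Set (Subgroup (S × S)) :=
  {L | ∃ (P : Subgroup Ω) (φ : P →* Ω), φ ∈ F.Hom P ∧
    ∀ a : S × S, a ∈ L ↔ ∃ h : (a.1 : Ω) ∈ P, φ ⟨a.1, h⟩ = (a.2 : Ω)}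

/-- The first projection of a subgroup of `S × S`, inside `Ω`. -/
def proj (L : Subgroup (S × S)) : Subgroup Ω := L.map (S.subtype.comp (MonoidHom.fst S S))

theorem graphs_sub (F : FusionSystem S) (L : Subgroup (S × S)) (hL : L ∈ graphs F)
    (L' : Subgroup (S × S)) (hle : L' ≤ L) : L' ∈ graphs F := by
  obtain ⟨P, φ, hφ, h⟩ := hL
  have hQP : proj L' ≤ P := by
    rintro _ ⟨a, ha, rfl⟩
    exact ((h a).mp (hle ha)).1
  refine ⟨proj L', _, restrict_mem F hφ hQP, fun a => ⟨fun ha => ?_, ?_⟩⟩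
  · exact ⟨⟨a, ha, rfl⟩, ((h a).mp (hle ha)).2⟩
  · rintro ⟨⟨b, hb, hb1⟩, he⟩
    have hab : a = b := by
      obtain ⟨hb', hbe⟩ := (h b).mp (hle hb)
      refine Prod.ext (Subtype.ext hb1.symm) (Subtype.ext ?_)
      rw [← he, ← hbe]
      exact congrArg φ (Subtype.ext hb1.symm)
    rwa [hab]

theorem graphs_conj (F : FusionSystem S) (L : Subgroup (S × S)) (hL : L ∈ graphs F) (m : S × S) :
    L.map (MulAut.conj m).toMonoidHom ∈ graphs F := by
  obtain ⟨P, φ, hφ, h⟩ := hL
  let s : Ω := m.1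
  let t : Ω := m.2
  have hP := hom_le F hφ
  let P' : Subgroup Ω := P.map (MulAut.conj s).toMonoidHom
  have hP' : P' ≤ S := by
    rintro _ ⟨x, hx, rfl⟩
    exact S.mul_mem (S.mul_mem m.1.2 (hP hx)) (S.inv_mem m.1.2)
  have h1 : ∀ x : P', s⁻¹ * (x : Ω) * s⁻¹⁻¹ ∈ P := by
    rintro ⟨_, x, hx, rfl⟩
    simpa [mul_assoc] using hx
  have hφ₁ := F.comp_mem (F.conj_mem hP' (S.inv_mem m.1.2)) hφ h1
  have hφ₂ := F.comp_mem hφ₁ (F.conj_mem (P := S) le_rfl m.2.2) (hom_val_mem F hφ₁)
  refine ⟨P', _, hφ₂, fun a => ⟨?_, ?_⟩⟩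
  · rintro ⟨b, hb, rfl⟩
    obtain ⟨hb1, hb2⟩ := (h b).mp hb
    refine ⟨⟨b.1, hb1, rfl⟩, ?_⟩
    change t * φ ⟨s⁻¹ * (s * (b.1 : Ω) * s⁻¹) * s⁻¹⁻¹, _⟩ * t⁻¹ = t * (b.2 : Ω) * t⁻¹
    rw [← hb2]
    congr 2
    exact congrArg φ (Subtype.ext (by group))
  · rintro ⟨ha, he⟩
    refine ⟨m⁻¹ * a * m, (h _).mpr ⟨?_, ?_⟩, by simp [mul_assoc]⟩
    · have := h1 ⟨a.1, ha⟩
      simpa [s, inv_inv] using this
    · change t * φ ⟨s⁻¹ * (a.1 : Ω) * s⁻¹⁻¹, _⟩ * t⁻¹ = (a.2 : Ω) at he
      change _ = t⁻¹ * (a.2 : Ω) * t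
      rw [← he]
      have e : ∀ z : Ω, t⁻¹ * (t * z * t⁻¹) * t = z := fun z => by group
      rw [e]
      exact congrArg φ (Subtype.ext (by simp [s]))

/-- The permutations of `X` commuting with the right action of `S`. -/
def commutant (X : Type u) [MulAction (S × S) X] : Subgroup (Equiv.Perm X) where
  carrier := {g | ∀ (t : S) (z : X), g (((1, t) : S × S) • z) = ((1, t) : S × S) • g z}
  one_mem' := fun t z => rfl
  mul_mem' {g g'} hg hg' := fun t z => by
    simp only [Equiv.Perm.mul_apply]; rw [hg' t z, hg t (g' z)]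
  inv_mem' {g} hg := fun t z => g.injective (by rw [hg]; simp [Equiv.Perm.inv_def])

/-- The left action of `S` as permutations commuting with the right action. -/
def leftHom (X : Type u) [MulAction (S × S) X] : S →* commutant (S := S) X :=
  ((MulAction.toPermHom (S × S) X).comp (MonoidHom.inl S S)).codRestrict _ fun s t z => by
    show ((s, 1) : S × S) • ((1, t) : S × S) • z = ((1, t) : S × S) • ((s, 1) : S × S) • z
    rw [smul_smul, smul_smul]
    simp

theorem leftHom_apply (X : Type u) [MulAction (S × S) X] (s : S) (z : X) :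
    (leftHom X s : Equiv.Perm X) z = ((s, 1) : S × S) • z := rfl

/-- Every fusion system over a finite p-group S, saturated or not, is realized inside some finite group: there is a finite group G and an injective homomorphism ι of S into G such that the maps of the system are exactly the homomorphisms between subgroups of S that become conjugations by elements of G (the image of S need not be a Sylow p-subgroup of G). -/
theorem result {Ω : Type u} [Group Ω] {S : Subgroup Ω} [Finite S] (p : ℕ) [Fact p.Prime] (hS : IsPGroup p S) (F : Cfsg.FusionSystem S) : ∃ (G : Type u) (_ : Group G) (_ : Finite G) (ι : ↥S →* G), F.IsRealizedBy ι := by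
  obtain ⟨X, _, _, f, hst, hm⟩ :=
    exists_uniform_marks (graphs F) (graphs_conj F) (graphs_sub F)
  haveI hne : Finite (Equiv.Perm X) := inferInstance
  refine ⟨commutant (S := S) X, inferInstance, inferInstance, leftHom X, ?_, fun P hP φ hφS => ?_⟩
  · -- injectivity
    rw [injective_iff_map_eq_one]
    intro s hs
    have hbot : (⊥ : Subgroup (S × S)) ∈ graphs F := by
      refine ⟨⊥, _, subtype_mem F bot_le, fun a => ⟨?_, ?_⟩⟩
      · intro ha; rw [Subgroup.mem_bot.mp ha]; exact ⟨one_mem _, rfl⟩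
      · rintro ⟨h, he⟩
        have h1 : (a.1 : Ω) = 1 := Subgroup.mem_bot.mp h
        refine Subgroup.mem_bot.mpr (Prod.ext (Subtype.ext h1) (Subtype.ext ?_))
        exact he.symm.trans h1
    obtain ⟨z, -⟩ := (mark_pos_iff _).mp (hm ⊥ hbot).2
    obtain ⟨Q, ψ, hψ, hmem⟩ := hst z
    have h1 : ((s, 1) : S × S) ∈ MulAction.stabilizer (S × S) z := by
      rw [MulAction.mem_stabilizer_iff, ← leftHom_apply, hs]; rfl
    obtain ⟨h, he⟩ := (hmem _).mp h1
    have h2 : (⟨(s : Ω), h⟩ : Q) = 1 := F.injective_of_mem hψ (he.trans (map_one ψ).symm)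
    exact Subtype.ext (congrArg Subtype.val h2 : _)
  let φ' : P →* S := φ.codRestrict S hφS
  let a : P × S →* S × S := MonoidHom.prodMap (Subgroup.inclusion hP) (MonoidHom.id S)
  constructor
  · intro hφ
    let b : P × S →* S × S := MonoidHom.prodMap φ' (MonoidHom.id S)
    have ha : Function.Injective a := fun x y h => by
      have h1 := congrArg (fun w : S × S => (w.1 : Ω)) h
      have h2 := congrArg Prod.snd h
      exact Prod.ext (Subtype.ext h1) h2
    have hb : Function.Injective b := fun x y h => by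
      have h1 := congrArg (fun w : S × S => (w.1 : Ω)) h
      have h2 := congrArg Prod.snd h
      exact Prod.ext (F.injective_of_mem hφ h1) h2
    obtain ⟨φi, hφi, hi1, hi2, -⟩ := inv_mem' F hφ rfl
    have hab : ∀ L : Subgroup (P × S), L.map a ∈ graphs F ↔ L.map b ∈ graphs F := by
      intro L
      constructor
      · rintro ⟨Q, ψ, hψ, h⟩
        have hle : (proj (L.map b)) ≤ φ.range := by
          rintro _ ⟨_, ⟨l, -, rfl⟩, rfl⟩; exact ⟨l.1, rfl⟩
        have hQ : ∀ y : proj (L.map b), φi ⟨y, hle y.2⟩ ∈ Q := by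
          rintro ⟨_, _, ⟨l, hl, rfl⟩, rfl⟩
          obtain ⟨h1, -⟩ := (h _).mp ⟨l, hl, rfl⟩
          refine Eq.mpr (congrArg (· ∈ Q) (hi1 l.1 _)) ?_
          exact h1
        have hθ := F.comp_mem (restrict_mem F hφi hle) hψ hQ
        refine ⟨proj (L.map b), _, hθ, fun w => ⟨?_, ?_⟩⟩
        · rintro ⟨l, hl, rfl⟩
          obtain ⟨h1, h2⟩ := (h _).mp ⟨l, hl, rfl⟩
          refine ⟨⟨b l, ⟨l, hl, rfl⟩, rfl⟩, ?_⟩
          refine Eq.trans (congrArg ψ (Subtype.ext ?_)) h2
          exact hi1 l.1 _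
        · rintro ⟨⟨_, ⟨l, hl, rfl⟩, hl1⟩, he⟩
          obtain ⟨h1, h2⟩ := (h _).mp ⟨l, hl, rfl⟩
          refine ⟨l, hl, Prod.ext (Subtype.ext hl1) (Subtype.ext ?_)⟩
          rw [← he]
          refine Eq.trans h2.symm (congrArg ψ (Subtype.ext ?_))
          refine ((hi1 l.1 ⟨l.1, rfl⟩).symm.trans ?_)
          exact congrArg φi (Subtype.ext hl1)
      · rintro ⟨Q, ψ, hψ, h⟩
        have hle : proj (L.map a) ≤ P := by
          rintro _ ⟨_, ⟨l, -, rfl⟩, rfl⟩; exact l.1.2
        have hQ : ∀ y : proj (L.map a), φ ⟨y, hle y.2⟩ ∈ Q := by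
          rintro ⟨_, _, ⟨l, hl, rfl⟩, rfl⟩
          exact ((h _).mp ⟨l, hl, rfl⟩).1
        have hθ := F.comp_mem (restrict_mem F hφ hle) hψ hQ
        refine ⟨proj (L.map a), _, hθ, fun w => ⟨?_, ?_⟩⟩
        · rintro ⟨l, hl, rfl⟩
          obtain ⟨h1, h2⟩ := (h _).mp ⟨l, hl, rfl⟩
          exact ⟨⟨a l, ⟨l, hl, rfl⟩, rfl⟩, h2⟩
        · rintro ⟨⟨_, ⟨l, hl, rfl⟩, hl1⟩, he⟩
          obtain ⟨h1, h2⟩ := (h _).mp ⟨l, hl, rfl⟩
          refine ⟨l, hl, Prod.ext (Subtype.ext hl1) (Subtype.ext ?_)⟩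
          rw [← he]
          refine Eq.trans h2.symm (congrArg ψ (Subtype.ext ?_))
          exact congrArg φ (Subtype.ext hl1)
    letI A : MulAction (P × S) X := MulAction.compHom X a
    have hA : ∀ L : Subgroup (P × S), @mark (P × S) _ X A L = mark X (L.map a) := fun L =>
      Nat.card_congr (Equiv.subtypeEquivRight fun z =>
        ⟨fun h => by rintro _ ⟨l, hl, rfl⟩; exact h l hl, fun h l hl => h _ ⟨l, hl, rfl⟩⟩)
    let B : MulAction (P × S) X := MulAction.compHom X b
    have hB : ∀ L : Subgroup (P × S), @mark (P × S) _ X B L = mark X (L.map b) := fun L =>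
      Nat.card_congr (Equiv.subtypeEquivRight fun z =>
        ⟨fun h => by rintro _ ⟨l, hl, rfl⟩; exact h l hl, fun h l hl => h _ ⟨l, hl, rfl⟩⟩)
    have hzero : ∀ K : Subgroup (S × S), K ∉ graphs F → mark X K = 0 := fun K hK => by
      rcases Nat.eq_zero_or_pos (mark X K) with h | h
      · exact h
      · obtain ⟨z, hz⟩ := (mark_pos_iff K).mp h
        exact absurd (graphs_sub F _ (hst z) K hz) hK
    haveI : Finite S := inferInstance
    haveI : Finite P := Finite.of_injective _ (Subgroup.inclusion_injective hP)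
    obtain ⟨e, he⟩ := @exists_equivariant_equiv (P × S) _ _ (Nat.card X) X X A B _ _ le_rfl
      fun L => by
        rw [hA, hB]
        by_cases h : L.map a ∈ graphs F
        · rw [(hm _ h).1, (hm _ ((hab L).mp h)).1, Subgroup.card_map_of_injective ha,
            Subgroup.card_map_of_injective hb]
        · rw [hzero _ h, hzero _ (fun h' => h ((hab L).mpr h'))]
    have hea : ∀ (x : P) (t : S) (z : X),
        e (((Subgroup.inclusion hP x, t) : S × S) • z) = ((φ' x, t) : S × S) • e z :=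
      fun x t z => he (x, t) z
    refine ⟨⟨e, fun t z => ?_⟩, fun x => ?_⟩
    · have h := hea 1 t z
      rwa [map_one, map_one] at h
    · rw [eq_mul_inv_iff_mul_eq]
      refine Subtype.ext (Equiv.ext fun z => ?_)
      exact (hea x 1 z).symm
  · rintro ⟨g, hg⟩
    let K : Subgroup (S × S) := (P.subgroupOf S).map ((MonoidHom.id S).prod (MonoidHom.id S))
    have hK : K ∈ graphs F := by
      refine ⟨P, _, subtype_mem F hP, fun w => ⟨?_, ?_⟩⟩
      · rintro ⟨s, hs, rfl⟩; exact ⟨hs, rfl⟩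
      · rintro ⟨h, he⟩; exact ⟨w.1, h, Prod.ext rfl (Subtype.ext he)⟩
    obtain ⟨z, hz⟩ := (mark_pos_iff K).mp (hm K hK).2
    let g' : Equiv.Perm X := g
    have hg' : ∀ (x : P) (w : X),
        g' (((Subgroup.inclusion hP x, 1) : S × S) • w) = ((φ' x, 1) : S × S) • g' w := fun x w => by
      have h := eq_mul_inv_iff_mul_eq.mp (hg x)
      exact (Equiv.ext_iff.mp (congrArg Subtype.val h) w).symm
    have hfix : ∀ x : P, ((φ' x, Subgroup.inclusion hP x) : S × S) • g' z = g' z := by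
      intro x
      have h1 : ((Subgroup.inclusion hP x, Subgroup.inclusion hP x) : S × S) • z = z :=
        hz ⟨Subgroup.inclusion hP x, x.2, rfl⟩
      have h2 : ((φ' x, Subgroup.inclusion hP x) : S × S) =
          ((1, Subgroup.inclusion hP x) : S × S) * (φ' x, 1) := by simp
      rw [h2, mul_smul, ← hg', ← g.2, smul_smul]
      refine Eq.trans ?_ (congrArg g' h1)
      exact congrArg g' (congrArg (· • z) (by simp))
    obtain ⟨Q, ψ, hψ, hmem⟩ := hst (g' z)
    have key : ∀ x : P, ∃ h : φ x ∈ Q, ψ ⟨φ x, h⟩ = (x : Ω) := fun x => (hmem _).mp (hfix x)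
    have hle : φ.range ≤ Q := by rintro _ ⟨x, rfl⟩; exact (key x).1
    have hr := restrict_mem F hψ hle
    have hrange : (ψ.comp (Subgroup.inclusion hle)).range = P := by
      ext y
      constructor
      · rintro ⟨⟨_, x, rfl⟩, rfl⟩
        show ψ ⟨φ x, _⟩ ∈ P
        rw [(key x).2]; exact x.2
      · intro hy
        exact ⟨⟨φ ⟨y, hy⟩, ⟨_, rfl⟩⟩, (key ⟨y, hy⟩).2⟩
    obtain ⟨χ, hχ, h1, -, -⟩ := inv_mem' F hr hrange
    refine restrict_mem' F hχ le_rfl fun x => ?_
    refine (h1 ⟨φ x, ⟨x, rfl⟩⟩ ?_).symm.trans (congrArg χ (Subtype.ext (key x).2))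
    rw [MonoidHom.comp_apply]
    exact (key x).2.symm ▸ x.2

end Cfsg.Agent.S5328
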