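import Cfsg.Statements.S5329
import Cfsg.Agent.FusTransfer.Transfer
import Cfsg.Agent.Fusion91.Core
import Cfsg.Agent.Lib.Fusion.Closed
import Mathlib.GroupTheory.Abelianization.Defs
-- import your own Cfsg.Agent.* helpers here

set_option autoImplicit false
open Cfsg
open scoped commutatorElement

namespace Cfsg.Agent.S5329

/-- For a saturated fusion system F over a finite p-group S, the focal subgroup and the derived subgroup of S meet the centre Z(F) of the system in the same subgroup: foc(F) ∩ Z(F) = S′ ∩ Z(F). -/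
theorem result {Ω : Type*} [Group Ω] {S : Subgroup Ω} [Finite S] (p : ℕ) [Fact p.Prime] (hS : IsPGroup p S) (F : Cfsg.FusionSystem S) (hF : F.IsSaturated p) : F.focalSubgroup ⊓ F.center = ⁅(S : Subgroup Ω), (S : Subgroup Ω)⁆ ⊓ F.center := by
  classical
  refine le_antisymm (le_inf ?_ inf_le_right) (le_inf (inf_le_left.trans ?_) inf_le_right)
  · intro z hz
    obtain ⟨hzf, hzc⟩ := Subgroup.mem_inf.1 hz
    obtain ⟨hcS, hcen⟩ := Fusion.isCentral_iff.mp (Fusion91.isCentral_center F)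
    obtain ⟨m, hm, htr⟩ := FusTransfer.exists_transfer (F := F) p hS hF
    obtain ⟨τ, hτ, hτz⟩ := htr (Abelianization.of : S →* Abelianization S)
    have hfoc : F.focalSubgroup ≤ τ.ker.map S.subtype := by
      rw [FusionSystem.focalSubgroup, Subgroup.closure_le]
      rintro _ ⟨P, φ, x, hφ, rfl⟩
      have hmap := Fusion.isMap_extFun hφ
      refine ⟨(⟨x, hmap.dom_le x.2⟩ : S)⁻¹ * ⟨Fusion.extFun φ x, hmap.apply_mem x.2⟩, ?_, ?_⟩
      · show τ _ = 1
        rw [map_mul, map_inv, hτ P _ hmap x x.2, inv_mul_cancel]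
      · show (x : Ω)⁻¹ * Fusion.extFun φ x = (x : Ω)⁻¹ * φ x
        rw [Fusion.extFun_coe]
    obtain ⟨w, hw, hwz⟩ := hfoc hzf
    have hw' : (w : Ω) = z := hwz
    have h1 : (Abelianization.of w : Abelianization S) ^ m = 1 := by
      rw [← hτz w ?_]
      · exact hw
      intro P f hf t ht i hti
      obtain ⟨g, hg, hgf, hgfix⟩ := hcen P f hf
      have hwi : (((w ^ i : S)) : Ω) ∈ F.center := by
        rw [Subgroup.coe_zpow]; exact zpow_mem (hw'.symm ▸ hzc) i
      have e1 : g (((w ^ i : S)) : Ω) = g t := (hgfix _ hwi).trans (hti.symm.trans (hgf ht).symm)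
      rw [Subtype.ext (hg.injOn (le_sup_right (a := P) hwi) (le_sup_left (b := F.center) ht) e1)]
    obtain ⟨n, hn⟩ := hS w
    have h2 : (Abelianization.of w : Abelianization S) ^ (p ^ n) = 1 := by rw [← map_pow, hn, map_one]
    have h3 : Abelianization.of w = (1 : Abelianization S) := by
      have := pow_gcd_eq_one.mpr ⟨h1, h2⟩
      rwa [((((Fact.out : p.Prime).coprime_iff_not_dvd).mpr hm).symm.pow_right n).gcd_eq_one, pow_one] at this
    have h4 : w ∈ commutator S := by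
      rw [← Abelianization.ker_of]; exact h3
    rw [← hw']
    have h5 : (commutator S).map S.subtype = ⁅(S : Subgroup Ω), (S : Subgroup Ω)⁆ := by
      rw [commutator_def, Subgroup.map_commutator, ← MonoidHom.range_eq_map, Subgroup.range_subtype]
    exact h5 ▸ ⟨w, h4, rfl⟩
  · rw [Subgroup.commutator_le]
    intro a ha b hb
    obtain ⟨φ, hφ, hφf⟩ : Fusion.IsMap F S (fun x => a * x * a⁻¹) := Fusion.isMap_conj le_rfl ha
    have hx : b⁻¹ ∈ S → (a * b⁻¹ * a⁻¹) ∈ S := fun h => S.mul_mem (S.mul_mem ha h) (S.inv_mem ha)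
    have hmem := Subgroup.subset_closure (k := {y : Ω | ∃ (P : Subgroup Ω) (φ : P →* Ω) (x : P), φ ∈ F.Hom P ∧ y = (x : Ω)⁻¹ * φ x})
      ⟨S, φ, ⟨b, hb⟩, hφ, rfl⟩
    rw [hφf] at hmem
    have h2 : ⁅a, b⁆ = b * (b⁻¹ * (a * b * a⁻¹)) * b⁻¹ := by rw [commutatorElement_def]; group
    obtain ⟨ψ, hψ, hψf⟩ : Fusion.IsMap F S (fun x => b * x * b⁻¹) := Fusion.isMap_conj le_rfl hb
    have hy : b⁻¹ * (a * b * a⁻¹) ∈ S := S.mul_mem (S.inv_mem hb) (S.mul_mem (S.mul_mem ha hb) (S.inv_mem ha))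
    have hmem2 := Subgroup.subset_closure (k := {y : Ω | ∃ (P : Subgroup Ω) (φ : P →* Ω) (x : P), φ ∈ F.Hom P ∧ y = (x : Ω)⁻¹ * φ x})
      ⟨S, ψ, ⟨_, hy⟩, hψ, rfl⟩
    rw [hψf] at hmem2
    rw [h2]
    have h3 := mul_mem hmem hmem2
    rwa [mul_inv_cancel_left] at h3


end Cfsg.Agent.S5329
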