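import Cfsg.Statements.S5330
import Cfsg.Agent.Fus93.Abelian
import Cfsg.Agent.Fusion91.Core

set_option autoImplicit false
open Cfsg

namespace Cfsg.Agent.S5330

/-- Let F be a saturated fusion system over a finite abelian p-group S. Then S is the internal direct product of the centre of the system and the focal subgroup: Z(F) ∩ foc(F) = 1 and Z(F)·foc(F) = S. -/
theorem result {Ω : Type*} [Group Ω] {S : Subgroup Ω} [Finite S] (p : ℕ) [Fact p.Prime] (hS : IsPGroup p S) (F : Cfsg.FusionSystem S) (hF : F.IsSaturated p) (hab : ∀ x ∈ S, ∀ y ∈ S, x * y = y * x) : F.center ⊓ F.focalSubgroup = ⊥ ∧ F.center ⊔ F.focalSubgroup = S := by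
  classical
  haveI : IsMulCommutative S := ⟨⟨fun a b => Subtype.ext (hab a a.2 b b.2)⟩⟩
  haveI : Finite (MulAut S) := Fusion.finite_mulAut S
  have hk : (Nat.card S).Coprime (Nat.card (F.autGroup S)) := by
    obtain ⟨n, hn⟩ := IsPGroup.iff_card.mp hS
    rw [hn]
    exact Nat.Coprime.pow_left n ((Fact.out : p.Prime).coprime_iff_not_dvd.mpr
      (Fus93.abelian_not_dvd hS hF hab))
  set A := F.autGroup S
  letI : CommGroup S := { (inferInstance : Group S) with mul_comm := fun a b => Subtype.ext (hab a a.2 b b.2) }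
  haveI : Fintype A := Fintype.ofFinite A
  let N : S →* S :=
    { toFun := fun s => ∏ a : A, (a : MulAut S) s
      map_one' := by simp
      map_mul' := fun s t => by simp [map_mul, Finset.prod_mul_distrib] }
  have hNfix : ∀ (b : A) (s : S), (b : MulAut S) (N s) = N s := fun b s => by
    show (b : MulAut S) (∏ a : A, (a : MulAut S) s) = ∏ a : A, (a : MulAut S) s
    rw [map_prod]
    exact Fintype.prod_equiv (Equiv.mulLeft b) _ _ fun a => rfl
  have hNinv : ∀ (b : A) (s : S), N ((b : MulAut S) s) = N s := fun b s =>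
    Fintype.prod_equiv (Equiv.mulRight b) _ _ fun a => rfl
  -- the centre consists of the fixed points
  have hcen : ∀ x : Ω, x ∈ F.center → ∀ hx : x ∈ S, ∀ a : A, (a : MulAut S) ⟨x, hx⟩ = ⟨x, hx⟩ := by
    intro x hx hxS a
    obtain ⟨hcS, hc⟩ := Cfsg.Agent.Fusion91.isCentral_center F
    obtain ⟨ψ, -, h1, h2⟩ := hc S _ ((Fusion.mem_autGroup_iff_hom le_rfl).mp a.2)
    exact Subtype.ext ((h1 ⟨x, hxS⟩).symm.trans (h2 ⟨x, hx⟩))
  have hcenle : F.center ≤ S := sSup_le fun Q hQ => hQ.1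
  have hfix : ∀ s : S, (∀ a : A, (a : MulAut S) s = s) → (s : Ω) ∈ F.center := by
    intro s hs
    refine le_sSup (s := {Q | F.IsCentral Q}) ?_ (Subgroup.mem_zpowers (s : Ω))
    refine Fusion.isCentral_iff.mpr ⟨Subgroup.zpowers_le.mpr s.2, fun P f hf => ?_⟩
    obtain ⟨α, hα, he⟩ := Fus93.abelian_extend hS hF hab hf
    refine ⟨Fusion.autFun α, ((Fusion.mem_autGroup le_rfl).mp hα).1.mono
      (sup_le hf.dom_le (Subgroup.zpowers_le.mpr s.2)), he, ?_⟩
    rintro x ⟨m, rfl⟩
    show Fusion.autFun α ((s ^ m : S) : Ω) = ((s ^ m : S) : Ω)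
    rw [Fusion.autFun_coe, map_zpow, hs ⟨α, hα⟩]
  have hfocle : F.focalSubgroup ≤ S := by
    rw [FusionSystem.focalSubgroup, Subgroup.closure_le]
    rintro _ ⟨P, φ, x, hφ, rfl⟩
    exact S.mul_mem (S.inv_mem ((F.le_of_mem hφ).1 x.2)) ((F.le_of_mem hφ).2 x)
  constructor
  · refine (Subgroup.eq_bot_iff_forall _).mpr fun x ⟨hx1, hx2⟩ => ?_
    have hker : ∀ y ∈ F.focalSubgroup, ∀ hy : y ∈ S, N ⟨y, hy⟩ = 1 := by
      have : F.focalSubgroup ≤ N.ker.map S.subtype := by
        rw [FusionSystem.focalSubgroup, Subgroup.closure_le]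
        rintro _ ⟨P, φ, x, hφ, rfl⟩
        obtain ⟨α, hα, he⟩ := Fus93.abelian_extend hS hF hab (Fusion.isMap_extFun hφ)
        let x' : S := ⟨x, (F.le_of_mem hφ).1 x.2⟩
        refine ⟨x'⁻¹ * α x', ?_, ?_⟩
        · show N (x'⁻¹ * α x') = 1
          rw [map_mul, map_inv, hNinv ⟨α, hα⟩ x', inv_mul_cancel]
        · have h1 := he x.2
          rw [Fusion.extFun_coe, show (x : Ω) = (x' : Ω) from rfl, Fusion.autFun_coe] at h1
          show (x' : Ω)⁻¹ * (α x' : Ω) = _
          rw [h1]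
      intro y hy hyS
      obtain ⟨z, hz, rfl⟩ := this hy
      exact hz
    set s : S := ⟨x, hfocle hx2⟩
    have h1 : s ^ Nat.card A = 1 := by
      rw [← hker x hx2 (hfocle hx2), Nat.card_eq_fintype_card, ← Finset.card_univ, ← Finset.prod_const]
      exact Finset.prod_congr rfl fun a _ => (hcen x hx1 _ a).symm
    have h2 : s = 1 := (powCoprime hk).injective (by simpa using h1)
    exact congrArg Subtype.val h2
  · refine le_antisymm (sup_le hcenle hfocle) fun x hx => ?_
    obtain ⟨s, hs⟩ := (powCoprime hk).surjective ⟨x, hx⟩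
    have hx' : x = ((s ^ Nat.card A : S) : Ω) := congrArg Subtype.val hs.symm
    have hdiff : ((s ^ Nat.card A * (N s)⁻¹ : S) : Ω) ∈ F.focalSubgroup := by
      have h1 : s ^ Nat.card A * (N s)⁻¹ = ∏ a : A, (s⁻¹ * (a : MulAut S) s)⁻¹ := by
        simp [N, Finset.prod_mul_distrib, mul_comm, Finset.prod_inv_distrib]
      have h2 : ∏ a : A, (s⁻¹ * (a : MulAut S) s)⁻¹ ∈ F.focalSubgroup.comap S.subtype := by
        refine Subgroup.prod_mem _ fun a _ => Subgroup.inv_mem _ ?_
        exact Subgroup.subset_closure ⟨S, _, s, (Fusion.mem_autGroup_iff_hom le_rfl).mp a.2, rfl⟩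
      exact h1 ▸ h2
    rw [hx', show s ^ Nat.card A = N s * (s ^ Nat.card A * (N s)⁻¹) by
      rw [mul_comm (s ^ Nat.card A), mul_inv_cancel_left]]
    exact Subgroup.mul_mem_sup (hfix _ fun a => hNfix a s) hdiff


end Cfsg.Agent.S5330
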