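import Cfsg.Statements.S5331
import Cfsg.Agent.Fus93.Abelian
import Mathlib.Data.ZMod.Basic

set_option autoImplicit false
open Cfsg

namespace Cfsg.Agent.S5331

variable (n : ℕ) (a : Fin n → ℕ)

/-- The elements whose coordinates from position `k` on are even. -/
def Even' (k : ℕ) (x : (i : Fin n) → ZMod (2 ^ a i)) : Prop :=
  ∀ i : Fin n, k ≤ (i : ℕ) → ∃ z : ZMod (2 ^ a i), x i = 2 * z

theorem even_of_killed {m : ℕ} {j : ℕ} (hj : j < m) (y : ZMod (2 ^ m))
    (h : (2 : ZMod (2 ^ m)) ^ j * y = 0) : ∃ z, y = 2 * z := by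
  haveI : NeZero (2 ^ m) := ⟨by positivity⟩
  obtain ⟨k, rfl⟩ := ZMod.natCast_zmod_surjective y
  rw [show (2 : ZMod (2 ^ m)) = ((2 : ℕ) : ZMod (2 ^ m)) by norm_num, ← Nat.cast_pow, ← Nat.cast_mul,
    ZMod.natCast_eq_zero_iff] at h
  have h2 : 2 ^ j * 2 ∣ 2 ^ j * k := ((pow_succ 2 j).symm ▸ pow_dvd_pow 2 hj : 2 ^ j * 2 ∣ 2 ^ m).trans h
  obtain ⟨c, rfl⟩ := Nat.dvd_of_mul_dvd_mul_left (pow_pos two_pos j) h2
  exact ⟨c, by push_cast; rfl⟩

theorem even_map (ha : StrictMono a)
    (f : ((i : Fin n) → ZMod (2 ^ a i)) →+ ((i : Fin n) → ZMod (2 ^ a i))) (k : ℕ)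
    (x : (i : Fin n) → ZMod (2 ^ a i)) (hx : Even' n a k x) : Even' n a k (f x) := by
  intro i hi
  classical
  rw [← Finset.univ_sum_single x, map_sum, Finset.sum_apply]
  have hterm : ∀ j : Fin n, ∃ z, f (Pi.single j (x j)) i = 2 * z := by
    intro j
    rcases lt_or_ge j i with hji | hij
    · refine even_of_killed (ha hji) _ ?_
      have h0 : (2 ^ a j : ℕ) • (Pi.single j (x j) : (i : Fin n) → ZMod (2 ^ a i)) = 0 := by
        rw [← Pi.single_smul, nsmul_eq_mul]
        simp
      have h1 := congrArg (fun y => y i) ((map_nsmul f _ _).symm.trans ((congrArg f h0).trans (map_zero f)))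
      simp only [Pi.smul_apply, Pi.zero_apply] at h1
      rw [nsmul_eq_mul] at h1
      push_cast at h1
      exact h1
    · obtain ⟨z, hz⟩ := hx j (hi.trans hij)
      refine ⟨f (Pi.single j z) i, ?_⟩
      rw [show x j = (2 : ℕ) • z by rw [hz, nsmul_eq_mul]; norm_num, Pi.single_smul, map_nsmul,
        Pi.smul_apply, nsmul_eq_mul]
      norm_num
  choose z hz using hterm
  exact ⟨∑ j, z j, by rw [Finset.mul_sum]; exact Finset.sum_congr rfl fun j _ => hz j⟩

theorem trivial_of_odd (ha : StrictMono a)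
    (β : ((i : Fin n) → ZMod (2 ^ a i)) ≃+ ((i : Fin n) → ZMod (2 ^ a i))) (m : ℕ) (hm : ¬ 2 ∣ m)
    (hβ : ∀ x, (β : _ → _)^[m] x = x) (x : (i : Fin n) → ZMod (2 ^ a i)) : β x = x := by
  let G := (i : Fin n) → ZMod (2 ^ a i)
  let b : AddMonoid.End G := β.toAddMonoidHom
  let D : AddMonoid.End G := b - 1
  have hD : ∀ y, D y = β y - y := fun y => rfl
  have hstep : ∀ k, k < n → ∀ y, Even' n a (k + 1) y → Even' n a k (D y) := by
    intro k hk y hy i hi
    rcases Nat.eq_or_lt_of_le hi with rfl | hlt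
    · have hiff : (∃ z, β y i = 2 * z) ↔ ∃ z, y i = 2 * z := by
        constructor <;> intro h
        · have hev : Even' n a (i : ℕ) (β y) := fun l hl => by
            rcases Nat.eq_or_lt_of_le hl with he | hl'
            · obtain rfl : i = l := Fin.ext he
              exact h
            · exact even_map n a ha β.toAddMonoidHom _ y hy l hl'
          have := even_map n a ha β.symm.toAddMonoidHom _ _ hev i le_rfl
          simpa using this
        · have hev : Even' n a (i : ℕ) y := fun l hl => by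
            rcases Nat.eq_or_lt_of_le hl with he | hl'
            · obtain rfl : i = l := Fin.ext he
              exact h
            · exact hy l hl'
          exact even_map n a ha β.toAddMonoidHom _ y hev i le_rfl
      haveI : NeZero (2 ^ a i) := ⟨by positivity⟩
      show ∃ z, β y i - y i = 2 * z
      by_cases hc : ∃ z, y i = 2 * z
      · obtain ⟨u, hu⟩ := hiff.mpr hc
        obtain ⟨v, hv⟩ := hc
        exact ⟨u - v, by rw [hu, hv]; ring⟩
      · have hodd : ∀ w : ZMod (2 ^ a i), (¬ ∃ z, w = 2 * z) → ∃ u, w = 2 * u + 1 := by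
          intro w hw
          obtain ⟨k, rfl⟩ := ZMod.natCast_zmod_surjective w
          rcases Nat.even_or_odd k with ⟨c, rfl⟩ | ⟨c, rfl⟩
          · exact absurd ⟨(c : ZMod (2 ^ a i)), by push_cast; ring⟩ hw
          · exact ⟨c, by push_cast; ring⟩
        obtain ⟨u, hu⟩ := hodd _ fun h => hc (hiff.mp h)
        obtain ⟨v, hv⟩ := hodd _ hc
        exact ⟨u - v, by rw [hu, hv]; ring⟩
    · obtain ⟨u, hu⟩ := even_map n a ha β.toAddMonoidHom _ y hy i hlt
      obtain ⟨v, hv⟩ := hy i hlt
      exact ⟨u - v, by show β y i - y i = _; rw [show β y i = 2 * u from hu, hv]; ring⟩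
  have hdown : ∀ j, j ≤ n → ∀ y, Even' n a (n - j) ((D ^ j) y) := by
    intro j
    induction j with
    | zero => exact fun _ y i hi => absurd i.2 (by omega)
    | succ j ih =>
      intro hj y
      rw [pow_succ']
      exact hstep _ (by omega) _ (by rw [show n - (j + 1) + 1 = n - j by omega]; exact ih (by omega) y)
  have htwo : ∀ y : G, ∃ z, (D ^ n) y = (2 : ℕ) • z := by
    intro y
    choose z hz using fun i => hdown n le_rfl y i (by simp)
    exact ⟨z, funext fun i => by rw [hz i, Pi.smul_apply, nsmul_eq_mul]; norm_num⟩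
  have hpow : ∀ N, ∀ y : G, ∃ z, (D ^ (n * N)) y = (2 ^ N : ℕ) • z := by
    intro N
    induction N with
    | zero => exact fun y => ⟨y, by simp⟩
    | succ N ih =>
      intro y
      obtain ⟨z, hz⟩ := htwo y
      obtain ⟨w, hw⟩ := ih z
      refine ⟨w, ?_⟩
      rw [Nat.mul_succ, pow_add]
      show (D ^ (n * N)) ((D ^ n) y) = _
      rw [hz, map_nsmul, hw, smul_smul, pow_succ']
  have hnil : D ^ (n * ∑ i, a i) = 0 := by
    refine DFunLike.ext (F := AddMonoid.End G) _ _ fun y => ?_
    obtain ⟨z, hz⟩ := hpow (∑ i, a i) y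
    rw [hz]
    funext i
    rw [Pi.smul_apply, nsmul_eq_mul]
    have h0 : ((2 ^ ∑ i, a i : ℕ) : ZMod (2 ^ a i)) = 0 :=
      (ZMod.natCast_eq_zero_iff _ _).mpr
        (pow_dvd_pow 2 (Finset.single_le_sum (fun j _ => Nat.zero_le (a j)) (Finset.mem_univ i)))
    rw [h0, zero_mul]
    rfl
  have hexp : ∀ k : ℕ, ∃ X : AddMonoid.End G, (1 + D) ^ k = 1 + (k : AddMonoid.End G) * D + X * D ^ 2 := by
    intro k
    induction k with
    | zero => exact ⟨0, by simp⟩
    | succ k ih =>
      obtain ⟨X, hX⟩ := ih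
      refine ⟨X + X * D + k, ?_⟩
      rw [pow_succ, hX]
      push_cast
      noncomm_ring
  obtain ⟨X, hX⟩ := hexp m
  have hm1 : (1 + D) ^ m = 1 := by
    refine DFunLike.ext (F := AddMonoid.End G) _ _ fun y => ?_
    rw [AddMonoid.End.coe_pow]
    have : (⇑(1 + D : AddMonoid.End G)) = (β : G → G) := funext fun z => by
      show z + D z = β z
      rw [hD]; abel
    rw [this, hβ]
    rfl
  have hmD : (m : AddMonoid.End G) * D = -(X * D ^ 2) := by
    have h := hX.symm.trans hm1
    rw [add_assoc, add_eq_left, add_eq_zero_iff_eq_neg] at h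
    exact h
  have hD0 : D = 0 := by
    suffices h : ∀ j r, D ^ (r + j + 1) = 0 → D ^ (r + 1) = 0 from
      by simpa using h (n * ∑ i, a i) 0 (by simp [pow_succ, hnil])
    intro j
    induction j with
    | zero => exact fun r h => h
    | succ j ih =>
      intro r h
      have h1 := ih (r + 1) (by rw [show r + 1 + j + 1 = r + (j + 1) + 1 by omega]; exact h)
      have h2 : (m : AddMonoid.End G) * D ^ (r + 1) = 0 := by
        rw [pow_succ', ← mul_assoc, hmD, neg_mul (α := AddMonoid.End G), mul_assoc, ← pow_add,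
          show 2 + r = r + 1 + 1 by omega, h1, mul_zero, neg_zero]
      refine DFunLike.ext (F := AddMonoid.End G) _ _ fun y => ?_
      have h3 := DFunLike.congr_fun h2 y
      funext i
      have h4 := congrFun h3 i
      simp only [AddMonoid.End.coe_mul, AddMonoid.End.natCast_apply,
        Function.comp_apply, Pi.smul_apply, nsmul_eq_mul] at h4
      have hu : IsUnit ((m : ℕ) : ZMod (2 ^ a i)) :=
        (ZMod.unitOfCoprime m (Nat.Coprime.pow_right _
          ((Nat.prime_two.coprime_iff_not_dvd.mpr hm).symm))).isUnit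
      exact (hu.mul_right_eq_zero).mp h4
  have := DFunLike.congr_fun hD0 x
  rw [hD] at this
  exact sub_eq_zero.mp this


/-- Let S be a finite abelian 2-group that is a direct product of cyclic groups of pairwise distinct orders 2^{a_1} < 2^{a_2} < ⋯ < 2^{a_n} (all a_i ≥ 1). Then every saturated fusion system over S is the inner one: its maps are exactly the conjugations by elements of S. -/
theorem result {Ω : Type*} [Group Ω] {S : Subgroup Ω} [Finite S] (n : ℕ) (a : Fin n → ℕ) (ha : StrictMono a) (ha1 : ∀ i, 1 ≤ a i) (e : ↥S ≃* Multiplicative ((i : Fin n) → ZMod (2 ^ a i))) (F : Cfsg.FusionSystem S) (hF : F.IsSaturated 2) (P : Subgroup Ω) : F.Hom P = (Cfsg.innerFusionSystem S).Hom P := by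
  have hS : IsPGroup 2 S := by
    refine IsPGroup.of_card (n := ∑ i, a i) ?_
    rw [Nat.card_congr e.toEquiv]
    simp [Nat.card_pi, Finset.prod_pow_eq_pow_sum]
  have hab : ∀ x ∈ S, ∀ y ∈ S, x * y = y * x := fun x hx y hy =>
    congrArg Subtype.val (e.injective (by rw [map_mul, map_mul, mul_comm]) :
      (⟨x, hx⟩ : S) * ⟨y, hy⟩ = ⟨y, hy⟩ * ⟨x, hx⟩)
  haveI : Fact (Nat.Prime 2) := ⟨Nat.prime_two⟩
  haveI : Finite (MulAut S) := Fusion.finite_mulAut S
  refine Fus93.eq_inner_of_abelian hS hF hab ((Subgroup.eq_bot_iff_forall _).mpr fun α hα => ?_) P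
  have hodd : ¬ 2 ∣ orderOf α := fun h => Fus93.abelian_not_dvd hS hF hab
    (h.trans (Subgroup.orderOf_dvd_natCard _ hα))
  let γ : MulAut (Multiplicative ((i : Fin n) → ZMod (2 ^ a i))) := (MulAut.congr e) α
  let β : ((i : Fin n) → ZMod (2 ^ a i)) ≃+ ((i : Fin n) → ZMod (2 ^ a i)) :=
    { toFun := fun z => Multiplicative.toAdd (γ (Multiplicative.ofAdd z))
      invFun := fun z => Multiplicative.toAdd (γ.symm (Multiplicative.ofAdd z))
      left_inv := fun z => by simp
      right_inv := fun z => by simp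
      map_add' := fun z w => by simp [ofAdd_add] }
  have h1 : γ ^ orderOf α = 1 := by
    show ((MulAut.congr e) α) ^ orderOf α = 1
    rw [← map_pow, pow_orderOf_eq_one, map_one]
  have hfun : ∀ (k : ℕ) (x : (i : Fin n) → ZMod (2 ^ a i)),
      (γ ^ k) (Multiplicative.ofAdd x) = Multiplicative.ofAdd ((β : _ → _)^[k] x) := by
    intro k
    induction k with
    | zero => exact fun x => rfl
    | succ k ih =>
      intro x
      rw [pow_succ', MulAut.mul_apply, ih, Function.iterate_succ_apply']
      rfl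
  have hz := trivial_of_odd n a ha β (orderOf α) hodd fun x => by
    have h2 := hfun (orderOf α) x
    rw [h1] at h2
    exact (Multiplicative.ofAdd.injective h2).symm
  have h4 : (MulAut.congr e) α = 1 := MulEquiv.ext fun z => by
    have := hz (Multiplicative.toAdd z)
    exact congrArg Multiplicative.ofAdd this
  exact (MulAut.congr e).injective (h4.trans (map_one _).symm)


end Cfsg.Agent.S5331
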