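import Cfsg.Statements.S5332
import Cfsg.Agent.Fus93.OddConstrained

set_option autoImplicit false
open Cfsg

namespace Cfsg.Agent.S5332

open Cfsg.Agent Cfsg.Agent.Fusion
open Cfsg.FusionSystem (normalizerIn centralizerIn)

theorem exists_over {Ω : Type*} [Group Ω] {S T : Subgroup Ω} (hT : T = S) {F : Cfsg.FusionSystem S}
    (D : Cfsg.FusionSystem T) (hle : ∀ P f, IsMap D P f → IsMap F P f) {p : ℕ}
    (hsat : D.IsSaturated p) {Q : Subgroup Ω} (hn : D.IsNormal Q) (hc : D.IsCentric Q) {α : MulAut Q}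
    (hα : α ∈ D.autGroup Q) :
    ∃ E : Cfsg.FusionSystem S, E ≤ F ∧ E.IsConstrained p ∧ α ∈ E.autGroup Q := by
  subst hT
  exact ⟨D, Fusion.le_of_isMap hle, ⟨hsat, Q, hn, hc⟩, hα⟩

/-- Let p be odd and F a saturated fusion system over a finite p-group S that is not the inner system of S. Then F contains a saturated constrained subsystem over S that is itself not the inner system. -/
theorem result {Ω : Type*} [Group Ω] {S : Subgroup Ω} [Finite S] (p : ℕ) [Fact p.Prime] (hS : IsPGroup p S) (F : Cfsg.FusionSystem S) (hF : F.IsSaturated p) (hp : p ≠ 2) (hne : ∃ P : Subgroup Ω, F.Hom P ≠ (Cfsg.innerFusionSystem S).Hom P) : ∃ E : Cfsg.FusionSystem S, E ≤ F ∧ E.IsConstrained p ∧ ∃ P : Subgroup Ω, E.Hom P ≠ (Cfsg.innerFusionSystem S).Hom P := by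
  by_contra hno
  obtain ⟨P, hP⟩ := hne
  apply hP
  have hcen : ∀ Q, F.IsCentric Q → S ≤ Subgroup.normalizer (Q : Set Ω) → IsPGroup p (F.autGroup Q) := by
    intro Q hQc hn
    by_contra hQp
    haveI := Fusion.finite_of_le hQc.1
    have hTS : normalizerIn S Q = S := inf_eq_left.mpr hn
    haveI : Finite (normalizerIn S Q) := Fusion.finite_of_le hTS.le
    have hfn : F.IsFullyNormalized Q :=
      ⟨hQc.1, fun R _ => Subgroup.card_le_of_le (le_inf (Fusion.normalizerIn_le S R)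
        ((Fusion.normalizerIn_le S R).trans hn))⟩
    set D := normalizerSystem F Q hQc.1 with hD
    have hiff : ∀ P f, IsMap D P f ↔ IsMap F P f ∧ P ≤ normalizerIn S Q ∧
        (∀ x ∈ P, f x ∈ normalizerIn S Q) ∧ ExtendsStab F Q P f :=
      fun P f => IsNormalizerSystem.isMap_iff (isNormalizerSystem_normalizerSystem Q hQc.1)
    have hQT : Q ≤ normalizerIn S Q := hTS.symm ▸ hQc.1
    have hQn : D.IsNormal Q := by
      refine Fusion.isNormal_iff.mpr ⟨hQT, fun R f hf => ?_⟩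
      obtain ⟨h1, hR, hfT, f', hf', he, him⟩ := (hiff R f).mp hf
      refine ⟨f', (hiff _ _).mpr ⟨hf', sup_le hR hQT, fun x hx => hTS.symm ▸ hf'.apply_mem hx,
        f', ?_, fun _ _ => rfl, him⟩, he, him⟩
      rwa [sup_eq_left.mpr le_sup_right]
    have hQC : D.IsCentric Q := by
      refine ⟨hQT, fun R hR x hx => ?_⟩
      obtain ⟨f, hf⟩ := Fusion.isConj_iff.mp hR
      exact hQc.2 R (Fusion.IsIso.isConj ⟨((hiff _ _).mp hf.1).1, hf.2⟩) ⟨hx.1.1, hx.2⟩
    obtain ⟨γ, hγ, hγn⟩ : ∃ γ ∈ F.autGroup Q, ¬ ∃ g ∈ S, ∀ x : Q, ((γ x : Q) : Ω) = g * x * g⁻¹ := by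
      by_contra hall
      push Not at hall
      refine hQp fun γ => ?_
      obtain ⟨g, hg, hge⟩ := hall γ γ.2
      obtain ⟨i, hi⟩ := hS ⟨g, hg⟩
      refine ⟨i, Subtype.ext (MulEquiv.ext fun x => Subtype.ext ?_)⟩
      have hpow : ∀ (j : ℕ) (x : Q), ((((γ : MulAut Q) ^ j) x : Q) : Ω) = g ^ j * x * (g ^ j)⁻¹ := by
        intro j
        induction j with
        | zero => intro x; simp
        | succ j hj =>
          intro x
          rw [pow_succ', MulAut.mul_apply, hge, hj, pow_succ']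
          group
      have hgi : g ^ p ^ i = 1 := by simpa using congrArg Subtype.val hi
      show ((((γ : MulAut Q) ^ p ^ i) x : Q) : Ω) = x
      rw [hpow, hgi]; simp
    have hγD : γ ∈ D.autGroup Q := by
      have hm := (Fusion.mem_autGroup hQc.1).mp hγ
      refine (Fusion.mem_autGroup hQT).mpr ⟨(hiff _ _).mpr ⟨hm.1, hQT, fun x hx => ?_,
        autFun γ, ?_, fun _ _ => rfl, hm.2⟩, hm.2⟩
      · exact hQT (hm.mem hx)
      · rw [sup_idem]; exact hm.1
    obtain ⟨E, hEF, hEc, hγE⟩ := exists_over hTS D (fun R f h => ((hiff R f).mp h).1)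
      (normalizerSystem_isSaturated hS hF hfn) hQn hQC hγD
    refine hno ⟨E, hEF, hEc, Q, fun heq => ?_⟩
    obtain ⟨φ, hφ, hφe⟩ := ((Fusion.mem_autGroup hQc.1).mp hγE).1
    rw [heq] at hφ
    obtain ⟨-, g, hg, hge⟩ := hφ
    exact hγn ⟨g, hg, fun x => ((autFun_coe γ x).symm.trans (hφe x).symm).trans (hge x)⟩
  have hall := Cfsg.Agent.Fus93.OddConstrained.inner_of_stab hS hF hp hcen ⊥ bot_le
    (fun s _ => (Subgroup.normalizer_eq_top_iff.mpr (inferInstance : (⊥ : Subgroup Ω).Normal)).ge (Subgroup.mem_top s))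
  ext φ
  refine ⟨fun hφ => ?_, ?_⟩
  · refine (hall P _ (isMap_extFun hφ) ⟨extFun φ, ?_, fun _ _ => rfl, ?_⟩).mem_hom
      fun x => (extFun_coe φ x).symm
    · rw [sup_bot_eq]; exact isMap_extFun hφ
    · simp [(isMap_extFun hφ).map_one]
  · rintro ⟨hPS, g, hg, hφ⟩
    exact (isMap_conj (F := F) hPS hg).mem_hom fun x => hφ x

end Cfsg.Agent.S5332
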