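import Cfsg.Statements.S5333
import Cfsg.Agent.Fus93.Generation
import Cfsg.Agent.Fus93.CentricExt
set_option autoImplicit false
open Cfsg

namespace Cfsg.Agent.S5333

/-- Let F′ ≤ F be saturated fusion systems over the same finite p-group S. Suppose that for every subgroup Z ≤ S of order p that is fully centralized in F′, the maps of F and of F′ with source Z coincide and the centralizer systems C_F(Z) and C_{F′}(Z) coincide. Then F = F′. -/
theorem result {Ω : Type*} [Group Ω] {S : Subgroup Ω} [Finite S] (p : ℕ) [Fact p.Prime] (hS : IsPGroup p S) (F : Cfsg.FusionSystem S) (hF : F.IsSaturated p) (F' : Cfsg.FusionSystem S) (hF' : F'.IsSaturated p) (hle : F' ≤ F) (hZ : ∀ Z : Subgroup Ω, Z ≤ S → Nat.card Z = p → F'.IsFullyCentralized Z → F.Hom Z = F'.Hom Z ∧ ∀ (C C' : Cfsg.FusionSystem (Cfsg.FusionSystem.centralizerIn S Z)), F.IsCentralizerSystem Z C → F'.IsCentralizerSystem Z C' → ∀ P : Subgroup Ω, C.Hom P = C'.Hom P) (P : Subgroup Ω) : F.Hom P = F'.Hom P := by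
  have hc : F.IsCentric S := ⟨le_rfl, fun R hR => by
    rw [Subgroup.eq_of_le_of_card_ge (Fusion.isConj_le_right hR) (Fusion.isConj_card hR).le]
    exact inf_le_left⟩
  have key : ∀ Q : Subgroup Ω, F.IsCentric Q → F.autGroup Q ≤ F'.autGroup Q := by
    intro Q hQ α hα
    rcases subsingleton_or_nontrivial S with hsub | hnt
    · haveI : Subsingleton Q :=
        (Subgroup.inclusion_injective hQ.1).subsingleton
      rw [show α = 1 from MulEquiv.ext fun x => Subsingleton.elim _ _]
      exact one_mem _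
    haveI := hS.center_nontrivial
    obtain ⟨c, hc⟩ : ∃ c : Subgroup.center S, orderOf c = p := by
      refine exists_prime_orderOf_dvd_card' p ?_
      obtain ⟨n, hn, hcard⟩ := (hS.to_subgroup (Subgroup.center S)).nontrivial_iff_card.mp inferInstance
      exact hcard ▸ dvd_pow_self p hn.ne'
    set z : Ω := ((c : S) : Ω)
    have hzS : z ∈ S := (c : S).2
    have hcomm : ∀ s ∈ S, s * z = z * s := fun s hs =>
      congrArg Subtype.val (Subgroup.mem_center_iff.mp c.2 ⟨s, hs⟩)
    set Z : Subgroup Ω := Subgroup.zpowers z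
    have hZS : Z ≤ S := Subgroup.zpowers_le.mpr hzS
    have hCS : Cfsg.FusionSystem.centralizerIn S Z = S := le_antisymm inf_le_left fun s hs =>
      ⟨hs, Subgroup.mem_centralizer_iff.mpr fun y hy => by
        obtain ⟨k, rfl⟩ := Subgroup.mem_zpowers_iff.mp hy
        exact ((show Commute s z from hcomm s hs).zpow_right k).eq.symm⟩
    have hfc : F'.IsFullyCentralized Z := ⟨hZS, fun R _ => hCS.symm ▸ Subgroup.card_le_of_le inf_le_left⟩
    have hcard : Nat.card Z = p := by
      rw [Nat.card_zpowers, ← hc]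
      exact (orderOf_injective ((Subgroup.subtype S).comp (Subgroup.center S).subtype)
        (Subtype.coe_injective.comp Subtype.coe_injective) c)
    have hQS := hQ.1
    haveI := Fusion.finite_of_le hQS
    have hzQ : z ∈ Q := hQ.2 Q (Fusion.isConj_refl hQS)
      ⟨hzS, Subgroup.mem_centralizer_iff.mpr fun y hy => hcomm y (hQS hy)⟩
    have hZQ : Z ≤ Q := Subgroup.zpowers_le.mpr hzQ
    obtain ⟨hhom, hsys⟩ := hZ Z hZS hcard hfc
    -- correct `α` by a map of the subsystem
    have hα' := (Fusion.mem_autGroup hQS).mp hα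
    obtain ⟨Z', hZ'Q, hZZ'⟩ := hα'.restrict hZQ
    obtain ⟨r, hr, hrl, -⟩ := (show Fusion.IsIso F' Z Z' (Fusion.autFun α) from
      ⟨(hα'.1.mono hZQ).of_subset hhom.subset, hZZ'.2⟩).exists_inv
    obtain ⟨g, hg, hge⟩ := Fusion.receptive_extend (Fusion.receptive_of_fullyCentralized hS hF' hfc)
      hr (M := Q) ⟨hQS, fun q hq => by
        have hfix : ∀ x ∈ Z', q * x * q⁻¹ = x := by
          intro x hx
          obtain ⟨w, hw, rfl⟩ := hZZ'.exists_preimage hx
          obtain ⟨q', hq', rfl⟩ := hα'.exists_preimage hq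
          have h1 := hα'.1.map_conj hq' (hZQ hw)
          have h2 : q' * w * q'⁻¹ = w := by
            obtain ⟨k, rfl⟩ := Subgroup.mem_zpowers_iff.mp hw
            rw [((show Commute q' z from hcomm q' (hQS hq')).zpow_right k).eq]; group
          rw [h2] at h1
          exact h1.symm
        refine ⟨Subgroup.mem_normalizer_iff.mpr fun x => ⟨fun hx => (hfix x hx).symm ▸ hx, fun hx => ?_⟩,
          1, S.one_mem, fun x hx => by rw [hfix x hx]; simp⟩
        have h3 := hfix _ hx
        have h4 : x = q * x * q⁻¹ := by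
          calc x = q⁻¹ * (q * x * q⁻¹) * q := by group
            _ = q⁻¹ * (q * (q * x * q⁻¹) * q⁻¹) * q := by rw [h3]
            _ = q * x * q⁻¹ := by group
        exact h4.symm ▸ hx⟩
    have hgQ : Fusion.IsMap F' Q g := hg.mono le_sup_right
    have hβ : Fusion.IsMap F Q (g ∘ Fusion.autFun α) :=
      hα'.1.comp (hgQ.of_le hle) fun x hx => hα'.mem hx
    have hC : ∀ x ∈ Q, x ∈ Cfsg.FusionSystem.centralizerIn S Z := fun x hx => hCS.symm ▸ hQS hx
    obtain ⟨φ, hφ, hφf⟩ := id hβ
    have hmem : φ ∈ (Fusion.centralizerSystem F Z hZS).Hom Q := by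
      refine ⟨(Fusion.isMap_extFun hφ), hC, fun x hx => hCS.symm ▸ (Fusion.isMap_extFun hφ).apply_mem hx,
        Fusion.extFun φ, (Fusion.isMap_extFun hφ).mono (sup_le le_rfl hZQ), fun x _ => rfl, fun x hx => ?_⟩
      rw [Fusion.extFun_of_mem φ (hZQ hx), hφf]
      show g (Fusion.autFun α x) = x
      rw [hge (hZZ'.mem hx), hrl x hx]
    rw [hsys _ _ (Fusion.isCentralizerSystem_centralizerSystem Z hZS)
      (Fusion.isCentralizerSystem_centralizerSystem Z hZS) Q] at hmem
    have hβ' : Fusion.IsMap F' Q (g ∘ Fusion.autFun α) :=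
      ((Fusion.isMap_extFun hφ |> fun _ => hmem.1).congr fun x hx =>
        (Fusion.extFun_of_mem φ hx).trans (hφf ⟨x, hx⟩))
    obtain ⟨Q', hQ'⟩ := hgQ.exists_image
    obtain ⟨gi, hgi, hgl, -⟩ := hQ'.exists_inv
    refine Fusion.autGroup_mem_of_isMap ((hβ'.comp hgi.1 fun x hx => hQ'.mem (hα'.mem hx)).congr fun x hx => ?_)
    exact hgl _ (hα'.mem hx)
  exact le_antisymm (fun f hf => Fus93.le_of_aut hS hF F' (key S hc)
    (fun Q _ _ hQ _ _ => key Q hQ) P hf) (fun f hf => hle P hf)

end Cfsg.Agent.S5333
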