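import Cfsg.Statements.S5334
import Cfsg.Agent.Fus93.CentricExt
import Cfsg.Agent.Fus93.Basic

set_option autoImplicit false
open Cfsg

namespace Cfsg.Agent.S5334

/-- Let F′ ≤ F be saturated fusion systems over the same finite p-group S, let Q and R be F-centric subgroups, φ a map of F with source Q and values in R, and ψ a map of F with source R. If two of φ, ψ and the composite ψ ∘ φ are maps of F′ then so is the third. -/
theorem result {Ω : Type*} [Group Ω] {S : Subgroup Ω} [Finite S] (p : ℕ) [Fact p.Prime] (hS : IsPGroup p S) (F : Cfsg.FusionSystem S) (hF : F.IsSaturated p) (F' : Cfsg.FusionSystem S) (hF' : F'.IsSaturated p) (hle : F' ≤ F) (Q R : Subgroup Ω) (hQ : F.IsCentric Q) (hR : F.IsCentric R) (φ : ↥Q →* Ω) (hφ : φ ∈ F.Hom Q) (hφR : ∀ x : Q, φ x ∈ R) (ψ : ↥R →* Ω) (hψ : ψ ∈ F.Hom R) : (φ ∈ F'.Hom Q → ψ ∈ F'.Hom R → ψ.comp (φ.codRestrict R hφR) ∈ F'.Hom Q) ∧ (ψ ∈ F'.Hom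 R → ψ.comp (φ.codRestrict R hφR) ∈ F'.Hom Q → φ ∈ F'.Hom Q) ∧ (φ ∈ F'.Hom Q → ψ.comp (φ.codRestrict R hφR) ∈ F'.Hom Q → ψ ∈ F'.Hom R) := by
  refine ⟨fun h₁ h₂ => F'.comp_mem h₁ h₂ hφR, fun h₁ h₂ => ?_, fun h₁ h₂ => ?_⟩
  · obtain ⟨θ, hθ, hθe, -, -⟩ := Fus93.inv_mem' F' h₁ (R := ψ.range) rfl
    refine Fus93.comp_mem' F' h₂ hθ (fun x => ⟨⟨φ x, hφR x⟩, rfl⟩) fun x => ?_
    exact (hθe ⟨φ x, hφR x⟩ ⟨_, rfl⟩).symm
  · have hU : φ.range ≤ R := by rintro _ ⟨x, rfl⟩; exact hφR x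
    have hcen : F.IsCentric φ.range := Fus93.isCentric_of_isConj hQ ⟨φ, hφ, rfl⟩
    have hψU : ψ.comp (Subgroup.inclusion hU) ∈ F'.Hom φ.range := by
      obtain ⟨θ, hθ, hθe, hθP, -⟩ := Fus93.inv_mem' F' h₁ (R := φ.range) rfl
      refine Fus93.comp_mem' F' hθ h₂ hθP fun y => ?_
      obtain ⟨x, hx⟩ := y.2
      have hxy : θ y = (x : Ω) := by
        have h3 := hθe x (hx ▸ y.2)
        rw [show (⟨φ x, hx ▸ y.2⟩ : φ.range) = y from Subtype.ext hx] at h3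
        exact h3
      rw [show (⟨θ y, hθP y⟩ : Q) = x from Subtype.ext hxy]
      exact congrArg ψ (Subtype.ext hx.symm)
    refine Fusion.mem_hom_iff_isMap.mpr (Fus93.isMap_of_centric hS hF hF' hle (Nat.card R)
      (Nat.le_add_left _ _) hcen hU (Fusion.isMap_extFun hψ) ?_)
    refine (Fusion.isMap_extFun hψU).congr fun x hx => ?_
    rw [Fusion.extFun_of_mem _ hx, Fusion.extFun_of_mem _ (hU hx)]
    rfl


end Cfsg.Agent.S5334
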