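import Cfsg.Statements.S5335
import Cfsg.Agent.Fus93.Generation
import Cfsg.Agent.Fus93.CentricExt
set_option autoImplicit false
open Cfsg

namespace Cfsg.Agent.S5335

/-- Let F′ ≤ F be saturated fusion systems over the same finite p-group S. If the maps of F and of F′ with source Q coincide for every F-centric subgroup Q that is minimal among F-centric subgroups, then F = F′. -/
theorem result {Ω : Type*} [Group Ω] {S : Subgroup Ω} [Finite S] (p : ℕ) [Fact p.Prime] (hS : IsPGroup p S) (F : Cfsg.FusionSystem S) (hF : F.IsSaturated p) (F' : Cfsg.FusionSystem S) (hF' : F'.IsSaturated p) (hle : F' ≤ F) (hmin : ∀ Q : Subgroup Ω, F.IsCentric Q → (∀ R : Subgroup Ω, R < Q → ¬ F.IsCentric R) → F.Hom Q = F'.Hom Q) (P : Subgroup Ω) : F.Hom P = F'.Hom P := by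
  have hfin : ∀ P : Subgroup Ω, F.IsCentric P → F.autGroup P ≤ F'.autGroup P := by
    intro P hP α hα
    haveI := Fusion.finite_of_le hP.1
    obtain ⟨Q, hQ⟩ : ∃ Q : Subgroup Ω, Q ≤ P ∧ F.IsCentric Q ∧ ∀ R : Subgroup Ω, R < Q → ¬ F.IsCentric R := by
      obtain ⟨Q, hQ⟩ := ((Cfsg.Agent.Fusion91.finite_subgroups_le (S := P)).subset
        (fun Q (h : Q ≤ P ∧ F.IsCentric Q) => h.1)).exists_minimal ⟨P, le_rfl, hP⟩
      exact ⟨Q, hQ.1.1, hQ.1.2, fun R hR hc => hR.not_ge (hQ.2 ⟨hR.le.trans hQ.1.1, hc⟩ hR.le)⟩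
    obtain ⟨hQP, hQc, hQm⟩ := hQ
    have hm := ((Fusion.mem_autGroup hP.1).mp hα).1
    exact Fusion.autGroup_mem_of_isMap (Fus93.isMap_of_centric hS hF hF' hle (Nat.card P) (by omega)
      hQc hQP hm ((hm.mono hQP).of_subset (hmin Q hQc hQm).subset))
  have hc : F.IsCentric S := ⟨le_rfl, fun R hR => by
    rw [Subgroup.eq_of_le_of_card_ge (Fusion.isConj_le_right hR) (Fusion.isConj_card hR).le]
    exact inf_le_left⟩
  exact le_antisymm (fun f hf => Fus93.le_of_aut hS hF F' (hfin S hc)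
    (fun P _ _ hc _ _ => hfin P hc) P hf) (fun f hf => hle P hf)

end Cfsg.Agent.S5335
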