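import Cfsg.Statements.S5338
import Cfsg.Agent.Fus93.Generation
import Cfsg.Agent.Fus93.CentricExt
set_option autoImplicit false
open Cfsg

namespace Cfsg.Agent.S5338

/-- Let F be a saturated fusion system over a finite p-group S and F′ ≤ F a saturated subsystem over all of S that is invariant under F in the conjugation sense: for every map φ of F with source Q and every map ψ of F′ between subgroups R ≤ Q (with values in Q), the transported map φψφ⁻¹ defined on φ(R) is again a map of F′. If moreover Aut_{F′}(S) = Aut_F(S), then F′ = F. -/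
theorem result {Ω : Type*} [Group Ω] {S : Subgroup Ω} [Finite S] (p : ℕ) [Fact p.Prime] (hS : IsPGroup p S) (F : Cfsg.FusionSystem S) (hF : F.IsSaturated p) (F' : Cfsg.FusionSystem S) (hF' : F'.IsSaturated p) (hle : F' ≤ F) (hinv : ∀ (Q : Subgroup Ω) (φ : ↥Q →* Ω), φ ∈ F.Hom Q → ∀ (R : Subgroup Ω) (hRQ : R ≤ Q) (ψ : ↥R →* Ω), ψ ∈ F'.Hom R → ∀ (hψQ : ∀ x : R, ψ x ∈ Q), ∃ χ ∈ F'.Hom ((R.subgroupOf Q).map φ), ∀ (x : R) (hx : φ ⟨(x : Ω), hRQ x.2⟩ ∈ (R.subgroupOf Q).map φ), χ ⟨φ ⟨(x : Ω), hRQ x.2⟩, hx⟩ = φ ⟨ψ x, hψQ x⟩) (htop : F'.autGroup S = F.autGroup S) (P : Subgroup Ω) : F'.Hom P = F.Hom P := by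
  refine (le_antisymm (fun f hf => hle P hf) fun f hf => ?_)
  refine Fus93.le_of_aut hS hF F' htop.ge (fun P hne hfn _ _ hbig => ?_) P hf
  have hPS := hfn.1
  haveI := Fusion.finite_of_le hPS
  haveI := Fus93.finite_autGroup (F := F) hPS
  set A := F.autGroup P
  have hA' : F'.autGroup P ≤ A := Fusion.autGroup_mono (hle P)
  -- the automizer of the subsystem is normal
  haveI hnorm : ((F'.autGroup P).subgroupOf A).Normal := by
    refine ⟨fun n hn a => ?_⟩
    have ha := (Fusion.mem_autGroup_iff_hom hPS).mp a.2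
    have hn' := (Fusion.mem_autGroup_iff_hom hPS).mp hn
    obtain ⟨χ, hχ, hχe⟩ := hinv P _ ha P le_rfl _ hn' (fun x => ((n : MulAut P) x).2)
    have he : (P.subgroupOf P).map (P.subtype.comp (a : MulAut P).toMonoidHom) = P := by
      ext z
      constructor
      · rintro ⟨x, -, rfl⟩; exact ((a : MulAut P) x).2
      · exact fun hz => ⟨(a : MulAut P).symm ⟨z, hz⟩,
          ((a : MulAut P).symm ⟨z, hz⟩).2, by simp⟩
    show ((a * n * a⁻¹ : A) : MulAut P) ∈ F'.autGroup P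
    have hmap := (Fusion.isMap_extFun hχ).mono he.ge
    refine Fusion.autGroup_mem_of_isMap (hmap.congr fun y hy => ?_)
    obtain ⟨x, hx⟩ := (a : MulAut P).surjective ⟨y, hy⟩
    have hxe : ((P.subtype.comp (a : MulAut P).toMonoidHom) x) = y := congrArg Subtype.val hx
    have hm : (P.subtype.comp (a : MulAut P).toMonoidHom) ⟨(x : Ω), x.2⟩ ∈
        (P.subgroupOf P).map (P.subtype.comp (a : MulAut P).toMonoidHom) := ⟨_, x.2, rfl⟩
    have h1 := hχe x hm
    rw [← Fusion.extFun_coe χ] at h1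
    rw [← hxe]
    refine h1.trans ?_
    rw [hxe, Fusion.autFun_of_mem _ hy, ← hx]
    simp [MulAut.mul_apply]
  obtain ⟨-, R₀, hR₀⟩ := Fusion.fullyAutomized_of_fullyNormalized hS hF hfn
  have hRN : (R₀ : Subgroup A) ≤ (F'.autGroup P).subgroupOf A := by
    rw [hR₀]
    intro a ha
    obtain ⟨g, hg, hge⟩ := Fusion.mem_autInducedBy.mp ha
    exact Fusion.autGroup_mem_of_isMap ((Fusion.isMap_conj hPS hg).congr fun x hx => by
      rw [Fusion.autFun_of_mem _ hx]; exact (hge ⟨x, hx⟩).symm)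
  have hnR : Subgroup.normalizer (R₀ : Set A) ≤ (F'.autGroup P).subgroupOf A := by
    intro a ha
    haveI : Finite (Cfsg.FusionSystem.normalizerIn S P) := Fusion.finite_of_le (Fusion.normalizerIn_le S P)
    by_cases hN : Cfsg.FusionSystem.normalizerIn S P ≤ P
    · exact absurd (Nat.le_antisymm (Subgroup.card_le_of_le hN) (Subgroup.card_le_of_le
        (Fusion.le_normalizerIn hPS))) (Fus93.card_normalizerIn_lt hS hPS hne).ne'
    refine Fus93.aut_mem_of_extendable (Fusion.receptive_of_fullyNormalized hS hF hfn) hbig a.2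
      ⟨inf_le_left, fun g hg => ⟨hg.2, ?_⟩⟩ hN
    have hmem : Fusion.conjAutHom S P ⟨g, hg⟩ ∈ autInducedBy S P :=
      Fusion.mem_autInducedBy.mpr ⟨g, hg.1, fun x => rfl⟩
    have hc : (Fusion.conjAutHom S P ⟨g, hg⟩) ∈ A :=
      Fusion.autGroup_mem_of_isMap ((Fusion.isMap_conj hPS hg.1).congr fun x hx => by
        rw [Fusion.autFun_of_mem _ hx]; rfl)
    have h1 : (⟨_, hc⟩ : A) ∈ (R₀ : Subgroup A) := by rw [hR₀]; exact hmem
    have h2 := (Subgroup.mem_normalizer_iff.mp ha _).mp h1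
    rw [hR₀] at h2
    obtain ⟨t, ht, hte⟩ := Fusion.mem_autInducedBy.mp h2
    refine ⟨t, ht, fun x hx => ?_⟩
    have h3 := hte ((a : MulAut P) ⟨x, hx⟩)
    simp only [Subgroup.coe_subtype] at h3 ⊢
    rw [Fusion.autFun_of_mem _ hx, ← h3]
    rw [Fusion.autFun_of_mem _ (Fusion.conj_mem_of_mem_normalizer hg.2 hx)]
    simp [MulAut.mul_apply]
    rfl
  -- Frattini
  have hF' := Sylow.normalizer_sup_eq_top' R₀ (N := (F'.autGroup P).subgroupOf A) hRN
  rw [sup_eq_right.mpr hnR] at hF'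
  exact fun a ha => (hF' ▸ Subgroup.mem_top (⟨a, ha⟩ : A) : (⟨a, ha⟩ : A) ∈ _)

end Cfsg.Agent.S5338
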