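import Cfsg.Statements.S5340
import Cfsg.Agent.Fus93.Basic
import Cfsg.Agent.S5339

set_option autoImplicit false
open Cfsg

namespace Cfsg.Agent.S5340

/-- Let F be a saturated fusion system over a nontrivial finite p-group S such that S is generated by its elements of order p, any two subgroups of S of order p are F-conjugate, and Aut_F(S) consists of inner automorphisms only. Then F is simple. -/
theorem result {Ω : Type*} [Group Ω] {S : Subgroup Ω} [Finite S] (p : ℕ) [Fact p.Prime] (hS : IsPGroup p S) (F : Cfsg.FusionSystem S) (hF : F.IsSaturated p) (hS1 : S ≠ ⊥) (hgen : Subgroup.closure {x : Ω | x ∈ S ∧ orderOf x = p} = S) (htr : ∀ A B : Subgroup Ω, A ≤ S → B ≤ S → Nat.card A = p → Nat.card B = p → F.IsConj A B) (htop : F.autGroup S = Cfsg.Inn ↥S) : F.IsSimple p := by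
  refine Cfsg.Agent.S5339.result p hS F hF hS1 htop fun T hT => ?_
  by_cases hT0 : T = ⊥
  · exact Or.inl hT0
  refine Or.inr (le_antisymm hT.1 ?_)
  haveI : Finite T := Finite.of_injective _ (Subgroup.inclusion_injective hT.1)
  haveI : Nontrivial T := (Subgroup.nontrivial_iff_ne_bot T).mpr hT0
  obtain ⟨k, hk⟩ := IsPGroup.iff_card.mp (hS.of_injective _ (Subgroup.inclusion_injective hT.1))
  have hk0 : k ≠ 0 := by
    rintro rfl
    exact absurd hk (by simpa using (Finite.one_lt_card (α := T)).ne')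
  obtain ⟨t, ht⟩ := exists_prime_orderOf_dvd_card' (G := T) p (hk ▸ dvd_pow_self p hk0)
  have ht' : orderOf (t : Ω) = p := by rw [Subgroup.orderOf_coe]; exact ht
  conv_lhs => rw [← hgen]
  rw [Subgroup.closure_le]
  rintro x ⟨hxS, hx⟩
  obtain ⟨φ, hφ, hr⟩ := htr (Subgroup.zpowers (t : Ω)) (Subgroup.zpowers x)
    (Subgroup.zpowers_le.mpr (hT.1 t.2)) (Subgroup.zpowers_le.mpr hxS)
    (by rw [Nat.card_zpowers, ht']) (by rw [Nat.card_zpowers, hx])
  obtain ⟨a, ha⟩ := hr.ge (Subgroup.mem_zpowers x)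
  rw [← ha]
  exact hT.2 _ (Subgroup.zpowers_le.mpr t.2) φ hφ a


end Cfsg.Agent.S5340
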