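import Cfsg.Statements.S5341
import Cfsg.Agent.Lib.Fusion.Saturation
import Cfsg.Agent.Lib.Fusion.Closed

set_option autoImplicit false
open Cfsg

namespace Cfsg.Agent.S5341

/-- Let F be a saturated fusion system over a finite p-group S, T a subgroup strongly closed in F, and F′ any fusion system over T all of whose maps are maps of F. For a subgroup Q ≤ T: if Q is fully centralized in F then it is fully centralized in F′, and if Q is fully normalized in F then it is fully normalized in F′. -/
theorem result {Ω : Type*} [Group Ω] {S : Subgroup Ω} [Finite S] (p : ℕ) [Fact p.Prime] (hS : IsPGroup p S) (F : Cfsg.FusionSystem S) (hF : F.IsSaturated p) (T : Subgroup Ω) (hT : F.StronglyClosed T) (F' : Cfsg.FusionSystem T) (hsub : F'.IsSubsystemOf F) (Q : Subgroup Ω) (hQT : Q ≤ T) : (F.IsFullyCentralized Q → F'.IsFullyCentralized Q) ∧ (F.IsFullyNormalized Q → F'.IsFullyNormalized Q) := by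
  have hTS : T ≤ S := hT.1
  obtain ⟨-, hTc⟩ := (Fusion.stronglyClosed_iff).mp hT
  have hconj : ∀ R, F'.IsConj Q R → F.IsConj R Q := by
    intro R hR
    obtain ⟨φ, hφ, hr⟩ := hR
    exact Fusion.isConj_symm ⟨φ, hsub _ hφ, hr⟩
  haveI : Finite T := Fusion.finite_of_le hTS
  constructor
  · intro hQ
    refine ⟨hQT, fun R hR => ?_⟩
    obtain ⟨f, hf⟩ := Fusion.isConj_iff.mp (hconj R hR)
    obtain ⟨f', hf', he⟩ := Fusion.receptive_extend
      (Fusion.receptive_of_fullyCentralized hS hF hQ) hf (Fusion.isExtendable_centralizerIn f)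
    have him : f' '' (R : Set Ω) = (Q : Set Ω) := (Set.image_congr he).trans hf.2
    refine Fusion.card_le_of_injOn inf_le_left
      (hf'.injOn.mono fun x hx => (le_sup_right : _ ≤ R ⊔ FusionSystem.centralizerIn S R) ⟨hTS hx.1, hx.2⟩)
      fun x hx => ?_
    have hxM : x ∈ R ⊔ FusionSystem.centralizerIn S R :=
      (le_sup_right : _ ≤ R ⊔ FusionSystem.centralizerIn S R) ⟨hTS hx.1, hx.2⟩
    exact ⟨hTc _ f' hf' x hxM hx.1,
      (Fusion.map_mem_centralizer hf' le_sup_left him hxM hx.2).2⟩
  · intro hQ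
    refine ⟨hQT, fun R hR => ?_⟩
    obtain ⟨f, hf, hiso, hfN⟩ := Fusion.exists_normalizer_map hS
      (Fusion.fullyAutomized_of_fullyNormalized hS hF hQ)
      (Fusion.receptive_of_fullyNormalized hS hF hQ) (hconj R hR)
    refine Fusion.card_le_of_injOn inf_le_left (hf.injOn.mono (show (FusionSystem.normalizerIn T R : Set Ω) ⊆ FusionSystem.normalizerIn S R from fun x hx => ⟨hTS hx.1, hx.2⟩))
      fun x hx => ?_
    have hxN : x ∈ FusionSystem.normalizerIn S R := ⟨hTS hx.1, hx.2⟩
    exact ⟨hTc _ f hf x hxN hx.1, (hfN x hxN).2⟩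


end Cfsg.Agent.S5341
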