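import Cfsg.Statements.S5342
import Cfsg.Agent.Fus93.Frattini
import Cfsg.Agent.Fus93.CentricExt
import Cfsg.Agent.Fusion91.Core

set_option autoImplicit false
open Cfsg

namespace Cfsg.Agent.S5342
open Cfsg.Agent.Fusion in
/-- A weakly normal subsystem of a constrained system is constrained. -/
theorem constrained_of_weaklyNormal {Ω : Type*} [Group Ω] {S : Subgroup Ω} [Finite S] {p : ℕ} [Fact p.Prime]
    (hS : IsPGroup p S) {F : Cfsg.FusionSystem S} (hF : F.IsConstrained p) {T : Subgroup Ω}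
    {E : Cfsg.FusionSystem T} (hE : E.IsWeaklyNormalIn F p) : E.IsConstrained p := by
  obtain ⟨hFs, Q₀, hQ₀, hQ₀c⟩ := hF
  obtain ⟨hEs, -, hsub, hT, -, -⟩ := hE
  obtain ⟨hTS, hTc⟩ := stronglyClosed_iff.mp hT
  set Q := F.core with hQdef
  have hQ : F.IsNormal Q := Cfsg.Agent.Fusion91.isNormal_core F
  have hQc : F.IsCentric Q := Fus93.isCentric_of_le hQ₀c (Cfsg.Agent.Fusion91.le_core hQ₀) hQ.1
  haveI : Finite T := finite_of_le hTS
  have hQcl := (stronglyClosed_iff.mp (Fus93.normal_stronglyClosed hQ)).2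
  have hRaut : ∀ P f, IsMap F P f → ∃ f', IsMap F (P ⊔ Q) f' ∧ Set.EqOn f' f P ∧
      IsIso F (T ⊓ Q) (T ⊓ Q) f' := by
    intro P f hf
    obtain ⟨f', h1, h2, h3⟩ := Fus93.normal_frattini hQ hf
    have hm := h3.1.mono (inf_le_right : T ⊓ Q ≤ Q)
    have hmem : ∀ x ∈ T ⊓ Q, f' x ∈ T ⊓ Q := fun x hx => ⟨hTc _ _ hm x hx hx.1, h3.mem hx.2⟩
    refine ⟨f', h1, h2, hm, Set.Subset.antisymm ?_ fun y hy => ?_⟩
    · rintro _ ⟨x, hx, rfl⟩; exact hmem x hx
    · exact surjOn_of_card_le (inf_le_left.trans hTS) hm.injOn hmem le_rfl y hy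
  have hRn : E.IsNormal (T ⊓ Q) := by
    refine Fus93.isNormal_of_frattini (hS.of_injective _ (Subgroup.inclusion_injective hTS)) hEs
      (stronglyClosed_iff.mpr ⟨inf_le_left, fun R f hf x hxR hx => ?_⟩) fun P f hf hP => ?_
    · exact ⟨hf.apply_mem hxR, hQcl R f (hf.of_isSubsystemOf hsub) x hxR hx.2⟩
    · obtain ⟨f', -, he, hiso⟩ := hRaut P f (hf.of_isSubsystemOf hsub)
      obtain ⟨α, -, hαe⟩ := hiso.exists_aut
      exact ⟨α, fun x hx => (he hx).symm.trans (hαe (hP hx)).symm⟩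
  -- `C = C_T(T ∩ Q)` is normal in `F`
  set C := FusionSystem.centralizerIn T (T ⊓ Q)
  have hCc : ∀ R f, IsMap F R f → ∀ x ∈ R, x ∈ C → f x ∈ C := by
    intro R f hf x hxR hx
    obtain ⟨f', hf', he, hiso⟩ := hRaut R f hf
    refine ⟨hTc R f hf x hxR hx.1, Subgroup.mem_centralizer_iff.mpr fun y hy => ?_⟩
    obtain ⟨w, hw, rfl⟩ := hiso.exists_preimage hy
    have hxM : x ∈ R ⊔ Q := Subgroup.mem_sup_left hxR
    have hwM : w ∈ R ⊔ Q := Subgroup.mem_sup_right hw.2
    rw [← he hxR, ← hf'.map_mul hwM hxM, ← hf'.map_mul hxM hwM,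
      Subgroup.mem_centralizer_iff.mp hx.2 w hw]
  have hnormS : ∀ g ∈ S, ∀ x ∈ T, g * x * g⁻¹ ∈ T := fun g hg x hx =>
    hTc T _ (isMap_conj hTS hg) x hx hx
  have hnormQ : ∀ g ∈ S, ∀ x ∈ Q, g * x * g⁻¹ ∈ Q := fun g hg x hx =>
    hQcl Q _ (isMap_conj hQ.1 hg) x hx hx
  let D : ℕ → Subgroup Ω := fun i => if i = 0 then ⊥ else if i = 1 then C ⊓ Q else C
  have hCn : F.IsNormal C := by
    refine Fus93.isNormal_of_chain hS hFs 2 D rfl (fun i hi => ?_) fun i hi x hx g hg => ?_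
    · match i, hi with
      | 0, _ => exact stronglyClosed_iff.mpr ⟨bot_le, fun R f hf x _ hx => by
          rw [Subgroup.mem_bot.mp (show x ∈ (⊥ : Subgroup Ω) from hx), hf.map_one]; exact one_mem _⟩
      | 1, _ => exact stronglyClosed_iff.mpr ⟨inf_le_right.trans hQ.1, fun R f hf x hxR hx =>
          ⟨hCc R f hf x hxR hx.1, hQcl R f hf x hxR hx.2⟩⟩
      | 2, _ => exact stronglyClosed_iff.mpr ⟨inf_le_left.trans hTS, hCc⟩
    · have hg' : g ∈ C := hg
      obtain rfl | rfl : i = 0 ∨ i = 1 := by omega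
      ·
        have hx' : x ∈ C ⊓ Q := hx
        have h1 := Subgroup.mem_centralizer_iff.mp hg'.2 x ⟨hx'.1.1, hx'.2⟩
        show x⁻¹ * (g * x * g⁻¹) ∈ (⊥ : Subgroup Ω)
        rw [← h1]; simp
      ·
        have hx' : x ∈ C := hx
        show x⁻¹ * (g * x * g⁻¹) ∈ C ⊓ Q
        set k := x⁻¹ * (g * x * g⁻¹) with hk
        have hkC : k ∈ C := mul_mem (inv_mem hx') (mul_mem (mul_mem hg' hx') (inv_mem hg'))
        refine ⟨hkC, hQc.2 Q (isConj_refl hQ.1) ⟨hTS hkC.1, Subgroup.mem_centralizer_iff.mpr fun q hq => ?_⟩⟩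
        -- both act on `Q` by central elements of `T ∩ Q`
        have key : ∀ u ∈ C, ∀ q ∈ Q, ∃ r ∈ T ⊓ Q, (∀ w ∈ T ⊓ Q, r * w = w * r) ∧ u * q * u⁻¹ = q * r := by
          intro u hu q hq
          refine ⟨q⁻¹ * (u * q * u⁻¹), Subgroup.mem_inf.mpr ⟨?_, mul_mem (inv_mem hq) (hnormQ u (hTS hu.1) q hq)⟩, ?_, by group⟩
          · have h2 : q⁻¹ * u * q⁻¹⁻¹ ∈ T := hnormS q⁻¹ (hQ.1 (inv_mem hq)) u hu.1
            have h3 := mul_mem h2 (inv_mem hu.1)
            simpa [mul_assoc] using h3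
          · intro w hw
            have hw' : q * w * q⁻¹ ∈ T ⊓ Q := Subgroup.mem_inf.mpr ⟨hnormS q (hQ.1 hq) w hw.1, mul_mem (mul_mem hq hw.2) (inv_mem hq)⟩
            have h2 := Subgroup.mem_centralizer_iff.mp hu.2 _ hw'
            have h3 := Subgroup.mem_centralizer_iff.mp hu.2 w hw
            calc q⁻¹ * (u * q * u⁻¹) * w = q⁻¹ * u * q * (u⁻¹ * (w * u) * u⁻¹) := by group
              _ = q⁻¹ * u * q * (u⁻¹ * (u * w) * u⁻¹) := by rw [h3]
              _ = q⁻¹ * (u * (q * w * q⁻¹)) * q * u⁻¹ := by group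
              _ = q⁻¹ * (q * w * q⁻¹ * u) * q * u⁻¹ := by rw [h2]
              _ = w * (q⁻¹ * (u * q * u⁻¹)) := by group
        obtain ⟨q', hq', rfl⟩ : ∃ q' ∈ Q, g * q' * g⁻¹ = q :=
          ⟨g⁻¹ * q * g, by simpa using hnormQ g⁻¹ (S.inv_mem (hTS hg'.1)) q hq, by group⟩
        obtain ⟨r, hr, hrc, hrx⟩ := key x hx' q' hq'
        obtain ⟨s, hs, hsc, hsg⟩ := key g hg' q' hq'
        have e1 : g * x * q' * (g * x)⁻¹ = q' * s * r := by
          have h2 := Subgroup.mem_centralizer_iff.mp hg'.2 r hr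
          calc g * x * q' * (g * x)⁻¹ = g * (x * q' * x⁻¹) * g⁻¹ := by group
            _ = g * q' * (r * g⁻¹) := by rw [hrx]; group
            _ = g * q' * (g⁻¹ * (g * r) * g⁻¹) := by group
            _ = g * q' * (g⁻¹ * (r * g) * g⁻¹) := by rw [h2]
            _ = (g * q' * g⁻¹) * r := by group
            _ = q' * s * r := by rw [hsg]
        have e2 : x * g * q' * (x * g)⁻¹ = q' * r * s := by
          have h2 := Subgroup.mem_centralizer_iff.mp hx'.2 s hs
          calc x * g * q' * (x * g)⁻¹ = x * (g * q' * g⁻¹) * x⁻¹ := by group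
            _ = x * q' * (s * x⁻¹) := by rw [hsg]; group
            _ = x * q' * (x⁻¹ * (x * s) * x⁻¹) := by group
            _ = x * q' * (x⁻¹ * (s * x) * x⁻¹) := by rw [h2]
            _ = (x * q' * x⁻¹) * s := by group
            _ = q' * r * s := by rw [hrx]
        have e3 : g * x * q' * (g * x)⁻¹ = x * g * q' * (x * g)⁻¹ := by
          rw [e1, e2, mul_assoc, hsc r hr, ← mul_assoc]
        have e4 : g * x * g⁻¹ * (g * q' * g⁻¹) = x * (g * q' * g⁻¹) * x⁻¹ * (g * x * g⁻¹) :=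
          calc g * x * g⁻¹ * (g * q' * g⁻¹) = g * x * q' * (g * x)⁻¹ * (g * x * g⁻¹) := by group
            _ = x * g * q' * (x * g)⁻¹ * (g * x * g⁻¹) := by rw [e3]
            _ = _ := by group
        calc g * q' * g⁻¹ * k = x⁻¹ * (x * (g * q' * g⁻¹) * x⁻¹ * (g * x * g⁻¹)) := by rw [hk]; group
          _ = x⁻¹ * (g * x * g⁻¹ * (g * q' * g⁻¹)) := by rw [e4]
          _ = k * (g * q' * g⁻¹) := by rw [hk]; group
  refine ⟨hEs, T ⊓ Q, hRn, inf_le_left, fun R' hR' => ?_⟩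
  obtain ⟨f, hf⟩ := isConj_iff.mp hR'
  obtain ⟨f', -, he, hiso⟩ := Fus93.normal_frattini hRn hf.1
  obtain rfl : R' = T ⊓ Q := SetLike.coe_injective
    (hf.2.symm.trans ((Set.image_congr he).symm.trans hiso.2))
  exact le_inf inf_le_left (Cfsg.Agent.Fusion91.le_core hCn)

theorem constrained_of_subnormal {Ω : Type*} [Group Ω] (p : ℕ) {T : Subgroup Ω}
    {E : Cfsg.FusionSystem T} {S : Subgroup Ω} {F : Cfsg.FusionSystem S} (hE : E.IsSubnormalIn F p) :
    p.Prime → IsPGroup p S → Finite S → F.IsConstrained p → E.IsConstrained p := by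
  induction hE with
  | refl F p => exact fun _ _ _ h => h
  | @step U S E D F p _ hDF ih =>
    intro hp hS hfin h
    haveI := Fact.mk hp
    have hUS : U ≤ S := hDF.1.2.2.2.1.1
    exact ih hp (hS.of_injective _ (Subgroup.inclusion_injective hUS)) (Fusion.finite_of_le hUS)
      (constrained_of_weaklyNormal hS h hDF.1)


/-- Let F be a constrained saturated fusion system over a finite p-group S. Then every subsystem of F that is subnormal in F (reached from F by a finite chain of successive normal subsystems) is constrained. -/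
theorem result {Ω : Type*} [Group Ω] {S : Subgroup Ω} [Finite S] (p : ℕ) [Fact p.Prime] (hS : IsPGroup p S) (F : Cfsg.FusionSystem S) (hF : F.IsConstrained p) {T : Subgroup Ω} (E : Cfsg.FusionSystem T) (hE : E.IsSubnormalIn F p) : E.IsConstrained p := by
  exact constrained_of_subnormal p hE Fact.out hS inferInstance hF


end Cfsg.Agent.S5342
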