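import Cfsg.Statements.S5361
import Cfsg.Agent.Lib.FischerSpace.SimpleDerived

set_option autoImplicit false
open Cfsg

namespace Cfsg.Agent.S5361

/-- Let D be a conjugacy class of 3-transpositions generating the finite group G, and suppose the centre of G is trivial and some two different members of D commute. Then the following are equivalent: (1) the commutator subgroup of G is simple (possibly of prime order); (2) G acts primitively on D by conjugation; (3) the largest normal 2-subgroup and the largest normal 3-subgroup of G are trivial and the commuting graph of D is connected. -/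
theorem result {G : Type*} [Group G] [Finite G] {D : Set G} (hD : Cfsg.IsThreeTranspositionClass D) (hZ : Subgroup.center G = ⊥) (hw : ∃ a ∈ D, ∃ b ∈ D, a ≠ b ∧ Commute a b) : (IsSimpleGroup (commutator G) ↔ Cfsg.IsPrimitiveUnderConj D) ∧ (Cfsg.IsPrimitiveUnderConj D ↔ (Cfsg.pCore 2 G = ⊥ ∧ Cfsg.pCore 3 G = ⊥ ∧ (Cfsg.commutingGraph D).Connected)) := by
  obtain ⟨a, ha, b, hb, hab, hcab⟩ := hw
  have hD2 : ∃ a ∈ D, ∃ b ∈ D, a ≠ b := ⟨a, ha, b, hb, hab⟩
  have hDg : Cfsg.IsThreeTranspositionGroup D :=
    ⟨hD.1, Cfsg.Agent.FischerSpace.class_invariant hD, hD.2.2⟩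
  have facts : Cfsg.IsPrimitiveUnderConj D →
      Cfsg.pCore 2 G = ⊥ ∧ Cfsg.pCore 3 G = ⊥ ∧ (Cfsg.commutingGraph D).Connected := fun hp => by
    have := Cfsg.Agent.FischerSpace.primitive_facts hDg hp ⟨a, ha, b, hb, hab, hcab⟩
    simpa [hZ, le_bot_iff] using this
  refine ⟨⟨fun hs => ?_, fun hp => ?_⟩, ⟨facts, fun ⟨h2, h3, hcon⟩ => ?_⟩⟩
  · by_cases hc : IsMulCommutative (commutator G)
    · exfalso
      haveI := hs
      haveI := hc
      letI : CommGroup (commutator G) :=
        { (inferInstance : Group (commutator G)) with mul_comm := fun x y => hc.is_comm.comm x y }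
      have hp := IsSimpleGroup.prime_card (α := commutator G)
      have hxG : a * b ∈ commutator G := by
        have := Cfsg.Agent.FischerSpace.inv_mul_mem_commutator hD ha hb
        rwa [Cfsg.Agent.FischerSpace.inv_eq hD.1 ha] at this
      have hx1 : a * b ≠ 1 := fun e => hab (by
        rw [mul_eq_one_iff_eq_inv, Cfsg.Agent.FischerSpace.inv_eq hD.1 hb] at e
        exact e)
      have hord : orderOf (⟨a * b, hxG⟩ : commutator G) = 2 := by
        refine orderOf_eq_prime (p := 2) (Subtype.ext ?_) (fun e => hx1 (congrArg Subtype.val e))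
        show (a * b) ^ 2 = 1
        rw [hcab.mul_pow, pow_two, pow_two, Cfsg.Agent.FischerSpace.mul_self hD.1 ha,
          Cfsg.Agent.FischerSpace.mul_self hD.1 hb, one_mul]
      have hcard : Nat.card (commutator G) = 2 := by
        have h := orderOf_dvd_natCard (⟨a * b, hxG⟩ : commutator G)
        rw [hord] at h
        exact ((Nat.prime_dvd_prime_iff_eq Nat.prime_two hp).1 h).symm
      have hmem : a * b ∈ Subgroup.center G := by
        rw [Subgroup.mem_center_iff]
        intro g
        have hg : g * (a * b) * g⁻¹ ∈ commutator G :=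
          (inferInstance : (commutator G).Normal).conj_mem _ hxG g
        obtain ⟨u, v, -, huv⟩ := Nat.card_eq_two_iff.1 hcard
        have hall : ∀ z : commutator G, z = u ∨ z = v := fun z => by
          have : z ∈ ({u, v} : Set (commutator G)) := by rw [huv]; trivial
          simpa using this
        have key : (⟨g * (a * b) * g⁻¹, hg⟩ : commutator G) = ⟨a * b, hxG⟩ := by
          have h1 : (⟨g * (a * b) * g⁻¹, hg⟩ : commutator G) ≠ 1 := fun e => hx1 (by
            simpa [conj_eq_one_iff] using congrArg Subtype.val e)
          have h2 : (⟨a * b, hxG⟩ : commutator G) ≠ 1 := fun e => hx1 (congrArg Subtype.val e)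
          rcases hall 1 with h | h <;> rcases hall ⟨g * (a * b) * g⁻¹, hg⟩ with k | k <;>
            rcases hall ⟨a * b, hxG⟩ with l | l <;>
            first
              | exact k.trans l.symm
              | exact absurd (k.trans h.symm) h1
              | exact absurd (l.trans h.symm) h2
        exact mul_inv_eq_iff_eq_mul.1 (congrArg Subtype.val key)
      rw [hZ, Subgroup.mem_bot] at hmem
      exact hx1 hmem
    · exact Cfsg.Agent.FischerSpace.primitive_of_simple_commutator hD hD2 hs hc
  · obtain ⟨h2, h3, hcon⟩ := facts hp
    have h2' : Cfsg.pCore 2 G ≤ Subgroup.center G := h2 ▸ bot_le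
    have h3' : Cfsg.pCore 3 G ≤ Subgroup.center G := h3 ▸ bot_le
    obtain ⟨L, hn, hq, hidx, -, -⟩ :=
      Cfsg.Agent.FischerSpace.primitive_of_connected hD hD2 h2' h3' hcon
    haveI := hn
    have hLG : commutator G = L := le_antisymm
      (Cfsg.Agent.FischerSpace.commutator_le_of_index_le_two hidx) (by
        rw [← Cfsg.Agent.FischerSpace.quasisimple_commutator hq, commutator_def]
        exact Subgroup.commutator_mono le_top le_top)
    have hmap : (Subgroup.center L).map L.subtype ≤ Subgroup.center G := by
      haveI : ((Subgroup.center L).map L.subtype).Normal := inferInstance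
      refine Cfsg.Agent.FischerSpace.mem_center_of_solvable_normal hD h2' h3' _ ?_
      haveI : Group.IsSolvable (Subgroup.center L) :=
        isSolvable_of_comm fun x y => Subtype.ext ((Subgroup.mem_center_iff.1 y.2) x.1)
      exact solvable_of_surjective (f := ((Subgroup.center L).equivMapOfInjective L.subtype
        L.subtype_injective).toMonoidHom) (MulEquiv.surjective _)
    have hzL : Subgroup.center L = ⊥ := by
      rw [hZ, le_bot_iff, Subgroup.map_eq_bot_iff_of_injective _ L.subtype_injective] at hmap
      exact hmap
    have := hq.2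
    rw [hLG]
    exact ((QuotientGroup.quotientMulEquivOfEq hzL).trans QuotientGroup.quotientBot).isSimpleGroup_congr.1
      this
  · obtain ⟨L, -, -, -, -, hp⟩ := Cfsg.Agent.FischerSpace.primitive_of_connected hD hD2
      (h2 ▸ bot_le) (h3 ▸ bot_le) hcon
    exact hp

end Cfsg.Agent.S5361
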