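import Cfsg.Statements.S5363


set_option autoImplicit false
open Cfsg

namespace Cfsg.Agent.S5363

/-- Let D be a conjugation-invariant set of involutions of a finite group G. Then every product of two members of D has odd order or order 2 if and only if, for every a in D and every b in D different from a and commuting with a, the members of D commuting with a b are exactly those commuting with both a and b. -/
theorem result {G : Type*} [Group G] [Finite G] {D : Set G} (hinv : ∀ d ∈ D, orderOf d = 2) (hconj : ∀ g : G, ∀ d ∈ D, g * d * g⁻¹ ∈ D) : (∀ a ∈ D, ∀ b ∈ D, Odd (orderOf (a * b)) ∨ orderOf (a * b) = 2) ↔ ∀ a ∈ D, ∀ b ∈ D, b ≠ a → Commute a b → {y : G | y ∈ D ∧ Commute (a * b) y} = {y : G | y ∈ D ∧ Commute a y} ∩ {y : G | y ∈ D ∧ Commute b y} := by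
  classical
  have sq : ∀ d ∈ D, d * d = 1 := fun d hd => by
    have := pow_orderOf_eq_one d
    rwa [hinv d hd, pow_two] at this
  have inve : ∀ d ∈ D, d⁻¹ = d := fun d hd => inv_eq_of_mul_eq_one_left (sq d hd)
  constructor
  · intro hodd a ha b hb hba hab
    ext y
    constructor
    · rintro ⟨hy, hyt⟩
      have key : Commute a y := by
        by_contra hay
        have hne : a * y ≠ 1 := fun h => hay (by
          rw [mul_eq_one_iff_eq_inv.1 h, inve y hy])
        have hn : Odd (orderOf (a * y)) := by
          refine (hodd a ha y hy).resolve_right fun h2 => hay ?_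
          have h := pow_orderOf_eq_one (a * y)
          rw [h2, pow_two, mul_eq_one_iff_eq_inv, mul_inv_rev, inve a ha, inve y hy] at h
          exact h
        obtain ⟨j, hj⟩ := hn
        have hat : Commute (a * b) a := (Commute.refl a).mul_left hab.symm
        -- y is conjugate to a by a power of a * y, which centralises a * b
        have hrev : ∀ i : ℕ, a * ((a * y) ^ i)⁻¹ = (a * y) ^ i * a := by
          intro i
          induction i with
          | zero => simp
          | succ i ih =>
            rw [pow_succ, mul_inv_rev, mul_inv_rev (a := a) (b := y), inve a ha, inve y hy,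
              show a * (y * a * ((a * y) ^ i)⁻¹) = (a * y) * (a * ((a * y) ^ i)⁻¹) by
                simp only [mul_assoc], ih, ← mul_assoc, ← pow_succ', pow_succ]
        have hcj : (a * y) ^ j * a * ((a * y) ^ j)⁻¹ = y := by
          rw [mul_assoc, hrev, ← mul_assoc, ← pow_add]
          have h := pow_orderOf_eq_one (a * y)
          rw [hj, pow_succ, mul_eq_one_iff_eq_inv, mul_inv_rev, inve a ha, inve y hy] at h
          rw [← two_mul, h, mul_assoc, sq a ha, mul_one]
        have hg : Commute ((a * y) ^ j) (a * b) := ((hat.mul_right hyt).pow_right j).symm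
        have hb'' : y * (a * b) ∈ D := by
          have : y * (a * b) = (a * y) ^ j * b * ((a * y) ^ j)⁻¹ := by
            conv_lhs => rw [← hcj]
            rw [mul_assoc ((a * y) ^ j * a), ← (hg.inv_left).eq.symm, ← mul_assoc, mul_assoc ((a * y) ^ j),
              ← mul_assoc a a b, sq a ha, one_mul]
          rw [this]
          exact hconj _ b hb
        have hT : Commute (a * y) (a * b) := (hat.symm.mul_left hyt.symm)
        have hto : orderOf (a * b) = 2 := by
          refine orderOf_eq_prime (hp := ⟨Nat.prime_two⟩) ?_ fun h => hba ?_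
          · rw [hab.mul_pow, pow_two, pow_two, sq a ha, sq b hb, one_mul]
          · exact ((mul_eq_one_iff_eq_inv.1 h).trans (inve b hb)).symm
        have hord : orderOf (a * (y * (a * b))) = orderOf (a * y) * 2 := by
          rw [← mul_assoc, hT.orderOf_mul_eq_mul_orderOf_of_coprime, hto]
          rw [hto]
          exact Nat.coprime_two_right.2 ⟨j, hj⟩
        rcases hodd a ha _ hb'' with h | h
        · rw [hord] at h
          exact (Nat.not_odd_iff_even.2 ⟨orderOf (a * y), by ring⟩) h
        · rw [hord] at h
          exact hne (orderOf_eq_one_iff.1 (by omega))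
      refine ⟨⟨hy, key⟩, hy, ?_⟩
      have := key.inv_left.mul_left hyt
      rwa [← mul_assoc, inv_mul_cancel, one_mul] at this
    · rintro ⟨⟨hy, h1⟩, -, h2⟩
      exact ⟨hy, h1.mul_left h2⟩
  · intro hC a ha b hb
    by_contra h
    push Not at h
    obtain ⟨h1, h2⟩ := h
    obtain ⟨m, hm⟩ := Nat.not_odd_iff_even.1 h1
    have hpos : 0 < orderOf (a * b) := orderOf_pos _
    set z := (a * b) ^ m with hz
    have hz2 : z * z = 1 := by rw [hz, ← pow_add, ← hm, pow_orderOf_eq_one]
    have hz1 : z ≠ 1 := by
      intro e
      have := orderOf_dvd_of_pow_eq_one e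
      have := Nat.le_of_dvd (by omega) this
      omega
    have inD : ∀ k : ℕ, (a * b) ^ k * a ∈ D ∧ (a * b) ^ (k + 1) * a ∈ D := by
      intro k
      induction k with
      | zero =>
        refine ⟨by simpa using ha, ?_⟩
        have := hconj a b hb
        rw [inve a ha] at this
        simpa [mul_assoc] using this
      | succ k ih =>
        refine ⟨ih.2, ?_⟩
        have := hconj (a * b) _ ih.1
        rw [mul_inv_rev, inve a ha, inve b hb] at this
        have e : a * b * ((a * b) ^ k * a) * (b * a) = (a * b) ^ (k + 1 + 1) * a := by
          rw [pow_succ, pow_succ']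
          simp only [mul_assoc]
        rwa [e] at this
    have hinvz : z⁻¹ = z := inv_eq_of_mul_eq_one_left hz2
    have haz : Commute a z := by
      have e : a * z * a⁻¹ = (b * a) ^ m := by
        rw [hz, ← conj_pow, inve a ha]
        congr 1
        rw [← mul_assoc a a b, sq a ha, one_mul]
      rw [show b * a = (a * b)⁻¹ by rw [mul_inv_rev, inve a ha, inve b hb], inv_pow, ← hz, hinvz] at e
      exact mul_inv_eq_iff_eq_mul.1 e
    have he : z * a ∈ D := (inD m).1
    have hzb : Commute (a * (z * a)) b := by
      rw [← mul_assoc, haz.eq, mul_assoc, sq a ha, mul_one]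
      have e : Commute z (a * b) := (Commute.refl (a * b)).pow_left m
      have := haz.symm.inv_right.mul_right e
      rwa [← mul_assoc, inv_mul_cancel, one_mul] at this
    have hcomm : Commute a (z * a) := haz.mul_right (Commute.refl a)
    have := (Set.ext_iff.1 (hC a ha (z * a) he (fun e => hz1 (by simpa using e)) hcomm) b).1 ⟨hb, hzb⟩
    have hab : Commute a b := this.1.2
    have := orderOf_dvd_of_pow_eq_one (show (a * b) ^ 2 = 1 by
      rw [hab.mul_pow, pow_two, pow_two, sq a ha, sq b hb, one_mul])
    have := Nat.le_of_dvd (by norm_num) this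
    omega

end Cfsg.Agent.S5363
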