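import Cfsg.Statements.S5364


set_option autoImplicit false
open Cfsg

namespace Cfsg.Agent.S5364

/-- Let D be a conjugation-invariant set of involutions of a finite group G and t an involution in the centre of G such that d t does not lie in D for any d in D. If the images of the members of D in G modulo the subgroup generated by t satisfy the 3-transposition order conditions (each has order 2 and any two have product of order at most 3), then so do the members of D. -/
theorem result {G : Type*} [Group G] [Finite G] {D : Set G} (hinv : ∀ d ∈ D, orderOf d = 2) (hconj : ∀ g : G, ∀ d ∈ D, g * d * g⁻¹ ∈ D) (t : G) (ht : orderOf t = 2) (htZ : t ∈ Subgroup.center G) (hDt : ∀ d ∈ D, d * t ∉ D) [(Subgroup.zpowers t).Normal] (himg : Cfsg.IsThreeTranspositionSet ((QuotientGroup.mk : G → G ⧸ Subgroup.zpowers t) '' D)) : Cfsg.IsThreeTranspositionSet D := by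
  have hZc : ∀ x : G, Commute t x := fun x => (Subgroup.mem_center_iff.1 htZ x).symm
  have sq : ∀ d ∈ D, d * d = 1 := fun d hd => by
    have := pow_orderOf_eq_one d
    rwa [hinv d hd, pow_two] at this
  have inve : ∀ d ∈ D, d⁻¹ = d := fun d hd => inv_eq_of_mul_eq_one_left (sq d hd)
  have cases : ∀ x : G, (x : G ⧸ Subgroup.zpowers t) = 1 → x = 1 ∨ x = t := by
    intro x hx
    obtain ⟨i, rfl⟩ := Subgroup.mem_zpowers_iff.1 ((QuotientGroup.eq_one_iff x).1 hx)
    have ht2 : t * t = 1 := by
      have := pow_orderOf_eq_one t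
      rwa [ht, pow_two] at this
    rcases Int.even_or_odd' i with ⟨j, rfl | rfl⟩
    · left; rw [zpow_mul, zpow_two, ht2, one_zpow]
    · right; rw [zpow_add, zpow_mul, zpow_two, ht2, one_zpow, one_mul, zpow_one]
  refine ⟨hinv, fun d hd e he => ?_⟩
  rcases himg.2 _ ⟨d, hd, rfl⟩ _ ⟨e, he, rfl⟩ with h | h
  · rw [← QuotientGroup.mk_mul, ← QuotientGroup.mk_pow] at h
    refine Or.inl ((cases _ h).resolve_right fun ht' => hDt d hd ?_)
    have e1 : d * t = e * d * e⁻¹ := by
      rw [← ht', pow_two, inve e he]
      simp only [← mul_assoc, sq d hd, one_mul]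
    rw [e1]; exact hconj e d hd
  · rw [← QuotientGroup.mk_mul, ← QuotientGroup.mk_pow] at h
    refine Or.inr ((cases _ h).resolve_right fun ht' => hDt d hd ?_)
    have e1 : d * t = (d * e * d) * e * (d * e * d)⁻¹ := by
      rw [← (hZc d).eq, ← ht', mul_inv_rev, mul_inv_rev, inve d hd, inve e he]
      simp only [pow_succ, pow_zero, one_mul, mul_assoc]
    rw [e1]; exact hconj _ e he

end Cfsg.Agent.S5364
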