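import Cfsg.Statements.S5366
import Cfsg.Agent.Lib.FischerSpace.Maps

set_option autoImplicit false
open Cfsg

namespace Cfsg.Agent.S5366

/-- Let L be a nondegenerate Fischer space on the point type X (every point on a line). Then for every point x the map t(x) — sending a point collinear with x to the third point of their common line and fixing every other point — is a permutation of X of order 2 and an automorphism of the line system; and the set of all t(x) satisfies the 3-transposition order conditions in the permutation group of X (any two have product of order at most 3). -/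
theorem result {X : Type*} (L : Set (Set X)) (hL : Cfsg.IsFischerSpace L) (hnd : Cfsg.LineSystem.IsNondegenerate L) : (∀ x : X, ∃ σ : Equiv.Perm X, ⇑σ = Cfsg.LineSystem.lineMap L x ∧ orderOf σ = 2 ∧ Cfsg.LineSystem.IsIso L L σ) ∧ Cfsg.IsThreeTranspositionSet {σ : Equiv.Perm X | ∃ x : X, ⇑σ = Cfsg.LineSystem.lineMap L x} := by
  have key : ∀ x : X, orderOf (Cfsg.Agent.FischerSpace.linePerm hL x) = 2 := fun x =>
    orderOf_eq_prime (hp := ⟨Nat.prime_two⟩)
      (by rw [pow_two, Cfsg.Agent.FischerSpace.linePerm_mul_self])
      (Cfsg.Agent.FischerSpace.linePerm_ne_one hL hnd x)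
  refine ⟨fun x => ⟨_, rfl, key x, Cfsg.Agent.FischerSpace.linePerm_isIso hL x⟩, ?_, ?_⟩
  · rintro σ ⟨x, hx⟩
    rw [show σ = Cfsg.Agent.FischerSpace.linePerm hL x from Equiv.ext fun y => congrFun hx y]
    exact key x
  · rintro σ ⟨x, hx⟩ τ ⟨y, hy⟩
    rw [show σ = Cfsg.Agent.FischerSpace.linePerm hL x from Equiv.ext fun u => congrFun hx u,
      show τ = Cfsg.Agent.FischerSpace.linePerm hL y from Equiv.ext fun u => congrFun hy u]
    exact Cfsg.Agent.FischerSpace.linePerm_pair hL x y

end Cfsg.Agent.S5366
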