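import Cfsg.Statements.S5373
import Cfsg.Agent.TT95.Orders

set_option autoImplicit false
open Cfsg

namespace Cfsg.Agent.S5373

theorem result {G : Type*} [Group G] [Finite G] {D : Set G} (hD : Cfsg.IsThreeTranspositionGroup D) (hprim : Cfsg.IsPrimitiveUnderConj D) (ht : Cfsg.IsOfTypeM22 G D) (hex : ∃ (X : Type) (_ : Group X) (_ : Finite X) (E : Set X), Cfsg.IsThreeTranspositionClass E ∧ Cfsg.IsPrimitiveUnderConj E ∧ Cfsg.IsOfTypeM24 X E) : D.ncard = 3510 ∧ Nat.card G = 2 ^ 17 * 3 ^ 9 * 5 ^ 2 * 7 * 11 * 13 ∧ Cfsg.commutingWidth D = 22 ∧ ∀ d ∈ D, Subgroup.closure {y : G | y ∈ D ∧ y ≠ d ∧ Commute d y} = Subgroup.centralizer ({d} : Set G) := by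
  have hC := TT95.cfg22_of_type hD hprim ht
  haveI := TT95.Gen.of_group hD
  replace hD := TT95.TTSet.of_group hD
  have hcore := TT95.core22_of_type ht
  obtain ⟨a, ha, -⟩ := hprim.2.1
  refine ⟨TT95.ncard_D hC ha, ?_, TT95.width_eq hC ha, fun d hd => (TT95.centralizer_eq hC hd).symm⟩
  rw [TT95.card_group hC ha hcore]; norm_num

end Cfsg.Agent.S5373
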