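import Cfsg.Statements.S5376
import Cfsg.Agent.TT95.Orders

set_option autoImplicit false
open Cfsg

namespace Cfsg.Agent.S5376

theorem result {G : Type*} [Group G] [Finite G] {D : Set G} (hD : Cfsg.IsThreeTranspositionGroup D) (hprim : Cfsg.IsPrimitiveUnderConj D) (ht : Cfsg.IsOfTypeM22 G D) (hex : ∃ (X : Type) (_ : Group X) (_ : Finite X) (E : Set X), Cfsg.IsThreeTranspositionClass E ∧ Cfsg.IsPrimitiveUnderConj E ∧ Cfsg.IsOfTypeM23 X E) : IsSimpleGroup G ∧ ∀ d ∈ D, d ∈ Subgroup.closure {y : G | y ∈ D ∧ y ≠ d ∧ Commute d y} ∧ Cfsg.IsQuasisimple ↥(Subgroup.closure {y : G | y ∈ D ∧ y ≠ d ∧ Commute d y}) ∧ Subgroup.center ↥(Subgroup.closure {y : G | y ∈ D ∧ y ≠ d ∧ Commute d y}) = (Subgroup.zpowers d).subgroupOf (Subgroup.closure {y : G | y ∈ D ∧ y ≠ d ∧ Commute d y}) := by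
  have hC := TT95.cfg22_of_type hD hprim ht
  haveI := TT95.Gen.of_group hD
  replace hD := TT95.TTSet.of_group hD
  have hcore := TT95.core22_of_type ht
  obtain ⟨a, ha, -⟩ := hprim.2.1
  refine ⟨TT95.group_simple hC ha hprim, fun d hd => ?_⟩
  obtain ⟨γ, hγ⟩ := hC.loc d hd
  exact ⟨TT95.self_mem hC hd hγ, ⟨TT95.loc_perfect hC hd, (TT95.isU6_loc hC hcore hd).isSimple⟩,
    TT95.center_loc hC hd⟩

end Cfsg.Agent.S5376
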