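import Cfsg.Statements.S5385
import Cfsg.Agent.Co1FiveCent36.Main
import Cfsg.Agent.Lib.Components.GenFitting

set_option autoImplicit false
open Cfsg

namespace Cfsg.Agent.S5385

/-- Let G be a finite group of Conway type (involution z with generalized Fitting subgroup Q of its centralizer C extraspecial of order 2^9, C/Q the commutator subgroup of the isometry group of the hyperbolic quadratic form in dimension 8 over the field with two elements, z not weakly closed in Q), and let B be a subgroup of C of order 5 such that the centralizer of B in Q is extraspecial of order 32 containing no elementary abelian subgroup of order 8 (the quaternion-times-dihedral type). Then the layer L of the centralizer of B in G is isomorphic to the Hall–Janko group and the centralizer of L is isomorphic to the alternating group of degree 5. -/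
theorem result {G : Type*} [Group G] [Finite G] (z : G) (hz : orderOf z = 2) (Q : Subgroup (Subgroup.centralizer ({z} : Set G))) [Q.Normal] (hF : Cfsg.generalizedFittingSubgroup (Subgroup.centralizer ({z} : Set G)) = Q) (hQ : Cfsg.IsExtraspecial 2 Q) (hcard : Nat.card Q = 2 ^ 9) (e : (Subgroup.centralizer ({z} : Set G)) ⧸ Q ≃* Cfsg.Omega (ZMod 2) (Cfsg.quadFormPlus 4 (ZMod 2))) (hnwc : ∃ g : G, (∃ hq : g * z * g⁻¹ ∈ Subgroup.centralizer ({z} : Set G), (⟨g * z * g⁻¹, hq⟩ : Subgroup.centralizer ({z} : Set G)) ∈ Q) ∧ g * z * g⁻¹ ≠ z) (B : Subgroup (Subgroup.centralizer ({z} : Set G))) (hB : Nat.card B = 5) (hCQ : Cfsg.IsExtraspecial 2 ↥(Q ⊓ Subgroup.centralizer (B : Set (Subgroup.centralizer ({z} : Set G))))) (hCQcard : Nat.card ↥(Q ⊓ Subgroup.centralizer (B : Set (Subgroup.centralizer ({z} : Set G)))) = 32) (hminus : ∀ A : Subgroup (Subgroup.centralizer ({z} : Set G)), A ≤ Q ⊓ Subgroup.centralizer (B : Set (Subgroup.centralizer ({z} : Set G))) → Cfsg.IsElementaryAbelian 2 A → Nat.card A ≤ 4)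 : Cfsg.Spor.IsoJ2 ↥(Cfsg.layer ↥(Subgroup.centralizer ((B.map (Subgroup.subtype (Subgroup.centralizer ({z} : Set G)))) : Set G))) ∧ Nonempty (↥(Subgroup.centralizer (((Cfsg.layer ↥(Subgroup.centralizer ((B.map (Subgroup.subtype (Subgroup.centralizer ({z} : Set G)))) : Set G))).map (Subgroup.subtype _)) : Set G)) ≃* alternatingGroup (Fin 5)) := by
  classical
  haveI : Fact (Nat.Prime 5) := ⟨by norm_num⟩
  haveI : Fact (Nat.Prime 2) := ⟨Nat.prime_two⟩
  obtain ⟨Q', ⟨D⟩⟩ := Cfsg.Agent.LargeExt10.Co.exists_co z hz Q hF hQ hcard e hnwc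
  have hQ'C : Q' ≤ Subgroup.centralizer ({z} : Set G) := D.setup.le_centralizer
  have hQ' : Q' = Q.map (Subgroup.centralizer ({z} : Set G)).subtype := by
    haveI : (Q'.subgroupOf (Subgroup.centralizer ({z} : Set G))).Normal :=
      Subgroup.normal_subgroupOf_iff_le_normalizer hQ'C |>.2 D.setup.centralizer_le
    have hp : IsPGroup 2 ↥(Q'.subgroupOf (Subgroup.centralizer ({z} : Set G))) :=
      IsPGroup.of_card (n := 9) (by
        rw [Nat.card_congr (Subgroup.subgroupOfEquivOfLe hQ'C).toEquiv, D.card]; norm_num)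
    have h1 : Q'.subgroupOf (Subgroup.centralizer ({z} : Set G)) ≤ Q := hF ▸
      (Components.le_fitting_of_isSubnormal (Subgroup.Normal.isSubnormal inferInstance) hp.isNilpotent).trans
        Components.fitting_le_generalizedFitting
    have h2 : Q'.subgroupOf (Subgroup.centralizer ({z} : Set G)) = Q := Subgroup.eq_of_le_of_card_ge h1 (by
      rw [Nat.card_congr (Subgroup.subgroupOfEquivOfLe hQ'C).toEquiv, D.card, hcard]; norm_num)
    rw [← h2, Subgroup.map_subgroupOf_eq_of_le hQ'C]
  obtain ⟨⟨b0, hb0⟩, hb5⟩ : ∃ x : B, orderOf x = 5 := exists_prime_orderOf_dvd_card' 5 (by rw [hB])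
  rw [← Subgroup.orderOf_coe, Subtype.coe_mk] at hb5
  have hBeq : B = Subgroup.zpowers b0 := (Subgroup.eq_of_le_of_card_ge (Subgroup.zpowers_le.2 hb0)
    (by rw [Nat.card_zpowers, hb5, hB])).symm
  have hbord : orderOf (b0 : G) = 5 := by rw [Subgroup.orderOf_coe, hb5]
  have hbz : Commute (b0 : G) z := Subgroup.mem_centralizer_singleton_iff.1 b0.2
  set S := Q ⊓ Subgroup.centralizer (B : Set (Subgroup.centralizer ({z} : Set G))) with hS
  have hmemS : ∀ u : (Subgroup.centralizer ({z} : Set G)), u ∈ S ↔ u ∈ Q ∧ Commute (u : G) b0 := by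
    intro u
    rw [hS, Subgroup.mem_inf, hBeq, Subgroup.mem_centralizer_iff]
    refine and_congr_right fun _ => ⟨fun h => (congrArg Subtype.val (h b0 (Subgroup.mem_zpowers b0))).symm, fun h v hv => ?_⟩
    obtain ⟨i, rfl⟩ := Subgroup.mem_zpowers_iff.1 hv
    exact ((show Commute u b0 from Subtype.ext h.eq).zpow_right i).symm.eq
  obtain ⟨x, hxS, hxz⟩ : ∃ x ∈ S, (x : G) ∉ Subgroup.zpowers z := by
    by_contra hall
    push Not at hall
    have h1 : Nat.card S ≤ Nat.card (Subgroup.zpowers z) :=
      Nat.card_le_card_of_injective (fun u => ⟨((u : S) : (Subgroup.centralizer ({z} : Set G))), hall _ u.2⟩)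
        fun u v h => Subtype.ext (Subtype.ext (congrArg (fun w : Subgroup.zpowers z => (w : G)) h))
    rw [hCQcard, Nat.card_zpowers, hz] at h1
    omega
  obtain ⟨D', b', hfive, hzp⟩ := Co1FiveCent36.exists_five D hbord hbz
    (hQ' ▸ ⟨x, ((hmemS x).1 hxS).1, rfl⟩) hxz ((hmemS x).1 hxS).2
  obtain ⟨F, hs, hy⟩ := hfive.exists_frame
  have hcent : Subgroup.centralizer ({b'} : Set G) = Subgroup.centralizer ({(b0 : G)} : Set G) := by
    rw [← LargeExtraspecial.centralizer_zpowers, hzp, LargeExtraspecial.centralizer_zpowers]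
  have hmap : S.map (Subgroup.centralizer ({z} : Set G)).subtype =
      Q' ⊓ Subgroup.centralizer ({b'} : Set G) := by
    ext g
    rw [hcent, Subgroup.mem_inf, hQ', Subgroup.mem_centralizer_singleton_iff]
    constructor
    · rintro ⟨u, hu, rfl⟩
      exact ⟨⟨u, ((hmemS u).1 hu).1, rfl⟩, ((hmemS u).1 hu).2.eq⟩
    · rintro ⟨⟨u, hu, rfl⟩, hc⟩
      exact ⟨u, (hmemS u).2 ⟨hu, hc⟩, rfl⟩
  have hcardR : Nat.card ↥(Q' ⊓ Subgroup.centralizer ({b'} : Set G)) = 32 := by
    rw [← hmap, Subgroup.card_map_of_injective (Subgroup.centralizer ({z} : Set G)).subtype_injective,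
      hCQcard]
  have hBm : B.map (Subgroup.centralizer ({z} : Set G)).subtype = Subgroup.zpowers b' := by
    rw [hzp, hBeq, MonoidHom.map_zpowers]
    rfl
  have key := Co1FiveCent36.Cfg.conclusion ⟨hfive, F, hs, hy, hcardR⟩
  rw [← LargeExtraspecial.centralizer_zpowers, ← hBm] at key
  exact key

end Cfsg.Agent.S5385
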