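import Cfsg.Statements.S5387
import Cfsg.Agent.RecogB.SL34Unique

set_option autoImplicit false
open Cfsg

namespace Cfsg.Agent.S5387

/-- Up to isomorphism there is at most one quasisimple group whose centre is elementary abelian of order 4 and whose central quotient is isomorphic to the projective special linear group of dimension 3 over the field with four elements: any two such groups are isomorphic. -/
theorem result {L₁ L₂ : Type*} [Group L₁] [Finite L₁] [Group L₂] [Finite L₂] (F : Type) [Field F] [Fintype F] (hF : Fintype.card F = 4) (h₁ : Cfsg.IsQuasisimple L₁) (h₂ : Cfsg.IsQuasisimple L₂) (hc₁ : Nat.card (Subgroup.center L₁) = 4) (hc₂ : Nat.card (Subgroup.center L₂) = 4) (he₁ : ∀ x ∈ Subgroup.center L₁, x * x = 1) (he₂ : ∀ x ∈ Subgroup.center L₂, x * x = 1) (e₁ : L₁ ⧸ Subgroup.center L₁ ≃* Matrix.ProjectiveSpecialLinearGroup (Fin 3) F) (e₂ : L₂ ⧸ Subgroup.center L₂ ≃* Matrix.ProjectiveSpecialLinearGroup (Fin 3) F) : Nonempty (L₁ ≃* L₂) := by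
  refine RecogB.SL34.unique hF (Group.isPerfect_def.1 h₁.1) (Group.isPerfect_def.1 h₂.1)
    (e₁.toMonoidHom.comp (QuotientGroup.mk' _)) (e₁.surjective.comp (QuotientGroup.mk'_surjective _))
    (e₂.toMonoidHom.comp (QuotientGroup.mk' _)) (e₂.surjective.comp (QuotientGroup.mk'_surjective _))
    ?_ ?_ ?_ ?_
  · rw [show e₁.toMonoidHom = (e₁ : _ →* _) from rfl, MonoidHom.ker_mulEquiv_comp, QuotientGroup.ker_mk', hc₁]
  · rw [show e₂.toMonoidHom = (e₂ : _ →* _) from rfl, MonoidHom.ker_mulEquiv_comp, QuotientGroup.ker_mk', hc₂]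
  · intro z hz
    have hz' : z ∈ Subgroup.center L₁ := (QuotientGroup.eq_one_iff z).1 ((map_eq_one_iff e₁ e₁.injective).1 hz)
    exact ⟨fun y => (Subgroup.mem_center_iff.1 hz' y).symm, he₁ z hz'⟩
  · intro z hz
    have hz' : z ∈ Subgroup.center L₂ := (QuotientGroup.eq_one_iff z).1 ((map_eq_one_iff e₂ e₂.injective).1 hz)
    exact ⟨fun y => (Subgroup.mem_center_iff.1 hz' y).symm, he₂ z hz'⟩

end Cfsg.Agent.S5387
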