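import Cfsg.Statements.S5392
import Cfsg.Agent.Lib.Leech.Orbits
import Cfsg.Agent.Lib.Leech.Generated
import Cfsg.Agent.Lib.Leech.Center
import Cfsg.Agent.Lib.Leech.CodeUnique

set_option autoImplicit false
open Cfsg

namespace Cfsg.Agent.S5392

open Cfsg.Agent.Leech

/-- The element `(±4, ±4, 0, ...)` of the lattice. -/
def fv (i j : GolayPt) (hij : i ≠ j) (a b : ℤ) (ha : a = 4 ∨ a = -4) (hb : b = 4 ∨ b = -4) :
    leechLattice := ⟨four i j a b, (four_spec hij ha hb).1⟩

theorem eq_or_neg {g : Co0} (hg : ∀ v : leechLattice, Cong ((g • v : leechLattice) : GolayPt → ℤ) (v : GolayPt → ℤ))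
    {v : leechLattice} (hv : sqNorm (v : GolayPt → ℤ) = 32) : g • v = v ∨ g • v = -v := by
  have hn : sqNorm ((g • v : leechLattice) : GolayPt → ℤ) = 32 := by rw [sqNorm_smul, hv]
  rcases cong_cases noRoots (g • v : leechLattice).2 (by omega) (by omega) (hg v) with e | e | ⟨e, -, -⟩
  · exact .inl (Subtype.ext e)
  · exact .inr (Subtype.ext e)
  · omega

theorem same_sign {g : Co0} {v w : leechLattice} (hd : dotInt (v : GolayPt → ℤ) (w : GolayPt → ℤ) ≠ 0)
    (hv : g • v = v) (hw : g • w = w ∨ g • w = -w) : g • w = w := by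
  refine hw.resolve_right fun e => hd ?_
  have := dotInt_smul g v w
  rw [hv, e, AddSubgroup.coe_neg, dotInt_comm, dotInt_neg_left', dotInt_comm] at this
  omega

theorem fixes_frame {g : Co0} (hg : ∀ v : leechLattice, Cong ((g • v : leechLattice) : GolayPt → ℤ) (v : GolayPt → ℤ))
    {a b : GolayPt} (hab : a ≠ b) (h : g • fv a b hab 4 4 (.inl rfl) (.inl rfl) =
      fv a b hab 4 4 (.inl rfl) (.inl rfl)) : g = 1 := by
  have key : ∀ (i j k : GolayPt) (hij : i ≠ j) (hik : i ≠ k) (x y p q : ℤ) (hx : x = 4 ∨ x = -4)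
      (hy : y = 4 ∨ y = -4) (hp : p = 4 ∨ p = -4) (hq : q = 4 ∨ q = -4),
      (j ≠ k ∨ (j = k ∧ x * p + y * q ≠ 0)) → g • fv i j hij x y hx hy = fv i j hij x y hx hy →
      g • fv i k hik p q hp hq = fv i k hik p q hp hq := by
    intro i j k hij hik x y p q hx hy hp hq hjk e
    refine same_sign ?_ e (eq_or_neg hg (four_spec hik hp hq).2)
    show dotInt (four i j x y) (four i k p q) ≠ 0
    rw [dotInt_four]
    rcases hjk with hjk | ⟨rfl, hne⟩
    · simp [four, hik, hij.symm, hjk]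
      rcases hx with rfl | rfl <;> rcases hp with rfl | rfl <;> norm_num
    · simpa [four, hij, hij.symm] using hne
  have swap : ∀ (i j : GolayPt) (hij : i ≠ j) (x y : ℤ) (hx : x = 4 ∨ x = -4) (hy : y = 4 ∨ y = -4),
      fv i j hij x y hx hy = fv j i hij.symm y x hy hx := fun i j hij x y hx hy =>
    Subtype.ext (add_comm _ _)
  obtain ⟨c, hca, hcb, -⟩ := exists_ne_ne a b a
  have h4 : (4 : ℤ) = 4 ∨ (4 : ℤ) = -4 := .inl rfl
  have hn4 : (-4 : ℤ) = 4 ∨ (-4 : ℤ) = -4 := .inr rfl
  have sa : ∀ k (hk : a ≠ k) p q hp hq, g • fv a k hk p q hp hq = fv a k hk p q hp hq := by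
    intro k hk p q hp hq
    have ac := key a b c hab hca.symm 4 4 4 4 h4 h4 h4 h4 (.inl hcb.symm) h
    by_cases hkc : c = k
    · subst hkc; exact key a b c hab hk 4 4 p q h4 h4 hp hq (.inl hcb.symm) h
    · exact key a c k hca.symm hk 4 4 p q h4 h4 hp hq (.inl hkc) ac
  have sall : ∀ i k (hk : i ≠ k) p q hp hq, g • fv i k hk p q hp hq = fv i k hk p q hp hq := by
    intro i k hk p q hp hq
    by_cases hi : a = i
    · subst hi; exact sa k hk p q hp hq
    · by_cases hka : a = k
      · subst hka; rw [swap]; exact sa i hk.symm q p hq hp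
      · have := sa i hi 4 4 h4 h4
        rw [swap] at this
        exact key i a k (Ne.symm hi) hk 4 4 p q h4 h4 hp hq (.inl hka) this
  refine ext_frame fun i => ?_
  obtain ⟨j, hj, -, -⟩ := exists_ne_ne i i i
  have e : frame i = fv i j hj.symm 4 4 h4 h4 + fv i j hj.symm 4 (-4) h4 hn4 := by
    refine Subtype.ext (funext fun p => ?_)
    show (Pi.single i 8 : GolayPt → ℤ) p = four i j 4 4 p + four i j 4 (-4) p
    simp only [four, Pi.add_apply, Pi.single_apply]
    split_ifs <;> norm_num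
  rw [one_smul, e, smul_add', sall, sall]

theorem four_mem {M : AddSubgroup (GolayPt → ℤ)}
    (hinv : ∀ g : ↥Cfsg.Co0, ∀ v : ↥Cfsg.leechLattice, (v : Cfsg.GolayPt → ℤ) ∈ M →
      ((g • v : ↥Cfsg.leechLattice) : Cfsg.GolayPt → ℤ) ∈ M)
    {v : leechLattice} (hv : (v : GolayPt → ℤ) ∈ M) (hn : sqNorm (v : GolayPt → ℤ) = 48 ∨
      sqNorm (v : GolayPt → ℤ) = 64) : ∃ w : leechLattice, (w : GolayPt → ℤ) ∈ M ∧
      sqNorm (w : GolayPt → ℤ) = 32 := by
  have h0 : (none : GolayPt) ≠ some 0 := by simp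
  rcases hn with hn | hn
  · obtain ⟨g, hg⟩ := exists_smul_eq_std48 codeUnique hn
    have h1 : (std48 : GolayPt → ℤ) ∈ M := hg ▸ hinv g v hv
    let x := fv none (some 0) h0 4 (-4) (.inl rfl) (.inr rfl)
    have hx : sqNorm (x : GolayPt → ℤ) = 32 := (four_spec h0 (.inl rfl) (.inr rfl)).2
    have h2 : sqNorm ((std48 - x : leechLattice) : GolayPt → ℤ) = 48 := by
      rw [AddSubgroup.coe_sub, sqNorm_sub, sqNorm_std48, hx, dotInt_comm]
      show (48 : ℤ) - 2 * dotInt (four none (some 0) 4 (-4)) _ + 32 = 48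
      rw [dotInt_four, coe_std48, coe_std48, if_pos rfl, if_neg h0.symm]
      norm_num
    obtain ⟨g', hg'⟩ := exists_smul_eq_std48 codeUnique h2
    have h3 : ((std48 - x : leechLattice) : GolayPt → ℤ) ∈ M := by
      have := hinv g'⁻¹ std48 h1
      rwa [← hg', inv_smul_smul] at this
    refine ⟨x, ?_, hx⟩
    have := sub_mem h1 h3
    rwa [AddSubgroup.coe_sub, sub_sub_cancel] at this
  · have hd : ∀ p q : ZMod 23, p ≠ q → (some p : GolayPt) ≠ some q := fun p q h e => h (Option.some.inj e)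
    let f1 := fv none (some 0) h0 4 4 (.inl rfl) (.inl rfl)
    let f2 := fv (some 1) (some 2) (hd _ _ (by decide)) 4 4 (.inl rfl) (.inl rfl)
    let f3 := fv (some 1) (some 3) (hd _ _ (by decide)) 4 4 (.inl rfl) (.inl rfl)
    have hA : sqNorm ((f1 + f2 : leechLattice) : GolayPt → ℤ) = 64 := by
      rw [AddSubgroup.coe_add, sqNorm_add]
      show sqNorm (four _ _ _ _) + 2 * dotInt (four _ _ _ _) (four _ _ _ _) + sqNorm (four _ _ _ _) = 64
      rw [(four_spec h0 (.inl rfl) (.inl rfl)).2, (four_spec (hd 1 2 (by decide)) (.inl rfl) (.inl rfl)).2,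
        dotInt_four]
      simp [four, show (0 : ZMod 23) ≠ 1 by decide, show (0 : ZMod 23) ≠ 2 by decide]
    have hB : sqNorm ((f1 + f3 : leechLattice) : GolayPt → ℤ) = 64 := by
      rw [AddSubgroup.coe_add, sqNorm_add]
      show sqNorm (four _ _ _ _) + 2 * dotInt (four _ _ _ _) (four _ _ _ _) + sqNorm (four _ _ _ _) = 64
      rw [(four_spec h0 (.inl rfl) (.inl rfl)).2, (four_spec (hd 1 3 (by decide)) (.inl rfl) (.inl rfl)).2,
        dotInt_four]
      simp [four, show (0 : ZMod 23) ≠ 1 by decide, show (0 : ZMod 23) ≠ 3 by decide]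
    obtain ⟨g, hg⟩ := transitive_64 codeUnique hn hA
    obtain ⟨g', hg'⟩ := transitive_64 codeUnique hn hB
    have h1 := sub_mem (hg ▸ hinv g v hv) (hg' ▸ hinv g' v hv)
    have h23 : (some 2 : GolayPt) ≠ some 3 := hd _ _ (by decide)
    refine ⟨fv (some 2) (some 3) h23 4 (-4) (.inl rfl) (.inr rfl), ?_,
      (four_spec h23 (.inl rfl) (.inr rfl)).2⟩
    convert h1 using 1
    show four (some 2) (some 3) 4 (-4) = four none (some 0) 4 4 + four (some 1) (some 2) 4 4 -
      (four none (some 0) 4 4 + four (some 1) (some 3) 4 4)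
    simp only [four, Pi.single_neg]
    abel


/-- The Leech lattice modulo twice itself is a faithful irreducible module for the first Conway group: an automorphism of the rank-24 lattice built from the length-24 code that moves every lattice vector only by twice a lattice vector lies in the centre of the automorphism group (the centre consists of ±1, which act trivially there, so the kernel is exactly the centre), and an additive subgroup lying between twice the lattice and the lattice that is invariant under all lattice automorphisms is one of the two. -/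
theorem result : (∀ g : ↥Cfsg.Co0, (∀ v : ↥Cfsg.leechLattice, ∃ w : ↥Cfsg.leechLattice, ((g • v : ↥Cfsg.leechLattice) : Cfsg.GolayPt → ℤ) - (v : Cfsg.GolayPt → ℤ) = 2 • (w : Cfsg.GolayPt → ℤ)) → g ∈ Subgroup.center ↥Cfsg.Co0) ∧ ∀ M : AddSubgroup (Cfsg.GolayPt → ℤ), (∀ v ∈ Cfsg.leechLattice, (2 : ℤ) • v ∈ M) → M ≤ Cfsg.leechLattice → (∀ g : ↥Cfsg.Co0, ∀ v : ↥Cfsg.leechLattice, (v : Cfsg.GolayPt → ℤ) ∈ M → ((g • v : ↥Cfsg.leechLattice) : Cfsg.GolayPt → ℤ) ∈ M) → (∀ x ∈ M, ∃ w ∈ Cfsg.leechLattice, x = (2 : ℤ) • w) ∨ M = Cfsg.leechLattice := by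
  constructor
  · intro g hg
    have hc : ∀ v : leechLattice, Cong ((g • v : leechLattice) : GolayPt → ℤ) (v : GolayPt → ℤ) := fun v => by
      obtain ⟨w, hw⟩ := hg v; exact ⟨w, w.2, hw⟩
    have hab : (none : GolayPt) ≠ some 0 := by simp
    rcases eq_or_neg hc (v := fv none (some 0) hab 4 4 (.inl rfl) (.inl rfl))
      (four_spec hab (.inl rfl) (.inl rfl)).2 with e | e
    · rw [fixes_frame hc hab e]; exact one_mem _
    · have hc' : ∀ v : leechLattice, Cong (((negOne * g) • v : leechLattice) : GolayPt → ℤ) (v : GolayPt → ℤ) :=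
        fun v => by
          rw [mul_smul, negOne_smul, AddSubgroup.coe_neg]
          exact (cong_neg (g • v : leechLattice).2).symm.trans (hc v)
      have h1 := fixes_frame hc' hab (by rw [mul_smul, negOne_smul, e, neg_neg])
      rw [eq_inv_of_mul_eq_one_right h1]
      exact inv_mem negOne_mem_center
  · intro M h2 hle hinv
    by_cases htriv : ∀ x ∈ M, ∃ w ∈ Cfsg.leechLattice, x = (2 : ℤ) • w
    · exact .inl htriv
    right
    push Not at htriv
    obtain ⟨x, hx, hxd⟩ := htriv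
    obtain ⟨y, hy, hyn, hyc⟩ := exists_short_rep (hle hx)
    have hyM : y ∈ M := by
      obtain ⟨w, hw, e⟩ := hyc
      have := sub_mem hx (h2 w hw)
      rwa [show ((2 : ℤ) • w) = x - y by rw [e, ← natCast_zsmul]; rfl, sub_sub_cancel] at this
    have hy0 : y ≠ 0 := by
      rintro rfl
      obtain ⟨w, hw, e⟩ := hyc
      exact hxd w hw (by rw [sub_zero] at e; rw [e, ← natCast_zsmul]; rfl)
    have hnorm : sqNorm y = 32 ∨ sqNorm y = 48 ∨ sqNorm y = 64 := by
      have h32 := noRoots y hy hy0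
      have h16 := sixteen_dvd_sqNorm hy
      omega
    obtain ⟨v, hvM, hvn⟩ : ∃ w : leechLattice, (w : GolayPt → ℤ) ∈ M ∧ sqNorm (w : GolayPt → ℤ) = 32 := by
      rcases hnorm with e | e
      · exact ⟨⟨y, hy⟩, hyM, e⟩
      · exact four_mem hinv (v := ⟨y, hy⟩) hyM e
    refine le_antisymm hle ?_
    rw [← closure_min_eq, AddSubgroup.closure_le]
    rintro w ⟨hw, hwn⟩
    obtain ⟨g, hg⟩ := transitive_32 codeUnique hvn (w := ⟨w, hw⟩) hwn
    have := hinv g v hvM
    rwa [hg] at this


end Cfsg.Agent.S5392
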