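import Cfsg.Statements.S5395
import Cfsg.Agent.Class49.Extraspecial

set_option autoImplicit false
open Cfsg

namespace Cfsg.Agent.S5395

/-- For a finite extraspecial 2-group E, an automorphism of E that induces the identity on E modulo its centre is inner (so these automorphisms form exactly the inner automorphism group, an elementary abelian 2-group of order |E|/2). -/
theorem result {E : Type*} [Group E] [Finite E] (hE : Cfsg.IsExtraspecial 2 E) (φ : E ≃* E) (hφ : ∀ x : E, φ x * x⁻¹ ∈ Subgroup.center E) : ∃ g : E, ∀ x : E, φ x = g * x * g⁻¹ := by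
  have hC := Class49.exSp_commutator_le_center hE
  have fixZ : ∀ z ∈ Subgroup.center E, φ z = z := by
    intro z hz
    by_cases h1 : z = 1
    · rw [h1, map_one]
    refine Class49.exSp_eq_of_mem_center hE ?_ (fun h => h1 (φ.injective (h.trans (map_one φ).symm))) hz h1
    have := mul_mem (hφ z) hz
    rwa [inv_mul_cancel_right] at this
  let θ : E →* E := MonoidHom.mk' (fun x => φ x * x⁻¹) (fun x y => by
    show φ (x * y) * (x * y)⁻¹ = φ x * x⁻¹ * (φ y * y⁻¹)
    have hc := Subgroup.mem_center_iff.1 (hφ y) x⁻¹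
    rw [map_mul, mul_inv_rev, mul_assoc (φ x) x⁻¹, hc]
    simp only [mul_assoc])
  have hθ : ∀ x, θ x = φ x * x⁻¹ := fun x => rfl
  by_cases htriv : ∀ x, φ x = x
  · exact ⟨1, fun x => by simpa using htriv x⟩
  have hZle : Subgroup.center E ≤ θ.ker := fun z hz => by
    rw [MonoidHom.mem_ker, hθ, fixZ z hz, mul_inv_cancel]
  have hmem : ∀ x, θ x ∈ Subgroup.center E := hφ
  have hindex : θ.ker.index = 2 := by
    rw [Subgroup.index_ker]
    refine le_antisymm ?_ ?_
    · rw [← hE.2]
      exact Subgroup.card_le_of_le (by rintro _ ⟨x, rfl⟩; exact hmem x)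
    · by_contra hlt
      push Not at hlt htriv
      obtain ⟨x, hx⟩ := htriv
      have hsub : Subsingleton θ.range := (Nat.card_eq_one_iff_unique.1
        (by have := Nat.card_pos (α := θ.range); omega)).1
      have : θ x = 1 := congrArg Subtype.val
        (Subsingleton.elim (⟨θ x, x, rfl⟩ : θ.range) ⟨1, one_mem _⟩)
      rw [hθ] at this
      exact hx (mul_inv_eq_one.1 this)
  have hcard := Class49.exSp_card_centralizer hE hZle
  have hK := Subgroup.card_mul_index θ.ker
  rw [hindex] at hK
  have h4 : Nat.card (Subgroup.centralizer (θ.ker : Set E)) = 4 := by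
    rw [← hK] at hcard
    have : 0 < Nat.card θ.ker := Nat.card_pos
    nlinarith
  obtain ⟨g, hg, hgZ⟩ : ∃ g ∈ Subgroup.centralizer (θ.ker : Set E), g ∉ Subgroup.center E := by
    by_contra h
    push Not at h
    have := Subgroup.card_le_of_le h
    rw [h4, hE.2] at this
    omega
  refine ⟨g, fun x => ?_⟩
  have hcomm : ∀ k ∈ θ.ker, g * k = k * g := fun k hk => (Subgroup.mem_centralizer_iff.1 hg k hk).symm
  by_cases hx : x ∈ θ.ker
  · rw [MonoidHom.mem_ker, hθ, mul_inv_eq_one] at hx
    rw [hx, hcomm x (by rw [MonoidHom.mem_ker, hθ, hx, mul_inv_cancel]), mul_inv_cancel_right]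
  · have hne : g * x * g⁻¹ * x⁻¹ ≠ 1 := by
      intro h
      rw [mul_inv_eq_one, mul_inv_eq_iff_eq_mul] at h
      apply hgZ
      rw [Subgroup.mem_center_iff]
      intro y
      by_cases hy : y ∈ θ.ker
      · exact (hcomm y hy).symm
      · have hk : x⁻¹ * y ∈ θ.ker :=
          (Subgroup.mul_mem_iff_of_index_two hindex).2 ⟨fun h' => absurd (inv_mem_iff.1 h') hx,
            fun h' => absurd h' hy⟩
        have hk' := hcomm _ hk
        calc y * g = x * ((x⁻¹ * y) * g) := by group
          _ = x * (g * (x⁻¹ * y)) := by rw [hk']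
          _ = (g * x) * (x⁻¹ * y) := by rw [h, mul_assoc]
          _ = g * y := by group
    have h1 : g * x * g⁻¹ * x⁻¹ = φ x * x⁻¹ := by
      refine Class49.exSp_eq_of_mem_center hE ?_ hne (hφ x) fun h => hx h
      have := Class49.exSp_comm_mem_center hE g x
      rwa [commutatorElement_def] at this
    exact (mul_right_cancel h1).symm

end Cfsg.Agent.S5395
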