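import Cfsg.Statements.S5396
import Cfsg.Agent.Lib.PGroup.Basic

set_option autoImplicit false
open Cfsg

namespace Cfsg.Agent.S5396

open scoped BigOperators commutatorElement

/-- Pairs of coordinate vectors over the field with two elements. -/
abbrev Vec (n : ℕ) : Type := (Fin n → ZMod 2) × (Fin n → ZMod 2)

section

variable {n : ℕ}

/-- Local coefficient form; `d = 1` makes the plane anisotropic. -/
def loc (d : ZMod 2) (x y x' y' : ZMod 2) : ZMod 2 := x * y' + d * (x * x' + y * y')

/-- The bilinear form whose diagonal is the quadratic form with coefficients `d`. -/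
def bet (d : Fin n → ZMod 2) (v w : Vec n) : ZMod 2 :=
  ∑ i, loc (d i) (v.1 i) (v.2 i) (w.1 i) (w.2 i)

theorem bet_add_left (d : Fin n → ZMod 2) (u v w : Vec n) :
    bet d (u + v) w = bet d u w + bet d v w := by
  simp only [bet, loc, ← Finset.sum_add_distrib]
  refine Finset.sum_congr rfl fun i _ => ?_
  simp only [Prod.fst_add, Prod.snd_add, Pi.add_apply]
  ring

theorem bet_add_right (d : Fin n → ZMod 2) (u v w : Vec n) :
    bet d u (v + w) = bet d u v + bet d u w := by
  simp only [bet, loc, ← Finset.sum_add_distrib]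
  refine Finset.sum_congr rfl fun i _ => ?_
  simp only [Prod.fst_add, Prod.snd_add, Pi.add_apply]
  ring

theorem bet_zero_left (d : Fin n → ZMod 2) (w : Vec n) : bet d 0 w = 0 := by
  simp [bet, loc]

theorem bet_zero_right (d : Fin n → ZMod 2) (w : Vec n) : bet d w 0 = 0 := by
  simp [bet, loc]

/-- The extraspecial group attached to `bet d`. -/
@[ext] structure Ext (d : Fin n → ZMod 2) where
  v : Vec n
  c : ZMod 2

variable {d : Fin n → ZMod 2}

instance : Mul (Ext d) := ⟨fun a b => ⟨a.v + b.v, a.c + b.c + bet d a.v b.v⟩⟩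
instance : One (Ext d) := ⟨⟨0, 0⟩⟩
instance : Inv (Ext d) := ⟨fun a => ⟨a.v, a.c + bet d a.v a.v⟩⟩

theorem mul_def (a b : Ext d) : a * b = ⟨a.v + b.v, a.c + b.c + bet d a.v b.v⟩ := rfl
theorem one_def : (1 : Ext d) = ⟨0, 0⟩ := rfl
theorem inv_def (a : Ext d) : a⁻¹ = ⟨a.v, a.c + bet d a.v a.v⟩ := rfl

theorem add_self' {M : Type*} [AddCommMonoid M] [Module (ZMod 2) M] (x : M) : x + x = 0 := by
  rw [← two_smul (ZMod 2), show (2 : ZMod 2) = 0 from by decide, zero_smul]

instance : Group (Ext d) where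
  mul_assoc a b c := by
    simp only [mul_def, Ext.mk.injEq]
    refine ⟨add_assoc _ _ _, ?_⟩
    rw [bet_add_left, bet_add_right]; ring
  one_mul a := by simp [mul_def, one_def, bet_zero_left]
  mul_one a := by simp [mul_def, one_def, bet_zero_right]
  inv_mul_cancel a := by
    simp only [mul_def, one_def, inv_def, Ext.mk.injEq]
    exact ⟨add_self' _, by linear_combination add_self' (a.c + bet d a.v a.v)⟩

def equivProd : Ext d ≃ Vec n × ZMod 2 where
  toFun a := (a.v, a.c)
  invFun p := ⟨p.1, p.2⟩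
  left_inv _ := rfl
  right_inv _ := rfl

instance : Finite (Ext d) := Finite.of_equiv _ equivProd.symm

theorem card_ext : Nat.card (Ext d) = 2 ^ (2 * n + 1) := by
  rw [Nat.card_congr equivProd]
  simp [Nat.card_eq_fintype_card, ← pow_add, ← pow_succ]
  ring_nf

theorem sq_eq (a : Ext d) : a ^ 2 = ⟨0, bet d a.v a.v⟩ := by
  rw [pow_two, mul_def, add_self', add_self' a.c, zero_add]

theorem isPGroup : IsPGroup 2 (Ext d) := IsPGroup.of_card card_ext

/-- The polar form. -/
def pol (v w : Vec n) : ZMod 2 := ∑ i, (v.1 i * w.2 i + v.2 i * w.1 i)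

theorem bet_symm (v w : Vec n) : bet d v w + bet d w v = pol v w := by
  simp only [bet, loc, pol, ← Finset.sum_add_distrib]
  refine Finset.sum_congr rfl fun i _ => ?_
  have h2 : (2 : ZMod 2) = 0 := by decide
  linear_combination (d i * (v.1 i * w.1 i) + d i * (w.2 i * v.2 i)) * h2

theorem mul_comm_iff (a b : Ext d) : a * b = b * a ↔ pol a.v b.v = 0 := by
  rw [← bet_symm (d := d), mul_def, mul_def, Ext.mk.injEq, add_comm b.v a.v, add_comm b.c a.c,
    and_iff_right rfl, add_right_inj]
  constructor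
  · intro h; rw [h, add_self']
  · intro h; linear_combination h - add_self' (bet d b.v a.v)

theorem pol_single_right (v : Vec n) (i : Fin n) : pol v (0, Pi.single i 1) = v.1 i := by
  simp [pol, Pi.single_apply, Finset.sum_ite_eq', mul_ite]

theorem pol_single_left (v : Vec n) (i : Fin n) : pol v (Pi.single i 1, 0) = v.2 i := by
  simp [pol, Pi.single_apply, Finset.sum_ite_eq', mul_ite]

theorem pol_add_right (u v w : Vec n) : pol u (v + w) = pol u v + pol u w := by
  simp only [pol, ← Finset.sum_add_distrib]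
  refine Finset.sum_congr rfl fun i _ => ?_
  simp only [Prod.fst_add, Prod.snd_add, Pi.add_apply]
  ring

theorem pol_comm (u v : Vec n) : pol u v = pol v u := by
  simp only [pol]
  exact Finset.sum_congr rfl fun i _ => by ring

theorem mem_center_iff' (a : Ext d) : a ∈ Subgroup.center (Ext d) ↔ a.v = 0 := by
  rw [Subgroup.mem_center_iff]
  constructor
  · intro h
    have h1 : ∀ w, pol a.v w = 0 := fun w => (mul_comm_iff a ⟨w, 0⟩).1 (h _).symm
    exact Prod.ext (funext fun i => by simpa [pol_single_right] using h1 (0, Pi.single i 1))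
      (funext fun i => by simpa [pol_single_left] using h1 (Pi.single i 1, 0))
  · intro h g
    rw [mul_comm_iff, h]
    simp [pol]

theorem card_center : Nat.card (Subgroup.center (Ext d)) = 2 := by
  rw [Nat.card_congr (α := Subgroup.center (Ext d)) (β := ZMod 2)
    ⟨fun a => a.1.c, fun c => ⟨⟨0, c⟩, (mem_center_iff' _).2 rfl⟩,
      fun a => Subtype.ext (Ext.ext ((mem_center_iff' _).1 a.2).symm rfl), fun _ => rfl⟩]
  simp

theorem commutator_eq_center (hn : 1 ≤ n) : commutator (Ext d) = Subgroup.center (Ext d) := by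
  refine le_antisymm ?_ ?_
  · rw [commutator_def, Subgroup.commutator_le]
    intro a _ b _
    rw [mem_center_iff', commutatorElement_def, inv_def, inv_def, mul_def, mul_def, mul_def]
    show a.v + b.v + a.v + b.v = 0
    rw [show a.v + b.v + a.v + b.v = (a.v + b.v) + (a.v + b.v) by abel, add_self']
  · intro z hz
    rw [mem_center_iff'] at hz
    by_cases hc : z.c = 0
    · have : z = 1 := Ext.ext hz hc
      rw [this]; exact one_mem _
    · have hc1 : z.c = 1 := (by decide : ∀ c : ZMod 2, c ≠ 0 → c = 1) _ hc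
      let a : Ext d := ⟨(Pi.single ⟨0, hn⟩ 1, 0), 0⟩
      let b : Ext d := ⟨(0, Pi.single ⟨0, hn⟩ 1), 0⟩
      have hne : ⁅a, b⁆ ≠ 1 := by
        rw [Ne, commutatorElement_eq_one_iff_mul_comm, mul_comm_iff]
        show pol (Pi.single ⟨0, hn⟩ 1, 0) (0, Pi.single ⟨0, hn⟩ 1) ≠ 0
        rw [pol_single_right]; simp
      have hmem : ⁅a, b⁆ ∈ commutator (Ext d) := by
        rw [commutator_def]
        exact Subgroup.commutator_mem_commutator (Subgroup.mem_top a) (Subgroup.mem_top b)
      have hv : ⁅a, b⁆.v = 0 := by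
        rw [commutatorElement_def, inv_def, inv_def, mul_def, mul_def, mul_def]
        show a.v + b.v + a.v + b.v = 0
        rw [show a.v + b.v + a.v + b.v = (a.v + b.v) + (a.v + b.v) by abel, add_self']
      have : z = ⁅a, b⁆ := by
        refine Ext.ext (hz.trans hv.symm) ?_
        rcases (by decide : ∀ c : ZMod 2, c = 0 ∨ c = 1) ⁅a, b⁆.c with h | h
        · exact absurd (Ext.ext hv h : ⁅a, b⁆ = 1) hne
        · rw [hc1, h]
      rw [this]; exact hmem

theorem frattini_eq_center (hn : 1 ≤ n) : frattini (Ext d) = Subgroup.center (Ext d) := by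
  have hP : IsPGroup 2 (Ext d) := isPGroup
  refine le_antisymm ?_ ?_
  · refine PGroup.frattini_le_of_quotient (p := 2) (commutator_eq_center hn).le ?_
    intro a
    rw [mem_center_iff', sq_eq]
  · rw [← commutator_eq_center hn]
    exact PGroup.commutator_le_frattini hP

theorem isExtraspecial (hn : 1 ≤ n) : Cfsg.IsExtraspecial 2 (Ext d) :=
  ⟨⟨isPGroup, frattini_eq_center hn, commutator_eq_center hn⟩, card_center⟩

/-- A `±1`-valued additive character of the field with two elements. -/
def sg (c : ZMod 2) : ℤ := if c = 0 then 1 else -1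

theorem sg_add : ∀ a b : ZMod 2, sg (a + b) = sg a * sg b := by decide

theorem sg_sum {ι : Type*} (s : Finset ι) (f : ι → ZMod 2) :
    sg (∑ i ∈ s, f i) = ∏ i ∈ s, sg (f i) := by
  classical
  induction s using Finset.induction_on with
  | empty => simp [sg]
  | insert i s hi ih => rw [Finset.sum_insert hi, Finset.prod_insert hi, sg_add, ih]

theorem sum_local : ∀ d : ZMod 2,
    ∑ p : ZMod 2 × ZMod 2, sg (loc d p.1 p.2 p.1 p.2) = if d = 0 then 2 else -2 := by decide

theorem sum_sg (d : Fin n → ZMod 2) :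
    ∑ v : Vec n, sg (bet d v v) = ∏ i, (if d i = 0 then (2 : ℤ) else -2) := by
  rw [← Finset.prod_congr rfl (fun i _ => sum_local (d i)), Fintype.prod_sum]
  refine Fintype.sum_equiv (Equiv.arrowProdEquivProdArrow _ _ _).symm _ _ fun v => ?_
  exact sg_sum _ _

theorem bet_add_self (u v : Vec n) :
    bet d (v + u) (v + u) = bet d v v + bet d u u + pol v u := by
  rw [← bet_symm (d := d), bet_add_left, bet_add_right, bet_add_right]; ring

theorem card_le_two_pow_sub {U : Submodule (ZMod 2) (Vec n)}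
    (hU : ∀ u ∈ U, ∀ w ∈ U, pol u w = 0) : Nat.card U ≤ 2 ^ n := by
  classical
  let B : LinearMap.BilinForm (ZMod 2) (Vec n) :=
    LinearMap.mk₂ (ZMod 2) pol
      (fun u v w => by rw [pol_comm, pol_add_right, pol_comm w, pol_comm w])
      (fun c u w => by simp [pol, Finset.mul_sum, mul_add, mul_assoc])
      (fun u v w => pol_add_right u v w)
      (fun c u w => by simp [pol, Finset.mul_sum, mul_add, mul_left_comm])
  have hnd : B.Nondegenerate := by
    have hleft : ∀ v, (∀ w, B v w = 0) → v = 0 := fun v hv =>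
      Prod.ext (funext fun i => by
          have := hv (0, Pi.single i 1)
          simpa [B, LinearMap.mk₂_apply, pol_single_right] using this)
        (funext fun i => by
          have := hv (Pi.single i 1, 0)
          simpa [B, LinearMap.mk₂_apply, pol_single_left] using this)
    refine ⟨hleft, fun v hv => hleft v fun w => ?_⟩
    show pol v w = 0
    rw [pol_comm]
    exact hv w
  have hle : U ≤ B.orthogonal U := fun u hu w hw => hU w hw u hu
  have hs : B.IsRefl := fun u w h => by
    show pol w u = 0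
    rw [pol_comm]
    exact h
  have hdim := LinearMap.BilinForm.finrank_orthogonal hnd U
  have h1 := Submodule.finrank_mono hle
  have hV : Module.finrank (ZMod 2) (Vec n) = n + n := by simp
  rw [Nat.card_eq_fintype_card, Module.card_eq_pow_finrank (K := ZMod 2), ZMod.card]
  refine Nat.pow_le_pow_right (by norm_num) ?_
  omega

end

/-- The plus-type or minus-type coefficient vector. -/
def coef (n : ℕ) (minus : Bool) : Fin n → ZMod 2 :=
  fun i => if minus ∧ i.val = 0 then 1 else 0

theorem card_isotropic_lt {n : ℕ} (hn : 1 ≤ n) {U : Submodule (ZMod 2) (Vec n)}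
    (hU : ∀ u ∈ U, ∀ w ∈ U, pol u w = 0) (hQ : ∀ u ∈ U, bet (coef n true) u u = 0) :
    Nat.card U < 2 ^ n := by
  classical
  refine lt_of_le_of_ne (card_le_two_pow_sub hU) fun heq => ?_
  set d := coef n true
  have hneg : ∑ v : Vec n, sg (bet d v v) < 0 := by
    rw [sum_sg, ← Finset.mul_prod_erase Finset.univ _ (Finset.mem_univ (⟨0, hn⟩ : Fin n))]
    have h0 : d ⟨0, hn⟩ = 1 := by simp [d, coef]
    rw [h0, if_neg one_ne_zero]
    refine mul_neg_of_neg_of_pos (by norm_num) (Finset.prod_pos fun i hi => ?_)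
    have hi' : i.val ≠ 0 := fun h => (Finset.mem_erase.1 hi).1 (Fin.ext h)
    simp [d, coef, hi']
  -- averaging over translates of `U`
  have hshift : ∀ u : U, ∑ v : Vec n, sg (bet d v v) = ∑ v : Vec n, sg (bet d v v) * sg (pol v u) := by
    intro u
    rw [← Equiv.sum_comp (Equiv.addRight (u : Vec n)) (fun v => sg (bet d v v))]
    refine Finset.sum_congr rfl fun v _ => ?_
    show sg (bet d (v + u) (v + u)) = _
    rw [bet_add_self, hQ u u.2, add_zero, sg_add]
  have hmax : ∀ v, (∀ u : U, pol v u = 0) → v ∈ U := by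
    intro v hv
    by_contra hvU
    have hU' : ∀ a ∈ U ⊔ Submodule.span (ZMod 2) {v}, ∀ b ∈ U ⊔ Submodule.span (ZMod 2) {v},
        pol a b = 0 := by
      intro a ha b hb
      obtain ⟨u, hu, x, hx, rfl⟩ := Submodule.mem_sup.1 ha
      obtain ⟨u', hu', x', hx', rfl⟩ := Submodule.mem_sup.1 hb
      obtain ⟨s, rfl⟩ := Submodule.mem_span_singleton.1 hx
      obtain ⟨s', rfl⟩ := Submodule.mem_span_singleton.1 hx'
      have e0 : ∀ w : Vec n, pol w 0 = 0 := fun w => by simp [pol]
      have evv : pol v v = 0 := by rw [← bet_symm (d := d)]; exact add_self' _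
      have e1 : ∀ w ∈ U, ∀ t : ZMod 2, pol (t • v) w = 0 := by
        intro w hw t
        rcases (by decide : ∀ c : ZMod 2, c = 0 ∨ c = 1) t with rfl | rfl
        · rw [zero_smul, pol_comm, e0]
        · rw [one_smul]; exact hv ⟨w, hw⟩
      have e2 : ∀ s t : ZMod 2, pol (s • v) (t • v) = 0 := by
        intro s t
        rcases (by decide : ∀ c : ZMod 2, c = 0 ∨ c = 1) t with rfl | rfl
        · rw [zero_smul, e0]
        rcases (by decide : ∀ c : ZMod 2, c = 0 ∨ c = 1) s with rfl | rfl
        · rw [zero_smul, pol_comm, e0]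
        · rw [one_smul, evv]
      rw [pol_add_right, pol_comm (u + s • v), pol_comm (u + s • v), pol_add_right, pol_add_right,
        hU u' hu' u hu, pol_comm u', e1 u' hu', e1 u hu, e2]
      simp
    have h1 := card_le_two_pow_sub hU'
    have hlt : U < U ⊔ Submodule.span (ZMod 2) {v} :=
      left_lt_sup.2 fun h => hvU (h (Submodule.mem_span_singleton_self v))
    have h2 : Nat.card U < Nat.card ↥(U ⊔ Submodule.span (ZMod 2) {v}) :=
      (Set.ncard_lt_ncard (s := (U : Set (Vec n))) hlt (Set.toFinite _) : _)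
    omega
  have hcount : (Fintype.card U : ℤ) * ∑ v : Vec n, sg (bet d v v) =
      ∑ v : Vec n, sg (bet d v v) * ∑ u : U, sg (pol v u) := by
    simp only [Finset.mul_sum]
    rw [Finset.sum_comm, ← Finset.mul_sum, Fintype.sum_congr _ _ (fun u => (hshift u).symm)]
    simp
  have hrhs : 0 ≤ ∑ v : Vec n, sg (bet d v v) * ∑ u : U, sg (pol v u) := by
    refine Finset.sum_nonneg fun v _ => ?_
    by_cases hv : v ∈ U
    · rw [hQ v hv]
      refine mul_nonneg (by simp [sg]) (Finset.sum_nonneg fun u _ => ?_)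
      rw [hU v hv u u.2]; simp [sg]
    · obtain ⟨u₀, hu₀⟩ : ∃ u : U, pol v u ≠ 0 := by
        by_contra h; push Not at h; exact hv (hmax v h)
      have : ∑ u : U, sg (pol v u) = 0 := by
        have key : ∑ u : U, sg (pol v u) = sg (pol v u₀) * ∑ u : U, sg (pol v u) := by
          rw [Finset.mul_sum]
          refine (Equiv.sum_comp (Equiv.addLeft u₀) _).symm.trans ?_
          refine Finset.sum_congr rfl fun u _ => ?_
          show sg (pol v ((u₀ : Vec n) + u)) = _
          rw [pol_add_right, sg_add]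
        have h2 : sg (pol v u₀) = -1 := by simp [sg, hu₀]
        rw [h2] at key; linarith
      rw [this, mul_zero]
  have hpos : (0 : ℤ) < Fintype.card U := by exact_mod_cast Fintype.card_pos
  nlinarith [hcount, hrhs, hneg, hpos]

theorem exists_of_rank {n : ℕ} (d : Fin n → ZMod 2) (A : Subgroup (Ext d))
    (hA : Cfsg.IsElementaryAbelian 2 A) :
    ∃ U : Submodule (ZMod 2) (Vec n), (∀ u ∈ U, ∀ w ∈ U, pol u w = 0) ∧
      (∀ u ∈ U, bet d u u = 0) ∧ Nat.card A ≤ 2 * Nat.card U := by
  let S : AddSubgroup (Vec n) :=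
    { carrier := {v | ∃ c, (⟨v, c⟩ : Ext d) ∈ A}
      zero_mem' := ⟨0, A.one_mem⟩
      add_mem' := fun ⟨c, hc⟩ ⟨c', hc'⟩ => ⟨_, A.mul_mem hc hc'⟩
      neg_mem' := fun {v} ⟨c, hc⟩ => ⟨c, by
        rw [show -v = v from neg_eq_of_add_eq_zero_left (add_self' v)]; exact hc⟩ }
  refine ⟨AddSubgroup.toZModSubmodule 2 S, ?_, ?_, ?_⟩
  · rintro u ⟨c, hc⟩ w ⟨c', hc'⟩
    have := hA.1.is_comm.comm ⟨_, hc⟩ ⟨_, hc'⟩
    exact (mul_comm_iff _ _).1 (congrArg Subtype.val this)
  · rintro u ⟨c, hc⟩
    have := hA.2 _ hc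
    rw [sq_eq, one_def, Ext.mk.injEq] at this
    exact this.2
  · have hinj : Function.Injective (fun a : A => ((⟨a.1.v, a.1.c, a.2⟩ : S), a.1.c)) := by
      intro a b h
      simp only [Prod.mk.injEq, Subtype.mk.injEq] at h
      exact Subtype.ext (Ext.ext h.1 h.2)
    have := Nat.card_le_card_of_injective _ hinj
    rw [Nat.card_prod, Nat.card_zmod, mul_comm] at this
    exact this

theorem rank_eq {n : ℕ} (d : Fin n → ZMod 2) (r : ℕ)
    (hub : ∀ A : Subgroup (Ext d), Cfsg.IsElementaryAbelian 2 A → Nat.card A ≤ 2 ^ r)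
    (hlb : ∃ A : Subgroup (Ext d), Cfsg.IsElementaryAbelian 2 A ∧ Nat.card A = 2 ^ r) :
    sSup {k : ℕ | ∃ A : Subgroup (Ext d), Cfsg.IsElementaryAbelian 2 A ∧ Nat.card A = 2 ^ k} = r := by
  refine IsGreatest.csSup_eq ⟨hlb, ?_⟩
  rintro k ⟨A, hA, hk⟩
  exact (Nat.pow_le_pow_iff_right (le_refl 2)).1 (hk ▸ hub A hA)

/-- The abelian subgroup of elements with first coordinate vector vanishing on `s`. -/
def witness {n : ℕ} (d : Fin n → ZMod 2) (s : Fin n → Prop) (hs : ∀ i, d i ≠ 0 → s i) :
    Subgroup (Ext d) where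
  carrier := {a | (∀ i, a.v.1 i = 0) ∧ ∀ i, s i → a.v.2 i = 0}
  one_mem' := ⟨fun _ => rfl, fun _ _ => rfl⟩
  mul_mem' := fun ha hb => ⟨fun i => by simp [mul_def, ha.1 i, hb.1 i],
    fun i hi => by simp [mul_def, ha.2 i hi, hb.2 i hi]⟩
  inv_mem' := fun ha => ha

theorem witness_elementary {n : ℕ} (d : Fin n → ZMod 2) (s : Fin n → Prop)
    (hs : ∀ i, d i ≠ 0 → s i) : Cfsg.IsElementaryAbelian 2 (witness d s hs) := by
  refine ⟨⟨⟨fun a b => Subtype.ext ((mul_comm_iff a.1 b.1).2 ?_)⟩⟩, fun a ha => ?_⟩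
  · simp [pol, a.2.1, b.2.1]
  · rw [sq_eq, one_def, Ext.mk.injEq]
    refine ⟨rfl, Finset.sum_eq_zero fun i _ => ?_⟩
    by_cases hi : d i = 0
    · simp [loc, ha.1 i, hi]
    · simp [loc, ha.1 i, ha.2 i (hs i hi)]

theorem card_witness {n : ℕ} (d : Fin n → ZMod 2) (s : Fin n → Prop) [DecidablePred s]
    (hs : ∀ i, d i ≠ 0 → s i) :
    Nat.card (witness d s hs) = 2 ^ (Fintype.card {i // ¬ s i} + 1) := by
  rw [Nat.card_congr (β := ({i // ¬ s i} → ZMod 2) × ZMod 2)
    ⟨fun a => (fun i => a.1.v.2 i, a.1.c),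
     fun p => ⟨⟨(0, fun i => if h : s i then 0 else p.1 ⟨i, h⟩), p.2⟩,
       fun _ => rfl, fun i hi => dif_pos hi⟩,
     fun a => Subtype.ext (Ext.ext (Prod.ext (funext fun i => (a.2.1 i).symm)
       (funext fun i => by
         by_cases h : s i
         · simpa [h] using (a.2.2 i h).symm
         · simp [h])) rfl),
     fun p => Prod.ext (funext fun i => dif_neg i.2) rfl⟩]
  simp [Nat.card_eq_fintype_card, pow_succ]


/-- For every n ≥ 1 there exist finite extraspecial 2-groups of order 2^(2n+1) whose 2-rank (the largest rank of an elementary abelian subgroup) is n, and ones whose 2-rank is n + 1 (so for each such order there are two non-isomorphic extraspecial 2-groups, told apart by their 2-rank). -/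
theorem result (n : ℕ) (hn : 1 ≤ n) : ∀ r ∈ ({n, n + 1} : Set ℕ), ∃ (E : Type) (_ : Group E) (_ : Finite E), Cfsg.IsExtraspecial 2 E ∧ Nat.card E = 2 ^ (2 * n + 1) ∧ sSup {k : ℕ | ∃ A : Subgroup E, Cfsg.IsElementaryAbelian 2 A ∧ Nat.card A = 2 ^ k} = r := by
  intro r hr
  rcases hr with rfl | hr
  · refine ⟨Ext (coef r true), inferInstance, inferInstance, isExtraspecial hn, card_ext, rank_eq _ _ ?_ ?_⟩
    · intro A hA
      obtain ⟨U, h1, h2, h3⟩ := exists_of_rank _ A hA
      have h4 := card_isotropic_lt hn h1 h2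
      obtain ⟨k, hk⟩ : ∃ k, Nat.card U = 2 ^ k := ⟨Module.finrank (ZMod 2) U, by
        haveI := Fintype.ofFinite ↥U
        rw [Nat.card_eq_fintype_card, Module.card_eq_pow_finrank (K := ZMod 2), ZMod.card]⟩
      rw [hk] at h3 h4
      calc Nat.card A ≤ 2 * 2 ^ k := h3
        _ = 2 ^ (k + 1) := by ring
        _ ≤ 2 ^ r := Nat.pow_le_pow_right (by norm_num)
          ((Nat.pow_lt_pow_iff_right (le_refl 2)).1 h4)
    · have hs : ∀ i, coef r true i ≠ 0 → i.val = 0 := by
        intro i hi; by_contra h; exact hi (by simp [coef, h])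
      refine ⟨witness _ (fun i => i.val = 0) hs, witness_elementary _ _ hs, ?_⟩
      rw [card_witness]
      congr 1
      have h0 : Fintype.card {i : Fin r // i.val = 0} = 1 := by
        rw [Fintype.card_eq_one_iff]
        exact ⟨⟨⟨0, hn⟩, rfl⟩, fun i => Subtype.ext (Fin.ext i.2)⟩
      rw [Fintype.card_subtype_compl, h0, Fintype.card_fin]
      omega
  · rw [Set.mem_singleton_iff] at hr; subst hr
    refine ⟨Ext (coef n false), inferInstance, inferInstance, isExtraspecial hn, card_ext, rank_eq _ _ ?_ ?_⟩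
    · intro A hA
      obtain ⟨U, h1, _, h3⟩ := exists_of_rank _ A hA
      have := card_le_two_pow_sub h1
      calc Nat.card A ≤ 2 * Nat.card U := h3
        _ ≤ 2 * 2 ^ n := Nat.mul_le_mul_left _ this
        _ = 2 ^ (n + 1) := by ring
    · have hs : ∀ i, coef n false i ≠ 0 → False := by intro i hi; exact hi (by simp [coef])
      refine ⟨witness _ (fun _ => False) hs, witness_elementary _ _ hs, ?_⟩
      rw [card_witness]
      simp

end Cfsg.Agent.S5396
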