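import Cfsg.Statements.S5397
import Cfsg.Agent.LargeExt10.Golay.Split

set_option autoImplicit false
open Cfsg Cfsg.Agent

namespace Cfsg.Agent.S5397

/-- Let G be a finite group of Conway type (involution z with generalized Fitting subgroup Q of its centralizer C extraspecial of order 2^9, C/Q the commutator subgroup of the isometry group of the hyperbolic quadratic form in dimension 8 over the field with two elements, z not weakly closed in Q). Then G has an elementary abelian subgroup A of order 2^11 containing z whose normalizer N is a split extension of A with N/A isomorphic to the automorphism group of the length-24 code built from the squares modulo 23, and N has exactly two orbits on the non-identity elements of A. -/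
theorem result {G : Type*} [Group G] [Finite G] (z : G) (hz : orderOf z = 2) (Q : Subgroup (Subgroup.centralizer ({z} : Set G))) [Q.Normal] (hF : Cfsg.generalizedFittingSubgroup (Subgroup.centralizer ({z} : Set G)) = Q) (hQ : Cfsg.IsExtraspecial 2 Q) (hcard : Nat.card Q = 2 ^ 9) (e : (Subgroup.centralizer ({z} : Set G)) ⧸ Q ≃* Cfsg.Omega (ZMod 2) (Cfsg.quadFormPlus 4 (ZMod 2))) (hnwc : ∃ g : G, (∃ hq : g * z * g⁻¹ ∈ Subgroup.centralizer ({z} : Set G), (⟨g * z * g⁻¹, hq⟩ : Subgroup.centralizer ({z} : Set G)) ∈ Q) ∧ g * z * g⁻¹ ≠ z) : ∃ A : Subgroup G, Cfsg.IsElementaryAbelian 2 A ∧ Nat.card A = 2 ^ 11 ∧ z ∈ A ∧ ∃ _ : (A.subgroupOf (Subgroup.normalizer (A : Set G))).Normal, Nonempty (↥(Subgroup.normalizer (A : Set G)) ⧸ A.subgroupOf (Subgroup.normalizer (A : Set G)) ≃* ↥Cfsg.M24) ∧ (∃ K : Subgroup ↥(Subgroup.normalizer (A : Set G)), (A.subgroupOf (Subgroup.normalizer (A : Set G))).IsComplement' K) ∧ ∃ a ∈ A, ∃ b ∈ A, a ≠ 1 ∧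 b ≠ 1 ∧ (∀ n ∈ Subgroup.normalizer (A : Set G), n * a * n⁻¹ ≠ b) ∧ ∀ c ∈ A, c ≠ 1 → ∃ n ∈ Subgroup.normalizer (A : Set G), n * c * n⁻¹ = a ∨ n * c * n⁻¹ = b := by
  classical
  obtain ⟨Q', ⟨D0⟩⟩ := LargeExt10.Co.exists_co z hz Q hF hQ hcard e hnwc
  obtain ⟨D, F, t, ht, h2⟩ := CoGolay.exists_good D0
  obtain ⟨C0⟩ := CoGolay.exists_crd F ht h2
  obtain ⟨M⟩ := CoGolay.exists_model C0
  obtain ⟨hel, -⟩ := CoGolay.exists_code ht h2
  refine ⟨CoGolay.AG D, ⟨⟨⟨fun a b => Subtype.ext ((hel _ a.2).2 _ b.2).eq⟩⟩,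
    fun a ha => by rw [pow_two]; exact (hel a ha).1⟩, CoGolay.card_AG M.C, CoGolay.z_mem_AG,
    ?_⟩
  obtain ⟨hn, hiso⟩ := CoGolay.quot_M24 M
  have hne : ∀ n < 2048, n ≠ 0 → M.C.psi n ≠ 1 := fun n hn h0 h =>
    h0 (M.C.inj n 0 hn (by norm_num) (h.trans M.C.psi_zero.symm))
  refine ⟨hn, hiso, CoGolay.exists_complement M ht h2, M.C.psi 1, M.C.mem 1 (by norm_num),
    M.C.psi 40, M.C.mem 40 (by norm_num), hne 1 (by norm_num) (by norm_num),
    hne 40 (by norm_num) (by norm_num), fun g hg h => CoGolay.not_conj_forty M ⟨g, hg, h⟩,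
    fun c hc hc1 => ?_⟩
  obtain ⟨n, hn', rfl⟩ := M.C.surj c hc
  have h0 : n ≠ 0 := fun h => hc1 (by rw [h, M.C.psi_zero])
  rcases hb : CoGolay.inO n with _ | _
  · obtain ⟨g, hg, hgc⟩ := CoGolay.orbit_rest M n hn' h0 hb
    exact ⟨g⁻¹, inv_mem hg, Or.inr (by rw [← hgc]; group)⟩
  · obtain ⟨g, hg, hgc⟩ := (CoGolay.orbit_z M n hn').1 hb
    exact ⟨g⁻¹, inv_mem hg, Or.inl (by rw [← hgc]; group)⟩

end Cfsg.Agent.S5397
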