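import Cfsg.Statements.S5401
import Cfsg.Agent.Exist24.Low
import Cfsg.Agent.Exist24.Type24
import Cfsg.Agent.Exist24.Checked

set_option autoImplicit false
open Cfsg

namespace Cfsg.Agent.S5401

/-- Existence of the Fischer 3-transposition groups: there exist finite groups generated by a conjugacy class of 3-transpositions on which they act primitively that are of type M(22), of type M(23), and of type M(24) respectively. -/
theorem result : (∃ (X : Type) (_ : Group X) (_ : Finite X) (E : Set X), Cfsg.IsThreeTranspositionClass E ∧ Cfsg.IsPrimitiveUnderConj E ∧ Cfsg.IsOfTypeM22 X E) ∧ (∃ (X : Type) (_ : Group X) (_ : Finite X) (E : Set X), Cfsg.IsThreeTranspositionClass E ∧ Cfsg.IsPrimitiveUnderConj E ∧ Cfsg.IsOfTypeM23 X E) ∧ (∃ (X : Type) (_ : Group X) (_ : Finite X) (E : Set X), Cfsg.IsThreeTranspositionClass E ∧ Cfsg.IsPrimitiveUnderConj E ∧ Cfsg.IsOfTypeM24 X E) := by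
  obtain ⟨E, h22⟩ := Exist24.type22
  exact ⟨⟨_, inferInstance, CosetEnum.Fi22.finite, E, h22⟩,
    ⟨_, inferInstance, CosetEnum.Fi23.finite, _, Exist24.type23⟩,
    ⟨↥(Exist24.Gm Exist24.checked), inferInstance, inferInstance, Exist24.D24 Exist24.checked,
      Exist24.class24 _, Exist24.prim24 _, Exist24.type24 _ ⟨Exist24.type23.1, Exist24.type23.2.2⟩⟩⟩

end Cfsg.Agent.S5401
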