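import Cfsg.Statements.S5402
import Cfsg.Agent.Fi23Cent.Type23
import Cfsg.Agent.Fi23Cent.O7Model
import Cfsg.Agent.Lib.FischerSpace.SimpleDerived

set_option autoImplicit false
open Cfsg

namespace Cfsg.Agent.S5402

/-- Let G be a finite group with an involution d whose centralizer C is quasisimple, such that C modulo the subgroup generated by d is of type M(22) with respect to some conjugacy class of 3-transpositions generating it, and also has an involution whose own centralizer is quasisimple with quotient by it isomorphic to the projective special unitary group of dimension 6 over the field with four elements and which is not weakly closed in its centralizer; and suppose some conjugate of d other than d commutes with d. Then the conjugacy class of d is a class of 3-transpositions generating G, and G with this class is of type M(23). -/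
theorem result {G : Type*} [Group G] [Finite G] (d : G) (hd : orderOf d = 2) (hq : Cfsg.IsQuasisimple (Subgroup.centralizer ({d} : Set G))) [((Subgroup.zpowers d).subgroupOf (Subgroup.centralizer ({d} : Set G))).Normal] (htype : ∃ E : Set ((Subgroup.centralizer ({d} : Set G)) ⧸ (Subgroup.zpowers d).subgroupOf (Subgroup.centralizer ({d} : Set G))), Cfsg.IsThreeTranspositionClass E ∧ Cfsg.IsOfTypeM22 _ E) (hinvol : ∃ d' : (Subgroup.centralizer ({d} : Set G)) ⧸ (Subgroup.zpowers d).subgroupOf (Subgroup.centralizer ({d} : Set G)), orderOf d' = 2 ∧ Cfsg.IsQuasisimple (Subgroup.centralizer ({d'} : Set _)) ∧ (∃ (K : Type) (_ : Field K) (_ : Fintype K), Fintype.card K = 4 ∧ ∃ _ : ((Subgroup.zpowers d').subgroupOf (Subgroup.centralizer ({d'} : Set _))).Normal, Nonempty ((Subgroup.centralizer ({d'} : Set _)) ⧸ (Subgroup.zpowers d').subgroupOf (Subgroup.centralizer ({d'} : Set _)) ≃* Cfsg.PSU 6 K 2)) ∧ ∃ g, g * d' * g⁻¹ ∈ Subgroup.centralizer ({d'} : Set _) ∧ g * d' * g⁻¹ ≠ d') (hnwc : ∃ g : G, g * d * g⁻¹ ∈ Subgroup.centralizer ({d} : Set G) ∧ g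 * d * g⁻¹ ≠ d) : Cfsg.IsThreeTranspositionClass (conjugatesOf d) ∧ Cfsg.IsOfTypeM23 G (conjugatesOf d) := by
  classical
  obtain ⟨E, hE, h22⟩ := htype
  set π := QuotientGroup.mk' ((Subgroup.zpowers d).subgroupOf (Subgroup.centralizer ({d} : Set G))) with hπdef
  have hπ : Function.Surjective π := QuotientGroup.mk'_surjective _
  have hd2 : d * d = 1 := by rw [← pow_two, ← hd, pow_orderOf_eq_one]
  have hZeq : Subgroup.center (Subgroup.centralizer ({d} : Set G)) =
      (Subgroup.zpowers d).subgroupOf (Subgroup.centralizer ({d} : Set G)) := by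
    refine le_antisymm (fun c hc => ?_) (fun c hc => ?_)
    · have : π c ∈ Subgroup.center _ := Subgroup.mem_center_iff.2 fun x => by
        obtain ⟨y, rfl⟩ := hπ x
        rw [← map_mul, ← map_mul, Subgroup.mem_center_iff.1 hc y]
      rw [h22.1, Subgroup.mem_bot] at this
      exact (QuotientGroup.eq_one_iff c).1 this
    · rcases Fi23Cent.cases_zpowers hd2 (Subgroup.mem_subgroupOf.1 hc) with r | r
      · rw [show c = 1 from Subtype.ext r]; exact one_mem _
      · exact Subgroup.mem_center_iff.2 fun g => Subtype.ext (show (g : G) * c = c * g by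
          rw [r]; exact Subgroup.mem_centralizer_singleton_iff.1 g.2)
  haveI hs := hq.2
  haveI hsimple : IsSimpleGroup (Subgroup.centralizer ({d} : Set G) ⧸ (Subgroup.zpowers d).subgroupOf (Subgroup.centralizer ({d} : Set G))) := (QuotientGroup.quotientMulEquivOfEq hZeq).symm.isSimpleGroup
  have hQperf : commutator (Subgroup.centralizer ({d} : Set G) ⧸ (Subgroup.zpowers d).subgroupOf (Subgroup.centralizer ({d} : Set G))) = ⊤ := by
    rw [eq_top_iff, commutator_def]
    intro x _
    obtain ⟨y, rfl⟩ := hπ x
    have h2 := Subgroup.mem_map_of_mem π (show y ∈ commutator _ by rw [Group.isPerfect_def.1 hq.1]; trivial)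
    rw [commutator_def, Subgroup.map_commutator] at h2
    exact Subgroup.commutator_mono le_top le_top h2
  obtain ⟨-, a, ha, b, hb, hab, -⟩ := id h22
  have hne : a ≠ b := fun e => hab (e ▸ Commute.refl a)
  have hnc : ¬ IsMulCommutative (commutator (Subgroup.centralizer ({d} : Set G) ⧸ (Subgroup.zpowers d).subgroupOf (Subgroup.centralizer ({d} : Set G)))) := fun h => hab (by
    have := h.is_comm.comm (⟨a, by rw [hQperf]; trivial⟩ : commutator (Subgroup.centralizer ({d} : Set G) ⧸ (Subgroup.zpowers d).subgroupOf (Subgroup.centralizer ({d} : Set G)))) ⟨b, by rw [hQperf]; trivial⟩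
    exact congrArg Subtype.val this)
  haveI : IsSimpleGroup (commutator (Subgroup.centralizer ({d} : Set G) ⧸ (Subgroup.zpowers d).subgroupOf (Subgroup.centralizer ({d} : Set G)))) :=
    ((MulEquiv.subgroupCongr hQperf).trans Subgroup.topEquiv).isSimpleGroup
  have hprim := FischerSpace.primitive_of_simple_commutator hE ⟨a, ha, b, hb, hne⟩ inferInstance hnc
  have hD : Cfsg.IsThreeTranspositionGroup E := by
    refine ⟨hE.1, fun g x hx => ?_, hE.2.2⟩
    obtain ⟨e₀, -, he⟩ := hE.2.1
    rw [he] at hx ⊢
    exact IsConj.trans hx (isConj_iff.2 ⟨g, rfl⟩)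
  haveI := TT95.Gen.of_group hD
  obtain ⟨L, h⟩ := (Fi23Cent.hyp_of_quot d hd hq (TT95.cfg22_of_type hD hprim h22)
    (TT95.core22_of_type h22) hnwc).exists_loc
  haveI := h.gen₁
  exact ⟨h.isClass, h.typeM23 h22 (Fi23Cent.common_iso_omega h.cfg23)⟩

end Cfsg.Agent.S5402
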