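import Cfsg.Statements.S5408
import Cfsg.Agent.FGS82.ExtraTwo
import Cfsg.Agent.Lib.Leech.Decomp
import Cfsg.Agent.Lib.Leech.CodeUnique

set_option autoImplicit false
open Cfsg

namespace Cfsg.Agent.S5408

open Cfsg.Agent.FGS82

set_option linter.style.haveILetI false

/-- A plus type extraspecial 2-group has a large elementary abelian subgroup. -/
theorem exists_large_elementary : ∀ (m : ℕ) {E : Type*} [Group E] [Finite E] {z : E}, QData E z →
    Nat.card E = 2 ^ (2 * m + 1) → (nsq E : ℤ) = 2 ^ (2 * m) + 2 ^ m →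
    ∃ A : Subgroup E, Cfsg.IsElementaryAbelian 2 A ∧ Nat.card A = 2 ^ (m + 1) := by
  intro m
  induction m with
  | zero =>
    intro E _ _ z D hc hn
    have hall : ∀ g : E, g * g = 1 := by
      haveI := Fintype.ofFinite E
      have h2 : Nat.card E = 2 := by simpa using hc
      intro g
      have := pow_card_eq_one' (x := g)
      rw [h2, pow_two] at this
      exact this
    refine ⟨⊤, ⟨⟨⟨fun a b => ?_⟩⟩, fun a _ => by rw [pow_two]; exact hall a⟩, by simpa using hc⟩
    apply Subtype.ext
    show (a : E) * b = b * a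
    have hi : ∀ g : E, g⁻¹ = g := fun g => inv_eq_of_mul_eq_one_right (hall g)
    calc (a : E) * b = ((a : E) * b)⁻¹ := (hi _).symm
      _ = b * a := by rw [mul_inv_rev, hi, hi]
  | succ m ih =>
    intro E _ _ z D hc hn
    have hbig : 8 ≤ Nat.card E := by
      rw [hc]
      calc 8 = 2 ^ 3 := by norm_num
        _ ≤ _ := Nat.pow_le_pow_right (by norm_num) (by omega)
    have hnc : ∃ g h : E, g * h ≠ h * g := by
      by_contra hcon
      push Not at hcon
      have := (small D hcon).1
      omega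
    obtain ⟨x, y, F⟩ := frame_of_nsq D hnc
    have hns : ¬ nsq E ≤ 2 := by
      intro h
      have h1 : (2 : ℤ) ≤ 2 ^ (m + 1) := by
        calc (2 : ℤ) = 2 ^ 1 := by norm_num
          _ ≤ _ := pow_le_pow_right₀ (by norm_num) (by omega)
      have h2 : (1 : ℤ) ≤ 2 ^ (2 * (m + 1)) := one_le_pow₀ (by norm_num)
      omega
    rw [decide_eq_false hns] at F
    have hC : Nat.card ↥(Subgroup.centralizer ({x, y} : Set E)) = 2 ^ (2 * m + 1) := by
      have := D.card_eq F
      rw [hc, show 2 * (m + 1) + 1 = 2 + (2 * m + 1) by ring, pow_add] at this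
      omega
    have hCn : (nsq ↥(Subgroup.centralizer ({x, y} : Set E)) : ℤ) = 2 ^ (2 * m) + 2 ^ m := by
      have := D.nsq_eq F
      simp only [Bool.false_eq_true, if_false, hn, hC] at this
      push_cast at this
      ring_nf at this ⊢
      linarith
    obtain ⟨A, ⟨hAc, hA2⟩, hAcard⟩ := ih (D.centralizer F) hC hCn
    set A' := A.map (Subgroup.centralizer ({x, y} : Set E)).subtype with hA'
    have hx2 : x * x = 1 := by simpa [bp] using F.sx
    have hcomm : ∀ a ∈ A', x * a = a * x := by
      rintro _ ⟨a, -, rfl⟩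
      exact Subgroup.mem_centralizer_iff.mp a.2 x (by simp)
    have hAA : ∀ a ∈ A', ∀ b ∈ A', a * b = b * a := by
      rintro _ ⟨a, ha, rfl⟩ _ ⟨b, hb, rfl⟩
      exact congrArg Subtype.val (congrArg Subtype.val (hAc.is_comm.comm (⟨a, ha⟩ : A) ⟨b, hb⟩))
    have hAsq : ∀ a ∈ A', a * a = 1 := by
      rintro _ ⟨a, ha, rfl⟩
      have h := congrArg Subtype.val (hA2 a ha)
      simpa [pow_two] using h
    have hxA : x ∉ A' := by
      rintro ⟨a, -, ha⟩
      have h1 : (a : E) = x := ha
      have h2 := Subgroup.mem_centralizer_iff.mp a.2 y (by simp)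
      rw [h1, F.nc] at h2
      exact D.ne (mul_left_cancel (h2.trans (mul_one (x * y)).symm))
    have hxx : ∀ g : E, x * (x * g) = g := fun g => by rw [← mul_assoc, hx2, one_mul]
    let B : Subgroup E :=
    { carrier := {g | g ∈ A' ∨ x * g ∈ A'}
      one_mem' := Or.inl A'.one_mem
      mul_mem' := by
        rintro g h (hg | hg) (hh | hh)
        · exact Or.inl (mul_mem hg hh)
        · refine Or.inr ?_
          rw [← mul_assoc, hcomm g hg, mul_assoc]
          exact mul_mem hg hh
        · exact Or.inr (by rw [← mul_assoc]; exact mul_mem hg hh)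
        · refine Or.inl ?_
          have e : g * h = (x * g) * (x * h) := by
            have h0 : g = x * g * x := by rw [← hcomm _ hg, hxx]
            calc g * h = x * g * x * h := by rw [← h0]
              _ = _ := by simp [mul_assoc]
          rw [e]; exact mul_mem hg hh
      inv_mem' := by
        rintro g (hg | hg)
        · exact Or.inl (inv_mem hg)
        · refine Or.inr ?_
          have h1 := hcomm _ (inv_mem hg)
          have hxi : x⁻¹ = x := inv_eq_of_mul_eq_one_right hx2
          have e : x * g⁻¹ = (x * g)⁻¹ := by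
            rw [mul_inv_rev, hxi] at h1 ⊢
            calc x * g⁻¹ = x * (g⁻¹ * x) * x := by simp [mul_assoc, hx2]
              _ = g⁻¹ * x * x * x := by rw [h1]
              _ = g⁻¹ * x := by rw [mul_assoc (g⁻¹ * x), hx2, mul_one]
          rw [e]; exact inv_mem hg }
    have hB : (B : Set E) = (A' : Set E) ∪ (fun a => x * a) '' (A' : Set E) := by
      ext g
      constructor
      · rintro (h | h)
        · exact Or.inl h
        · exact Or.inr ⟨x * g, h, hxx g⟩
      · rintro (h | ⟨a, ha, rfl⟩)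
        · exact Or.inl h
        · exact Or.inr (by rw [hxx]; exact ha)
    have hBA : ∀ g ∈ B, ∃ a ∈ A', g = a ∨ g = x * a := by
      rintro g (h | h)
      · exact ⟨g, h, Or.inl rfl⟩
      · exact ⟨x * g, h, Or.inr (hxx g).symm⟩
    refine ⟨B, ⟨⟨⟨?_⟩⟩, ?_⟩, ?_⟩
    · rintro ⟨g, hg⟩ ⟨h, hh⟩
      obtain ⟨a, ha, hga⟩ := hBA g hg
      obtain ⟨b, hb, hhb⟩ := hBA h hh
      apply Subtype.ext
      show g * h = h * g
      have c1 : Commute a b := hAA a ha b hb
      have c2 : Commute x a := hcomm a ha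
      have c3 : Commute x b := hcomm b hb
      rcases hga with rfl | rfl <;> rcases hhb with rfl | rfl
      · exact c1.eq
      · exact (c2.symm.mul_right c1).eq
      · exact (c3.mul_left c1).eq
      · exact (((Commute.refl x).mul_left c2.symm).mul_right (c3.mul_left c1)).eq
    · intro g hg
      rw [pow_two]
      obtain ⟨a, ha, rfl | rfl⟩ := hBA g hg
      · exact hAsq _ ha
      · rw [mul_assoc, ← mul_assoc a x a, ← hcomm a ha, mul_assoc x a a, hAsq a ha, mul_one, hx2]
    · have hd : Disjoint (A' : Set E) ((fun a => x * a) '' (A' : Set E)) := by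
        rw [Set.disjoint_left]
        rintro g hg ⟨a, ha, rfl⟩
        exact hxA (by simpa using mul_mem hg (inv_mem ha))
      have h1 : Nat.card A' = 2 ^ (m + 1) := by
        rw [hA', Subgroup.card_map_of_injective Subtype.val_injective, hAcard]
      have h1' : (A' : Set E).ncard = 2 ^ (m + 1) := (Nat.card_coe_set_eq (A' : Set E)).symm.trans h1
      show Nat.card (B : Set E) = _
      rw [Nat.card_coe_set_eq, hB, Set.ncard_union_eq hd (Set.toFinite _) (Set.toFinite _),
        Set.ncard_image_of_injective _ (mul_right_injective x), h1']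
      ring

open scoped Classical in
/-- Counting the singular cosets through the three classes of the lattice modulo its double. -/
theorem card_singular {W : Type*} [Fintype W] [DecidableEq W] (ψ : Cfsg.leechLattice → W)
    (hsurj : Function.Surjective ψ)
    (heq : ∀ v w : Cfsg.leechLattice, ψ v = ψ w ↔
      Leech.Cong (v : Cfsg.GolayPt → ℤ) (w : Cfsg.GolayPt → ℤ))
    (hW : Fintype.card W = 2 ^ 24) (P : W → Prop) [DecidablePred P] (h0 : P (ψ 0))
    (hinv : ∀ (g : Cfsg.Co0) (v : Cfsg.leechLattice), P (ψ (g • v)) ↔ P (ψ v)) :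
    ∃ a b c : Bool, (Finset.univ.filter P).card =
      1 + (if a then 98280 else 0) + (if b then 8386560 else 0) + (if c then 8292375 else 0) := by
  let S : ℤ → Finset W := fun n => Finset.univ.filter fun w =>
    ∃ v : Cfsg.leechLattice, Cfsg.sqNorm (v : Cfsg.GolayPt → ℤ) = n ∧ ψ v = w
  have hmem : ∀ {n : ℤ} {w : W}, w ∈ S n ↔
      ∃ v : Cfsg.leechLattice, Cfsg.sqNorm (v : Cfsg.GolayPt → ℤ) = n ∧ ψ v = w := by
    intro n w; simp [S]
  have hdis : ∀ a b : ℤ, a ≤ 64 → b ≤ 64 → a ≠ b → Disjoint (S a) (S b) := by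
    intro a b ha hb hab
    rw [Finset.disjoint_left]
    intro w h1 h2
    obtain ⟨v, hv, rfl⟩ := hmem.1 h1
    obtain ⟨u, hu, e⟩ := hmem.1 h2
    exact hab (hv ▸ hu ▸ Leech.sqNorm_eq_of_cong Leech.noRoots v.2 (hv.le.trans ha) (hu.le.trans hb)
      ((heq v u).1 e.symm))
  have hcover : S 0 ∪ S 32 ∪ S 48 ∪ S 64 = Finset.univ := by
    refine Finset.eq_univ_of_forall fun w => ?_
    obtain ⟨v, rfl⟩ := hsurj w
    obtain ⟨y, hy, hle, hc⟩ := Leech.exists_short_rep v.2
    have hmem' : ψ v ∈ S (Cfsg.sqNorm y) := hmem.2 ⟨⟨y, hy⟩, rfl, ((heq v ⟨y, hy⟩).2 hc).symm⟩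
    obtain ⟨j, hj⟩ := Leech.sixteen_dvd_sqNorm hy
    have hnn := Leech.sqNorm_nonneg y
    have hcases : j = 0 ∨ j = 1 ∨ j = 2 ∨ j = 3 ∨ j = 4 := by omega
    simp only [Finset.mem_union]
    rcases hcases with rfl | rfl | rfl | rfl | rfl <;> rw [hj] at hmem'
    · exact Or.inl (Or.inl (Or.inl (by simpa using hmem')))
    · exfalso
      have hy0 : y ≠ 0 := fun e => by rw [Leech.sqNorm_eq_zero.2 e] at hj; omega
      have := Leech.noRoots y hy hy0
      omega
    · exact Or.inl (Or.inl (Or.inr (by simpa using hmem')))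
    · exact Or.inl (Or.inr (by simpa using hmem'))
    · exact Or.inr (by simpa using hmem')
  have hle : ∀ (n : ℤ) (k : ℕ) (T : Finset (Cfsg.GolayPt → ℤ)),
      (∀ x ∈ T, x ∈ Cfsg.leechLattice ∧ Cfsg.sqNorm x = n) →
      (∀ F : Finset (Cfsg.GolayPt → ℤ), (∀ x ∈ F, x ∈ Cfsg.leechLattice ∧ Cfsg.sqNorm x = n) →
        (∀ x ∈ F, ∀ y ∈ F, Leech.Cong x y) → F.card ≤ k) → T.card ≤ k * (S n).card := by
    intro n k T hT hk
    let q : (Cfsg.GolayPt → ℤ) → W := fun x => if h : x ∈ Cfsg.leechLattice then ψ ⟨x, h⟩ else ψ 0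
    refine (Finset.card_le_mul_card_image (f := q) T k fun b _ => ?_).trans
      (Nat.mul_le_mul_left k (Finset.card_le_card ?_))
    · refine hk _ (fun x hx => hT x (Finset.mem_filter.1 hx).1) fun x hx y hy => ?_
      rw [Finset.mem_filter] at hx hy
      have e := hx.2.trans hy.2.symm
      simp only [q, dif_pos (hT x hx.1).1, dif_pos (hT y hy.1).1] at e
      exact (heq _ _).1 e
    · intro w hw
      obtain ⟨x, hx, rfl⟩ := Finset.mem_image.1 hw
      exact hmem.2 ⟨⟨x, (hT x hx).1⟩, (hT x hx).2, by simp only [q, dif_pos (hT x hx).1]⟩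
  have hfin : ∀ n : ℤ, n ≤ 64 →
      {x | x ∈ Cfsg.leechLattice ∧ Cfsg.sqNorm x = n}.Finite := by
    intro n hn
    refine Set.Finite.subset
      (Fintype.piFinset fun _ : Cfsg.GolayPt => Finset.Icc (-8 : ℤ) 8).finite_toSet fun x hx => ?_
    simp only [Finset.mem_coe, Fintype.mem_piFinset, Finset.mem_Icc]
    intro i
    have h : x i ^ 2 ≤ Cfsg.sqNorm x :=
      Finset.single_le_sum (f := fun j => x j ^ 2) (fun j _ => sq_nonneg (x j)) (Finset.mem_univ i)
    have := hx.2
    constructor <;> nlinarith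
  have h2 : 196560 ≤ 2 * (S 32).card := by
    have h := hle 32 2 (hfin 32 (by norm_num)).toFinset (fun x hx => by simpa using hx)
      (fun F hF hc => Leech.card_le_two_of_cong Leech.noRoots (by norm_num) hF hc)
    rwa [← Set.ncard_eq_toFinset_card _ (hfin 32 (by norm_num)), Leech.card_shell_32] at h
  have h3 : 16773120 ≤ 2 * (S 48).card := by
    have h := hle 48 2 (hfin 48 (by norm_num)).toFinset (fun x hx => by simpa using hx)
      (fun F hF hc => Leech.card_le_two_of_cong Leech.noRoots (by norm_num) hF hc)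
    rwa [← Set.ncard_eq_toFinset_card _ (hfin 48 (by norm_num)), Leech.card_shell_48] at h
  have h4 : 398034000 ≤ 48 * (S 64).card := by
    have h := hle 64 48 (hfin 64 (by norm_num)).toFinset (fun x hx => by simpa using hx)
      (fun F hF hc => Leech.card_le_48_of_cong Leech.noRoots hF hc)
    rwa [← Set.ncard_eq_toFinset_card _ (hfin 64 (by norm_num)), Leech.card_shell_64] at h
  have h1 : 1 ≤ (S 0).card :=
    Finset.card_pos.2 ⟨ψ 0, hmem.2 ⟨0, by simp [Cfsg.sqNorm], rfl⟩⟩
  have d1 : Disjoint (S 0) (S 32) := hdis 0 32 (by norm_num) (by norm_num) (by norm_num)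
  have d2 : Disjoint (S 0 ∪ S 32) (S 48) := Finset.disjoint_union_left.2
    ⟨hdis 0 48 (by norm_num) (by norm_num) (by norm_num),
      hdis 32 48 (by norm_num) (by norm_num) (by norm_num)⟩
  have d3 : Disjoint (S 0 ∪ S 32 ∪ S 48) (S 64) := Finset.disjoint_union_left.2
    ⟨Finset.disjoint_union_left.2 ⟨hdis 0 64 (by norm_num) (by norm_num) (by norm_num),
      hdis 32 64 (by norm_num) (by norm_num) (by norm_num)⟩,
      hdis 48 64 (by norm_num) (by norm_num) (by norm_num)⟩
  have htot := congrArg Finset.card hcover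
  rw [Finset.card_univ, hW, Finset.card_union_of_disjoint d3, Finset.card_union_of_disjoint d2,
    Finset.card_union_of_disjoint d1] at htot
  have c0 : (S 0).card = 1 := by omega
  have c2 : (S 32).card = 98280 := by omega
  have c3 : (S 48).card = 8386560 := by omega
  have c4 : (S 64).card = 8292375 := by omega
  have hconst : ∀ (n : ℤ) (k : ℕ), (S n).card = k →
      (∀ v w : Cfsg.leechLattice, Cfsg.sqNorm (v : Cfsg.GolayPt → ℤ) = n →
        Cfsg.sqNorm (w : Cfsg.GolayPt → ℤ) = n → ∃ g : Cfsg.Co0, g • v = w) →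
      ∃ a : Bool, ((S n).filter P).card = if a then k else 0 := by
    intro n k hk htr
    by_cases h : ∃ w ∈ S n, P w
    · refine ⟨true, ?_⟩
      rw [if_pos rfl, ← hk, Finset.filter_true_of_mem]
      intro w hw
      obtain ⟨u, hu, hPu⟩ := h
      obtain ⟨v, hv, rfl⟩ := hmem.1 hw
      obtain ⟨u', hu', rfl⟩ := hmem.1 hu
      obtain ⟨g, rfl⟩ := htr u' v hu' hv
      exact (hinv g u').2 hPu
    · refine ⟨false, ?_⟩
      simp only [Bool.false_eq_true, if_false, Finset.card_eq_zero, Finset.filter_eq_empty_iff]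
      exact fun w hw hP => h ⟨w, hw, hP⟩
  obtain ⟨a, ha⟩ := hconst 32 _ c2 fun v w => Leech.transitive_32 Leech.codeUnique
  obtain ⟨b, hb⟩ := hconst 48 _ c3 fun v w => Leech.transitive_48 Leech.codeUnique
  obtain ⟨c, hc⟩ := hconst 64 _ c4 fun v w => Leech.transitive_64 Leech.codeUnique
  have hz : ((S 0).filter P).card = 1 := by
    refine le_antisymm ((Finset.card_filter_le _ _).trans c0.le) (Finset.card_pos.2 ⟨ψ 0, ?_⟩)
    exact Finset.mem_filter.2 ⟨hmem.2 ⟨0, by simp [Cfsg.sqNorm], rfl⟩, h0⟩
  refine ⟨a, b, c, ?_⟩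
  rw [← hcover, Finset.filter_union, Finset.filter_union, Finset.filter_union,
    Finset.card_union_of_disjoint (Finset.disjoint_filter_filter d3 |> fun h => by
      simpa only [Finset.filter_union] using h),
    Finset.card_union_of_disjoint (Finset.disjoint_filter_filter d2 |> fun h => by
      simpa only [Finset.filter_union] using h),
    Finset.card_union_of_disjoint (Finset.disjoint_filter_filter d1), hz, ha, hb, hc]

/-- Let G be a finite group of Monster type at the involution z with Q the extraspecial normal subgroup of order 2^25 of C = C_G(z) (so C/Q is identified with the first Conway group with Q modulo its centre the Leech lattice modulo 2, and z is not weakly closed in Q). Then Q is of plus type: it contains an elementary abelian subgroup of order 2^13. -/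
theorem result {G : Type*} [Group G] [Finite G] (z : G) (Q : Subgroup (Subgroup.centralizer ({z} : Set G))) [Q.Normal] (hM : Cfsg.IsOfMonsterType z Q) : ∃ E : Subgroup Q, Cfsg.IsElementaryAbelian 2 E ∧ Nat.card E = 2 ^ 13 := by
  classical
  obtain ⟨⟨-, -, hex, hcard, -⟩, e, ψ, hadd, hsurj, hker, hequiv⟩ := hM
  obtain ⟨c₀, D⟩ := exists_qdata hex
  haveI : Fintype Q := Fintype.ofFinite Q
  haveI : Fintype (Q ⧸ Subgroup.center Q) := Fintype.ofFinite _
  have h0 : ψ 0 = 1 := (hker 0).2 ⟨0, by simp⟩
  have hsub : ∀ v w : Cfsg.leechLattice, ψ (v - w) = ψ v * (ψ w)⁻¹ := fun v w => by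
    rw [eq_mul_inv_iff_mul_eq, ← hadd, sub_add_cancel]
  have heq : ∀ v w : Cfsg.leechLattice, ψ v = ψ w ↔
      Leech.Cong (v : Cfsg.GolayPt → ℤ) (w : Cfsg.GolayPt → ℤ) := by
    intro v w
    rw [← mul_inv_eq_one, ← hsub, hker]
    constructor
    · rintro ⟨u, hu⟩
      refine ⟨u, u.2, ?_⟩
      rw [two_nsmul]
      exact congrArg Subtype.val hu
    · rintro ⟨u, hu, hu'⟩
      exact ⟨⟨u, hu⟩, Subtype.ext (by rw [two_nsmul] at hu'; exact hu')⟩
  let P : Q ⧸ Subgroup.center Q → Prop := fun w => ∀ q : Q, QuotientGroup.mk q = w → q * q = 1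
  have hcsq : ∀ t ∈ Subgroup.center Q, t * t = 1 := by
    intro t ht
    rcases D.center t fun h => ((Subgroup.mem_center_iff.1 ht) h).symm with rfl | rfl
    · simp
    · exact D.sq
  have hP : ∀ q : Q, P (QuotientGroup.mk q) ↔ q * q = 1 := by
    refine fun q => ⟨fun h => h q rfl, fun h r hr => ?_⟩
    obtain ⟨t, ht, rfl⟩ : ∃ t ∈ Subgroup.center Q, r = q * t :=
      ⟨q⁻¹ * r, QuotientGroup.eq.1 hr.symm, (mul_inv_cancel_left q r).symm⟩
    rw [show q * t * (q * t) = q * q * (t * t) by
      rw [mul_assoc, ← mul_assoc t q t, ← Subgroup.mem_center_iff.1 ht q]; group, h, hcsq t ht, one_mul]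
  have hinv : ∀ (g : Cfsg.Co0) (v : Cfsg.leechLattice), P (ψ (g • v)) ↔ P (ψ v) := by
    intro g v
    obtain ⟨h, hh⟩ := QuotientGroup.mk_surjective (e.symm (QuotientGroup.mk g))
    obtain ⟨q, hq⟩ := QuotientGroup.mk_surjective (ψ v)
    have h1 := hequiv h g (by rw [hh, e.apply_symm_apply]) v q hq.symm
    rw [h1, ← hq, hP, hP]
    constructor
    · intro h2
      have h3 := congrArg Subtype.val h2
      simp only [Subgroup.coe_mul, Subgroup.coe_one] at h3
      have h4 : h * ((q : Subgroup.centralizer ({z} : Set G)) * q) * h⁻¹ = 1 := by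
        rw [← h3]; group
      exact Subtype.ext (by simpa using conj_eq_one_iff.1 h4)
    · intro h2
      apply Subtype.ext
      have h3 := congrArg Subtype.val h2
      simp only [Subgroup.coe_mul, Subgroup.coe_one] at h3 ⊢
      calc _ = h * ((q : Subgroup.centralizer ({z} : Set G)) * q) * h⁻¹ := by group
        _ = 1 := by rw [h3]; group
  have hW : Fintype.card (Q ⧸ Subgroup.center Q) = 2 ^ 24 := by
    have h := Subgroup.card_eq_card_quotient_mul_card_subgroup (Subgroup.center Q)
    rw [hcard, hex.2, ← Nat.card_eq_fintype_card] at *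
    omega
  obtain ⟨a, b, c, hcount⟩ := card_singular ψ hsurj heq hW P
    (by rw [h0, ← QuotientGroup.mk_one, hP]; simp) hinv
  have hn : nsq Q = 2 * (Finset.univ.filter P).card := by
    rw [nsq, Nat.card_eq_fintype_card, Fintype.card_subtype,
      Finset.card_eq_sum_card_fiberwise (f := (QuotientGroup.mk : Q → Q ⧸ Subgroup.center Q))
        (t := Finset.univ.filter P) fun q hq => Finset.mem_filter.2
          ⟨Finset.mem_univ _, (hP q).2 (Finset.mem_filter.1 hq).2⟩, mul_comm 2]
    rw [← smul_eq_mul, ← Finset.sum_const]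
    refine Finset.sum_congr rfl fun w hw => ?_
    obtain ⟨q, rfl⟩ := QuotientGroup.mk_surjective w
    have hq : q * q = 1 := (hP q).1 (Finset.mem_filter.1 hw).2
    have hset : ((Finset.univ.filter fun r : Q => r * r = 1).filter fun r : Q =>
        (QuotientGroup.mk r : Q ⧸ Subgroup.center Q) = QuotientGroup.mk q) = {q, q * c₀} := by
      ext r
      simp only [Finset.mem_filter, Finset.mem_univ, true_and, Finset.mem_insert, Finset.mem_singleton]
      constructor
      · rintro ⟨-, hr⟩
        rcases D.center (q⁻¹ * r) fun u =>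
          ((Subgroup.mem_center_iff.1 (QuotientGroup.eq.1 hr.symm)) u).symm with h | h
        · exact Or.inl (by rw [inv_mul_eq_one] at h; exact h.symm)
        · exact Or.inr (by rw [← h, mul_inv_cancel_left])
      · rintro (rfl | rfl)
        · exact ⟨hq, rfl⟩
        · refine ⟨?_, QuotientGroup.eq.2 ?_⟩
          · rw [mul_assoc, ← mul_assoc c₀ q c₀, ← D.cen, mul_assoc q c₀ c₀, D.sq, mul_one, hq]
          · rw [mul_inv_rev, inv_mul_cancel_right]
            exact inv_mem (Subgroup.mem_center_iff.2 fun g => D.cen g)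
    rw [hset, Finset.card_pair]
    exact fun h => D.ne (mul_left_cancel ((mul_one q).trans h)).symm
  obtain ⟨m, hm, hns⟩ := counts (Nat.card Q) D le_rfl
  obtain rfl : m = 12 := by
    have := Nat.pow_right_injective (le_refl 2) (hcard.symm.trans hm)
    omega
  refine exists_large_elementary 12 D hm (hns.resolve_right fun hbad => ?_)
  rw [hn, hcount] at hbad
  revert hbad
  cases a <;> cases b <;> cases c <;> norm_num

end Cfsg.Agent.S5408
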