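import Cfsg.Statements.S5410
import Cfsg.Agent.Monster39.Stabilizer

set_option autoImplicit false
open Cfsg

namespace Cfsg.Agent.S5410

/-- Let G be a finite group of Monster type at the involution z with Q the extraspecial normal subgroup of order 2^25 of C = C_G(z) (so C/Q is identified with the first Conway group with Q modulo its centre the Leech lattice modulo 2, and z is not weakly closed in Q). Let g in G with s = g z g⁻¹ a member of Q other than z, let X be the image in C/Q of the centralizer of s in C, and let E be the image in C/Q of the intersection of g Q g⁻¹ with C. Then E is a normal subgroup of X, elementary abelian of order 2^11, and it has a complement in X isomorphic to the Mathieu group of degree 24 (the automorphism group of the length-24 binary Golay code). -/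
theorem result {G : Type*} [Group G] [Finite G] (z : G) (Q : Subgroup (Subgroup.centralizer ({z} : Set G))) [Q.Normal] (hM : Cfsg.IsOfMonsterType z Q) (s : G) (hsQ : ∃ hsc : s ∈ Subgroup.centralizer ({z} : Set G), (⟨s, hsc⟩ : Subgroup.centralizer ({z} : Set G)) ∈ Q) (hs : IsConj z s) (hs1 : s ≠ z) (g : G) (hg : g * z * g⁻¹ = s) (X E : Subgroup ((Subgroup.centralizer ({z} : Set G)) ⧸ Q)) (hX : X = ((Subgroup.centralizer ({z} : Set G) ⊓ Subgroup.centralizer ({s} : Set G)).subgroupOf (Subgroup.centralizer ({z} : Set G))).map (QuotientGroup.mk' Q)) (hE : E = (((Q.map (Subgroup.centralizer ({z} : Set G)).subtype).map (MulAut.conj g).toMonoidHom ⊓ Subgroup.centralizer ({z} : Set G)).subgroupOf (Subgroup.centralizer ({z} : Set G))).map (QuotientGroup.mk' Q)) : E ≤ X ∧ (∀ x ∈ X, ∀ y ∈ E, x * y * x⁻¹ ∈ E) ∧ Cfsg.IsElementaryAbelian 2 E ∧ Nat.card E = 2 ^ 11 ∧ ∃ K : Subgroup ((Subgroup.centralizer ({z} : Set G)) ⧸ Q), K ≤ X ∧ E ⊓ K = ⊥ ∧ E ⊔ K = X ∧ Nonempty (K ≃* Cfsg.M24) := by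
  obtain ⟨hS, e, ψ, hψ⟩ := hM
  have M : Monster39.Setting z Q e ψ := ⟨hS, hψ⟩
  obtain ⟨hsc, hsm⟩ := hsQ
  let x : Q := ⟨⟨s, hsc⟩, hsm⟩
  have hne : x ≠ M.zQ := (M.ne_zQ_iff x).2 hs1
  have F := M.fused (x := x) hg hne
  obtain ⟨K, hK1, hK2, hK3, ⟨ι⟩⟩ := M.complement (x := x) hg hne
  have hL : (Subgroup.centralizer ({z} : Set G) ⊓ Subgroup.centralizer ({s} : Set G)).subgroupOf
      (Subgroup.centralizer ({z} : Set G)) =
      Subgroup.centralizer ({(x : Subgroup.centralizer ({z} : Set G))} :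
        Set (Subgroup.centralizer ({z} : Set G))) := by
    ext h
    simp only [Subgroup.mem_subgroupOf, Subgroup.mem_inf, Subgroup.mem_centralizer_singleton_iff]
    exact ⟨fun hh => Subtype.ext hh.2,
      fun hh => ⟨Subgroup.mem_centralizer_singleton_iff.1 h.2, congrArg Subtype.val hh⟩⟩
  rw [hL] at hX
  change E = (Monster39.conjPart Q g).map (QuotientGroup.mk' Q) at hE
  have hinj : Function.Injective e.toMonoidHom := e.injective
  have hXe : X.map e.toMonoidHom = (Subgroup.centralizer ({(x : Subgroup.centralizer ({z} : Set G))} :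
      Set (Subgroup.centralizer ({z} : Set G)))).map (Monster39.proj e) := by
    rw [hX, Subgroup.map_map]; rfl
  have hEe : E.map e.toMonoidHom = (Monster39.conjPart Q g).map (Monster39.proj e) := by
    rw [hE, Subgroup.map_map]; rfl
  have hmem : ∀ a ∈ E, e a ∈ (Monster39.conjPart Q g).map (Monster39.proj e) := fun a ha =>
    hEe ▸ ⟨a, ha, rfl⟩
  have hKe : (K.map e.symm.toMonoidHom).map e.toMonoidHom = K := by
    rw [Subgroup.map_map]; simp
  refine ⟨hX ▸ hE ▸ Subgroup.map_mono F.le, ?_, ⟨⟨⟨fun a b => ?_⟩⟩, fun a ha => ?_⟩, ?_,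
    K.map e.symm.toMonoidHom, ?_, ?_, ?_, ?_⟩
  · rw [hX, hE]
    rintro _ ⟨a, ha, rfl⟩ _ ⟨b, hb, rfl⟩
    exact ⟨a * b * a⁻¹, F.normal a ha b hb, by simp⟩
  · refine Subtype.ext (e.injective ?_)
    show e (a.1 * b.1) = e (b.1 * a.1)
    rw [map_mul, map_mul]
    exact F.comm _ (hmem _ a.2) _ (hmem _ b.2)
  · refine e.injective ?_
    rw [map_pow, map_one]
    exact F.sq _ (hmem a ha)
  · rw [Nat.card_congr (Subgroup.equivMapOfInjective E e.toMonoidHom hinj).toEquiv, hEe]
    exact F.card_image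
  · rw [← Subgroup.map_le_map_iff_of_injective hinj, hKe, hXe]
    exact hK1
  · apply Subgroup.map_injective hinj
    rw [Subgroup.map_inf _ _ _ hinj, hKe, hEe, Subgroup.map_bot, hK2]
  · apply Subgroup.map_injective hinj
    rw [Subgroup.map_sup, hKe, hEe, hXe, hK3]
  · exact ⟨(Subgroup.equivMapOfInjective K e.symm.toMonoidHom e.symm.injective).symm.trans ι⟩

end Cfsg.Agent.S5410
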