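import Cfsg.Statements.S5411
import Cfsg.Agent.Monster39.Fusion

set_option autoImplicit false
open Cfsg

namespace Cfsg.Agent.S5411

/-- Let G be a finite group of Monster type at the involution z with Q the extraspecial normal subgroup of order 2^25 of C = C_G(z) (so C/Q is identified with the first Conway group with Q modulo its centre the Leech lattice modulo 2, and z is not weakly closed in Q). Then C acts transitively by conjugation on the involutions of Q that are not conjugate to z in G. -/
theorem result {G : Type*} [Group G] [Finite G] (z : G) (Q : Subgroup (Subgroup.centralizer ({z} : Set G))) [Q.Normal] (hM : Cfsg.IsOfMonsterType z Q) (s t : G) (hsQ : ∃ hsc : s ∈ Subgroup.centralizer ({z} : Set G), (⟨s, hsc⟩ : Subgroup.centralizer ({z} : Set G)) ∈ Q) (htQ : ∃ htc : t ∈ Subgroup.centralizer ({z} : Set G), (⟨t, htc⟩ : Subgroup.centralizer ({z} : Set G)) ∈ Q) (hs2 : orderOf s = 2) (ht2 : orderOf t = 2) (hs : ¬ IsConj z s) (ht : ¬ IsConj z t) : ∃ h ∈ Subgroup.centralizer ({z} : Set G), h *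 s * h⁻¹ = t := by
  obtain ⟨hS, e, ψ, hψ⟩ := hM
  have M : Monster39.Setting z Q e ψ := ⟨hS, hψ⟩
  obtain ⟨hsc, hsm⟩ := hsQ
  obtain ⟨htc, htm⟩ := htQ
  have key : ∀ y : Q, orderOf ((y : Subgroup.centralizer ({z} : Set G)) : G) = 2 →
      ¬ IsConj z ((y : Subgroup.centralizer ({z} : Set G)) : G) → Monster39.Cls ψ 32 y := by
    intro y hy hn
    have hyc : y ∉ Subgroup.center Q := fun h => by
      rcases M.mem_center_iff.1 h with rfl | rfl
      · simp at hy
      · exact hn (IsConj.refl z)
    refine (M.cls_of_sq hyc ?_).resolve_right fun h => hn ((M.isConj_iff_cls y).2 h).1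
    refine Subtype.ext (Subtype.ext ?_)
    have h2 := pow_orderOf_eq_one ((y : Subgroup.centralizer ({z} : Set G)) : G)
    rw [hy, pow_two] at h2
    exact h2
  obtain ⟨h, hh⟩ := M.transitive (by norm_num) (key ⟨⟨s, hsc⟩, hsm⟩ hs2 hs) (key ⟨⟨t, htc⟩, htm⟩ ht2 ht)
  exact ⟨h, h.2, congrArg (fun q : Q => ((q : Subgroup.centralizer ({z} : Set G)) : G)) hh⟩

end Cfsg.Agent.S5411
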