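import Cfsg.Statements.S5412
import Cfsg.Agent.Monster39.Baby

set_option autoImplicit false
open Cfsg

namespace Cfsg.Agent.S5412

/-- Let G be a finite group of Monster type at the involution z with Q the extraspecial normal subgroup of order 2^25 of C = C_G(z) (so C/Q is identified with the first Conway group with Q modulo its centre the Leech lattice modulo 2, and z is not weakly closed in Q). Let t be an involution of Q not conjugate to z in G. Then the centralizer of t modulo the subgroup generated by t is a group of Baby Monster type (an involution whose centralizer D has generalized Fitting subgroup R extraspecial of order 2^23 with D/R identified with the second Conway group acting on R modulo its centre as on the vectors of the Leech lattice modulo 2 orthogonal to a short vector, modulo that vector; the involution not weakly closed in R). -/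
theorem result {G : Type*} [Group G] [Finite G] (z : G) (Q : Subgroup (Subgroup.centralizer ({z} : Set G))) [Q.Normal] (hM : Cfsg.IsOfMonsterType z Q) (t : G) (htQ : ∃ htc : t ∈ Subgroup.centralizer ({z} : Set G), (⟨t, htc⟩ : Subgroup.centralizer ({z} : Set G)) ∈ Q) (ht2 : orderOf t = 2) (ht : ¬ IsConj z t) [hn : ((Subgroup.zpowers t).subgroupOf (Subgroup.centralizer ({t} : Set G))).Normal] : Cfsg.IsOfBabyMonsterType (↥(Subgroup.centralizer ({t} : Set G)) ⧸ (Subgroup.zpowers t).subgroupOf (Subgroup.centralizer ({t} : Set G))) := by
  obtain ⟨hS, e, ψ, hψ⟩ := hM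
  have M : Monster39.Setting z Q e ψ := ⟨hS, hψ⟩
  obtain ⟨htc, htm⟩ := htQ
  let tQ : Q := ⟨⟨t, htc⟩, htm⟩
  have hsq : tQ * tQ = 1 := by
    refine Subtype.ext (Subtype.ext ?_)
    have h2 := pow_orderOf_eq_one t
    rw [ht2, pow_two] at h2
    exact h2
  have htnc : tQ ∉ Subgroup.center Q := fun h => by
    rcases M.mem_center_iff.1 h with h | h
    · have h1 : t = 1 := congrArg (fun q : Q => ((q : Subgroup.centralizer ({z} : Set G)) : G)) h
      rw [h1, orderOf_one] at ht2
      omega
    · have h1 : t = z := congrArg (fun q : Q => ((q : Subgroup.centralizer ({z} : Set G)) : G)) h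
      exact ht (h1 ▸ IsConj.refl z)
  obtain ⟨v, hv, hvt⟩ : Monster39.Cls ψ 32 tQ :=
    (M.cls_of_sq htnc hsq).resolve_right fun h => ht ((M.isConj_iff_cls tQ).2 h).1
  obtain ⟨a, ha⟩ := Cfsg.Agent.Leech.transitive_32 Cfsg.Agent.Leech.codeUnique
    Monster39.sqNorm_leechU hv
  exact (M.twist a).baby tQ hsq (by show ψ (a • Spor.leechU) = _; rw [ha, hvt]) (hn := hn)

end Cfsg.Agent.S5412
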