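import Cfsg.Statements.S5413
import Cfsg.Agent.MonsterCent3.Locate
import Cfsg.Agent.MonsterCent3.HNCent

set_option autoImplicit false
open Cfsg

namespace Cfsg.Agent.S5413

/-- Let G be a finite group of Monster type at the involution z with Q the extraspecial normal subgroup of order 2^25 of C = C_G(z) (so C/Q is identified with the first Conway group with Q modulo its centre the Leech lattice modulo 2, and z is not weakly closed in Q). Let s be a conjugate of z in Q other than z and let B be a Sylow 5-subgroup of the joint centralizer of z and s. Then the centralizer of B modulo B is a group of Harada–Norton type (an involution whose centralizer D has generalized Fitting subgroup R extraspecial of order 2^9 with D/R the wreath product of the alternating group of degree 5 by a group of order 2, the involution not weakly closed in R). -/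
theorem result {G : Type*} [Group G] [Finite G] (z : G) (Q : Subgroup (Subgroup.centralizer ({z} : Set G))) [Q.Normal] (hM : Cfsg.IsOfMonsterType z Q) (s : G) (hsQ : ∃ hsc : s ∈ Subgroup.centralizer ({z} : Set G), (⟨s, hsc⟩ : Subgroup.centralizer ({z} : Set G)) ∈ Q) (hs : IsConj z s) (hs1 : s ≠ z) (B : Subgroup G) (hB : B ≤ Subgroup.centralizer ({z, s} : Set G)) (hBp : Nat.card B = 5 ^ (Nat.card ↥(Subgroup.centralizer ({z, s} : Set G))).factorization 5) [hn : (B.subgroupOf (Subgroup.centralizer (B : Set G))).Normal] : Cfsg.IsOfHaradaNortonType (↥(Subgroup.centralizer (B : Set G)) ⧸ B.subgroupOf (Subgroup.centralizer (B : Set G))) := by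
  classical
  obtain ⟨hS, e, ψ, hψ⟩ := hM
  have M : Monster39.Setting z Q e ψ := ⟨hS, hψ⟩
  obtain ⟨hsc, hsm⟩ := hsQ
  let sQ : Q := ⟨⟨s, hsc⟩, hsm⟩
  have hcls : Monster39.Cls ψ 64 sQ := (M.isConj_iff_cls sQ).1 ⟨hs, hs1⟩
  have h5 : Nat.Prime 5 := by norm_num
  have hf : (2 ^ 11 * 244823040 : ℕ).factorization 5 = 1 := by
    have h1 := (h5.dvd_iff_one_le_factorization (by norm_num : (2 ^ 11 * 244823040 : ℕ) ≠ 0)).1 (by norm_num)
    have h2 : ¬ 2 ≤ (2 ^ 11 * 244823040 : ℕ).factorization 5 := by
      rw [← h5.pow_dvd_iff_le_factorization (by norm_num)]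
      norm_num
    omega
  have hB5 : Nat.card B = 5 := by
    rw [hBp, show Subgroup.centralizer ({z, s} : Set G) = Subgroup.centralizer
      ({z, ((sQ : Subgroup.centralizer ({z} : Set G)) : G)} : Set G) from rfl,
      MonsterCent3.factorization_pair M h5 (by norm_num) hcls hf, pow_one]
  obtain ⟨g, hg, s', hs', hgs⟩ := MonsterCent3.exists_fusion M h5 (by norm_num) hcls hf hB hB5 (by norm_num)
  obtain ⟨b, a, hbo, hBb, hbg, hg0⟩ := MonsterCent3.locate M h5 (by norm_num) hcls hf hB hB5
    MonsterCent3.HN.s5 MonsterCent3.HN.orderOf_s5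
  obtain ⟨z', R, hR, hset, hiso, -, -⟩ := MonsterCent3.type_of_cent M h5 (by norm_num) hbo hbg hg0
    (MonsterCent3.HN.data5.conj a)
    (fun T hT h2 => by haveI := hT; exact MonsterCent3.HN.wreath_core T h2)
    (w := 4) (by norm_num) (by norm_num) hBb hg hgs hs'
  exact ⟨z', R, hR, hset, hiso⟩

end Cfsg.Agent.S5413
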