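import Cfsg.Statements.S5414
import Cfsg.Agent.Monster4.Reduce

set_option autoImplicit false
open Cfsg

namespace Cfsg.Agent.S5414

/-- Let G be a finite group of Monster type at the involution z with Q the extraspecial normal subgroup of order 2^25 of C = C_G(z) (so C/Q is identified with the first Conway group with Q modulo its centre the Leech lattice modulo 2, and z is not weakly closed in Q). Let s be a conjugate of z in Q other than z and let Y be a subgroup of order 3 of the joint centralizer L of z and s that is not 3-central in L (Y lies in the centre of no Sylow 3-subgroup of L). Then the centralizer of Y modulo Y is a group of Thompson type (an involution whose centralizer D has generalized Fitting subgroup R extraspecial of order 2^9 with D/R the alternating group of degree 9, the involution not weakly closed in R). -/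
theorem result {G : Type*} [Group G] [Finite G] (z : G) (Q : Subgroup (Subgroup.centralizer ({z} : Set G))) [Q.Normal] (hM : Cfsg.IsOfMonsterType z Q) (s : G) (hsQ : ∃ hsc : s ∈ Subgroup.centralizer ({z} : Set G), (⟨s, hsc⟩ : Subgroup.centralizer ({z} : Set G)) ∈ Q) (hs : IsConj z s) (hs1 : s ≠ z) (Y : Subgroup G) (hY : Y ≤ Subgroup.centralizer ({z, s} : Set G)) (hY3 : Nat.card Y = 3) (hnc : ∀ P : Sylow 3 ↥(Subgroup.centralizer ({z, s} : Set G)), ¬ Y.subgroupOf (Subgroup.centralizer ({z, s} : Set G)) ≤ (Subgroup.center ↥(P : Subgroup ↥(Subgroup.centralizer ({z, s} : Set G)))).map (P : Subgroup ↥(Subgroup.centralizer ({z, s} : Set G))).subtype) [hn : (Y.subgroupOf (Subgroup.centralizer (Y : Set G))).Normal] : Cfsg.IsOfThompsonType (↥(Subgroup.centralizer (Y : Set G)) ⧸ Y.subgroupOf (Subgroup.centralizer (Y : Set G))) := by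
  classical
  haveI := Monster39.finiteCo1
  haveI : Fact (Nat.Prime 3) := ⟨by norm_num⟩
  obtain ⟨hS, e, ψ, hψ⟩ := hM
  have M : Monster39.Setting z Q e ψ := ⟨hS, hψ⟩
  obtain ⟨hsc, hsm⟩ := hsQ
  let sQ : Q := ⟨⟨s, hsc⟩, hsm⟩
  have hcls : Monster39.Cls ψ 64 sQ := (M.isConj_iff_cls sQ).1 ⟨hs, hs1⟩
  have hne : sQ ≠ M.zQ := (M.ne_zQ_iff sQ).2 hs1
  obtain ⟨x, hx⟩ : IsCyclic Y := isCyclic_of_prime_card hY3
  have hxo : orderOf (x : G) = 3 := by
    rw [Subgroup.orderOf_coe, ← hY3]
    exact orderOf_eq_card_of_forall_mem_zpowers hx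
  let c : Monster4.pairCent z sQ := ⟨x, hY x.2⟩
  have hco : orderOf c = 3 := (Subgroup.orderOf_coe c).symm.trans hxo
  have hYz : Y = Subgroup.zpowers (x : G) := by
    refine (Subgroup.eq_of_le_of_card_ge (Subgroup.zpowers_le.2 x.2) ?_).symm
    rw [Nat.card_zpowers, hxo, hY3]
  have hncc : ¬ Monster4.IsThreeCentral c := by
    rintro ⟨P, hcP, hcomm⟩
    refine hnc P fun y hy => ?_
    have hy' : (y : G) ∈ Y := hy
    rw [hYz] at hy'
    obtain ⟨i, hi⟩ := Subgroup.mem_zpowers_iff.1 hy'
    have he : y = c ^ i := Subtype.ext (by rw [SubgroupClass.coe_zpow]; exact hi.symm)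
    rw [he]
    have hcm : c ∈ (Subgroup.center (P : Subgroup (Monster4.pairCent z sQ))).map
        (P : Subgroup (Monster4.pairCent z sQ)).subtype :=
      ⟨⟨c, hcP⟩, Subgroup.mem_center_iff.2 fun r => Subtype.ext (hcomm r r.2).symm, rfl⟩
    exact Subgroup.zpow_mem _ hcm i
  obtain ⟨⟨a, hba, ha3⟩, n, hn1, hn2⟩ := Monster4.locate3 M hcls hco hncc
  have hbo : orderOf (Monster4.toC sQ c) = 3 := (Subgroup.orderOf_coe _).symm.trans hxo
  have hncent : n ∈ Subgroup.centralizer (Y : Set G) := by
    rw [Subgroup.mem_centralizer_iff]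
    intro y hy
    rw [SetLike.mem_coe, hYz] at hy
    obtain ⟨i, rfl⟩ := Subgroup.mem_zpowers_iff.1 hy
    exact ((show Commute n (x : G) from hn1).zpow_right i).eq.symm
  have hL : ∀ T : Subgroup (alternatingGroup (Fin 9)), T.Normal → IsPGroup 2 T → T = ⊥ := by
    intro T hT h2
    haveI : IsSimpleGroup (alternatingGroup (Fin 9)) := alternatingGroup.isSimpleGroup (by simp)
    rcases IsSimpleGroup.eq_bot_or_eq_top_of_normal T hT with h | h
    · exact h
    · exfalso
      haveI : Fact (Nat.Prime 2) := ⟨Nat.prime_two⟩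
      obtain ⟨m, hm⟩ := IsPGroup.iff_card.1 h2
      rw [h, Subgroup.card_top, nat_card_alternatingGroup, Nat.card_fin] at hm
      have : 3 ∣ 2 ^ m := hm ▸ (by decide)
      have := (by norm_num : Nat.Prime 3).dvd_of_dvd_pow this
      norm_num at this
  obtain ⟨z', R, hR, hset, hiso, -, -⟩ := MonsterCent3.type_of_cent M (by norm_num : Nat.Prime 3) (by norm_num)
    hbo hba ha3 (Monster4.centData.conj a) hL (w := 4) (by norm_num) (by norm_num) (B := Y) hYz
    (g := n) hncent (s := sQ) hn2 hne
  exact ⟨z', R, hR, hset, hiso⟩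

end Cfsg.Agent.S5414
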