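import Cfsg.Statements.S5415
import Cfsg.Agent.MonsterFi58.Quot
import Cfsg.Agent.MonsterFi58.Fusion

set_option autoImplicit false
open Cfsg

namespace Cfsg.Agent.S5415

/-- Let G be a finite group of Monster type at the involution z with Q the extraspecial normal subgroup of order 2^25 of C = C_G(z) (so C/Q is identified with the first Conway group with Q modulo its centre the Leech lattice modulo 2, and z is not weakly closed in Q). Let s be a conjugate of z in Q other than z and let Y be a subgroup of order 3 of the joint centralizer L of z and s that is 3-central in L (Y lies in the centre of some Sylow 3-subgroup of L). Then the centralizer of Y modulo Y is a group of large Fischer type (an involution whose centralizer D has generalized Fitting subgroup R extraspecial of order 2^13 and normal subgroups R ≤ N ≤ M with N/R of order 3, M/N the projective special unitary group of dimension 4 over the field with nine elements and M of index 2 in D; the involution not weakly closed in R). -/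
theorem result {G : Type*} [Group G] [Finite G] (z : G) (Q : Subgroup (Subgroup.centralizer ({z} : Set G))) [Q.Normal] (hM : Cfsg.IsOfMonsterType z Q) (s : G) (hsQ : ∃ hsc : s ∈ Subgroup.centralizer ({z} : Set G), (⟨s, hsc⟩ : Subgroup.centralizer ({z} : Set G)) ∈ Q) (hs : IsConj z s) (hs1 : s ≠ z) (Y : Subgroup G) (hY : Y ≤ Subgroup.centralizer ({z, s} : Set G)) (hY3 : Nat.card Y = 3) (hc : ∃ P : Sylow 3 ↥(Subgroup.centralizer ({z, s} : Set G)), Y.subgroupOf (Subgroup.centralizer ({z, s} : Set G)) ≤ (Subgroup.center ↥(P : Subgroup ↥(Subgroup.centralizer ({z, s} : Set G)))).map (P : Subgroup ↥(Subgroup.centralizer ({z, s} : Set G))).subtype) [hn : (Y.subgroupOf (Subgroup.centralizer (Y : Set G))).Normal] : Cfsg.IsOfLargeFischerType (↥(Subgroup.centralizer (Y : Set G)) ⧸ Y.subgroupOf (Subgroup.centralizer (Y : Set G))) := by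
  obtain ⟨hsc, hsmem⟩ := hsQ
  obtain ⟨hS, e, ψ, hψ⟩ := hM
  have M : Monster39.Setting z Q e ψ := ⟨hS, hψ⟩
  set sQ : Q := ⟨⟨s, hsc⟩, hsmem⟩ with hsQdef
  have h64 : Monster39.Cls ψ 64 sQ := (M.isConj_iff_cls sQ).1 ⟨hs, hs1⟩
  obtain ⟨⟨b, a, hb, hB, hbg⟩, g, hg, s', hs', hgs⟩ := MonsterFi58.locate3 M h64 hY hY3 hc
  have hg0 : (a * MonsterFi58.g0 * a⁻¹) ^ 3 = 1 := by
    rw [conj_pow, pow_succ, pow_two, mul_assoc MonsterFi58.g0, MonsterFi58.g0_cube, mul_one,
      mul_inv_cancel]
  obtain ⟨z', R, hR, hset, ⟨φ⟩, -, -⟩ := MonsterCent3.type_of_cent M Nat.prime_three (by norm_num) hb hbg hg0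
    (MonsterFi58.centData.conj a) MonsterFi58.noTwo (w := 6) (by norm_num) (by norm_num) hB hg hgs hs'
  refine ⟨z', R, hR, hset, ?_⟩
  haveI : Finite Co0 := Monster39.finiteCo0
  let F : _ →* MonsterFi58.LQ := φ.toMonoidHom.comp (QuotientGroup.mk' R)
  have hF : Function.Surjective F := φ.surjective.comp (QuotientGroup.mk'_surjective R)
  have hker : F.ker = R := by
    ext x
    rw [MonoidHom.mem_ker]
    show φ (QuotientGroup.mk x) = 1 ↔ _
    rw [map_eq_one_iff φ φ.injective, QuotientGroup.eq_one_iff]
  have hle : R ≤ MonsterFi58.NL.comap F := fun x hx => by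
    rw [Subgroup.mem_comap, show F x = 1 from MonoidHom.mem_ker.1 (hker.symm ▸ hx)]
    exact one_mem _
  refine ⟨MonsterFi58.NL.comap F, MonsterFi58.ML.comap F, inferInstance, inferInstance, hle,
    Subgroup.comap_mono MonsterFi58.NL_le, ?_, ?_, ?_⟩
  · have h := Subgroup.card_eq_card_quotient_mul_card_subgroup (R.subgroupOf (MonsterFi58.NL.comap F))
    let f : MonsterFi58.NL.comap F →* MonsterFi58.NL :=
      (F.comp (MonsterFi58.NL.comap F).subtype).codRestrict _ fun x => x.2
    have hf : Function.Surjective f := fun y => by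
      obtain ⟨x, hx⟩ := hF y
      exact ⟨⟨x, show F x ∈ _ by rw [hx]; exact y.2⟩, Subtype.ext hx⟩
    have hfk : f.ker = R.subgroupOf (MonsterFi58.NL.comap F) := by
      ext x
      rw [MonoidHom.mem_ker, Subgroup.mem_subgroupOf, ← Subtype.val_inj]
      show F x = 1 ↔ _
      rw [← MonoidHom.mem_ker, hker]
    rw [Nat.card_congr (Subgroup.subgroupOfEquivOfLe hle).toEquiv, ← Nat.card_congr
      ((QuotientGroup.quotientMulEquivOfEq hfk).symm.trans
        (QuotientGroup.quotientKerEquivOfSurjective f hf)).symm.toEquiv, MonsterFi58.card_NL] at h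
    exact h
  · obtain ⟨ι⟩ := MonsterFi58.quot_iso
    letI : Fintype (GaloisField 3 2) := Fintype.ofFinite _
    refine ⟨GaloisField 3 2, inferInstance, inferInstance,
      by rw [← Nat.card_eq_fintype_card, GaloisField.card 3 2 (by norm_num)]; norm_num, ⟨?_⟩⟩
    let f : MonsterFi58.ML.comap F →* MonsterFi58.ML ⧸ MonsterFi58.NL.subgroupOf MonsterFi58.ML :=
      (QuotientGroup.mk' _).comp ((F.comp (MonsterFi58.ML.comap F).subtype).codRestrict _ fun x => x.2)
    have hf : Function.Surjective f := fun y => by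
      obtain ⟨⟨m, hm⟩, rfl⟩ := QuotientGroup.mk_surjective y
      obtain ⟨x, rfl⟩ := hF m
      exact ⟨⟨x, hm⟩, rfl⟩
    have hfk : f.ker = (MonsterFi58.NL.comap F).subgroupOf (MonsterFi58.ML.comap F) := by
      ext x
      exact (QuotientGroup.eq_one_iff _).trans Iff.rfl
    exact ((QuotientGroup.quotientMulEquivOfEq hfk).symm.trans
      (QuotientGroup.quotientKerEquivOfSurjective f hf)).trans ι
  · rw [Subgroup.index_comap_of_surjective _ hF, MonsterFi58.index_ML]

end Cfsg.Agent.S5415
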