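import Cfsg.Statements.S5416
import Cfsg.Agent.MonHe94.Main

set_option autoImplicit false
open Cfsg

namespace Cfsg.Agent.S5416

/-- Let G be a finite group of Monster type at the involution z with Q the extraspecial normal subgroup of order 2^25 of C = C_G(z) (so C/Q is identified with the first Conway group with Q modulo its centre the Leech lattice modulo 2, and z is not weakly closed in Q). Let s be a conjugate of z in Q other than z and let B be a Sylow 7-subgroup of the joint centralizer of z and s. Then the centralizer of B modulo B is a group of Held type (an involution whose centralizer D has generalized Fitting subgroup R extraspecial of order 2^7 with D/R isomorphic to SL(3, 2), exactly 29 of its conjugates lying in R, and the involution not weakly closed in R). -/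
theorem result {G : Type*} [Group G] [Finite G] (z : G) (Q : Subgroup (Subgroup.centralizer ({z} : Set G))) [Q.Normal] (hM : Cfsg.IsOfMonsterType z Q) (s : G) (hsQ : ∃ hsc : s ∈ Subgroup.centralizer ({z} : Set G), (⟨s, hsc⟩ : Subgroup.centralizer ({z} : Set G)) ∈ Q) (hs : IsConj z s) (hs1 : s ≠ z) (B : Subgroup G) (hB : B ≤ Subgroup.centralizer ({z, s} : Set G)) (hBp : Nat.card B = 7 ^ (Nat.card ↥(Subgroup.centralizer ({z, s} : Set G))).factorization 7) [hn : (B.subgroupOf (Subgroup.centralizer (B : Set G))).Normal] : Cfsg.IsOfHeldType (↥(Subgroup.centralizer (B : Set G)) ⧸ B.subgroupOf (Subgroup.centralizer (B : Set G))) := by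
  obtain ⟨hS, e, ψ, hψ⟩ := hM
  have M : Monster39.Setting z Q e ψ := ⟨hS, hψ⟩
  obtain ⟨hsc, hsm⟩ := hsQ
  let sQ : Q := ⟨⟨s, hsc⟩, hsm⟩
  have h64 : Monster39.Cls ψ 64 sQ := (M.isConj_iff_cls sQ).1 ⟨hs, hs1⟩
  have hcard : Nat.card (Monster39.Setting.centC sQ) = 2 ^ 24 * (2 ^ 11 * 244823040) := by
    rw [← M.card_proj_cent (M.not_mem_center (by norm_num) (by norm_num) h64), M.card_stabilizer h64,
      mul_comm]
  have hL : Nat.card ↥(Subgroup.centralizer ({z, s} : Set G)) = 2 ^ 24 * (2 ^ 11 * 244823040) := by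
    rw [← hcard]
    exact Nat.card_congr
      { toFun := fun g => ⟨⟨g, Subgroup.mem_centralizer_singleton_iff.2 ((Subgroup.mem_centralizer_iff.1 g.2) z (by simp)).symm⟩,
          Subgroup.mem_centralizer_singleton_iff.2 (Subtype.ext ((Subgroup.mem_centralizer_iff.1 g.2) s (by simp)).symm)⟩
        invFun := fun c => ⟨((c : Subgroup.centralizer ({z} : Set G)) : G), Subgroup.mem_centralizer_iff.2 (by
          rintro x (rfl | rfl)
          · exact (Subgroup.mem_centralizer_singleton_iff.1 (c : Subgroup.centralizer ({x} : Set G)).2).symm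
          · exact (congrArg Subtype.val (Subgroup.mem_centralizer_singleton_iff.1 c.2)).symm)⟩
        left_inv := fun _ => rfl
        right_inv := fun _ => rfl }
  have hB7 : Nat.card B = 7 := by
    have h0 : Nat.card ↥(Subgroup.centralizer ({z, s} : Set G)) ≠ 0 := Nat.card_pos.ne'
    have h1 := (Nat.Prime.pow_dvd_iff_le_factorization (by norm_num : Nat.Prime 7) h0 (k := 1)).1
      (by rw [hL]; norm_num)
    have h2 : ¬ 2 ≤ (Nat.card ↥(Subgroup.centralizer ({z, s} : Set G))).factorization 7 := fun h => by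
      have := (Nat.Prime.pow_dvd_iff_le_factorization (by norm_num : Nat.Prime 7) h0 (k := 2)).2 h
      rw [hL] at this
      norm_num at this
    rw [hBp, show (Nat.card ↥(Subgroup.centralizer ({z, s} : Set G))).factorization 7 = 1 by omega, pow_one]
  haveI : Fact (Nat.Prime 7) := ⟨by norm_num⟩
  obtain ⟨x, hx⟩ := exists_prime_orderOf_dvd_card' (G := B) 7 (by rw [hB7])
  have hxo : orderOf (x : G) = 7 := by rw [Subgroup.orderOf_coe, hx]
  have hxz : (x : G) * z = z * x := ((Subgroup.mem_centralizer_iff.1 (hB x.2)) z (by simp)).symm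
  let b : Subgroup.centralizer ({z} : Set G) := ⟨x, Subgroup.mem_centralizer_singleton_iff.2 hxz⟩
  have hbC : b ∈ Monster39.Setting.centC sQ := Subgroup.mem_centralizer_singleton_iff.2
    (Subtype.ext ((Subgroup.mem_centralizer_iff.1 (hB x.2)) s (by simp)).symm)
  have hbo : orderOf b = 7 := by rw [← Subgroup.orderOf_coe]; exact hxo
  haveI := Monster39.finiteCo1
  have hpb : orderOf (Monster39.proj e b) = 7 := by
    refine orderOf_eq_prime (by rw [← map_pow, ← hbo, pow_orderOf_eq_one, map_one]) fun h => ?_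
    have h3 := Subgroup.orderOf_dvd_natCard Q (Monster39.proj_eq_one.1 h)
    rw [hbo, M.card_Q] at h3
    norm_num at h3
  obtain ⟨a, ha⟩ := M.exists_mathieu h64
  have hm7 : orderOf (Monster39.mathieuHom a Sporadic96.sevenEl) = 7 := by
    rw [orderOf_injective _ (Monster39.mathieuHom_injective a), ← Subgroup.orderOf_coe,
      Sporadic96.orderOf_sevenEl]
  obtain ⟨u, -, k, hk⟩ := MonHe94.exists_conj_seven
    ((Monster39.Setting.centC sQ).map (Monster39.proj e)) ⟨b, hbC, rfl⟩
    (ha ⟨Sporadic96.sevenEl, rfl⟩) hpb hm7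
    (by rw [M.card_stabilizer h64]; norm_num)
  obtain ⟨g, rfl⟩ := QuotientGroup.mk_surjective u
  have M' := M.twist (a * g)⁻¹
  set e' := e.trans (MulAut.conj (QuotientGroup.mk ((a * g)⁻¹)⁻¹ : Spor.Co1)) with he'
  have hproj : Monster39.proj e' b = MonHe94.beta ^ k := by
    show (QuotientGroup.mk ((a * g)⁻¹)⁻¹ : Spor.Co1) * Monster39.proj e b *
      (QuotientGroup.mk ((a * g)⁻¹)⁻¹)⁻¹ = _
    rw [inv_inv, QuotientGroup.mk_mul, show (QuotientGroup.mk a : Spor.Co1) * QuotientGroup.mk g * Monster39.proj e b *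
      ((QuotientGroup.mk a : Spor.Co1) * QuotientGroup.mk g)⁻¹ = QuotientGroup.mk a *
      (QuotientGroup.mk g * Monster39.proj e b * (QuotientGroup.mk g)⁻¹) * (QuotientGroup.mk a)⁻¹ by group, hk,
      ← conj_pow]
    congr 1
    show (QuotientGroup.mk a : Spor.Co1) * QuotientGroup.mk (a⁻¹ * MonHe94.p7 * (a⁻¹)⁻¹) * (QuotientGroup.mk a)⁻¹ = _
    rw [QuotientGroup.mk_mul, QuotientGroup.mk_mul, inv_inv, QuotientGroup.mk_inv, MonHe94.beta]
    group
  have hk7 : ¬ 7 ∣ k := by
    intro h
    rw [(orderOf_dvd_iff_pow_eq_one.1 (hm7 ▸ h))] at hk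
    have h1 : Monster39.proj e b = 1 := by simpa using hk
    rw [h1, orderOf_one] at hpb
    omega
  obtain ⟨j, hj⟩ := exists_pow_eq_self_of_coprime (x := MonHe94.beta) (n := k)
    (by rw [MonHe94.orderOf_beta, Nat.coprime_comm]; exact (Nat.Prime.coprime_iff_not_dvd (by norm_num)).2 hk7)
  have S : MonHe94.Lift e' (fun v => ψ ((a * g)⁻¹ • v)) (b ^ j) :=
    ⟨M', by rw [← pow_mul, mul_comm, pow_mul, ← hbo, pow_orderOf_eq_one, one_pow],
      by rw [map_pow, hproj, hj]⟩
  refine S.held ?_ (hn := hn)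
  refine (Subgroup.eq_of_le_of_card_ge (Subgroup.zpowers_le.2 ?_) ?_).symm
  · rw [SubmonoidClass.coe_pow]
    exact pow_mem x.2 j
  · rw [hB7, Nat.card_zpowers, Subgroup.orderOf_coe, S.orderOf_b]

end Cfsg.Agent.S5416
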