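import Cfsg.Statements.S5418
import Cfsg.Agent.MonSeven5.Main

set_option autoImplicit false
open Cfsg

namespace Cfsg.Agent.S5418

/-- Let G be a finite group of Monster type at the involution z with Q the extraspecial normal subgroup of order 2^25 of C = C_G(z) (so C/Q is identified with the first Conway group with Q modulo its centre the Leech lattice modulo 2, and z is not weakly closed in Q). Let s be a conjugate of z in Q other than z and let B be a Sylow 7-subgroup of the joint centralizer of z and s. Then the centralizer of B has index 6 in the normalizer of B; and some involution inverting B induces, by conjugation, a non-inner automorphism of the layer of the centralizer of B. -/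
theorem result {G : Type*} [Group G] [Finite G] (z : G) (Q : Subgroup (Subgroup.centralizer ({z} : Set G))) [Q.Normal] (hM : Cfsg.IsOfMonsterType z Q) (s : G) (hsQ : ∃ hsc : s ∈ Subgroup.centralizer ({z} : Set G), (⟨s, hsc⟩ : Subgroup.centralizer ({z} : Set G)) ∈ Q) (hs : IsConj z s) (hs1 : s ≠ z) (B : Subgroup G) (hB : B ≤ Subgroup.centralizer ({z, s} : Set G)) (hBp : Nat.card B = 7 ^ (Nat.card ↥(Subgroup.centralizer ({z, s} : Set G))).factorization 7) : (Subgroup.centralizer (B : Set G)).relIndex (Subgroup.normalizer (B : Set G)) = 6 ∧ ∃ t : G, orderOf t = 2 ∧ (∀ b ∈ B, t * b * t⁻¹ = b⁻¹) ∧ (∀ x ∈ (Cfsg.layer ↥(Subgroup.centralizer (B : Set G))).map (Subgroup.centralizer (B : Set G)).subtype, t * x * t⁻¹ ∈ (Cfsg.layer ↥(Subgroup.centralizer (B : Set G))).map (Subgroup.centralizer (B : Set G)).subtype) ∧ ¬ ∃ l ∈ (Cfsg.layer ↥(Subgroup.centralizer (B : Set G))).map (Subgroup.centralizer (B : Set G)).subtype, ∀ x ∈ (Cfsg.layer ↥(Subgroup.centralizer (B : Set G))).map (Subgroup.centralizer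 (B : Set G)).subtype, t * x * t⁻¹ = l * x * l⁻¹ := by
  classical
  obtain ⟨hS, e, ψ, hψ⟩ := hM
  have M : Monster39.Setting z Q e ψ := ⟨hS, hψ⟩
  obtain ⟨hsc, hsQ⟩ := hsQ
  let x : Q := ⟨⟨s, hsc⟩, hsQ⟩
  obtain ⟨v, hv, hvx⟩ := (M.isConj_iff_cls x).1 ⟨hs, hs1⟩
  obtain ⟨a, ha⟩ := Leech.transitive_64 Leech.codeUnique (Leech.sqNorm_frame none) hv
  have M1 := M.twist a
  have hx1 : (fun w => ψ (a • w)) (Leech.frame none) = QuotientGroup.mk x := by
    show ψ (a • Leech.frame none) = _
    rw [ha, hvx]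
  obtain ⟨b1, K1⟩ := MonSeven5.exists_cf M1 hx1
  have hcent : Subgroup.centralizer ({z, s} : Set G) =
      (Subgroup.centralizer ({(x : Subgroup.centralizer ({z} : Set G))} :
        Set (Subgroup.centralizer ({z} : Set G)))).map (Subgroup.centralizer ({z} : Set G)).subtype := by
    ext u
    constructor
    · intro hu
      refine ⟨⟨u, Subgroup.mem_centralizer_iff.2 fun w hw => ?_⟩, ?_, rfl⟩
      · exact Subgroup.mem_centralizer_iff.1 hu w (by rw [Set.mem_singleton_iff.1 hw]; exact Set.mem_insert _ _)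
      · exact Subgroup.mem_centralizer_singleton_iff.2
          (Subtype.ext (Subgroup.mem_centralizer_iff.1 hu s (by simp)).symm)
    · rintro ⟨w, hw, rfl⟩
      refine Subgroup.mem_centralizer_iff.2 ?_
      rintro u (rfl | rfl)
      · exact (Subgroup.mem_centralizer_singleton_iff.1 w.2).symm
      · exact (congrArg Subtype.val (Subgroup.mem_centralizer_singleton_iff.1 hw)).symm
  have hfac : (Nat.card (Subgroup.centralizer ({z, s} : Set G))).factorization 7 = 1 := by
    rw [hcent, Subgroup.card_map_of_injective (Subgroup.subtype_injective _)]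
    have h := M1.card_cent (by norm_num) K1.cls_x
    rw [M1.ncard_cls.2.2, Monster39.card_Co1] at h
    have h0 := Nat.card_pos (α := Subgroup.centralizer ({(x : Subgroup.centralizer ({z} : Set G))} :
        Set (Subgroup.centralizer ({z} : Set G))))
    refine le_antisymm (not_lt.1 fun h2 => ?_) ?_
    · exact K1.not_dvd_card_cent ((Nat.Prime.pow_dvd_iff_le_factorization (by norm_num) h0.ne').2 h2)
    · refine (Nat.Prime.pow_dvd_iff_le_factorization (by norm_num) h0.ne').1 ?_
      omega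
  rw [hfac, pow_one] at hBp
  haveI : Fact (Nat.Prime 7) := ⟨by norm_num⟩
  obtain ⟨u, hu⟩ := exists_prime_orderOf_dvd_card' (G := B) 7 (by rw [hBp])
  have hBu : B = Subgroup.zpowers (u : G) := (Subgroup.eq_of_le_of_card_ge
    (by rw [Subgroup.zpowers_le]; exact u.2) (by rw [hBp, Nat.card_zpowers, Subgroup.orderOf_coe, hu])).symm
  obtain ⟨c, hcz, hcx, k, hk⟩ := K1.conj_b
    (Subgroup.mem_centralizer_iff.1 (hB u.2) z (Set.mem_insert _ _)).symm
    (Subgroup.mem_centralizer_iff.1 (hB u.2) s (by simp)).symm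
    (by rw [Subgroup.orderOf_coe, hu])
  let cC : Subgroup.centralizer ({z} : Set G) := ⟨c, Subgroup.mem_centralizer_singleton_iff.2 hcz⟩
  obtain ⟨g, hg⟩ := QuotientGroup.mk_surjective
    (Monster39.proj (e.trans (MulAut.conj (QuotientGroup.mk a⁻¹ : Spor.Co1))) cC)
  have hg' : (QuotientGroup.mk g⁻¹ : Spor.Co1) =
      Monster39.proj (e.trans (MulAut.conj (QuotientGroup.mk a⁻¹ : Spor.Co1))) cC⁻¹ := by
    rw [QuotientGroup.mk_inv, hg, map_inv]
  have K2 : MonSeven5.Cf (M1.twist g⁻¹) x (c⁻¹ * b1 * c) := by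
    refine ⟨?_, ?_, ?_, ?_, fun hb => ?_⟩
    · have h1 := M1.hψ.2.2.2 cC⁻¹ g⁻¹ hg' (Leech.frame none) x hx1
      refine h1.trans (congrArg QuotientGroup.mk (Subtype.ext (Subtype.ext ?_)))
      show c⁻¹ * s * c⁻¹⁻¹ = s
      rw [inv_inv, mul_assoc, ← show c * s = s * c from hcx, inv_mul_cancel_left]
    · have := orderOf_injective (MulAut.conj c⁻¹).toMonoidHom (MulAut.conj c⁻¹).injective b1
      simpa [K1.ord] using this
    · calc c⁻¹ * b1 * c * z = c⁻¹ * (b1 * (c * z * c⁻¹)) * c := by group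
        _ = c⁻¹ * (b1 * z) * c := by rw [hcz, mul_inv_cancel_right]
        _ = c⁻¹ * (c * z * c⁻¹ * b1) * c := by rw [K1.bz, hcz, mul_inv_cancel_right]
        _ = _ := by group
    · calc c⁻¹ * b1 * c * MonSeven5.qG x = c⁻¹ * (b1 * (c * MonSeven5.qG x * c⁻¹)) * c := by group
        _ = c⁻¹ * (b1 * MonSeven5.qG x) * c := by rw [hcx, mul_inv_cancel_right]
        _ = c⁻¹ * (c * MonSeven5.qG x * c⁻¹ * b1) * c := by rw [K1.bx, hcx, mul_inv_cancel_right]
        _ = _ := by group
    · have e1 : (⟨c⁻¹ * b1 * c, hb⟩ : Subgroup.centralizer ({z} : Set G)) =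
          cC⁻¹ * K1.bC * cC := rfl
      rw [MonSeven5.proj_twist, e1, map_mul, map_mul, map_inv, K1.proj_bC, inv_inv, ← hg]
      group
  have hbu : Subgroup.zpowers (u : G) = Subgroup.zpowers (c⁻¹ * b1 * c) := by
    refine Subgroup.eq_of_le_of_card_ge (Subgroup.zpowers_le.2 ?_) ?_
    · refine Subgroup.mem_zpowers_iff.2 ⟨k, ?_⟩
      rw [show c⁻¹ * b1 * c = c⁻¹ * b1 * c⁻¹⁻¹ by rw [inv_inv], conj_zpow, ← hk]
      group
    · rw [Nat.card_zpowers, Nat.card_zpowers, K2.ord, Subgroup.orderOf_coe, hu]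
  rw [hBu, hbu]
  have hH : Subgroup.centralizer (Subgroup.zpowers (c⁻¹ * b1 * c) : Set G) =
      Subgroup.centralizer ({c⁻¹ * b1 * c} : Set G) := by
    rw [Subgroup.zpowers_eq_closure, Subgroup.centralizer_closure]
  refine ⟨K2.relIndex_eq, ?_⟩
  rw [hH]
  exact K2.main

end Cfsg.Agent.S5418
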