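import Cfsg.Statements.S5421
import Cfsg.Agent.Lib.LargeExtraspecial.Statements

set_option autoImplicit false
open Cfsg

namespace Cfsg.Agent.S5421

/-- Let Q be an extraspecial 2-subgroup of the finite group G whose centralizer in G is its centre Z and which is normal in the centralizer of Z. If some involution b of Q outside Z has Z inside the largest normal 2-subgroup of the centralizer of b, then Q is a large extraspecial 2-subgroup of G. -/
theorem result {G : Type*} [Group G] [Finite G] (Q : Subgroup G) (hL1 : Cfsg.IsExtraspecial 2 ↥Q) (hL2 : Subgroup.centralizer (Q : Set G) = ((Subgroup.center ↥Q).map Q.subtype)) (hL3 : Subgroup.centralizer (((Subgroup.center ↥Q).map Q.subtype) : Set G) ≤ Subgroup.normalizer (Q : Set G)) (b : G) (hbQ : b ∈ Q) (hbZ : b ∉ ((Subgroup.center ↥Q).map Q.subtype)) (hb : orderOf b = 2) (hZ : ((Subgroup.center ↥Q).map Q.subtype) ≤ (Cfsg.pCore 2 ↥(Subgroup.centralizer ({b} : Set G))).map (Subgroup.centralizer ({b} : Set G)).subtype) : Cfsg.IsLargeExtraspecial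 Q := by
  obtain ⟨z, hz⟩ := Cfsg.Agent.LargeExtraspecial.exists_center_gen hL1
  have h := Cfsg.Agent.LargeExtraspecial.Setup.of_center hL1 hz hL2 hL3
  haveI : Fact (Nat.Prime 2) := ⟨Nat.prime_two⟩
  refine h.large_of_involution hbQ (hz ▸ hbZ) (by rw [← pow_two, ← hb, pow_orderOf_eq_one])
    (Subgroup.map_subtype_le _) ?_ (Cfsg.Agent.Thompson.isPGroup_pCore.map _)
    (hZ (hz ▸ Subgroup.mem_zpowers z))
  rintro c hc _ ⟨t, ht, rfl⟩
  exact ⟨⟨c, hc⟩ * t * ⟨c, hc⟩⁻¹, Cfsg.Agent.Thompson.instPCoreNormal.conj_mem t ht _, rfl⟩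

end Cfsg.Agent.S5421
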