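import Cfsg.Statements.S5423
import Cfsg.Agent.Lib.LargeExtraspecial.Affine

set_option autoImplicit false
open Cfsg

namespace Cfsg.Agent.S5423

/-- Let G be a finite group that is the split extension of an elementary abelian normal subgroup U of order 2^(n+1), n ≥ 1, by its full automorphism group: U has a complement M in G whose conjugation action on U is faithful and realizes every automorphism of U. Let Z be a subgroup of U of order 2 and Q the largest normal 2-subgroup of the centralizer C of Z. Then Q is extraspecial of order 2^(2n+1) with an elementary abelian subgroup of order 2^(n+1) (plus type), Q is a large extraspecial 2-subgroup of G, and C is the split extension of Q by the general linear group of degree n over the field with two elements. -/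
theorem result {G : Type*} [Group G] [Finite G] (n : ℕ) (hn : 1 ≤ n) (U M : Subgroup G) [U.Normal] (hU : Cfsg.IsElementaryAbelian 2 U) (hUcard : Nat.card ↥U = 2 ^ (n + 1)) (hUM : U ⊓ M = ⊥) (hUM' : U ⊔ M = ⊤) (hfaith : ∀ m ∈ M, (∀ u ∈ U, m * u * m⁻¹ = u) → m = 1) (hfull : ∀ φ : ↥U ≃* ↥U, ∃ m ∈ M, ∀ u : ↥U, ((φ u : ↥U) : G) = m * u * m⁻¹) (Z : Subgroup G) (hZU : Z ≤ U) (hZ : Nat.card ↥Z = 2) (Q : Subgroup G) (hQ : Q = (Cfsg.pCore 2 ↥(Subgroup.centralizer (Z : Set G))).map (Subgroup.centralizer (Z : Set G)).subtype) : Cfsg.IsExtraspecial 2 ↥Q ∧ Nat.card ↥Q = 2 ^ (2 * n + 1) ∧ (∃ E : Subgroup G, E ≤ Q ∧ Cfsg.IsElementaryAbelian 2 E ∧ Nat.card ↥E = 2 ^ (n + 1)) ∧ Cfsg.IsLargeExtraspecial Q ∧ ∃ K : Subgroup G, K ≤ Subgroup.centralizer (Z : Set G) ∧ Q ⊓ K = ⊥ ∧ Q ⊔ K = Subgroup.centralizer (Z : Set G) ∧ Nonempty (↥K ≃* Matrix.GeneralLinearGroup (Fin n) (ZMod 2)) := by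
  haveI : Fact (Nat.Prime 2) := ⟨Nat.prime_two⟩
  obtain ⟨⟨z, hzZ⟩, hzgen⟩ := (isCyclic_of_prime_card hZ).exists_generator
  have hZz : Z = Subgroup.zpowers z := by
    refine le_antisymm (fun x hx => ?_) (Subgroup.zpowers_le.2 hzZ)
    obtain ⟨k, hk⟩ := Subgroup.mem_zpowers_iff.1 (hzgen ⟨x, hx⟩)
    exact ⟨k, by simpa using congrArg Subtype.val hk⟩
  have hz1 : z ≠ 1 := by
    intro e
    rw [hZz, e, Subgroup.zpowers_one_eq_bot, Subgroup.card_bot] at hZ
    omega
  obtain ⟨f, hf, hfz, hr⟩ :=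
    Cfsg.Agent.LargeExtraspecial.Transv.exists_affine_hom U M hU hUcard hUM hUM' hfaith hfull (hZU hzZ) hz1
  obtain ⟨Q', hQ', hs, hcard, -, hE, K, hK, hinf, hsup, hiso⟩ :=
    Cfsg.Agent.LargeExtraspecial.Transv.pullback hn f hf hfz hr
  have hC : Subgroup.centralizer (Z : Set G) = Subgroup.centralizer {z} := by
    rw [hZz, Cfsg.Agent.LargeExtraspecial.centralizer_zpowers]
  rw [hC] at hQ
  obtain rfl : Q = Q' := hQ.trans hQ'.symm
  have hUp : IsPGroup 2 U := fun u => ⟨1, Subtype.ext (by push_cast; exact hU.2 _ u.2)⟩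
  have hzO : z ∈ Cfsg.pCore 2 G := Thompson.le_pCore inferInstance hUp (hZU hzZ)
  refine ⟨hs.extraspecial, hcard, hE, hs.large_of_center_mem hzO, K, ?_, hinf, ?_, hiso⟩
  · rw [hC]; exact hK
  · rw [hC]; exact hsup

end Cfsg.Agent.S5423
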