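import Cfsg.Statements.S5424
import Cfsg.Agent.Lib.LargeExtraspecial.Pullback
import Cfsg.Agent.Lib.LargeExtraspecial.Statements

set_option autoImplicit false
open Cfsg

namespace Cfsg.Agent.S5424

open Cfsg.Agent.LargeExtraspecial

/-- Over the field with two elements the special linear group is the general linear group. -/
theorem toGL_bijective (ι : Type) [Fintype ι] [DecidableEq ι] :
    Function.Bijective (Matrix.SpecialLinearGroup.toGL (n := ι) (R := ZMod 2)) := by
  refine ⟨Matrix.SpecialLinearGroup.toGL_injective, fun g => ?_⟩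
  have hd : (g : Matrix ι ι (ZMod 2)).det = 1 := by
    have h : ∀ a : ZMod 2, a ≠ 0 → a = 1 := by decide
    exact h _ ((Matrix.isUnit_iff_isUnit_det _).1 g.isUnit).ne_zero
  exact ⟨⟨g, hd⟩, Units.ext rfl⟩

/-- The index equivalence. -/
def ix (n : ℕ) : Fin (n + 2) ≃ Transv.Ix n := (finCongr (Nat.add_comm n 2)).trans finSumFinEquiv.symm

theorem exists_iso (n : ℕ) : ∃ e : Matrix.SpecialLinearGroup (Fin (n + 2)) (ZMod 2) ≃* Transv.Amb n,
    ∀ z : Matrix.SpecialLinearGroup (Fin (n + 2)) (ZMod 2), (z : Matrix (Fin (n + 2)) (Fin (n + 2)) (ZMod 2)) = Matrix.transvection 0 1 1 →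
      e z = Transv.zel n := by
  let e1 := MulEquiv.ofBijective _ (toGL_bijective (Fin (n + 2)))
  let e2 : GL (Fin (n + 2)) (ZMod 2) ≃* Transv.Amb n :=
    Units.mapEquiv (Matrix.reindexAlgEquiv (ZMod 2) (ZMod 2) (ix n)).toMulEquiv
  refine ⟨e1.trans e2, fun z hz => Units.ext ?_⟩
  show Matrix.reindex (ix n) (ix n) (z : Matrix (Fin (n + 2)) (Fin (n + 2)) (ZMod 2)) = _
  rw [hz, Transv.zel, Transv.coe_rad]
  have h0 : (ix n).symm (.inl 0) = 0 := Fin.ext rfl
  have h1 : (ix n).symm (.inl 1) = 1 := Fin.ext (by simp [ix, Fin.val_one])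
  ext x y
  simp only [Matrix.reindex_apply, Matrix.submatrix_apply, Matrix.transvection, Matrix.add_apply,
    Matrix.one_apply, Matrix.single, Matrix.of_apply, ← h0, ← h1, (ix n).symm.injective.eq_iff]
  rcases x with i | l <;> rcases y with j | k
  · fin_cases i <;> fin_cases j <;> simp [Transv.mk]
  · fin_cases i <;> simp [Transv.mk]
  · simp [Transv.mk]
  · simp [Transv.mk, Matrix.one_apply]

/-- Let G be the special linear group of degree n + 2 over the field with two elements, n ≥ 2, let z be a transvection, and let Q be the largest normal 2-subgroup of the centralizer C of z. Then Q is extraspecial of order 2^(2n+1) with an elementary abelian subgroup of order 2^(n+1) (plus type), Q is a large extraspecial 2-subgroup of G, and C is the split extension of Q by the special linear group of degree n over the field with two elements. -/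
theorem result (n : ℕ) (hn : 2 ≤ n) (z : Matrix.SpecialLinearGroup (Fin (n + 2)) (ZMod 2)) (hz : (z : Matrix (Fin (n + 2)) (Fin (n + 2)) (ZMod 2)) = Matrix.transvection 0 1 1) (Q : Subgroup (Matrix.SpecialLinearGroup (Fin (n + 2)) (ZMod 2))) (hQ : Q = (Cfsg.pCore 2 ↥(Subgroup.centralizer ({z} : Set (Matrix.SpecialLinearGroup (Fin (n + 2)) (ZMod 2))))).map (Subgroup.centralizer ({z} : Set (Matrix.SpecialLinearGroup (Fin (n + 2)) (ZMod 2)))).subtype) : Cfsg.IsExtraspecial 2 ↥Q ∧ Nat.card ↥Q = 2 ^ (2 * n + 1) ∧ (∃ E : Subgroup (Matrix.SpecialLinearGroup (Fin (n + 2)) (ZMod 2)), E ≤ Q ∧ Cfsg.IsElementaryAbelian 2 E ∧ Nat.card ↥E = 2 ^ (n + 1)) ∧ Cfsg.IsLargeExtraspecial Q ∧ ∃ K : Subgroup (Matrix.SpecialLinearGroup (Fin (n + 2)) (ZMod 2)), K ≤ Subgroup.centralizer ({z} : Set (Matrix.SpecialLinearGroup (Fin (n + 2)) (ZMod 2))) ∧ Q ⊓ K = ⊥ ∧ Q ⊔ K = Subgroup.centralizer ({z} : Set (Matrix.SpecialLinearGroup (Fin (n + 2)) (ZMod 2))) ∧ Nonempty (↥K ≃* Matrix.SpecialLinearGroup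 (Fin n) (ZMod 2)) := by
  obtain ⟨e, he⟩ := exists_iso n
  have hz' := he z hz
  obtain ⟨Q', hQ', hs, hcard, hcomap, hE, K, hK, hinf, hsup, ⟨φ⟩⟩ :=
    Transv.pullback (n := n) (by omega) e.toMonoidHom e.injective hz' (le_top.trans (MonoidHom.range_eq_top.2 e.surjective).ge)
  obtain rfl : Q = Q' := hQ.trans hQ'.symm
  obtain ⟨g, hg, hgne⟩ := Transv.exists_conjugate (n := n) (by omega)
  have hgz : e (e.symm g * z * (e.symm g)⁻¹) = g * Transv.zel n * g⁻¹ := by
    rw [map_mul, map_mul, map_inv, e.apply_symm_apply, hz']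
  have hp := hs.pair (card_le_of_width hn hcard) (g := e.symm g) ?_ ?_
  · exact ⟨hs.extraspecial, hcard, hE, hp.large, K, hK, hinf, hsup,
      ⟨φ.trans (MulEquiv.ofBijective _ (toGL_bijective (Fin n))).symm⟩⟩
  · rw [hcomap, Subgroup.mem_comap]
    show e (e.symm g * z * (e.symm g)⁻¹) ∈ _
    rw [hgz]; exact hg
  · intro h
    exact hgne (by rw [← hgz, h, hz'])

end Cfsg.Agent.S5424
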