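import Cfsg.Statements.S5425
import Cfsg.Agent.Lib.LargeExtraspecial.Affine
import Cfsg.Agent.Lib.LargeExtraspecial.Inclusion
import Cfsg.Agent.Lib.LargeExtraspecial.Statements
import Cfsg.Agent.SporStruct.OctadStab
import Cfsg.Agent.Lib.Leech.OctadInvolution
import Cfsg.Agent.Lib.Golay.Fixed

set_option autoImplicit false
open Cfsg

namespace Cfsg.Agent.S5425

open Cfsg.Agent.SporStruct.M24 Cfsg.Agent.LargeExtraspecial
open scoped Pointwise
open Matrix

theorem slEquivGL (ι : Type) [Fintype ι] [DecidableEq ι] :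
    Nonempty (GL ι (ZMod 2) ≃* Matrix.SpecialLinearGroup ι (ZMod 2)) := by
  refine ⟨(MulEquiv.ofBijective _ (⟨Matrix.SpecialLinearGroup.toGL_injective, fun g => ?_⟩ :
    Function.Bijective (Matrix.SpecialLinearGroup.toGL (n := ι) (R := ZMod 2)))).symm⟩
  have hd : (g : Matrix ι ι (ZMod 2)).det = 1 := by
    have h : ∀ a : ZMod 2, a ≠ 0 → a = 1 := by decide
    exact h _ ((Matrix.isUnit_iff_isUnit_det _).1 g.isUnit).ne_zero
  exact ⟨⟨g, hd⟩, Units.ext rfl⟩

/-- The stabiliser of the octad, inside `M24`. -/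
abbrev Hs (o : Finset GolayPt) : Type := ↥(setStab o)

/-- The translations. -/
abbrev Us (o : Finset GolayPt) : Subgroup (Hs o) := (pointFix o).subgroupOf (setStab o)

/-- The complement. -/
abbrev Ms (o : Finset GolayPt) (p : GolayPt) : Subgroup (Hs o) := (setStabPt o p).subgroupOf (setStab o)

theorem pointFix_normal (o : Finset GolayPt) : (Us o).Normal := by
  refine ⟨fun x hx g => ?_⟩
  rw [Subgroup.mem_subgroupOf, mem_pointFix] at hx ⊢
  obtain ⟨hg, hgo⟩ := mem_setStab.1 g.2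
  push_cast
  refine ⟨Cfsg.M24.mul_mem (Cfsg.M24.mul_mem hg hx.1) (Cfsg.M24.inv_mem hg), fun y hy => ?_⟩
  have hy' : g.1⁻¹ y ∈ o := by
    rw [← Golay.apply_mem_iff_of_smul_eq hgo (g.1⁻¹ y), Equiv.Perm.coe_inv, Equiv.apply_symm_apply]
    exact hy
  simp only [Function.comp_apply, Equiv.Perm.mul_apply]
  rw [hx.2 _ hy', Equiv.Perm.coe_inv, Equiv.apply_symm_apply]

theorem elementary {o : Finset GolayPt} (ho : o ∈ octads) : Cfsg.IsElementaryAbelian 2 (Us o) := by
  have key : ∀ a ∈ Us o, a * a = 1 := fun a ha =>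
    Subtype.ext (Leech.sq_eq_one_of_mem_pointFix ho (Subgroup.mem_subgroupOf.1 ha))
  refine ⟨⟨⟨fun a b => Subtype.ext ?_⟩⟩, fun a ha => by rw [pow_two]; exact key a ha⟩
  push_cast
  have h1 := key _ (mul_mem a.2 b.2)
  calc (a : Hs o) * b = ((a : Hs o) * b)⁻¹ := (inv_eq_of_mul_eq_one_left h1).symm
    _ = (b : Hs o)⁻¹ * (a : Hs o)⁻¹ := mul_inv_rev _ _
    _ = _ := by rw [inv_eq_of_mul_eq_one_left (key _ b.2), inv_eq_of_mul_eq_one_left (key _ a.2)]

theorem card_mulAut_le {G : Type*} [Group G] [Finite G] (U : Subgroup G) (hU : Cfsg.IsElementaryAbelian 2 U)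
    (hcard : Nat.card U = 2 ^ 4) {z : G} (hz : z ∈ U) (hz1 : z ≠ 1) :
    Nat.card (U ≃* U) ≤ 20160 := by
  classical
  obtain ⟨φ, hφ, -⟩ := Transv.exists_coords (n := 3) U hU hcard hz hz1
  let L : (U ≃* U) → Matrix (Transv.Jx 3) (Transv.Jx 3) (ZMod 2) := fun ψ =>
    LinearMap.toMatrix' (AddMonoidHom.toZModLinearMap 2 (AddMonoidHom.mk' (fun v => φ (ψ (φ.symm v)))
      (fun v w => by
        rw [← hφ, ← map_mul ψ]
        refine congrArg (fun t => φ (ψ t)) ?_
        apply φ.injective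
        rw [hφ, φ.apply_symm_apply, φ.apply_symm_apply, φ.apply_symm_apply])))
  have hL : ∀ ψ v, L ψ *ᵥ v = φ (ψ (φ.symm v)) := fun ψ v => by
    rw [LinearMap.toMatrix'_mulVec]; rfl
  have hmul : ∀ ψ ψ' : U ≃* U, L (ψ'.trans ψ) = L ψ * L ψ' := fun ψ ψ' =>
    Matrix.ext_iff_mulVec.2 fun v => by rw [← Matrix.mulVec_mulVec, hL, hL, hL]; simp
  have hone : L (MulEquiv.refl U) = 1 := Matrix.ext_iff_mulVec.2 fun v => by
    rw [hL, Matrix.one_mulVec]; simp
  let F : (U ≃* U) → GL (Transv.Jx 3) (ZMod 2) := fun ψ =>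
    ⟨L ψ, L ψ.symm, by rw [← hmul, ← hone]; congr 1; ext; simp, by rw [← hmul, ← hone]; congr 1; ext; simp⟩
  have hF : Function.Injective F := fun ψ ψ' e => MulEquiv.ext fun u => by
    have := congrArg (fun X : GL (Transv.Jx 3) (ZMod 2) => (X : Matrix (Transv.Jx 3) (Transv.Jx 3) (ZMod 2)) *ᵥ φ u) e
    simp only [F, hL, Equiv.symm_apply_apply] at this
    exact φ.injective this
  refine (Nat.card_le_card_of_injective F hF).trans (le_of_eq ?_)
  let e : Transv.Jx 3 ≃ Fin 4 := Fintype.equivFinOfCardEq (by simp)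
  rw [Nat.card_congr (Units.mapEquiv (Matrix.reindexAlgEquiv (ZMod 2) (ZMod 2) e).toMulEquiv).toEquiv,
    Matrix.card_GL_field]
  simp [Fin.prod_univ_four, ZMod.card]

theorem centralizer_le {o : Finset GolayPt} {z : Equiv.Perm GolayPt}
    (hfix : (Finset.univ.filter fun p : GolayPt => z p = p) = o) {x : Equiv.Perm GolayPt}
    (hx : x ∈ Cfsg.M24) (hc : x * z = z * x) : x ∈ setStab o := by
  refine mem_setStab.2 ⟨hx, Finset.eq_of_subset_of_card_le (fun p hp => ?_) (by simp)⟩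
  rw [mem_smul_iff] at hp
  rw [← hfix, Finset.mem_filter] at hp ⊢
  refine ⟨Finset.mem_univ _, ?_⟩
  have h1 : (x * z) (x⁻¹ p) = (z * x) (x⁻¹ p) := by rw [hc]
  rw [Equiv.Perm.mul_apply, Equiv.Perm.mul_apply, hp.2, Equiv.Perm.coe_inv, Equiv.apply_symm_apply] at h1
  exact h1.symm

/-- In the Mathieu group of degree 24 (the automorphism group of the length-24 binary Golay code, acting on the 24 coordinates), let z be an involution whose fixed points form an octad (the support of a code word of weight 8), and let Q be the largest normal 2-subgroup of the centralizer C of z. Then Q is extraspecial of order 2^7 with an elementary abelian subgroup of order 16 (plus type), Q is a large extraspecial 2-subgroup, and C is the split extension of Q by the special linear group of degree 3 over the field with two elements. -/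
theorem result (z : ↥Cfsg.M24) (hz : orderOf z = 2) (hfix : (Finset.univ.filter fun p : Cfsg.GolayPt => (z : Equiv.Perm Cfsg.GolayPt) p = p) ∈ Cfsg.octads) (Q : Subgroup ↥Cfsg.M24) (hQ : Q = (Cfsg.pCore 2 ↥(Subgroup.centralizer ({z} : Set ↥Cfsg.M24))).map (Subgroup.centralizer ({z} : Set ↥Cfsg.M24)).subtype) : Cfsg.IsExtraspecial 2 ↥Q ∧ Nat.card ↥Q = 2 ^ 7 ∧ (∃ E : Subgroup ↥Cfsg.M24, E ≤ Q ∧ Cfsg.IsElementaryAbelian 2 E ∧ Nat.card ↥E = 2 ^ 4) ∧ Cfsg.IsLargeExtraspecial Q ∧ ∃ K : Subgroup ↥Cfsg.M24, K ≤ Subgroup.centralizer ({z} : Set ↥Cfsg.M24) ∧ Q ⊓ K = ⊥ ∧ Q ⊔ K = Subgroup.centralizer ({z} : Set ↥Cfsg.M24) ∧ Nonempty (↥K ≃* Matrix.SpecialLinearGroup (Fin 3) (ZMod 2)) := by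
  haveI : Fact (Nat.Prime 2) := ⟨Nat.prime_two⟩
  generalize ho' : (Finset.univ.filter fun p : Cfsg.GolayPt => (z : Equiv.Perm Cfsg.GolayPt) p = p) = o at hfix
  obtain ⟨p, hp⟩ := exists_outside hfix
  have hzU : (z : Equiv.Perm GolayPt) ∈ pointFix o := mem_pointFix.2 ⟨z.2, fun x hx => by
    rw [← ho', Finset.mem_filter] at hx; exact hx.2⟩
  let zH : Hs o := ⟨z, pointFix_le_setStab hzU⟩
  have hz1 : z ≠ 1 := fun e => by rw [e, orderOf_one] at hz; omega
  have hzH1 : zH ≠ 1 := fun e => hz1 (Subtype.ext (congrArg (fun t : Hs o => (t : Equiv.Perm GolayPt)) e))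
  haveI := pointFix_normal o
  have hU := elementary hfix
  have hUcard : Nat.card (Us o) = 2 ^ 4 := by
    rw [Nat.card_congr (Subgroup.subgroupOfEquivOfLe pointFix_le_setStab).toEquiv, card_pointFix hfix]
    rfl
  obtain ⟨hinf, hsup⟩ := complement hfix hp
  have hUM : Us o ⊓ Ms o p = ⊥ := by
    rw [eq_bot_iff]
    rintro ⟨x, hx⟩ ⟨h1, h2⟩
    rw [Subgroup.mem_bot]
    refine Subtype.ext ?_
    have : x ∈ pointFix o ⊓ setStabPt o p := Subgroup.mem_inf.2 ⟨h1, h2⟩
    rwa [hinf, Subgroup.mem_bot] at this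
  have hUM' : Us o ⊔ Ms o p = ⊤ := by
    rw [← Subgroup.subgroupOf_sup pointFix_le_setStab inf_le_left, hsup, Subgroup.subgroupOf_self]
  have hfaith : ∀ m ∈ Ms o p, (∀ u ∈ Us o, m * u * m⁻¹ = u) → m = 1 := by
    intro m hm hc
    rw [Subgroup.mem_subgroupOf] at hm
    refine Subtype.ext (by_contra fun hne => ?_)
    have hle := Golay.card_fixedPts_le (mem_setStab.1 m.2).1 hne
    have hsub : oᶜ ⊆ Golay.fixedPts (m : Equiv.Perm GolayPt) := by
      intro q hq
      rw [Finset.mem_compl] at hq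
      obtain ⟨k, hk, hkp⟩ := exists_pointFix_map hfix hp hq
      rw [Golay.mem_fixedPts]
      have h1 := congrArg (fun t : Hs o => (t : Equiv.Perm GolayPt))
        (mul_inv_eq_iff_eq_mul.1 (hc ⟨k, pointFix_le_setStab hk⟩ (Subgroup.mem_subgroupOf.2 hk)))
      simp only [Subgroup.coe_mul] at h1
      have h2 := congrArg (fun t : Equiv.Perm GolayPt => t p) h1
      simp only [Equiv.Perm.mul_apply] at h2
      have h3 : (m : Equiv.Perm GolayPt) p = p := hm.2
      rw [h3, hkp] at h2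
      exact h2
    have := (Finset.card_le_card hsub).trans hle
    rw [Finset.card_compl, Golay.card_of_mem_octads hfix, Fintype.card_option, ZMod.card] at this
    omega
  have hfull : ∀ φ : Us o ≃* Us o, ∃ m ∈ Ms o p, ∀ u : Us o, ((φ u : Us o) : Hs o) = m * u * m⁻¹ := by
    let act : Ms o p → (Us o ≃* Us o) := fun m => MulAut.conjNormal (m : Hs o)
    have hact : Function.Injective act := fun m m' e => by
      refine Subtype.ext ((mul_inv_eq_one (a := (m : Hs o))).1 ?_)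
      rw [← inv_eq_one, _root_.mul_inv_rev, inv_inv]
      refine hfaith _ (mul_mem m'.2 (inv_mem m.2)) fun u hu => ?_
      have h1 := congrArg (fun φ : Us o ≃* Us o => ((φ ⟨(m : Hs o)⁻¹ * u * m, by
        simpa using ‹(Us o).Normal›.conj_mem u hu (m : Hs o)⁻¹⟩ : Us o) : Hs o)) e
      simp only [act, MulAut.conjNormal_apply] at h1
      calc (m' : Hs o) * (m : Hs o)⁻¹ * u * ((m' : Hs o) * (m : Hs o)⁻¹)⁻¹
          = (m' : Hs o) * ((m : Hs o)⁻¹ * u * m) * (m' : Hs o)⁻¹ := by group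
        _ = (m : Hs o) * ((m : Hs o)⁻¹ * u * m) * (m : Hs o)⁻¹ := h1.symm
        _ = u := by group
    haveI : Finite (Us o ≃* Us o) := MulEquiv.finite_left
    have hM : Nat.card (Ms o p) = 20160 := by
      obtain ⟨e⟩ := stabPt_equiv hfix hp
      rw [Nat.card_congr (Subgroup.subgroupOfEquivOfLe (inf_le_left : setStabPt o p ≤ setStab o)).toEquiv,
        Nat.card_congr e.toEquiv, nat_card_alternatingGroup, Nat.card_eq_fintype_card, Fintype.card_fin]
      rfl
    have hsurj := hact.bijective_of_nat_card_le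
      ((card_mulAut_le (Us o) hU hUcard (z := zH) hzU hzH1).trans hM.ge)
    intro φ
    obtain ⟨m, hm⟩ := hsurj.2 φ
    exact ⟨m, m.2, fun u => by rw [← hm]; exact MulAut.conjNormal_apply _ _⟩
  obtain ⟨f, hf, hfz, hr⟩ :=
    Transv.exists_affine_hom (n := 3) (Us o) (Ms o p) hU hUcard hUM hUM' hfaith hfull
      (z := zH) hzU hzH1
  obtain ⟨QH, hQH, hs, hcard, -, hE, K, hK, hKinf, hKsup, ⟨ψ⟩⟩ :=
    Transv.pullback (n := 3) (by norm_num) f hf hfz hr
  let j : Hs o →* ↥Cfsg.M24 := Subgroup.inclusion inf_le_left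
  have hj : Function.Injective j := Subgroup.inclusion_injective _
  have hjz : j zH = z := rfl
  have hrange : Subgroup.centralizer ({j zH} : Set ↥Cfsg.M24) ≤ j.range := by
    intro x hx
    rw [Subgroup.mem_centralizer_singleton_iff] at hx
    refine ⟨⟨x, centralizer_le ho' x.2 ?_⟩, rfl⟩
    exact congrArg (fun t : ↥Cfsg.M24 => (t : Equiv.Perm GolayPt)) hx
  obtain rfl : Q = QH.map j := by
    rw [hQ, hQH]; exact map_pCore_centralizer j hj hrange
  have hsG : Setup (QH.map j) z := hs.map_injective j hj hrange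
  have hQcard : Nat.card (QH.map j) = 2 ^ 7 := by rw [Subgroup.card_map_of_injective hj, hcard]
  have hCmap := centralizer_map_eq j hj hrange
  refine ⟨hsG.extraspecial, hQcard, ?_, ?_, K.map j, ?_, ?_, ?_, ?_⟩
  · obtain ⟨E, hE1, ⟨hE2, hE3⟩, hE4⟩ := hE
    refine ⟨E.map j, Subgroup.map_mono hE1, ⟨?_, ?_⟩, by rw [Subgroup.card_map_of_injective hj, hE4]⟩
    · refine ⟨⟨?_⟩⟩
      rintro ⟨_, a, ha, rfl⟩ ⟨_, b, hb, rfl⟩
      refine Subtype.ext ?_
      show j a * j b = j b * j a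
      rw [← map_mul, ← map_mul]
      exact congrArg j (congrArg Subtype.val (hE2.is_comm.comm ⟨a, ha⟩ ⟨b, hb⟩))
    · rintro _ ⟨a, ha, rfl⟩; rw [← map_pow, hE3 a ha, map_one]
  · -- another conjugate of `z` in `Q`
    have hUQ : ∀ u ∈ Us o, u ∈ QH := by
      intro u hu
      have hle : Us o ≤ Subgroup.centralizer ({zH} : Set (Hs o)) := fun x hx =>
        Subgroup.mem_centralizer_singleton_iff.2 (congrArg Subtype.val
          (hU.1.is_comm.comm ⟨x, hx⟩ ⟨zH, hzU⟩))
      rw [hQH]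
      refine ⟨⟨u, hle hu⟩, ?_, rfl⟩
      refine Thompson.le_pCore (N := (Us o).subgroupOf (Subgroup.centralizer ({zH} : Set (Hs o))))
        inferInstance ?_ hu
      refine IsPGroup.of_equiv ?_ (Subgroup.subgroupOfEquivOfLe hle).symm
      exact IsPGroup.of_card hUcard
    obtain ⟨u, hu, hu1, huz⟩ : ∃ u ∈ Us o, u ≠ 1 ∧ u ≠ zH := by
      by_contra hall
      push Not at hall
      have hsub : Us o ≤ Subgroup.zpowers zH := fun u hu => by
        by_cases e : u = 1
        · rw [e]; exact one_mem _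
        · rw [hall u hu e]; exact Subgroup.mem_zpowers _
      have h2 := Subgroup.card_le_of_le hsub
      have : orderOf zH = 2 := by
        rw [← orderOf_injective j hj, hjz, hz]
      rw [hUcard, Nat.card_zpowers, this] at h2
      norm_num at h2
    obtain ⟨φ, hφ, hφz⟩ := Transv.exists_coords (n := 3) (Us o) hU hUcard hzU hzH1
    obtain ⟨φ', hφ', hφu⟩ := Transv.exists_coords (n := 3) (Us o) hU hUcard hu hu1
    let α : Us o ≃* Us o := MulEquiv.mk' (φ.trans φ'.symm) (fun a b => by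
      apply φ'.injective
      simp [hφ, hφ'])
    obtain ⟨m, -, hm⟩ := hfull α
    have hmz : m * zH * m⁻¹ = u := by
      rw [← hm ⟨zH, hzU⟩]
      show ((φ'.symm (φ ⟨zH, hzU⟩) : Us o) : Hs o) = u
      rw [hφz, ← hφu, Equiv.symm_apply_apply]
    refine (hsG.pair (by rw [hQcard]; norm_num) (g := j m) ?_ ?_).large
    · rw [← hjz, ← map_inv, ← map_mul, ← map_mul, hmz]; exact ⟨u, hUQ u hu, rfl⟩
    · rw [← hjz, ← map_inv, ← map_mul, ← map_mul, hmz]; exact fun e => huz (hj e)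
  · rw [← hjz, ← hCmap]; exact Subgroup.map_mono hK
  · rw [← Subgroup.map_inf _ _ _ hj, hKinf, Subgroup.map_bot]
  · rw [← Subgroup.map_sup, hKsup, hCmap, hjz]
  · obtain ⟨e⟩ := slEquivGL (Fin 3)
    exact ⟨((Subgroup.equivMapOfInjective K j hj).symm.trans ψ).trans e⟩

end Cfsg.Agent.S5425
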