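import Cfsg.Statements.S5432
import Cfsg.Agent.TwoFusionB.ExtraspecialOut
-- import your own Cfsg.Agent.* helpers here

set_option autoImplicit false
open Cfsg

namespace Cfsg.Agent.S5432

open Subgroup Cfsg.Agent.TwoFusionB
open scoped commutatorElement

theorem no_elementary_of_minus {E : Type*} [Group E] [Finite E] (hE : Cfsg.IsExtraspecial 2 E)
    {n : ℕ} (hcard : Nat.card E = 2 ^ (2 * n + 1)) {k : ℕ}
    {c : E → (Fin k ⊕ Fin k) ⊕ Fin 2 → ZMod 2}
    (h : XCoords (Cfsg.quadFormMinus k (ZMod 2) 1 1) c) (A : Subgroup E)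
    (hA : Cfsg.IsElementaryAbelian 2 A) (hA2 : Nat.card A = 2 ^ (n + 1)) : False := by
  classical
  haveI := Fintype.ofFinite E
  let f := Cfsg.quadFormMinus k (ZMod 2) 1 1
  have hAc : ∀ a ∈ A, ∀ b ∈ A, a * b = b * a := fun a ha b hb =>
    congrArg Subtype.val (hA.1.is_comm.comm (⟨a, ha⟩ : A) ⟨b, hb⟩)
  set U := A ⊔ center E with hU
  have hmem : ∀ u ∈ U, ∃ a ∈ A, ∃ b ∈ center E, u = a * b := fun u hu => by
    obtain ⟨a, ha, b, hb, e⟩ := mem_sup_of_normal_right.1 hu
    exact ⟨a, ha, b, hb, e.symm⟩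
  have hUc : U ≤ centralizer (U : Set E) := by
    intro u hu
    rw [mem_centralizer_iff]
    intro w hw
    obtain ⟨a, ha, b, hb, rfl⟩ := hmem u hu
    obtain ⟨a', ha', b', hb', rfl⟩ := hmem w hw
    have hb1 := mem_center_iff.1 hb
    have hb2 := mem_center_iff.1 hb'
    calc a' * b' * (a * b) = a' * (b' * a) * b := by group
      _ = a' * a * b' * b := by rw [← hb2 a]; group
      _ = a * a' * (b * b') := by rw [hAc a' ha' a ha, mul_assoc _ b' b, hb1 b']
      _ = a * (b * a') * b' := by rw [← hb1 a']; group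
      _ = a * b * (a' * b') := by group
  have hUsq : ∀ u ∈ U, u * u = 1 := by
    intro u hu
    obtain ⟨a, ha, b, hb, rfl⟩ := hmem u hu
    have e : a * b * (a * b) = a * a * (b * b) := by
      calc a * b * (a * b) = a * (b * a) * b := by group
        _ = _ := by rw [← mem_center_iff.1 hb a]; group
    rw [e, cen_sq hE hb, mul_one, ← pow_two]
    exact hA.2 a ha
  have hCU : centralizer (U : Set E) = U := by
    refine (eq_of_le_of_card_ge hUc ?_).symm
    have h1 := Cfsg.Agent.Class49.exSp_card_centralizer hE (U := U) le_sup_right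
    rw [hcard, show 2 ^ (2 * n + 1) * 2 = 2 ^ (n + 1) * 2 ^ (n + 1) by ring, ← hA2] at h1
    have h2 : Nat.card A ≤ Nat.card U := card_le_of_le le_sup_left
    have h3 : 0 < Nat.card U := Nat.card_pos
    refine Nat.le_of_mul_le_mul_right ?_ h3
    rw [h1]
    exact Nat.mul_le_mul h2 h2
  let W : Finset ((Fin k ⊕ Fin k) ⊕ Fin 2 → ZMod 2) := (Finset.univ.filter fun x : E => x ∈ U).image c
  have hW : ∀ v, v ∈ W ↔ ∃ u ∈ U, c u = v := fun v => by simp [W]
  have hWne : (0 : (Fin k ⊕ Fin k) ⊕ Fin 2 → ZMod 2) ∈ W :=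
    (hW 0).2 ⟨1, one_mem _, (h.ker 1).2 (one_mem _)⟩
  have hfW : ∀ v ∈ W, f v = 0 := fun v hv => by
    obtain ⟨u, hu, rfl⟩ := (hW v).1 hv
    show Cfsg.quadFormMinus k (ZMod 2) 1 1 (c u) = 0
    rw [h.sq, hUsq u hu, ind_one]
  have hWadd : ∀ v ∈ W, ∀ w ∈ W, v + w ∈ W := by
    intro v hv w hw
    obtain ⟨a, ha, rfl⟩ := (hW v).1 hv
    obtain ⟨b, hb, rfl⟩ := (hW w).1 hw
    exact (hW _).2 ⟨a * b, mul_mem ha hb, h.add a b⟩
  have hpol : ∀ x y, f (c x + c y) = f (c x) + f (c y) + ind ⁅y, x⁆ := by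
    intro x y
    simp only [f]
    rw [← h.add, h.sq, h.sq, h.sq, sq_mul hE,
      ind_mul hE (mul_mem (sq_mem hE x) (sq_mem hE y)) (comm_mem hE y x),
      ind_mul hE (sq_mem hE x) (sq_mem hE y)]
  let χ := KS58.F2.χ
  have hχ : ∀ a b, χ (a + b) = χ a * χ b := KS58.F2.χ_add
  -- the signed count is the order of `W`
  have hT : ∀ v, ∑ w ∈ W, χ (f (v + w)) = if v ∈ W then (W.card : ℤ) else 0 := by
    intro v
    by_cases hv : v ∈ W
    · rw [if_pos hv, Finset.sum_congr rfl (g := fun _ => (1 : ℤ)) fun w hw => by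
        rw [hfW _ (hWadd v hv w hw)]; simp [χ, KS58.F2.χ]]
      simp
    rw [if_neg hv]
    obtain ⟨x, rfl⟩ := h.surj v
    have hx : x ∉ U := fun hx => hv ((hW _).2 ⟨x, hx, rfl⟩)
    rw [← hCU, mem_centralizer_iff] at hx
    push Not at hx
    obtain ⟨u0, hu0, hne⟩ := hx
    have hodd : ind ⁅u0, x⁆ = (1 : ZMod 2) := by
      rcases (by decide : ∀ a : ZMod 2, a = 0 ∨ a = 1) (ind ⁅u0, x⁆) with e | e
      · exact absurd (commutatorElement_eq_one_iff_mul_comm.1 (ind_eq_zero.1 e)) hne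
      · exact e
    have hflip : ∀ u ∈ U, f (c x + (c u + c u0)) = f (c x + c u) + 1 := by
      intro u hu
      have e : ⁅u * u0, x⁆ = u * ⁅u0, x⁆ * u⁻¹ * ⁅u, x⁆ := by
        simp only [commutatorElement_def]; group
      rw [mem_center_iff.1 (comm_mem hE u0 x) u, mul_inv_cancel_right] at e
      rw [← h.add u u0, hpol, hpol, hfW _ ((hW _).2 ⟨u * u0, mul_mem hu hu0, rfl⟩),
        hfW _ ((hW _).2 ⟨u, hu, rfl⟩), e, ind_mul hE (comm_mem hE u0 x) (comm_mem hE u x), hodd]
      abel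
    have h2 : ∀ v : (Fin k ⊕ Fin k) ⊕ Fin 2 → ZMod 2, v + v = 0 := fun v =>
      funext fun i => CharTwo.add_self_eq_zero _
    have hmap : ∀ w ∈ W, w + c u0 ∈ W := fun w hw => hWadd w hw _ ((hW _).2 ⟨u0, hu0, rfl⟩)
    have hsum : ∑ w ∈ W, χ (f (c x + w)) = ∑ w ∈ W, χ (f (c x + (w + c u0))) := by
      refine Finset.sum_nbij' (fun w => w + c u0) (fun w => w + c u0) hmap hmap ?_ ?_ ?_
      · intro w _; show w + c u0 + c u0 = w; rw [add_assoc, h2, add_zero]
      · intro w _; show w + c u0 + c u0 = w; rw [add_assoc, h2, add_zero]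
      · intro w _; show _ = χ (f (c x + (w + c u0 + c u0))); rw [add_assoc, h2, add_zero]
    have hneg : ∑ w ∈ W, χ (f (c x + (w + c u0))) = - ∑ w ∈ W, χ (f (c x + w)) := by
      rw [← Finset.sum_neg_distrib]
      refine Finset.sum_congr rfl fun w hw => ?_
      obtain ⟨u, hu, rfl⟩ := (hW w).1 hw
      rw [hflip u hu, hχ, show χ 1 = -1 by simp [χ, KS58.F2.χ]]
      ring
    linarith
  have hS : ∑ w ∈ W, ∑ v, χ (f (v + w)) = (W.card : ℤ) * KS58.F2.sgn f := by
    refine (Finset.sum_congr rfl (g := fun _ => KS58.F2.sgn f) fun w _ =>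
      Equiv.sum_comp (Equiv.addRight w) fun v => χ (f v)).trans ?_
    simp
  rw [Finset.sum_comm, Finset.sum_congr rfl fun v _ => hT v] at hS
  have hs2 : KS58.F2.sgn f = -2 ^ (k + 1) := KS58.F2.sgn_minus k
  rw [hs2] at hS
  have hpos : (0 : ℤ) < W.card := by exact_mod_cast Finset.card_pos.2 ⟨_, hWne⟩
  have hnn : (0 : ℤ) ≤ ∑ v, if v ∈ W then (W.card : ℤ) else 0 :=
    Finset.sum_nonneg fun v _ => by split <;> positivity
  have : (0 : ℤ) < 2 ^ (k + 1) := by positivity
  nlinarith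

theorem exists_elementary_of_plus {E : Type*} [Group E] [Finite E] (hE : Cfsg.IsExtraspecial 2 E)
    {n : ℕ} (hcard : Nat.card E = 2 ^ (2 * n + 1)) {c : E → Fin n ⊕ Fin n → ZMod 2}
    (h : XCoords (Cfsg.quadFormPlus n (ZMod 2)) c) :
    ∃ A : Subgroup E, Cfsg.IsElementaryAbelian 2 A ∧ Nat.card ↥A = 2 ^ (n + 1) := by
  classical
  let π : E →* Multiplicative (Fin n → ZMod 2) :=
    MonoidHom.mk' (fun x => Multiplicative.ofAdd fun i => c x (Sum.inl i)) fun x y => by
      rw [h.add, ← ofAdd_add]; rfl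
  have hsq : ∀ x ∈ π.ker, x * x = 1 := by
    intro x hx
    have e : (fun i => c x (Sum.inl i)) = 0 := congrArg Multiplicative.toAdd (MonoidHom.mem_ker.1 hx)
    apply ind_eq_zero.1
    rw [← h.sq, Cfsg.quadFormPlus]
    exact Finset.sum_eq_zero fun i _ => by rw [show c x (Sum.inl i) = 0 from congrFun e i, zero_mul]
  refine ⟨π.ker, ⟨⟨⟨fun a b => Subtype.ext ?_⟩⟩, fun a ha => by rw [pow_two]; exact hsq a ha⟩, ?_⟩
  · have hinv : ∀ v ∈ π.ker, v⁻¹ = v := fun v hv => inv_eq_of_mul_eq_one_left (hsq v hv)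
    show (a : E) * b = b * a
    rw [← hinv _ (mul_mem a.2 b.2), mul_inv_rev, hinv _ a.2, hinv _ b.2]
  · have hs : Function.Surjective π := fun v => by
      obtain ⟨x, hx⟩ := h.surj (Sum.elim v.toAdd 0)
      refine ⟨x, congrArg Multiplicative.ofAdd (funext fun i => ?_)⟩
      rw [hx]; rfl
    have h1 := π.ker.card_mul_index
    rw [index_ker, MonoidHom.range_eq_top.2 hs, hcard, Nat.card_congr topEquiv.toEquiv,
      Nat.card_eq_fintype_card (α := Multiplicative (Fin n → ZMod 2)), Fintype.card_multiplicative,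
      Fintype.card_fun, ZMod.card, Fintype.card_fin] at h1
    refine Nat.eq_of_mul_eq_mul_right (show 0 < 2 ^ n by positivity) (h1.trans ?_)
    ring


/-- Let E be an extraspecial 2-group of order 2^(2n+1), n ≥ 1. If E contains an elementary abelian subgroup of order 2^(n+1) (plus type), then its outer automorphism group is isomorphic to the full isometry group of the hyperbolic quadratic form in dimension 2n over the field with two elements; otherwise (minus type) it is isomorphic to the full isometry group of the elliptic quadratic form in dimension 2n over that field. -/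
theorem result {E : Type*} [Group E] [Finite E] (hE : Cfsg.IsExtraspecial 2 E) (n : ℕ) (hn : 1 ≤ n) (hcard : Nat.card E = 2 ^ (2 * n + 1)) : ((∃ A : Subgroup E, Cfsg.IsElementaryAbelian 2 A ∧ Nat.card ↥A = 2 ^ (n + 1)) → Nonempty (Cfsg.Out E ≃* Cfsg.isometryGroup (ZMod 2) (Cfsg.quadFormPlus n (ZMod 2)))) ∧ ((¬ ∃ A : Subgroup E, Cfsg.IsElementaryAbelian 2 A ∧ Nat.card ↥A = 2 ^ (n + 1)) → Nonempty (Cfsg.Out E ≃* Cfsg.isometryGroup (ZMod 2) (Cfsg.quadFormMinus (n - 1) (ZMod 2) 1 1))) := by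
  rcases exists_coords hE hn hcard with ⟨c, hc⟩ | ⟨c, hc⟩
  · exact ⟨fun _ => out_equiv hE hc, fun hno => absurd (exists_elementary_of_plus hE hcard hc) hno⟩
  · exact ⟨fun ⟨A, hA, hA2⟩ => (no_elementary_of_minus hE hcard hc A hA hA2).elim,
      fun _ => out_equiv hE hc⟩

end Cfsg.Agent.S5432
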