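import Cfsg.Statements.S5434
import Cfsg.Agent.Lib.LargeExtraspecial.Sections
import Cfsg.Agent.Lib.Coprime.Action

set_option autoImplicit false
open Cfsg
open scoped commutatorElement

namespace Cfsg.Agent.S5434

/-- Let Q be a large extraspecial 2-subgroup of the finite group G (extraspecial; centralizer equal to its centre; normal in the centralizer of its centre; normalizing no non-trivial subgroup of odd order), and A a non-trivial subgroup of odd order of the normalizer of Q. Then Q is the central product of the centralizer of A in Q and the commutator subgroup [Q, A] (they generate Q and commute elementwise), [Q, A] is extraspecial, and the centralizer of A in Q is either the centre of Q or extraspecial. -/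
theorem result {G : Type*} [Group G] [Finite G] (Q : Subgroup G) (hQ : Cfsg.IsLargeExtraspecial Q) (A : Subgroup G) (hA : A ≤ Subgroup.normalizer (Q : Set G)) (hAodd : Odd (Nat.card ↥A)) (hA1 : A ≠ ⊥) : (Q ⊓ Subgroup.centralizer (A : Set G)) ⊔ ⁅Q, A⁆ = Q ∧ (∀ x ∈ Q ⊓ Subgroup.centralizer (A : Set G), ∀ y ∈ ⁅Q, A⁆, x * y = y * x) ∧ Cfsg.IsExtraspecial 2 ↥⁅Q, A⁆ ∧ (Q ⊓ Subgroup.centralizer (A : Set G) = ((Subgroup.center ↥Q).map Q.subtype) ∨ Cfsg.IsExtraspecial 2 ↥(Q ⊓ Subgroup.centralizer (A : Set G))) := by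
  classical
  haveI : Fact (Nat.Prime 2) := ⟨Nat.prime_two⟩
  obtain ⟨z, hz⟩ := Cfsg.Agent.LargeExtraspecial.exists_center_gen hQ.1
  have h := Cfsg.Agent.LargeExtraspecial.Setup.of_large hQ hz
  set C := Q ⊓ Subgroup.centralizer (A : Set G) with hC
  set D := ⁅Q, A⁆ with hD
  have hQp : IsPGroup 2 Q := hQ.1.1.1
  have hcop : (Nat.card A).Coprime (Nat.card Q) := by
    obtain ⟨n, hn⟩ := IsPGroup.iff_card.1 hQp
    rw [hn]
    exact (Nat.coprime_two_right.2 hAodd).pow_right n
  haveI : Group.IsNilpotent Q := hQp.isNilpotent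
  have hsolv : Group.IsSolvable A ∨ Group.IsSolvable Q := Or.inr inferInstance
  have hsup : D ⊔ C = Q := Coprime.commutator_sup_centralizer A Q hA hcop hsolv
  have hDQ : D ≤ Q := (Subgroup.le_normalizer_iff_commutator_le_left).1 hA
  have hzA : ∀ a ∈ A, Commute a z := fun a ha => by
    have hm : a * z * a⁻¹ ∈ Subgroup.zpowers z := by
      refine h.mem_zpowers_of_center ((Subgroup.mem_normalizer_iff.1 (hA ha) z).1 h.z_mem) fun y hy => ?_
      have hy' : a⁻¹ * y * a ∈ Q := by
        simpa using (Subgroup.mem_normalizer_iff.1 (inv_mem (hA ha)) y).1 hy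
      have := (h.z_commute hy').map (MulAut.conj a).toMonoidHom
      simpa [mul_assoc] using this
    rcases h.zpowers_cases hm with e | e
    · exact absurd (conj_eq_one_iff.1 e) h.z_ne_one
    · exact mul_inv_eq_iff_eq_mul.1 e
  have hzC : z ∈ C := ⟨h.z_mem, Subgroup.mem_centralizer_iff.2 fun a ha => hzA a ha⟩
  have hCQ : C ≤ Q := inf_le_left
  have hCD : ⁅D, C⁆ = ⊥ := by
    rw [hD, Subgroup.commutator_comm Q A]
    refine Subgroup.commutator_commutator_eq_bot_of_rotate ?_ ?_
    · rw [Subgroup.commutator_eq_bot_iff_le_centralizer, Subgroup.commutator_le]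
      intro x hx c hc
      rw [Subgroup.mem_centralizer_iff]
      intro a ha
      have hm : ⁅x, c⁆ ∈ Subgroup.zpowers z := by
        rw [commutatorElement_def]
        rcases h.comm_cases hx (hCQ hc) with e | e <;> rw [e]
        exacts [one_mem _, Subgroup.mem_zpowers z]
      rcases h.zpowers_cases hm with e | e <;> rw [e]
      · rw [mul_one, one_mul]
      · exact hzA a ha
    · have : ⁅C, A⁆ = ⊥ := Subgroup.commutator_eq_bot_iff_le_centralizer.2 inf_le_right
      rw [this, Subgroup.commutator_bot_left]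
  have hcomm : ∀ x ∈ C, ∀ y ∈ D, x * y = y * x := fun x hx y hy =>
    Subgroup.mem_centralizer_iff.1 (Subgroup.commutator_eq_bot_iff_le_centralizer.1
      ((Subgroup.commutator_comm C D).trans hCD) hx) y hy |>.symm
  -- central elements of either factor are central in `Q`
  have hcentral : ∀ x ∈ Q, (∀ y ∈ C, Commute x y) → (∀ y ∈ D, Commute x y) →
      x ∈ Subgroup.zpowers z := fun x hx h1 h2 => by
    refine h.mem_zpowers_of_center hx fun y hy => ?_
    have hle : Q ≤ Subgroup.centralizer ({x} : Set G) := by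
      rw [← hsup]
      exact sup_le (fun y hy => Subgroup.mem_centralizer_singleton_iff.2 (h2 y hy).eq.symm)
        fun y hy => Subgroup.mem_centralizer_singleton_iff.2 (h1 y hy).eq.symm
    exact (Subgroup.mem_centralizer_singleton_iff.1 (hle hy)).symm
  have hne : ∃ x ∈ D, ∃ y ∈ D, ¬ Commute x y := by
    by_contra hcon
    push Not at hcon
    have hDz : D ≤ Subgroup.zpowers z := fun x hx =>
      hcentral x (hDQ hx) (fun y hy => (hcomm y hy x hx).symm) (hcon x hx)
    have hDA : ⁅D, A⁆ = ⊥ := Subgroup.commutator_eq_bot_iff_le_centralizer.2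
      (hDz.trans (Subgroup.zpowers_le.2 hzC.2))
    have hD0 : D = ⊥ := (Coprime.commutator_commutator_eq A Q hA hcop hsolv).symm.trans hDA
    have hAz : A ≤ Subgroup.zpowers z :=
      h.centralizer_eq ▸ (Subgroup.commutator_eq_bot_iff_le_centralizer.1
        ((Subgroup.commutator_comm A Q).trans hD0))
    have h2 := Subgroup.card_dvd_of_le hAz
    rw [Nat.card_zpowers, h.orderOf_z] at h2
    rcases (Nat.dvd_prime Nat.prime_two).1 h2 with e | e
    · exact hA1 (Subgroup.card_eq_one.1 e)
    · rw [e] at hAodd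
      exact absurd hAodd (by decide)
  have key : ∀ X : Subgroup G, X ≤ Q → z ∈ X →
      (∀ x ∈ X, (∀ y ∈ X, Commute x y) → x ∈ Subgroup.zpowers z) →
      (∃ x ∈ X, ∃ y ∈ X, ¬ Commute x y) → Cfsg.IsExtraspecial 2 ↥X := by
    intro X hX hzX hc ⟨x, hx, y, hy, hxy⟩
    have hmem : ∀ w : X, (w : G) ∈ Subgroup.zpowers z → w ∈ Subgroup.zpowers (⟨z, hzX⟩ : X) := by
      intro w hw
      rcases h.zpowers_cases hw with e | e
      · have : w = 1 := Subtype.ext e
        rw [this]; exact one_mem _
      · have : w = ⟨z, hzX⟩ := Subtype.ext e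
        rw [this]; exact Subgroup.mem_zpowers _
    refine Cfsg.Agent.LargeExtraspecial.isExtraspecial_of (c := ⟨z, hzX⟩) (hQp.to_le hX)
      (fun e => h.z_ne_one (congrArg Subtype.val e)) (Subtype.ext h.z_mul_self)
      (fun w => Subtype.ext (h.z_commute (hX w.2)).eq) (fun w hw => hmem w ?_) (fun u v => hmem _ ?_)
      (fun w => hmem _ (h.sq_mem (hX w.2))) ⟨⟨x, hx⟩, ⟨y, hy⟩, fun e => hxy ?_⟩
    · exact hc w w.2 fun v hv => congrArg Subtype.val (hw ⟨v, hv⟩).eq
    · show (u : G) * v * (u : G)⁻¹ * (v : G)⁻¹ ∈ _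
      rcases h.comm_cases (hX u.2) (hX v.2) with e | e <;> rw [e]
      exacts [one_mem _, Subgroup.mem_zpowers z]
    · exact congrArg Subtype.val (commutatorElement_eq_one_iff_mul_comm.1 e)
  have hzD : z ∈ D := by
    obtain ⟨x, hx, y, hy, hxy⟩ := hne
    rcases h.comm_cases (hDQ hx) (hDQ hy) with e | e
    · exact absurd (commutatorElement_eq_one_iff_mul_comm.1 e) hxy
    · rw [← e]
      exact mul_mem (mul_mem (mul_mem hx hy) (inv_mem hx)) (inv_mem hy)
  refine ⟨by rw [sup_comm]; exact hsup, hcomm, key D hDQ hzD ?_ hne, ?_⟩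
  · exact fun x hx hx' => hcentral x (hDQ hx) (fun y hy => (hcomm y hy x hx).symm) hx'
  by_cases hab : ∃ x ∈ C, ∃ y ∈ C, ¬ Commute x y
  · exact Or.inr (key C hCQ hzC (fun x hx hx' => hcentral x (hCQ hx) hx' fun y hy => hcomm x hx y hy) hab)
  · push Not at hab
    left
    rw [hz]
    exact le_antisymm (fun x hx => hcentral x (hCQ hx) (hab x hx) fun y hy => hcomm x hx y hy)
      (Subgroup.zpowers_le.2 hzC)

end Cfsg.Agent.S5434
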