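import Cfsg.Statements.S5435
import Cfsg.Agent.H40.SimpleFusion
import Cfsg.Agent.Lib.Involution.Dihedral
import Cfsg.Agent.LocalEven62.Frattini
-- import your own Cfsg.Agent.* helpers here

set_option autoImplicit false
open Cfsg

namespace Cfsg.Agent.S5435

open scoped commutatorElement in
/-- Every element of `R` has its square and its commutators in `zpowers z`. -/
theorem small_facts {L : Type*} [Group L] [Finite L] {z : L} (R : Subgroup L) (hR2 : IsPGroup 2 R)
    (hz : orderOf z = 2) (hΦ : (frattini ↥R).map R.subtype = Subgroup.zpowers z) :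
    (∀ r ∈ R, r * r = 1 ∨ r * r = z) ∧
      ∀ r ∈ R, ∀ s ∈ R, r * s * r⁻¹ = s ∨ r * s * r⁻¹ = z * s := by
  haveI : Fact (Nat.Prime 2) := ⟨Nat.prime_two⟩
  have hcases : ∀ w ∈ Subgroup.zpowers z, w = 1 ∨ w = z := by
    intro w hw
    obtain ⟨k, rfl⟩ := Subgroup.mem_zpowers_iff.1 hw
    have hzz : z * z = 1 := Involution.mul_self_of_orderOf hz
    rcases Int.even_or_odd k with ⟨m, rfl⟩ | ⟨m, rfl⟩
    · left
      rw [← two_mul, zpow_mul, zpow_two, hzz, one_zpow]
    · right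
      rw [zpow_add_one, zpow_mul, zpow_two, hzz, one_zpow, one_mul]
  refine ⟨fun r hr => ?_, fun r hr s hs => ?_⟩
  · have h1 := LocalEven62.pow_mem_frattini_map hR2 hr
    rw [hΦ, pow_two] at h1
    exact hcases _ h1
  · have h1 : ⁅r, s⁆ ∈ Subgroup.zpowers z :=
      hΦ ▸ LocalEven62.commutator_le_frattini_map hR2 (Subgroup.commutator_mem_commutator hr hs)
    have e : r * s * r⁻¹ = ⁅r, s⁆ * s := by simp [commutatorElement_def]
    rcases hcases _ h1 with h2 | h2
    · exact Or.inl (by rw [e, h2, one_mul])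
    · exact Or.inr (by rw [e, h2])

/-- A `p`-subgroup of `K` is conjugate in `K` into a Sylow subgroup lying in `K`. -/
theorem exists_conj_le {L : Type*} [Group L] [Finite L] {p : ℕ} [Fact p.Prime] (R : Sylow p L)
    (K : Subgroup L) (hRK : (R : Subgroup L) ≤ K) (H : Subgroup L) (hH : IsPGroup p H)
    (hHK : H ≤ K) : ∃ h ∈ K, ∀ x ∈ H, h * x * h⁻¹ ∈ (R : Subgroup L) := by
  obtain ⟨P, hP⟩ := (hH.comap_of_injective K.subtype Subtype.coe_injective :
    IsPGroup p (H.subgroupOf K)).exists_le_sylow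
  obtain ⟨h, hh⟩ := MulAction.exists_smul_eq K P (R.subtype hRK)
  refine ⟨h, h.2, fun x hx => ?_⟩
  have h1 : MulAut.conj h • (⟨x, hHK hx⟩ : K) ∈ ((h • P : Sylow p K) : Subgroup K) :=
    Subgroup.smul_mem_pointwise_smul _ _ _ (hP (show (⟨x, hHK hx⟩ : K) ∈ H.subgroupOf K from hx))
  rw [hh] at h1
  exact h1

/-- Let L be a finite non-abelian simple group with an involution z whose centralizer R is a Sylow 2-subgroup of L whose Frattini subgroup is the subgroup generated by z. Then R is dihedral of order 8. -/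
theorem result {L : Type*} [Group L] [Finite L] [IsSimpleGroup L] (hL : ¬ IsMulCommutative L) (z : L) (hz : orderOf z = 2) (R : Sylow 2 L) (hR : (R : Subgroup L) = Subgroup.centralizer ({z} : Set L)) (hΦ : (frattini ↥(R : Subgroup L)).map (R : Subgroup L).subtype = Subgroup.zpowers z) : Nonempty (↥(R : Subgroup L) ≃* DihedralGroup 4) := by
  classical
  haveI : Fact (Nat.Prime 2) := ⟨Nat.prime_two⟩
  have memR : ∀ x, x ∈ (R : Subgroup L) ↔ x * z = z * x := fun x => by
    rw [hR, Subgroup.mem_centralizer_singleton_iff]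
  have hzR : z ∈ (R : Subgroup L) := (memR z).2 rfl
  have hzz : z * z = 1 := Involution.mul_self_of_orderOf hz
  have hz1 : z ≠ 1 := Involution.ne_one_of_orderOf hz
  obtain ⟨hsq, hcj⟩ := small_facts (R : Subgroup L) R.isPGroup' hz hΦ
  -- no fusion among central elements of `R`
  have hburn : ∀ a ∈ (R : Subgroup L), (∀ r ∈ (R : Subgroup L), r * a = a * r) → ∀ g : L,
      g * a * g⁻¹ ∈ (R : Subgroup L) →
      (∀ r ∈ (R : Subgroup L), r * (g * a * g⁻¹) = g * a * g⁻¹ * r) → g * a * g⁻¹ = a := by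
    intro a ha hca g _ hcb
    obtain ⟨n, hn, e⟩ := Sylow.conj_eq_normalizer_conj_of_mem_centralizer R a g⁻¹
      (Subgroup.mem_centralizer_iff.2 hca) (Subgroup.mem_centralizer_iff.2 fun r hr => by rw [inv_inv]; exact hcb r hr)
    rw [inv_inv] at e
    have hnR : n ∈ (R : Subgroup L) := by
      rw [memR]
      have h1 : n * z * n⁻¹ ∈ Subgroup.zpowers z := by
        have hn' : ∀ y, y ∈ (R : Subgroup L) ↔ n * y * n⁻¹ ∈ (R : Subgroup L) :=
          Subgroup.mem_normalizer_iff.1 hn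
        let φ : ↥(R : Subgroup L) →* ↥(R : Subgroup L) :=
          (((MulAut.conj n).toMonoidHom.comp (R : Subgroup L).subtype)).codRestrict _
            fun y => (hn' y).1 y.2
        have hbij : Function.Bijective φ := ⟨fun a b hab => Subtype.ext
          ((MulAut.conj n).injective (congrArg Subtype.val hab)), fun y => ⟨⟨n⁻¹ * y * n,
            (hn' _).2 (by simp [mul_assoc])⟩, Subtype.ext (by simp [φ, mul_assoc])⟩⟩
        have hz' : (⟨z, hzR⟩ : ↥(R : Subgroup L)) ∈ frattini ↥(R : Subgroup L) := by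
          have h2 : z ∈ (frattini ↥(R : Subgroup L)).map (R : Subgroup L).subtype :=
            hΦ ▸ Subgroup.mem_zpowers z
          obtain ⟨y, hy, hye⟩ := h2
          rwa [show (⟨z, hzR⟩ : ↥(R : Subgroup L)) = y from Subtype.ext hye.symm]
        have h3 : φ ⟨z, hzR⟩ ∈ frattini ↥(R : Subgroup L) := by
          have := (frattini_characteristic (G := ↥(R : Subgroup L))).fixed (MulEquiv.ofBijective φ hbij)
          rw [← this] at hz'
          exact hz'
        exact hΦ ▸ (⟨_, h3, rfl⟩ : n * z * n⁻¹ ∈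
          (frattini ↥(R : Subgroup L)).map (R : Subgroup L).subtype)
      obtain ⟨k, hk⟩ := Subgroup.mem_zpowers_iff.1 h1
      rcases Int.even_or_odd k with ⟨m, rfl⟩ | ⟨m, rfl⟩
      · rw [← two_mul, zpow_mul, zpow_two, hzz, one_zpow] at hk
        exact absurd (conj_eq_one_iff.1 hk.symm) hz1
      · rw [zpow_add_one, zpow_mul, zpow_two, hzz, one_zpow, one_mul] at hk
        exact mul_inv_eq_iff_eq_mul.1 hk.symm
    rw [e, mul_assoc, ← hca n hnR, inv_mul_cancel_left]
  -- conjugates of `z` in `R` other than `z`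
  let Y : Set L := {y | y ∈ (R : Subgroup L) ∧ y ≠ z ∧ IsConj z y}
  have hYnc : ∀ y ∈ Y, ∃ r ∈ (R : Subgroup L), r * y * r⁻¹ = z * y := by
    rintro y ⟨hy, hne, hconj⟩
    by_contra hno
    push Not at hno
    obtain ⟨g, rfl⟩ := isConj_iff.1 hconj
    refine hne (hburn z hzR (fun r hr => (memR r).1 hr) g hy fun r hr => ?_)
    exact mul_inv_eq_iff_eq_mul.1 ((hcj r hr _ hy).resolve_right (hno r hr))
  have hY2 : ∀ y ∈ Y, y * y = 1 ∧ y ≠ 1 := by
    rintro y ⟨hy, hne, hconj⟩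
    obtain ⟨g, rfl⟩ := isConj_iff.1 hconj
    refine ⟨?_, fun e => hz1 (conj_eq_one_iff.1 e)⟩
    rw [show g * z * g⁻¹ * (g * z * g⁻¹) = g * (z * z) * g⁻¹ by group, hzz]; group
  have hctrR : ∀ r ∈ (R : Subgroup L), r * z = z * r := fun r hr => (memR r).1 hr
  -- the facts about `R` transported to a conjugate of `z`
  have htrans : ∀ g x : L, x * (g * z * g⁻¹) = g * z * g⁻¹ * x →
      g⁻¹ * x * g ∈ (R : Subgroup L) := by
    intro g x hx
    rw [memR]
    calc g⁻¹ * x * g * z = g⁻¹ * (x * (g * z * g⁻¹)) * g := by group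
      _ = g⁻¹ * (g * z * g⁻¹ * x) * g := by rw [hx]
      _ = z * (g⁻¹ * x * g) := by group
  -- the centralizer in `R` of such a conjugate is elementary, of index two
  have hT : ∀ y ∈ Y, ∀ a ∈ (R : Subgroup L), a * y = y * a → a * a = 1 ∧
      ∀ b ∈ (R : Subgroup L), b * y = y * b → a * b = b * a := by
    intro y hy a ha hay
    obtain ⟨hyR, hne, hconj⟩ := id hy
    obtain ⟨g, hg⟩ := isConj_iff.1 hconj
    have hgy : ∀ w, g⁻¹ * w * g = z → w = y := fun w hw => by
      rw [← hg, ← hw]; group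
    refine ⟨?_, fun b hb hby => ?_⟩
    · rcases hsq a ha with e | e
      · exact e
      · rcases hsq _ (htrans g a (by rw [hg]; exact hay)) with e' | e'
        · rw [show g⁻¹ * a * g * (g⁻¹ * a * g) = g⁻¹ * (a * a) * g by group] at e'
          calc a * a = g * (g⁻¹ * (a * a) * g) * g⁻¹ := by group
            _ = 1 := by rw [e']; group
        · have h5 : g⁻¹ * (a * a) * g = z := Eq.trans (by group) e'
          rw [e] at h5
          exact absurd (hgy z h5).symm hne
    · rcases hcj a ha b hb with e | e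
      · exact mul_inv_eq_iff_eq_mul.1 e
      · rcases hcj _ (htrans g a (by rw [hg]; exact hay)) _ (htrans g b (by rw [hg]; exact hby))
          with e' | e'
        · rw [show g⁻¹ * a * g * (g⁻¹ * b * g) * (g⁻¹ * a * g)⁻¹ = g⁻¹ * (a * b * a⁻¹) * g by
            group] at e'
          exact mul_inv_eq_iff_eq_mul.1 (mul_left_cancel (mul_right_cancel e'))
        · rw [show g⁻¹ * a * g * (g⁻¹ * b * g) * (g⁻¹ * a * g)⁻¹ = g⁻¹ * (a * b * a⁻¹) * g by
            group, e] at e'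
          refine absurd (hgy z ?_).symm hne
          exact mul_right_cancel (b := g⁻¹ * b * g) (e' ▸ by group)
  -- the central elements of `R`
  let Z : Subgroup L := (R : Subgroup L) ⊓ Subgroup.centralizer ((R : Subgroup L) : Set L)
  have memZ : ∀ a, a ∈ Z ↔ a ∈ (R : Subgroup L) ∧ ∀ r ∈ (R : Subgroup L), r * a = a * r :=
    fun a => ⟨fun h => ⟨h.1, Subgroup.mem_centralizer_iff.1 h.2⟩,
      fun h => ⟨h.1, Subgroup.mem_centralizer_iff.2 h.2⟩⟩
  have hZz : z ∈ Z := (memZ z).2 ⟨hzR, hctrR⟩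
  have hdec : ∀ y ∈ Y, ∀ a ∈ (R : Subgroup L), a * y = y * a → a ∈ Z ∨ a * y ∈ Z := by
    intro y hy a ha hay
    obtain ⟨r, hr, hry⟩ := hYnc y hy
    have key : ∀ c ∈ (R : Subgroup L), c * y = y * c → r * c * r⁻¹ = c → c ∈ Z := by
      intro c hc hcy hrc
      refine (memZ c).2 ⟨hc, fun s hs => ?_⟩
      rcases hcj s hs y hy.1 with e | e
      · exact ((hT y hy c hc hcy).2 s hs (mul_inv_eq_iff_eq_mul.1 e)).symm
      · have hu : r⁻¹ * s * y = y * (r⁻¹ * s) := by
          refine mul_inv_eq_iff_eq_mul.1 ?_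
          calc r⁻¹ * s * y * (r⁻¹ * s)⁻¹ = r⁻¹ * (s * y * s⁻¹) * r := by group
            _ = r⁻¹ * (r * y * r⁻¹) * r := by rw [e, hry]
            _ = y := by group
        have h1 := (hT y hy c hc hcy).2 _ (mul_mem (inv_mem hr) hs) hu
        have h2 : r * c = c * r := mul_inv_eq_iff_eq_mul.1 hrc
        calc s * c = r * ((r⁻¹ * s) * c) := by group
          _ = r * (c * (r⁻¹ * s)) := by rw [h1]
          _ = r * c * (r⁻¹ * s) := by group
          _ = c * r * (r⁻¹ * s) := by rw [h2]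
          _ = c * s := by group
    rcases hcj r hr a ha with e | e
    · exact Or.inl (key a ha hay e)
    · refine Or.inr (key _ (mul_mem ha hy.1) (by rw [← mul_assoc, ← hay]) ?_)
      calc r * (a * y) * r⁻¹ = r * a * r⁻¹ * (r * y * r⁻¹) := by group
        _ = z * a * (z * y) := by rw [e, hry]
        _ = z * (a * z) * y := by group
        _ = a * y := by rw [hctrR a ha, ← mul_assoc, hzz, one_mul]
  -- a conjugate of `z` in `R` fuses its coset of `Z` into `Z`
  have hfuse : ∀ y ∈ Y, ∀ a ∈ Z, ∃ g c, g * (a * y) * g⁻¹ = c ∧ c ∈ Z ∧ (c = a ∨ c = a * z) := by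
    intro y hy a ha
    obtain ⟨hyR, hne, hconj⟩ := id hy
    obtain ⟨g, hg⟩ := isConj_iff.1 hconj
    obtain ⟨r0, hr0, hr0y⟩ := hYnc y hy
    obtain ⟨r, hr, hrn⟩ : ∃ r ∈ (R : Subgroup L), g * r * g⁻¹ ∉ (R : Subgroup L) := by
      by_contra hno
      push Not at hno
      have hle : (R : Subgroup L).map (MulAut.conj g).toMonoidHom ≤ (R : Subgroup L) := by
        rintro _ ⟨w, hw, rfl⟩
        exact hno w hw
      have heq := Subgroup.eq_of_le_of_card_ge hle
        (Subgroup.card_map_of_injective (MulAut.conj g).injective).ge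
      obtain ⟨w, hw, hwe⟩ : r0 ∈ (R : Subgroup L).map (MulAut.conj g).toMonoidHom := heq.symm ▸ hr0
      refine hne ?_
      have h1 : r0 * y = y * r0 := by
        rw [← hg, ← hwe]
        show g * w * g⁻¹ * (g * z * g⁻¹) = g * z * g⁻¹ * (g * w * g⁻¹)
        calc g * w * g⁻¹ * (g * z * g⁻¹) = g * (w * z) * g⁻¹ := by group
          _ = g * (z * w) * g⁻¹ := by rw [hctrR w hw]
          _ = _ := by group
      rw [mul_inv_eq_iff_eq_mul, h1] at hr0y
      exact absurd (mul_eq_right.1 (mul_right_cancel hr0y).symm) hz1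
    set t := g * r * g⁻¹ with htdef
    have hty : t * y * t⁻¹ = y := by
      rw [htdef, ← hg]
      calc g * r * g⁻¹ * (g * z * g⁻¹) * (g * r * g⁻¹)⁻¹ = g * (r * z * r⁻¹) * g⁻¹ := by group
        _ = g * z * g⁻¹ := by rw [hctrR r hr]; group
    have hsplit : ∀ x ∈ (R : Subgroup L), x * y = y * x →
        t * x * t⁻¹ = x ∨ t * x * t⁻¹ = y * x := by
      intro x _ hxy
      rcases hcj r hr _ (htrans g x (by rw [hg]; exact hxy)) with e | e
      · left
        calc t * x * t⁻¹ = g * (r * (g⁻¹ * x * g) * r⁻¹) * g⁻¹ := by rw [htdef]; group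
          _ = x := by rw [e]; group
      · right
        calc t * x * t⁻¹ = g * (r * (g⁻¹ * x * g) * r⁻¹) * g⁻¹ := by rw [htdef]; group
          _ = g * z * g⁻¹ * x := by rw [e]; group
          _ = y * x := by rw [hg]
    have htz : t * z * t⁻¹ = y * z := (hsplit z hzR (hctrR y hyR).symm).resolve_left fun e =>
      hrn ((memR t).2 (mul_inv_eq_iff_eq_mul.1 e))
    have hay : a * y = y * a := ((memZ a).1 ha).2 y hyR |>.symm
    rcases hsplit a ((memZ a).1 ha).1 hay with e | e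
    · refine ⟨t * r0, a * z, ?_, mul_mem ha hZz, Or.inr rfl⟩
      have hra : r0 * a * r0⁻¹ = a := by
        rw [((memZ a).1 ha).2 r0 hr0]; group
      calc t * r0 * (a * y) * (t * r0)⁻¹
          = t * ((r0 * a * r0⁻¹) * (r0 * y * r0⁻¹)) * t⁻¹ := by group
        _ = t * (a * (z * y)) * t⁻¹ := by rw [hra, hr0y]
        _ = t * a * t⁻¹ * (t * z * t⁻¹) * (t * y * t⁻¹) := by group
        _ = a * (y * z) * y := by rw [e, htz, hty]
        _ = a * z * (y * y) := by rw [← hctrR y hyR |>.symm]; group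
        _ = a * z := by rw [(hY2 y hy).1, mul_one]
    · refine ⟨t⁻¹, a, ?_, ha, Or.inl rfl⟩
      rw [inv_inv, hay, ← e]; group
  -- there is such a conjugate
  obtain ⟨y, hy⟩ : ∃ y, y ∈ Y := by
    obtain ⟨g, hg, hne⟩ := H40.exists_fusion hL R hz hzR
    exact ⟨_, hg, hne, isConj_iff.2 ⟨g, rfl⟩⟩
  obtain ⟨r, hr, hry⟩ := hYnc y hy
  have hnot : ∀ x, x * y * x⁻¹ = z * y → x * y ≠ y * x := fun x e h => by
    rw [mul_inv_eq_iff_eq_mul.2 h] at e
    exact hz1 (mul_eq_right.1 e.symm)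
  obtain ⟨u, huR, huu, huy⟩ : ∃ u ∈ (R : Subgroup L), u * u = 1 ∧ u * y * u⁻¹ = z * y := by
    rcases hsq r hr with e | e
    · exact ⟨r, hr, e, hry⟩
    · refine ⟨r * y, mul_mem hr hy.1, ?_, by rw [← hry]; group⟩
      calc r * y * (r * y) = r * y * r⁻¹ * (r * r) * y := by group
        _ = z * (y * z) * y := by rw [hry, e]; group
        _ = (z * z) * (y * y) := by rw [hctrR y hy.1]; group
        _ = 1 := by rw [hzz, (hY2 y hy).1, one_mul]
  have hu2 : orderOf u = 2 := orderOf_eq_prime (by rw [pow_two, huu]) fun e => by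
    rw [e] at huy; simp at huy; exact hz1 huy
  have hBi : ((Subgroup.centralizer ({y} : Set L)).subgroupOf (R : Subgroup L)).index = 2 := by
    rw [Subgroup.index_eq_two_iff]
    refine ⟨⟨u, huR⟩, fun b => ?_⟩
    simp only [Subgroup.mem_subgroupOf, Subgroup.mem_centralizer_singleton_iff, Subgroup.coe_mul]
    rcases hcj b b.2 y hy.1 with e | e
    · refine Or.inr ⟨mul_inv_eq_iff_eq_mul.1 e, hnot _ ?_⟩
      rw [show (b : L) * u * y * ((b : L) * u)⁻¹ = b * (u * y * u⁻¹) * (b : L)⁻¹ by group, huy,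
        show (b : L) * (z * y) * (b : L)⁻¹ = (b * z * (b : L)⁻¹) * (b * y * (b : L)⁻¹) by group, e,
        hctrR b b.2]
      group
    · refine Or.inl ⟨?_, hnot _ e⟩
      refine mul_inv_eq_iff_eq_mul.1 ?_
      rw [show (b : L) * u * y * ((b : L) * u)⁻¹ = b * (u * y * u⁻¹) * (b : L)⁻¹ by group, huy,
        show (b : L) * (z * y) * (b : L)⁻¹ = (b * z * (b : L)⁻¹) * (b * y * (b : L)⁻¹) by group, e,
        hctrR b b.2, mul_inv_cancel_right, ← mul_assoc, hzz, one_mul]
  obtain ⟨g, hgR, hgB⟩ := H40.exists_conj_mem hL R _ hBi hu2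
  have hgB' : g * u * g⁻¹ * y = y * (g * u * g⁻¹) :=
    Subgroup.mem_centralizer_singleton_iff.1 hgB
  obtain ⟨k, c, hkc, hcZ⟩ : ∃ k c, k * c * k⁻¹ = u ∧ c ∈ Z := by
    rcases hdec y hy _ hgR hgB' with h | h
    · exact ⟨g⁻¹, _, by group, h⟩
    · obtain ⟨g', c, hc, hcZ, -⟩ := hfuse y hy _ h
      rw [mul_assoc _ y y, (hY2 y hy).1, mul_one] at hc
      exact ⟨(g' * g)⁻¹, c, by rw [← hc]; group, hcZ⟩
  obtain ⟨m, hmc, hm⟩ : ∃ m, m * c * m⁻¹ = u ∧
      ∀ x ∈ (R : Subgroup L), x * u = u * x → m⁻¹ * x * m ∈ (R : Subgroup L) := by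
    obtain ⟨h, hh, hh'⟩ := exists_conj_le R (Subgroup.centralizer ({c} : Set L))
      (fun x hx => Subgroup.mem_centralizer_singleton_iff.2 (((memZ c).1 hcZ).2 x hx))
      (((R : Subgroup L) ⊓ Subgroup.centralizer ({u} : Set L)).map (MulAut.conj k⁻¹).toMonoidHom)
      ((R.isPGroup'.to_le inf_le_left).map _) (by
        rintro _ ⟨x, ⟨-, hx⟩, rfl⟩
        rw [Subgroup.mem_centralizer_singleton_iff]
        have hxu : x * u = u * x := Subgroup.mem_centralizer_singleton_iff.1 hx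
        show k⁻¹ * x * k⁻¹⁻¹ * c = c * (k⁻¹ * x * k⁻¹⁻¹)
        rw [← hkc] at hxu
        calc k⁻¹ * x * k⁻¹⁻¹ * c = k⁻¹ * (x * (k * c * k⁻¹)) * k := by group
          _ = k⁻¹ * (k * c * k⁻¹ * x) * k := by rw [hxu]
          _ = _ := by group)
    refine ⟨k * h⁻¹, ?_, fun x hx hxu => ?_⟩
    · have h1 : h * c = c * h := Subgroup.mem_centralizer_singleton_iff.1 hh
      calc k * h⁻¹ * c * (k * h⁻¹)⁻¹ = k * (h⁻¹ * (c * h)) * k⁻¹ := by group
        _ = u := by rw [← h1, inv_mul_cancel_left, hkc]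
    · have h1 := hh' _ ⟨x, ⟨hx, Subgroup.mem_centralizer_singleton_iff.2 hxu⟩, rfl⟩
      have h2 : h * (k⁻¹ * x * k⁻¹⁻¹) * h⁻¹ ∈ (R : Subgroup L) := h1
      rw [show (k * h⁻¹)⁻¹ * x * (k * h⁻¹) = h * (k⁻¹ * x * k⁻¹⁻¹) * h⁻¹ by group]
      exact h2
  set y' := m * z * m⁻¹ with hy'
  have hcom : ∀ x ∈ (R : Subgroup L), x * u = u * x → x * y' = y' * x := by
    intro x hx hxu
    have h1 := hctrR _ (hm x hx hxu)
    calc x * y' = m * (m⁻¹ * x * m * z) * m⁻¹ := by rw [hy']; group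
      _ = m * (z * (m⁻¹ * x * m)) * m⁻¹ := by rw [h1]
      _ = y' * x := by rw [hy']; group
  have hy'Y : y' ∈ Y := by
    refine ⟨(memR _).2 (hcom z hzR (hctrR u huR).symm).symm, fun e => ?_, isConj_iff.2 ⟨m, rfl⟩⟩
    have hmR : m ∈ (R : Subgroup L) := (memR m).2 (mul_inv_eq_iff_eq_mul.1 e)
    have : u = c := by rw [← hmc, ((memZ c).1 hcZ).2 m hmR]; group
    exact hnot u huy (((memZ u).1 (this ▸ hcZ)).2 y hy.1).symm
  have hyy' : y' * y * y'⁻¹ = z * y := (hcj y' hy'Y.1 y hy.1).resolve_left fun e =>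
    hnot u huy ((hT y' hy'Y u huR (hcom u huR rfl)).2 y hy.1 (mul_inv_eq_iff_eq_mul.1 e).symm)
  have hy'i : y'⁻¹ = y' := inv_eq_of_mul_eq_one_left (hY2 y' hy'Y).1
  -- the four cosets of `Z`
  have hfour : ∀ s ∈ (R : Subgroup L), ∃ a ∈ Z,
      s = a ∨ s = a * y ∨ s = a * y' ∨ s = a * (y * y') := by
    intro s hs
    have yy := (hY2 y hy).1
    have yy' := (hY2 y' hy'Y).1
    rcases hcj s hs y hy.1 with e | e
    · rcases hdec y hy s hs (mul_inv_eq_iff_eq_mul.1 e) with h | h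
      · exact ⟨s, h, Or.inl rfl⟩
      · exact ⟨_, h, Or.inr (Or.inl (by rw [mul_assoc, yy, mul_one]))⟩
    · have hsy : s * y' * y = y * (s * y') := by
        refine mul_inv_eq_iff_eq_mul.1 ?_
        rw [show s * y' * y * (s * y')⁻¹ = s * (y' * y * y'⁻¹) * s⁻¹ by group, hyy',
          show s * (z * y) * s⁻¹ = (s * z * s⁻¹) * (s * y * s⁻¹) by group, e, hctrR s hs,
          mul_inv_cancel_right, ← mul_assoc, hzz, one_mul]
      rcases hdec y hy _ (mul_mem hs hy'Y.1) hsy with h | h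
      · exact ⟨_, h, Or.inr (Or.inr (Or.inl (by rw [mul_assoc, yy', mul_one])))⟩
      · refine ⟨_, h, Or.inr (Or.inr (Or.inr ?_))⟩
        rw [show s * y' * y * (y * y') = s * y' * (y * y) * y' by group, yy, mul_one, mul_assoc, yy',
          mul_one]
  have hord : orderOf (y * y') = 4 := by
    have h1 : y * y' * (y * y') = z := by
      calc y * y' * (y * y') = y * (y' * y * y'⁻¹) := by rw [hy'i]; group
        _ = z * (y * y) := by rw [hyy', ← mul_assoc, hctrR y hy.1, mul_assoc]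
        _ = z := by rw [(hY2 y hy).1, mul_one]
    have h2 := orderOf_eq_prime_pow (p := 2) (n := 1) (x := y * y')
      (by rw [show (2 : ℕ) ^ 1 = 2 from rfl, pow_two, h1]; exact hz1)
      (by rw [show (2 : ℕ) ^ (1 + 1) = 2 * 2 from rfl, pow_mul, pow_two (y * y'), h1, pow_two, hzz])
    rw [h2]; rfl
  by_cases htop : Subgroup.closure ({y, y'} : Set L) = (R : Subgroup L)
  · obtain ⟨e⟩ := Involution.closure_pair_equiv_dihedral
      (orderOf_eq_prime (by rw [pow_two, (hY2 y hy).1]) (hY2 y hy).2)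
      (orderOf_eq_prime (by rw [pow_two, (hY2 y' hy'Y).1]) (hY2 y' hy'Y).2)
    rw [htop, hord] at e
    exact ⟨e⟩
  exfalso
  have hDR : Subgroup.closure ({y, y'} : Set L) ≤ (R : Subgroup L) := by
    rw [Subgroup.closure_le]
    rintro x (rfl | rfl)
    exacts [hy.1, hy'Y.1]
  obtain ⟨M, hDM, -, hMi⟩ := PGroup.exists_le_index_eq_prime (p := 2) R.isPGroup'
    (H := (Subgroup.closure ({y, y'} : Set L)).subgroupOf (R : Subgroup L))
    fun h => htop (le_antisymm hDR (Subgroup.subgroupOf_eq_top.1 h))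
  have hyM : (⟨y, hy.1⟩ : ↥(R : Subgroup L)) ∈ M := hDM (Subgroup.subset_closure (Or.inl rfl))
  have hy'M : (⟨y', hy'Y.1⟩ : ↥(R : Subgroup L)) ∈ M :=
    hDM (Subgroup.subset_closure (Or.inr rfl))
  have hzM : (⟨z, hzR⟩ : ↥(R : Subgroup L)) ∈ M := by
    have h : (⟨y', hy'Y.1⟩ : ↥(R : Subgroup L)) * ⟨y, hy.1⟩ * (⟨y', hy'Y.1⟩)⁻¹ * (⟨y, hy.1⟩)⁻¹ ∈ M :=
      mul_mem (mul_mem (mul_mem hy'M hyM) (inv_mem hy'M)) (inv_mem hyM)
    convert h using 1
    exact Subtype.ext (by push_cast; rw [hyy', mul_inv_cancel_right])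
  obtain ⟨w, hwR, hwZ, hwM⟩ : ∃ w, ∃ h : w ∈ (R : Subgroup L), w ∈ Z ∧
      (⟨w, h⟩ : ↥(R : Subgroup L)) ∉ M := by
    by_contra hno
    push Not at hno
    have : M = ⊤ := by
      refine (Subgroup.eq_top_iff' M).2 fun s => ?_
      obtain ⟨a, ha, h⟩ := hfour s s.2
      have haM := hno a ((memZ a).1 ha).1 ha
      rcases h with e | e | e | e
      · convert haM using 1; exact Subtype.ext e
      · convert mul_mem haM hyM using 1; exact Subtype.ext e
      · convert mul_mem haM hy'M using 1; exact Subtype.ext e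
      · convert mul_mem haM (mul_mem hyM hy'M) using 1; exact Subtype.ext e
    rw [this, Subgroup.index_top] at hMi
    omega
  have hw2 : orderOf w = 2 := orderOf_eq_prime
    (by rw [pow_two, (hT y hy w hwR (((memZ w).1 hwZ).2 y hy.1).symm).1])
    fun e => hwM (by convert one_mem M using 1; exact Subtype.ext e)
  obtain ⟨g, hvR, hvM⟩ := H40.exists_conj_mem hL R M hMi hw2
  obtain ⟨a, ha, h⟩ := hfour _ hvR
  have hwc := ((memZ w).1 hwZ).2
  have fin : ∀ c ∈ Z, ∀ g', g' * w * g'⁻¹ = c → c = w := fun c hc g' e => by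
    rw [← e]
    exact hburn w hwR hwc g' (e ▸ ((memZ c).1 hc).1) (e ▸ ((memZ c).1 hc).2)
  have fin2 : ∀ x ∈ Y, ∀ hx : x ∈ (R : Subgroup L), (⟨x, hx⟩ : ↥(R : Subgroup L)) ∈ M →
      g * w * g⁻¹ ≠ a * x := by
    intro x hxY hx hxM e
    obtain ⟨g', c, hc, hcZ, hca⟩ := hfuse x hxY a ha
    have hcw : c = w := fin c hcZ (g' * g) (by rw [← hc, ← e]; group)
    have haM : (⟨a, ((memZ a).1 ha).1⟩ : ↥(R : Subgroup L)) ∈ M := by
      convert mul_mem hvM (inv_mem hxM) using 1
      exact Subtype.ext (by push_cast; rw [e, mul_inv_cancel_right])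
    apply hwM
    rcases hca with e' | e'
    · convert haM using 1; exact Subtype.ext (hcw.symm.trans e')
    · convert mul_mem haM hzM using 1; exact Subtype.ext (hcw.symm.trans e')
  rcases h with e | e | e | e
  · have := fin _ ha g e
    apply hwM
    convert hvM using 1
    exact Subtype.ext (e.trans this).symm
  · exact fin2 y hy hy.1 hyM e
  · exact fin2 y' hy'Y hy'Y.1 hy'M e
  · have hww : g * w * g⁻¹ * (g * w * g⁻¹) = 1 := by
      rw [show g * w * g⁻¹ * (g * w * g⁻¹) = g * (w * w) * g⁻¹ by group,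
        Involution.mul_self_of_orderOf hw2]; group
    have hac : Commute a (y * y') :=
      (((memZ a).1 ha).2 _ (mul_mem hy.1 hy'Y.1)).symm
    have haa : a ^ 2 = 1 := by
      rw [pow_two]; exact (hT y hy a ((memZ a).1 ha).1 (((memZ a).1 ha).2 y hy.1).symm).1
    rw [e, ← pow_two, hac.mul_pow, haa, one_mul] at hww
    have := Nat.le_of_dvd two_pos (hord ▸ orderOf_dvd_of_pow_eq_one hww)
    omega

end Cfsg.Agent.S5435
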