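import Cfsg.Statements.S5436
import Cfsg.Agent.Lib.LargeExtraspecial.SectionApply
import Cfsg.Agent.Lib.LargeExtraspecial.Statements
import Cfsg.Agent.Lib.LargeExtraspecial.Pullback
-- import your own Cfsg.Agent.* helpers here

set_option autoImplicit false
open Cfsg

namespace Cfsg.Agent.S5436

/-- Let z be an involution of the finite group G with centralizer H whose generalized Fitting subgroup Q is extraspecial of width at least 2 (order 2^(2w+1), w ≥ 2); suppose some conjugate of z other than z lies in Q, H/Q is a non-abelian simple group, H acts irreducibly by conjugation on Q modulo the subgroup generated by z (the only H-invariant subgroups of Q containing z are that subgroup and Q), and Q is not the subgroup generated by the conjugates of z lying in H. Then G is simple. -/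
theorem result {G : Type*} [Group G] [Finite G] (z : G) (hz : orderOf z = 2) (Q : Subgroup (Subgroup.centralizer ({z} : Set G))) [Q.Normal] (hF : Cfsg.generalizedFittingSubgroup ↥(Subgroup.centralizer ({z} : Set G)) = Q) (hQ : Cfsg.IsExtraspecial 2 ↥Q) (w : ℕ) (hw : 2 ≤ w) (hcard : Nat.card ↥Q = 2 ^ (2 * w + 1)) (hnwc : ∃ g : G, (∃ hq : g * z * g⁻¹ ∈ Subgroup.centralizer ({z} : Set G), (⟨g * z * g⁻¹, hq⟩ : Subgroup.centralizer ({z} : Set G)) ∈ Q) ∧ g * z * g⁻¹ ≠ z) (hsimp : IsSimpleGroup (↥(Subgroup.centralizer ({z} : Set G)) ⧸ Q)) (hna : ¬ IsMulCommutative (↥(Subgroup.centralizer ({z} : Set G)) ⧸ Q)) (hirr : ∀ W : Subgroup (Subgroup.centralizer ({z} : Set G)), W.Normal → W ≤ Q → (W = Q ∨ ∀ x ∈ W, (x : G) ∈ Subgroup.zpowers z)) (hwcl : Subgroup.closure {x : Subgroup.centralizer ({z} : Set G) | IsConj z (x : G)} ≠ Q) : IsSimpleGroup G := by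
  haveI : Fact (Nat.Prime 2) := ⟨Nat.prime_two⟩
  set Q' : Subgroup G := Q.map (Subgroup.centralizer ({z} : Set G)).subtype with hQ'
  let e : ↥Q ≃* ↥Q' := Q.equivMapOfInjective (Subgroup.centralizer ({z} : Set G)).subtype Subtype.coe_injective
  have hQ'le : Q' ≤ (Subgroup.centralizer ({z} : Set G)) := Subgroup.map_subtype_le Q
  have hcard' : Nat.card ↥Q' = 2 ^ (2 * w + 1) := by rw [← Nat.card_congr e.toEquiv, hcard]
  have h := Cfsg.Agent.LargeExtraspecial.setup_of_centralizer (z := z) (Q := Q') hz hQ'le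
    (by rw [hQ', hF]) (Cfsg.Agent.LargeExtraspecial.isExtraspecial_equiv e hQ)
  obtain ⟨g, ⟨hgC, hgQ⟩, hgne⟩ := hnwc
  have hgQ' : g * z * g⁻¹ ∈ Q' := ⟨_, hgQ, rfl⟩
  have hlarge : Cfsg.IsLargeExtraspecial Q' :=
    (h.pair (Cfsg.Agent.LargeExtraspecial.card_le_of_width hw hcard') hgQ' hgne).large
  have hnot : ∀ W : Subgroup ↥(Subgroup.centralizer ({z} : Set G)), W.Normal → W ≤ Q → (⟨_, hgC⟩ : ↥(Subgroup.centralizer ({z} : Set G))) ∈ W → W = Q := by
    intro W hW hWQ hgW
    rcases hirr W hW hWQ with e1 | e1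
    · exact e1
    · rcases h.zpowers_cases (e1 _ hgW) with e2 | e2
      · exact absurd (conj_eq_one_iff.1 e2) h.z_ne_one
      · exact absurd e2 hgne
  refine h.isSimple hlarge fun N hN hzN => ?_
  haveI := hN
  have hgN : (⟨_, hgC⟩ : ↥(Subgroup.centralizer ({z} : Set G))) ∈ N.subgroupOf (Subgroup.centralizer ({z} : Set G)) := hN.conj_mem z hzN g
  have hQN : Q ≤ N.subgroupOf (Subgroup.centralizer ({z} : Set G)) :=
    (hnot (N.subgroupOf (Subgroup.centralizer ({z} : Set G)) ⊓ Q) inferInstance inf_le_right ⟨hgN, hgQ⟩).ge.trans inf_le_left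
  haveI := hsimp
  have hMn : ((N.subgroupOf (Subgroup.centralizer ({z} : Set G))).map (QuotientGroup.mk' Q)).Normal :=
    (inferInstance : (N.subgroupOf (Subgroup.centralizer ({z} : Set G))).Normal).map _ (QuotientGroup.mk'_surjective Q)
  rcases IsSimpleGroup.eq_bot_or_eq_top_of_normal _ hMn with e1 | e1
  · exfalso
    have hNQ : N.subgroupOf (Subgroup.centralizer ({z} : Set G)) ≤ Q := fun x hx => by
      rw [← QuotientGroup.ker_mk' Q, MonoidHom.mem_ker]
      exact Subgroup.mem_bot.1 (e1 ▸ Subgroup.mem_map_of_mem _ hx)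
    apply hwcl
    refine hnot _ ?_ ((Subgroup.closure_le _).2 fun x hx => ?_) (Subgroup.subset_closure ?_)
    · refine ⟨fun x hx c => ?_⟩
      induction hx using Subgroup.closure_induction with
      | mem x hx =>
        exact Subgroup.subset_closure (hx.trans (isConj_iff.2 ⟨(c : G), rfl⟩))
      | one => simp
      | mul a b _ _ iha ihb =>
        rw [show c * (a * b) * c⁻¹ = c * a * c⁻¹ * (c * b * c⁻¹) by group]
        exact mul_mem iha ihb
      | inv a _ iha =>
        rw [show c * a⁻¹ * c⁻¹ = (c * a * c⁻¹)⁻¹ by group]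
        exact inv_mem iha
    · obtain ⟨k, hk⟩ := isConj_iff.1 hx
      refine hNQ ?_
      show (x : G) ∈ N
      rw [← hk]
      exact hN.conj_mem z hzN k
    · exact isConj_iff.2 ⟨g, rfl⟩
  · intro c hc
    have hx := congrArg (Subgroup.comap (QuotientGroup.mk' Q)) e1
    rw [Subgroup.comap_map_eq, QuotientGroup.ker_mk', sup_eq_left.2 hQN, Subgroup.comap_top] at hx
    exact (hx ▸ Subgroup.mem_top (⟨c, hc⟩ : ↥(Subgroup.centralizer ({z} : Set G))) : (⟨c, hc⟩ : ↥(Subgroup.centralizer ({z} : Set G))) ∈ N.subgroupOf (Subgroup.centralizer ({z} : Set G)))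

end Cfsg.Agent.S5436
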