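import Cfsg.Statements.S5437
-- import your own Cfsg.Agent.* helpers here

set_option autoImplicit false
open Cfsg

namespace Cfsg.Agent.S5437

private theorem smul_coe_eq {G : Type*} [Group G] (H : Subgroup G) (x g : G) :
    x • (g : G ⧸ H) = (g : G ⧸ H) ↔ g⁻¹ * x * g ∈ H := by
  rw [MulAction.Quotient.smul_coe, eq_comm, QuotientGroup.eq, smul_eq_mul, mul_assoc]

/-- Let I be a set of involutions of the finite group G closed under conjugation, and H a subgroup of G. The following are equivalent: (1) for every member x of I lying in H, the conjugates of x lying in H form a single H-class and the centralizer of x lies in H; (2) for every g outside H, no member of I lies in both H and g H g⁻¹; (3) every member of I lying in H fixes exactly one coset in the action of G on the cosets of H. -/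
theorem result {G : Type*} [Group G] [Finite G] (I : Set G) (hI : ∀ x ∈ I, orderOf x = 2) (hIc : ∀ g : G, ∀ x ∈ I, g * x * g⁻¹ ∈ I) (H : Subgroup G) : ((∀ x ∈ I, x ∈ H → (∀ g : G, g * x * g⁻¹ ∈ H → ∃ h ∈ H, h * x * h⁻¹ = g * x * g⁻¹) ∧ Subgroup.centralizer ({x} : Set G) ≤ H) ↔ (∀ g : G, g ∉ H → ∀ x ∈ I, ¬ (x ∈ H ∧ x ∈ (H : Subgroup G).map (MulAut.conj g).toMonoidHom))) ∧ ((∀ g : G, g ∉ H → ∀ x ∈ I, ¬ (x ∈ H ∧ x ∈ (H : Subgroup G).map (MulAut.conj g).toMonoidHom)) ↔ ∀ x ∈ I, x ∈ H → ∃! c : G ⧸ H, x • c = c) := by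
  have key : ∀ g x : G, x ∈ (H : Subgroup G).map (MulAut.conj g).toMonoidHom ↔ g⁻¹ * x * g ∈ H := by
    intro g x
    rw [Subgroup.mem_map]
    constructor
    · rintro ⟨y, hy, rfl⟩
      simpa [mul_assoc] using hy
    · intro h
      exact ⟨_, h, by simp [mul_assoc]⟩
  refine ⟨⟨?_, ?_⟩, ?_, ?_⟩
  · intro h1 g hg x hx hh
    obtain ⟨hxH, hxg⟩ := hh
    rw [key] at hxg
    obtain ⟨h, hh, heq⟩ := (h1 x hx hxH).1 g⁻¹ (by simpa using hxg)
    have hc : g * h ∈ Subgroup.centralizer ({x} : Set G) := by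
      rw [Subgroup.mem_centralizer_singleton_iff]
      have e : h * x = g⁻¹ * x * g * h := by
        have := congrArg (· * h) heq
        simpa [mul_assoc] using this
      calc g * h * x = g * (h * x) := mul_assoc _ _ _
        _ = g * (g⁻¹ * x * g * h) := by rw [e]
        _ = x * (g * h) := by group
    have := (h1 x hx hxH).2 hc
    exact hg (by simpa using H.mul_mem this (H.inv_mem hh))
  · intro h2 x hx hxH
    refine ⟨fun g hgx => ⟨g, ?_, rfl⟩, fun g hg => ?_⟩
    · by_contra hg
      exact h2 g hg _ (hIc g x hx) ⟨hgx, (key _ _).2 (by simpa [mul_assoc] using hxH)⟩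
    · by_contra hgH
      rw [Subgroup.mem_centralizer_singleton_iff] at hg
      refine h2 g hgH x hx ⟨hxH, (key _ _).2 ?_⟩
      have : g⁻¹ * x * g = x := by rw [mul_assoc, ← hg, inv_mul_cancel_left]
      rwa [this]
  · intro h2 x hx hxH
    refine ⟨((1 : G) : G ⧸ H), (smul_coe_eq H x 1).2 (by simpa using hxH), fun c hc => ?_⟩
    obtain ⟨g, rfl⟩ := QuotientGroup.mk_surjective c
    rw [smul_coe_eq] at hc
    have hg : g ∈ H := by
      by_contra hg
      exact h2 g hg x hx ⟨hxH, (key _ _).2 hc⟩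
    exact QuotientGroup.eq.2 (by simpa using hg)
  · intro h3 g hg x hx hh
    obtain ⟨hxH, hxg⟩ := hh
    rw [key] at hxg
    obtain ⟨c, -, hu⟩ := h3 x hx hxH
    have e1 := hu _ ((smul_coe_eq H x g).2 hxg)
    have e2 := hu _ ((smul_coe_eq H x 1).2 (by simpa using hxH))
    exact hg (by simpa using (QuotientGroup.eq.1 (e2.trans e1.symm)))

end Cfsg.Agent.S5437
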