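import Cfsg.Statements.S5438
-- import your own Cfsg.Agent.* helpers here

set_option autoImplicit false
open Cfsg

namespace Cfsg.Agent.S5438

private theorem le_of_fix {G : Type*} [Group G] [Finite G] {z : G} {H : Subgroup G} (hzH : z ∈ H)
    (hfix : ∀ g : G, g⁻¹ * z * g ∈ H → g ∈ H) {T : Subgroup G} (hT : IsPGroup 2 T) (hzT : z ∈ T) :
    T ≤ H := by
  haveI := Fact.mk Nat.prime_two
  haveI : Group.IsNilpotent T := hT.isNilpotent
  have hnc : NormalizerCondition T := Group.normalizerCondition_of_isNilpotent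
  by_contra hle
  have hlt : H.subgroupOf T < ⊤ := lt_top_iff_ne_top.2 (by simpa [Subgroup.subgroupOf_eq_top] using hle)
  obtain ⟨t, ht, htn⟩ := SetLike.exists_of_lt (hnc _ hlt)
  apply htn
  rw [Subgroup.mem_subgroupOf]
  apply hfix
  have := (Subgroup.mem_normalizer_iff''.1 ht ⟨z, hzT⟩).1 (by simpa [Subgroup.mem_subgroupOf] using hzH)
  simpa [Subgroup.mem_subgroupOf, mul_assoc] using this

/-- Let z be a 2-central involution of the finite group G (an involution central in some Sylow 2-subgroup) and H a subgroup containing z such that the coset H is the only coset of H fixed by z (in the action of G on the cosets of H). Then H has odd index in G, and for every 2-element x of H the conjugates of x lying in H form a single H-class. -/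
theorem result {G : Type*} [Group G] [Finite G] (z : G) (hz : Cfsg.IsTwoCentralInvolution z) (H : Subgroup G) (hzH : z ∈ H) (hfix : ∀ g : G, g⁻¹ * z * g ∈ H → g ∈ H) : Odd H.index ∧ ∀ x ∈ H, (∃ k : ℕ, orderOf x = 2 ^ k) → ∀ g : G, g * x * g⁻¹ ∈ H → ∃ h ∈ H, h * x * h⁻¹ = g * x * g⁻¹ := by
  haveI := Fact.mk Nat.prime_two
  obtain ⟨hzo, P, hzP, hPc⟩ := hz
  have hPH : (P : Subgroup G) ≤ H := le_of_fix hzH hfix P.isPGroup' hzP
  refine ⟨?_, ?_⟩
  · rw [← Nat.not_even_iff_odd, even_iff_two_dvd]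
    intro h
    exact P.not_dvd_index' Subgroup.index_ne_zero_of_finite (h.trans (Subgroup.index_dvd_of_le hPH))
  · -- every 2-element of H is H-conjugate to an element centralised by z
    have key : ∀ x ∈ H, (∃ k : ℕ, orderOf x = 2 ^ k) →
        ∃ h ∈ H, Commute (h * x * h⁻¹) z := by
      intro x hx hk
      obtain ⟨k, hk⟩ := hk
      have hxp : IsPGroup 2 (Subgroup.zpowers (⟨x, hx⟩ : H)) := by
        apply IsPGroup.of_card (n := k)
        rw [Nat.card_zpowers, Subgroup.orderOf_mk, hk]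
      obtain ⟨S, hS⟩ := hxp.exists_le_sylow
      obtain ⟨h, hh⟩ := MulAction.exists_smul_eq H S (P.subtype hPH)
      refine ⟨h, h.2, (hPc _ ?_)⟩
      have hmem : h * ⟨x, hx⟩ * h⁻¹ ∈ (P.subtype hPH : Subgroup H) := by
        rw [← hh]
        exact ⟨_, hS (Subgroup.mem_zpowers _), rfl⟩
      rw [Sylow.coe_subtype, Subgroup.mem_subgroupOf] at hmem
      have h' : (h : G) * x * (h : G)⁻¹ ∈ (P : Subgroup G) := by simpa using hmem
      exact h'
    intro x hx hk g hgx
    obtain ⟨a, ha, hac⟩ := key x hx hk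
    obtain ⟨b, hb, hbc⟩ := key _ hgx (by
      obtain ⟨k, hk⟩ := hk
      exact ⟨k, by rw [← hk]; exact (MulEquiv.orderOf_eq (MulAut.conj g) x)⟩)
    set g' := b * g * a⁻¹ with hg'
    set x' := a * x * a⁻¹ with hx'
    have hy : b * (g * x * g⁻¹) * b⁻¹ = g' * x' * g'⁻¹ := by rw [hg', hx']; group
    rw [hy] at hbc
    set y' := g' * x' * g'⁻¹ with hy'
    -- a Sylow 2-subgroup of C(y') containing z
    set C := Subgroup.centralizer ({y'} : Set G) with hC
    have hzC : z ∈ C := Subgroup.mem_centralizer_singleton_iff.2 hbc.eq.symm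
    have hzC' : g' * z * g'⁻¹ ∈ C := by
      rw [hC, Subgroup.mem_centralizer_singleton_iff, hy']
      have := hac.eq
      calc g' * z * g'⁻¹ * (g' * x' * g'⁻¹) = g' * (z * x') * g'⁻¹ := by group
        _ = g' * (x' * z) * g'⁻¹ := by rw [this]
        _ = g' * x' * g'⁻¹ * (g' * z * g'⁻¹) := by group
    have hz2 : ∀ w : G, orderOf w = 2 → ∀ hw : w ∈ C, IsPGroup 2 (Subgroup.zpowers (⟨w, hw⟩ : C)) := by
      intro w hw hwC
      apply IsPGroup.of_card (n := 1)
      rw [Nat.card_zpowers, Subgroup.orderOf_mk, hw, pow_one]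
    obtain ⟨T, hT⟩ := (hz2 z hzo hzC).exists_le_sylow
    obtain ⟨T', hT'⟩ := (hz2 (g' * z * g'⁻¹) (by rw [← hzo]; exact MulEquiv.orderOf_eq (MulAut.conj g') z) hzC').exists_le_sylow
    obtain ⟨c, hc⟩ := MulAction.exists_smul_eq C T' T
    have hTH : (T : Subgroup C).map C.subtype ≤ H :=
      le_of_fix hzH hfix (T.isPGroup'.map _) ⟨⟨z, hzC⟩, hT (Subgroup.mem_zpowers _), rfl⟩
    have hmem : c * ⟨g' * z * g'⁻¹, hzC'⟩ * c⁻¹ ∈ (T : Subgroup C) := by
      rw [← hc]
      exact ⟨_, hT' (Subgroup.mem_zpowers _), rfl⟩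
    have hin : (c : G) * (g' * z * g'⁻¹) * (c : G)⁻¹ ∈ H := hTH ⟨_, hmem, by simp⟩
    have hcg : (c : G) * g' ∈ H := by
      have := hfix ((c : G) * g')⁻¹ (by simpa [mul_assoc, mul_inv_rev] using hin)
      simpa using H.inv_mem this
    refine ⟨b⁻¹ * ((c : G) * g') * a, H.mul_mem (H.mul_mem (H.inv_mem hb) hcg) ha, ?_⟩
    have hcy : (c : G) * y' * (c : G)⁻¹ = y' := by
      have := Subgroup.mem_centralizer_singleton_iff.1 c.2
      rw [this, mul_inv_cancel_right]
    calc b⁻¹ * ((c : G) * g') * a * x * (b⁻¹ * ((c : G) * g') * a)⁻¹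
        = b⁻¹ * ((c : G) * y' * (c : G)⁻¹) * b := by rw [hy', hx']; group
      _ = b⁻¹ * y' * b := by rw [hcy]
      _ = g * x * g⁻¹ := by rw [← hy]; group

end Cfsg.Agent.S5438
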