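import Cfsg.Statements.S5439
-- import your own Cfsg.Agent.* helpers here

set_option autoImplicit false
open Cfsg

namespace Cfsg.Agent.S5439

private theorem smul_coe_eq {G : Type*} [Group G] (H : Subgroup G) (x g : G) :
    x • (g : G ⧸ H) = (g : G ⧸ H) ↔ g⁻¹ * x * g ∈ H := by
  rw [MulAction.Quotient.smul_coe, eq_comm, QuotientGroup.eq, smul_eq_mul, mul_assoc]

/-- Let I and J be two different conjugacy classes of involutions of the finite group G and H a subgroup such that every member of I ∪ J fixes exactly one coset in the action on the cosets of H, and such that for every a in I ∩ H and every b in (I ∪ J) ∩ H different from a and commuting with it, the centralizer of a b lies in H. Then H = G. -/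
theorem result {G : Type*} [Group G] [Finite G] (I J : Set G) (a₀ b₀ : G) (ha₀ : orderOf a₀ = 2) (hb₀ : orderOf b₀ = 2) (hI : I = {x | IsConj a₀ x}) (hJ : J = {x | IsConj b₀ x}) (hIJ : I ≠ J) (H : Subgroup G) (hfix : ∀ x ∈ I ∪ J, ∃! c : G ⧸ H, x • c = c) (hcent : ∀ a ∈ I, a ∈ H → ∀ b ∈ I ∪ J, b ∈ H → a ≠ b → a * b = b * a → Subgroup.centralizer ({a * b} : Set G) ≤ H) : H = ⊤ := by
  by_contra hH
  obtain ⟨g, hg⟩ := SetLike.exists_of_lt (lt_top_iff_ne_top.2 hH)
  obtain ⟨-, hg⟩ := hg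
  -- a ∈ I fixes H, b ∈ J fixes gH
  have hconj : ∀ (w₀ : G) (W : Set G), W = {x | IsConj w₀ x} → (∀ x ∈ W, ∃! c : G ⧸ H, x • c = c) →
      ∀ k : G, ∃ x ∈ W, k⁻¹ * x * k ∈ H := by
    intro w₀ W hW hf k
    have hm : w₀ ∈ W := by rw [hW]; exact IsConj.refl w₀
    obtain ⟨c, hc, -⟩ := hf w₀ hm
    obtain ⟨m, rfl⟩ := QuotientGroup.mk_surjective c
    rw [smul_coe_eq] at hc
    refine ⟨(k * m⁻¹) * w₀ * (k * m⁻¹)⁻¹, ?_, by simpa [mul_assoc] using hc⟩
    rw [hW]; exact isConj_iff.2 ⟨_, rfl⟩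
  obtain ⟨a, ha, haH⟩ := hconj a₀ I hI (fun x hx => hfix x (Or.inl hx)) 1
  obtain ⟨b, hb, hbg⟩ := hconj b₀ J hJ (fun x hx => hfix x (Or.inr hx)) g
  simp only [inv_one, one_mul, mul_one] at haH
  have ha2 : orderOf a = 2 := by
    rw [hI] at ha
    obtain ⟨m, rfl⟩ := isConj_iff.1 ha
    rw [← ha₀]; exact MulEquiv.orderOf_eq (MulAut.conj m) a₀
  have hb2 : orderOf b = 2 := by
    rw [hJ] at hb
    obtain ⟨m, rfl⟩ := isConj_iff.1 hb
    rw [← hb₀]; exact MulEquiv.orderOf_eq (MulAut.conj m) b₀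
  have haa : a * a = 1 := by rw [← pow_two, ← ha2]; exact pow_orderOf_eq_one a
  have hbb : b * b = 1 := by rw [← pow_two, ← hb2]; exact pow_orderOf_eq_one b
  have hai : a⁻¹ = a := inv_eq_of_mul_eq_one_right haa
  have hbi : b⁻¹ = b := inv_eq_of_mul_eq_one_right hbb
  set r := a * b with hr
  have har : a * r * a⁻¹ = r⁻¹ := by
    rw [hr, mul_inv_rev, hai, hbi]; simp [← mul_assoc, haa]
  have hbr : b * r * b⁻¹ = r⁻¹ := by
    rw [hr, mul_inv_rev, hai, hbi, mul_assoc, mul_assoc, hbb, mul_one]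
  -- r has even order
  have hnotconj : ¬ IsConj a b := by
    intro h
    apply hIJ
    rw [hI, hJ] at *
    have h0 : IsConj a₀ b₀ := ha.trans (h.trans hb.symm)
    ext x
    exact ⟨fun hx => h0.symm.trans hx, fun hx => h0.trans hx⟩
  have hpow : ∀ k : ℕ, r ^ k * a * (r ^ k)⁻¹ = r ^ (2 * k) * a := by
    intro k
    have : a * (r ^ k)⁻¹ = r ^ k * a := by
      have h1 : a * r ^ k * a⁻¹ = (r ^ k)⁻¹ := by rw [← conj_pow, har, inv_pow]
      rw [← h1]; simp [mul_assoc, hai, ← mul_assoc a a, haa]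
    rw [mul_assoc, this, two_mul, pow_add, mul_assoc]
  obtain ⟨m, hm⟩ : Even (orderOf r) := by
    by_contra hodd
    obtain ⟨k, hk⟩ := Nat.not_even_iff_odd.1 hodd
    refine hnotconj (isConj_iff.2 ⟨r ^ k, ?_⟩)
    have e : r * r ^ (2 * k) = 1 := by rw [← pow_succ', ← hk]; exact pow_orderOf_eq_one r
    rw [hpow, ← inv_eq_of_mul_eq_one_right e, hr, mul_inv_rev, hai, hbi, mul_assoc, haa, mul_one]
  have hm0 : 0 < m := by
    have := orderOf_pos r
    omega
  set u := r ^ m with hu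
  have huu : u * u = 1 := by rw [hu, ← pow_add, ← hm]; exact pow_orderOf_eq_one r
  have hu1 : u ≠ 1 := pow_ne_one_of_lt_orderOf hm0.ne' (by omega)
  have hua : a * u = u * a := by
    have h1 : a * u * a⁻¹ = u⁻¹ := by rw [hu, ← conj_pow, har, inv_pow]
    rw [inv_eq_of_mul_eq_one_right huu] at h1
    exact mul_inv_eq_iff_eq_mul.1 h1
  have hub : b * u = u * b := by
    have h1 : b * u * b⁻¹ = u⁻¹ := by rw [hu, ← conj_pow, hbr, inv_pow]
    rw [inv_eq_of_mul_eq_one_right huu] at h1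
    exact mul_inv_eq_iff_eq_mul.1 h1
  have huH : u ∈ H := by
    obtain ⟨c, -, hc⟩ := hfix a (Or.inl ha)
    have e1 := hc _ ((smul_coe_eq H a 1).2 (by simpa using haH))
    have e2 := hc (u : G ⧸ H) ((smul_coe_eq H a u).2 (by rw [mul_assoc, hua, inv_mul_cancel_left]; exact haH))
    simpa using QuotientGroup.eq.1 (e1.trans e2.symm)
  have hau : a * u ∈ I ∪ J := by
    rcases Nat.even_or_odd m with ⟨k, hk⟩ | ⟨k, hk⟩
    · left
      rw [hI] at ha ⊢
      refine ha.trans (isConj_iff.2 ⟨r ^ k, ?_⟩)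
      rw [hpow, two_mul, ← hk, hua]
    · right
      rw [hJ] at hb ⊢
      refine hb.trans (isConj_iff.2 ⟨(r ^ k)⁻¹, ?_⟩)
      have h1 : b * r ^ k * b⁻¹ = (r ^ k)⁻¹ := by rw [← conj_pow, hbr, inv_pow]
      rw [inv_inv, ← h1, hu, hk, pow_succ']
      have e : a * r = b := by rw [hr, ← mul_assoc, haa, one_mul]
      calc b * r ^ k * b⁻¹ * b * r ^ k = b * (r ^ k * r ^ k) := by group
        _ = b * r ^ (2 * k) := by rw [← pow_add, two_mul]
        _ = a * (r * r ^ (2 * k)) := by rw [← mul_assoc a r, e]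
  have hbu : b ∈ Subgroup.centralizer ({a * (a * u)} : Set G) := by
    rw [Subgroup.mem_centralizer_singleton_iff, ← mul_assoc a a u, haa, one_mul]; exact hub
  have hbH : b ∈ H := by
    refine hcent a ha haH (a * u) hau (H.mul_mem haH huH) ?_ ?_ hbu
    · exact fun h => hu1 (mul_left_cancel (h.symm.trans (mul_one a).symm))
    · rw [mul_assoc, ← hua]
  obtain ⟨c, -, hc⟩ := hfix b (Or.inr hb)
  have e1 := hc _ ((smul_coe_eq H b 1).2 (by simpa using hbH))
  have e2 := hc _ ((smul_coe_eq H b g).2 hbg)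
  exact hg (by simpa using QuotientGroup.eq.1 (e1.trans e2.symm))

end Cfsg.Agent.S5439
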