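import Cfsg.Statements.S5440
import Cfsg.Agent.LFType23.Involutions

set_option autoImplicit false
open Cfsg Cfsg.Agent.LFType23

namespace Cfsg.Agent.S5440

/-- Let G be a finite group of large Fischer type at the involution z: the generalized Fitting subgroup Q of H = C_G(z) is extraspecial of order 2^13, H has normal subgroups Q ≤ H₁ ≤ H₂ with H₁/Q of order 3, H₂/H₁ the projective special unitary group of dimension 4 over the field with nine elements and H₂ of index 2 in H, and some conjugate of z other than z lies in Q. Then H has exactly two orbits, under conjugation, on the involutions of Q other than z. -/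
theorem result {G : Type*} [Group G] [Finite G] (z : G) (Q : Subgroup (Subgroup.centralizer ({z} : Set G))) [Q.Normal] (hF : Cfsg.IsOfLargeFischerTypeAt z Q) : ∃ s t : Subgroup.centralizer ({z} : Set G), s ∈ Q ∧ t ∈ Q ∧ orderOf s = 2 ∧ orderOf t = 2 ∧ (s : G) ≠ z ∧ (t : G) ≠ z ∧ (¬ ∃ h : Subgroup.centralizer ({z} : Set G), h * s * h⁻¹ = t) ∧ ∀ x : Subgroup.centralizer ({z} : Set G), x ∈ Q → orderOf x = 2 → (x : G) ≠ z → (∃ h : Subgroup.centralizer ({z} : Set G), h * s * h⁻¹ = x) ∨ ∃ h : Subgroup.centralizer ({z} : Set G), h * t * h⁻¹ = x := by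
  classical
  obtain ⟨F⟩ := exists_frame z Q hF
  obtain ⟨γ, hγ⟩ := F.exists_classes
  obtain ⟨a, ha, hav⟩ := F.mu_surj (Frame.rep 0)
  obtain ⟨b, hb, hbv⟩ := F.mu_surj (Frame.rep 1)
  obtain ⟨a', ha', rfl⟩ := ha
  obtain ⟨b', hb', rfl⟩ := hb
  have hmem : ∀ {x : (Subgroup.centralizer ({z} : Set G))}, x ∈ Q → (x : G) ∈ Q.map (Subgroup.centralizer ({z} : Set G)).subtype := fun {x} hx => ⟨x, hx, rfl⟩
  have data : ∀ {x : (Subgroup.centralizer ({z} : Set G))} (k : Fin 5), x ∈ Q → F.mu (x : G) = Frame.rep k →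
      orderOf x = 2 ∧ (x : G) ≠ z := by
    intro x k hx e
    have hne : (x : G) ≠ z := fun h => by
      rw [h, F.mu_z] at e; exact (Frame.rep_spec k).2.1 e.symm
    refine ⟨?_, hne⟩
    rw [← Subgroup.orderOf_coe]
    refine orderOf_eq_prime ?_ fun h => ?_
    · rw [pow_two]; exact (F.sq_eq_one_iff (hmem hx)).2 (by rw [e]; exact (Frame.rep_spec k).1)
    · rw [h, F.mu_one] at e; exact (Frame.rep_spec k).2.1 e.symm
  have hb0 : ¬ big γ (Frame.rep 0) ∧ big γ (Frame.rep 1) :=
    (by decide : ∀ g : ZMod 3, ¬ big g (Frame.rep 0) ∧ big g (Frame.rep 1)) γ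
  refine ⟨a', b', ha', hb', (data 0 ha' hav).1, (data 1 hb' hbv).1, (data 0 ha' hav).2, (data 1 hb' hbv).2, ?_, ?_⟩
  · rintro ⟨h, e⟩
    have hz : Commute (h : G) z := Subgroup.mem_centralizer_singleton_iff.1 h.2
    have e2 : F.mu ((h : G) * (a' : G) * (h : G)⁻¹) = Frame.rep 1 := by
      rw [← hbv, ← e]; rfl
    rw [F.pi_mu _ hz _ (hmem ha')] at e2
    have hr : F.Rel (Frame.rep 0) (Frame.rep 1) := ⟨h, hz, by rw [← e2]; congr 1; exact hav.symm⟩
    exact hb0.1 (((hγ _ _ (Frame.rep_spec 0).1 (Frame.rep_spec 0).2.1 (Frame.rep_spec 1).1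
      (Frame.rep_spec 1).2.1).1 hr).2 hb0.2)
  · intro x hx hord hne
    have hx2 : (x : G) * (x : G) = 1 := by
      have h := pow_orderOf_eq_one x
      rw [hord, pow_two] at h
      exact congrArg Subtype.val h
    have hx1 : (x : G) ≠ 1 := fun e => by
      rw [← Subgroup.orderOf_coe, e, orderOf_one] at hord; omega
    have hxq := (F.sq_eq_one_iff (hmem hx)).1 hx2
    have hx0 := F.mu_ne_zero (hmem hx) hx1 hne
    by_cases hbig : big γ (F.mu (x : G))
    · right
      obtain ⟨h, hh, e⟩ := F.conj_of_rel (hmem hb') (hmem hx) hx0 (by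
        show F.Rel (F.mu ((Subgroup.centralizer ({z} : Set G)).subtype b')) _
        rw [hbv]; exact (hγ _ _ (Frame.rep_spec 1).1 (Frame.rep_spec 1).2.1 hxq hx0).2 (iff_of_true hb0.2 hbig))
      exact ⟨⟨h, Subgroup.mem_centralizer_singleton_iff.2 hh⟩, Subtype.ext e⟩
    · left
      obtain ⟨h, hh, e⟩ := F.conj_of_rel (hmem ha') (hmem hx) hx0 (by
        show F.Rel (F.mu ((Subgroup.centralizer ({z} : Set G)).subtype a')) _
        rw [hav]; exact (hγ _ _ (Frame.rep_spec 0).1 (Frame.rep_spec 0).2.1 hxq hx0).2 (iff_of_false hb0.1 hbig))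
      exact ⟨⟨h, Subgroup.mem_centralizer_singleton_iff.2 hh⟩, Subtype.ext e⟩

end Cfsg.Agent.S5440
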