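import Cfsg.Statements.S5441
import Cfsg.Agent.LFType23.Involutions

set_option autoImplicit false
open Cfsg Cfsg.Agent.LFType23

namespace Cfsg.Agent.S5441

/-- Let G be a finite group of large Fischer type at the involution z: the generalized Fitting subgroup Q of H = C_G(z) is extraspecial of order 2^13, H has normal subgroups Q ≤ H₁ ≤ H₂ with H₁/Q of order 3, H₂/H₁ the projective special unitary group of dimension 4 over the field with nine elements and H₂ of index 2 in H, and some conjugate of z other than z lies in Q. Then the conjugates of z lying in Q and different from z form a single orbit under conjugation by H. -/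
theorem result {G : Type*} [Group G] [Finite G] (z : G) (Q : Subgroup (Subgroup.centralizer ({z} : Set G))) [Q.Normal] (hF : Cfsg.IsOfLargeFischerTypeAt z Q) (s t : G) (hsQ : ∃ hsc : s ∈ Subgroup.centralizer ({z} : Set G), (⟨s, hsc⟩ : Subgroup.centralizer ({z} : Set G)) ∈ Q) (htQ : ∃ htc : t ∈ Subgroup.centralizer ({z} : Set G), (⟨t, htc⟩ : Subgroup.centralizer ({z} : Set G)) ∈ Q) (hs : IsConj z s) (ht : IsConj z t) (hs1 : s ≠ z) (ht1 : t ≠ z) : ∃ h ∈ Subgroup.centralizer ({z} : Set G), h * s * h⁻¹ = t := by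
  classical
  obtain ⟨F⟩ := exists_frame z Q hF
  obtain ⟨γ, hγ⟩ := F.exists_classes
  obtain ⟨hsc, hsQ'⟩ := hsQ
  obtain ⟨htc, htQ'⟩ := htQ
  have hS : s ∈ Q.map (Subgroup.centralizer ({z} : Set G)).subtype := ⟨_, hsQ', rfl⟩
  have hT : t ∈ Q.map (Subgroup.centralizer ({z} : Set G)).subtype := ⟨_, htQ', rfl⟩
  have hz1 : ∀ x, IsConj z x → x ≠ 1 := fun x hx e => F.z_ne (by
    subst e; exact isConj_one_left.1 hx)
  have sq : ∀ x, IsConj z x → x * x = 1 := fun x hx => by
    obtain ⟨g, rfl⟩ := isConj_iff.1 hx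
    rw [show g * z * g⁻¹ * (g * z * g⁻¹) = g * (z * z) * g⁻¹ by group, F.z_sq]; group
  obtain ⟨h, hh, e⟩ := F.conj_of_rel hS hT (F.mu_ne_zero hT (hz1 t ht) ht1)
    ((hγ _ _ ((F.sq_eq_one_iff hS).1 (sq s hs)) (F.mu_ne_zero hS (hz1 s hs) hs1)
      ((F.sq_eq_one_iff hT).1 (sq t ht)) (F.mu_ne_zero hT (hz1 t ht) ht1)).2
      (iff_of_true (F.big_of_isConj hγ hS hs1 hs) (F.big_of_isConj hγ hT ht1 ht)))
  exact ⟨h, Subgroup.mem_centralizer_singleton_iff.2 hh, e⟩

end Cfsg.Agent.S5441
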