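import Cfsg.Statements.S5442
import Cfsg.Agent.LFType23.Main

set_option autoImplicit false
open Cfsg Cfsg.Agent.LFType23

namespace Cfsg.Agent.S5442

/-- Let G be a finite group of large Fischer type at the involution z: the generalized Fitting subgroup Q of H = C_G(z) is extraspecial of order 2^13, H has normal subgroups Q ≤ H₁ ≤ H₂ with H₁/Q of order 3, H₂/H₁ the projective special unitary group of dimension 4 over the field with nine elements and H₂ of index 2 in H, and some conjugate of z other than z lies in Q. Let s = g z g⁻¹ be a conjugate of z lying in Q and different from z. Then the intersection of Q and g Q g⁻¹ (as subgroups of G) is elementary abelian of order 2^7; and in H/Q, writing X for the image of the centralizer of s in H and E for the image of the intersection of g Q g⁻¹ with H, E is a normal subgroup of X, elementary abelian of order 32, with X/E isomorphic to the alternating group of degree 6. -/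
theorem result {G : Type*} [Group G] [Finite G] (z : G) (Q : Subgroup (Subgroup.centralizer ({z} : Set G))) [Q.Normal] (hF : Cfsg.IsOfLargeFischerTypeAt z Q) (s : G) (hsQ : ∃ hsc : s ∈ Subgroup.centralizer ({z} : Set G), (⟨s, hsc⟩ : Subgroup.centralizer ({z} : Set G)) ∈ Q) (hs : IsConj z s) (hs1 : s ≠ z) (g : G) (hg : g * z * g⁻¹ = s) (X E : Subgroup ((Subgroup.centralizer ({z} : Set G)) ⧸ Q)) (hX : X = ((Subgroup.centralizer ({z} : Set G) ⊓ Subgroup.centralizer ({s} : Set G)).subgroupOf (Subgroup.centralizer ({z} : Set G))).map (QuotientGroup.mk' Q)) (hE : E = ((((Q.map (Subgroup.centralizer ({z} : Set G)).subtype)).map (MulAut.conj g).toMonoidHom ⊓ Subgroup.centralizer ({z} : Set G)).subgroupOf (Subgroup.centralizer ({z} : Set G))).map (QuotientGroup.mk' Q)) : Cfsg.IsElementaryAbelian 2 ((Q.map (Subgroup.centralizer ({z} : Set G)).subtype) ⊓ ((Q.map (Subgroup.centralizer ({z} : Set G)).subtype)).map (MulAut.conj g).toMonoidHom) ∧ Nat.card ↥((Q.map (Subgroup.centralizer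 ({z} : Set G)).subtype) ⊓ ((Q.map (Subgroup.centralizer ({z} : Set G)).subtype)).map (MulAut.conj g).toMonoidHom) = 2 ^ 7 ∧ E ≤ X ∧ (∀ x ∈ X, ∀ y ∈ E, x * y * x⁻¹ ∈ E) ∧ Cfsg.IsElementaryAbelian 2 E ∧ Nat.card E = 32 ∧ ∃ _ : (E.subgroupOf X).Normal, Nonempty (↥X ⧸ E.subgroupOf X ≃* alternatingGroup (Fin 6)) := by
  classical
  obtain ⟨F0⟩ := exists_frame z Q hF
  set Q1 := Q.map (Subgroup.centralizer ({z} : Set G)).subtype with hQ1
  obtain ⟨hsc, hsQ'⟩ := hsQ
  obtain ⟨F, Fs, γ, S, -⟩ := F0.exists_std (s := s) (g := g) ⟨_, hsQ', rfl⟩ hs1 hg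
  set R := Q1.map (MulAut.conj g).toMonoidHom with hR
  have hmemQ : ∀ a : Subgroup.centralizer ({z} : Set G), (a : G) ∈ Q1 ↔ a ∈ Q := fun a =>
    ⟨fun h => by obtain ⟨b, hb, e⟩ := h; rwa [← Subtype.ext e], fun h => ⟨a, h, rfl⟩⟩
  let ι : (Subgroup.centralizer ({z} : Set G)) ⧸ Q →* Equiv.Perm V :=
    QuotientGroup.lift Q F.permHom fun a ha => (F.permHom_eq_one a).2 ((hmemQ a).2 ha)
  have hι : Function.Injective ι := by
    rw [injective_iff_map_eq_one]
    intro x hx
    obtain ⟨a, rfl⟩ := QuotientGroup.mk'_surjective Q x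
    exact (QuotientGroup.eq_one_iff a).2 ((hmemQ a).1 ((F.permHom_eq_one a).1 hx))
  have hmap : ∀ H : Subgroup (Subgroup.centralizer ({z} : Set G)), (H.map (QuotientGroup.mk' Q)).map ι = H.map F.permHom := fun H => by
    rw [Subgroup.map_map]; rfl
  have hEw : E.map ι = S.link.wgrp := by rw [hE, hmap]; rfl
  have hXx : X.map ι = S.link.xgrp := by
    rw [hX, hmap]
    refine le_antisymm ?_ fun f hf => ?_
    · rintro _ ⟨a, ha, rfl⟩
      have hca : Commute (a : G) z := Subgroup.mem_centralizer_singleton_iff.1 a.2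
      have hcs : (a : G) * s = s * a := Subgroup.mem_centralizer_singleton_iff.1 ha.2
      refine S.link.mem_xgrp.2 ⟨a, hca, ?_, fun u => rfl⟩
      rw [← F.pi_mu _ hca s S.link.mem, hcs, mul_inv_cancel_right]
    · obtain ⟨h, hh, hfix, he⟩ := S.link.mem_xgrp.1 hf
      obtain ⟨h', hz', hs', e⟩ := S.link.correct hh hfix
      exact ⟨⟨h', Subgroup.mem_centralizer_singleton_iff.2 hz'⟩,
        ⟨Subgroup.mem_centralizer_singleton_iff.2 hz', Subgroup.mem_centralizer_singleton_iff.2 hs'⟩,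
        Equiv.ext fun u => (e u).trans (he u).symm⟩
  have memE : ∀ {y}, y ∈ E ↔ ι y ∈ S.link.wgrp := fun {y} => by
    rw [← hEw, Subgroup.mem_map_iff_mem hι]
  have memX : ∀ {y}, y ∈ X ↔ ι y ∈ S.link.xgrp := fun {y} => by
    rw [← hXx, Subgroup.mem_map_iff_mem hι]
  have hnorm : ∀ x ∈ X, ∀ y ∈ E, x * y * x⁻¹ ∈ E := fun x hx y hy => by
    rw [memE, map_mul, map_mul, map_inv]
    exact S.link.wgrp_normal (memX.1 hx) (memE.1 hy)
  haveI hN : (E.subgroupOf X).Normal := ⟨fun y hy x => hnorm x x.2 y hy⟩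
  obtain ⟨φ, hφs, hφk⟩ := S.exists_quot_hom
  let r : X →* S.link.xgrp := (ι.comp X.subtype).codRestrict _ fun x => memX.1 x.2
  have hr : Function.Surjective r := fun f => by
    have hf : (f : Equiv.Perm V) ∈ X.map ι := by rw [hXx]; exact f.2
    obtain ⟨x, hx, e⟩ := hf
    exact ⟨⟨x, hx⟩, Subtype.ext e⟩
  have hk : E.subgroupOf X = (φ.comp r).ker := by
    ext x
    rw [← MonoidHom.comap_ker, hφk, Subgroup.mem_comap, Subgroup.mem_subgroupOf, Subgroup.mem_subgroupOf, memE]
    rfl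
  refine ⟨⟨⟨⟨fun a b => Subtype.ext (S.link.inter_comm a.2.1 a.2.2 b.2.1 b.2.2).eq⟩⟩, fun a ha => ?_⟩, ?_,
    fun y hy => memX.2 (S.link.wgrp_le (memE.1 hy)), hnorm, ⟨⟨⟨fun a b => ?_⟩⟩, fun a ha => ?_⟩, ?_,
    hN, ⟨(QuotientGroup.quotientMulEquivOfEq hk).trans
      (QuotientGroup.quotientKerEquivOfSurjective (φ.comp r) (hφs.comp hr))⟩⟩
  · rw [pow_two]; exact S.link.inter_sq ha.1 ha.2
  · rw [S.link.card_inter, S.card_w_dbar.2]; rfl
  · refine Subtype.ext (hι ?_)
    rw [Subgroup.coe_mul, Subgroup.coe_mul, map_mul, map_mul]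
    exact (S.link.wgrp_abelian (memE.1 a.2) (memE.1 b.2)).1
  · refine hι ?_
    rw [pow_two, map_mul, map_one]
    exact (S.link.wgrp_abelian (memE.1 ha) (memE.1 ha)).2
  · rw [← Subgroup.card_map_of_injective hι, hEw, S.card_w_dbar.1]

end Cfsg.Agent.S5442
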