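import Cfsg.Statements.S5443
import Cfsg.Agent.LFType23.Odd
import Cfsg.Agent.LFType23.StabSmall
import Cfsg.Agent.TT95.K45.Minus

set_option autoImplicit false
open Cfsg Cfsg.Agent.LFType23

namespace Cfsg.Agent.S5443

/-- Let G be a finite group of large Fischer type at the involution z: the generalized Fitting subgroup Q of H = C_G(z) is extraspecial of order 2^13, H has normal subgroups Q ≤ H₁ ≤ H₂ with H₁/Q of order 3, H₂/H₁ the projective special unitary group of dimension 4 over the field with nine elements and H₂ of index 2 in H, and some conjugate of z other than z lies in Q. Let t be an involution of Q not conjugate to z in G, and S the set of elements of H conjugating t to t or to t z (the stabilizer of the image of t in Q modulo its centre). Then the image of S in H/Q is isomorphic to the full isometry group of the elliptic quadratic form in dimension 6 over the field with two elements. -/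
theorem result {G : Type*} [Group G] [Finite G] (z : G) (Q : Subgroup (Subgroup.centralizer ({z} : Set G))) [Q.Normal] (hF : Cfsg.IsOfLargeFischerTypeAt z Q) (t : Subgroup.centralizer ({z} : Set G)) (htQ : t ∈ Q) (ht2 : orderOf t = 2) (ht : ¬ IsConj z (t : G)) (S : Subgroup (Subgroup.centralizer ({z} : Set G))) (hS : ∀ h : Subgroup.centralizer ({z} : Set G), h ∈ S ↔ (h * t * h⁻¹ = t ∨ ((h * t * h⁻¹ : Subgroup.centralizer ({z} : Set G)) : G) = t * z)) : Nonempty (↥(S.map (QuotientGroup.mk' Q)) ≃* Cfsg.isometryGroup (ZMod 2) (Cfsg.quadFormMinus 2 (ZMod 2) 1 1)) := by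
  classical
  obtain ⟨F⟩ := exists_frame z Q hF
  obtain ⟨γ, hγ⟩ := F.exists_classes
  obtain ⟨g, ⟨hgc, hgQ⟩, hgz⟩ := hF.1.2.2.2.2
  have hxQ : g * z * g⁻¹ ∈ Q.map (Subgroup.centralizer ({z} : Set G)).subtype := ⟨_, hgQ, rfl⟩
  have htQ' : (t : G) ∈ Q.map (Subgroup.centralizer ({z} : Set G)).subtype := ⟨t, htQ, rfl⟩
  have ht1 : (t : G) ≠ 1 := fun e => by
    rw [← Subgroup.orderOf_coe, e, orderOf_one] at ht2; omega
  have htz : (t : G) ≠ z := fun e => ht (by rw [e])
  have htt : (t : G) * (t : G) = 1 := by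
    have h := pow_orderOf_eq_one t
    rw [ht2, pow_two] at h
    exact congrArg Subtype.val h
  have hq := (F.sq_eq_one_iff htQ').1 htt
  have h0 := F.mu_ne_zero htQ' ht1 htz
  have hsmall : ¬ big γ (F.mu (t : G)) := fun hb => ht (by
    have hx2 : g * z * g⁻¹ * (g * z * g⁻¹) = 1 := by
      rw [show g * z * g⁻¹ * (g * z * g⁻¹) = g * (z * z) * g⁻¹ by group, F.z_sq]; group
    have hx1 : g * z * g⁻¹ ≠ 1 := fun e => F.z_ne (conj_eq_one_iff.1 e)
    have hbx := F.big_of_isConj hγ hxQ hgz (isConj_iff.2 ⟨g, rfl⟩)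
    obtain ⟨k, -, e⟩ := F.conj_of_rel hxQ htQ' h0
      ((hγ _ _ ((F.sq_eq_one_iff hxQ).1 hx2) (F.mu_ne_zero hxQ hx1 hgz) hq h0).2 (iff_of_true hbx hb))
    exact isConj_iff.2 ⟨k * g, by rw [← e]; group⟩)
  obtain ⟨e⟩ := StabSmall.nonempty_equiv F hγ (F.no_swap hγ hxQ hgz) htQ hq h0 hsmall S hS
  obtain ⟨e'⟩ := TT95.K45G.exists_iso_minus
  exact ⟨e.trans e'.symm⟩

end Cfsg.Agent.S5443
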