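import Cfsg.Statements.S5444
import Cfsg.Agent.LFType10.Thompson

set_option autoImplicit false
open Cfsg Cfsg.Agent

namespace Cfsg.Agent.S5444

/-- Let G be a finite group of large Fischer type at the involution z: the generalized Fitting subgroup Q of H = C_G(z) is extraspecial of order 2^13, H has normal subgroups Q ≤ H₁ ≤ H₂ with H₁/Q of order 3, H₂/H₁ the projective special unitary group of dimension 4 over the field with nine elements and H₂ of index 2 in H, and some conjugate of z other than z lies in Q. Let T be a Sylow 2-subgroup of H. Then T has exactly one elementary abelian subgroup A of largest order; A has order 2^11, it meets Q in a subgroup of order 2^7, and its image in H/Q has order 16. -/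
theorem result {G : Type*} [Group G] [Finite G] (z : G) (Q : Subgroup (Subgroup.centralizer ({z} : Set G))) [Q.Normal] (hF : Cfsg.IsOfLargeFischerTypeAt z Q) (T : Sylow 2 ↥(Subgroup.centralizer ({z} : Set G))) : ∃ A : Subgroup ↥(T : Subgroup (Subgroup.centralizer ({z} : Set G))), Cfsg.maxElementaryAbelianSubgroups 2 ↥(T : Subgroup (Subgroup.centralizer ({z} : Set G))) = {A} ∧ Nat.card A = 2 ^ 11 ∧ Nat.card ↥(A.map (T : Subgroup (Subgroup.centralizer ({z} : Set G))).subtype ⊓ Q) = 2 ^ 7 ∧ Nat.card ↥((A.map (T : Subgroup (Subgroup.centralizer ({z} : Set G))).subtype).map (QuotientGroup.mk' Q)) = 16 := by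
  classical
  obtain ⟨C⟩ := Cfsg.Agent.LFType10.exists_ctx Q hF
  obtain ⟨c, hc, hT⟩ := LFType10.sylow_conj C T
  let ι : ↥(T : Subgroup (Subgroup.centralizer ({z} : Set G))) →* G := (Subgroup.centralizer ({z} : Set G)).subtype.comp (T : Subgroup (Subgroup.centralizer ({z} : Set G))).subtype
  have hι : Function.Injective ι := (Subgroup.centralizer ({z} : Set G)).subtype_injective.comp (T : Subgroup (Subgroup.centralizer ({z} : Set G))).subtype_injective
  have hrange : ∀ x, x ∈ (LFType10.Syl C).map (MulAut.conj c).toMonoidHom → x ∈ ι.range := by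
    intro x hx
    rw [← hT] at hx
    obtain ⟨y, hy, rfl⟩ := hx
    exact ⟨⟨y, hy⟩, rfl⟩
  set A0 : Subgroup G := (LFType10.Ct C.F).map (MulAut.conj c).toMonoidHom with hA0
  set A : Subgroup ↥(T : Subgroup (Subgroup.centralizer ({z} : Set G))) := A0.comap ι with hA
  have hmap : A.map ι = A0 := by
    rw [hA, Subgroup.map_comap_eq, inf_eq_right]
    rintro _ ⟨a, ha, rfl⟩
    exact hrange _ ⟨a, LFType10.Ct_le_Syl C ha, rfl⟩
  have hcardA : Nat.card A = 2 ^ 11 := by
    rw [Nat.card_congr (A.equivMapOfInjective ι hι).toEquiv, hmap, hA0,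
      Subgroup.card_map_of_injective (MulAut.conj c).injective, LFType10.card_Ct C]
  have hel : Cfsg.IsElementaryAbelian 2 A := by
    refine ⟨⟨⟨fun a b => Subtype.ext (hι ?_)⟩⟩, fun a ha => hι ?_⟩
    · obtain ⟨x, hx, ex⟩ := (a.2 : ι (a : ↥(T : Subgroup (Subgroup.centralizer ({z} : Set G)))) ∈ A0)
      obtain ⟨y, hy, ey⟩ := (b.2 : ι (b : ↥(T : Subgroup (Subgroup.centralizer ({z} : Set G)))) ∈ A0)
      simp only [Subgroup.coe_mul, map_mul, ← ex, ← ey]
      rw [← map_mul, ← map_mul, LFType10.Ct_comm C x hx y hy]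
    · obtain ⟨x, hx, ex⟩ := (ha : ι a ∈ A0)
      rw [map_pow, ← ex, ← map_pow, pow_two, LFType10.elementary_Ct C x hx, map_one, map_one]
  have huniq : ∀ B : Subgroup ↥(T : Subgroup (Subgroup.centralizer ({z} : Set G))), Cfsg.IsElementaryAbelian 2 B → 2 ^ 11 ≤ Nat.card B → B = A := by
    intro B hB hcard
    refine Subgroup.map_injective hι ?_
    rw [hmap]
    refine LFType10.unique_conj C ?_ ?_ ?_ ?_
    · rintro _ ⟨b, _, rfl⟩
      rw [← hT]
      exact ⟨b.1, b.2, rfl⟩
    · rintro _ ⟨a, ha, rfl⟩ _ ⟨b, hb, rfl⟩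
      haveI := hB.1
      rw [← map_mul, ← map_mul]
      exact congrArg ι (congrArg Subtype.val (mul_comm' (⟨a, ha⟩ : B) ⟨b, hb⟩))
    · rintro _ ⟨a, ha, rfl⟩
      rw [← map_mul, ← pow_two, hB.2 a ha, map_one]
    · rw [← Nat.card_congr (B.equivMapOfInjective ι hι).toEquiv]; exact hcard
  have hinter : (A.map (T : Subgroup (Subgroup.centralizer ({z} : Set G))).subtype ⊓ Q).map (Subgroup.centralizer ({z} : Set G)).subtype =
      A0 ⊓ Q.map (Subgroup.centralizer ({z} : Set G)).subtype := by
    rw [Subgroup.map_inf _ _ _ (Subgroup.centralizer ({z} : Set G)).subtype_injective, Subgroup.map_map]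
    exact congrArg (· ⊓ Q.map (Subgroup.centralizer ({z} : Set G)).subtype) hmap
  have hcardI : Nat.card ↥(A.map (T : Subgroup (Subgroup.centralizer ({z} : Set G))).subtype ⊓ Q) = 2 ^ 7 := by
    rw [← Subgroup.card_map_of_injective (Subgroup.centralizer ({z} : Set G)).subtype_injective, hinter, hA0]
    have e := Subgroup.map_inf (LFType10.Ct C.F) (Q.map (Subgroup.centralizer ({z} : Set G)).subtype)
      (MulAut.conj c).toMonoidHom (MulAut.conj c).injective
    rw [LFType10.conj_Q C hc] at e
    rw [← e, Subgroup.card_map_of_injective (MulAut.conj c).injective, LFType10.card_inter C]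
  refine ⟨A, ?_, hcardA, hcardI, ?_⟩
  · ext B
    rw [Set.mem_singleton_iff]
    refine ⟨fun hB => huniq B hB.1 (hcardA ▸ hB.2 A hel), fun hB => ?_⟩
    subst hB
    exact ⟨hel, fun B hB => by
      by_contra h
      exact h (le_of_eq (congrArg (fun H : Subgroup ↥(T : Subgroup (Subgroup.centralizer ({z} : Set G))) => Nat.card H) (huniq B hB (by rw [hcardA] at h; omega))))⟩
  · have h1 := (Q.subgroupOf (A.map (T : Subgroup (Subgroup.centralizer ({z} : Set G))).subtype)).card_mul_index
    have hker : ((QuotientGroup.mk' Q).comp (A.map (T : Subgroup (Subgroup.centralizer ({z} : Set G))).subtype).subtype).ker = Q.subgroupOf (A.map (T : Subgroup (Subgroup.centralizer ({z} : Set G))).subtype) := by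
      rw [← MonoidHom.comap_ker, QuotientGroup.ker_mk']
      rfl
    have hrg : ((QuotientGroup.mk' Q).comp (A.map (T : Subgroup (Subgroup.centralizer ({z} : Set G))).subtype).subtype).range =
        (A.map (T : Subgroup (Subgroup.centralizer ({z} : Set G))).subtype).map (QuotientGroup.mk' Q) := by
      rw [MonoidHom.range_comp, Subgroup.range_subtype]
    rw [← hker, Subgroup.index_ker, hrg, hker] at h1
    have h2 : Nat.card (Q.subgroupOf (A.map (T : Subgroup (Subgroup.centralizer ({z} : Set G))).subtype)) = 2 ^ 7 := by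
      rw [← hcardI, inf_comm, ← Subgroup.inf_subgroupOf_right,
        Nat.card_congr (Subgroup.subgroupOfEquivOfLe inf_le_right).toEquiv]
    rw [h2, Subgroup.card_map_of_injective (T : Subgroup (Subgroup.centralizer ({z} : Set G))).subtype_injective, hcardA] at h1
    omega


end Cfsg.Agent.S5444
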