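import Cfsg.Statements.S5447
import Cfsg.Agent.LFType10.Classes

set_option autoImplicit false
open Cfsg Cfsg.Agent

namespace Cfsg.Agent.S5447

/-- Let G be a finite group of large Fischer type at the involution z: the generalized Fitting subgroup Q of H = C_G(z) is extraspecial of order 2^13, H has normal subgroups Q ≤ H₁ ≤ H₂ with H₁/Q of order 3, H₂/H₁ the projective special unitary group of dimension 4 over the field with nine elements and H₂ of index 2 in H, and some conjugate of z other than z lies in Q. Let T be a Sylow 2-subgroup of G, A its Thompson subgroup and M = N_G(A) its normalizer. Then M controls fusion in A (elements of A conjugate in G are conjugate in M), and M has exactly two orbits on the non-identity elements of A: those conjugate to z in G and those not. -/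
theorem result {G : Type*} [Group G] [Finite G] (z : G) (Q : Subgroup (Subgroup.centralizer ({z} : Set G))) [Q.Normal] (hF : Cfsg.IsOfLargeFischerTypeAt z Q) (T : Sylow 2 G) (A M : Subgroup G) (hA : A = Cfsg.thompsonSubgroupOf 2 (T : Subgroup G)) (hM : M = Subgroup.normalizer (A : Set G)) : (∀ a ∈ A, ∀ g : G, g * a * g⁻¹ ∈ A → ∃ m ∈ M, m * a * m⁻¹ = g * a * g⁻¹) ∧ (∃ a ∈ A, a ≠ 1 ∧ IsConj z a) ∧ (∃ a ∈ A, a ≠ 1 ∧ ¬ IsConj z a) ∧ ∀ a ∈ A, ∀ b ∈ A, a ≠ 1 → b ≠ 1 → (IsConj z a ↔ IsConj z b) → ∃ m ∈ M, m * a * m⁻¹ = b := by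
  classical
  obtain ⟨C⟩ := LFType10.exists_ctx Q hF
  obtain ⟨g, hg⟩ := LFType10.thompson_eq C T
  have hmem : ∀ a, a ∈ A ↔ g⁻¹ * a * g ∈ LFType10.Ct C.F := by
    intro a
    rw [hA, hg]
    constructor
    · rintro ⟨b, hb, rfl⟩
      simpa [MulAut.conj_apply, mul_assoc] using hb
    · exact fun h => ⟨_, h, by simp [MulAut.conj_apply, mul_assoc]⟩
  have hMmem : ∀ m ∈ LFType10.Nt C, g * m * g⁻¹ ∈ M := by
    intro m hm
    rw [hM, Subgroup.mem_normalizer_iff]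
    intro a
    rw [hmem, hmem, (LFType10.mem_Nt C).1 hm (g⁻¹ * a * g)]
    rw [show m * (g⁻¹ * a * g) * m⁻¹ = g⁻¹ * (g * m * g⁻¹ * a * (g * m * g⁻¹)⁻¹) * g by group]
  have hconj : ∀ a : G, IsConj z (g⁻¹ * a * g) ↔ IsConj z a := fun a => by
    have hc : IsConj (g⁻¹ * a * g) a := isConj_iff.2 ⟨g, by group⟩
    exact ⟨fun h => h.trans hc, fun h => h.trans hc.symm⟩
  have hne : ∀ a : G, g⁻¹ * a * g = 1 → a = 1 := fun a h => by
    calc a = g * (g⁻¹ * a * g) * g⁻¹ := by group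
      _ = 1 := by rw [h]; group
  have fus : ∀ a ∈ A, ∀ h : G, h * a * h⁻¹ ∈ A → ∃ m ∈ M, m * a * m⁻¹ = h * a * h⁻¹ := by
    intro a ha h hha
    obtain ⟨m, hm, e⟩ := LFType10.fusion C ((hmem a).1 ha) (g := g⁻¹ * h * g) (by
      rw [show g⁻¹ * h * g * (g⁻¹ * a * g) * (g⁻¹ * h * g)⁻¹ = g⁻¹ * (h * a * h⁻¹) * g by group]
      exact (hmem _).1 hha)
    refine ⟨g * m * g⁻¹, hMmem m hm, ?_⟩
    rw [show g * m * g⁻¹ * a * (g * m * g⁻¹)⁻¹ = g * (m * (g⁻¹ * a * g) * m⁻¹) * g⁻¹ by group, e]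
    group
  refine ⟨fus, ?_, ?_, ?_⟩
  · refine ⟨g * z * g⁻¹, (hmem _).2 ?_, fun h => C.F.z_ne (conj_eq_one_iff.1 h), isConj_iff.2 ⟨g, rfl⟩⟩
    rw [show g⁻¹ * (g * z * g⁻¹) * g = z by group]
    exact LFType10.z_mem_Ct C
  · obtain ⟨hF', -, hT, -⟩ := LFType10.av_spec C (i := 1) le_rfl (by norm_num)
    have e : g⁻¹ * (g * LFType10.av C 1 * g⁻¹) * g = LFType10.av C 1 := by group
    refine ⟨g * LFType10.av C 1 * g⁻¹, (hmem _).2 (by rw [e]; exact hF'.1), fun h => hT.1 (conj_eq_one_iff.1 h),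
      fun h => hT.2 ?_⟩
    rw [← e]
    exact (hconj _).2 h
  · intro a ha b hb ha1 hb1 hab
    by_cases hz : IsConj z a
    · obtain ⟨h, e⟩ := isConj_iff.1 (hz.symm.trans (hab.1 hz))
      obtain ⟨m, hm, e'⟩ := fus a ha h (by rw [e]; exact hb)
      exact ⟨m, hm, e'.trans e⟩
    · have ta : LFType10.IsT C (g⁻¹ * a * g) := ⟨fun h => ha1 (hne a h), fun h => hz ((hconj a).1 h)⟩
      have tb : LFType10.IsT C (g⁻¹ * b * g) := ⟨fun h => hb1 (hne b h), fun h => hz (hab.2 ((hconj b).1 h))⟩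
      obtain ⟨m, hm, e⟩ := LFType10.isT_orbit C ((hmem a).1 ha) ((hmem b).1 hb) ta tb
      refine ⟨g * m * g⁻¹, hMmem m hm, ?_⟩
      rw [show g * m * g⁻¹ * a * (g * m * g⁻¹)⁻¹ = g * (m * (g⁻¹ * a * g) * m⁻¹) * g⁻¹ by group, e]
      group

end Cfsg.Agent.S5447
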