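import Cfsg.Statements.S5451
import Cfsg.Agent.LFType23.Quasi

set_option autoImplicit false
open Cfsg Cfsg.Agent.LFType23
open scoped commutatorElement

namespace Cfsg.Agent.S5451

/-- Let G be a finite group of large Fischer type at the involution z: the generalized Fitting subgroup Q of H = C_G(z) is extraspecial of order 2^13, H has normal subgroups Q ≤ H₁ ≤ H₂ with H₁/Q of order 3, H₂/H₁ the projective special unitary group of dimension 4 over the field with nine elements and H₂ of index 2 in H, and some conjugate of z other than z lies in Q. Let X be a subgroup of H of order 3 whose product with Q is normal in H (X maps onto the normal subgroup of order 3 of H/Q). Then the centralizer of X in H is quasisimple with cyclic centre of order 6 and central quotient isomorphic to the projective special unitary group of dimension 4 over the field with nine elements. -/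
theorem result {G : Type*} [Group G] [Finite G] (z : G) (Q : Subgroup (Subgroup.centralizer ({z} : Set G))) [Q.Normal] (hF : Cfsg.IsOfLargeFischerTypeAt z Q) (X : Subgroup (Subgroup.centralizer ({z} : Set G))) (hX : Nat.card X = 3) (hXQ : (X ⊔ Q).Normal) : Cfsg.IsQuasisimple ↥(Subgroup.centralizer ((X : Subgroup (Subgroup.centralizer ({z} : Set G))) : Set (Subgroup.centralizer ({z} : Set G)))) ∧ IsCyclic ↥(Subgroup.center ↥(Subgroup.centralizer ((X : Subgroup (Subgroup.centralizer ({z} : Set G))) : Set (Subgroup.centralizer ({z} : Set G))))) ∧ Nat.card ↥(Subgroup.center ↥(Subgroup.centralizer ((X : Subgroup (Subgroup.centralizer ({z} : Set G))) : Set (Subgroup.centralizer ({z} : Set G))))) = 6 ∧ ∃ (K : Type) (_ : Field K) (_ : Fintype K), Fintype.card K = 9 ∧ Nonempty (↥(Subgroup.centralizer ((X : Subgroup (Subgroup.centralizer ({z} : Set G))) : Set (Subgroup.centralizer ({z} : Set G)))) ⧸ Subgroup.center ↥(Subgroup.centralizer ((X : Subgroup (Subgroup.centralizer ({z} : Set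 G))) : Set (Subgroup.centralizer ({z} : Set G)))) ≃* Cfsg.PSU 4 K 3) := by
  classical
  obtain ⟨F0⟩ := exists_frame z Q hF
  obtain ⟨⟨-, -, -, -, g, ⟨hgc, hgQ⟩, hgne⟩, N, M, _, _, hQN, hNM, hNc, ⟨K, _, _, hK, ⟨ψ⟩⟩, hMi⟩ := hF
  obtain ⟨F, Fs, γ, S, hsc⟩ := F0.exists_std (s := g * z * g⁻¹) (g := g) ⟨_, hgQ, rfl⟩ hgne rfl
  have hmemQ : ∀ a : Subgroup.centralizer ({z} : Set G),
      (a : G) ∈ Q.map (Subgroup.centralizer ({z} : Set G)).subtype ↔ a ∈ Q :=
    fun a => ⟨fun h => by obtain ⟨b, hb, e⟩ := h; rwa [← Subtype.ext e], fun h => ⟨a, h, rfl⟩⟩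
  have hker : ∀ a, F.permHom a = 1 ↔ a ∈ Q := fun a => (F.permHom_eq_one a).trans (hmemQ a)
  have hcz : ∀ a : Subgroup.centralizer ({z} : Set G), Commute (a : G) z := fun a =>
    Subgroup.mem_centralizer_singleton_iff.1 a.2
  have hQc : Nat.card Q = 2 ^ 13 := by
    rw [← Subgroup.card_map_of_injective (Subgroup.centralizer ({z} : Set G)).subtype_injective, F.card_le]
  -- the image of `N`
  have hNimg : Nat.card (N.map F.permHom) = 3 := by
    have hk : (F.permHom.comp N.subtype).ker = Q.subgroupOf N := Subgroup.ext fun a => by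
      rw [MonoidHom.mem_ker, Subgroup.mem_subgroupOf]; exact hker _
    have h := (F.permHom.comp N.subtype).ker.card_mul_index
    rw [Subgroup.index_ker, MonoidHom.range_comp, Subgroup.range_subtype, hk,
      Nat.card_congr (Subgroup.subgroupOfEquivOfLe hQN).toEquiv, hNc, hQc] at h
    omega
  have hNcases : ∀ n ∈ N, (∀ u, F.pi (n : G) u = u) ∨ (∀ u, F.pi (n : G) u = om u) ∨
      (∀ u, F.pi (n : G) u = om (om u)) := fun n hn =>
    F.scalar_of_normal hNimg (fun f ⟨a, _, e⟩ => ⟨a, e⟩)
      (fun h f ⟨a, ha, e⟩ => ⟨h * a * h⁻¹, Subgroup.Normal.conj_mem inferInstance a ha h, by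
        rw [map_mul, map_mul, map_inv, e]⟩) ⟨n, hn, rfl⟩
  -- the generator of `X`
  have hX3 : ∀ a ∈ X, a ^ 3 = 1 := fun a ha => by
    have := pow_card_eq_one' (x := (⟨a, ha⟩ : X))
    rw [hX] at this
    exact congrArg Subtype.val this
  have hXQ1 : ∀ a ∈ X, a ∈ Q → a = 1 := fun a ha haQ => by
    have h1 := congrArg Subtype.val (pow_card_eq_one' (x := (⟨a, haQ⟩ : Q)))
    rw [hQc] at h1
    simp only [SubmonoidClass.coe_pow, OneMemClass.coe_one] at h1
    have h2 := pow_gcd_eq_one.2 ⟨hX3 a ha, h1⟩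
    norm_num at h2
    exact h2
  have hXimg : Nat.card (X.map F.permHom) = 3 := by
    rw [← hX]
    refine (Nat.card_congr (Equiv.ofBijective (fun a : X => (⟨F.permHom a, ⟨a, a.2, rfl⟩⟩ : X.map F.permHom))
      ⟨fun a b e => ?_, fun b => ?_⟩)).symm
    · have e1 : F.permHom a.1 = F.permHom b.1 := congrArg Subtype.val e
      exact Subtype.ext (inv_mul_eq_one.1 (hXQ1 _ (mul_mem (inv_mem a.2) b.2)
        ((hker _).1 (by rw [map_mul, map_inv, e1, inv_mul_cancel]))))
    · obtain ⟨a, ha, e⟩ := b.2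
      exact ⟨⟨a, ha⟩, Subtype.ext e⟩
  have hXn : ∀ h, ∀ f ∈ X.map F.permHom, F.permHom h * f * (F.permHom h)⁻¹ ∈ X.map F.permHom := by
    rintro h _ ⟨a, ha, rfl⟩
    have h1 : h * a * h⁻¹ ∈ X ⊔ Q := hXQ.conj_mem a (Subgroup.mem_sup_left ha) h
    have h2 := Subgroup.mem_map_of_mem F.permHom h1
    rw [Subgroup.map_sup, (Subgroup.map_eq_bot_iff _).2 fun q hq => (hker q).2 hq, sup_bot_eq,
      map_mul, map_mul, map_inv] at h2
    exact h2
  obtain ⟨y, hy, hy1⟩ : ∃ y ∈ X, y ≠ 1 := by
    by_contra hall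
    push Not at hall
    have e : X = ⊥ := (Subgroup.eq_bot_iff_forall X).2 hall
    subst e
    simp at hX
  obtain ⟨x, hxX, hxact⟩ : ∃ x ∈ X, ∀ u, F.pi (x : G) u = om u := by
    rcases F.scalar_of_normal hXimg (fun f ⟨a, _, e⟩ => ⟨a, e⟩) hXn ⟨y, hy, rfl⟩ with h | h | h
    · exact absurd (hXQ1 y hy ((hker y).1 (Equiv.ext h))) hy1
    · exact ⟨y, hy, h⟩
    · refine ⟨y * y, mul_mem hy hy, fun u => ?_⟩
      rw [Subgroup.coe_mul, F.pi_mul (hcz y) (hcz y)]
      simp only [Frame.permHom_apply] at h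
      rw [h, h, om_cube]
  have hxS : F.Scalar (x : G) := ⟨hcz x, by rw [← Subgroup.coe_pow, hX3 x hxX]; rfl, hxact⟩
  have hx1 : x ≠ 1 := fun e => one6_spec.2 (om_eq_self (by rw [← hxact, e]; exact F.pi_one _))
  haveI : Fact (Nat.Prime 3) := ⟨Nat.prime_three⟩
  have hXz : ∀ a ∈ X, a ∈ Subgroup.zpowers x := fun a ha => by
    obtain ⟨k, hk⟩ := Subgroup.mem_zpowers_iff.1 ((zpowers_eq_top_of_prime_card (g := (⟨x, hxX⟩ : X)) hX
      (fun e => hx1 (congrArg Subtype.val e))) ▸ Subgroup.mem_top (⟨a, ha⟩ : X))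
    exact ⟨k, congrArg Subtype.val hk⟩
  set Y := Subgroup.centralizer ((X : Subgroup (Subgroup.centralizer ({z} : Set G))) : Set (Subgroup.centralizer ({z} : Set G))) with hY
  have memY : ∀ a, a ∈ Y ↔ Commute (a : G) (x : G) := fun a => by
    rw [hY, Subgroup.mem_centralizer_iff]
    constructor
    · intro h; exact (congrArg Subtype.val (h x hxX)).symm
    · intro h b hb
      obtain ⟨k, rfl⟩ := hXz b hb
      have h' : Commute a x := Subtype.ext h
      exact ((h'.zpow_right k).symm).eq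
  -- derived subgroup
  set ι := (Subgroup.centralizer ({z} : Set G)).subtype.comp Y.subtype with hι
  have hrange : ι.range = Subgroup.centralizer ({z} : Set G) ⊓ Subgroup.centralizer ({(x : G)} : Set G) := by
    ext a
    constructor
    · rintro ⟨b, rfl⟩
      exact ⟨b.1.2, Subgroup.mem_centralizer_singleton_iff.2 ((memY _).1 b.2).eq⟩
    · rintro ⟨h1, h2⟩
      exact ⟨⟨⟨a, h1⟩, (memY _).2 (Subgroup.mem_centralizer_singleton_iff.1 h2)⟩, rfl⟩
  have hder : ∀ b : Y, ι b ∈ ⁅Subgroup.centralizer ({z} : Set G) ⊓ Subgroup.centralizer ({(x : G)} : Set G),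
      Subgroup.centralizer ({z} : Set G) ⊓ Subgroup.centralizer ({(x : G)} : Set G)⁆ → b ∈ commutator Y := by
    intro b hb
    rw [← hrange, MonoidHom.range_eq_map, ← Subgroup.map_commutator] at hb
    obtain ⟨c, hc, e⟩ := hb
    rwa [← Subtype.ext (Subtype.ext e : c.1 = b.1)]
  have hzD := exists_triple (R := cj g (Q.map (Subgroup.centralizer ({z} : Set G)).subtype)) rfl rfl S hsc hxS
  have hxD := scalar_mem_commutator F hxS hzD
  -- linear elements are the members of `M`
  haveI : IsSimpleGroup (PSU 4 K 3) :=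
    S0283.result (q := 3) (by rw [hK]; norm_num) 4 (by norm_num) (by omega)
  have hnp : ¬ (Nat.card (PSU 4 K 3)).Prime := by rw [U43Seven.card_PSU hK]; norm_num
  let θ : M →* PSU 4 K 3 := ψ.toMonoidHom.comp (QuotientGroup.mk' _)
  have θk : ∀ m : M, θ m = 1 ↔ (m : Subgroup.centralizer ({z} : Set G)) ∈ N := fun m => by
    simp [θ, Subgroup.mem_subgroupOf]
  have θs : Function.Surjective θ := ψ.surjective.comp (QuotientGroup.mk'_surjective _)
  let sg : Subgroup.centralizer ({z} : Set G) →* Multiplicative (ZMod 2) :=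
    MonoidHom.mk' (fun a => Multiplicative.ofAdd (if F.Lin (a : G) then 0 else 1)) fun a b => by
      rw [← ofAdd_add]
      congr 1
      rw [Subgroup.coe_mul]
      by_cases la : F.Lin (a : G) <;> by_cases lb : F.Lin (b : G)
      · rw [if_pos la, if_pos lb, if_pos (F.lin_mul (hcz a) (hcz b) la lb)]; rfl
      · rw [if_pos la, if_neg lb, if_neg fun l => lb (by
          have := F.lin_mul (hcz a).inv_left ((hcz a).mul_left (hcz b)) (F.lin_inv (hcz a) la) l
          rwa [inv_mul_cancel_left] at this)]; rfl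
      · rw [if_neg la, if_pos lb, if_neg fun l => la (by
          have := F.lin_mul ((hcz a).mul_left (hcz b)) (hcz b).inv_left l (F.lin_inv (hcz b) lb)
          rwa [mul_inv_cancel_right] at this)]; rfl
      · rw [if_neg la, if_neg lb, if_pos (F.nonlin_mul (hcz a) (hcz b) la lb)]; rfl
  have sg1 : ∀ a, sg a = 1 ↔ F.Lin (a : G) := fun a => by
    show Multiplicative.ofAdd _ = 1 ↔ _
    by_cases la : F.Lin (a : G)
    · simp [la]
    · simp [la]
  have hNlin : ∀ n ∈ N, F.Lin (n : G) := fun n hn u => by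
    rcases hNcases n hn with h | h | h <;> rw [h, h]
  have hMlin : ∀ m ∈ M, F.Lin (m : G) := fun m hm => by
    have hle : θ.ker ≤ (sg.comp M.subtype).ker := fun a ha => (sg1 _).2 (hNlin _ ((θk a).1 ha))
    let f := θ.liftOfSurjective θs ⟨sg.comp M.subtype, hle⟩
    have hf : ∀ a, f (θ a) = sg a := MonoidHom.liftOfRightInverse_comp_apply θ _ (Function.rightInverse_surjInv θs)
      ⟨sg.comp M.subtype, hle⟩
    rcases IsSimpleGroup.eq_bot_or_eq_top_of_normal f.ker inferInstance with h | h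
    · exfalso
      have h2 := Nat.card_le_card_of_injective f ((MonoidHom.ker_eq_bot_iff f).1 h)
      rw [U43Seven.card_PSU hK, Nat.card_congr Multiplicative.toAdd, Nat.card_zmod] at h2
      omega
    · refine (sg1 m).1 ((hf ⟨m, hm⟩).symm.trans (MonoidHom.mem_ker.1 (h ▸ Subgroup.mem_top _)))
  have hLM : ∀ a : Subgroup.centralizer ({z} : Set G), F.Lin (a : G) → a ∈ M := fun a la => by
    by_contra ha
    obtain ⟨b, hb, hbl⟩ := S.exists_nonlin
    set b' : Subgroup.centralizer ({z} : Set G) :=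
      ⟨b, Subgroup.mem_centralizer_singleton_iff.2 (S.link.mem_cen.1 hb).2⟩
    have hb' : b' ∉ M := fun h => hbl (hMlin _ h)
    have h2 : b' * a ∈ M := (Subgroup.mul_mem_iff_of_index_two hMi).2 (iff_of_false hb' ha)
    have h3 := F.lin_mul (hcz (b' * a)) (hcz a).inv_left (hMlin _ h2) (F.lin_inv (hcz a) la)
    rw [Subgroup.coe_mul, mul_inv_cancel_right] at h3
    exact hbl h3
  -- the map onto the simple group
  have hYM : ∀ b : Y, (b : Subgroup.centralizer ({z} : Set G)) ∈ M := fun b =>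
    hLM _ (hxS.lin_of_comm (hcz _) ((memY _).1 b.2))
  let φ : Y →* PSU 4 K 3 := θ.comp (Y.subtype.codRestrict M hYM)
  have hφ : ∀ b, φ b = θ ⟨b, hYM b⟩ := fun b => rfl
  have φs : Function.Surjective φ := fun u => by
    obtain ⟨m, rfl⟩ := θs u
    obtain ⟨q, hq, hc⟩ := hxS.exists_lift (hcz m) (hMlin _ m.2)
    obtain ⟨q', hq', rfl⟩ := hq
    refine ⟨⟨q' * (m : Subgroup.centralizer ({z} : Set G)), (memY _).2 hc⟩, ?_⟩
    rw [hφ, show (⟨q' * (m : Subgroup.centralizer ({z} : Set G)), hYM ⟨_, (memY _).2 hc⟩⟩ : M) =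
      ⟨q', hNM (hQN hq')⟩ * m from Subtype.ext rfl, map_mul, (θk _).2 (hQN hq'), one_mul]
  set xY : Y := ⟨x, (memY _).2 (Commute.refl _)⟩
  set zY : Y := ⟨⟨z, Subgroup.mem_centralizer_singleton_iff.2 rfl⟩, (memY _).2 hxS.comm.symm⟩
  have hzN : (zY : Subgroup.centralizer ({z} : Set G)) ∈ N := hQN ((hmemQ _).1 F.z_mem)
  have hxN : x ∈ N := by
    obtain ⟨n, hn, hn1⟩ : ∃ n ∈ N, n ∉ Q := by
      by_contra hall
      push Not at hall
      have := Subgroup.card_le_of_le (show N ≤ Q from hall)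
      rw [hNc, hQc] at this
      norm_num at this
    have hcases : ∀ n ∈ N, (∀ u, F.pi (n : G) u = om u) → x ∈ N := fun n hn h => by
      have : n⁻¹ * x ∈ Q := (hker _).1 (Equiv.ext fun u => by
        rw [Frame.permHom_apply, Subgroup.coe_mul, Subgroup.coe_inv, F.pi_mul (hcz n).inv_left (hcz x), hxact,
          ← h, F.pi_inv_apply (hcz n)]; rfl)
      simpa using mul_mem hn (hQN this)
    rcases hNcases n hn with h | h | h
    · exact absurd ((hker n).1 (Equiv.ext h)) hn1
    · exact hcases n hn h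
    · exact hcases (n * n) (mul_mem hn hn) fun u => by
        rw [Subgroup.coe_mul, F.pi_mul (hcz n) (hcz n), h, h, om_cube]
  have hkerφ : ∀ b, φ b = 1 ↔ ∃ i j : ℕ, b = xY ^ i * zY ^ j := by
    intro b
    rw [hφ, θk]
    constructor
    · intro hn
      have hbx : Commute (b.1 : G) (x : G) := (memY _).1 b.2
      have key : ∀ i : ℕ, (∀ u, F.pi (b.1 : G) u = F.pi ((x : G) ^ i) u) → ∃ i j : ℕ, b = xY ^ i * zY ^ j := by
        intro i h
        have hxi : Commute ((x : G) ^ i) z := hxS.comm.pow_left i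
        have hq : ((x : G) ^ i)⁻¹ * (b.1 : G) ∈ Q.map (Subgroup.centralizer ({z} : Set G)).subtype :=
          F.faithful _ (hxi.inv_left.mul_left (hcz _)) fun u => by
            rw [F.pi_mul hxi.inv_left (hcz _), h, F.pi_inv_apply hxi]
        rcases hxS.fixed_mem hq (((Commute.refl _).pow_right i).inv_right.mul_right hbx.symm) with e | e
        · exact ⟨i, 0, by
            rw [pow_zero, mul_one]
            exact Subtype.ext (Subtype.ext (inv_mul_eq_one.1 e).symm)⟩
        · exact ⟨i, 1, by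
            rw [pow_one]
            exact Subtype.ext (Subtype.ext (inv_mul_eq_iff_eq_mul.1 e))⟩
      rcases hNcases _ hn with h | h | h
      · exact key 0 fun u => by rw [pow_zero, F.pi_one, h]
      · exact key 1 fun u => by rw [pow_one, h, hxact]
      · exact key 2 fun u => by rw [pow_two, F.pi_mul hxS.comm hxS.comm, h, hxact, hxact]
    · rintro ⟨i, j, rfl⟩
      exact N.mul_mem (N.pow_mem hxN i) (N.pow_mem hzN j)
  have hxc : xY ∈ Subgroup.center Y := Subgroup.mem_center_iff.2 fun b =>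
    Subtype.ext (Subtype.ext ((memY _).1 b.2).eq)
  have hzc : zY ∈ Subgroup.center Y := Subgroup.mem_center_iff.2 fun b =>
    Subtype.ext (Subtype.ext (hcz b.1).eq)
  have hcenter : Subgroup.center Y = φ.ker := by
    refine le_antisymm (fun c hc => ?_) fun b hb => ?_
    · have hmem : φ c ∈ Subgroup.center (PSU 4 K 3) := Subgroup.mem_center_iff.2 fun u => by
        obtain ⟨b, rfl⟩ := φs u
        rw [← map_mul, ← map_mul, Subgroup.mem_center_iff.1 hc b]
      rcases IsSimpleGroup.eq_bot_or_eq_top_of_normal (Subgroup.center (PSU 4 K 3)) inferInstance with h | h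
      · exact MonoidHom.mem_ker.2 (Subgroup.mem_bot.1 (h ▸ hmem))
      · exfalso
        letI : CommGroup (PSU 4 K 3) := { (inferInstance : Group (PSU 4 K 3)) with
          mul_comm := fun a b => Subgroup.mem_center_iff.1 (h ▸ Subgroup.mem_top b) a }
        exact hnp IsSimpleGroup.prime_card
    · obtain ⟨i, j, rfl⟩ := (hkerφ b).1 hb
      exact mul_mem (pow_mem hxc i) (pow_mem hzc j)
  have hox : orderOf xY = 3 := orderOf_eq_prime (Subtype.ext (Subtype.ext hxS.cube)) fun e =>
    hx1 (congrArg Subtype.val e)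
  have hoz : orderOf zY = 2 := orderOf_eq_prime (Subtype.ext (Subtype.ext (by
    show z ^ 2 = 1
    rw [pow_two, F.z_sq]))) fun e => F.z_ne (congrArg (fun b : Y => (b.1 : G)) e)
  have hco : Commute xY zY := (Subgroup.mem_center_iff.1 hxc zY).symm
  have hzp : Subgroup.zpowers (xY * zY) = Subgroup.center Y := by
    refine le_antisymm (Subgroup.zpowers_le.2 (mul_mem hxc hzc)) fun b hb => ?_
    obtain ⟨i, j, rfl⟩ := (hkerφ b).1 (hcenter ▸ hb : b ∈ φ.ker)
    refine mul_mem (pow_mem ?_ i) (pow_mem ?_ j)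
    · have e : (xY * zY) ^ 4 = xY := by
        rw [hco.mul_pow, ← pow_mod_orderOf zY, hoz, ← pow_mod_orderOf xY, hox]; simp
      have h4 := pow_mem (Subgroup.mem_zpowers (xY * zY)) 4
      rwa [e] at h4
    · have e : (xY * zY) ^ 3 = zY := by
        rw [hco.mul_pow, ← pow_mod_orderOf zY, hoz, ← pow_mod_orderOf xY, hox]; simp
      have h4 := pow_mem (Subgroup.mem_zpowers (xY * zY)) 3
      rwa [e] at h4
  have hperf : commutator Y = ⊤ := by
    rw [eq_top_iff]
    intro b _
    have h1 : φ b ∈ (commutator Y).map φ := by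
      rw [commutator_def, Subgroup.map_commutator, ← MonoidHom.range_eq_map, MonoidHom.range_eq_top.2 φs,
        ← commutator_def, perfect_of_simple hnp]
      exact Subgroup.mem_top _
    obtain ⟨d, hd, e⟩ := h1
    obtain ⟨i, j, hij⟩ := (hkerφ (d⁻¹ * b)).1 (by rw [map_mul, map_inv, e, inv_mul_cancel])
    rw [← mul_inv_cancel_left d b, hij]
    exact mul_mem hd (mul_mem (pow_mem (hder xY hxD) i) (pow_mem (hder zY hzD) j))
  have e : Y ⧸ Subgroup.center Y ≃* PSU 4 K 3 :=
    (QuotientGroup.quotientMulEquivOfEq hcenter).trans (QuotientGroup.quotientKerEquivOfSurjective φ φs)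
  haveI : Nontrivial (Y ⧸ Subgroup.center Y) := e.toEquiv.nontrivial
  refine ⟨⟨⟨hperf⟩, IsSimpleGroup.isSimpleGroup_of_surjective e.symm.toMonoidHom e.symm.surjective⟩, ?_, ?_,
    K, inferInstance, inferInstance, hK, ⟨e⟩⟩
  · rw [← hzp]; infer_instance
  · rw [← hzp, Nat.card_zpowers, hco.orderOf_mul_eq_mul_orderOf_of_coprime (by rw [hox, hoz]; norm_num), hox, hoz]

end Cfsg.Agent.S5451
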