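import Cfsg.Statements.S5452
import Cfsg.Agent.RecogB.CoverInvolution

set_option autoImplicit false
open Cfsg

namespace Cfsg.Agent.S5452

theorem pow_two_eq_one_zpowers {G : Type*} [Group G] {d : G} (hd : orderOf d = 2) {g : G} :
    (g = 1 ∨ g = d) ↔ g ∈ Subgroup.zpowers d := by
  constructor
  · rintro (rfl | rfl)
    · exact one_mem _
    · exact Subgroup.mem_zpowers _
  · rintro ⟨n, rfl⟩
    rcases Int.emod_two_eq_zero_or_one n with h | h <;> dsimp only <;>
      rw [← zpow_mod_orderOf, hd, Nat.cast_ofNat, h]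
    · exact Or.inl (zpow_zero d)
    · exact Or.inr (zpow_one d)

/-- Let G be a finite group with an involution d whose centralizer C is quasisimple with C modulo the subgroup generated by d isomorphic to the projective special unitary group of dimension 6 over the field with four elements, and suppose some conjugate of d other than d commutes with d. Then every involution of C modulo the subgroup generated by d is the image of an involution of C, and d is not a square in G. -/
theorem result {G : Type*} [Group G] [Finite G] (d : G) (hd : orderOf d = 2) (hq : Cfsg.IsQuasisimple ↥(Subgroup.centralizer ({d} : Set G))) [hzn : ((Subgroup.zpowers d).subgroupOf (Subgroup.centralizer ({d} : Set G))).Normal] (K : Type) [Field K] [Fintype K] (hK : Fintype.card K = 4) (e : ↥(Subgroup.centralizer ({d} : Set G)) ⧸ (Subgroup.zpowers d).subgroupOf (Subgroup.centralizer ({d} : Set G)) ≃* Cfsg.PSU 6 K 2) (hnwc : ∃ g : G, g * d * g⁻¹ ∈ Subgroup.centralizer ({d} : Set G) ∧ g * d * g⁻¹ ≠ d) : (∀ x : ↥(Subgroup.centralizer ({d} : Set G))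 ⧸ (Subgroup.zpowers d).subgroupOf (Subgroup.centralizer ({d} : Set G)), orderOf x = 2 → ∃ y : ↥(Subgroup.centralizer ({d} : Set G)), orderOf y = 2 ∧ (QuotientGroup.mk y : ↥(Subgroup.centralizer ({d} : Set G)) ⧸ (Subgroup.zpowers d).subgroupOf (Subgroup.centralizer ({d} : Set G))) = x) ∧ ¬ ∃ g : G, g ^ 2 = d := by
  classical
  have hd2 : d * d = 1 := by rw [← pow_two, ← hd, pow_orderOf_eq_one]
  have hd1 : d ≠ 1 := fun h => by rw [h, orderOf_one] at hd; omega
  have hmem : d ∈ Subgroup.centralizer ({d} : Set G) :=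
    Subgroup.mem_centralizer_singleton_iff.2 rfl
  set d' : Subgroup.centralizer ({d} : Set G) := ⟨d, hmem⟩ with hd'
  set π : Subgroup.centralizer ({d} : Set G) →* Cfsg.PSU 6 K 2 :=
    e.toMonoidHom.comp (QuotientGroup.mk' _) with hπdef
  have hπ : Function.Surjective π := e.surjective.comp (QuotientGroup.mk'_surjective _)
  have hker : ∀ c, π c = 1 ↔ c = 1 ∨ c = d' := fun c => by
    have h1 : π c = 1 ↔ c ∈ (Subgroup.zpowers d).subgroupOf (Subgroup.centralizer ({d} : Set G)) := by
      show e (QuotientGroup.mk c) = 1 ↔ _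
      rw [map_eq_one_iff e e.injective, QuotientGroup.eq_one_iff]
    rw [h1, Subgroup.mem_subgroupOf, ← pow_two_eq_one_zpowers hd]
    exact or_congr (Subtype.ext_iff (a1 := c) (a2 := 1)).symm (Subtype.ext_iff (a1 := c) (a2 := d')).symm
  have hdd : d' * d' = 1 := Subtype.ext hd2
  have hdc : ∀ c : Subgroup.centralizer ({d} : Set G), c * d' = d' * c := fun c =>
    Subtype.ext (Subgroup.mem_centralizer_singleton_iff.1 c.2)
  have hF : Fintype.card K = 2 ^ 2 := by rw [hK]; norm_num
  have key : ∀ y : Subgroup.centralizer ({d} : Set G), π y * π y = 1 → y * y = 1 := fun y h =>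
    RecogB.CoverInvolution.sq_eq_one_of_image hF π hπ d' hker hdd hdc h
  refine ⟨fun x hx => ?_, ?_⟩
  · obtain ⟨y, rfl⟩ := QuotientGroup.mk_surjective x
    refine ⟨y, ?_, rfl⟩
    have hx2 : π y * π y = 1 := by
      show e (QuotientGroup.mk y) * e (QuotientGroup.mk y) = 1
      rw [← map_mul, ← pow_two, orderOf_eq_iff (by norm_num) |>.1 hx |>.1, map_one]
    refine orderOf_eq_prime (by rw [pow_two]; exact key y hx2) fun h => ?_
    rw [h, QuotientGroup.mk_one, orderOf_one] at hx
    omega
  · rintro ⟨g, hg⟩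
    have hgC : g ∈ Subgroup.centralizer ({d} : Set G) := Subgroup.mem_centralizer_singleton_iff.2 (by rw [← hg]; group)
    have h1 : π ⟨g, hgC⟩ * π ⟨g, hgC⟩ = 1 := by
      rw [← map_mul]
      exact (hker _).2 (Or.inr (Subtype.ext (by show g * g = d; rw [← pow_two, hg])))
    have := congrArg Subtype.val (key _ h1)
    exact hd1 (by rw [← hg, pow_two]; exact this)

end Cfsg.Agent.S5452
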