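import Cfsg.Statements.S5453
import Cfsg.Agent.RecogB.M22Cover
import Cfsg.Agent.Lib.FischerSpace.SimpleDerived

set_option autoImplicit false
open Cfsg

namespace Cfsg.Agent.S5453

/-- Let G be a finite group with an involution d whose centralizer C is quasisimple, such that C modulo the subgroup generated by d is of type M(22) with respect to some conjugacy class of 3-transpositions generating it and also has an involution whose own centralizer is quasisimple with quotient by it isomorphic to the projective special unitary group of dimension 6 over the field with four elements and which is not weakly closed in that centralizer; and suppose some conjugate of d other than d commutes with d. Then every involution of C modulo the subgroup generated by d is the image of an involution of C, and d is not a square in G. -/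
theorem result {G : Type*} [Group G] [Finite G] (d : G) (hd : orderOf d = 2) (hq : Cfsg.IsQuasisimple ↥(Subgroup.centralizer ({d} : Set G))) [hzn : ((Subgroup.zpowers d).subgroupOf (Subgroup.centralizer ({d} : Set G))).Normal] (htype : ∃ E : Set (↥(Subgroup.centralizer ({d} : Set G)) ⧸ (Subgroup.zpowers d).subgroupOf (Subgroup.centralizer ({d} : Set G))), Cfsg.IsThreeTranspositionClass E ∧ Cfsg.IsOfTypeM22 _ E) (hinvol : ∃ d' : ↥(Subgroup.centralizer ({d} : Set G)) ⧸ (Subgroup.zpowers d).subgroupOf (Subgroup.centralizer ({d} : Set G)), orderOf d' = 2 ∧ Cfsg.IsQuasisimple ↥(Subgroup.centralizer ({d'} : Set _)) ∧ (∃ (K : Type) (_ : Field K) (_ : Fintype K), Fintype.card K = 4 ∧ ∃ _ : ((Subgroup.zpowers d').subgroupOf (Subgroup.centralizer ({d'} : Set _))).Normal, Nonempty (↥(Subgroup.centralizer ({d'} : Set _)) ⧸ (Subgroup.zpowers d').subgroupOf (Subgroup.centralizer ({d'} : Set _)) ≃* Cfsg.PSU 6 K 2)) ∧ ∃ g, g * d' * g⁻¹ ∈ Subgroup.centralizer ({d'} : Set _) ∧ g * d' * g⁻¹ ≠ d') (hnwc : ∃ g : G, g * d * g⁻¹ ∈ Subgroup.centralizer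 ({d} : Set G) ∧ g * d * g⁻¹ ≠ d) : (∀ x : ↥(Subgroup.centralizer ({d} : Set G)) ⧸ (Subgroup.zpowers d).subgroupOf (Subgroup.centralizer ({d} : Set G)), orderOf x = 2 → ∃ y : ↥(Subgroup.centralizer ({d} : Set G)), orderOf y = 2 ∧ (QuotientGroup.mk y : ↥(Subgroup.centralizer ({d} : Set G)) ⧸ (Subgroup.zpowers d).subgroupOf (Subgroup.centralizer ({d} : Set G))) = x) ∧ ¬ ∃ g : G, g ^ 2 = d := by
  classical
  obtain ⟨E, hE, h22⟩ := htype
  have hd2 : d * d = 1 := by rw [← pow_two, ← hd, pow_orderOf_eq_one]
  have hd1 : d ≠ 1 := fun h => by rw [h, orderOf_one] at hd; omega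
  have hmem : d ∈ Subgroup.centralizer ({d} : Set G) := Subgroup.mem_centralizer_singleton_iff.2 rfl
  set d' : Subgroup.centralizer ({d} : Set G) := ⟨d, hmem⟩ with hd'
  have hdc : ∀ c : Subgroup.centralizer ({d} : Set G), c * d' = d' * c := fun c =>
    Subtype.ext (Subgroup.mem_centralizer_singleton_iff.1 c.2)
  have hdd : d' * d' = 1 := Subtype.ext hd2
  set π := QuotientGroup.mk' ((Subgroup.zpowers d).subgroupOf (Subgroup.centralizer ({d} : Set G))) with hπdef
  have hπ : Function.Surjective π := QuotientGroup.mk'_surjective _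
  have hker : ∀ c, π c = 1 ↔ c = 1 ∨ c = d' := fun c => by
    rw [hπdef, QuotientGroup.mk'_apply, QuotientGroup.eq_one_iff, Subgroup.mem_subgroupOf]
    refine ⟨fun h => ?_, ?_⟩
    · obtain ⟨n, hn⟩ := Subgroup.mem_zpowers_iff.1 h
      rcases Int.emod_two_eq_zero_or_one n with h | h <;>
        rw [← zpow_mod_orderOf, hd, Nat.cast_ofNat, h] at hn
      · exact Or.inl (Subtype.ext (hn.symm.trans (zpow_zero d)))
      · exact Or.inr (Subtype.ext (hn.symm.trans (zpow_one d)))
    · rintro (rfl | rfl)
      · exact one_mem _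
      · exact Subgroup.mem_zpowers d
  have hZeq : Subgroup.center (Subgroup.centralizer ({d} : Set G)) =
      (Subgroup.zpowers d).subgroupOf (Subgroup.centralizer ({d} : Set G)) := by
    refine le_antisymm (fun c hc => ?_) (fun c hc => ?_)
    · have : π c ∈ Subgroup.center _ := Subgroup.mem_center_iff.2 fun x => by
        obtain ⟨y, rfl⟩ := hπ x
        rw [← map_mul, ← map_mul, Subgroup.mem_center_iff.1 hc y]
      rw [h22.1, Subgroup.mem_bot] at this
      exact (QuotientGroup.eq_one_iff c).1 this
    · rcases (hker c).1 ((QuotientGroup.eq_one_iff c).2 hc) with rfl | rfl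
      · exact one_mem _
      · exact Subgroup.mem_center_iff.2 hdc
  obtain ⟨hperf, hsimpleC⟩ := hq
  haveI hsimple : IsSimpleGroup (Subgroup.centralizer ({d} : Set G) ⧸ (Subgroup.zpowers d).subgroupOf (Subgroup.centralizer ({d} : Set G))) := (QuotientGroup.quotientMulEquivOfEq hZeq).symm.isSimpleGroup
  have hQperf : commutator (Subgroup.centralizer ({d} : Set G) ⧸ (Subgroup.zpowers d).subgroupOf (Subgroup.centralizer ({d} : Set G))) = ⊤ := by
    rw [eq_top_iff, commutator_def]
    intro x _
    obtain ⟨y, rfl⟩ := hπ x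
    have h1 := Group.isPerfect_def.1 hperf
    have h2 := Subgroup.mem_map_of_mem π (show y ∈ commutator _ by rw [h1]; trivial)
    rw [commutator_def, Subgroup.map_commutator] at h2
    exact Subgroup.commutator_mono le_top le_top h2
  obtain ⟨-, a, ha, b, hb, hab, -⟩ := id h22
  have hne : a ≠ b := fun e => hab (e ▸ Commute.refl a)
  have hnc : ¬ IsMulCommutative (commutator (Subgroup.centralizer ({d} : Set G) ⧸ (Subgroup.zpowers d).subgroupOf (Subgroup.centralizer ({d} : Set G)))) := fun h => hab (by
    have := h.is_comm.comm (⟨a, by rw [hQperf]; trivial⟩ : commutator (Subgroup.centralizer ({d} : Set G) ⧸ (Subgroup.zpowers d).subgroupOf (Subgroup.centralizer ({d} : Set G)))) ⟨b, by rw [hQperf]; trivial⟩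
    exact congrArg Subtype.val this)
  haveI : IsSimpleGroup (commutator (Subgroup.centralizer ({d} : Set G) ⧸ (Subgroup.zpowers d).subgroupOf (Subgroup.centralizer ({d} : Set G)))) :=
    ((MulEquiv.subgroupCongr hQperf).trans Subgroup.topEquiv).isSimpleGroup
  have hprim := FischerSpace.primitive_of_simple_commutator hE ⟨a, ha, b, hb, hne⟩ inferInstance hnc
  have hD : Cfsg.IsThreeTranspositionGroup E := by
    refine ⟨hE.1, fun g x hx => ?_, hE.2.2⟩
    obtain ⟨e₀, -, he⟩ := hE.2.1
    rw [he] at hx ⊢
    exact IsConj.trans hx (isConj_iff.2 ⟨g, rfl⟩)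
  have hC := TT95.cfg22_of_type hD hprim h22
  haveI := TT95.Gen.of_group hD
  have key : ∀ y, π y * π y = 1 → y * y = 1 := fun y h =>
    RecogB.M22Cover.sq_eq_one_of_image π hπ d' hker hdd hdc hC (TT95.core22_of_type h22) h
  refine ⟨fun x hx => ?_, ?_⟩
  · obtain ⟨y, rfl⟩ := hπ x
    refine ⟨y, ?_, rfl⟩
    have hx2 : π y * π y = 1 := by
      rw [← pow_two, ← hx, pow_orderOf_eq_one]
    refine orderOf_eq_prime (by rw [pow_two]; exact key y hx2) fun h => ?_
    rw [h, map_one, orderOf_one] at hx
    omega
  · rintro ⟨g, hg⟩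
    have hgC : g ∈ Subgroup.centralizer ({d} : Set G) :=
      Subgroup.mem_centralizer_singleton_iff.2 (by rw [← hg]; group)
    have h1 : π ⟨g, hgC⟩ * π ⟨g, hgC⟩ = 1 := by
      rw [← map_mul]
      exact (hker _).2 (Or.inr (Subtype.ext (by show g * g = d; rw [← pow_two, hg])))
    have := congrArg Subtype.val (key _ h1)
    exact hd1 (by rw [← hg, pow_two]; exact this)

end Cfsg.Agent.S5453
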