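import Cfsg.Statements.S5454
import Cfsg.Agent.U6Thompson.Count

set_option autoImplicit false
open Cfsg

namespace Cfsg.Agent.S5454

/-- Let G be a finite group with an involution d whose centralizer C is quasisimple with C modulo the subgroup generated by d isomorphic to the projective special unitary group of dimension 6 over the field with four elements, and suppose some conjugate of d other than d commutes with d. Let S be a Sylow 2-subgroup of C and A the Thompson subgroup of S (generated by the elementary abelian subgroups of S of largest order), regarded as a subgroup of G. Then A is elementary abelian of order 2^10, exactly 22 conjugates of d lie in A, and the normalizer of A permutes them transitively. -/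
theorem result {G : Type*} [Group G] [Finite G] (d : G) (hd : orderOf d = 2) (hq : Cfsg.IsQuasisimple ↥(Subgroup.centralizer ({d} : Set G))) [hzn : ((Subgroup.zpowers d).subgroupOf (Subgroup.centralizer ({d} : Set G))).Normal] (K : Type) [Field K] [Fintype K] (hK : Fintype.card K = 4) (e : ↥(Subgroup.centralizer ({d} : Set G)) ⧸ (Subgroup.zpowers d).subgroupOf (Subgroup.centralizer ({d} : Set G)) ≃* Cfsg.PSU 6 K 2) (hnwc : ∃ g : G, g * d * g⁻¹ ∈ Subgroup.centralizer ({d} : Set G) ∧ g * d * g⁻¹ ≠ d) (S : Sylow 2 ↥(Subgroup.centralizer ({d} : Set G))) (A : Subgroup G) (hA : A = (Cfsg.thompsonSubgroupOf 2 (S : Subgroup ↥(Subgroup.centralizer ({d} : Set G)))).map (Subgroup.centralizer ({d} : Set G)).subtype) : Cfsg.IsElementaryAbelian 2 A ∧ Nat.card A = 2 ^ 10 ∧ Set.ncard {x : G | x ∈ A ∧ IsConj d x} = 22 ∧ ∀ x ∈ A, ∀ y ∈ A, IsConj d x → IsConj d y → ∃ n ∈ Subgroup.normalizer (A : Set G), n * x * n⁻¹ = y := by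
  classical
  have hF : Fintype.card K = 2 ^ 2 := by rw [hK]; norm_num
  let H := Subgroup.centralizer ({d} : Set G)
  let π : H →* PSU 6 K 2 := e.toMonoidHom.comp (QuotientGroup.mk' ((Subgroup.zpowers d).subgroupOf H))
  have hπ : Function.Surjective π := e.surjective.comp (QuotientGroup.mk'_surjective _)
  have hd2 : d * d = 1 := by rw [← pow_two, ← hd, pow_orderOf_eq_one]
  have hd1 : d ≠ 1 := fun h => by rw [h, orderOf_one] at hd; omega
  set dC : H := ⟨d, Subgroup.mem_centralizer_singleton_iff.2 rfl⟩ with hdC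
  have hdd : dC * dC = 1 := Subtype.ext hd2
  have hdC1 : dC ≠ 1 := fun h => hd1 (congrArg Subtype.val h)
  have hdc : ∀ c : H, c * dC = dC * c := fun c =>
    Subtype.ext (Subgroup.mem_centralizer_singleton_iff.1 c.2)
  have hker : ∀ c, π c = 1 ↔ c = 1 ∨ c = dC := fun c => by
    rw [show π c = e (QuotientGroup.mk c) from rfl, map_eq_one_iff e e.injective,
      QuotientGroup.eq_one_iff, Subgroup.mem_subgroupOf]
    refine ⟨fun h => ?_, ?_⟩
    · obtain ⟨n, hn⟩ := Subgroup.mem_zpowers_iff.1 h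
      rcases Int.emod_two_eq_zero_or_one n with h | h <;>
        rw [← zpow_mod_orderOf, hd, Nat.cast_ofNat, h] at hn
      · exact Or.inl (Subtype.ext (hn.symm.trans (zpow_zero d)))
      · exact Or.inr (Subtype.ext (hn.symm.trans (zpow_one d)))
    · rintro (rfl | rfl)
      · exact one_mem _
      · exact Subgroup.mem_zpowers d
  let P : H → Prop := fun x => IsConj d (x : G)
  have hconjd : ∀ c : H, (c : G) * d * (c : G)⁻¹ = d := fun c => by
    rw [Subgroup.mem_centralizer_singleton_iff.1 c.2, mul_inv_cancel_right]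
  have hPc : ∀ c x : H, P (c * x * c⁻¹) ↔ P x := fun c x => by
    refine ⟨fun h => h.trans (isConj_iff.2 ⟨(c : G)⁻¹, ?_⟩),
      fun h => h.trans (isConj_iff.2 ⟨(c : G), rfl⟩)⟩
    show (c : G)⁻¹ * ((c : G) * x * (c : G)⁻¹) * (c : G)⁻¹⁻¹ = x
    group
  have hP1 : ¬ P 1 := fun h => by
    obtain ⟨g, hg⟩ := isConj_iff.1 h
    exact hd1 (conj_eq_one_iff.1 hg)
  have hPinv : ∀ x, P x → x * x = 1 := fun x h => by
    obtain ⟨g, hg⟩ := isConj_iff.1 h
    refine Subtype.ext ?_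
    show (x : G) * x = 1
    rw [← hg, show g * d * g⁻¹ * (g * d * g⁻¹) = g * (d * d) * g⁻¹ by group, hd2, mul_one,
      mul_inv_cancel]
  have hPsq : ∀ y : H, ¬ P (y * y) := fun y h => by
    obtain ⟨g, hg⟩ := isConj_iff.1 h
    set z := g⁻¹ * (y : G) * g with hz
    have hzz : z * z = d := by
      rw [hz, show g⁻¹ * (y : G) * g * (g⁻¹ * (y : G) * g) = g⁻¹ * ((y : G) * y) * g by group,
        show (y : G) * y = g * d * g⁻¹ from hg.symm]
      group
    have hzH : z ∈ H := Subgroup.mem_centralizer_singleton_iff.2 (by rw [← hzz]; group)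
    have h1 : π ⟨z, hzH⟩ * π ⟨z, hzH⟩ = 1 := by
      rw [← map_mul]; exact (hker _).2 (Or.inr (Subtype.ext hzz))
    have := congrArg Subtype.val
      (RecogB.CoverInvolution.sq_eq_one_of_image hF π hπ dC hker hdd hdc h1)
    exact hd1 (hzz ▸ this)
  have hNW : ∃ x, P x ∧ x ≠ dC := by
    obtain ⟨g, hg, hne⟩ := hnwc
    exact ⟨⟨_, hg⟩, isConj_iff.2 ⟨g, rfl⟩, fun h => hne (congrArg Subtype.val h)⟩
  set AG : Subgroup G := (U6Thompson.Ab π).map H.subtype with hAG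
  have memAG : ∀ z : G, z ∈ AG ↔ ∃ h : z ∈ H, (⟨z, h⟩ : H) ∈ U6Thompson.Ab π := fun z =>
    ⟨by rintro ⟨w, hw, rfl⟩; exact ⟨w.2, hw⟩, fun ⟨h, hz⟩ => ⟨_, hz, rfl⟩⟩
  have hEA := U6Thompson.Ab_EA hF π hπ dC hker hdd hdC1 hdc
  have hmove : ∀ z ∈ AG, IsConj d z →
      ∃ n : G, n * d * n⁻¹ = z ∧ ∀ a, a ∈ AG ↔ n * a * n⁻¹ ∈ AG := by
    intro z hz hzc
    obtain ⟨g, hg⟩ := isConj_iff.1 hzc
    obtain ⟨hzH, hzA⟩ := (memAG z).1 hz
    let D : Subgroup H := (AG.comap (MulAut.conj g).toMonoidHom).subgroupOf H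
    have hin : ∀ a ∈ AG, g⁻¹ * a * g ∈ H := fun a ha => by
      obtain ⟨haH, haA⟩ := (memAG a).1 ha
      have hc : a * z = z * a := congrArg Subtype.val (congrArg Subtype.val
        (hEA.1.is_comm.comm (⟨⟨a, haH⟩, haA⟩ : U6Thompson.Ab π) ⟨⟨z, hzH⟩, hzA⟩))
      refine Subgroup.mem_centralizer_singleton_iff.2 ?_
      calc g⁻¹ * a * g * d = g⁻¹ * (a * z) * g := by rw [← hg]; group
        _ = g⁻¹ * (z * a) * g := by rw [hc]
        _ = d * (g⁻¹ * a * g) := by rw [← hg]; group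
    have hDc : Nat.card D = 2 ^ 10 := by
      rw [← U6Thompson.card_Ab hF π hπ dC hker hdd hdC1 hdc,
        ← (show Nat.card AG = Nat.card (U6Thompson.Ab π) from
          Subgroup.card_map_of_injective H.subtype_injective)]
      exact Nat.card_congr
        { toFun := fun a => ⟨g * a.1.1 * g⁻¹, a.2⟩
          invFun := fun a => ⟨⟨g⁻¹ * a.1 * g, hin _ a.2⟩, by
            show g * (g⁻¹ * a.1 * g) * g⁻¹ ∈ AG
            rw [show g * (g⁻¹ * a.1 * g) * g⁻¹ = a.1 by group]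
            exact a.2⟩
          left_inv := fun a => by ext; simp [mul_assoc]
          right_inv := fun a => by ext; simp [mul_assoc] }
    have hDe : IsElementaryAbelian 2 D := by
      refine ⟨⟨⟨fun a b => ?_⟩⟩, fun a ha => ?_⟩
      · obtain ⟨h1, h1'⟩ := (memAG _).1 a.2
        obtain ⟨h2, h2'⟩ := (memAG _).1 b.2
        have hc : g * a.1.1 * g⁻¹ * (g * b.1.1 * g⁻¹) = g * b.1.1 * g⁻¹ * (g * a.1.1 * g⁻¹) :=
          congrArg Subtype.val (congrArg Subtype.val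
            (hEA.1.is_comm.comm (⟨_, h1'⟩ : U6Thompson.Ab π) ⟨_, h2'⟩))
        rw [conj_mul, conj_mul] at hc
        ext
        exact mul_left_cancel (mul_right_cancel hc)
      · obtain ⟨h1, h1'⟩ := (memAG _).1 ha
        have hc : (g * a.1 * g⁻¹) ^ 2 = 1 := congrArg Subtype.val (hEA.2 _ h1')
        rw [conj_pow, conj_eq_one_iff] at hc
        exact Subtype.ext hc
    obtain ⟨c, hc⟩ := (U6Thompson.EA_cover hF π hπ dC hker hdd hdC1 hdc D hDe).2 hDc
    refine ⟨g * (c : G)⁻¹, ?_, fun a => ?_⟩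
    · have h1 : (c : G)⁻¹ * d * ((c : G)⁻¹)⁻¹ = d := hconjd c⁻¹
      calc g * (c : G)⁻¹ * d * (g * (c : G)⁻¹)⁻¹
          = g * ((c : G)⁻¹ * d * ((c : G)⁻¹)⁻¹) * g⁻¹ := by group
        _ = z := by rw [h1, hg]
    · constructor
      · intro ha
        obtain ⟨haH, haA⟩ := (memAG a).1 ha
        have h2 : c⁻¹ * (⟨a, haH⟩ : H) * c ∈ D := (hc _).2 (by
          rw [show c * (c⁻¹ * (⟨a, haH⟩ : H) * c) * c⁻¹ = ⟨a, haH⟩ by group]; exact haA)
        have h3 : g * ((c : G)⁻¹ * a * c) * g⁻¹ ∈ AG := h2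
        rwa [show g * (c : G)⁻¹ * a * (g * (c : G)⁻¹)⁻¹ = g * ((c : G)⁻¹ * a * c) * g⁻¹ by group]
      · intro ha
        rw [show g * (c : G)⁻¹ * a * (g * (c : G)⁻¹)⁻¹ = g * ((c : G)⁻¹ * a * c) * g⁻¹ by group] at ha
        have hw : (c : G)⁻¹ * a * c ∈ H := by
          have := hin _ ha
          rwa [show g⁻¹ * (g * ((c : G)⁻¹ * a * c) * g⁻¹) * g = (c : G)⁻¹ * a * c by group] at this
        have h4 := (hc ⟨_, hw⟩).1 ha
        exact ⟨_, h4, by show (c : G) * ((c : G)⁻¹ * a * c) * (c : G)⁻¹ = a; group⟩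
  have hT : ∀ (x : H) (hx : x ∈ U6Thompson.Ab π), P x → ∃ φ : U6Thompson.Ab π ≃* U6Thompson.Ab π,
      (∀ a : U6Thompson.Ab π, (a : H) = dC → φ a = ⟨x, hx⟩) ∧
        ∀ a : U6Thompson.Ab π, P (φ a : H) ↔ P (a : H) := by
    intro x hx hPx
    obtain ⟨n, hn, hnA⟩ := hmove (x : G) ⟨x, hx, rfl⟩ hPx
    let f : U6Thompson.Ab π → U6Thompson.Ab π := fun a =>
      ⟨⟨n * (a.1 : G) * n⁻¹, ((memAG _).1 ((hnA _).1 ⟨a.1, a.2, rfl⟩)).choose⟩,
        ((memAG _).1 ((hnA _).1 ⟨a.1, a.2, rfl⟩)).choose_spec⟩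
    have hf : Function.Bijective f := Finite.injective_iff_bijective.1 fun a b h => by
      have h' : n * (a.1 : G) * n⁻¹ = n * (b.1 : G) * n⁻¹ :=
        congrArg (fun z : U6Thompson.Ab π => (z.1 : G)) h
      exact Subtype.ext (Subtype.ext (mul_left_cancel (mul_right_cancel h')))
    refine ⟨MulEquiv.mk (Equiv.ofBijective f hf) fun a b => Subtype.ext (Subtype.ext ?_), ?_, ?_⟩
    · show n * ((a.1 : G) * b.1) * n⁻¹ = n * a.1 * n⁻¹ * (n * b.1 * n⁻¹)
      group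
    · intro a ha
      refine Subtype.ext (Subtype.ext ?_)
      show n * (a.1 : G) * n⁻¹ = x
      rw [ha]
      exact hn
    · intro a
      show IsConj d (n * (a.1 : G) * n⁻¹) ↔ IsConj d (a.1 : G)
      exact ⟨fun h => h.trans (isConj_iff.2 ⟨n⁻¹, by group⟩),
        fun h => h.trans (isConj_iff.2 ⟨n, rfl⟩)⟩
  have hperf : commutator H = ⊤ := Group.isPerfect_def.1 hq.1
  have hcount := U6Thompson.card_eq hF π hπ dC hker hdd hdC1 hdc P (IsConj.refl d) hP1 hPc hPsq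
    hPinv hNW hT hperf
  obtain ⟨c, hc⟩ := U6Thompson.thompson_eq hF π hπ dC hker hdd hdC1 hdc S
  have memA : ∀ z : G, z ∈ A ↔ (c : G) * z * (c : G)⁻¹ ∈ AG := by
    intro z
    rw [hA]
    constructor
    · rintro ⟨w, hw, rfl⟩
      exact ⟨_, (hc w).1 hw, rfl⟩
    · intro hz
      obtain ⟨h, h'⟩ := (memAG _).1 hz
      have hzH : z ∈ H := by
        have := mul_mem (mul_mem (inv_mem c.2) h) c.2
        rwa [show (c : G)⁻¹ * ((c : G) * z * (c : G)⁻¹) * c = z by group] at this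
      exact ⟨⟨z, hzH⟩, (hc _).2 h', rfl⟩
  have hcd : ∀ z, IsConj d ((c : G) * z * (c : G)⁻¹) ↔ IsConj d z := fun z =>
    ⟨fun h => h.trans (isConj_iff.2 ⟨(c : G)⁻¹, by group⟩),
      fun h => h.trans (isConj_iff.2 ⟨(c : G), rfl⟩)⟩
  refine ⟨⟨⟨⟨fun a b => ?_⟩⟩, fun a ha => ?_⟩, ?_, ?_, ?_⟩
  · obtain ⟨h1, h1'⟩ := (memAG _).1 ((memA _).1 a.2)
    obtain ⟨h2, h2'⟩ := (memAG _).1 ((memA _).1 b.2)
    have h3 : (c : G) * a * (c : G)⁻¹ * ((c : G) * b * (c : G)⁻¹) =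
        (c : G) * b * (c : G)⁻¹ * ((c : G) * a * (c : G)⁻¹) :=
      congrArg Subtype.val (congrArg Subtype.val
        (hEA.1.is_comm.comm (⟨_, h1'⟩ : U6Thompson.Ab π) ⟨_, h2'⟩))
    rw [conj_mul, conj_mul] at h3
    ext
    exact mul_left_cancel (mul_right_cancel h3)
  · obtain ⟨h1, h1'⟩ := (memAG _).1 ((memA _).1 ha)
    have h3 : ((c : G) * a * (c : G)⁻¹) ^ 2 = 1 := congrArg Subtype.val (hEA.2 _ h1')
    rwa [conj_pow, conj_eq_one_iff] at h3
  · rw [← U6Thompson.card_Ab hF π hπ dC hker hdd hdC1 hdc,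
      ← (show Nat.card AG = Nat.card (U6Thompson.Ab π) from
        Subgroup.card_map_of_injective H.subtype_injective)]
    exact Nat.card_congr
      { toFun := fun a => ⟨(c : G) * a.1 * (c : G)⁻¹, (memA _).1 a.2⟩
        invFun := fun a => ⟨(c : G)⁻¹ * a.1 * c, (memA _).2 (by
          rw [show (c : G) * ((c : G)⁻¹ * a.1 * c) * (c : G)⁻¹ = a.1 by group]; exact a.2)⟩
        left_inv := fun a => by ext; simp [mul_assoc]
        right_inv := fun a => by ext; simp [mul_assoc] }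
  · have himg : {x : G | x ∈ A ∧ IsConj d x} =
        (fun w : H => (c : G)⁻¹ * w * c) '' {w : H | w ∈ U6Thompson.Ab π ∧ P w} := by
      ext z
      constructor
      · rintro ⟨h1, h2⟩
        obtain ⟨h3, h3'⟩ := (memAG _).1 ((memA z).1 h1)
        exact ⟨⟨_, h3⟩, ⟨h3', (hcd z).2 h2⟩,
          show (c : G)⁻¹ * ((c : G) * z * (c : G)⁻¹) * c = z by group⟩
      · rintro ⟨w, ⟨hw, hPw⟩, rfl⟩
        have e1 : (c : G) * ((c : G)⁻¹ * w * c) * (c : G)⁻¹ = w := by group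
        exact ⟨(memA _).2 (by rw [e1]; exact ⟨w, hw, rfl⟩), (hcd _).1 (by rw [e1]; exact hPw)⟩
    rw [himg, Set.ncard_image_of_injective _ (fun a b h =>
      Subtype.ext (mul_left_cancel (mul_right_cancel h))), hcount]
  · intro x hx y hy hxd hyd
    obtain ⟨nx, hnx, hnxA⟩ := hmove _ ((memA x).1 hx) ((hcd x).2 hxd)
    obtain ⟨ny, hny, hnyA⟩ := hmove _ ((memA y).1 hy) ((hcd y).2 hyd)
    refine ⟨(c : G)⁻¹ * (ny * nx⁻¹) * c, Subgroup.mem_normalizer_iff.2 fun h => ?_, ?_⟩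
    · rw [memA, memA]
      calc (c : G) * h * (c : G)⁻¹ ∈ AG ↔ nx⁻¹ * ((c : G) * h * (c : G)⁻¹) * nx⁻¹⁻¹ ∈ AG :=
            ⟨fun h' => (hnxA _).2 (by
              rw [show nx * (nx⁻¹ * ((c : G) * h * (c : G)⁻¹) * nx⁻¹⁻¹) * nx⁻¹ =
                (c : G) * h * (c : G)⁻¹ by group]; exact h'),
            fun h' => by
              have := (hnxA _).1 h'
              rwa [show nx * (nx⁻¹ * ((c : G) * h * (c : G)⁻¹) * nx⁻¹⁻¹) * nx⁻¹ =
                (c : G) * h * (c : G)⁻¹ by group] at this⟩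
        _ ↔ ny * (nx⁻¹ * ((c : G) * h * (c : G)⁻¹) * nx⁻¹⁻¹) * ny⁻¹ ∈ AG := hnyA _
        _ ↔ _ := by
          rw [show ny * (nx⁻¹ * ((c : G) * h * (c : G)⁻¹) * nx⁻¹⁻¹) * ny⁻¹ =
            (c : G) * ((c : G)⁻¹ * (ny * nx⁻¹) * c * h * ((c : G)⁻¹ * (ny * nx⁻¹) * c)⁻¹) * (c : G)⁻¹
            by group]
    · calc (c : G)⁻¹ * (ny * nx⁻¹) * c * x * ((c : G)⁻¹ * (ny * nx⁻¹) * c)⁻¹
          = (c : G)⁻¹ * (ny * (nx⁻¹ * ((c : G) * x * (c : G)⁻¹) * nx) * ny⁻¹) * c := by group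
        _ = (c : G)⁻¹ * (ny * d * ny⁻¹) * c := by
          rw [← hnx]; group
        _ = y := by rw [hny]; group

end Cfsg.Agent.S5454
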