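import Cfsg.Statements.S5455
import Cfsg.Agent.M22Double.Main
import Cfsg.Agent.Lib.FischerSpace.SimpleDerived
-- import your own Cfsg.Agent.* helpers here

set_option autoImplicit false
open Cfsg

namespace Cfsg.Agent.S5455

/-- Let G be a finite group with an involution d whose centralizer C is quasisimple, such that C modulo the subgroup generated by d is of type M(22) with respect to some conjugacy class of 3-transpositions generating it and also has an involution whose own centralizer is quasisimple with quotient by it isomorphic to the projective special unitary group of dimension 6 over the field with four elements and which is not weakly closed in that centralizer; and suppose some conjugate of d other than d commutes with d. Let S be a Sylow 2-subgroup of C and A the Thompson subgroup of S, regarded as a subgroup of G. Then A is elementary abelian of order 2^11, exactly 23 conjugates of d lie in A, and the normalizer of A permutes them transitively. -/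
theorem result {G : Type*} [Group G] [Finite G] (d : G) (hd : orderOf d = 2) (hq : Cfsg.IsQuasisimple ↥(Subgroup.centralizer ({d} : Set G))) [hzn : ((Subgroup.zpowers d).subgroupOf (Subgroup.centralizer ({d} : Set G))).Normal] (htype : ∃ E : Set (↥(Subgroup.centralizer ({d} : Set G)) ⧸ (Subgroup.zpowers d).subgroupOf (Subgroup.centralizer ({d} : Set G))), Cfsg.IsThreeTranspositionClass E ∧ Cfsg.IsOfTypeM22 _ E) (hinvol : ∃ d' : ↥(Subgroup.centralizer ({d} : Set G)) ⧸ (Subgroup.zpowers d).subgroupOf (Subgroup.centralizer ({d} : Set G)), orderOf d' = 2 ∧ Cfsg.IsQuasisimple ↥(Subgroup.centralizer ({d'} : Set _)) ∧ (∃ (K : Type) (_ : Field K) (_ : Fintype K), Fintype.card K = 4 ∧ ∃ _ : ((Subgroup.zpowers d').subgroupOf (Subgroup.centralizer ({d'} : Set _))).Normal, Nonempty (↥(Subgroup.centralizer ({d'} : Set _)) ⧸ (Subgroup.zpowers d').subgroupOf (Subgroup.centralizer ({d'} : Set _)) ≃* Cfsg.PSU 6 K 2)) ∧ ∃ g, g * d' * g⁻¹ ∈ Subgroup.centralizer ({d'} : Set _) ∧ g * d' * g⁻¹ ≠ d') (hnwc : ∃ g : G, g * d *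 g⁻¹ ∈ Subgroup.centralizer ({d} : Set G) ∧ g * d * g⁻¹ ≠ d) (S : Sylow 2 ↥(Subgroup.centralizer ({d} : Set G))) (A : Subgroup G) (hA : A = (Cfsg.thompsonSubgroupOf 2 (S : Subgroup ↥(Subgroup.centralizer ({d} : Set G)))).map (Subgroup.centralizer ({d} : Set G)).subtype) : Cfsg.IsElementaryAbelian 2 A ∧ Nat.card A = 2 ^ 11 ∧ Set.ncard {x : G | x ∈ A ∧ IsConj d x} = 23 ∧ ∀ x ∈ A, ∀ y ∈ A, IsConj d x → IsConj d y → ∃ n ∈ Subgroup.normalizer (A : Set G), n * x * n⁻¹ = y := by
  classical
  obtain ⟨E, hE, h22⟩ := htype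
  have hd2 : d * d = 1 := by rw [← pow_two, ← hd, pow_orderOf_eq_one]
  have hd1 : d ≠ 1 := fun h => by rw [h, orderOf_one] at hd; omega
  have hmem : d ∈ Subgroup.centralizer ({d} : Set G) := Subgroup.mem_centralizer_singleton_iff.2 rfl
  set d' : Subgroup.centralizer ({d} : Set G) := ⟨d, hmem⟩ with hd'
  have hdc : ∀ c : Subgroup.centralizer ({d} : Set G), c * d' = d' * c := fun c =>
    Subtype.ext (Subgroup.mem_centralizer_singleton_iff.1 c.2)
  have hdd : d' * d' = 1 := Subtype.ext hd2
  set π := QuotientGroup.mk' ((Subgroup.zpowers d).subgroupOf (Subgroup.centralizer ({d} : Set G))) with hπdef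
  have hπ : Function.Surjective π := QuotientGroup.mk'_surjective _
  have hker : ∀ c, π c = 1 ↔ c = 1 ∨ c = d' := fun c => by
    rw [hπdef, QuotientGroup.mk'_apply, QuotientGroup.eq_one_iff, Subgroup.mem_subgroupOf]
    refine ⟨fun h => ?_, ?_⟩
    · obtain ⟨n, hn⟩ := Subgroup.mem_zpowers_iff.1 h
      rcases Int.emod_two_eq_zero_or_one n with h | h <;>
        rw [← zpow_mod_orderOf, hd, Nat.cast_ofNat, h] at hn
      · exact Or.inl (Subtype.ext (hn.symm.trans (zpow_zero d)))
      · exact Or.inr (Subtype.ext (hn.symm.trans (zpow_one d)))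
    · rintro (rfl | rfl)
      · exact one_mem _
      · exact Subgroup.mem_zpowers d
  have hZeq : Subgroup.center (Subgroup.centralizer ({d} : Set G)) =
      (Subgroup.zpowers d).subgroupOf (Subgroup.centralizer ({d} : Set G)) := by
    refine le_antisymm (fun c hc => ?_) (fun c hc => ?_)
    · have : π c ∈ Subgroup.center _ := Subgroup.mem_center_iff.2 fun x => by
        obtain ⟨y, rfl⟩ := hπ x
        rw [← map_mul, ← map_mul, Subgroup.mem_center_iff.1 hc y]
      rw [h22.1, Subgroup.mem_bot] at this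
      exact (QuotientGroup.eq_one_iff c).1 this
    · rcases (hker c).1 ((QuotientGroup.eq_one_iff c).2 hc) with rfl | rfl
      · exact one_mem _
      · exact Subgroup.mem_center_iff.2 hdc
  obtain ⟨hperf, hsimpleC⟩ := hq
  haveI hsimple : IsSimpleGroup (Subgroup.centralizer ({d} : Set G) ⧸ (Subgroup.zpowers d).subgroupOf (Subgroup.centralizer ({d} : Set G))) := (QuotientGroup.quotientMulEquivOfEq hZeq).symm.isSimpleGroup
  have hQperf : commutator (Subgroup.centralizer ({d} : Set G) ⧸ (Subgroup.zpowers d).subgroupOf (Subgroup.centralizer ({d} : Set G))) = ⊤ := by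
    rw [eq_top_iff, commutator_def]
    intro x _
    obtain ⟨y, rfl⟩ := hπ x
    have h1 := Group.isPerfect_def.1 hperf
    have h2 := Subgroup.mem_map_of_mem π (show y ∈ commutator _ by rw [h1]; trivial)
    rw [commutator_def, Subgroup.map_commutator] at h2
    exact Subgroup.commutator_mono le_top le_top h2
  obtain ⟨-, a, ha, b, hb, hab, -⟩ := id h22
  have hne : a ≠ b := fun e => hab (e ▸ Commute.refl a)
  have hnc : ¬ IsMulCommutative (commutator (Subgroup.centralizer ({d} : Set G) ⧸ (Subgroup.zpowers d).subgroupOf (Subgroup.centralizer ({d} : Set G)))) := fun h => hab (by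
    have := h.is_comm.comm (⟨a, by rw [hQperf]; trivial⟩ : commutator (Subgroup.centralizer ({d} : Set G) ⧸ (Subgroup.zpowers d).subgroupOf (Subgroup.centralizer ({d} : Set G)))) ⟨b, by rw [hQperf]; trivial⟩
    exact congrArg Subtype.val this)
  haveI : IsSimpleGroup (commutator (Subgroup.centralizer ({d} : Set G) ⧸ (Subgroup.zpowers d).subgroupOf (Subgroup.centralizer ({d} : Set G)))) :=
    ((MulEquiv.subgroupCongr hQperf).trans Subgroup.topEquiv).isSimpleGroup
  have hprim := FischerSpace.primitive_of_simple_commutator hE ⟨a, ha, b, hb, hne⟩ inferInstance hnc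
  have hD : Cfsg.IsThreeTranspositionGroup E := by
    refine ⟨hE.1, fun g x hx => ?_, hE.2.2⟩
    obtain ⟨e₀, -, he⟩ := hE.2.1
    rw [he] at hx ⊢
    exact IsConj.trans hx (isConj_iff.2 ⟨g, rfl⟩)
  have hC := TT95.cfg22_of_type hD hprim h22
  haveI := TT95.Gen.of_group hD
  have hcov : M22Double.Cover π (M22Double.dC d) E :=
    ⟨hπ, hker, hdd, fun e => hd1 (congrArg Subtype.val e), hdc, hC, TT95.core22_of_type h22⟩
  obtain ⟨hth, hbig⟩ := M22Double.thompson_eq hcov S
  obtain ⟨L, hL⟩ := M22Double.exists_lift hcov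
  set K := M22Double.cl E ((S : Subgroup (Subgroup.centralizer ({d} : Set G))).map π)
  have h : M22Double.Setting d π E K L := ⟨hcov, hbig, hL⟩
  have hAeq : A = M22Double.bigA π K := by rw [hA, hth]; rfl
  subst hAeq
  refine ⟨M22Double.isElementaryAbelian_of_el h.el, h.card_bigA, ?_, fun x hx y hy hdx hdy => ?_⟩
  · obtain ⟨g, hg1, hg2⟩ := hnwc
    exact h.ncard_eq_23 (h.exists_other hd2 hg1 hg2) fun L' hL' =>
      M22Double.not_rel22 hcov hbig hL' (Group.isPerfect_def.1 hperf)
  · obtain ⟨n, hn, e⟩ := h.trans_d ⟨hx, hdx⟩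
    obtain ⟨m, hm, e'⟩ := h.trans_d ⟨hy, hdy⟩
    refine ⟨m⁻¹ * n, mul_mem (inv_mem hm) hn, ?_⟩
    calc m⁻¹ * n * x * (m⁻¹ * n)⁻¹ = m⁻¹ * (n * x * n⁻¹) * m := by group
      _ = y := by rw [e, ← e']; group

end Cfsg.Agent.S5455
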