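import Cfsg.Statements.S5458
import Cfsg.Agent.TT95.Thompson

set_option autoImplicit false
open Cfsg

namespace Cfsg.Agent.S5458

/-- Let G be a finite group with trivial centre generated by a conjugation-invariant set D of 3-transpositions on which it acts primitively, of type M(22), and suppose G also has an involution whose centralizer is quasisimple with quotient by it the projective special unitary group of dimension 6 over the field with four elements and which is not weakly closed in that centralizer. Let T be a Sylow 2-subgroup of G. Then the subgroup generated by the members of D lying in T is the Thompson subgroup of T (generated by the elementary abelian subgroups of T of largest order). -/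
theorem result {G : Type*} [Group G] [Finite G] {D : Set G} (hD : Cfsg.IsThreeTranspositionGroup D) (hprim : Cfsg.IsPrimitiveUnderConj D) (h22 : Cfsg.IsOfTypeM22 G D) (hM : ∃ d : G, orderOf d = 2 ∧ Cfsg.IsQuasisimple ↥(Subgroup.centralizer ({d} : Set G)) ∧ (∃ (_ : ((Subgroup.zpowers d).subgroupOf (Subgroup.centralizer ({d} : Set G))).Normal) (K : Type) (_ : Field K) (_ : Fintype K), Fintype.card K = 4 ∧ Nonempty (↥(Subgroup.centralizer ({d} : Set G)) ⧸ (Subgroup.zpowers d).subgroupOf (Subgroup.centralizer ({d} : Set G)) ≃* Cfsg.PSU 6 K 2)) ∧ ∃ g : G, g * d * g⁻¹ ∈ Subgroup.centralizer ({d} : Set G) ∧ g * d * g⁻¹ ≠ d) (T : Sylow 2 G) : Subgroup.closure {x : G | x ∈ D ∧ x ∈ (T : Subgroup G)} = Cfsg.thompsonSubgroupOf 2 (T : Subgroup G) := by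
  classical
  haveI : Fact (Nat.Prime 2) := ⟨Nat.prime_two⟩
  have hC := Cfsg.Agent.TT95.cfg22_of_type hD hprim h22
  haveI := Cfsg.Agent.TT95.Gen.of_group hD
  have hcore := Cfsg.Agent.TT95.core22_of_type h22
  obtain ⟨d₀, hd₀, -⟩ := hcore.2
  set K := {x : G | x ∈ D ∧ x ∈ (T : Subgroup G)} with hK
  set A := Subgroup.closure K with hA
  -- transpositions in a 2-group commute
  have hKc : Cfsg.Agent.TT95.Clique D K := by
    refine ⟨fun u hu => hu.1, fun u hu v hv => ?_⟩
    by_contra h
    have h3 : (u * v) ^ 3 = 1 := by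
      rcases hD.1.2 u hu.1 v hv.1 with h2 | h3
      · exfalso
        apply h
        rw [pow_two] at h2
        calc u * v = (u * v)⁻¹ := eq_inv_of_mul_eq_one_left h2
          _ = v * u := by rw [mul_inv_rev, Cfsg.Agent.TT95.inv_eq hC.tt hu.1, Cfsg.Agent.TT95.inv_eq hC.tt hv.1]
      · exact h3
    obtain ⟨k, hk⟩ := T.2 ⟨u * v, mul_mem hu.2 hv.2⟩
    have hk' : (u * v) ^ 2 ^ k = 1 := congrArg Subtype.val hk
    have h1 : u * v = 1 := by
      have hcop : Nat.Coprime 3 (2 ^ k) := Nat.Coprime.pow_right k (by norm_num)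
      rw [← orderOf_eq_one_iff]
      exact Nat.eq_one_of_dvd_coprimes hcop (orderOf_dvd_of_pow_eq_one h3) (orderOf_dvd_of_pow_eq_one hk')
    exact h (by rw [eq_inv_of_mul_eq_one_left h1, Cfsg.Agent.TT95.inv_eq hC.tt hv.1])
  have hAT : A ≤ (T : Subgroup G) := (Subgroup.closure_le _).2 fun u hu => hu.2
  have hAel := hKc.el hC.tt
  have hAle := Cfsg.Agent.TT95.card_closure_le hC hKc
  -- a large elementary abelian subgroup inside T
  obtain ⟨E, hEc, hE⟩ := Cfsg.Agent.TT95.exists_big_clique hC hd₀
  have hEp : IsPGroup 2 (Subgroup.closure E) := fun g => ⟨1, by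
    rw [pow_one, pow_two]; exact Subtype.ext ((hEc.el hC.tt).2 g g.2)⟩
  obtain ⟨P, hP⟩ := hEp.exists_le_sylow
  obtain ⟨g, hg⟩ := MulAction.exists_smul_eq G P T
  set E' := (fun x => g * x * g⁻¹) '' E with hE'
  have hE'eq : (Subgroup.closure E).map (MulAut.conj g).toMonoidHom = Subgroup.closure E' := by
    rw [MonoidHom.map_closure]; rfl
  have hE'T : ∀ x ∈ E', x ∈ D ∧ x ∈ (T : Subgroup G) := by
    rintro _ ⟨x, hx, rfl⟩
    refine ⟨hD.2.1 g x (hEc.1 hx), ?_⟩
    rw [← hg, Sylow.coe_subgroup_smul]
    exact Subgroup.mem_map_of_mem _ (hP (Subgroup.subset_closure hx))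
  have hA10 : Nat.card A = 2 ^ 10 := by
    refine le_antisymm hAle (hE.trans ?_)
    have h1 : Nat.card (Subgroup.closure E') = Nat.card (Subgroup.closure E) := by
      rw [← hE'eq]
      exact Nat.card_congr ((Subgroup.closure E).equivMapOfInjective _ (MulAut.conj g).injective).symm.toEquiv
    rw [← h1]
    exact Subgroup.card_le_of_le (Subgroup.closure_mono fun x hx => hE'T x hx)
  have key : ∀ B : Subgroup G, Cfsg.Agent.TT95.El B → B ≤ (T : Subgroup G) → 2 ^ 10 ≤ Nat.card B → B = A := by
    intro B hB hBT hbig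
    have h := Cfsg.Agent.TT95.eq_closure_of_big hC hcore 22 B hB hbig (by omega)
    refine Subgroup.eq_of_le_of_card_ge ?_ (by rw [hA10]; exact hbig)
    rw [h, hA]
    exact Subgroup.closure_mono fun x hx => ⟨hx.1, hBT hx.2⟩
  have hA' : Cfsg.IsElementaryAbelian 2 (A.subgroupOf (T : Subgroup G)) := by
    refine ⟨⟨⟨fun x y => Subtype.ext (Subtype.ext ?_)⟩⟩, fun a ha => ?_⟩
    · exact (hAel.1 _ x.2 _ y.2).eq
    · rw [pow_two]; exact Subtype.ext (hAel.2 _ ha)
  have hcardA' : Nat.card (A.subgroupOf (T : Subgroup G)) = 2 ^ 10 := by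
    rw [Nat.card_congr (Subgroup.subgroupOfEquivOfLe hAT).toEquiv, hA10]
  have hmax : ∀ B : Subgroup T, Cfsg.IsElementaryAbelian 2 B → 2 ^ 10 ≤ Nat.card B →
      B = A.subgroupOf (T : Subgroup G) := by
    intro B hB hbig
    have hel : Cfsg.Agent.TT95.El (B.map (T : Subgroup G).subtype) := by
      refine ⟨?_, ?_⟩
      · rintro _ ⟨x, hx, rfl⟩ _ ⟨y, hy, rfl⟩
        haveI := hB.1
        exact congrArg Subtype.val (Subgroup.mul_comm_of_mem_isMulCommutative B hx hy)
      · rintro _ ⟨x, hx, rfl⟩
        have := hB.2 x hx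
        rw [pow_two] at this
        exact congrArg Subtype.val this
    have e := key _ hel (Subgroup.map_subtype_le B) (by
      rwa [← Nat.card_congr (B.equivMapOfInjective _ (T : Subgroup G).subtype_injective).toEquiv])
    rw [← e]
    exact (Subgroup.comap_map_eq_self_of_injective (T : Subgroup G).subtype_injective B).symm
  have hset : Cfsg.maxElementaryAbelianSubgroups 2 ↥(T : Subgroup G) = {A.subgroupOf (T : Subgroup G)} := by
    ext B
    refine ⟨fun hB => hmax B hB.1 ?_, fun hB => ?_⟩
    · rw [← hcardA']; exact hB.2 _ hA'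
    · rw [Set.mem_singleton_iff] at hB
      subst hB
      refine ⟨hA', fun B hB => ?_⟩
      by_contra h
      push Not at h
      rw [hcardA'] at h
      rw [hmax B hB h.le, hcardA'] at h
      exact lt_irrefl _ h
  unfold Cfsg.thompsonSubgroupOf Cfsg.thompsonSubgroup
  rw [hset, sSup_singleton, Subgroup.map_subgroupOf_eq_of_le hAT]

end Cfsg.Agent.S5458
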