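import Cfsg.Statements.S5459
import Mathlib
-- import your own Cfsg.Agent.* helpers here

set_option autoImplicit false
open Cfsg

namespace Cfsg.Agent.S5459

open scoped commutatorElement

/-- Let G be a finite group with a quasisimple normal subgroup L and an involution d such that G is generated by L and d, the centre of L has odd order, and d inverts every element of the centre of L. If the commuting graph on the conjugacy class of the image of d in G modulo the centre of L is connected, then the commuting graph on the conjugacy class of d is connected. -/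
theorem result {G : Type*} [Group G] [Finite G] (L : Subgroup G) [L.Normal] (hL : Cfsg.IsQuasisimple ↥L) (d : G) (hd : orderOf d = 2) (hgen : L ⊔ Subgroup.zpowers d = ⊤) (hodd : Odd (Nat.card ↥(Subgroup.center ↥L))) (hinv : ∀ c ∈ (Subgroup.center ↥L).map L.subtype, d * c * d⁻¹ = c⁻¹) [hn : ((Subgroup.center ↥L).map L.subtype).Normal] (hconn : (Cfsg.commutingGraph (conjugatesOf (QuotientGroup.mk d : G ⧸ (Subgroup.center ↥L).map L.subtype))).Connected) : (Cfsg.commutingGraph (conjugatesOf d)).Connected := by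
  set Z : Subgroup G := (Subgroup.center ↥L).map L.subtype with hZ
  have hZcard : Nat.card Z = Nat.card (Subgroup.center ↥L) :=
    Subgroup.card_map_of_injective L.subtype_injective
  have hd2 : d * d = 1 := by
    have := pow_orderOf_eq_one d
    rwa [hd, sq] at this
  have hZab : ∀ a ∈ Z, ∀ b ∈ Z, a * b = b * a := by
    rintro _ ⟨a, ha, rfl⟩ _ ⟨b, hb, rfl⟩
    exact congrArg Subtype.val (Subgroup.mem_center_iff.mp hb a)
  have hconjinv : ∀ e ∈ conjugatesOf d, e * e = 1 ∧ ∀ c ∈ Z, e * c * e⁻¹ = c⁻¹ := by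
    intro e he
    obtain ⟨g, rfl⟩ := isConj_iff.mp (id he)
    refine ⟨by rw [show g * d * g⁻¹ * (g * d * g⁻¹) = g * (d * d) * g⁻¹ by group, hd2, mul_one,
      mul_inv_cancel], fun c hc => ?_⟩
    have h1 := hinv _ (hn.conj_mem c hc g⁻¹)
    calc g * d * g⁻¹ * c * (g * d * g⁻¹)⁻¹ = g * (d * (g⁻¹ * c * g⁻¹⁻¹) * d⁻¹) * g⁻¹ := by group
      _ = g * (g⁻¹ * c * g⁻¹⁻¹)⁻¹ * g⁻¹ := by rw [h1]
      _ = c⁻¹ := by group
  have hsqrt : ∀ c ∈ Z, ∃ z ∈ Z, z * z = c := by
    intro c hc
    obtain ⟨r, hr⟩ := hodd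
    refine ⟨c ^ (r + 1), pow_mem hc _, ?_⟩
    have h1 : (⟨c, hc⟩ : Z) ^ (2 * r + 1) = 1 := by rw [← hr, ← hZcard]; exact pow_card_eq_one'
    have h2 : c ^ (2 * r + 1) = 1 := congrArg Subtype.val h1
    rw [← pow_add, show r + 1 + (r + 1) = (2 * r + 1) + 1 by omega, pow_succ, h2, one_mul]
  set Γ := Cfsg.commutingGraph (conjugatesOf d) with hΓ
  -- lifting an edge
  have hlift : ∀ e ∈ conjugatesOf d, ∀ e' ∈ conjugatesOf d,
      Commute (QuotientGroup.mk e : G ⧸ Z) (QuotientGroup.mk e') →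
      ∃ e'' : G, e'' ∈ conjugatesOf d ∧ (QuotientGroup.mk e'' : G ⧸ Z) = QuotientGroup.mk e' ∧
        Commute e e'' := by
    intro e he e' he' hc
    obtain ⟨he2, hei⟩ := hconjinv e he
    obtain ⟨he'2, he'i⟩ := hconjinv e' he'
    set k := e * e' * e⁻¹ * e'⁻¹ with hk
    have hkZ : k ∈ Z := by
      rw [← QuotientGroup.eq_one_iff, hk, QuotientGroup.mk_mul, QuotientGroup.mk_mul,
        QuotientGroup.mk_mul, QuotientGroup.mk_inv, QuotientGroup.mk_inv, hc.eq]
      group
    obtain ⟨z1, hz1, hz1e⟩ := hsqrt k hkZ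
    obtain ⟨z, hz, hze⟩ := hsqrt z1 hz1
    have hzz : z * e' * z⁻¹ = z1 * e' := by
      have h1 : e' * z⁻¹ * e'⁻¹ = z := by rw [he'i _ (inv_mem hz), inv_inv]
      calc z * e' * z⁻¹ = z * (e' * z⁻¹ * e'⁻¹) * e' := by group
        _ = z1 * e' := by rw [h1, hze]
    refine ⟨z * e' * z⁻¹, id
      ((id he').trans (isConj_iff.mpr ⟨z, rfl⟩)), ?_, ?_⟩
    · rw [hzz, QuotientGroup.mk_mul, (QuotientGroup.eq_one_iff z1).mpr hz1, one_mul]
    · rw [hzz]
      show e * (z1 * e') = z1 * e' * e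
      calc e * (z1 * e') = (e * z1 * e⁻¹) * (e * e' * e⁻¹ * e'⁻¹) * e' * e := by group
        _ = z1⁻¹ * (z1 * z1) * e' * e := by rw [hei z1 hz1, ← hk, ← hz1e]
        _ = _ := by rw [inv_mul_cancel_left]
  have hreach : ∀ a b : conjugatesOf d, Commute (a : G) (b : G) → Γ.Reachable a b := by
    intro a b h
    by_cases hab : a = b
    · rw [hab]
    · exact SimpleGraph.Adj.reachable (by rw [hΓ, Cfsg.commutingGraph, SimpleGraph.fromRel_adj]; exact ⟨hab, Or.inl h⟩)
  let d₀ : conjugatesOf d := ⟨d, id (IsConj.refl d)⟩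
  -- every class meets the component of `d`
  have hfib : ∀ q : conjugatesOf (QuotientGroup.mk d : G ⧸ Z),
      ∃ a : conjugatesOf d, (QuotientGroup.mk (a : G) : G ⧸ Z) = q ∧ Γ.Reachable d₀ a := by
    intro q
    have h0 := hconn.preconnected ⟨QuotientGroup.mk d, id (IsConj.refl _)⟩ q
    rw [SimpleGraph.reachable_iff_reflTransGen] at h0
    induction h0 with
    | refl => exact ⟨d₀, rfl, SimpleGraph.Reachable.refl _⟩
    | tail _ hadj ih =>
      rename_i b c _
      obtain ⟨a, ha, hda⟩ := ih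
      obtain ⟨g, hg⟩ := isConj_iff.mp (id c.2)
      obtain ⟨g0, rfl⟩ := QuotientGroup.mk_surjective g
      have hcomm : Commute (QuotientGroup.mk (a : G) : G ⧸ Z) (QuotientGroup.mk (g0 * d * g0⁻¹)) := by
        rw [ha, QuotientGroup.mk_mul, QuotientGroup.mk_mul, QuotientGroup.mk_inv, hg]
        rw [Cfsg.commutingGraph, SimpleGraph.fromRel_adj] at hadj
        rcases hadj.2 with h | h
        · exact h
        · exact h.symm
      obtain ⟨e, he, hee, hce⟩ := hlift a a.2 _ (id (isConj_iff.mpr ⟨g0, rfl⟩)) hcomm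
      exact ⟨⟨e, he⟩, by rw [hee, QuotientGroup.mk_mul, QuotientGroup.mk_mul, QuotientGroup.mk_inv, hg],
        hda.trans (hreach a ⟨e, he⟩ hce)⟩
  -- the stabiliser of the component
  let sm : G → conjugatesOf d → conjugatesOf d := fun g a => ⟨g * a * g⁻¹,
    id ((id a.2).trans (isConj_iff.mpr ⟨g, rfl⟩))⟩
  have hsmr : ∀ g {a b}, Γ.Reachable a b → Γ.Reachable (sm g a) (sm g b) := by
    intro g a b h
    rw [SimpleGraph.reachable_iff_reflTransGen] at h
    induction h with
    | refl => exact SimpleGraph.Reachable.refl _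
    | tail _ hadj ih =>
      refine ih.trans (hreach _ _ ?_)
      rw [hΓ, Cfsg.commutingGraph, SimpleGraph.fromRel_adj] at hadj
      have := hadj.2.elim id Commute.symm
      exact this.map (MulAut.conj g).toMonoidHom
  let S : Subgroup G :=
    { carrier := {g | Γ.Reachable d₀ (sm g d₀)}
      one_mem' := by
        show Γ.Reachable d₀ (sm 1 d₀)
        rw [show sm 1 d₀ = d₀ from Subtype.ext (by simp [sm, d₀])]
      mul_mem' := fun {g g'} hg hg' => by
        have h := hsmr g hg'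
        rw [show sm g (sm g' d₀) = sm (g * g') d₀ from Subtype.ext (by simp [sm]; group)] at h
        exact SimpleGraph.Reachable.trans hg h
      inv_mem' := fun {g} hg => by
        have h := hsmr g⁻¹ hg
        rw [show sm g⁻¹ (sm g d₀) = d₀ from Subtype.ext (by simp [sm]; group)] at h
        exact h.symm }
  have hSZ : ∀ g : G, ∃ z ∈ Z, z * g ∈ S := by
    intro g
    obtain ⟨a, ha, hda⟩ := hfib ⟨QuotientGroup.mk (g * d * g⁻¹), id
      (isConj_iff.mpr ⟨QuotientGroup.mk g, by simp [QuotientGroup.mk_mul, QuotientGroup.mk_inv]⟩)⟩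
    set e := g * d * g⁻¹ with hedef
    obtain ⟨-, hei⟩ := hconjinv e (id (isConj_iff.mpr ⟨g, rfl⟩))
    have hq : e⁻¹ * (a : G) ∈ Z := QuotientGroup.eq.mp ha.symm
    have hc : (a : G) * e⁻¹ ∈ Z := by
      have := hn.conj_mem _ hq e
      rwa [mul_inv_cancel_left] at this
    obtain ⟨z, hz, hze⟩ := hsqrt _ hc
    refine ⟨z, hz, ?_⟩
    show Γ.Reachable d₀ (sm (z * g) d₀)
    convert hda using 1
    refine Subtype.ext ?_
    show z * g * d * (z * g)⁻¹ = (a : G)
    have h1 : e * z⁻¹ * e⁻¹ = z := by rw [hei _ (inv_mem hz), inv_inv]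
    calc z * g * d * (z * g)⁻¹ = z * ((g * d * g⁻¹) * z⁻¹ * (g * d * g⁻¹)⁻¹) * (g * d * g⁻¹) := by group
      _ = z * z * e := by rw [← hedef, h1]
      _ = a := by rw [hze, inv_mul_cancel_right]
  have hLS : L ≤ S := by
    have hZL : Z ≤ L := Subgroup.map_subtype_le _
    have hcomm : ⁅L, L⁆ ≤ S := by
      rw [Subgroup.commutator_le]
      intro a ha b hb
      obtain ⟨z, hz, hza⟩ := hSZ a
      obtain ⟨z', hz', hzb⟩ := hSZ b
      have hcen : ∀ c ∈ Z, ∀ x ∈ L, c * x = x * c := by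
        rintro _ ⟨c, hc, rfl⟩ x hx
        exact (congrArg Subtype.val (Subgroup.mem_center_iff.mp hc ⟨x, hx⟩)).symm
      have e : ⁅z * a, z' * b⁆ = ⁅a, b⁆ := by
        have h1 := hcen z hz (z' * b) (mul_mem (hZL hz') hb)
        have h2 := hcen z' hz' a ha
        rw [commutatorElement_def, commutatorElement_def]
        calc z * a * (z' * b) * (z * a)⁻¹ * (z' * b)⁻¹
            = z * (a * z') * b * a⁻¹ * z⁻¹ * b⁻¹ * z'⁻¹ := by group
          _ = z * (z' * a) * b * a⁻¹ * z⁻¹ * b⁻¹ * z'⁻¹ := by rw [h2]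
          _ = z * (z' * (a * b * a⁻¹ * (b⁻¹ * (b * z⁻¹ * b⁻¹)))) * z'⁻¹ := by group
          _ = z * (z' * (a * b * a⁻¹ * (b⁻¹ * z⁻¹))) * z'⁻¹ := by
              rw [show b * z⁻¹ * b⁻¹ = z⁻¹ by rw [← hcen z⁻¹ (inv_mem hz) b hb, mul_inv_cancel_right]]
          _ = (z * z') * (a * b * a⁻¹ * b⁻¹) * (z⁻¹ * z'⁻¹) := by group
          _ = _ := by
              rw [hcen (z * z') (mul_mem hz hz') _ (mul_mem (mul_mem (mul_mem ha hb) (inv_mem ha)) (inv_mem hb)),
                ← mul_inv_rev, hZab z' hz' z hz, mul_inv_cancel_right]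
      rw [← e, commutatorElement_def]
      exact mul_mem (mul_mem (mul_mem hza hzb) (inv_mem hza)) (inv_mem hzb)
    refine le_trans ?_ hcomm
    have hperf : commutator ↥L = ⊤ := Group.isPerfect_def.mp hL.1
    rw [← Subgroup.map_subtype_commutator, hperf, ← MonoidHom.range_eq_map, L.range_subtype]
  have htop : S = ⊤ := by
    rw [eq_top_iff, ← hgen]
    refine sup_le hLS (Subgroup.zpowers_le.mpr ?_)
    show Γ.Reachable d₀ (sm d d₀)
    rw [show sm d d₀ = d₀ from Subtype.ext (by simp [sm, d₀])]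
  have hall : ∀ a : conjugatesOf d, Γ.Reachable d₀ a := by
    intro a
    obtain ⟨g, hg⟩ := isConj_iff.mp (id a.2)
    have : g ∈ S := htop ▸ Subgroup.mem_top g
    have h : Γ.Reachable d₀ (sm g d₀) := this
    rwa [show sm g d₀ = a from Subtype.ext hg] at h
  exact (SimpleGraph.connected_iff _).mpr ⟨fun a b => (hall a).symm.trans (hall b), ⟨d₀⟩⟩

end Cfsg.Agent.S5459
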