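import Cfsg.Statements.S5462
import Cfsg.Agent.TT95.AutoFix
import Cfsg.Agent.TT95.Unique

set_option autoImplicit false
open Cfsg

namespace Cfsg.Agent.S5462

/-- Let G be a finite group with trivial centre generated by a conjugation-invariant set D of 3-transpositions on which it acts primitively, such that for some d in D the subgroup generated by the members of D other than d commuting with d has central largest normal 2- and 3-subgroups, and suppose G with D is of type M(22). Then every automorphism of G of order 2 fixes some member of D. -/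
theorem result {G : Type*} [Group G] [Finite G] {D : Set G} (hD : Cfsg.IsThreeTranspositionGroup D) (hprim : Cfsg.IsPrimitiveUnderConj D) (d₀ : G) (hd₀ : d₀ ∈ D) (h3 : Cfsg.pCore 3 ↥(Subgroup.closure {y : G | y ∈ D ∧ y ≠ d₀ ∧ Commute d₀ y}) ≤ Subgroup.center ↥(Subgroup.closure {y : G | y ∈ D ∧ y ≠ d₀ ∧ Commute d₀ y})) (h2 : Cfsg.pCore 2 ↥(Subgroup.closure {y : G | y ∈ D ∧ y ≠ d₀ ∧ Commute d₀ y}) ≤ Subgroup.center ↥(Subgroup.closure {y : G | y ∈ D ∧ y ≠ d₀ ∧ Commute d₀ y})) (h22 : Cfsg.IsOfTypeM22 G D) (φ : MulAut G) (hφ : orderOf φ = 2) : ∃ d ∈ D, φ d = d := by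
  classical
  have := Cfsg.Agent.TT95.Gen.of_group hD
  have hC := Cfsg.Agent.TT95.cfg22_of_type hD hprim h22
  have hcore := Cfsg.Agent.TT95.core22_of_type h22
  have hinv : ∀ x, φ (φ x) = x := fun x => by
    have h : φ * φ = 1 := by rw [← pow_two, ← hφ]; exact pow_orderOf_eq_one φ
    calc φ (φ x) = (φ * φ) x := rfl
      _ = x := by rw [h]; rfl
  have hcls : Cfsg.IsThreeTranspositionClass (φ '' D) := by
    refine ⟨⟨?_, ?_⟩, ⟨φ d₀, ⟨d₀, hd₀, rfl⟩, ?_⟩, ?_⟩
    · rintro _ ⟨d, hd, rfl⟩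
      rw [MulEquiv.orderOf_eq φ d]
      exact hD.1.1 d hd
    · rintro _ ⟨d, hd, rfl⟩ _ ⟨e, he, rfl⟩
      rcases hD.1.2 d hd e he with h | h
      · exact Or.inl (by rw [← map_mul, ← map_pow, h, map_one])
      · exact Or.inr (by rw [← map_mul, ← map_pow, h, map_one])
    · ext y
      show y ∈ φ '' D ↔ IsConj (φ d₀) y
      rw [isConj_iff]
      constructor
      · rintro ⟨d, hd, rfl⟩
        obtain ⟨g, hg⟩ := hC.one d₀ hd₀ d hd
        exact ⟨φ g, by rw [← hg, map_mul, map_mul, map_inv]⟩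
      · rintro ⟨g, rfl⟩
        exact ⟨φ g * d₀ * (φ g)⁻¹, hD.2.1 _ d₀ hd₀, by rw [map_mul, map_mul, map_inv, hinv]⟩
    · rw [show (φ '' D : Set G) = φ.toMonoidHom '' D from rfl, ← MonoidHom.map_closure, hD.2.2]
      exact Subgroup.map_top_of_surjective _ φ.surjective
  have hφD : ∀ d ∈ D, φ d ∈ D := fun d hd => by
    have h : φ d ∈ φ '' D := ⟨d, hd, rfl⟩
    rwa [Cfsg.Agent.TT95.unique_class hC hcore hcls] at h
  exact Cfsg.Agent.TT95.auto_fixes hC φ hφD hinv hd₀

end Cfsg.Agent.S5462
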