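import Cfsg.Statements.S5463
import Cfsg.Agent.TT95.Hexad

set_option autoImplicit false
open Cfsg

namespace Cfsg.Agent.S5463

theorem result {G : Type*} [Group G] [Finite G] {D : Set G} (hD : Cfsg.IsThreeTranspositionGroup D) (hprim : Cfsg.IsPrimitiveUnderConj D) (d₀ : G) (hd₀ : d₀ ∈ D) (h3 : Cfsg.pCore 3 ↥(Subgroup.closure {y : G | y ∈ D ∧ y ≠ d₀ ∧ Commute d₀ y}) ≤ Subgroup.center ↥(Subgroup.closure {y : G | y ∈ D ∧ y ≠ d₀ ∧ Commute d₀ y})) (h2 : Cfsg.pCore 2 ↥(Subgroup.closure {y : G | y ∈ D ∧ y ≠ d₀ ∧ Commute d₀ y}) ≤ Subgroup.center ↥(Subgroup.closure {y : G | y ∈ D ∧ y ≠ d₀ ∧ Commute d₀ y})) (h22 : Cfsg.IsOfTypeM22 G D) : (∀ (j : G) (l l' : List G), (l.Nodup ∧ l.length = 2 ∧ (∀ a ∈ l, a ∈ D) ∧ (∀ a ∈ l, ∀ b ∈ l, Commute a b) ∧ l.prod = j) → (l'.Nodup ∧ l'.length = 2 ∧ (∀ a ∈ l', a ∈ D) ∧ (∀ a ∈ l', ∀ b ∈ l', Commute a b) ∧ l'.prod = j) → (∀ x : G, x ∈ l ↔ x ∈ l')) ∧ ∀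 (j : G) (l₀ : List G), (l₀.Nodup ∧ l₀.length = 3 ∧ (∀ a ∈ l₀, a ∈ D) ∧ (∀ a ∈ l₀, ∀ b ∈ l₀, Commute a b) ∧ l₀.prod = j) → ∃ l₁ l₂ : List G, (l₁.Nodup ∧ l₁.length = 3 ∧ (∀ a ∈ l₁, a ∈ D) ∧ (∀ a ∈ l₁, ∀ b ∈ l₁, Commute a b) ∧ l₁.prod = j) ∧ (l₂.Nodup ∧ l₂.length = 3 ∧ (∀ a ∈ l₂, a ∈ D) ∧ (∀ a ∈ l₂, ∀ b ∈ l₂, Commute a b) ∧ l₂.prod = j) ∧ ¬ (∀ x : G, x ∈ l₁ ↔ x ∈ l₂) ∧ ∀ l : List G, (l.Nodup ∧ l.length = 3 ∧ (∀ a ∈ l, a ∈ D) ∧ (∀ a ∈ l, ∀ b ∈ l, Commute a b) ∧ l.prod = j) → ((∀ x : G, x ∈ l ↔ x ∈ l₁) ∨ (∀ x : G, x ∈ l ↔ x ∈ l₂)) := by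
  have hC := TT95.cfg22_of_type hD hprim h22
  haveI := TT95.Gen.of_group hD
  replace hD := TT95.TTSet.of_group hD
  refine ⟨?_, ?_⟩
  · rintro j l l' ⟨hnd, hlen, hmem, hcomm, hprod⟩ ⟨hnd', hlen', hmem', hcomm', hprod'⟩
    obtain ⟨a, b, rfl⟩ := List.length_eq_two.1 hlen
    obtain ⟨c, e, rfl⟩ := List.length_eq_two.1 hlen'
    simp only [List.prod_cons, List.prod_nil, mul_one] at hprod hprod'
    have hab : a ≠ b := by intro e; simp [e] at hnd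
    intro x
    rcases TT95.pair_unique hD hC.tf (hmem a (by simp)) (hmem b (by simp)) (hmem' c (by simp))
      (hmem' e (by simp)) hab (hcomm a (by simp) b (by simp)) (hcomm' c (by simp) e (by simp))
      (hprod.trans hprod'.symm) with ⟨rfl, rfl⟩ | ⟨rfl, rfl⟩
    · rfl
    · simp only [List.mem_cons, List.not_mem_nil, or_false]; tauto
  rintro j l₀ ⟨hnd, hlen, hmem, hcomm, hprod⟩
  obtain ⟨a, b, c, rfl⟩ := List.length_eq_three.1 hlen
  simp only [List.prod_cons, List.prod_nil, mul_one, ← mul_assoc] at hprod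
  have hnd' := hnd
  simp only [List.nodup_cons, List.mem_cons, List.not_mem_nil, or_false, not_or] at hnd'
  obtain ⟨x, y, z, hx, hy, hz, nxy, nxz, nyz, cxy, cxz, cyz, xa, xb, xc, hp, huniq⟩ :=
    TT95.partner hC (hmem a (by simp)) (hmem b (by simp)) (hmem c (by simp))
      ⟨hnd'.1.1, hnd'.1.2, hnd'.2.1⟩ (hcomm a (by simp) b (by simp)) (hcomm a (by simp) c (by simp))
      (hcomm b (by simp) c (by simp))
  refine ⟨[a, b, c], [x, y, z], ⟨hnd, rfl, hmem, hcomm, by simp [← mul_assoc, hprod]⟩,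
    ⟨?_, rfl, ?_, ?_, by simp [← mul_assoc, ← hp, hprod]⟩, ?_, ?_⟩
  · simp [nxy, nxz, nyz]
  · intro t ht
    simp only [List.mem_cons, List.not_mem_nil, or_false] at ht
    rcases ht with rfl | rfl | rfl <;> assumption
  · intro t ht s hs
    simp only [List.mem_cons, List.not_mem_nil, or_false] at ht hs
    rcases ht with rfl | rfl | rfl <;> rcases hs with rfl | rfl | rfl <;>
      first | exact Commute.refl _ | assumption | exact cxy.symm | exact cxz.symm | exact cyz.symm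
  · intro h
    have := (h x).2 (by simp)
    simp only [List.mem_cons, List.not_mem_nil, or_false] at this
    rcases this with r | r | r
    · exact xa r
    · exact xb r
    · exact xc r
  · rintro l ⟨hnd₁, hlen₁, hmem₁, hcomm₁, hprod₁⟩
    obtain ⟨u, v, w, rfl⟩ := List.length_eq_three.1 hlen₁
    simp only [List.prod_cons, List.prod_nil, mul_one, ← mul_assoc] at hprod₁
    simp only [List.nodup_cons, List.mem_cons, List.not_mem_nil, or_false, not_or] at hnd₁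
    rcases huniq u v w (hmem₁ u (by simp)) (hmem₁ v (by simp)) (hmem₁ w (by simp))
      ⟨hnd₁.1.1, hnd₁.1.2, hnd₁.2.1⟩ (hcomm₁ u (by simp) v (by simp)) (hcomm₁ u (by simp) w (by simp))
      (hcomm₁ v (by simp) w (by simp)) (hprod₁.trans hprod.symm) with h | h
    · left; intro t; simpa only [List.mem_cons, List.not_mem_nil, or_false] using h t
    · right; intro t; simpa only [List.mem_cons, List.not_mem_nil, or_false] using h t

end Cfsg.Agent.S5463
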