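import Cfsg.Statements.S5464
import Cfsg.Agent.TT95.Relations

set_option autoImplicit false
open Cfsg

namespace Cfsg.Agent.S5464

theorem result {G : Type*} [Group G] [Finite G] {D : Set G} (hD : Cfsg.IsThreeTranspositionGroup D) (hprim : Cfsg.IsPrimitiveUnderConj D) (d₀ : G) (hd₀ : d₀ ∈ D) (h3 : Cfsg.pCore 3 ↥(Subgroup.closure {y : G | y ∈ D ∧ y ≠ d₀ ∧ Commute d₀ y}) ≤ Subgroup.center ↥(Subgroup.closure {y : G | y ∈ D ∧ y ≠ d₀ ∧ Commute d₀ y})) (h2 : Cfsg.pCore 2 ↥(Subgroup.closure {y : G | y ∈ D ∧ y ≠ d₀ ∧ Commute d₀ y}) ≤ Subgroup.center ↥(Subgroup.closure {y : G | y ∈ D ∧ y ≠ d₀ ∧ Commute d₀ y})) (h : Cfsg.IsOfTypeM23 G D ∨ Cfsg.IsOfTypeM24 G D) (m : ℕ) (hm : m ≤ 3) (j : G) (l l' : List G) (hl : (l.Nodup ∧ l.length = m ∧ (∀ a ∈ l, a ∈ D) ∧ (∀ a ∈ l, ∀ b ∈ l, Commute a b) ∧ l.prod = j)) (hl' : (l'.Nodup ∧ l'.length = m ∧ (∀ a ∈ l', a ∈ D) ∧ (∀ a ∈ l', ∀ b ∈ l', Commute a b) ∧ l'.prod = j)) : (∀ x : G, x ∈ l ↔ x ∈ l') := by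
  haveI := TT95.Gen.of_group hD
  replace hD := TT95.TTSet.of_group hD
  have hZ : Subgroup.center G = ⊥ := by rcases h with h | h <;> exact h.1
  have htf := TT95.twinFree_of_primitive hD hZ hprim
  obtain ⟨hnd, hlen, hmem, hcomm, hprod⟩ := hl
  obtain ⟨hnd', hlen', hmem', hcomm', hprod'⟩ := hl'
  interval_cases m
  · rw [List.length_eq_zero_iff] at hlen hlen'
    simp [hlen, hlen']
  · obtain ⟨a, rfl⟩ := List.length_eq_one_iff.1 hlen
    obtain ⟨b, rfl⟩ := List.length_eq_one_iff.1 hlen'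
    simp only [List.prod_cons, List.prod_nil, mul_one] at hprod hprod'
    intro x
    rw [hprod, hprod']
  · obtain ⟨a, b, rfl⟩ := List.length_eq_two.1 hlen
    obtain ⟨c, e, rfl⟩ := List.length_eq_two.1 hlen'
    simp only [List.prod_cons, List.prod_nil, mul_one] at hprod hprod'
    have hab : a ≠ b := by intro e; simp [e] at hnd
    intro x
    rcases TT95.pair_unique hD htf (hmem a (by simp)) (hmem b (by simp)) (hmem' c (by simp)) (hmem' e (by simp))
      hab (hcomm a (by simp) b (by simp)) (hcomm' c (by simp) e (by simp)) (hprod.trans hprod'.symm) with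
      ⟨rfl, rfl⟩ | ⟨rfl, rfl⟩
    · rfl
    · simp only [List.mem_cons, List.not_mem_nil, or_false]; tauto
  · obtain ⟨a, b, c, rfl⟩ := List.length_eq_three.1 hlen
    obtain ⟨u, v, w, rfl⟩ := List.length_eq_three.1 hlen'
    simp only [List.prod_cons, List.prod_nil, mul_one, ← mul_assoc] at hprod hprod'
    simp only [List.nodup_cons, List.mem_cons, List.not_mem_nil, or_false, not_or] at hnd hnd'
    rcases TT95.triple_cases hD htf (hmem a (by simp)) (hmem b (by simp)) (hmem c (by simp)) (hmem' u (by simp))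
      (hmem' v (by simp)) (hmem' w (by simp)) ⟨hnd.1.1, hnd.1.2, hnd.2.1⟩ ⟨hnd'.1.1, hnd'.1.2, hnd'.2.1⟩
      (hcomm a (by simp) b (by simp)) (hcomm a (by simp) c (by simp)) (hcomm b (by simp) c (by simp))
      (hcomm' u (by simp) v (by simp)) (hcomm' u (by simp) w (by simp)) (hcomm' v (by simp) w (by simp))
      (hprod.trans hprod'.symm) with e | ⟨e1, e2, e3⟩
    · intro x
      simpa only [List.mem_cons, List.not_mem_nil, or_false] using e x
    · refine absurd e3 (TT95.noRel_six_of_type hD hprim.1 htf h _ e1 rfl ?_ e2)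
      intro x hx
      simp only [List.mem_cons, List.not_mem_nil, or_false] at hx
      have hx' : x ∈ [a, b, c] ∨ x ∈ [u, v, w] := by
        simpa [or_assoc] using hx
      exact hx'.elim (hmem x) (hmem' x)

end Cfsg.Agent.S5464
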