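import Cfsg.Statements.S5465
import Cfsg.Agent.TT95.Pair24Deriv
import Cfsg.Agent.TT95.Fi22Model
import Cfsg.Agent.TT95.Uni22.Unique
import Cfsg.Agent.Recog71.Fi22OutMain
-- import your own Cfsg.Agent.* helpers here

set_option autoImplicit false
set_option linter.style.haveILetI false
open Cfsg

namespace Cfsg.Agent.S5465

open Cfsg.Agent Cfsg.Agent.TT95

theorem fi22_aut : Finite Cfsg.Spor.Fi22 ∧ Nat.card (MulAut Cfsg.Spor.Fi22) = 2 * 64561751654400 := by
  haveI := CosetEnum.Fi22.finite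
  obtain ⟨D₀, hD₀, -, -, hcard, -⟩ := Fi22Model.exists_cfg22
  refine ⟨CosetEnum.Fi22.finite, ?_⟩
  show Nat.card (MulAut CosetEnum.Fi22.pres.Gp) = _
  rw [CentAux.card_mulAut hD₀.center, hcard]
  exact congrArg (· * _) Recog71.Fi22Out.card_out

theorem k22_iso {K : Type*} [Group K] [Finite K] {E : Set K} {q : K} (hG : Cfg23 E q) :
    Nonempty (ModCenter (Subgroup.closure (nb E q)) ≃* Cfsg.Spor.Fi22) ∧
      Nat.card (ModCenter (Subgroup.closure (nb E q))) = 64561751654400 := by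
  haveI := gen_loc hG
  haveI := loc_finite hG.lay.tt q
  obtain ⟨D₀, hD₀, hgen, ⟨z, hz⟩, hcard, hfin⟩ := Fi22Model.exists_cfg22
  haveI := hgen
  haveI := hfin
  obtain ⟨p, hp⟩ := loc_nonempty hG
  obtain ⟨e, -⟩ := exists_iso22 hG.loc hD₀ hp hz
  exact ⟨⟨e⟩, (Nat.card_congr e.toEquiv).trans hcard⟩

theorem core {G : Type*} [Group G] [Finite G] {D : Set G} {d : G}
    {q : ModCenter (Subgroup.closure (nb D d))} (hG : Cfg24 D d q) [Gen D] {a b : G} (ha : a ∈ D)
    (hb : b ∈ nb D a) (K CL : Subgroup G) (hK : K = commutator G ⊓ Subgroup.centralizer ({a, b} : Set G))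
    (hCL : CL = commutator G ⊓ Subgroup.centralizer ({a * b} : Set G))
    [hn : ((Subgroup.zpowers (a * b)).subgroupOf CL).Normal] :
    Cfsg.IsQuasisimple ↥K ∧ K = (Cfsg.generalizedFittingSubgroup ↥CL).map CL.subtype ∧ K ≤ CL ∧
      (K.subgroupOf CL).index = 2 ∧ a * b ∈ K ∧
      Nonempty (↥CL ⧸ (Subgroup.zpowers (a * b)).subgroupOf CL ≃* MulAut Cfsg.Spor.Fi22) := by
  have hD := hG.lay.tt
  haveI := gen_loc24 hG
  haveI := loc_finite hD d
  obtain ⟨hqs, hj, hcen, χ, hs, hk⟩ := pair_derived hG ha hb K hK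
  obtain ⟨hle, hidx, hself⟩ := pair_swap hG ha hb K CL hK hCL
  obtain ⟨⟨eF⟩, hcard22⟩ := k22_iso hG.loc
  obtain ⟨hfin, hautcard⟩ := fi22_aut
  haveI := hfin
  have hab := hb.2.2
  have hjj : (a * b) * (a * b) = 1 := by
    calc a * b * (a * b) = a * (b * a) * b := by group
      _ = 1 := by rw [← hab.eq, ← mul_assoc, sq hD ha, one_mul, sq hD hb.1]
  have hj1 : a * b ≠ 1 := fun h => hb.2.1 (by
    rw [eq_inv_of_mul_eq_one_right h, inv_eq hD ha])
  have hzp : ∀ z : G, z ∈ Subgroup.zpowers (a * b) ↔ z = 1 ∨ z = a * b := by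
    intro z
    refine ⟨fun h => ?_, ?_⟩
    · obtain ⟨i, rfl⟩ := Subgroup.mem_zpowers_iff.1 h
      rcases Int.even_or_odd i with ⟨j, rfl⟩ | ⟨j, rfl⟩
      · left; rw [← two_mul, zpow_mul, zpow_two, hjj, one_zpow]
      · right; rw [zpow_add, zpow_mul, zpow_two, hjj, one_zpow, one_mul, zpow_one]
    · rintro (rfl | rfl)
      exacts [one_mem _, Subgroup.mem_zpowers _]
  set K' := K.subgroupOf CL with hK'
  haveI : K'.Normal := Subgroup.normal_of_index_eq_two hidx
  let eK : K' ≃* K := Subgroup.subgroupOfEquivOfLe hle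
  have hqs' : Cfsg.IsQuasisimple K' := Components.isQuasisimple_of_mulEquiv eK.symm hqs
  set Z := (Subgroup.zpowers (a * b)).subgroupOf CL with hZ
  have hC : Subgroup.centralizer (K' : Set CL) ≤ Z := by
    intro x hx
    have hcom : ∀ k ∈ K, Commute (x : G) k := fun k hk' =>
      (congrArg Subtype.val (Subgroup.mem_centralizer_iff.1 hx ⟨k, hle hk'⟩ hk')).symm
    rw [hZ, Subgroup.mem_subgroupOf, hzp]
    exact (hcen _ (hself _ x.2 hcom)).1 hcom
  have hZK : Z ≤ K' := fun x hx => by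
    rw [hZ, Subgroup.mem_subgroupOf, hzp] at hx
    rw [hK', Subgroup.mem_subgroupOf]
    rcases hx with h | h <;> rw [h]
    exacts [one_mem _, hj]
  refine ⟨hqs, ?_, hle, hidx, hj, ?_⟩
  · rw [CentAux.fstar_eq K' hqs' (hC.trans hZK), hK', Subgroup.map_subgroupOf_eq_of_le hle]
  let χ' := χ.comp eK.toMonoidHom
  have hs' : Function.Surjective χ' := hs.comp eK.surjective
  have hcen' : ∀ z : K', z ∈ Subgroup.center K' ↔ ((z : CL) : G) = 1 ∨ ((z : CL) : G) = a * b := by
    intro z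
    rw [Subgroup.mem_center_iff]
    constructor
    · intro h
      refine (hcen _ z.2).1 fun k hk' => ?_
      exact (congrArg (fun u : K' => ((u : CL) : G)) (h ⟨⟨k, hle hk'⟩, hk'⟩)).symm
    · intro h w
      exact Subtype.ext (Subtype.ext ((hcen _ z.2).2 h _ w.2).eq.symm)
  have hker : χ'.ker = Subgroup.center K' := Subgroup.ext fun z => by
    rw [MonoidHom.mem_ker, hcen']
    exact hk (eK z)
  let e : K' ⧸ Subgroup.center K' ≃* Cfsg.Spor.Fi22 :=
    ((QuotientGroup.quotientMulEquivOfEq hker.symm).trans (QuotientGroup.quotientKerEquivOfSurjective χ' hs')).trans eF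
  have hmap : (Subgroup.center K').map K'.subtype = Z := by
    ext x
    rw [hZ, Subgroup.mem_subgroupOf, hzp]
    constructor
    · rintro ⟨z, hz, rfl⟩
      exact (hcen' z).1 hz
    · intro h
      exact ⟨⟨x, hZK ((hZ ▸ Subgroup.mem_subgroupOf.2 ((hzp _).2 h) : x ∈ Z))⟩, (hcen' _).2 h, rfl⟩
  have hcardZ : Nat.card Z = 2 := by
    rw [hZ, Nat.card_congr (Subgroup.subgroupOfEquivOfLe ((Subgroup.zpowers_le).2 (hle hj))).toEquiv,
      Nat.card_zpowers, orderOf_eq_prime (by rw [pow_two]; exact hjj) hj1]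
  have hcardK : Nat.card K' = 64561751654400 * 2 := by
    rw [Subgroup.card_eq_card_quotient_mul_card_subgroup (Subgroup.center K'), ← hcardZ, ← hmap,
      Subgroup.card_subtype, Nat.card_congr e.toEquiv, ← Nat.card_congr eF.toEquiv, hcard22]
  have hcard : Nat.card (MulAut Cfsg.Spor.Fi22) * Nat.card Z = Nat.card CL := by
    rw [hautcard, hcardZ, ← Subgroup.card_mul_index K', hidx, hcardK]
  exact CentAux.exists_aut_iso K' hqs'.1 e Z hmap hC hcard

end Cfsg.Agent.S5465

namespace Cfsg.Agent.S5465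

/-- Let G be a finite group with trivial centre generated by a conjugation-invariant set D of 3-transpositions on which it acts primitively, such that for some d in D the subgroup generated by the members of D other than d commuting with d has central largest normal 2- and 3-subgroups, and suppose G with D is of type M(24), and let L be the commutator subgroup of G. Let d₁, d₂ be distinct commuting members of D and j = d₁ d₂. Then K, the joint centralizer of d₁ and d₂ in L, is quasisimple, is the generalized Fitting subgroup of the centralizer of j in L, has index 2 in it and contains j, and the centralizer of j in L modulo the subgroup generated by j is isomorphic to the full automorphism group of the Fischer group Fi₂₂ (as presented). -/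
theorem result {G : Type*} [Group G] [Finite G] {D : Set G} (hD : Cfsg.IsThreeTranspositionGroup D) (hprim : Cfsg.IsPrimitiveUnderConj D) (d₀ : G) (hd₀ : d₀ ∈ D) (h3 : Cfsg.pCore 3 ↥(Subgroup.closure {y : G | y ∈ D ∧ y ≠ d₀ ∧ Commute d₀ y}) ≤ Subgroup.center ↥(Subgroup.closure {y : G | y ∈ D ∧ y ≠ d₀ ∧ Commute d₀ y})) (h2 : Cfsg.pCore 2 ↥(Subgroup.closure {y : G | y ∈ D ∧ y ≠ d₀ ∧ Commute d₀ y}) ≤ Subgroup.center ↥(Subgroup.closure {y : G | y ∈ D ∧ y ≠ d₀ ∧ Commute d₀ y})) (h24 : Cfsg.IsOfTypeM24 G D) (L : Subgroup G) (hL : L = commutator G) (d₁ d₂ : G) (h₁ : d₁ ∈ D) (h₂ : d₂ ∈ D) (hne : d₁ ≠ d₂) (hc : Commute d₁ d₂) (K CL : Subgroup G) (hK : K = L ⊓ Subgroup.centralizer ({d₁, d₂} : Set G)) (hCL : CL = L ⊓ Subgroup.centralizer ({d₁ * d₂} : Set G)) [hn : ((Subgroup.zpowers (d₁ * d₂)).subgroupOf CL).Normal] : Cfsg.IsQuasisimple ↥K ∧ K = (Cfsg.generalizedFittingSubgroup ↥CL).map CL.subtype ∧ K ≤ CL ∧ (K.subgroupOf CL).index = 2 ∧ d₁ * d₂ ∈ K ∧ Nonempty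 (↥CL ⧸ (Subgroup.zpowers (d₁ * d₂)).subgroupOf CL ≃* MulAut Cfsg.Spor.Fi22) := by
  obtain ⟨d, q, hG⟩ := TT95.cfg24_of_type hD hprim h24
  haveI := TT95.Gen.of_group hD
  subst hL
  exact core hG h₁ ⟨h₂, hne.symm, hc⟩ K CL hK hCL

end Cfsg.Agent.S5465
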