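import Cfsg.Statements.S5469
import Cfsg.Agent.TT95.PairFull
import Mathlib.FieldTheory.Finite.GaloisField

set_option autoImplicit false
open Cfsg

namespace Cfsg.Agent.S5469

/-- Let G be a finite group with trivial centre generated by a conjugation-invariant set D of 3-transpositions on which it acts primitively, such that for some d in D the subgroup generated by the members of D other than d commuting with d has central largest normal 2- and 3-subgroups, and suppose G with D is of type M(22). Let d₁, d₂ be distinct commuting members of D, j = d₁ d₂, K the joint centralizer of d₁ and d₂, C the centralizer of j and V the subgroup generated by d₁ and d₂. Then K has index 2 in C, V is the centre of K, and C has a normal subgroup E containing V with E/V elementary abelian of order 2^8 and C/E isomorphic to the full automorphism group of the projective special unitary group of dimension 4 over the field with four elements. -/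
theorem result {G : Type*} [Group G] [Finite G] {D : Set G} (hD : Cfsg.IsThreeTranspositionGroup D) (hprim : Cfsg.IsPrimitiveUnderConj D) (d₀ : G) (hd₀ : d₀ ∈ D) (h3 : Cfsg.pCore 3 ↥(Subgroup.closure {y : G | y ∈ D ∧ y ≠ d₀ ∧ Commute d₀ y}) ≤ Subgroup.center ↥(Subgroup.closure {y : G | y ∈ D ∧ y ≠ d₀ ∧ Commute d₀ y})) (h2 : Cfsg.pCore 2 ↥(Subgroup.closure {y : G | y ∈ D ∧ y ≠ d₀ ∧ Commute d₀ y}) ≤ Subgroup.center ↥(Subgroup.closure {y : G | y ∈ D ∧ y ≠ d₀ ∧ Commute d₀ y})) (h22 : Cfsg.IsOfTypeM22 G D) (d₁ d₂ : G) (h₁ : d₁ ∈ D) (h₂ : d₂ ∈ D) (hne : d₁ ≠ d₂) (hc : Commute d₁ d₂) (K C V : Subgroup G) (hK : K = Subgroup.centralizer ({d₁, d₂} : Set G)) (hC : C = Subgroup.centralizer ({d₁ * d₂} : Set G)) (hV : V = Subgroup.closure ({d₁, d₂} : Set G)) : K ≤ C ∧ (K.subgroupOf C).index = 2 ∧ (Subgroup.center ↥K).map K.subtype = V ∧ ∃ E : Subgroup G, V ≤ E ∧ E ≤ C ∧ (∀ c ∈ C, ∀ x ∈ E, c * x * c⁻¹ ∈ E) ∧ Nat.card E = 2 ^ 10 ∧ (∀ x ∈ E, ∀ y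 ∈ E, x * y * x⁻¹ * y⁻¹ ∈ V ∧ x ^ 2 ∈ V) ∧ ∃ (_ : (E.subgroupOf C).Normal) (F : Type) (_ : Field F) (_ : Fintype F), Fintype.card F = 4 ∧ Nonempty (↥C ⧸ E.subgroupOf C ≃* MulAut (Cfsg.PSU 4 F 2)) := by
  classical
  haveI := Cfsg.Agent.TT95.Gen.of_group hD
  have hC22 := Cfsg.Agent.TT95.cfg22_of_type hD hprim h22
  have hcore := Cfsg.Agent.TT95.core22_of_type h22
  obtain rfl : C = Cfsg.Agent.TT95.pairStab d₁ d₂ :=
    hC.trans (Cfsg.Agent.TT95.pairStab_eq hC22 h₁ h₂ hne hc).symm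
  obtain ⟨Ψ, hsurj, -, hE, hcen⟩ := Cfsg.Agent.TT95.exists_pair_fitting hC22 hcore h₁ h₂ hne hc
  set E := Ψ.ker.map (Cfsg.Agent.TT95.pairStab d₁ d₂).subtype with hEdef
  have sq : ∀ d ∈ D, d * d = 1 := fun d hd => Cfsg.Agent.TT95.sq hC22.tt hd
  have hmemK : ∀ g : G, g ∈ K ↔ g * d₁ * g⁻¹ = d₁ ∧ g * d₂ * g⁻¹ = d₂ := by
    intro g
    rw [hK, Subgroup.mem_centralizer_iff]
    simp only [Set.mem_insert_iff, Set.mem_singleton_iff, forall_eq_or_imp, forall_eq, mul_inv_eq_iff_eq_mul]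
    exact and_congr eq_comm eq_comm
  have hKC : K ≤ Cfsg.Agent.TT95.pairStab d₁ d₂ := fun g hg => Or.inl ((hmemK g).1 hg)
  have hVle : V ≤ E := by
    rw [hV, Subgroup.closure_le]
    rintro x (rfl | rfl)
    exacts [hE.pair.1, hE.pair.2]
  have hmemV : ∀ x, x = 1 ∨ x = d₁ ∨ x = d₂ ∨ x = d₁ * d₂ → x ∈ V := by
    have m1 : d₁ ∈ V := hV ▸ Subgroup.subset_closure (Or.inl rfl)
    have m2 : d₂ ∈ V := hV ▸ Subgroup.subset_closure (Or.inr rfl)
    rintro x (rfl | rfl | rfl | rfl)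
    exacts [one_mem _, m1, m2, mul_mem m1 m2]
  refine ⟨hKC, ?_, ?_, E, hVle, ?_, ?_, (hE.card.trans (by norm_num)), ?_, ?_⟩
  · rw [hK]; exact Cfsg.Agent.TT95.pair_index_two hC22 h₁ h₂ hne hc
  · refine le_antisymm ?_ ?_
    · rintro _ ⟨x, hx, rfl⟩
      have hfix : ∀ z ∈ E, (x : G) * z * (x : G)⁻¹ = z := fun z hz => by
        have := congrArg Subtype.val (Subgroup.mem_center_iff.1 hx ⟨z, (hmemK z).2 (hE.le_fix z hz)⟩)
        rw [Subgroup.coe_mul, Subgroup.coe_mul] at this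
        exact mul_inv_eq_iff_eq_mul.2 this.symm
      have hxE : (x : G) ∈ E := ⟨⟨x, hKC x.2⟩, hcen _ hfix, rfl⟩
      exact hmemV _ (hE.center _ hxE fun y hy => mul_inv_eq_iff_eq_mul.1 (hfix y hy))
    · rw [hV, Subgroup.closure_le]
      have hmem : ∀ x ∈ ({d₁, d₂} : Set G), x ∈ K := by
        intro x hx
        rw [hK, Subgroup.mem_centralizer_iff]
        rintro y hy
        rcases hx with rfl | rfl <;> rcases hy with rfl | rfl
        exacts [rfl, hc.eq.symm, hc.eq, rfl]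
      intro x hx
      refine ⟨⟨x, hmem x hx⟩, Subgroup.mem_center_iff.2 fun k => Subtype.ext ?_, rfl⟩
      have hk := (hmemK k).1 k.2
      rcases hx with rfl | rfl
      exacts [mul_inv_eq_iff_eq_mul.1 hk.1, mul_inv_eq_iff_eq_mul.1 hk.2]
  · rintro _ ⟨z, -, rfl⟩; exact z.2
  · rintro c hcC _ ⟨z, hz, rfl⟩
    exact ⟨_, (MonoidHom.normal_ker Ψ).conj_mem z hz ⟨c, hcC⟩, rfl⟩
  · intro x hx y hy
    have hj : d₁ * d₂ ∈ V := hmemV _ (by simp)
    refine ⟨?_, ?_⟩
    · rcases hE.comm x hx y hy with h | h <;> rw [h]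
      exacts [one_mem _, hj]
    · rcases hE.squares x hx with h | h <;> rw [pow_two, h]
      exacts [one_mem _, hj]
  · have hEC : E.subgroupOf (Cfsg.Agent.TT95.pairStab d₁ d₂) = Ψ.ker := by
      rw [hEdef, Subgroup.subgroupOf, Subgroup.comap_map_eq_self_of_injective (Subgroup.subtype_injective _)]
    have hn : (E.subgroupOf (Cfsg.Agent.TT95.pairStab d₁ d₂)).Normal := hEC ▸ MonoidHom.normal_ker Ψ
    haveI : Fact (Nat.Prime 2) := ⟨Nat.prime_two⟩
    haveI : Fintype (GaloisField 2 2) := Fintype.ofFinite _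
    have h4 : Fintype.card (GaloisField 2 2) = 2 ^ 2 := by
      rw [← Nat.card_eq_fintype_card, GaloisField.card 2 2 (by norm_num)]
    obtain ⟨eA⟩ := Cfsg.Agent.TT95.K45G.exists_iso_aut_psu4 h4
    exact ⟨hn, GaloisField 2 2, inferInstance, inferInstance, h4.trans (by norm_num),
      ⟨((QuotientGroup.quotientMulEquivOfEq hEC).trans
        (QuotientGroup.quotientKerEquivOfSurjective Ψ hsurj)).trans eA.symm⟩⟩

end Cfsg.Agent.S5469
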