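import Cfsg.Statements.S5470
import Cfsg.Agent.TT95.TripleCount

set_option autoImplicit false
open Cfsg

namespace Cfsg.Agent.S5470

theorem result {G : Type*} [Group G] [Finite G] {D : Set G} (hD : Cfsg.IsThreeTranspositionGroup D) (hprim : Cfsg.IsPrimitiveUnderConj D) (d₀ : G) (hd₀ : d₀ ∈ D) (h3 : Cfsg.pCore 3 ↥(Subgroup.closure {y : G | y ∈ D ∧ y ≠ d₀ ∧ Commute d₀ y}) ≤ Subgroup.center ↥(Subgroup.closure {y : G | y ∈ D ∧ y ≠ d₀ ∧ Commute d₀ y})) (h2 : Cfsg.pCore 2 ↥(Subgroup.closure {y : G | y ∈ D ∧ y ≠ d₀ ∧ Commute d₀ y}) ≤ Subgroup.center ↥(Subgroup.closure {y : G | y ∈ D ∧ y ≠ d₀ ∧ Commute d₀ y})) (h22 : Cfsg.IsOfTypeM22 G D) (d₁ d₂ d₃ : G) (h₁ : d₁ ∈ D) (h₂ : d₂ ∈ D) (h₃ : d₃ ∈ D) (h12 : d₁ ≠ d₂) (h13 : d₁ ≠ d₃) (h23 : d₂ ≠ d₃) (c12 : Commute d₁ d₂) (c13 : Commute d₁ d₃) (c23 : Commute d₂ d₃) : Nat.card ↥(Subgroup.centralizer ({d₁ * d₂ * d₃} : Set G)) = 2 ^ 16 * 3 ^ 3 := by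
  classical
  have hC := TT95.cfg22_of_type hD hprim h22
  haveI := TT95.Gen.of_group hD
  replace hD := TT95.TTSet.of_group hD
  have hcore := TT95.core22_of_type h22
  obtain ⟨x, y, z, hx, hy, hz, nxy, nxz, nyz, cxy, cxz, cyz, xa, xb, xc, hp, huniq⟩ :=
    TT95.partner hC h₁ h₂ h₃ ⟨h12, h13, h23⟩ c12 c13 c23
  set j := d₁ * d₂ * d₃ with hj
  set J := Subgroup.centralizer ({j} : Set G) with hJ
  set t : Bool → Fin 3 → G := fun s i => if s then ![d₁, d₂, d₃] i else ![x, y, z] i with ht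
  have hperm6 : ∀ σ : Equiv.Perm (Fin 3), [σ 0, σ 1, σ 2].Perm [0, 1, 2] := by decide
  have htD : ∀ s i, t s i ∈ D := by
    intro s i; cases s <;> fin_cases i <;> simp [ht, h₁, h₂, h₃, hx, hy, hz]
  have htc : ∀ s i k, Commute (t s i) (t s k) := by
    intro s i k
    cases s <;> fin_cases i <;> fin_cases k <;>
      simp [ht, c12, c13, c23, c12.symm, c13.symm, c23.symm, cxy, cxz, cyz, cxy.symm, cxz.symm, cyz.symm,
        Commute.refl]
  have htinj : ∀ s, Function.Injective (t s) := by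
    intro s i k h
    cases s <;> fin_cases i <;> fin_cases k <;>
      simp [ht, h12, h13, h23, Ne.symm h12, Ne.symm h13, Ne.symm h23, nxy, nxz, nyz, Ne.symm nxy, Ne.symm nxz,
        Ne.symm nyz] at h ⊢
  have hprod : ∀ s (σ : Equiv.Perm (Fin 3)), t s (σ 0) * t s (σ 1) * t s (σ 2) = j := by
    intro s σ
    have := ((hperm6 σ).map (t s)).prod_eq' (List.pairwise_of_forall_mem_list fun u hu v hv => by
      obtain ⟨i, -, rfl⟩ := List.mem_map.1 hu
      obtain ⟨k, -, rfl⟩ := List.mem_map.1 hv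
      exact htc s i k)
    cases s <;> simp [ht, ← mul_assoc] at this ⊢
    · rw [this, ← hp]
    · rw [this]
  set f : J → G × G × G := fun g =>
    ((g : G) * d₁ * (g : G)⁻¹, (g : G) * d₂ * (g : G)⁻¹, (g : G) * d₃ * (g : G)⁻¹) with hf
  set trip : Bool × Equiv.Perm (Fin 3) → G × G × G := fun p =>
    (t p.1 (p.2 0), t p.1 (p.2 1), t p.1 (p.2 2)) with htrip
  have hrange : Set.range f = Set.range trip := by
    ext q
    constructor
    · rintro ⟨g, rfl⟩
      have hgj : (g : G) * j * (g : G)⁻¹ = j := by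
        rw [mul_inv_eq_iff_eq_mul]; exact Subgroup.mem_centralizer_singleton_iff.1 g.2
      have hn : ∀ {u v : G}, u ≠ v → (g : G) * u * (g : G)⁻¹ ≠ (g : G) * v * (g : G)⁻¹ :=
        fun h e => h (mul_left_cancel (mul_right_cancel e))
      have hh : ∀ {u v : G}, Commute u v → Commute ((g : G) * u * (g : G)⁻¹) ((g : G) * v * (g : G)⁻¹) :=
        fun h => (Commute.conj_iff _).2 h
      have key : ∀ s : Bool, (∀ w, (w = (g : G) * d₁ * (g : G)⁻¹ ∨ w = (g : G) * d₂ * (g : G)⁻¹ ∨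
            w = (g : G) * d₃ * (g : G)⁻¹) → ∃ i, t s i = w) → f g ∈ Set.range trip := by
        intro s hs
        obtain ⟨i0, e0⟩ := hs _ (Or.inl rfl)
        obtain ⟨i1, e1⟩ := hs _ (Or.inr (Or.inl rfl))
        obtain ⟨i2, e2⟩ := hs _ (Or.inr (Or.inr rfl))
        have hinj : Function.Injective ![i0, i1, i2] := by
          intro p q e
          fin_cases p <;> fin_cases q <;> simp at e ⊢
          all_goals subst e
          all_goals first
            | exact hn h12 (e0.symm.trans e1) | exact hn h13 (e0.symm.trans e2) | exact hn h23 (e1.symm.trans e2)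
        obtain ⟨σ, hσ⟩ : ∃ σ : Equiv.Perm (Fin 3), ⇑σ = ![i0, i1, i2] :=
          ⟨Equiv.ofBijective _ (Finite.injective_iff_bijective.1 hinj), rfl⟩
        refine ⟨(s, σ), ?_⟩
        simp [htrip, hf, hσ, e0, e1, e2]
      rcases huniq _ _ _ (TT95.conj_mem hD g h₁) (TT95.conj_mem hD g h₂) (TT95.conj_mem hD g h₃)
        ⟨hn h12, hn h13, hn h23⟩ (hh c12) (hh c13) (hh c23) ((show (g : G) * d₁ * (g : G)⁻¹ * ((g : G) * d₂ * (g : G)⁻¹) * ((g : G) * d₃ * (g : G)⁻¹) = (g : G) * j * (g : G)⁻¹ by rw [hj]; group).trans hgj)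
        with h | h
      · refine key true fun w hw => ?_
        rcases (h w).1 hw with r | r | r
        · exact ⟨0, r.symm⟩
        · exact ⟨1, r.symm⟩
        · exact ⟨2, r.symm⟩
      · refine key false fun w hw => ?_
        rcases (h w).1 hw with r | r | r
        · exact ⟨0, r.symm⟩
        · exact ⟨1, r.symm⟩
        · exact ⟨2, r.symm⟩
    · rintro ⟨⟨s, σ⟩, rfl⟩
      obtain ⟨g, g1, g2, g3⟩ := TT95.transTriples22 hC d₁ d₂ d₃ (t s (σ 0)) (t s (σ 1)) (t s (σ 2)) h₁ h₂ h₃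
        (htD _ _) (htD _ _) (htD _ _) ⟨h12, h13, h23⟩
        ⟨fun e => by simpa using htinj s e, fun e => by simpa using htinj s e, fun e => by simpa using htinj s e⟩
        c12 c13 c23 (htc _ _ _) (htc _ _ _) (htc _ _ _)
      have hgJ : g ∈ J := by
        rw [hJ, Subgroup.mem_centralizer_singleton_iff, ← mul_inv_eq_iff_eq_mul]
        calc g * j * g⁻¹ = (g * d₁ * g⁻¹) * (g * d₂ * g⁻¹) * (g * d₃ * g⁻¹) := by rw [hj]; group
          _ = j := by rw [g1, g2, g3, hprod]
      exact ⟨⟨g, hgJ⟩, by simp [hf, htrip, g1, g2, g3]⟩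
  have htripinj : Function.Injective trip := by
    rintro ⟨s, σ⟩ ⟨s', σ'⟩ e
    simp only [htrip, Prod.mk.injEq] at e
    have hs : s = s' := by
      by_contra hne
      have key : ∀ i k, t true i ≠ t false k := by
        intro i k r
        have hx' := huniq x y z hx hy hz ⟨nxy, nxz, nyz⟩ cxy cxz cyz hp.symm
        have hnot : ¬ ∀ w, (w = x ∨ w = y ∨ w = z) ↔ (w = d₁ ∨ w = d₂ ∨ w = d₃) := fun h => by
          rcases (h x).1 (Or.inl rfl) with q | q | q
          · exact xa q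
          · exact xb q
          · exact xc q
        rcases TT95.triple_cases hD hC.tf h₁ h₂ h₃ hx hy hz ⟨h12, h13, h23⟩ ⟨nxy, nxz, nyz⟩ c12 c13 c23 cxy
          cxz cyz hp with h | ⟨hnd, -, -⟩
        · exact hnot fun w => (h w).symm
        · simp only [List.nodup_cons, List.mem_cons, List.not_mem_nil, or_false, not_or] at hnd
          fin_cases i <;> fin_cases k <;> simp [ht] at r <;> simp [r] at hnd
      cases s <;> cases s' <;> first
        | exact hne rfl
        | exact key _ _ e.1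
        | exact key _ _ e.1.symm
    subst hs
    refine Prod.ext rfl (Equiv.ext fun i => ?_)
    fin_cases i
    · exact htinj s e.1
    · exact htinj s e.2.1
    · exact htinj s e.2.2
  have hle : Subgroup.centralizer ({d₁, d₂, d₃} : Set G) ≤ J := by
    intro g hg
    rw [hJ, Subgroup.mem_centralizer_singleton_iff]
    have k : ∀ u ∈ ({d₁, d₂, d₃} : Set G), Commute g u := fun u hu => (Subgroup.mem_centralizer_iff.1 hg u hu).symm
    exact (((k d₁ (by simp)).mul_right (k d₂ (by simp))).mul_right (k d₃ (by simp))).eq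
  have hfib : ∀ g g' : J, f g = f g' ↔ g⁻¹ * g' ∈ (Subgroup.centralizer ({d₁, d₂, d₃} : Set G)).subgroupOf J := by
    intro g g'
    rw [Subgroup.mem_subgroupOf]
    simp only [hf, Prod.mk.injEq, TT95.conj_eq_conj_iff, Subgroup.mem_centralizer_singleton_iff,
      Subgroup.mem_centralizer_iff, Set.mem_insert_iff, Set.mem_singleton_iff, forall_eq_or_imp, forall_eq,
      Subgroup.coe_mul, Subgroup.coe_inv]
  rw [TT95.card_eq_mul_of_fibres f _ hfib, hrange, ← Set.image_univ, Set.ncard_image_of_injective _ htripinj,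
    Set.ncard_univ, Nat.card_prod, Nat.card_perm, Nat.card_congr (Subgroup.subgroupOfEquivOfLe hle).toEquiv,
    TT95.card_centralizer_three hC hcore h₁ h₂ h₃ ⟨h12, h13, h23⟩ c12 c13 c23]
  simp [Nat.card_eq_fintype_card, Nat.factorial]


end Cfsg.Agent.S5470
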