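import Cfsg.Statements.S5471
import Cfsg.Agent.TT95.Triples

set_option autoImplicit false
open Cfsg

namespace Cfsg.Agent.S5471

theorem result {G : Type*} [Group G] [Finite G] {D : Set G} (hD : Cfsg.IsThreeTranspositionGroup D) (hprim : Cfsg.IsPrimitiveUnderConj D) (d₀ : G) (hd₀ : d₀ ∈ D) (h3 : Cfsg.pCore 3 ↥(Subgroup.closure {y : G | y ∈ D ∧ y ≠ d₀ ∧ Commute d₀ y}) ≤ Subgroup.center ↥(Subgroup.closure {y : G | y ∈ D ∧ y ≠ d₀ ∧ Commute d₀ y})) (h2 : Cfsg.pCore 2 ↥(Subgroup.closure {y : G | y ∈ D ∧ y ≠ d₀ ∧ Commute d₀ y}) ≤ Subgroup.center ↥(Subgroup.closure {y : G | y ∈ D ∧ y ≠ d₀ ∧ Commute d₀ y})) (h23 : Cfsg.IsOfTypeM23 G D) (d₁ d₂ d₃ : G) (h₁ : d₁ ∈ D) (h₂ : d₂ ∈ D) (h₃ : d₃ ∈ D) (h12 : d₁ ≠ d₂) (h13 : d₁ ≠ d₃) (h23 : d₂ ≠ d₃) (c12 : Commute d₁ d₂) (c13 : Commute d₁ d₃) (c23 : Commute d₂ d₃) (K C : Subgroup G) (hK : K = Subgroup.centralizer ({d₁, d₂, d₃} : Set G)) (hC : C = Subgroup.centralizer ({d₁ * d₂ * d₃} : Set G))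 : K ≤ C ∧ ∃ _ : (K.subgroupOf C).Normal, Nonempty (↥C ⧸ K.subgroupOf C ≃* Equiv.Perm (Fin 3)) := by
  haveI := TT95.Gen.of_group hD
  replace hD := TT95.TTSet.of_group hD
  rename_i hM
  have htf := TT95.twinFree_of_primitive hD hM.1 hprim
  have hsix := TT95.noRel_six_of_type hD hprim.1 htf (Or.inl hM)
  have htrans := TT95.transTriples_of_core23 hD (TT95.core23_of_type hM)
  subst hK hC
  set f : Fin 3 → G := ![d₁, d₂, d₃] with hf
  have hfD : ∀ i, f i ∈ D := by intro i; fin_cases i <;> assumption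
  have hfc : ∀ i k, Commute (f i) (f k) := by
    intro i k
    fin_cases i <;> fin_cases k <;> simp [hf, c12, c13, c23, c12.symm, c13.symm, c23.symm, Commute.refl]
  have hfinj : Function.Injective f := by
    intro i k h
    fin_cases i <;> fin_cases k <;> simp [hf, h12, h13, h23, Ne.symm h12, Ne.symm h13, Ne.symm h23] at h ⊢
  have hperm : ∀ σ : Equiv.Perm (Fin 3), f (σ 0) * f (σ 1) * f (σ 2) = d₁ * d₂ * d₃ := by
    intro σ
    have h6 : ∀ σ : Equiv.Perm (Fin 3), [σ 0, σ 1, σ 2].Perm [0, 1, 2] := by decide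
    have := ((h6 σ).map f).prod_eq' (List.pairwise_of_forall_mem_list fun x hx y hy => by
      obtain ⟨i, -, rfl⟩ := List.mem_map.1 hx
      obtain ⟨k, -, rfl⟩ := List.mem_map.1 hy
      exact hfc i k)
    simpa [hf, ← mul_assoc] using this
  have hex : ∀ (g : Subgroup.centralizer ({d₁ * d₂ * d₃} : Set G)) (i : Fin 3),
      ∃ k, (g : G) * f i * (g : G)⁻¹ = f k := by
    intro g i
    have e : (g : G) * (d₁ * d₂ * d₃) * (g : G)⁻¹ = d₁ * d₂ * d₃ := by
      rw [mul_inv_eq_iff_eq_mul]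
      exact Subgroup.mem_centralizer_singleton_iff.1 g.2
    have hh : ∀ {x y : G}, Commute x y → Commute ((g : G) * x * (g : G)⁻¹) ((g : G) * y * (g : G)⁻¹) :=
      fun h => (Commute.conj_iff _).2 h
    have hn : ∀ {x y : G}, x ≠ y → (g : G) * x * (g : G)⁻¹ ≠ (g : G) * y * (g : G)⁻¹ :=
      fun h e => h (mul_left_cancel (mul_right_cancel e))
    rcases TT95.triple_cases hD htf h₁ h₂ h₃ (TT95.conj_mem hD g h₁) (TT95.conj_mem hD g h₂)
      (TT95.conj_mem hD g h₃) ⟨h12, h13, h23⟩ ⟨hn h12, hn h13, hn h23⟩ c12 c13 c23 (hh c12) (hh c13) (hh c23)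
      (e.symm.trans (by group)) with h | ⟨e1, e2, e3⟩
    · have hmem : (g : G) * f i * (g : G)⁻¹ = d₁ ∨ (g : G) * f i * (g : G)⁻¹ = d₂ ∨
          (g : G) * f i * (g : G)⁻¹ = d₃ := (h _).2 (by fin_cases i <;> simp [hf])
      rcases hmem with r | r | r
      · exact ⟨0, r⟩
      · exact ⟨1, r⟩
      · exact ⟨2, r⟩
    · refine absurd e3 (hsix _ e1 rfl ?_ e2)
      intro x hx
      simp only [List.mem_cons, List.not_mem_nil, or_false] at hx
      rcases hx with rfl | rfl | rfl | rfl | rfl | rfl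
      all_goals first | assumption | exact TT95.conj_mem hD _ ‹_›
  choose p hp using hex
  have hp_one : ∀ i, p 1 i = i := fun i => hfinj (by rw [← hp 1 i]; simp)
  have hp_mul : ∀ g g' i, p (g * g') i = p g (p g' i) := fun g g' i => hfinj (by
    rw [← hp, ← hp, ← hp]; push_cast; group)
  let φ : Subgroup.centralizer ({d₁ * d₂ * d₃} : Set G) →* Equiv.Perm (Fin 3) :=
    { toFun := fun g => ⟨p g, p g⁻¹, fun i => by rw [← hp_mul, inv_mul_cancel, hp_one],
        fun i => by rw [← hp_mul, mul_inv_cancel, hp_one]⟩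
      map_one' := Equiv.ext hp_one
      map_mul' := fun g g' => Equiv.ext (hp_mul g g') }
  have hle : Subgroup.centralizer ({d₁, d₂, d₃} : Set G) ≤ Subgroup.centralizer ({d₁ * d₂ * d₃} : Set G) := by
    intro x hx
    rw [Subgroup.mem_centralizer_iff] at hx
    rw [Subgroup.mem_centralizer_singleton_iff]
    have k : ∀ i, Commute x (f i) := fun i => (hx (f i) (by fin_cases i <;> simp [hf])).symm
    exact (((k 0).mul_right (k 1)).mul_right (k 2)).eq
  have hker : (Subgroup.centralizer ({d₁, d₂, d₃} : Set G)).subgroupOf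
      (Subgroup.centralizer ({d₁ * d₂ * d₃} : Set G)) = φ.ker := by
    ext g
    rw [Subgroup.mem_subgroupOf, MonoidHom.mem_ker, Subgroup.mem_centralizer_iff]
    constructor
    · intro h
      refine Equiv.ext fun i => hfinj ?_
      show f (p g i) = f i
      rw [← hp, mul_inv_eq_iff_eq_mul]
      exact (h (f i) (by fin_cases i <;> simp [hf])).symm
    · intro h x hx
      obtain ⟨i, rfl⟩ : ∃ i, f i = x := by
        rcases hx with rfl | rfl | rfl
        · exact ⟨0, rfl⟩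
        · exact ⟨1, rfl⟩
        · exact ⟨2, rfl⟩
      have e : (g : G) * f i * (g : G)⁻¹ = f i := by
        rw [hp]
        exact congrArg f (Equiv.congr_fun h i)
      exact (mul_inv_eq_iff_eq_mul.1 e).symm
  have hsurj : Function.Surjective φ := by
    intro σ
    obtain ⟨g, e1, e2, e3⟩ := htrans (f 0) (f 1) (f 2) (f (σ 0)) (f (σ 1)) (f (σ 2)) (hfD _) (hfD _) (hfD _)
      (hfD _) (hfD _) (hfD _) ⟨h12, h13, h23⟩
      ⟨fun e => by simpa using hfinj e, fun e => by simpa using hfinj e, fun e => by simpa using hfinj e⟩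
      (hfc _ _) (hfc _ _) (hfc _ _) (hfc _ _) (hfc _ _) (hfc _ _)
    have hg : g ∈ Subgroup.centralizer ({d₁ * d₂ * d₃} : Set G) := by
      rw [Subgroup.mem_centralizer_singleton_iff, ← mul_inv_eq_iff_eq_mul]
      calc g * (d₁ * d₂ * d₃) * g⁻¹ = (g * f 0 * g⁻¹) * (g * f 1 * g⁻¹) * (g * f 2 * g⁻¹) := by
            simp [hf, ← mul_assoc]
        _ = d₁ * d₂ * d₃ := by rw [e1, e2, e3, hperm]
    refine ⟨⟨g, hg⟩, Equiv.ext fun i => hfinj ?_⟩
    show f (p ⟨g, hg⟩ i) = f (σ i)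
    rw [← hp]
    fin_cases i <;> assumption
  have hn := φ.normal_ker
  rw [← hker] at hn
  refine ⟨hle, hn, ?_⟩
  exact ⟨(QuotientGroup.quotientMulEquivOfEq hker).trans (QuotientGroup.quotientKerEquivOfSurjective φ hsurj)⟩

end Cfsg.Agent.S5471
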