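import Cfsg.Statements.S5472
import Cfsg.Agent.TT95.Inv22.Classify
import Cfsg.Agent.TT95.Inv22.FixR
import Cfsg.Agent.TT95.Inv22.CentA
import Cfsg.Agent.TT95.Inv22.CentAB
import Cfsg.Agent.TT95.Inv22.Plus
import Cfsg.Agent.TT95.Out22.AutLarge
import Cfsg.Agent.S5470

set_option autoImplicit false
open Cfsg

namespace Cfsg.Agent.S5472

open TT95 TT95.Inv22 TT95.Uni22 TT95.Calc in
/-- Conjugate automorphisms fix equally many members of the class. -/
theorem fixed_count {G : Type*} [Group G] [Finite G] {D : Set G} (hC : TT95.Cfg22 D) [TT95.Gen D] {a d : G}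
    {δ : ℕ → G} (h : Std D a d δ) (hpres : ∀ (α : MulAut G) (x : G), α x ∈ D ↔ x ∈ D) {α β : MulAut G}
    {f g : ℕ → ℕ} (hf : PMap a d δ α f) (hg : PMap a d δ β g) (e : IsConj α β) :
    ((List.range 3510).countP fun t => Nat.beq (f t) t) = ((List.range 3510).countP fun t => Nat.beq (g t) t) := by
  classical
  have hcount : ∀ {α : MulAut G} {f : ℕ → ℕ}, PMap a d δ α f →
      {x | x ∈ D ∧ α x = x}.ncard = (List.range 3510).countP fun t => Nat.beq (f t) t := by
    intro α f hf
    have himg : {x | x ∈ D ∧ α x = x} = name a d δ '' ↑((Finset.range 3510).filter fun t => Nat.beq (f t) t = true) := by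
      ext x
      simp only [Set.mem_setOf_eq, Finset.coe_filter, Set.mem_image, Finset.mem_range]
      constructor
      · rintro ⟨hx, ex⟩
        obtain ⟨t, ht, rfl⟩ := exists_name hC h hx
        refine ⟨t, ⟨ht, ?_⟩, rfl⟩
        rw [name_inj hC h (hf t ht).1 ht ((hf t ht).2.symm.trans ex)]
        exact Nat.beq_refl t
      · rintro ⟨t, ⟨ht, et⟩, rfl⟩
        exact ⟨name_mem hC h ht, by rw [(hf t ht).2, Nat.eq_of_beq_eq_true et]⟩
    rw [himg, Set.InjOn.ncard_image, Set.ncard_coe_finset, List.countP_eq_length_filter, Finset.card_def,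
      Finset.filter_val]
    · simp [Finset.range, Multiset.range]
      refine congrArg List.length (List.filter_congr fun x _ => ?_)
      rw [Bool.eq_iff_iff, decide_eq_true_iff, Nat.beq_eq]
    · intro u hu v hv
      simp only [Finset.coe_filter, Set.mem_setOf_eq, Finset.mem_range] at hu hv
      exact name_inj hC h hu.1 hv.1
  obtain ⟨c, hc⟩ := isConj_iff.1 e
  rw [← hcount hf, ← hcount hg, ← Set.ncard_image_of_injective _ c.injective]
  congr 1
  ext x
  constructor
  · rintro ⟨y, ⟨hy, ey⟩, rfl⟩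
    refine ⟨(hpres c y).2 hy, ?_⟩
    rw [← hc, MulAut.mul_apply, MulAut.mul_apply]
    simp [ey]
  · rintro ⟨hx, ex⟩
    refine ⟨c⁻¹ x, ⟨(hpres c⁻¹ x).2 hx, ?_⟩, by simp⟩
    apply c.injective
    rw [← hc, MulAut.mul_apply, MulAut.mul_apply] at ex
    simpa using ex

/-- The second representative fixes 64 members of the class. -/
theorem r1Pt_count : ((List.range 3510).countP fun t => Nat.beq (TT95.Inv22.r1Pt t) t) = 64 := by decide +kernel

/-- Let G be a finite group with trivial centre generated by a conjugation-invariant set D of 3-transpositions on which it acts primitively, such that for some d in D the subgroup generated by the members of D other than d commuting with d has central largest normal 2- and 3-subgroups, and suppose G with D is of type M(22). Then G has a non-inner automorphism s of order 2 whose fixed-point subgroup is isomorphic to the full automorphism group of Ω⁺(8, 2) (the commutator subgroup of the isometry group of the hyperbolic quadratic form in dimension 8 over the field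 with two elements), together with distinct commuting members a, b of D fixed by s such that: s, s composed with conjugation by a, and s composed with conjugation by a b represent the three classes (under the automorphism group) of non-inner automorphisms of order 2; the elements fixed by the automorphism s composed with conjugation by a are exactly those fixed by s and commuting with a, and they form a group isomorphic to the direct product of a group of order 2 and the symplectic group of dimension 6 over the field with two elements; and the elements fixed by the automorphism s composed with conjugation by a b form a group whose largest normal 2-subgroup is elementary abelian of order 64 with quotient isomorphic to the full isometry group of the elliptic quadratic form in dimension 6 over the field with two elements. -/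
theorem result {G : Type*} [Group G] [Finite G] {D : Set G} (hD : Cfsg.IsThreeTranspositionGroup D) (hprim : Cfsg.IsPrimitiveUnderConj D) (d₀ : G) (hd₀ : d₀ ∈ D) (h3 : Cfsg.pCore 3 ↥(Subgroup.closure {y : G | y ∈ D ∧ y ≠ d₀ ∧ Commute d₀ y}) ≤ Subgroup.center ↥(Subgroup.closure {y : G | y ∈ D ∧ y ≠ d₀ ∧ Commute d₀ y})) (h2 : Cfsg.pCore 2 ↥(Subgroup.closure {y : G | y ∈ D ∧ y ≠ d₀ ∧ Commute d₀ y}) ≤ Subgroup.center ↥(Subgroup.closure {y : G | y ∈ D ∧ y ≠ d₀ ∧ Commute d₀ y})) (h22 : Cfsg.IsOfTypeM22 G D) : ∃ (s : MulAut G) (a b : G) (Cs : Subgroup G), orderOf s = 2 ∧ s ∉ (MulAut.conj : G →* MulAut G).range ∧ (∀ g : G, g ∈ Cs ↔ s g = g) ∧ Nonempty (↥Cs ≃* MulAut (Cfsg.Omega (ZMod 2) (Cfsg.quadFormPlus 4 (ZMod 2)))) ∧ a ∈ D ∧ b ∈ D ∧ a ≠ b ∧ Commute a b ∧ s a = a ∧ s b = b ∧ (∀ t : MulAut G, orderOf t = 2 → t ∉ (MulAut.conj : G →* MulAut G).range → (IsConj t s ∨ IsConj t (s * MulAut.conj a) ∨ IsConj t (s * MulAut.conj (a * b)))) ∧ ¬ IsConj s (s * MulAut.conj a) ∧ ¬ IsConj s (s * MulAut.conj (a * b)) ∧ ¬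 IsConj (s * MulAut.conj a) (s * MulAut.conj (a * b)) ∧ (∀ g : G, (s * MulAut.conj a) g = g ↔ g ∈ Cs ⊓ Subgroup.centralizer ({a} : Set G)) ∧ Nonempty (↥(Cs ⊓ Subgroup.centralizer ({a} : Set G)) ≃* Multiplicative (ZMod 2) × Cfsg.PSp 3 (ZMod 2)) ∧ ∃ Csab O : Subgroup G, (∀ g : G, g ∈ Csab ↔ (s * MulAut.conj (a * b)) g = g) ∧ O = (Cfsg.pCore 2 ↥Csab).map Csab.subtype ∧ Cfsg.IsElementaryAbelian 2 O ∧ Nat.card O = 64 ∧ ∃ _ : (O.subgroupOf Csab).Normal, Nonempty (↥Csab ⧸ O.subgroupOf Csab ≃* Cfsg.isometryGroup (ZMod 2) (Cfsg.quadFormMinus 2 (ZMod 2) 1 1)) := by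
  classical
  have := TT95.Gen.of_group hD
  have hC := TT95.cfg22_of_type hD hprim h22
  have hcore := TT95.core22_of_type h22
  -- every automorphism preserves the class
  have hmap : ∀ (α : MulAut G) (x : G), Nat.card ↥(Subgroup.centralizer ({α x} : Set G)) =
      Nat.card ↥(Subgroup.centralizer ({x} : Set G)) := by
    intro α x
    refine (Nat.card_congr (α.toEquiv.subtypeEquiv fun g => ?_)).symm
    show g ∈ Subgroup.centralizer ({x} : Set G) ↔ α g ∈ Subgroup.centralizer ({α x} : Set G)
    rw [Subgroup.mem_centralizer_singleton_iff, Subgroup.mem_centralizer_singleton_iff, ← map_mul, ← map_mul,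
      α.injective.eq_iff]
  have hfwd : ∀ (α : MulAut G) (x : G), x ∈ D → α x ∈ D := by
    intro α x hx
    have hsq : α x * α x = 1 := by rw [← map_mul, TT95.sq hC.tt hx, map_one]
    have h1 : α x ≠ 1 := fun e => TT95.ne_one hC.tt hx (α.injective (by rw [e, map_one]))
    obtain ⟨m, hm1, hm3, hm⟩ := TT95.involution_isProd hC hcore hsq h1
    have hcard := (hmap α x).trans (TT95.card_centralizer hC hx hcore)
    interval_cases m
    · exact (TT95.isProd_one hC).1 hm
    · exfalso
      obtain ⟨u, v, hu, hv, huv, huv', e⟩ := TT95.isProd_two hC hm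
      obtain ⟨γ, hγ, hγv⟩ := TT95.local_one hC hu (show v ∈ TT95.nb D u from ⟨hv, huv.symm, huv'⟩)
      rw [← e, ← TT95.pairStab_eq hC hu hv huv huv', TT95.card_pairStab hC hu hγ hγv hcore] at hcard
      omega
    · exfalso
      obtain ⟨u, v, w, hu, hv, hw, ⟨n1, n2, n3⟩, c1, c2, c3, e⟩ := TT95.isProd_three hC hm
      rw [← e, S5470.result hD hprim d₀ hd₀ h3 h2 h22 u v w hu hv hw n1 n2 n3 c1 c2 c3] at hcard
      norm_num at hcard
  have hpres : ∀ (α : MulAut G) (x : G), α x ∈ D ↔ x ∈ D := fun α x =>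
    ⟨fun h => by simpa using hfwd α⁻¹ _ h, hfwd α x⟩
  obtain ⟨d, δ, h⟩ := TT95.Uni22.exists_std hC hd₀
  obtain ⟨s, hs, hs2⟩ := TT95.Inv22.exists_sigma hC h
  have hso := TT95.Inv22.not_inner_sigma hC h hs
  obtain ⟨hbD, hne, hab⟩ := TT95.Inv22.bEl_spec hC h
  obtain ⟨hsa, hsb⟩ := TT95.Inv22.sigma_fix hC h hs
  have hord : ∀ t : MulAut G, orderOf t = 2 → t * t = 1 := fun t ht => by
    rw [← pow_two, ← ht]; exact pow_orderOf_eq_one t
  refine ⟨s, d₀, TT95.Inv22.bEl d₀ d δ, TT95.Inv22.fixSub s, ?_, hso, fun g => Iff.rfl,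
    TT95.Inv22.exists_iso_aut hC h hs, hd₀, hbD, hne, hab, hsa, hsb,
    fun t ht hto => TT95.Inv22.outer_classes hC h hs hs2 hso hpres hcore (hord t ht) hto, ?_, ?_, ?_,
    fun g => TT95.Inv22.fix_r1_iff hC h hs g, TT95.Inv22.exists_iso_sp hC h hs, ?_⟩
  · exact orderOf_eq_prime (by rw [pow_two, hs2]) fun e => hso (e ▸ one_mem _)
  · intro e
    have := fixed_count hC h hpres hs (TT95.Inv22.pmap_r1 hC h hs) e
    have := TT95.Inv22.sPt_count
    have := r1Pt_count
    omega
  · intro e
    have := fixed_count hC h hpres hs (TT95.Inv22.pmap_r2 hC h hs) e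
    have := TT95.Inv22.sPt_count
    have := TT95.Inv22.r2Pt_count
    omega
  · intro e
    have := fixed_count hC h hpres (TT95.Inv22.pmap_r1 hC h hs) (TT95.Inv22.pmap_r2 hC h hs) e
    have := r1Pt_count
    have := TT95.Inv22.r2Pt_count
    omega
  · obtain ⟨O, hO⟩ := TT95.Inv22.exists_centAB hC h hs hs2
    exact ⟨TT95.Inv22.fixSub (s * MulAut.conj (d₀ * TT95.Inv22.bEl d₀ d δ)), O, fun g => Iff.rfl, hO⟩


end Cfsg.Agent.S5472
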