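import Cfsg.Statements.S5473
import Cfsg.Agent.TT95.Out22.AutLarge
import Cfsg.Agent.S5470
-- import your own Cfsg.Agent.* helpers here

set_option autoImplicit false
open Cfsg

namespace Cfsg.Agent.S5473

/-- Let G be a finite group with trivial centre generated by a conjugation-invariant set D of 3-transpositions on which it acts primitively, such that for some d in D the subgroup generated by the members of D other than d commuting with d has central largest normal 2- and 3-subgroups, and suppose G with D is of type M(22), and let A be the automorphism group of G. Let d₁, d₂ be distinct commuting members of D and j the inner automorphism of their product. Then the generalized Fitting subgroup Q of the centralizer of j in A is a large extraspecial 2-subgroup of A of order 2^11 (extraspecial; centralizer equal to its centre; normal in the centralizer of its centre; normalizing no non-trivial odd-order subgroup), and the centralizer of j modulo Q is isomorphic to the full automorphism group of the projective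 special unitary group of dimension 4 over the field with four elements. -/
theorem result {G : Type*} [Group G] [Finite G] {D : Set G} (hD : Cfsg.IsThreeTranspositionGroup D) (hprim : Cfsg.IsPrimitiveUnderConj D) (d₀ : G) (hd₀ : d₀ ∈ D) (h3 : Cfsg.pCore 3 ↥(Subgroup.closure {y : G | y ∈ D ∧ y ≠ d₀ ∧ Commute d₀ y}) ≤ Subgroup.center ↥(Subgroup.closure {y : G | y ∈ D ∧ y ≠ d₀ ∧ Commute d₀ y})) (h2 : Cfsg.pCore 2 ↥(Subgroup.closure {y : G | y ∈ D ∧ y ≠ d₀ ∧ Commute d₀ y}) ≤ Subgroup.center ↥(Subgroup.closure {y : G | y ∈ D ∧ y ≠ d₀ ∧ Commute d₀ y})) (h22 : Cfsg.IsOfTypeM22 G D) (d₁ d₂ : G) (h₁ : d₁ ∈ D) (h₂ : d₂ ∈ D) (hne : d₁ ≠ d₂) (hc : Commute d₁ d₂) (j : MulAut G) (hj : j = MulAut.conj (d₁ * d₂)) (Q : Subgroup (MulAut G)) (hQ : Q = (Cfsg.generalizedFittingSubgroup ↥(Subgroup.centralizer ({j} : Set (MulAut G)))).map (Subgroup.centralizer ({j} : Set (MulAut G))).subtype) : Cfsg.IsLargeExtraspecial Q ∧ Nat.card Q = 2 ^ 11 ∧ Q ≤ Subgroup.centralizer ({j} : Set (MulAut G)) ∧ ∃ (_ : (Q.subgroupOf (Subgroup.centralizer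 ({j} : Set (MulAut G)))).Normal) (F : Type) (_ : Field F) (_ : Fintype F), Fintype.card F = 4 ∧ Nonempty (↥(Subgroup.centralizer ({j} : Set (MulAut G))) ⧸ Q.subgroupOf (Subgroup.centralizer ({j} : Set (MulAut G))) ≃* MulAut (Cfsg.PSU 4 F 2)) := by
  classical
  haveI := TT95.Gen.of_group hD
  have hC := TT95.cfg22_of_type hD hprim h22
  have hcore := TT95.core22_of_type h22
  -- every automorphism preserves the class
  have hmap : ∀ (α : MulAut G) (x : G), Nat.card ↥(Subgroup.centralizer ({α x} : Set G)) =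
      Nat.card ↥(Subgroup.centralizer ({x} : Set G)) := by
    intro α x
    refine (Nat.card_congr (α.toEquiv.subtypeEquiv fun g => ?_)).symm
    show g ∈ Subgroup.centralizer ({x} : Set G) ↔ α g ∈ Subgroup.centralizer ({α x} : Set G)
    rw [Subgroup.mem_centralizer_singleton_iff, Subgroup.mem_centralizer_singleton_iff, ← map_mul, ← map_mul,
      α.injective.eq_iff]
  have hfwd : ∀ (α : MulAut G) (x : G), x ∈ D → α x ∈ D := by
    intro α x hx
    have hsq : α x * α x = 1 := by rw [← map_mul, TT95.sq hC.tt hx, map_one]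
    have h1 : α x ≠ 1 := fun e => TT95.ne_one hC.tt hx (α.injective (by rw [e, map_one]))
    obtain ⟨m, hm1, hm3, hm⟩ := TT95.involution_isProd hC hcore hsq h1
    have hcard := (hmap α x).trans (TT95.card_centralizer hC hx hcore)
    interval_cases m
    · exact (TT95.isProd_one hC).1 hm
    · exfalso
      obtain ⟨u, v, hu, hv, huv, huv', e⟩ := TT95.isProd_two hC hm
      obtain ⟨γ, hγ, hγv⟩ := TT95.local_one hC hu (show v ∈ TT95.nb D u from ⟨hv, huv.symm, huv'⟩)
      rw [← e, ← TT95.pairStab_eq hC hu hv huv huv', TT95.card_pairStab hC hu hγ hγv hcore] at hcard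
      omega
    · exfalso
      obtain ⟨u, v, w, hu, hv, hw, ⟨n1, n2, n3⟩, c1, c2, c3, e⟩ := TT95.isProd_three hC hm
      rw [← e, S5470.result hD hprim d₀ hd₀ h3 h2 h22 u v w hu hv hw n1 n2 n3 c1 c2 c3] at hcard
      norm_num at hcard
  have hpres : ∀ (α : MulAut G) (x : G), α x ∈ D ↔ x ∈ D := fun α x =>
    ⟨fun h => by simpa using hfwd α⁻¹ _ h, hfwd α x⟩
  obtain ⟨γ, Ψ, φ, π, h⟩ := TT95.Out22.exists_pairAut hC hcore hpres h₁
    (show d₂ ∈ TT95.nb D d₁ from ⟨h₂, hne.symm, hc⟩)
  subst hj
  obtain rfl : Q = h.Q := by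
    subst hQ
    unfold TT95.Out22.PairAut.Q
    rw [← h.fitting_eq]
  refine ⟨h.large hcore, h.card_Q, h.Q_le, ?_⟩
  have hQ' : h.Q.subgroupOf (TT95.Out22.CA d₁ d₂) = h.act.ker := by
    rw [TT95.Out22.PairAut.Q, Subgroup.subgroupOf, Subgroup.comap_map_eq_self_of_injective (Subgroup.subtype_injective _)]
  have hn : (h.Q.subgroupOf (TT95.Out22.CA d₁ d₂)).Normal := hQ' ▸ MonoidHom.normal_ker h.act
  haveI : Fact (Nat.Prime 2) := ⟨Nat.prime_two⟩
  haveI : Fintype (GaloisField 2 2) := Fintype.ofFinite _
  have h4 : Fintype.card (GaloisField 2 2) = 2 ^ 2 := by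
    rw [← Nat.card_eq_fintype_card, GaloisField.card 2 2 (by norm_num)]
  obtain ⟨eA⟩ := TT95.K45G.exists_iso_aut_psu4 h4
  exact ⟨hn, GaloisField 2 2, inferInstance, inferInstance, h4.trans (by norm_num),
    ⟨((QuotientGroup.quotientMulEquivOfEq hQ').trans
      (QuotientGroup.quotientKerEquivOfSurjective h.act h.act_surj)).trans eA.symm⟩⟩

end Cfsg.Agent.S5473
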