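import Cfsg.Statements.S5514
import Cfsg.Agent.O73Three.Classes
import Cfsg.Agent.Lib.UnitaryOrthogonal.OmegaStandard

set_option autoImplicit false
open Cfsg

namespace Cfsg.Agent.S5514

open O73Three

/-- The order of the coordinates. -/
def coordEquiv : Unit ⊕ (Fin 3 ⊕ Fin 3) ≃ Fin 7 where
  toFun x := match x with
    | .inl _ => 0
    | .inr (.inl i) => ⟨i.val + 1, by omega⟩
    | .inr (.inr i) => ⟨i.val + 4, by omega⟩
  invFun i := ![.inl (), .inr (.inl 0), .inr (.inl 1), .inr (.inl 2), .inr (.inr 0), .inr (.inr 1), .inr (.inr 2)] i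
  left_inv x := by
    rcases x with _ | i | i
    · rfl
    all_goals fin_cases i <;> rfl
  right_inv i := by fin_cases i <;> rfl

/-- The coordinate change as an isometry. -/
def coordIso : (UnitaryOrthogonal.qOdd 3 F3).IsometryEquiv Q7 :=
  { LinearEquiv.funCongrLeft F3 F3 coordEquiv.symm with
    map_app' := fun v => by
      rw [UnitaryOrthogonal.qOdd_apply, Q7_apply]
      simp [LinearEquiv.funCongrLeft, coordEquiv, Cfsg.quadFormOdd, LinearMap.funLeft, Fin.sum_univ_three]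
      ring }

/-- The isometry groups correspond. -/
noncomputable def isoEquiv : G7 ≃* Cfsg.isometryGroup F3 (Cfsg.quadFormOdd 3 F3) :=
  (UnitaryOrthogonal.isometryGroupEquiv Q7 (fun _ => rfl)).trans
    ((UnitaryOrthogonal.orthCongr coordIso).symm.trans
      (UnitaryOrthogonal.isometryGroupEquiv (UnitaryOrthogonal.qOdd 3 F3) (UnitaryOrthogonal.qOdd_apply 3)).symm)

theorem exists_omega_equiv :
    Nonempty (Cfsg.Omega F3 ⇑Q7 ≃* Cfsg.POmega F3 (Cfsg.quadFormOdd 3 F3)) := by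
  have hmap : (Cfsg.Omega F3 ⇑Q7).map (isoEquiv : G7 →* _) = Cfsg.Omega F3 (Cfsg.quadFormOdd 3 F3) := by
    show (commutator G7).map _ = commutator _
    rw [commutator_def, commutator_def, Subgroup.map_commutator,
      Subgroup.map_top_of_surjective _ isoEquiv.surjective]
  let e1 : Cfsg.Omega F3 ⇑Q7 ≃* Cfsg.Omega F3 (Cfsg.quadFormOdd 3 F3) :=
    (isoEquiv.subgroupMap _).trans (MulEquiv.subgroupCongr hmap)
  obtain ⟨-, h4⟩ := UnitaryOrthogonal.pomega_odd (F := F3) O73Three.two_ne 1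
  have hcard : 4 * Nat.card (Cfsg.Omega F3 (Cfsg.quadFormOdd 3 F3)) =
      Nat.card (UnitaryOrthogonal.orth (UnitaryOrthogonal.hypSum 3 (UnitaryOrthogonal.sqForm F3))) := by
    rw [← Nat.card_congr e1.toEquiv, ← Nat.card_congr (UnitaryOrthogonal.oddEquiv 3 F3).toEquiv,
      ← Nat.card_congr isoEquiv.toEquiv, ← Subgroup.index_mul_card (Cfsg.Omega F3 ⇑Q7),
      Reflections.omega_index_four O73Three.two_ne polar_nondeg (by simp)]
  have hP : Nat.card (Cfsg.POmega F3 (Cfsg.quadFormOdd 3 F3)) = Nat.card (Cfsg.Omega F3 (Cfsg.quadFormOdd 3 F3)) := by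
    have := h4.trans hcard.symm
    exact Nat.eq_of_mul_eq_mul_left (by norm_num) this
  haveI : Finite (Cfsg.isometryGroup F3 (Cfsg.quadFormOdd 3 F3)) := Subtype.finite
  have hZ : Subgroup.center (Cfsg.Omega F3 (Cfsg.quadFormOdd 3 F3)) = ⊥ := by
    apply Subgroup.eq_bot_of_card_eq
    have h := Subgroup.card_eq_card_quotient_mul_card_subgroup (Subgroup.center (Cfsg.Omega F3 (Cfsg.quadFormOdd 3 F3)))
    rw [← hP] at h
    exact Nat.eq_of_mul_eq_mul_left Nat.card_pos (by rw [mul_one]; exact h.symm)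
  exact ⟨e1.trans ((QuotientGroup.quotientBot (G := Cfsg.Omega F3 (Cfsg.quadFormOdd 3 F3))).symm.trans
    (QuotientGroup.quotientMulEquivOfEq hZ.symm))⟩

theorem eq_or_eq_inv {G : Type*} [Group G] {a b : G} (hb : b ^ 3 = 1) (ha : a ≠ 1)
    (h : Subgroup.zpowers a = Subgroup.zpowers b) : a = b ∨ a = b⁻¹ := by
  obtain ⟨n, hn⟩ := Subgroup.mem_zpowers_iff.mp (h ▸ Subgroup.mem_zpowers a)
  have h3 : b ^ (3 : ℤ) = 1 := by rw [← hb, ← zpow_natCast]; norm_num
  have hn' : a = b ^ (n % 3) := by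
    conv_lhs => rw [← hn, ← Int.emod_add_ediv_mul n 3, zpow_add, mul_comm (n / 3) 3, zpow_mul, h3, one_zpow, mul_one]
  rcases (show n % 3 = 0 ∨ n % 3 = 1 ∨ n % 3 = 2 by omega) with e | e | e
  · rw [e, zpow_zero] at hn'; exact absurd hn' ha
  · left; rw [hn', e, zpow_one]
  · right
    rw [hn', e, eq_inv_iff_mul_eq_one, show b ^ (2 : ℤ) * b = b ^ (3 : ℤ) by rw [← zpow_add_one]; norm_num, h3]

/-- The commutator subgroup of the isometry group of a non-degenerate 7-dimensional quadratic form over the field with three elements, modulo its (trivial) centre — the simple group Ω(7, 3) — has exactly seven conjugacy classes of subgroups of order 3. -/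
theorem result : ∃ Y : Fin 7 → Subgroup (Cfsg.POmega (ZMod 3) (Cfsg.quadFormOdd 3 (ZMod 3))), (∀ i, Nat.card (Y i) = 3) ∧ (∀ i j, (∃ g : Cfsg.POmega (ZMod 3) (Cfsg.quadFormOdd 3 (ZMod 3)), (Y i).map (MulAut.conj g).toMonoidHom = Y j) → i = j) ∧ (∀ X : Subgroup (Cfsg.POmega (ZMod 3) (Cfsg.quadFormOdd 3 (ZMod 3))), Nat.card X = 3 → ∃ i, ∃ g : Cfsg.POmega (ZMod 3) (Cfsg.quadFormOdd 3 (ZMod 3)), X.map (MulAut.conj g).toMonoidHom = Y i) := by
  obtain ⟨θ⟩ := exists_omega_equiv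
  let r : Fin 7 → Cfsg.Omega F3 ⇑Q7 := fun i => ⟨rep7 i, mem_omega_of_cube (rep7_cube i)⟩
  have hr3 : ∀ i, r i ^ 3 = 1 := fun i => Subtype.ext (by rw [SubmonoidClass.coe_pow]; exact rep7_cube i)
  have hr1 : ∀ i, r i ≠ 1 := fun i h => rep7_ne_one i (congrArg Subtype.val h)
  refine ⟨fun i => Subgroup.zpowers (θ (r i)), fun i => ?_, ?_, ?_⟩
  · rw [Nat.card_zpowers, MulEquiv.orderOf_eq θ, orderOf_eq_prime (hr3 i) (hr1 i)]
  · rintro i j ⟨g, hg⟩
    obtain ⟨h, rfl⟩ := θ.surjective g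
    rw [MonoidHom.map_zpowers, MulEquiv.coe_toMonoidHom, MulAut.conj_apply, ← map_inv, ← map_mul, ← map_mul] at hg
    have hne : θ (h * r i * h⁻¹) ≠ 1 := by
      rw [Ne, MulEquiv.map_eq_one_iff, conj_eq_one_iff]; exact hr1 i
    have hj3 : θ (r j) ^ 3 = 1 := by rw [← map_pow, hr3, map_one]
    refine rep7_inj i j h h.2 ?_
    rcases eq_or_eq_inv hj3 hne hg with e | e
    · exact Or.inl (congrArg Subtype.val (θ.injective e))
    · rw [← map_inv] at e
      exact Or.inr (congrArg Subtype.val (θ.injective e))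
  · intro X hX
    haveI : Fact (Nat.Prime 3) := ⟨Nat.prime_three⟩
    haveI : IsCyclic X := isCyclic_of_prime_card hX
    obtain ⟨x, hx⟩ := IsCyclic.exists_zpow_surjective (G := X)
    have hgen : Subgroup.zpowers (x : Cfsg.POmega F3 (Cfsg.quadFormOdd 3 F3)) = X := by
      refine le_antisymm (by rw [Subgroup.zpowers_le]; exact x.2) fun y hy => ?_
      obtain ⟨n, hn⟩ := hx ⟨y, hy⟩
      exact Subgroup.mem_zpowers_iff.mpr ⟨n, congrArg Subtype.val hn⟩
    obtain ⟨z, hz⟩ := θ.surjective (x : Cfsg.POmega F3 (Cfsg.quadFormOdd 3 F3))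
    have hz3 : orderOf z = 3 := by
      rw [← MulEquiv.orderOf_eq θ, hz, ← Nat.card_zpowers, hgen, hX]
    have hzc : (z : G7) ^ 3 = 1 := by
      have h := pow_orderOf_eq_one z
      rw [hz3] at h
      rw [← SubmonoidClass.coe_pow, h]; rfl
    have hz1 : (z : G7) ≠ 1 := fun h => by
      rw [orderOf_eq_one_iff.mpr (Subtype.ext h : z = 1)] at hz3
      exact absurd hz3 (by norm_num)
    obtain ⟨i, h, hh, e⟩ := exists_conj_rep7 (z : G7) hzc hz1
    refine ⟨i, θ ⟨h, hh⟩⁻¹, ?_⟩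
    rw [← hgen, MonoidHom.map_zpowers, MulEquiv.coe_toMonoidHom, MulAut.conj_apply, ← hz, ← map_inv, inv_inv,
      ← map_mul, ← map_mul]
    refine congrArg Subgroup.zpowers (congrArg θ (Subtype.ext ?_))
    show h⁻¹ * (z : G7) * h = rep7 i
    rw [e]
    group

end Cfsg.Agent.S5514
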