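import Cfsg.Statements.S5517
import Cfsg.Agent.TT95.Uni22.Fi22
import Cfsg.Agent.SporB.Fi22.O7.Iso

set_option autoImplicit false
open Cfsg

namespace Cfsg.Agent.S5517

/-- Let G be a finite group with trivial centre generated by a conjugation-invariant set D of 3-transpositions on which it acts primitively, such that for some d in D the subgroup generated by the members of D other than d commuting with d has central largest normal 2- and 3-subgroups, and suppose G with D is of type M(22). Then G has a subgroup L generated by the members of D it contains and isomorphic to Ω(7, 3) (the commutator subgroup of the isometry group of a non-degenerate 7-dimensional quadratic form over the field with three elements, modulo its centre), and every Sylow 3-subgroup of L is a Sylow 3-subgroup of G. -/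
theorem result {G : Type*} [Group G] [Finite G] {D : Set G} (hD : Cfsg.IsThreeTranspositionGroup D) (hprim : Cfsg.IsPrimitiveUnderConj D) (d₀ : G) (hd₀ : d₀ ∈ D) (h3 : Cfsg.pCore 3 ↥(Subgroup.closure {y : G | y ∈ D ∧ y ≠ d₀ ∧ Commute d₀ y}) ≤ Subgroup.center ↥(Subgroup.closure {y : G | y ∈ D ∧ y ≠ d₀ ∧ Commute d₀ y})) (h2 : Cfsg.pCore 2 ↥(Subgroup.closure {y : G | y ∈ D ∧ y ≠ d₀ ∧ Commute d₀ y}) ≤ Subgroup.center ↥(Subgroup.closure {y : G | y ∈ D ∧ y ≠ d₀ ∧ Commute d₀ y})) (h22 : Cfsg.IsOfTypeM22 G D) : ∃ L : Subgroup G, Cfsg.IsDSubgroup D L ∧ Nonempty (↥L ≃* Cfsg.POmega (ZMod 3) (Cfsg.quadFormOdd 3 (ZMod 3))) ∧ ∀ P : Sylow 3 ↥L, ∃ P' : Sylow 3 G, (P : Subgroup ↥L).map L.subtype = (P' : Subgroup G) := by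
  classical
  haveI := Cfsg.Agent.TT95.Gen.of_group hD
  have hC := Cfsg.Agent.TT95.cfg22_of_type hD hprim h22
  have hcore := Cfsg.Agent.TT95.core22_of_type h22
  obtain ⟨f, hf⟩ := Cfsg.Agent.TT95.exists_fi22 hC hcore hd₀
  obtain ⟨eO⟩ := Cfsg.Agent.CosetEnum.Fi22.O7.sub_iso
  set O := Cfsg.Agent.CosetEnum.Fi22.pres.sub Cfsg.Agent.CosetEnum.Fi22.O.sel with hO
  set L := O.map f.toMonoidHom with hL
  have eL : ↥O ≃* ↥L := f.subgroupMap O
  have hcardL : Nat.card L = 4585351680 := by
    rw [← Nat.card_congr eL.toEquiv]; exact Cfsg.Agent.CosetEnum.Fi22.index_O.2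
  have hcardG : Nat.card G = 64561751654400 := by
    rw [← Nat.card_congr f.toEquiv]; exact Cfsg.Agent.CosetEnum.Fi22.card_eq.1
  refine ⟨L, ?_, ⟨eL.symm.trans eO⟩, fun P => ?_⟩
  · refine le_antisymm ((Subgroup.closure_le _).2 fun d hd => hd.2) ?_
    show O.map f.toMonoidHom ≤ _
    refine Subgroup.map_le_iff_le_comap.2 ?_
    rw [hO, Cfsg.Agent.CosetEnum.InvPres.sub]
    refine (Subgroup.closure_le _).2 ?_
    rintro _ ⟨l, hl, rfl⟩
    refine Subgroup.subset_closure ⟨?_, ?_⟩
    · have hl' : Cfsg.Agent.CosetEnum.Fi22.O.sel.getD l 0 < Cfsg.Agent.CosetEnum.Fi22.pres.gens.length := by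
        have h8 : l < 8 := hl
        interval_cases l <;> decide
      have hv : Cfsg.Agent.CosetEnum.Fi22.pres.subVal Cfsg.Agent.CosetEnum.Fi22.O.sel l =
          PresentedGroup.of (Cfsg.Agent.CosetEnum.Fi22.pres.gens[Cfsg.Agent.CosetEnum.Fi22.O.sel.getD l 0]) := by
        have hl2 : l < Cfsg.Agent.CosetEnum.Fi22.O.sel.length := hl
        simp only [Cfsg.Agent.CosetEnum.InvPres.subVal, List.getElem?_eq_getElem hl2]
        rw [Cfsg.Agent.CosetEnum.InvPres.val, Cfsg.Agent.CosetEnum.letterVal_of_lt _ _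
          (by rwa [List.getD_eq_getElem _ _ hl2] at hl')]
        congr 2
        exact (List.getD_eq_getElem _ _ hl2).symm
      show f (Cfsg.Agent.CosetEnum.Fi22.pres.subVal _ l) ∈ D
      rw [hv]
      exact hf _
    · exact ⟨_, Subgroup.subset_closure ⟨l, hl, rfl⟩, rfl⟩
  · haveI : Fact (Nat.Prime 3) := ⟨Nat.prime_three⟩
    have hP : Nat.card ((P : Subgroup L).map L.subtype) = 3 ^ (Nat.card G).factorization 3 := by
      rw [Subgroup.card_map_of_injective L.subtype_injective, P.card_eq_multiplicity, hcardL, hcardG,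
        show (4585351680 : ℕ) = 3 ^ 9 * 232960 from by norm_num,
        show (64561751654400 : ℕ) = 3 ^ 9 * 3280076800 from by norm_num,
        Nat.factorization_mul (by norm_num) (by norm_num), Nat.factorization_mul (by norm_num) (by norm_num)]
      simp [Nat.Prime.factorization_pow Nat.prime_three,
        Nat.factorization_eq_zero_of_not_dvd (show ¬ 3 ∣ 232960 by norm_num),
        Nat.factorization_eq_zero_of_not_dvd (show ¬ 3 ∣ 3280076800 by norm_num)]
    exact ⟨Sylow.ofCard _ hP, (Sylow.coe_ofCard _ hP).symm⟩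

end Cfsg.Agent.S5517
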