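import Cfsg.Statements.S5519
import Cfsg.Agent.TT95.PairFit

set_option autoImplicit false
open Cfsg

namespace Cfsg.Agent.S5519

/-- Let G be a finite group with trivial centre generated by a conjugation-invariant set D of 3-transpositions on which it acts primitively, such that for some d in D the subgroup generated by the members of D other than d commuting with d has central largest normal 2- and 3-subgroups, and suppose G with D is of type M(22). Let d₁, d₂ be distinct commuting members of D and C the centralizer of their product. Then the generalized Fitting subgroup of C is the direct product of a group of order 2 and an extraspecial 2-group of order 2^9, and C modulo it is isomorphic to the full isometry group of the elliptic quadratic form in dimension 6 over the field with two elements. -/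
theorem result {G : Type*} [Group G] [Finite G] {D : Set G} (hD : Cfsg.IsThreeTranspositionGroup D) (hprim : Cfsg.IsPrimitiveUnderConj D) (d₀ : G) (hd₀ : d₀ ∈ D) (h3 : Cfsg.pCore 3 ↥(Subgroup.closure {y : G | y ∈ D ∧ y ≠ d₀ ∧ Commute d₀ y}) ≤ Subgroup.center ↥(Subgroup.closure {y : G | y ∈ D ∧ y ≠ d₀ ∧ Commute d₀ y})) (h2 : Cfsg.pCore 2 ↥(Subgroup.closure {y : G | y ∈ D ∧ y ≠ d₀ ∧ Commute d₀ y}) ≤ Subgroup.center ↥(Subgroup.closure {y : G | y ∈ D ∧ y ≠ d₀ ∧ Commute d₀ y})) (h22 : Cfsg.IsOfTypeM22 G D) (d₁ d₂ : G) (h₁ : d₁ ∈ D) (h₂ : d₂ ∈ D) (hne : d₁ ≠ d₂) (hc : Commute d₁ d₂) (C : Subgroup G) (hC : C = Subgroup.centralizer ({d₁ * d₂} : Set G)) [hn : (Cfsg.generalizedFittingSubgroup ↥C).Normal] : (∃ (E : Type) (_ : Group E) (_ : Finite E), Cfsg.IsExtraspecial 2 E ∧ Nat.card E = 2 ^ 9 ∧ Nonempty (↥(Cfsg.generalizedFittingSubgroup ↥C) ≃* Multiplicative (ZMod 2) × E)) ∧ Nonempty (↥C ⧸ Cfsg.generalizedFittingSubgroup ↥C ≃* Cfsg.isometryGroup (ZMod 2) (Cfsg.quadFormMinus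 2 (ZMod 2) 1 1)) := by
  classical
  haveI := Cfsg.Agent.TT95.Gen.of_group hD
  have hC22 := Cfsg.Agent.TT95.cfg22_of_type hD hprim h22
  have hcore := Cfsg.Agent.TT95.core22_of_type h22
  obtain rfl : C = Cfsg.Agent.TT95.pairStab d₁ d₂ :=
    hC.trans (Cfsg.Agent.TT95.pairStab_eq hC22 h₁ h₂ hne hc).symm
  obtain ⟨Ψ, hsurj, hfit, hE, -⟩ := Cfsg.Agent.TT95.exists_pair_fitting hC22 hcore h₁ h₂ hne hc
  have sq : ∀ d ∈ D, d * d = 1 := fun d hd => Cfsg.Agent.TT95.sq hC22.tt hd
  obtain ⟨F, hF, hFcard, ⟨eF⟩⟩ := hE.exists_extraspecial (sq _ h₁) (sq _ h₂) fun h => hne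
    (by rw [eq_inv_of_mul_eq_one_left h, Cfsg.Agent.TT95.inv_eq hC22.tt h₂])
  obtain ⟨E, _, _, ⟨e⟩⟩ := Cfsg.Agent.TT95.exists_type0 (H := F)
  refine ⟨⟨E, inferInstance, inferInstance, Cfsg.Agent.LargeExtraspecial.isExtraspecial_equiv e.symm hF,
    (Nat.card_congr e.toEquiv).trans hFcard, ⟨?_⟩⟩, ?_⟩
  · exact ((MulEquiv.subgroupCongr hfit).trans
      (Ψ.ker.equivMapOfInjective _ (Cfsg.Agent.TT95.pairStab d₁ d₂).subtype_injective)).trans
      (eF.symm.trans ((MulEquiv.refl _).prodCongr e.symm))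
  · obtain ⟨eI⟩ := Cfsg.Agent.TT95.K45G.exists_iso_minus
    exact ⟨((QuotientGroup.quotientMulEquivOfEq hfit).trans
      (QuotientGroup.quotientKerEquivOfSurjective Ψ hsurj)).trans eI.symm⟩

end Cfsg.Agent.S5519
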