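import Cfsg.Statements.S5529
import Cfsg.Agent.Lib.Golay.M23GenerationData
-- import your own Cfsg.Agent.* helpers here

set_option autoImplicit false
open Cfsg Cfsg.Agent.Golay

namespace Cfsg.Agent.S5529

/-- Generation of the Mathieu group M₂₃ (the stabiliser of a point in the Mathieu group M₂₄ acting on 24 points) by triples of prime orders. Let p ≤ q ≤ r be primes dividing |M₂₃| = 10200960 = 2⁷·3²·5·7·11·23, not both p and q equal to 2. Then M₂₃ contains elements x, y, z of orders p, q, r with xyz = 1 and ⟨x, y⟩ = M₂₃ if and only if (p, q, r) is none of: (2, 3, r) for any r, (2, 5, 5), (2, 5, 7), (3, 3, 3), (3, 3, 5), (3, 3, 7). -/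
theorem result (p q r : ℕ) (hp : p.Prime) (hq : q.Prime)
    (hr : r.Prime) (hpq : p ≤ q) (hqr : q ≤ r) (hp2 : ¬ (p = 2 ∧ q = 2))
    (hdvd : p ∣ 10200960 ∧ q ∣ 10200960 ∧ r ∣ 10200960) :
    (∃ x y z : Cfsg.Spor.M23, orderOf x = p ∧ orderOf y = q ∧ orderOf z = r ∧ x * y * z = 1 ∧
        Subgroup.closure {x, y} = ⊤) ↔
      ¬ ((p = 2 ∧ q = 3) ∨ (p = 2 ∧ q = 5 ∧ r = 5) ∨ (p = 2 ∧ q = 5 ∧ r = 7) ∨ (p = 3 ∧ q = 3 ∧ r ≤ 7)) := by
  constructor
  · rintro ⟨x, y, z, hx, hy, hz, hxyz, hgen⟩ h
    have hb := scott_bound hxyz hgen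
    obtain ⟨x2, x3, x5, x7, xall⟩ := finrank_moveMap_table x.2
    obtain ⟨y2, y3, y5, y7, yall⟩ := finrank_moveMap_table y.2
    obtain ⟨z2, z3, z5, z7, zall⟩ := finrank_moveMap_table z.2
    rw [Subgroup.orderOf_coe] at x2 x3 x5 x7 y2 y3 y5 y7 z2 z3 z5 z7
    rcases h with ⟨rfl, rfl⟩ | ⟨rfl, rfl, rfl⟩ | ⟨rfl, rfl, rfl⟩ | ⟨rfl, rfl, hr7⟩
    · have := x2 hx
      have := y3 hy
      omega
    · have := x2 hx
      have := y5 hy
      have := z5 hz
      omega
    · have := x2 hx
      have := y5 hy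
      have := z7 hz
      omega
    · have := x3 hx
      have := y3 hy
      have hr2 := hr.two_le
      interval_cases r
      all_goals first
        | (have := z2 hz; omega)
        | (have := z3 hz; omega)
        | (have := z5 hz; omega)
        | (have := z7 hz; omega)
        | exact absurd hr (by norm_num)
  · intro hno
    have hmem : ∀ s : ℕ, s.Prime → s ∣ 10200960 →
        s = 2 ∨ s = 3 ∨ s = 5 ∨ s = 7 ∨ s = 11 ∨ s = 23 := by
      intro s hs hd
      have hfac : (10200960 : ℕ) = 2 ^ 7 * (3 ^ 2 * (5 * (7 * (11 * 23)))) := by norm_num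
      rw [hfac, hs.dvd_mul, hs.dvd_mul, hs.dvd_mul, hs.dvd_mul, hs.dvd_mul] at hd
      rcases hd with h | h | h | h | h | h
      · exact Or.inl ((Nat.prime_dvd_prime_iff_eq hs Nat.prime_two).1 (hs.dvd_of_dvd_pow h))
      · exact Or.inr (Or.inl ((Nat.prime_dvd_prime_iff_eq hs Nat.prime_three).1 (hs.dvd_of_dvd_pow h)))
      · exact Or.inr (Or.inr (Or.inl ((Nat.prime_dvd_prime_iff_eq hs Nat.prime_five).1 h)))
      · exact Or.inr (Or.inr (Or.inr (Or.inl ((Nat.prime_dvd_prime_iff_eq hs (by norm_num)).1 h))))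
      · exact Or.inr (Or.inr (Or.inr (Or.inr (Or.inl
          ((Nat.prime_dvd_prime_iff_eq hs (by norm_num)).1 h)))))
      · exact Or.inr (Or.inr (Or.inr (Or.inr (Or.inr
          ((Nat.prime_dvd_prime_iff_eq hs (by norm_num)).1 h)))))
    rcases hmem p hp hdvd.1 with rfl | rfl | rfl | rfl | rfl | rfl <;>
      rcases hmem q hq hdvd.2.1 with rfl | rfl | rfl | rfl | rfl | rfl <;>
      rcases hmem r hr hdvd.2.2 with rfl | rfl | rfl | rfl | rfl | rfl
    all_goals first
      | omega
      | exact absurd rfl (fun h => hp2 ⟨rfl, h⟩)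
      | exact gen2_5_11
      | exact gen2_5_23
      | exact gen2_7_7
      | exact gen2_7_11
      | exact gen2_7_23
      | exact gen2_11_11
      | exact gen2_11_23
      | exact gen2_23_23
      | exact gen3_3_11
      | exact gen3_3_23
      | exact gen3_5_5
      | exact gen3_5_7
      | exact gen3_5_11
      | exact gen3_5_23
      | exact gen3_7_7
      | exact gen3_7_11
      | exact gen3_7_23
      | exact gen3_11_11
      | exact gen3_11_23
      | exact gen3_23_23
      | exact gen5_5_5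
      | exact gen5_5_7
      | exact gen5_5_11
      | exact gen5_5_23
      | exact gen5_7_7
      | exact gen5_7_11
      | exact gen5_7_23
      | exact gen5_11_11
      | exact gen5_11_23
      | exact gen5_23_23
      | exact gen7_7_7
      | exact gen7_7_11
      | exact gen7_7_23
      | exact gen7_11_11
      | exact gen7_11_23
      | exact gen7_23_23
      | exact gen11_11_11
      | exact gen11_11_23
      | exact gen11_23_23
      | exact gen23_23_23

end Cfsg.Agent.S5529
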