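import Cfsg.Statements.S5541
-- import your own Cfsg.Agent.* helpers here

set_option autoImplicit false
open Cfsg

namespace Cfsg.Agent.S5541

private theorem nondeg {H : Type*} [Group H] {U : Type*} [AddCommGroup U] [Module ℝ U]
    (ρ : Representation ℝ H U) (hirr : ∀ W : Submodule ℝ U, (∀ g : H, W.map (ρ g) ≤ W) → W = ⊥ ∨ W = ⊤)
    (B : LinearMap.BilinForm ℝ U) (hB0 : B ≠ 0) (hBi : ∀ (g : H) (u v : U), B (ρ g u) (ρ g v) = B u v) :
    Function.Injective B := by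
  rw [← LinearMap.ker_eq_bot]
  rcases hirr (LinearMap.ker B) (by
    rintro g _ ⟨u, hu, rfl⟩
    rw [SetLike.mem_coe, LinearMap.mem_ker] at hu
    rw [LinearMap.mem_ker]
    ext v
    have := hBi g u (ρ g⁻¹ v)
    rw [hu, ← Module.End.mul_apply, ← map_mul, mul_inv_cancel, map_one] at this
    simpa using this) with h | h
  · exact h
  · exact absurd (LinearMap.ker_eq_top.1 h) hB0

/-- Let ρ be a representation of a group H on a finite-dimensional real vector space U whose only ρ-invariant subspaces are the zero subspace and U, and suppose U carries a non-zero ρ-invariant symmetric bilinear form. Then the following are equivalent: (1) there is a non-zero ρ-equivariant commutative bilinear product on U of which every ρ-equivariant bilinear product is a scalar multiple; (2) there is a non-zero ρ-invariant trilinear form on U that is symmetric under all permutations of its arguments and of which every ρ-invariant trilinear form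 is a scalar multiple. -/
theorem result {H : Type*} [Group H] {U : Type*} [AddCommGroup U] [Module ℝ U] [FiniteDimensional ℝ U] (ρ : Representation ℝ H U) (hirr : ∀ W : Submodule ℝ U, (∀ g : H, W.map (ρ g) ≤ W) → W = ⊥ ∨ W = ⊤) (B : LinearMap.BilinForm ℝ U) (hB0 : B ≠ 0) (hBs : ∀ u v, B u v = B v u) (hBi : ∀ (g : H) (u v : U), B (ρ g u) (ρ g v) = B u v) : (∃ m : U →ₗ[ℝ] U →ₗ[ℝ] U, m ≠ 0 ∧ (∀ u v, m u v = m v u) ∧ (∀ (g : H) (u v : U), m (ρ g u) (ρ g v) = ρ g (m u v)) ∧ ∀ m' : U →ₗ[ℝ] U →ₗ[ℝ] U, (∀ (g : H) (u v : U), m' (ρ g u) (ρ g v) = ρ g (m' u v)) → ∃ c : ℝ, m' = c • m) ↔ (∃ t : U →ₗ[ℝ] U →ₗ[ℝ] U →ₗ[ℝ] ℝ, t ≠ 0 ∧ (∀ u v w, t u v w = t v u w ∧ t u v w = t u w v) ∧ (∀ (g : H) (u v w : U), t (ρ g u) (ρ g v) (ρ g w) = t u v w) ∧ ∀ t' : U →ₗ[ℝ] U →ₗ[ℝ] U →ₗ[ℝ] ℝ, (∀ (g : H) (u v w : U), t' (ρ g u) (ρ g v) (ρ g w) = t' u v w) → ∃ c : ℝ, t' = c • t) := by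
  classical
  have hinj := nondeg ρ hirr B hB0 hBi
  have hsurj : Function.Surjective B :=
    (LinearMap.injective_iff_surjective_of_finrank_eq_finrank (Subspace.dual_finrank_eq (K := ℝ) (V := U)).symm).1 hinj
  let e : U ≃ₗ[ℝ] (U →ₗ[ℝ] ℝ) := LinearEquiv.ofBijective B ⟨hinj, hsurj⟩
  have he : ∀ (f : U →ₗ[ℝ] ℝ) (w : U), B (e.symm f) w = f w := fun f w =>
    LinearMap.congr_fun (e.apply_symm_apply f) w
  let T : (U →ₗ[ℝ] U →ₗ[ℝ] U) → (U →ₗ[ℝ] U →ₗ[ℝ] U →ₗ[ℝ] ℝ) := fun m => m.compr₂ B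
  have hT : ∀ m u v w, T m u v w = B (m u v) w := fun m u v w => rfl
  let M : (U →ₗ[ℝ] U →ₗ[ℝ] U →ₗ[ℝ] ℝ) → (U →ₗ[ℝ] U →ₗ[ℝ] U) := fun t => t.compr₂ e.symm.toLinearMap
  have hM : ∀ t u v w, B (M t u v) w = t u v w := fun t u v w => he _ _
  have inv_trick : ∀ (g : H) (x : U), ρ g (ρ g⁻¹ x) = x := fun g x => by
    rw [← Module.End.mul_apply, ← map_mul, mul_inv_cancel, map_one, Module.End.one_apply]
  have Mequiv : ∀ t : U →ₗ[ℝ] U →ₗ[ℝ] U →ₗ[ℝ] ℝ,
      (∀ (g : H) (u v w : U), t (ρ g u) (ρ g v) (ρ g w) = t u v w) →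
      ∀ (g : H) (u v : U), M t (ρ g u) (ρ g v) = ρ g (M t u v) := by
    intro t ht g u v
    apply hinj
    ext w
    rw [← inv_trick g w, hM, ht, hBi, hM]
  constructor
  · rintro ⟨m, hm0, hms, hme, hmu⟩
    have tinv : ∀ (g : H) (u v w : U), T m (ρ g u) (ρ g v) (ρ g w) = T m u v w := by
      intro g u v w; rw [hT, hT, hme, hBi]
    have tu : ∀ t' : U →ₗ[ℝ] U →ₗ[ℝ] U →ₗ[ℝ] ℝ,
        (∀ (g : H) (u v w : U), t' (ρ g u) (ρ g v) (ρ g w) = t' u v w) → ∃ c : ℝ, t' = c • T m := by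
      intro t' ht'
      obtain ⟨c, hc⟩ := hmu _ (Mequiv t' ht')
      refine ⟨c, ?_⟩
      ext u v w
      rw [← hM t' u v w, hc]
      simp [hT]
    have t0 : T m ≠ 0 := by
      intro h
      apply hm0
      ext u v
      apply hinj
      ext w
      rw [← hT, h]
      simp
    refine ⟨T m, t0, fun u v w => ⟨by rw [hT, hT, hms], ?_⟩, tinv, tu⟩
    -- the transposed form is a multiple of the original one
    let t' : U →ₗ[ℝ] U →ₗ[ℝ] U →ₗ[ℝ] ℝ :=
      (LinearMap.lflip : (U →ₗ[ℝ] U →ₗ[ℝ] ℝ) ≃ₗ[ℝ] (U →ₗ[ℝ] U →ₗ[ℝ] ℝ)).toLinearMap.comp (T m)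
    have ht' : ∀ u v w, t' u v w = T m u w v := fun u v w => rfl
    obtain ⟨c, hc⟩ := tu t' (fun g u v w => by rw [ht', ht', tinv])
    have hc' : ∀ u v w, T m u w v = c * T m u v w := fun u v w => by rw [← ht', hc]; rfl
    obtain ⟨a, b, d, habd⟩ : ∃ a b d, T m a b d ≠ 0 := by
      by_contra h
      push Not at h
      exact t0 (by ext a b d; simpa using h a b d)
    have hcc : c * c = 1 := by
      have := hc' a d b
      rw [hc' a b d, ← mul_assoc] at this
      exact mul_right_cancel₀ habd (this.symm.trans (one_mul _).symm)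
    rcases mul_self_eq_one_iff.1 hcc with rfl | rfl
    · rw [hc' u v w, one_mul]
    · exfalso
      have s : ∀ x y z, T m x y z = T m y x z := fun x y z => by rw [hT, hT, hms]
      apply habd
      linarith [hc' a b d, hc' d a b, hc' b d a, s a d b, s d b a, s b a d]
  · rintro ⟨t, ht0, hts, hti, htu⟩
    refine ⟨M t, ?_, fun u v => ?_, Mequiv t hti, fun m' hm' => ?_⟩
    · intro h
      apply ht0
      ext u v w
      rw [← hM t u v w, h]
      simp
    · apply hinj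
      ext w
      rw [hM, hM, (hts u v w).1]
    · obtain ⟨c, hc⟩ := htu (T m') (fun g u v w => by rw [hT, hT, hm', hBi])
      refine ⟨c, ?_⟩
      ext u v
      apply hinj
      ext w
      rw [← hT, hc]
      simp [hM]

end Cfsg.Agent.S5541
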