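import Cfsg.Statements.S5543
-- import your own Cfsg.Agent.* helpers here

set_option autoImplicit false
open Cfsg

namespace Cfsg.Agent.S5543

private theorem eigen_mem {V : Type*} [AddCommGroup V] [Module ℝ V] (mul : V →ₗ[ℝ] V →ₗ[ℝ] V) (a v : V) (c : ℝ) :
    v ∈ Cfsg.Axial.eigen mul a c ↔ mul a v = c • v := Module.End.mem_eigenspace_iff

private theorem eigenSum_zero_one {V : Type*} [AddCommGroup V] [Module ℝ V] (mul : V →ₗ[ℝ] V →ₗ[ℝ] V) (a v : V)
    (hv : v ∈ Cfsg.Axial.eigenSum mul a {1, 0}) : mul a (mul a v) = mul a v := by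
  have h : Cfsg.Axial.eigenSum mul a {1, 0} ≤
      LinearMap.ker ((mul a).comp (mul a) - mul a) := by
    refine iSup₂_le fun c hc w hw => ?_
    rw [eigen_mem] at hw
    rw [LinearMap.mem_ker, LinearMap.sub_apply, LinearMap.comp_apply, hw, map_smul, hw, sub_eq_zero, smul_smul]
    rcases hc with rfl | rfl <;> simp
  have := h hv
  rwa [LinearMap.mem_ker, LinearMap.sub_apply, LinearMap.comp_apply, sub_eq_zero] at this

private theorem law_qq : Cfsg.Axial.monsterLaw (1 / 4 : ℝ) (1 / 32) (1 / 4) (1 / 4) = {1, 0} := by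
  simp [Cfsg.Axial.monsterLaw, show ¬ ((1 : ℝ) / 4 = 1 / 32) by norm_num]

/-- Let V be a finite-dimensional real vector space with a commutative bilinear product and a positive-definite symmetric bilinear form that associates with the product and satisfies the Norton inequality (the Majorana setting of the definitions). Let X be a group of linear automorphisms of V in which every element squares to the identity, and suppose every non-identity element x of X is a Majorana involution with an axial vector a(x) of squared length 1, such that for any two distinct non-identity x, y the product a(x) ∘ a(y) equals (1/8)(a(x) + a(y) − a(xy)) (the dihedral subalgebra of type 2A whose third axis belongs to the involution xy). Then X has order at most 4. -/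
theorem result {V : Type*} [AddCommGroup V] [Module ℝ V] [FiniteDimensional ℝ V] (mul : V →ₗ[ℝ] V →ₗ[ℝ] V) (B : LinearMap.BilinForm ℝ V) (hV : Cfsg.Axial.IsMajoranaAmbient mul B) (X : Subgroup (V ≃ₗ[ℝ] V)) (hX : ∀ x ∈ X, x * x = 1) (ax : (V ≃ₗ[ℝ] V) → V) (hax : ∀ x ∈ X, x ≠ 1 → Cfsg.Axial.IsMajoranaPair mul B x (ax x)) (h1 : ∀ x ∈ X, x ≠ 1 → B (ax x) (ax x) = 1) (h2A : ∀ x ∈ X, ∀ y ∈ X, x ≠ 1 → y ≠ 1 → x ≠ y → mul (ax x) (ax y) = (1 / 8 : ℝ) • (ax x + ax y - ax (x * y))) : Nat.card ↥X ≤ 4 := by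
  classical
  by_contra hcard
  push Not at hcard
  -- pick x, y, u generating a subgroup of order 8
  obtain ⟨hcomm, -, -, -, -⟩ := hV
  haveI : Finite ↥X := Nat.finite_of_card_ne_zero (by omega)
  have hinv : ∀ p ∈ X, p⁻¹ = p := fun p hp => inv_eq_of_mul_eq_one_right (hX p hp)
  have hab : ∀ p ∈ X, ∀ q ∈ X, p * q = q * p := fun p hp q hq => by
    rw [← hinv _ (X.mul_mem hp hq), mul_inv_rev, hinv p hp, hinv q hq]
  have pick : ∀ S : Finset (V ≃ₗ[ℝ] V), S.card ≤ 4 → ∃ p ∈ X, p ∉ S := by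
    intro S hS
    by_contra h
    push Not at h
    have : Nat.card ↥X ≤ Nat.card ↥(S : Set (V ≃ₗ[ℝ] V)) :=
      Nat.card_mono (Set.toFinite _) (fun p hp => h p hp)
    simp at this
    omega
  obtain ⟨x, hx, hx'⟩ := pick {1} (by simp)
  obtain ⟨y, hy, hy'⟩ := pick {1, x} (Finset.card_le_two.trans (by norm_num))
  obtain ⟨u, hu, hu'⟩ := pick {1, x, y, x * y} (Finset.card_le_four)
  simp only [Finset.mem_insert, Finset.mem_singleton, not_or] at hx' hy' hu'
  obtain ⟨hy1, hyx⟩ := hy'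
  obtain ⟨hu1, hux, huy, huxy⟩ := hu'
  have ne : ∀ {p q : V ≃ₗ[ℝ] V}, p ∈ X → q ∈ X → p ≠ q → p * q ≠ 1 := fun hp hq h e =>
    h (by rw [← hinv _ hp]; exact inv_eq_of_mul_eq_one_right e)
  have hxy := X.mul_mem hx hy
  have hxu := X.mul_mem hx hu
  have hyu := X.mul_mem hy hu
  have hxyu := X.mul_mem hxy hu
  have hxy1 : x * y ≠ 1 := ne hx hy (Ne.symm hyx)
  have hxu1 : x * u ≠ 1 := ne hx hu (Ne.symm hux)
  have hyu1 : y * u ≠ 1 := ne hy hu (Ne.symm huy)
  have hxyu1 : x * y * u ≠ 1 := ne hxy hu (Ne.symm huxy)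
  set a := ax x with ha
  set b := ax y with hb
  set c := ax (x * y) with hc
  set d := ax u with hd
  set e := ax (x * u) with he
  set f := ax (y * u) with hf
  set g := ax (x * y * u) with hg
  obtain ⟨-, -, ⟨⟨-, -, -, hfus⟩, -⟩, -⟩ := hax x hx hx'
  have P : ∀ p q r, p ∈ X → q ∈ X → p ≠ 1 → q ≠ 1 → p ≠ q → p * q = r →
      mul (ax p) (ax q) = (1 / 8 : ℝ) • (ax p + ax q - ax r) := by
    rintro p q r hp hq hp1 hq1 hpq rfl
    exact h2A p hp q hq hp1 hq1 hpq
  have cxy : x * (x * y) = y := by rw [← mul_assoc, hX x hx, one_mul]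
  have cxu : x * (x * u) = u := by rw [← mul_assoc, hX x hx, one_mul]
  have mab : mul a b = (1 / 8 : ℝ) • (a + b - c) := P _ _ _ hx hy hx' hy1 (Ne.symm hyx) rfl
  have mac : mul a c = (1 / 8 : ℝ) • (a + c - b) := P _ _ _ hx hxy hx' hxy1 (fun h => hy1 (left_eq_mul.1 h)) cxy
  have mad : mul a d = (1 / 8 : ℝ) • (a + d - e) := P _ _ _ hx hu hx' hu1 (Ne.symm hux) rfl
  have mae : mul a e = (1 / 8 : ℝ) • (a + e - d) := P _ _ _ hx hxu hx' hxu1 (fun h => hu1 (left_eq_mul.1 h)) cxu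
  have mbd : mul b d = (1 / 8 : ℝ) • (b + d - f) := P _ _ _ hy hu hy1 hu1 (Ne.symm huy) rfl
  have mbe : mul b e = (1 / 8 : ℝ) • (b + e - g) := P _ _ _ hy hxu hy1 hxu1
    (fun h => huxy (by rw [h, cxu]))
    (by rw [← mul_assoc, hab y hy x hx])
  have mcd : mul c d = (1 / 8 : ℝ) • (c + d - g) := P _ _ _ hxy hu hxy1 hu1 (Ne.symm huxy) rfl
  have mce : mul c e = (1 / 8 : ℝ) • (c + e - f) := P _ _ _ hxy hxu hxy1 hxu1
    (fun h => huy (mul_left_cancel h).symm)
    (by rw [hab x hx y hy, mul_assoc, cxu])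
  have mfx : mul g a = (1 / 8 : ℝ) • (g + a - f) := P _ _ _ hxyu hx hxyu1 hx'
    (fun h => hyu1 (by rw [mul_assoc, mul_eq_left] at h; exact h))
    (by rw [hab _ hxyu x hx, mul_assoc x y u, ← mul_assoc x x, hX x hx, one_mul])
  have e1 : b - c ∈ Cfsg.Axial.eigen mul a (1 / 4) := by
    rw [eigen_mem, map_sub, mab, mac]; module
  have e2 : d - e ∈ Cfsg.Axial.eigen mul a (1 / 4) := by
    rw [eigen_mem, map_sub, mad, mae]; module
  have hS : (1 / 4 : ℝ) ∈ Cfsg.Axial.majoranaSpectrum := by simp [Cfsg.Axial.majoranaSpectrum]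
  have h01 := hfus _ hS _ hS _ e1 _ e2
  rw [law_qq] at h01
  have hprod : mul (b - c) (d - e) = (1 / 4 : ℝ) • (g - f) := by
    simp only [map_sub, LinearMap.sub_apply, mbd, mbe, mcd, mce]; module
  have h01' := eigenSum_zero_one mul a _ h01
  rw [hprod] at h01'
  have mag : mul a g = (1 / 8 : ℝ) • (g + a - f) := by rw [hcomm, mfx]
  have maf : mul a f = (1 / 8 : ℝ) • (a + f - g) := P _ _ _ hx hyu hx' hyu1
    (fun h => huxy (by rw [hab x hx y hy, h, ← mul_assoc, hX y hy, one_mul]))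
    (by rw [mul_assoc])
  have hgf : g - f = 0 := by
    have q : mul a (g - f) = (1 / 4 : ℝ) • (g - f) := by rw [map_sub, mag, maf]; module
    rw [map_smul, q, map_smul, map_smul, q] at h01'
    rw [smul_smul, smul_smul] at h01'
    have : ((1 / 4 : ℝ) * (1 / 4) * (1 / 4) - 1 / 4 * (1 / 4)) • (g - f) = 0 := by
      rw [sub_smul, sub_eq_zero, mul_smul (1 / 4 : ℝ) (1 / 4 : ℝ) (g - f)]; exact h01'
    exact (smul_eq_zero.1 this).resolve_left (by norm_num)
  rw [sub_eq_zero] at hgf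
  have mgf : mul g f = (1 / 8 : ℝ) • (g + f - a) := P _ _ _ hxyu hyu hxyu1 hyu1
    (fun h => hx' (by rw [mul_assoc, mul_eq_right] at h; exact h))
    (by rw [mul_assoc x y u, mul_assoc x, hX _ hyu, mul_one])
  obtain ⟨-, -, ⟨⟨-, hgg, -, -⟩, -⟩, -⟩ := hax _ hxyu hxyu1
  rw [← hgf] at mgf
  rw [hgg] at mgf
  have h6 : a = (-6 : ℝ) • g := by linear_combination (norm := module) (8 : ℝ) • mgf
  have n1 := h1 x hx hx'
  have n2 := h1 _ hxyu hxyu1
  rw [← ha] at n1
  rw [← hg] at n2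
  rw [h6] at n1
  simp [n2] at n1
  norm_num at n1

end Cfsg.Agent.S5543
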