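import Cfsg.Statements.S5544
import Cfsg.Agent.Sakuma.Relations

set_option autoImplicit false
open Cfsg

namespace Cfsg.Agent.S5544

open Cfsg.Axial Cfsg.Agent.Sakuma

variable {V : Type*} [AddCommGroup V] [Module ℝ V]
variable {mul : V →ₗ[ℝ] V →ₗ[ℝ] V} {B : LinearMap.BilinForm ℝ V}

private theorem sq_one {μ : V ≃ₗ[ℝ] V} {a : V} (h : Ax mul B μ a) : μ * μ = 1 := by
  refine LinearEquiv.ext fun v => ?_
  obtain ⟨p, q, r, hp, hq, hr, hv⟩ := h.decomp v
  show μ (μ v) = v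
  rw [hv]
  simp only [map_add, map_smul, map_neg, h.fix1, h.fix0 hp, h.fix4 hq, h.neg32 hr, neg_neg]

private theorem unique {μ ν : V ≃ₗ[ℝ] V} {a : V} (h : Ax mul B μ a) (h' : Ax mul B ν a) : μ = ν := by
  refine LinearEquiv.ext fun v => ?_
  obtain ⟨p, q, r, hp, hq, hr, hv⟩ := h.decomp v
  rw [hv]
  simp only [map_add, map_smul, h.fix1, h'.fix1, h.fix0 hp, h'.fix0 hp, h.fix4 hq, h'.fix4 hq,
    h.neg32 hr, h'.neg32 hr]

private theorem conj {μ ν : V ≃ₗ[ℝ] V} {a c : V} (h : Ax mul B μ a) (hν : Ax mul B ν c) :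
    Ax mul B (ν * μ * ν) (ν a) := by
  have hinv : ∀ w, ν (ν w) = w := fun w => LinearEquiv.congr_fun (sq_one hν) w
  have hνm := hν.mapMul
  obtain ⟨h1, h2, ⟨⟨ha0, haa, htop, hfus⟩, hone⟩, hfix, hneg⟩ := h.pair
  have he : ∀ t, eigen mul (ν a) t = (eigen mul a t).map ν.toLinearMap := by
    intro t
    ext w
    rw [Ax.mem_eigen, Submodule.mem_map_equiv, Ax.mem_eigen]
    constructor
    · intro hw
      apply ν.injective
      rw [hνm, ν.apply_symm_apply, hw, map_smul, ν.apply_symm_apply]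
    · intro hw
      have := congrArg ν hw
      rwa [hνm, ν.apply_symm_apply, map_smul, ν.apply_symm_apply] at this
  have hs : ∀ S, eigenSum mul (ν a) S = (eigenSum mul a S).map ν.toLinearMap := by
    intro S
    simp only [eigenSum, Submodule.map_iSup, he]
  refine ⟨h.amb, ⟨fun u v => ?_, fun u v => ?_, ⟨⟨fun e => ha0 (ν.map_eq_zero_iff.1 e),
    by rw [← hνm, haa], ?_, ?_⟩, ?_⟩, ?_, ?_⟩, by rw [hν.isom, h.unit]⟩
  · show ν (μ (ν (mul u v))) = mul (ν (μ (ν u))) (ν (μ (ν v)))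
    rw [hνm, h1, hνm]
  · show B (ν (μ (ν u))) (ν (μ (ν v))) = B u v
    rw [hν.isom, h2, hν.isom]
  · rw [hs, htop, Submodule.map_top, LinearEquiv.range]
  · intro t ht d hd u hu v hv
    rw [he] at hu hv
    obtain ⟨u', hu', rfl⟩ := hu
    obtain ⟨v', hv', rfl⟩ := hv
    rw [hs]
    exact ⟨_, hfus t ht d hd u' hu' v' hv', hνm _ _⟩
  · rw [he, hone, Submodule.map_span, Set.image_singleton]; rfl
  · intro w hw
    rw [hs] at hw
    obtain ⟨w', hw', rfl⟩ := hw
    show ν (μ (ν (ν w'))) = ν w'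
    rw [hinv]
    exact congrArg ν (hfix w' hw')
  · intro w hw
    rw [he] at hw
    obtain ⟨w', hw', rfl⟩ := hw
    show ν (μ (ν (ν w'))) = -ν w'
    rw [hinv]
    exact (congrArg ν (hneg w' hw')).trans (map_neg _ _)

/-- Two axes with inner product `0` or `1/8` have commuting involutions. -/
private theorem commute_of {μ ν : V ≃ₗ[ℝ] V} {a b : V} (h : Ax mul B μ a) (h' : Ax mul B ν b)
    (hab : B a b = 0 ∨ B a b = 1 / 8) : ν * μ = μ * ν := by
  have hr := (relations h h' rfl rfl).1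
  have hy : B a (ν a) = 1 := by
    rcases hab with e | e <;> rw [e] at hr <;>
      rcases hr with g | g | g | g | g | g | g | g | g <;>
      first
      | exact g.2
      | (exfalso; linarith [g.1])
      | (exfalso; linarith)
  have hfix : a = ν a := h.eq_of_unit h.unit (by rw [h'.isom, h.unit]) hy
  have hc := conj h h'
  rw [← hfix] at hc
  have := unique hc h
  calc ν * μ = (ν * μ * ν) * ν := by rw [mul_assoc (ν * μ), sq_one h', mul_one]
    _ = μ * ν := by rw [this]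

/-- Let V be a finite-dimensional real vector space with a commutative bilinear product and a positive-definite symmetric bilinear form that associates with the product and satisfies the Norton inequality (the Majorana setting of the definitions). Let μ₀ and μ₁ be Majorana involutions with axial vectors a₀ and a₁ of squared length 1, each involution having no other axial vector. Then the product μ₀μ₁ has order at most 6: some power (μ₀μ₁)^n with 1 ≤ n ≤ 6 is the identity (so the two involutions generate a dihedral group of order at most 12). This is the 6-transposition property of Majorana involutions. -/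
theorem result {V : Type*} [AddCommGroup V] [Module ℝ V] [FiniteDimensional ℝ V] (mul : V →ₗ[ℝ] V →ₗ[ℝ] V) (B : LinearMap.BilinForm ℝ V) (hV : Cfsg.Axial.IsMajoranaAmbient mul B) (μ₀ μ₁ : V ≃ₗ[ℝ] V) (a₀ a₁ : V) (h₀ : Cfsg.Axial.IsMajoranaPair mul B μ₀ a₀) (h₁ : Cfsg.Axial.IsMajoranaPair mul B μ₁ a₁) (hu₀ : ∀ a : V, Cfsg.Axial.IsMajoranaPair mul B μ₀ a → a = a₀) (hu₁ : ∀ a : V, Cfsg.Axial.IsMajoranaPair mul B μ₁ a → a = a₁) (hn₀ : B a₀ a₀ = 1) (hn₁ : B a₁ a₁ = 1) : ∃ n : ℕ, 1 ≤ n ∧ n ≤ 6 ∧ (μ₀ * μ₁) ^ n = 1 := by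
  have h0 : Ax mul B μ₀ a₀ := ⟨hV, h₀, hn₀⟩
  have h1 : Ax mul B μ₁ a₁ := ⟨hV, h₁, hn₁⟩
  have s0 := sq_one h0
  have s1 := sq_one h1
  have e0 : ∀ g : V ≃ₗ[ℝ] V, μ₀ * (μ₀ * g) = g := fun g => by rw [← mul_assoc, s0, one_mul]
  have e1 : ∀ g : V ≃ₗ[ℝ] V, μ₁ * (μ₁ * g) = g := fun g => by rw [← mul_assoc, s1, one_mul]
  -- the axes `a₂` and `a₃`
  have h2 := conj h0 h1
  have h3 := conj (conj h1 h0) h1
  obtain ⟨hr, hl3, h5⟩ := relations h0 h1 (x := B a₀ a₁) (y := B a₀ (μ₁ a₀)) rfl rfl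
  rcases hr with g | g | g | g | g | g | g | g | g
  · -- 1A
    refine ⟨1, le_rfl, by norm_num, ?_⟩
    have hab : a₀ = a₁ := h0.eq_of_unit hn₀ hn₁ g
    subst hab
    rw [unique h1 h0, pow_one, s0]
  all_goals obtain ⟨gx, gy⟩ := g
  iterate 2
    · -- 2B, 2A
      refine ⟨2, by norm_num, by norm_num, ?_⟩
      have hc := commute_of h0 h1 (by rw [gx]; norm_num)
      rw [pow_two, mul_assoc, ← mul_assoc μ₁, hc, mul_assoc μ₀ μ₁, s1, mul_one, s0]
  iterate 2
    · -- 3A, 3C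
      refine ⟨3, by norm_num, by norm_num, ?_⟩
      rw [gx, gy] at hl3
      have hab : a₀ = μ₁ (μ₀ a₁) := h0.eq_of_unit hn₀ h3.unit (by rw [hl3]; norm_num)
      rw [← hab] at h3
      have hc := unique h3 h0
      calc (μ₀ * μ₁) ^ 3 = μ₀ * (μ₁ * (μ₀ * μ₁ * μ₀) * μ₁) := by simp only [pow_succ, pow_zero, one_mul, mul_assoc]
        _ = 1 := by rw [hc, s0]
  iterate 2
    · -- 4A, 4B
      refine ⟨4, by norm_num, by norm_num, ?_⟩
      have hc := commute_of h0 h2 (by rw [gy]; norm_num)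
      calc (μ₀ * μ₁) ^ 4 = μ₀ * ((μ₁ * μ₀ * μ₁) * μ₀) * (μ₁ * (μ₀ * μ₁)) := by
            simp only [pow_succ, pow_zero, one_mul, mul_assoc]
        _ = 1 := by rw [hc]; simp only [mul_assoc, e0, e1, s0, s1]
  · -- 5A
    refine ⟨5, by norm_num, by norm_num, ?_⟩
    have h2' := conj h2 h0
    have hab : μ₀ (μ₁ a₀) = μ₁ (μ₀ a₁) := h0.eq_of_unit h2'.unit h3.unit (h5 gx gy)
    rw [hab] at h2'
    have hc := unique h2' h3
    calc (μ₀ * μ₁) ^ 5 = (μ₀ * (μ₁ * μ₀ * μ₁) * μ₀) * (μ₁ * (μ₀ * μ₁ * μ₀) * μ₁) := by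
          simp only [pow_succ, pow_zero, one_mul, mul_assoc]
      _ = 1 := by rw [hc, sq_one h3]
  · -- 6A
    refine ⟨6, by norm_num, le_rfl, ?_⟩
    rw [gx, gy] at hl3
    have hc := commute_of h0 h3 (by rw [hl3]; norm_num)
    calc (μ₀ * μ₁) ^ 6 = μ₀ * ((μ₁ * (μ₀ * μ₁ * μ₀) * μ₁) * μ₀) * (μ₁ * (μ₀ * μ₁ * μ₀) * μ₁) := by
          simp only [pow_succ, pow_zero, one_mul, mul_assoc]
      _ = 1 := by rw [hc]; simp only [mul_assoc, e0, e1, s0, s1]

end Cfsg.Agent.S5544
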