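import Cfsg.Statements.S5545
-- import your own Cfsg.Agent.* helpers here

set_option autoImplicit false
open Cfsg

namespace Cfsg.Agent.S5545

open Cfsg.Axial

variable {V : Type*} [AddCommGroup V] [Module ℝ V]

private theorem eigen_mem (mul : V →ₗ[ℝ] V →ₗ[ℝ] V) (a v : V) (c : ℝ) :
    v ∈ eigen mul a c ↔ mul a v = c • v := Module.End.mem_eigenspace_iff

private theorem spec (c : ℝ) : c ∈ majoranaSpectrum ↔ c = 1 ∨ c = 0 ∨ c = 1 / 4 ∨ c = 1 / 32 := by
  simp [majoranaSpectrum]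

private theorem eigenSum_single (mul : V →ₗ[ℝ] V →ₗ[ℝ] V) (a v : V) (c : ℝ) (hv : v ∈ eigenSum mul a {c}) :
    mul a v = c • v := by
  rw [eigenSum] at hv
  simp only [Set.mem_singleton_iff, iSup_iSup_eq_left] at hv
  exact (eigen_mem mul a v c).1 hv

private theorem eigenSum_pair (mul : V →ₗ[ℝ] V →ₗ[ℝ] V) (a v : V) (hv : v ∈ eigenSum mul a {1, 0}) :
    mul a (mul a v) = mul a v := by
  have h : eigenSum mul a {1, 0} ≤ LinearMap.ker ((mul a).comp (mul a) - mul a) := by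
    refine iSup₂_le fun c hc w hw => ?_
    rw [eigen_mem] at hw
    rw [LinearMap.mem_ker, LinearMap.sub_apply, LinearMap.comp_apply, hw, map_smul, hw, sub_eq_zero, smul_smul]
    rcases hc with rfl | rfl <;> simp
  have := h hv
  rwa [LinearMap.mem_ker, LinearMap.sub_apply, LinearMap.comp_apply, sub_eq_zero] at this

private theorem pair_conj (mul : V →ₗ[ℝ] V →ₗ[ℝ] V) (B : LinearMap.BilinForm ℝ V) (μ ν : V ≃ₗ[ℝ] V) (a : V)
    (hνm : ∀ u v : V, ν (mul u v) = mul (ν u) (ν v)) (hc : ν * μ = μ * ν)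
    (h : IsMajoranaPair mul B μ a) : IsMajoranaPair mul B μ (ν a) := by
  obtain ⟨h1, h2, ⟨⟨ha0, haa, htop, hfus⟩, hone⟩, hfix, hneg⟩ := h
  have he : ∀ c, eigen mul (ν a) c = (eigen mul a c).map ν.toLinearMap := by
    intro c
    ext w
    rw [eigen_mem, Submodule.mem_map_equiv, eigen_mem]
    constructor
    · intro hw
      apply ν.injective
      rw [hνm, ν.apply_symm_apply, hw, map_smul, ν.apply_symm_apply]
    · intro hw
      have := congrArg ν hw
      rwa [hνm, ν.apply_symm_apply, map_smul, ν.apply_symm_apply] at this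
  have hs : ∀ S, eigenSum mul (ν a) S = (eigenSum mul a S).map ν.toLinearMap := by
    intro S
    simp only [eigenSum, Submodule.map_iSup, he]
  have hμν : ∀ w, μ (ν w) = ν (μ w) := fun w => (LinearEquiv.congr_fun hc w).symm
  refine ⟨h1, h2, ⟨⟨fun e => ha0 (ν.map_eq_zero_iff.1 e), by rw [← hνm, haa], ?_, ?_⟩, ?_⟩, ?_, ?_⟩
  · rw [hs, htop, Submodule.map_top, LinearEquiv.range]
  · intro c hc d hd u hu v hv
    rw [he] at hu hv
    obtain ⟨u', hu', rfl⟩ := hu
    obtain ⟨v', hv', rfl⟩ := hv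
    rw [hs]
    exact ⟨_, hfus c hc d hd u' hu' v' hv', hνm _ _⟩
  · rw [he, hone, Submodule.map_span, Set.image_singleton]; rfl
  · intro w hw
    rw [hs] at hw
    obtain ⟨w', hw', rfl⟩ := hw
    exact (hμν w').trans (congrArg ν (hfix w' hw'))
  · intro w hw
    rw [he] at hw
    obtain ⟨w', hw', rfl⟩ := hw
    exact (hμν w').trans ((congrArg ν (hneg w' hw')).trans (map_neg _ _))

private theorem decomp (mul : V →ₗ[ℝ] V →ₗ[ℝ] V) (B : LinearMap.BilinForm ℝ V) (hV : IsMajoranaAmbient mul B)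
    (μ : V ≃ₗ[ℝ] V) (a b : V) (h : IsMajoranaPair mul B μ a) (hn : B a a = 1) (hb : μ b = b) :
    ∃ u v : V, mul a u = 0 ∧ mul a v = (1 / 4 : ℝ) • v ∧ b = B a b • a + u + v := by
  obtain ⟨hcomm, hsymm, hpos, hassoc, -⟩ := hV
  obtain ⟨-, -, ⟨⟨-, haa, htop, -⟩, hone⟩, hfix, hneg⟩ := h
  have hle : eigenSum mul a majoranaSpectrum ≤
      eigen mul a 1 ⊔ eigen mul a 0 ⊔ eigen mul a (1 / 4) ⊔ eigen mul a (1 / 32) := by
    refine iSup₂_le fun c hc => ?_
    rcases (spec c).1 hc with rfl | rfl | rfl | rfl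
    · exact le_sup_of_le_left (le_sup_of_le_left le_sup_left)
    · exact le_sup_of_le_left (le_sup_of_le_left le_sup_right)
    · exact le_sup_of_le_left le_sup_right
    · exact le_sup_right
  have hm : b ∈ eigen mul a 1 ⊔ eigen mul a 0 ⊔ eigen mul a (1 / 4) ⊔ eigen mul a (1 / 32) :=
    hle (htop ▸ Submodule.mem_top)
  obtain ⟨p, hp, r, hr, rfl⟩ := Submodule.mem_sup.1 hm
  obtain ⟨p', hp', v, hv, rfl⟩ := Submodule.mem_sup.1 hp
  obtain ⟨s, hs, u, hu, rfl⟩ := Submodule.mem_sup.1 hp'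
  have hμs : μ (s + u + v) = s + u + v := by
    refine hfix _ (add_mem (add_mem ?_ ?_) ?_)
    · exact Submodule.mem_iSup_of_mem 1 (Submodule.mem_iSup_of_mem (Set.mem_insert _ _) hs)
    · exact Submodule.mem_iSup_of_mem 0 (Submodule.mem_iSup_of_mem (Set.mem_insert_of_mem _ (Set.mem_insert _ _)) hu)
    · exact Submodule.mem_iSup_of_mem (1 / 4)
        (Submodule.mem_iSup_of_mem (Set.mem_insert_of_mem _ (Set.mem_insert_of_mem _ rfl)) hv)
  have hμr : μ r = -r := hneg r hr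
  rw [map_add, hμs, hμr] at hb
  have hr0 : r = 0 := by
    have : (2 : ℝ) • r = 0 := by linear_combination (norm := module) (-1 : ℝ) • hb
    exact (smul_eq_zero.1 this).resolve_left two_ne_zero
  subst hr0
  rw [hone, Submodule.mem_span_singleton] at hs
  obtain ⟨α, rfl⟩ := hs
  rw [eigen_mem] at hu hv
  rw [zero_smul] at hu
  refine ⟨u, v, hu, hv, ?_⟩
  have au : B a u = 0 := by
    have := hassoc a a u
    rw [hu, haa, map_zero] at this
    exact this.symm
  have av : B a v = 0 := by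
    have := hassoc a a v
    rw [hv, haa, map_smul, smul_eq_mul] at this
    linarith
  have : B a (α • a + u + v + 0) = α := by simp [hn, au, av]
  rw [this, add_zero]

private theorem half (mul : V →ₗ[ℝ] V →ₗ[ℝ] V) (B : LinearMap.BilinForm ℝ V) (hV : IsMajoranaAmbient mul B)
    (μ : V ≃ₗ[ℝ] V) (a u v : V) (α : ℝ) (h : IsMajoranaPair mul B μ a) (hu : mul a u = 0)
    (hv : mul a v = (1 / 4 : ℝ) • v) (hbb : mul (α • a + u + v) (α • a + u + v) = α • a + u + v) :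
    mul u v = (1 / 2 - α / 4) • v ∧ mul v v = α • a + u - (α * α) • a - mul u u ∧ mul a (mul u u) = 0 := by
  obtain ⟨hcomm, -, -, -, -⟩ := hV
  obtain ⟨-, -, ⟨⟨-, haa, -, hfus⟩, -⟩, -⟩ := h
  have hu' : u ∈ eigen mul a 0 := (eigen_mem _ _ _ _).2 (by rw [hu, zero_smul])
  have hv' : v ∈ eigen mul a (1 / 4) := (eigen_mem _ _ _ _).2 hv
  have l0 : monsterLaw (1 / 4 : ℝ) (1 / 32) 0 0 = {0} := by
    simp [monsterLaw]
  have l1 : monsterLaw (1 / 4 : ℝ) (1 / 32) 0 (1 / 4) = {1 / 4} := by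
    simp [monsterLaw, show ¬ ((1 : ℝ) / 4 = 1 / 32) by norm_num]
  have l2 : monsterLaw (1 / 4 : ℝ) (1 / 32) (1 / 4) (1 / 4) = {1, 0} := by
    simp [monsterLaw, show ¬ ((1 : ℝ) / 4 = 1 / 32) by norm_num]
  have s0 : (0 : ℝ) ∈ majoranaSpectrum := by simp [spec]
  have s4 : (1 / 4 : ℝ) ∈ majoranaSpectrum := by simp [spec]
  have f0 := hfus 0 s0 0 s0 u hu' u hu'
  have f1 := hfus 0 s0 _ s4 u hu' v hv'
  have f2 := hfus _ s4 _ s4 v hv' v hv'
  rw [l0] at f0; rw [l1] at f1; rw [l2] at f2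
  have g0 := eigenSum_single _ _ _ _ f0
  rw [zero_smul] at g0
  have g1 := eigenSum_single _ _ _ _ f1
  have g2 := eigenSum_pair _ _ _ f2
  have hva : mul v a = (1 / 4 : ℝ) • v := by rw [hcomm, hv]
  have hua : mul u a = 0 := by rw [hcomm, hu]
  have hvu : mul v u = mul u v := hcomm v u
  have E : (α * α) • a + mul u u + mul v v + (α / 2) • v + (2 : ℝ) • mul u v = α • a + u + v := by
    conv_rhs => rw [← hbb]
    simp only [map_add, map_smul, LinearMap.add_apply, LinearMap.smul_apply, haa, hu, hv, hua, hva, hvu]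
    module
  -- apply (ad a)² − ad a
  have F := congrArg (fun w => mul a (mul a w) - mul a w) E
  simp only [map_add, map_smul, haa, hu, hv, g0, g1, g2, map_zero] at F
  have huv : mul u v = (1 / 2 - α / 4) • v := by
    linear_combination (norm := module) (-8 / 3 : ℝ) • F
  refine ⟨huv, ?_, g0⟩
  linear_combination (norm := module) E - (2 : ℝ) • huv

/-- Let V be a finite-dimensional real vector space with a commutative bilinear product and a positive-definite symmetric bilinear form that associates with the product and satisfies the Norton inequality (the Majorana setting of the definitions). Let μ₀, μ₁ be commuting Majorana involutions with distinct axial vectors a₀ ≠ a₁ of squared length 1, each involution having no other axial vector. Then either a₀ and a₁ are orthogonal with a₀ ∘ a₁ = 0 (type 2B), or their inner product is 1/8 and, with a₂ = a₀ + a₁ − 8 a₀ ∘ a₁, the vector a₂ is an idempotent and a₀ ∘ a₂ = (1/8)(a₀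 + a₂ − a₁), a₁ ∘ a₂ = (1/8)(a₁ + a₂ − a₀) (type 2A: the three idempotents span a subalgebra with aᵢ ∘ aⱼ = (1/8)(aᵢ + aⱼ − aₖ)). -/
theorem result {V : Type*} [AddCommGroup V] [Module ℝ V] [FiniteDimensional ℝ V] (mul : V →ₗ[ℝ] V →ₗ[ℝ] V) (B : LinearMap.BilinForm ℝ V) (hV : Cfsg.Axial.IsMajoranaAmbient mul B) (μ₀ μ₁ : V ≃ₗ[ℝ] V) (a₀ a₁ : V) (h₀ : Cfsg.Axial.IsMajoranaPair mul B μ₀ a₀) (h₁ : Cfsg.Axial.IsMajoranaPair mul B μ₁ a₁) (hu₀ : ∀ a : V, Cfsg.Axial.IsMajoranaPair mul B μ₀ a → a = a₀) (hu₁ : ∀ a : V, Cfsg.Axial.IsMajoranaPair mul B μ₁ a → a = a₁) (hn₀ : B a₀ a₀ = 1) (hn₁ : B a₁ a₁ = 1) (hc : μ₀ * μ₁ = μ₁ * μ₀) (hne : a₀ ≠ a₁) : (B a₀ a₁ = 0 ∧ mul a₀ a₁ = 0) ∨ (B a₀ a₁ = 1 / 8 ∧ mul (a₀ + a₁ - (8 : ℝ) • mul a₀ a₁) (a₀ + a₁ - (8 : ℝ) • mul a₀ a₁) = a₀ + a₁ - (8 : ℝ) • mul a₀ a₁ ∧ mul a₀ (a₀ + a₁ - (8 : ℝ) • mul a₀ a₁) = (1 / 8 : ℝ) • (a₀ + (a₀ + a₁ - (8 : ℝ) • mul a₀ a₁) - a₁) ∧ mul a₁ (a₀ + a₁ - (8 : ℝ) • mul a₀ a₁)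 = (1 / 8 : ℝ) • (a₁ + (a₀ + a₁ - (8 : ℝ) • mul a₀ a₁) - a₀)) := by
  obtain ⟨hcomm, hsymm, hpos, hassoc, hnorton⟩ := id hV
  have m0 := h₀.1
  have m1 := h₁.1
  have fix01 : μ₀ a₁ = a₁ := hu₁ _ (pair_conj mul B μ₁ μ₀ a₁ m0 hc h₁)
  have fix10 : μ₁ a₀ = a₀ := hu₀ _ (pair_conj mul B μ₀ μ₁ a₀ m1 hc.symm h₀)
  obtain ⟨u, v, hu, hv, hb⟩ := decomp mul B hV μ₀ a₀ a₁ h₀ hn₀ fix01
  obtain ⟨u', v', hu', hv', ha⟩ := decomp mul B hV μ₁ a₁ a₀ h₁ hn₁ fix10
  have haa : mul a₀ a₀ = a₀ := h₀.2.2.1.1.2.1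
  have hbb : mul a₁ a₁ = a₁ := h₁.2.2.1.1.2.1
  set α := B a₀ a₁ with hα
  have hα' : B a₁ a₀ = α := hsymm a₁ a₀
  rw [hα'] at ha
  have hbb' : mul (α • a₀ + u + v) (α • a₀ + u + v) = α • a₀ + u + v := by rw [← hb]; exact hbb
  obtain ⟨huv, hvv, huu⟩ := half mul B hV μ₀ a₀ u v α h₀ hu hv hbb'
  have hab : mul a₀ a₁ = α • a₀ + (1 / 4 : ℝ) • v := by
    rw [hb, map_add, map_add, map_smul, haa, hu, hv, add_zero]
  have hba : mul a₁ a₀ = α • a₁ + (1 / 4 : ℝ) • v' := by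
    rw [ha, map_add, map_add, map_smul, hbb, hu', hv', add_zero]
  have hbw : mul a₁ (mul a₀ a₁) = (3 * α / 4) • a₁ + (1 / 4 : ℝ) • mul a₀ a₁ := by
    rw [hcomm a₀ a₁]
    nth_rewrite 1 [hba]
    rw [map_add, map_smul, map_smul, hbb, hv', hba]
    module
  have hva : mul v a₀ = (1 / 4 : ℝ) • v := by rw [hcomm, hv]
  have hua : mul u a₀ = 0 := by rw [hcomm, hu]
  have E : (α * α) • a₀ + (α / 4 * (1 / 4) + α / 4 + (1 / 4) * (1 / 2 - α / 4)) • v + (1 / 4 : ℝ) • mul v v =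
      (3 * α / 4) • (α • a₀ + u + v) + (1 / 4 : ℝ) • (α • a₀ + (1 / 4 : ℝ) • v) := by
    have h' := hbw
    rw [hab, hb] at h'
    rw [← h']
    simp only [map_add, map_smul, LinearMap.add_apply, LinearMap.smul_apply, haa, hu, hv, hua, hva, huv]
    module
  have F := congrArg (fun w => mul a₀ (mul a₀ w) - mul a₀ w) E
  simp only [hvv, map_add, map_sub, map_smul, haa, hu, hv, huu, map_zero] at F
  have hαv : ((3 : ℝ) / 16 * (α / 2 - 1 / 16)) • v = 0 := by
    linear_combination (norm := module) F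
  have hBu : B a₀ u = 0 := by
    have := hassoc a₀ a₀ u
    rw [hu, haa, map_zero] at this
    exact this.symm
  rcases smul_eq_zero.1 hαv with h | h
  · -- type 2A
    right
    have hα8 : α = 1 / 8 := by linarith [(mul_eq_zero.1 h).resolve_left (by norm_num)]
    refine ⟨hα8, ?_, ?_, ?_⟩
    · have hc2 : a₀ + a₁ - (8 : ℝ) • mul a₀ a₁ = α • a₀ + u - v := by
        rw [hab, hb, hα8]; module
      rw [hc2]
      have hvu : mul v u = mul u v := hcomm v u
      simp only [map_add, map_sub, map_smul, LinearMap.add_apply, LinearMap.sub_apply, LinearMap.smul_apply,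
        haa, hu, hv, hua, hva, hvu, huv, hvv, hα8]
      module
    · rw [hab, hb, map_sub, map_add, map_smul, haa]
      simp only [map_add, map_smul, haa, hu, hv, hα8]
      module
    · rw [map_sub, map_add, map_smul, hbb, hbw, hcomm a₁ a₀, hα8]
      module
  · subst h
    have hid : B a₀ (mul a₁ a₁) = α := by rw [hbb]
    rw [hassoc, hab, smul_zero, add_zero, map_smul, LinearMap.smul_apply, smul_eq_mul] at hid
    rcases eq_or_ne α 0 with h0 | h0
    · exact Or.inl ⟨h0, by rw [hab, h0, zero_smul, smul_zero, add_zero]⟩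
    · exfalso
      rw [← hα] at hid
      have h1' : α = 1 := mul_left_cancel₀ h0 (by linarith)
      have : B u u = 0 := by
        have h2 := hn₁
        rw [hb] at h2
        simp [hn₀, hBu, hsymm u a₀, h1'] at h2
        linarith
      have hu0 : u = 0 := by
        by_contra hne'
        exact (hpos u hne').ne' this
      exact hne (by rw [hb, h1', hu0, one_smul, add_zero, add_zero])

end Cfsg.Agent.S5545
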