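import Cfsg.Statements.S5555
import Cfsg.Agent.ThreeTransSplit52.Main
import Cfsg.Agent.Classical10.U32
import Cfsg.Agent.Lib.Thompson.Cores

set_option autoImplicit false
open Cfsg

namespace Cfsg.Agent.S5555

/-- Let G be a finite group generated by a conjugacy class D of 3-transpositions, with trivial centre and with generalized Fitting subgroup F*(G) = O₂(G) (so the Fitting subgroup is O₂(G) too). If G/O₂(G) is isomorphic to the derived group of SU₃(2) (the group of order 54 generated by nine 3-transpositions), then O₂(G) has a complement in G. -/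
theorem result {G : Type*} [Group G] [Finite G] {D : Set G} (hD : Cfsg.IsThreeTranspositionClass D)
    (hZ : Subgroup.center G = ⊥) (hF : Cfsg.generalizedFittingSubgroup G = Cfsg.pCore 2 G)
    (hq : ∃ (F : Type) (_ : Field F) (_ : Fintype F), Fintype.card F = 4 ∧ Nonempty (G ⧸ Cfsg.pCore 2 G ≃* ↥(commutator ↥(Cfsg.SU 3 F 2)))) :
    ∃ K : Subgroup G, (Cfsg.pCore 2 G).IsComplement' K := by
  classical
  haveI := Fact.mk Nat.prime_two
  haveI := Fact.mk Nat.prime_three
  obtain ⟨hset, ⟨d, hdD, hDeq⟩, hgen⟩ := hD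
  obtain ⟨F, _, _, hF4, ⟨e⟩⟩ := hq
  obtain ⟨E, hE, hcE, -, -, ⟨f⟩⟩ := Cfsg.Agent.U32.exists_structure (F := F) hF4
  haveI := hE
  set V := Cfsg.pCore 2 G
  haveI hVn : V.Normal := Cfsg.Agent.Thompson.instPCoreNormal
  have hV : IsPGroup 2 V := Cfsg.Agent.Thompson.isPGroup_pCore
  by_cases hdV : d ∈ V
  · refine ⟨⊥, ?_⟩
    have htop : V = ⊤ := by
      rw [eq_top_iff, ← hgen, Subgroup.closure_le, hDeq]
      intro x hx
      obtain ⟨g, rfl⟩ := isConj_iff.1 hx
      exact hVn.conj_mem d hdV g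
    rw [htop]
    exact Subgroup.isComplement'_top_bot
  -- the map onto a subgroup of the quaternion group
  let ψ : G →* QuaternionGroup 2 :=
    ((f.toMonoidHom.comp (QuotientGroup.mk' E)).comp (commutator ↥(Cfsg.SU 3 F 2)).subtype).comp
      (e.toMonoidHom.comp (QuotientGroup.mk' V))
  set M := ψ.ker
  have hMV : V ≤ M := fun x hx => by
    show ψ x = 1
    simp [ψ, (QuotientGroup.eq_one_iff x).2 hx]
  have hd2 : d * d = 1 := by
    rw [← pow_two]; exact (hset.1 d hdD) ▸ pow_orderOf_eq_one d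
  -- `M` modulo `V` is a `3`-group
  have hM3 : IsPGroup 3 (M.map (QuotientGroup.mk' V)) := by
    let χ : M.map (QuotientGroup.mk' V) →* Cfsg.SU 3 F 2 :=
      ((commutator ↥(Cfsg.SU 3 F 2)).subtype.comp e.toMonoidHom).comp (Subgroup.subtype _)
    have hχ : Function.Injective χ := fun a b h =>
      Subtype.ext (e.injective (Subtype.ext h))
    have hr : χ.range ≤ E := by
      rintro _ ⟨⟨_, x, hx, rfl⟩, rfl⟩
      have h : f (QuotientGroup.mk' E (χ ⟨_, x, hx, rfl⟩)) = 1 := hx
      rw [map_eq_one_iff f f.injective] at h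
      exact (QuotientGroup.eq_one_iff _).1 h
    have hEp : IsPGroup 3 E := IsPGroup.of_card (n := 3) (by rw [hcE]; norm_num)
    exact (hEp.to_le hr).of_equiv (MonoidHom.ofInjective hχ).symm
  obtain ⟨S⟩ : Nonempty (Sylow 3 M) := inferInstance
  have hVS : V ⊔ (S : Subgroup M).map M.subtype = M := by
    refine le_antisymm (sup_le hMV (Subgroup.map_subtype_le _)) fun x hx => ?_
    set ρ := (QuotientGroup.mk' V).subgroupMap M
    have hρ : Function.Surjective ρ := MonoidHom.subgroupMap_surjective _ M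
    have htop : (S : Subgroup M).map ρ = ⊤ :=
      ((S.mapSurjective hρ).3 (IsPGroup.of_equiv hM3 Subgroup.topEquiv.symm) le_top).symm
    obtain ⟨s, hs, hsx⟩ : ρ ⟨x, hx⟩ ∈ (S : Subgroup M).map ρ := htop ▸ Subgroup.mem_top _
    have h1 : QuotientGroup.mk' V (s : G) = QuotientGroup.mk' V x := congrArg Subtype.val hsx
    have h2 : x * (s : G)⁻¹ ∈ V := by
      rw [← QuotientGroup.eq_one_iff, ← QuotientGroup.mk'_apply, map_mul, map_inv, h1, mul_inv_cancel]
    have h3 := Subgroup.mul_mem_sup h2 (Subgroup.mem_map_of_mem M.subtype hs)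
    simpa using h3
  have hconjD : ∀ g : G, g * d * g⁻¹ ∈ D := fun g => by
    rw [hDeq]; exact isConj_iff.2 ⟨g, rfl⟩
  have hdM : d ∉ M := by
    intro h
    refine hdV ?_
    have h1 : QuotientGroup.mk' V d = 1 :=
      Cfsg.Agent.ThreeTransSplit52.eq_one_of_sq hM3 (Subgroup.mem_map_of_mem _ h)
        (by rw [pow_two, ← map_mul, hd2, map_one])
    exact (QuotientGroup.eq_one_iff d).1 h1
  have hinv : ∀ q : QuaternionGroup 2, q * q = 1 → q = 1 ∨ q = QuaternionGroup.a 2 := by decide
  have hψd : ψ d = QuaternionGroup.a 2 :=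
    (hinv _ (by rw [← map_mul, hd2, map_one])).resolve_left hdM
  have hψD : ∀ x ∈ D, ψ x = ψ d := by
    intro x hx
    rw [hDeq] at hx
    obtain ⟨g, rfl⟩ := isConj_iff.1 hx
    rw [map_mul, map_mul, hψd, map_inv]
    have hc : ∀ q : QuaternionGroup 2, q * QuaternionGroup.a 2 * q⁻¹ = QuaternionGroup.a 2 := by decide
    exact hc _
  have hMd : M ⊔ Subgroup.zpowers d = ⊤ := by
    rw [eq_top_iff, ← hgen, Subgroup.closure_le]
    intro x hx
    have h : x * d⁻¹ ∈ M := by
      show ψ (x * d⁻¹) = 1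
      rw [map_mul, map_inv, hψD x hx, mul_inv_cancel]
    have h2 := Subgroup.mul_mem_sup h (Subgroup.mem_zpowers d)
    simpa using h2
  obtain ⟨x, hxM, hxV, hxd⟩ : ∃ x ∈ M, x ∉ V ∧ d * x * d * x ∈ V := by
    by_contra hno
    refine hdV ?_
    have hall : ∀ y ∈ D, d * y ∈ V := by
      intro y hy
      by_contra hyV
      refine hno ⟨d * y, ?_, hyV, ?_⟩
      · show ψ (d * y) = 1
        rw [map_mul, hψD y hy, ← map_mul, hd2, map_one]
      · have hy2 : y * y = 1 := by rw [← pow_two]; exact (hset.1 y hy) ▸ pow_orderOf_eq_one y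
        rw [show d * (d * y) * d * (d * y) = d * d * y * (d * d) * y by group, hd2, one_mul, mul_one,
          hy2]
        exact one_mem _
    have hle : (V ⊔ Subgroup.zpowers d) = ⊤ := by
      rw [eq_top_iff, ← hgen, Subgroup.closure_le]
      intro y hy
      have h := mul_mem (Subgroup.mem_sup_right (S := V) (inv_mem (Subgroup.mem_zpowers d)))
        (Subgroup.mem_sup_left (T := Subgroup.zpowers d) (hall y hy))
      rw [inv_mul_cancel_left] at h
      exact h
    have hp : IsPGroup 2 (⊤ : Subgroup G) := hle ▸ IsPGroup.to_sup_of_normal_left hV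
      (IsPGroup.of_card (n := 1) (by rw [Nat.card_zpowers, hset.1 d hdD]; norm_num))
    exact Cfsg.Agent.Thompson.le_pCore (N := (⊤ : Subgroup G)) inferInstance hp (Subgroup.mem_top d)
  haveI : M.Normal := MonoidHom.normal_ker ψ
  obtain ⟨Q, hQ, hVQ, hQd⟩ := Cfsg.Agent.ThreeTransSplit52.exists_normalized (Nat.card G) G le_rfl
    V M ((S : Subgroup M).map M.subtype) hV (S.2.map _) hVS d hd2 hdM hMd
    (fun g => hset.2 d hdD _ (hconjD g)) ⟨x, hxM, hxV, hxd⟩
  have hdN : Subgroup.zpowers d ≤ Subgroup.normalizer (Q : Set G) := by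
    rw [Subgroup.zpowers_le, Subgroup.mem_normalizer_iff]
    intro y
    refine ⟨hQd y, fun hy => ?_⟩
    have h := hQd _ hy
    rwa [inv_eq_of_mul_eq_one_right hd2, show d * (d * y * d) * d = d * d * y * (d * d) by group,
      hd2, one_mul, mul_one] at h
  refine ⟨Q ⊔ Subgroup.zpowers d, Subgroup.isComplement'_of_disjoint_and_mul_eq_univ ?_ ?_⟩
  · rw [Subgroup.disjoint_def]
    intro z hzV hz
    rw [sup_comm, ← SetLike.mem_coe, Subgroup.coe_mul_of_left_le_normalizer_right _ Q hdN] at hz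
    obtain ⟨c, ⟨k, rfl⟩, q, hq', rfl⟩ := hz
    have hqM : q ∈ M := hVQ ▸ Subgroup.mem_sup_right hq'
    have hc : d ^ k ∈ M := by
      have h := mul_mem (hMV hzV) (inv_mem hqM)
      rwa [mul_inv_cancel_right] at h
    rcases Int.even_or_odd k with ⟨j, rfl⟩ | ⟨j, rfl⟩
    · have h1 : d ^ (j + j) = 1 := by
        rw [← two_mul, zpow_mul, zpow_two, hd2, one_zpow]
      simp only [h1, one_mul] at hzV ⊢
      exact Cfsg.Agent.ThreeTransSplit52.eq_one_of_two_three hV hQ hzV hq'
    · exfalso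
      rw [zpow_add, zpow_mul, zpow_two, hd2, one_zpow, one_mul, zpow_one] at hc
      exact hdM hc
  · rw [← Subgroup.normal_mul, ← sup_assoc, hVQ, hMd, Subgroup.coe_top]

end Cfsg.Agent.S5555
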