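import Cfsg.Statements.S5559
import Cfsg.Agent.Sporadic96.TwoRadicalWidthOne
import Cfsg.Agent.Sporadic96.SU32Comm

set_option autoImplicit false
open Cfsg

namespace Cfsg.Agent.S5559

/-- Let H be a finite group generated by a conjugacy class E of 3-transpositions with at least two members, with F*(H) = O₂(H), and such that H/O₂(H) has a normal Sylow 3-subgroup of 2-power index (that is, H = O_{2,3,2}(H)). Then H/O₂(H) is isomorphic to the symmetric group of degree 3 or to the derived group of SU₃(2) (of order 54). -/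
theorem result {H : Type*} [Group H] [Finite H] {E : Set H} (hE : Cfsg.IsThreeTranspositionClass E)
    (hE2 : ∃ a ∈ E, ∃ b ∈ E, a ≠ b) (hF : Cfsg.generalizedFittingSubgroup H = Cfsg.pCore 2 H)
    (h232 : ∃ P : Sylow 3 (H ⧸ Cfsg.pCore 2 H), (P : Subgroup (H ⧸ Cfsg.pCore 2 H)).Normal ∧
      ∃ k : ℕ, (P : Subgroup (H ⧸ Cfsg.pCore 2 H)).index = 2 ^ k) :
    Nonempty (H ⧸ Cfsg.pCore 2 H ≃* Equiv.Perm (Fin 3)) ∨
      ∃ (F : Type) (_ : Field F) (_ : Fintype F), Fintype.card F = 4 ∧
        Nonempty (H ⧸ Cfsg.pCore 2 H ≃* ↥(commutator ↥(Cfsg.SU 3 F 2))) := by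
  rcases Sporadic96.TwoRadical.main hE hE2 hF h232 with h | h'
  · exact Or.inl h
  · refine Or.inr ⟨GaloisField 2 2, inferInstance, Fintype.ofFinite _, ?_, ?_⟩
    · letI := Fintype.ofFinite (GaloisField 2 2)
      rw [Fintype.card_eq_nat_card, GaloisField.card 2 2 (by norm_num)]
      rfl
    · letI := Fintype.ofFinite (GaloisField 2 2)
      obtain ⟨f⟩ := Sporadic96.SU32.model_equiv (F := GaloisField 2 2)
        (by rw [Fintype.card_eq_nat_card, GaloisField.card 2 2 (by norm_num)]; rfl)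
      obtain ⟨e⟩ := h'
      exact ⟨e.symm.trans f⟩

end Cfsg.Agent.S5559
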