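import Cfsg.Statements.S5560
import Cfsg.Agent.SporStructure.PPowerProducts
import Cfsg.Agent.S0215

set_option autoImplicit false
open Cfsg

namespace Cfsg.Agent.S5560

/-- A Z*-type result for an odd prime p. Let G be a finite group and d an involution of G such that the product of any two conjugates of d has order a power of p. Then the product of any two conjugates of d lies in the largest normal p-subgroup O_p(G); in other words the conjugacy class of d lies in the coset O_p(G)d, and d is central modulo O_p(G). -/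
theorem result {G : Type*} [Group G] [Finite G] {p : ℕ} (hp : p.Prime) (hp2 : p ≠ 2)
    (d : G) (hd : orderOf d = 2)
    (hprod : ∀ a ∈ conjugatesOf d, ∀ b ∈ conjugatesOf d, ∃ k : ℕ, orderOf (a * b) = p ^ k) :
    ∀ a ∈ conjugatesOf d, ∀ b ∈ conjugatesOf d, a * b ∈ Cfsg.pCore p G := by
  haveI : Fact p.Prime := ⟨hp⟩
  let H : Subgroup G := Subgroup.closure (conjugatesOf d)
  have hdH : d ∈ H := Subgroup.subset_closure mem_conjugatesOf_self
  let x : H := ⟨d, hdH⟩
  have hord : orderOf x = 2 := by rw [← Subgroup.orderOf_coe]; exact hd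
  have hsub : ∀ a : H, a ∈ conjugatesOf x → (a : G) ∈ conjugatesOf d := fun a ha =>
    (MonoidHom.map_isConj H.subtype ha)
  have hprod' : ∀ a ∈ conjugatesOf x, ∀ b ∈ conjugatesOf x, ∃ k : ℕ, orderOf (a * b) = p ^ k := by
    intro a ha b hb
    obtain ⟨k, hk⟩ := hprod _ (hsub a ha) _ (hsub b hb)
    exact ⟨k, by rw [← Subgroup.orderOf_coe]; exact hk⟩
  obtain ⟨S, hxS, hiso⟩ := Cfsg.Agent.SporStructure.exists_isolated_sylow hp2 hord hprod'
  obtain ⟨N, hN, hodd, hcomm⟩ := Cfsg.Agent.S0215.result S x hord hxS hiso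
  obtain ⟨W, hWn, hW, hWD⟩ := Cfsg.Agent.SporStructure.exists_pSubgroup_of_closure hp2 hd hprod
    ⟨N, hN, hodd, hcomm⟩
  intro a ha b hb
  exact le_sSup (show W ∈ {N : Subgroup G | N.Normal ∧ IsPGroup p N} from ⟨hWn, hW⟩) (hWD a ha b hb)

end Cfsg.Agent.S5560
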