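import Cfsg.Statements.S5561
import Cfsg.Agent.ZStar.Main
import Cfsg.Agent.Lib.Thompson.Cores

set_option autoImplicit false
open Cfsg
open scoped Pointwise

namespace Cfsg.Agent.S5561

/-- Elements with `3`-power order of odd order. -/
theorem odd_of_three_pow {G : Type*} [Group G] {x : G} {k : ℕ} (h : orderOf x = 3 ^ k) :
    Odd (orderOf x) := by
  rw [h]; exact Odd.pow (by decide)

/-- The case p = 3 of the Z*-type result for involution classes. Let G be a finite group and d an involution of G such that the product of any two conjugates of d has order a power of 3. Then the product of any two conjugates of d lies in O₃(G); so the conjugacy class of d lies in the coset O₃(G)d. -/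
theorem result {G : Type*} [Group G] [Finite G] (d : G) (hd : orderOf d = 2)
    (hprod : ∀ a ∈ conjugatesOf d, ∀ b ∈ conjugatesOf d, ∃ k : ℕ, orderOf (a * b) = 3 ^ k) :
    ∀ a ∈ conjugatesOf d, ∀ b ∈ conjugatesOf d, a * b ∈ Cfsg.pCore 3 G := by
  classical
  have : Fact (Nat.Prime 3) := ⟨Nat.prime_three⟩
  have : Fact (Nat.Prime 2) := ⟨Nat.prime_two⟩
  have hd2 : d * d = 1 := by rw [← pow_two, ← hd]; exact pow_orderOf_eq_one d
  have hdi : d⁻¹ = d := inv_eq_of_mul_eq_one_right hd2
  have hconj : ∀ g : G, g * d * g⁻¹ ∈ conjugatesOf d := fun g =>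
    (show ∀ {a b : G}, IsConj a b → b ∈ conjugatesOf a from fun h => h) (isConj_iff.mpr ⟨g, rfl⟩)
  have hdd : d ∈ conjugatesOf d := mem_conjugatesOf_self
  obtain ⟨N, hNn, hNodd, hN⟩ := ZStar.zStar (u := d) hd (fun g => by
    obtain ⟨k, hk⟩ := hprod d hdd _ (hconj g)
    rw [show d * g * d⁻¹ * g⁻¹ = d * (g * d * g⁻¹) by rw [hdi]; group]
    exact odd_of_three_pow hk)
  have hNd : ∀ n ∈ N, d * n * d⁻¹ ∈ N := fun n hn => hNn.conj_mem n hn d
  -- every conjugate of `d` is conjugate to it under `N`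
  have hND : ∀ a ∈ conjugatesOf d, ∃ n ∈ N, n * d * n⁻¹ = a := by
    intro a ha
    obtain ⟨g, rfl⟩ := isConj_iff.mp ((show ∀ {a b : G}, b ∈ conjugatesOf a → IsConj a b from fun h => h) ha)
    set x := (g * d * g⁻¹) * d with hx
    have hxN : x ∈ N := by
      have := N.inv_mem (hN g)
      rw [show (d * g * d⁻¹ * g⁻¹)⁻¹ = g * d * g⁻¹ * d⁻¹ by group, hdi] at this
      exact this
    obtain ⟨k, hk⟩ := hprod _ (hconj g) d hdd
    obtain ⟨m, hm⟩ := odd_of_three_pow hk
    refine ⟨x ^ (m + 1), pow_mem hxN _, ?_⟩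
    have hinv : d * x * d⁻¹ = x⁻¹ := by
      rw [hx, mul_inv_rev, show (g * d * g⁻¹)⁻¹ = g * d⁻¹ * g⁻¹ by group, hdi]
      simp only [mul_assoc, hd2, mul_one]
    have hc : d * (x ^ (m + 1))⁻¹ = x ^ (m + 1) * d := by
      rw [← inv_pow, ← hinv, conj_pow]
      simp only [← mul_assoc, hd2, one_mul]
      rw [hdi]
    rw [mul_assoc, hc, ← mul_assoc, ← pow_add]
    have hxone : x ^ (m + 1 + (m + 1)) = x := by
      rw [show m + 1 + (m + 1) = (2 * m + 1) + 1 by ring, pow_succ, ← hm, pow_orderOf_eq_one,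
        one_mul]
    rw [hxone, hx]
    simp only [mul_assoc, hd2, mul_one]
  -- `d` normalises a Sylow subgroup of `N` for every prime
  let act : G →* MulAut N := MulAut.conjNormal
  have hfix : ∀ q : ℕ, Fact q.Prime → ∃ Q : Sylow q N, ∀ x : N, x ∈ (Q : Subgroup N) →
      (⟨d * x * d⁻¹, hNd x x.2⟩ : N) ∈ (Q : Subgroup N) := by
    intro q hq
    let α : MulAut N := act d
    have hα : ∀ x : N, α x = (⟨d * x * d⁻¹, hNd x x.2⟩ : N) := fun x => rfl
    have hα2 : α ^ 2 = 1 := by
      rw [show α = act d from rfl, ← map_pow, ← hd, pow_orderOf_eq_one, map_one]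
    let σ : Equiv.Perm (Sylow q N) := MulAction.toPermHom (MulAut N) (Sylow q N) α
    have hσ : σ ^ 2 ^ 1 = 1 := by rw [pow_one]; show _ ^ 2 = 1; rw [← map_pow, hα2, map_one]
    obtain ⟨Q₀⟩ := (inferInstance : Nonempty (Sylow q N))
    have hodd : ¬ 2 ∣ Nat.card (Sylow q N) := fun h => by
      have : 2 ∣ Nat.card N := h.trans Q₀.card_dvd_index |>.trans (Subgroup.index_dvd_card _)
      exact (Nat.not_even_iff_odd.mpr hNodd) (even_iff_two_dvd.mpr this)
    have := Fintype.ofFinite (Sylow q N)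
    rw [Nat.card_eq_fintype_card] at hodd
    obtain ⟨Q, hQ⟩ := Equiv.Perm.exists_fixed_point_of_prime (p := 2) hodd hσ
    refine ⟨Q, fun x hx => ?_⟩
    have h1 : α • x ∈ α • (Q : Subgroup N) := Subgroup.smul_mem_pointwise_smul x α _ hx
    have h2 : α • Q = Q := hQ
    rw [← Sylow.pointwise_smul_def, h2] at h1
    rw [← hα]
    exact h1
  set C : Subgroup N := (Subgroup.centralizer ({d} : Set G)).subgroupOf N with hC
  have hCmem : ∀ x : N, x ∈ C ↔ (x : G) * d = d * x := fun x =>
    Subgroup.mem_centralizer_singleton_iff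
  -- the index of `C` has no prime divisor except three
  have hidx : ∀ q : ℕ, q.Prime → q ∣ C.index → q = 3 := by
    intro q hq hdvd
    by_contra hq3
    have : Fact q.Prime := ⟨hq⟩
    obtain ⟨Q, hQ⟩ := hfix q ⟨hq⟩
    have hQC : (Q : Subgroup N) ≤ C := by
      intro x hx
      rw [hCmem]
      set c : N := x * (⟨d * x * d⁻¹, hNd x x.2⟩ : N)⁻¹ with hc
      have hcQ : c ∈ (Q : Subgroup N) := mul_mem hx (inv_mem (hQ x hx))
      obtain ⟨i, hi⟩ := Q.2 ⟨c, hcQ⟩
      obtain ⟨k, hk⟩ := hprod _ (hconj x) d hdd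
      have hcval : (c : G) = (x : G) * d * (x : G)⁻¹ * d := by
        rw [hc]; push_cast; rw [hdi]; simp only [mul_inv_rev, hdi, mul_assoc]
      have h1 : orderOf (c : G) ∣ q ^ i := orderOf_dvd_of_pow_eq_one (by
        simpa using congrArg (fun z : ↥(Q : Subgroup N) => ((z : N) : G)) hi)
      have h2 : orderOf (c : G) ∣ 3 ^ k := by rw [hcval, hk]
      have hcop : Nat.Coprime (q ^ i) (3 ^ k) :=
        Nat.Coprime.pow _ _ ((Nat.coprime_primes hq Nat.prime_three).mpr hq3)
      have h0 := orderOf_eq_one_iff.mp (Nat.eq_one_of_dvd_coprimes hcop h1 h2)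
      rw [hcval, mul_eq_one_iff_eq_inv, hdi] at h0
      calc (x : G) * d = (x : G) * d * (x : G)⁻¹ * x := by group
        _ = d * x := by rw [h0]
    exact Q.not_dvd_index (hdvd.trans (Subgroup.index_dvd_of_le hQC))
  obtain ⟨P, hP⟩ := hfix 3 ⟨Nat.prime_three⟩
  have hPC : ∀ n : N, ∃ p ∈ (P : Subgroup N), p⁻¹ * n ∈ C := by
    have hi0 : C.index ≠ 0 := Subgroup.index_ne_zero_of_finite
    have hi : C.index = 3 ^ C.index.primeFactorsList.length :=
      Nat.eq_prime_pow_of_unique_prime_dvd hi0 fun hq hd' => hidx _ hq hd'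
    have hle : (P : Subgroup N) ⊓ C ≤ C := inf_le_right
    have h1 := Subgroup.card_mul_index ((((P : Subgroup N) ⊓ C)).subgroupOf C)
    have hcop : Nat.Coprime C.index ((P : Subgroup N).index) := by
      rw [hi]; exact Nat.Coprime.pow_left _ ((Nat.prime_three.coprime_iff_not_dvd).mpr P.not_dvd_index)
    have hdvd : C.index ∣ C.relIndex (P : Subgroup N) := by
      have h2 : C.index * C.relIndex (P : Subgroup N) ∣ C.index * C.relIndex (P : Subgroup N) :=
        dvd_rfl
      have h3 : C.index ∣ C.relIndex (P : Subgroup N) * (P : Subgroup N).index := by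
        rw [← Subgroup.inf_relIndex_right, Subgroup.relIndex_mul_index inf_le_right]
        exact Subgroup.index_dvd_of_le inf_le_left
      exact hcop.dvd_of_dvd_mul_right h3
    have hle' : C.relIndex (P : Subgroup N) ≤ C.index := by
      rw [← Subgroup.relIndex_top_right C]
      exact Subgroup.relIndex_le_of_le_right le_top
        (by rw [Subgroup.relIndex_top_right]; exact hi0)
    have heq : C.relIndex (P : Subgroup N) = C.index :=
      le_antisymm hle' (Nat.le_of_dvd (Nat.pos_of_ne_zero (Subgroup.index_ne_zero_of_finite (H := C.subgroupOf (P : Subgroup N)))) hdvd)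
    let f : ↥(P : Subgroup N) ⧸ C.subgroupOf (P : Subgroup N) → N ⧸ C :=
      Quotient.map' Subtype.val fun a b hab => by
        rw [QuotientGroup.leftRel_apply] at hab ⊢
        exact hab
    have hf : Function.Bijective f := by
      refine (Nat.bijective_iff_injective_and_card f).mpr ⟨?_, ?_⟩
      · intro a b
        induction a using QuotientGroup.induction_on with
        | _ a =>
        induction b using QuotientGroup.induction_on with
        | _ b =>
        intro hab
        have h' : ((a : N) : N ⧸ C) = ((b : N) : N ⧸ C) := hab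
        refine QuotientGroup.eq.mpr (Subgroup.mem_subgroupOf.mpr ?_)
        exact (QuotientGroup.eq (s := C)).mp h'
      · exact heq
    intro n
    obtain ⟨a, ha⟩ := hf.2 (n : N ⧸ C)
    induction a using QuotientGroup.induction_on with
    | _ a => exact ⟨a, a.2, QuotientGroup.eq.mp ha⟩
  set L := Subgroup.closure {x : G | ∃ a ∈ conjugatesOf d, ∃ b ∈ conjugatesOf d, x = a * b} with hL
  have hLn : L.Normal := by
    refine Subgroup.normalizer_eq_top_iff.mp (top_le_iff.mp fun g _ => ?_)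
    rw [Subgroup.mem_normalizer_iff_map_conj_eq, hL, MonoidHom.map_closure]
    congr 1
    ext x
    have hmove : ∀ (h a : G), a ∈ conjugatesOf d → h * a * h⁻¹ ∈ conjugatesOf d := fun h a ha =>
      (show ∀ {a b : G}, IsConj a b → b ∈ conjugatesOf a from fun h => h) (((show ∀ {a b : G}, b ∈ conjugatesOf a → IsConj a b from fun h => h) ha).trans (isConj_iff.mpr ⟨h, rfl⟩))
    constructor
    · rintro ⟨_, ⟨a, ha, b, hb, rfl⟩, rfl⟩
      exact ⟨_, hmove g a ha, _, hmove g b hb, map_mul (MulAut.conj g) a b⟩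
    · rintro ⟨a, ha, b, hb, rfl⟩
      exact ⟨(g⁻¹ * a * g) * (g⁻¹ * b * g), ⟨_, by simpa using hmove g⁻¹ a ha, _,
        by simpa using hmove g⁻¹ b hb, rfl⟩, by
          show g * (g⁻¹ * a * g * (g⁻¹ * b * g)) * g⁻¹ = a * b
          group⟩
  have hLP : L ≤ (P : Subgroup N).map N.subtype := by
    have had : ∀ a ∈ conjugatesOf d, a * d ∈ (P : Subgroup N).map N.subtype := by
      intro a ha
      obtain ⟨n, hn, rfl⟩ := hND a ha
      obtain ⟨p, hp, hpc⟩ := hPC ⟨n, hn⟩
      rw [hCmem] at hpc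
      push_cast at hpc
      refine ⟨p * (⟨d * p * d⁻¹, hNd p p.2⟩ : N)⁻¹, mul_mem hp (inv_mem (hP p hp)), ?_⟩
      show (p : G) * (d * p * d⁻¹)⁻¹ = n * d * n⁻¹ * d
      rw [show n * d * n⁻¹ = (p : G) * (((p : G)⁻¹ * n) * d) * n⁻¹ by group, hpc, hdi]
      simp only [mul_inv_rev, hdi, mul_assoc, mul_inv_cancel, mul_one]
    refine (Subgroup.closure_le _).mpr ?_
    rintro _ ⟨a, ha, b, hb, rfl⟩
    have hb2 : b * b = 1 := by
      obtain ⟨g, rfl⟩ := isConj_iff.mp ((show ∀ {a b : G}, b ∈ conjugatesOf a → IsConj a b from fun h => h) hb)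
      rw [show g * d * g⁻¹ * (g * d * g⁻¹) = g * (d * d) * g⁻¹ by group, hd2]; group
    have := mul_mem (had a ha) (inv_mem (had b hb))
    rwa [show a * d * (b * d)⁻¹ = a * b by
      rw [mul_inv_rev, hdi, inv_eq_of_mul_eq_one_right hb2, mul_assoc, ← mul_assoc d, hd2, one_mul]]
      at this
  intro a ha b hb
  exact Thompson.le_pCore hLn ((P.2.map N.subtype).to_le hLP)
    (Subgroup.subset_closure ⟨a, ha, b, hb, rfl⟩)

end Cfsg.Agent.S5561
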