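import Cfsg.Statements.S5562
-- import your own Cfsg.Agent.* helpers here

set_option autoImplicit false
open Cfsg

namespace Cfsg.Agent.S5562

variable {G : Type*} [Group G]

private theorem inv_eq_self_of_mem {d a : G} (hd : orderOf d = 2) (ha : a ∈ conjugatesOf d) :
    a⁻¹ = a ∧ orderOf a = 2 := by
  obtain ⟨c, rfl⟩ := isConj_iff.mp ha
  have h2 : orderOf (c * d * c⁻¹) = 2 := by
    rw [← hd]; exact (MulAut.conj c).orderOf_eq d
  refine ⟨?_, h2⟩
  rw [inv_eq_iff_mul_eq_one, ← pow_two, ← h2]
  exact pow_orderOf_eq_one _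

/-- two involutions conjugating a third to the same element coincide, all three having odd products -/
private theorem midpoint_unique {a b e : G} (ha : a⁻¹ = a) (hb : b⁻¹ = b) (he : e⁻¹ = e)
    (hab : Odd (orderOf (a * b))) (hea : Odd (orderOf (e * a))) (h : a * e * a = b * e * b) :
    a = b := by
  have haa : a * a = 1 := inv_eq_iff_mul_eq_one.mp ha
  have hbb : b * b = 1 := inv_eq_iff_mul_eq_one.mp hb
  have hee : e * e = 1 := inv_eq_iff_mul_eq_one.mp he
  set y := a * b with hy
  have hinv : a * y * a⁻¹ = y⁻¹ := by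
    simp [hy, ha, hb, ← mul_assoc, haa]
  have hcomm : e * y * e⁻¹ = y := by
    have : y * e = e * y := by
      rw [hy]
      calc a * b * e = a * (b * e * b) * b := by simp [mul_assoc, hbb]
        _ = a * (a * e * a) * b := by rw [h]
        _ = e * (a * b) := by simp [← mul_assoc, haa]
    rw [← this]; simp [mul_assoc, hee, he]
  have hea' : MulAut.conj (e * a) y = y⁻¹ := by
    simp only [MulAut.conj_apply, mul_inv_rev]
    calc e * a * y * (a⁻¹ * e⁻¹) = e * (a * y * a⁻¹) * e⁻¹ := by simp [mul_assoc]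
      _ = e * y⁻¹ * e⁻¹ := by rw [hinv]
      _ = (e * y * e⁻¹)⁻¹ := by simp [mul_assoc]
      _ = y⁻¹ := by rw [hcomm]
  have hpow : ∀ m : ℕ, MulAut.conj ((e * a) ^ (2 * m + 1)) y = y⁻¹ := by
    intro m
    induction m with
    | zero => simpa using hea'
    | succ m ih =>
      have hcons : ∀ (g : G) (k : ℕ), MulAut.conj (g * (e * a) ^ k) y
          = MulAut.conj g (MulAut.conj ((e * a) ^ k) y) := fun g k => by
        rw [← MulAut.mul_apply, ← map_mul]
      rw [show 2 * (m + 1) + 1 = (2 * m + 1) + 1 + 1 by ring, pow_succ' _ (2 * m + 1 + 1), hcons,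
        pow_succ' _ (2 * m + 1), hcons, ih, map_inv, hea', inv_inv, hea']
  obtain ⟨m, hm⟩ := hea
  have h1 := hpow m
  rw [← hm, pow_orderOf_eq_one, map_one, MulAut.one_apply] at h1
  have hy2 : y ^ 2 = 1 := by
    rw [pow_two, ← inv_eq_iff_mul_eq_one, ← h1]
  have hdvd : orderOf y ∣ 2 := orderOf_dvd_of_pow_eq_one hy2
  have hy1 : y = 1 := by
    rcases (Nat.dvd_prime Nat.prime_two).mp hdvd with h' | h'
    · exact orderOf_eq_one_iff.mp h'
    · rw [hy] at h'; rw [h'] at hab; exact absurd hab (by decide)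
  rw [hy, mul_eq_one_iff_eq_inv, hb] at hy1
  exact hy1

private theorem conj_pow_invol {r e : G} (he : e⁻¹ = e) (hr : e * r * e⁻¹ = r⁻¹) (i : ℕ) :
    r ^ i * e * (r ^ i)⁻¹ = r ^ (2 * i) * e := by
  have h0 : e * r⁻¹ * e⁻¹ = r := by
    rw [← inv_inj]; simpa [mul_assoc] using hr
  have h : e * (r ^ i)⁻¹ * e⁻¹ = r ^ i := by
    conv_rhs => rw [← h0]
    rw [conj_pow, inv_pow]
  have h' : e * (r ^ i)⁻¹ = r ^ i * e := by
    calc e * (r ^ i)⁻¹ = e * (r ^ i)⁻¹ * e⁻¹ * e := (inv_mul_cancel_right _ _).symm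
      _ = r ^ i * e := by rw [h]
  rw [mul_assoc, h', ← mul_assoc, ← pow_add, two_mul]

/-- Let G be a finite group, d an involution of G whose conjugates pairwise have products of odd order, and x any involution of G. Then the conjugacy class of d is the disjoint union, over the conjugates a of d commuting with x, of the sets of conjugates of d commuting with ax: every conjugate of d commutes with ax for exactly one conjugate a of d that commutes with x. -/
theorem result {G : Type*} [Group G] [Finite G] (d : G) (hd : orderOf d = 2)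
    (hodd : ∀ a ∈ conjugatesOf d, ∀ b ∈ conjugatesOf d, Odd (orderOf (a * b)))
    (x : G) (hx : orderOf x = 2) :
    ∀ e ∈ conjugatesOf d,
      ∃! a : G, a ∈ conjugatesOf d ∧ Commute a x ∧ Commute e (a * x) := by
  intro e he
  obtain ⟨hei, he2⟩ := inv_eq_self_of_mem hd he
  have hxi : x⁻¹ = x := by
    rw [inv_eq_iff_mul_eq_one, ← pow_two, ← hx]; exact pow_orderOf_eq_one _
  have hxx : x * x = 1 := inv_eq_iff_mul_eq_one.mp hxi
  have hee : e * e = 1 := inv_eq_iff_mul_eq_one.mp hei
  set e' := x * e * x with he'def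
  have he' : e' ∈ conjugatesOf d := by
    refine IsConj.trans he (isConj_iff.mpr ⟨x, ?_⟩)
    rw [hxi]
  obtain ⟨he'i, -⟩ := inv_eq_self_of_mem hd he'
  set r := e * e' with hrdef
  obtain ⟨m, hm⟩ := hodd e he e' he'
  have hr1 : r ^ (2 * m + 1) = 1 := by rw [← hm]; exact pow_orderOf_eq_one _
  have hconj : e * r * e⁻¹ = r⁻¹ := by
    rw [hrdef, mul_inv_rev, he'i, hei]
    simp [← mul_assoc, hee]
  -- the midpoint
  set a := r ^ (2 * (m * (m + 1))) * e with hadef
  have haD : a ∈ conjugatesOf d := by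
    refine IsConj.trans he (isConj_iff.mpr ⟨r ^ (m * (m + 1)), ?_⟩)
    rw [conj_pow_invol hei hconj]
  obtain ⟨hai, -⟩ := inv_eq_self_of_mem hd haD
  have haa : a * a = 1 := inv_eq_iff_mul_eq_one.mp hai
  have hamid : a * e * a = e' := by
    have h1 : a * e * a = r ^ (2 * (2 * (m * (m + 1)))) * e := by
      have h2 : a = r ^ (m * (m + 1)) * e * (r ^ (m * (m + 1)))⁻¹ :=
        (conj_pow_invol hei hconj _).symm
      calc a * e * a = r ^ (2 * (m * (m + 1))) * e * e * a := by rw [hadef]
        _ = r ^ (2 * (m * (m + 1))) * (r ^ (2 * (m * (m + 1))) * e) := by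
            simp [mul_assoc, hee, hadef]
        _ = _ := by rw [← mul_assoc, ← pow_add, two_mul (2 * (m * (m + 1)))]
    have hr2 : r ^ (2 * (2 * (m * (m + 1)))) = r ^ (2 * m) := by
      have : 2 * (2 * (m * (m + 1))) = (2 * m + 1) * (2 * m) + 2 * m := by ring
      rw [this, pow_add, pow_mul, hr1, one_pow, one_mul]
    have hr3 : r ^ (2 * m) = r⁻¹ := by
      refine eq_inv_of_mul_eq_one_left ?_
      rw [← pow_succ]; exact hr1
    rw [h1, hr2, hr3, hrdef, mul_inv_rev, hei, he'i, mul_assoc, hee, mul_one]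
  have key : ∀ b : G, b⁻¹ = b → Commute b x → (Commute e (b * x) ↔ b * e * b = e') := by
    intro b hbi hbx
    have hbb : b * b = 1 := inv_eq_iff_mul_eq_one.mp hbi
    constructor
    · intro h
      calc b * e * b = b * (e * (b * x)) * x := by simp [mul_assoc, hxx]
        _ = b * ((b * x) * e) * x := by rw [h.eq]
        _ = e' := by simp [he'def, ← mul_assoc, hbb]
    · intro h
      show e * (b * x) = b * x * e
      calc e * (b * x) = b * (b * e * b) * x := by simp [← mul_assoc, hbb]
        _ = b * e' * x := by rw [h]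
        _ = b * x * e := by simp [he'def, mul_assoc, hxx]
  have hax : Commute a x := by
    have hb : x * a * x = a := by
      refine midpoint_unique (e := e) ?_ hai hei ?_ ?_ ?_
      · simp [mul_inv_rev, hai, hxi, mul_assoc]
      · refine hodd _ (IsConj.trans haD (isConj_iff.mpr ⟨x, by rw [hxi]⟩)) a haD
      · refine hodd e he _ (IsConj.trans haD (isConj_iff.mpr ⟨x, by rw [hxi]⟩))
      · have h3 : a * e' * a = e := by rw [← hamid]; simp [← mul_assoc, haa]; simp [mul_assoc, haa]
        calc x * a * x * e * (x * a * x) = x * (a * e' * a) * x := by simp [he'def, mul_assoc]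
          _ = a * e * a := by rw [h3, hamid]
    show a * x = x * a
    calc a * x = x * a * x * x := by rw [hb]
      _ = x * a := by simp [mul_assoc, hxx]
  refine ⟨a, ⟨haD, hax, (key a hai hax).mpr hamid⟩, ?_⟩
  rintro b ⟨hbD, hbx, hbe⟩
  obtain ⟨hbi, -⟩ := inv_eq_self_of_mem hd hbD
  exact midpoint_unique hbi hai hei (hodd b hbD a haD) (hodd e he b hbD)
    (by rw [(key b hbi hbx).mp hbe, hamid])

end Cfsg.Agent.S5562
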