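import Cfsg.Statements.S5588
import Cfsg.Agent.Spider3.Main
-- import your own Cfsg.Agent.* helpers here

set_option autoImplicit false
open Cfsg

namespace Cfsg.Agent.S5588

open Cfsg.Spor Cfsg.Agent.Spider3

abbrev Bm := Cfsg.Spor.Bimonster.Gen

/-- The sixteen nodes, arm by arm. -/
def node : Fin 3 → Fin 5 → Bm
  | 0, 0 => .b1 | 0, 1 => .c1 | 0, 2 => .d1 | 0, 3 => .e1 | 0, 4 => .f1
  | 1, 0 => .b2 | 1, 1 => .c2 | 1, 2 => .d2 | 1, 3 => .e2 | 1, 4 => .f2
  | 2, 0 => .b3 | 2, 1 => .c3 | 2, 2 => .d3 | 2, 3 => .e3 | 2, 4 => .f3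

/-- Labelling of Y₅₃₂ inside Y₅₅₅ with the given order of arms. -/
def lab (i j k : Fin 3) : ℕ → Bm
  | 0 => .a
  | 1 => node i 0 | 2 => node i 1 | 3 => node i 2 | 4 => node i 3 | 5 => node i 4
  | 6 => node j 0 | 7 => node j 1 | 8 => node j 2
  | 9 => node k 0 | 10 => node k 1
  | _ => .a

abbrev rels : Set (FreeGroup Bm) :=
  coxRelators Bimonster.edges ∪ {r' | r' ∈ [(Bimonster.a * Bimonster.b1 * Bimonster.c1 *
    Bimonster.a * Bimonster.b2 * Bimonster.c2 * Bimonster.a * Bimonster.b3 * Bimonster.c3) ^ 10]}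

abbrev Q := PresentedGroup rels

def wd (w : List Bm) : Q := (w.map fun g => PresentedGroup.mk rels (FreeGroup.of g)).prod

theorem cox_rel {u v : Bm} (hu : u ∈ coxNodes Bimonster.edges) (hv : v ∈ coxNodes Bimonster.edges)
    (m : ℕ) (hm : coxLabel Bimonster.edges u v = m) :
    (PresentedGroup.mk rels (FreeGroup.of u) * PresentedGroup.mk rels (FreeGroup.of v)) ^ m = 1 := by
  rw [← map_mul, ← map_pow, ← hm]
  exact PresentedGroup.one_of_mem (Or.inl ⟨u, hu, v, hv, rfl⟩)

theorem mem_nodes (u : Bm) : u ∈ coxNodes Bimonster.edges := by cases u <;> decide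

theorem sq_one (u : Bm) :
    PresentedGroup.mk rels (FreeGroup.of u) * PresentedGroup.mk rels (FreeGroup.of u) = 1 := by
  have := cox_rel (mem_nodes u) (mem_nodes u) 1 (by simp [coxLabel])
  rwa [pow_one] at this

theorem inv_self (u : Bm) :
    (PresentedGroup.mk rels (FreeGroup.of u))⁻¹ = PresentedGroup.mk rels (FreeGroup.of u) :=
  inv_eq_of_mul_eq_one_right (sq_one u)

/-- The labelling is compatible with the two graphs. -/
def Good (i j k : Fin 3) : Prop :=
  ∀ p q : Fin 11, p ≠ q → coxLabel Bimonster.edges (lab i j k p) (lab i j k q) =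
    if edgeB p q then 3 else 2

def mdl (i j k : Fin 3) (h : Good i j k) : Model Q where
  x n := PresentedGroup.mk rels (FreeGroup.of (lab i j k n))
  sq n := sq_one _
  comm p q hp hq he := by
    rcases eq_or_ne p q with rfl | hne
    · rfl
    have hl := h ⟨p, hp⟩ ⟨q, hq⟩ (by simpa using hne)
    rw [if_neg (by simp [he])] at hl
    have := cox_rel (mem_nodes _) (mem_nodes _) 2 hl
    rw [pow_two] at this
    have h2 := eq_inv_of_mul_eq_one_left this
    rw [mul_inv_rev, inv_self, inv_self] at h2
    exact h2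
  braid p q he := by
    have hb : ∀ p q : ℕ, edgeB p q = true → p < 11 ∧ q < 11 ∧ p ≠ q := by
      intro p q he
      simp [edgeB, adjBits] at he
      omega
    obtain ⟨hp, hq, hne⟩ := hb p q he
    have hl := h ⟨p, hp⟩ ⟨q, hq⟩ (by simpa using hne)
    rw [if_pos he] at hl
    have := cox_rel (mem_nodes _) (mem_nodes _) 3 hl
    generalize hA : PresentedGroup.mk rels (FreeGroup.of (lab i j k p)) = A at this ⊢
    generalize hB : PresentedGroup.mk rels (FreeGroup.of (lab i j k q)) = B at this ⊢
    have hAi : A⁻¹ = A := by rw [← hA]; exact inv_self _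
    have hBi : B⁻¹ = B := by rw [← hB]; exact inv_self _
    have h2 : A * B * A * (B * A * B) = 1 := by
      rw [← this]; simp [pow_succ, mul_assoc]
    have h3 := eq_inv_of_mul_eq_one_left h2
    rw [mul_inv_rev, mul_inv_rev, hAi, hBi, ← mul_assoc] at h3
    exact h3

theorem ev_mdl (i j k : Fin 3) (h : Good i j k) (w : List ℕ) :
    (mdl i j k h).ev w = wd (w.map (lab i j k)) := by
  simp [Model.ev, wd, mdl, List.map_map, Function.comp_def]

theorem good0 : Good 0 1 2 := by unfold Good; decide +kernel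
theorem good1 : Good 0 2 1 := by unfold Good; decide +kernel
theorem good2 : Good 1 0 2 := by unfold Good; decide +kernel
theorem good3 : Good 1 2 0 := by unfold Good; decide +kernel
theorem good4 : Good 2 0 1 := by unfold Good; decide +kernel
theorem good5 : Good 2 1 0 := by unfold Good; decide +kernel

theorem spider0 : (mdl 0 1 2 good0).ev SP = 1 := by
  have h := PresentedGroup.one_of_mem (rels := rels) (Or.inr (List.mem_singleton_self _))
  simp only [map_pow, map_mul] at h
  rw [ev_mdl]
  refine Eq.trans ?_ h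
  simp [SP, wd, lab, node, List.replicate_succ, pow_succ, mul_assoc, Bimonster.a, Bimonster.b1,
    Bimonster.c1, Bimonster.b2, Bimonster.c2, Bimonster.b3, Bimonster.c3]

theorem spider_of {i j k : Fin 3} (h : Good i j k) {w : List ℕ} {g r : List ℕ} {cs}
    (hw : SP.map (lab i j k) = w.map (lab 0 1 2))
    (hr : (mdl 0 1 2 good0).ev r = 1)
    (hc : check (w ++ (g ++ r ++ g.reverse).reverse) cs = true) : (mdl i j k h).ev SP = 1 := by
  rw [ev_mdl, hw, ← ev_mdl 0 1 2 good0, Model.ev_eq_of_check _ _ _ _ hc,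
    Model.ev_conj_one _ hr]

theorem spider0_rev : (mdl 0 1 2 good0).ev SP.reverse = 1 := by
  rw [Model.ev_reverse, spider0, inv_one]

theorem arm {i j k : Fin 3} (h : Good i j k) (hs : (mdl i j k h).ev SP = 1) (u : Bm)
    (e : FreeGroup Bm) (hu : u = lab i j k 5)
    (he : wd (F12.map (lab i j k)) = PresentedGroup.mk rels e) :
    PresentedGroup.mk rels (FreeGroup.of u * e⁻¹) = 1 := by
  have h1 : (mdl i j k h).x 5 = (mdl i j k h).ev F12 := key _ hs
  rw [ev_mdl, he] at h1
  rw [map_mul, map_inv, mul_inv_eq_one, hu]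
  exact h1

/-- In the group presented by the sixteen involutions of the Y₅₅₅ Coxeter diagram subject only to the Coxeter relations and the single spider relation (a b₁ c₁ a b₂ c₂ a b₃ c₃)^10 = 1, each of the further relators used in the definitions' presentation of the Bimonster (each end node equals the ninth power of the Coxeter element of a sub-diagram of type E₇) already holds. Equivalently, the Y₅₅₅ diagram with the spider relation alone presents the Bimonster. -/
theorem result :
    ∀ r ∈ Cfsg.Spor.Bimonster.extra,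
      (PresentedGroup.mk (Cfsg.Spor.coxRelators Cfsg.Spor.Bimonster.edges ∪ {r' | r' ∈ [(Cfsg.Spor.Bimonster.a * Cfsg.Spor.Bimonster.b1 * Cfsg.Spor.Bimonster.c1 * Cfsg.Spor.Bimonster.a * Cfsg.Spor.Bimonster.b2 * Cfsg.Spor.Bimonster.c2 * Cfsg.Spor.Bimonster.a * Cfsg.Spor.Bimonster.b3 * Cfsg.Spor.Bimonster.c3) ^ 10]}) r) = 1 := by
  intro r hr
  simp only [Bimonster.extra, List.mem_cons, List.not_mem_nil, or_false] at hr
  have h1 := spider_of good1 (w := SP132) (by decide) spider0_rev okP132
  have h2 := spider_of good2 (w := SP213) (by decide) spider0_rev okP213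
  have h3 := spider_of good3 (w := SP231) (by decide) spider0 okP231
  have h4 := spider_of good4 (w := SP312) (by decide) spider0 okP312
  have h5 := spider_of good5 (w := SP321) (by decide) spider0_rev okP321
  rcases hr with rfl | rfl | rfl | rfl | rfl | rfl | rfl
  · exact PresentedGroup.one_of_mem (Or.inr (List.mem_singleton_self _))
  · exact arm good0 spider0 .f1 _ rfl (by simp [F12, wd, lab, node, List.replicate_succ, pow_succ, mul_assoc, Bimonster.a, Bimonster.b1, Bimonster.c1, Bimonster.d1, Bimonster.b2, Bimonster.c2, Bimonster.b3])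
  · exact arm good1 h1 .f1 _ rfl (by simp [F12, wd, lab, node, List.replicate_succ, pow_succ, mul_assoc, Bimonster.a, Bimonster.b1, Bimonster.c1, Bimonster.d1, Bimonster.b3, Bimonster.c3, Bimonster.b2])
  · exact arm good2 h2 .f2 _ rfl (by simp [F12, wd, lab, node, List.replicate_succ, pow_succ, mul_assoc, Bimonster.a, Bimonster.b2, Bimonster.c2, Bimonster.d2, Bimonster.b1, Bimonster.c1, Bimonster.b3])
  · exact arm good3 h3 .f2 _ rfl (by simp [F12, wd, lab, node, List.replicate_succ, pow_succ, mul_assoc, Bimonster.a, Bimonster.b2, Bimonster.c2, Bimonster.d2, Bimonster.b3, Bimonster.c3, Bimonster.b1])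
  · exact arm good4 h4 .f3 _ rfl (by simp [F12, wd, lab, node, List.replicate_succ, pow_succ, mul_assoc, Bimonster.a, Bimonster.b3, Bimonster.c3, Bimonster.d3, Bimonster.b1, Bimonster.c1, Bimonster.b2])
  · exact arm good5 h5 .f3 _ rfl (by simp [F12, wd, lab, node, List.replicate_succ, pow_succ, mul_assoc, Bimonster.a, Bimonster.b3, Bimonster.c3, Bimonster.d3, Bimonster.b2, Bimonster.c2, Bimonster.b1])

end Cfsg.Agent.S5588
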