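import Cfsg.Statements.S5610
import Cfsg.Agent.Sporadic96.M24.Transitive
import Cfsg.Agent.Sporadic96.M24.CertOctTrio
import Cfsg.Agent.Sporadic96.M24.CertOctSext

set_option autoImplicit false
open scoped Pointwise
open Cfsg

namespace Cfsg.Agent.S5610

/-- The stabiliser of an octad in the group of the length-24 code has exactly three orbits on the 3795 trios, of sizes 15, 420 and 3360, and exactly three orbits on the 1771 sextets, of sizes 35, 840 and 896. -/
theorem result (o : Finset Cfsg.GolayPt) (ho : o ∈ Cfsg.octads) : (∃ X₁ ∈ Cfsg.trios, ∃ X₂ ∈ Cfsg.trios, ∃ X₃ ∈ Cfsg.trios, (MulAction.orbit ↥(MulAction.stabilizer Cfsg.M24 o) X₁).ncard = 15 ∧ (MulAction.orbit ↥(MulAction.stabilizer Cfsg.M24 o) X₂).ncard = 420 ∧ (MulAction.orbit ↥(MulAction.stabilizer Cfsg.M24 o) X₃).ncard = 3360 ∧ Cfsg.trios = MulAction.orbit ↥(MulAction.stabilizer Cfsg.M24 o) X₁ ∪ MulAction.orbit ↥(MulAction.stabilizer Cfsg.M24 o) X₂ ∪ MulAction.orbit ↥(MulAction.stabilizer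 Cfsg.M24 o) X₃) ∧ (∃ Y₁ ∈ Cfsg.sextets, ∃ Y₂ ∈ Cfsg.sextets, ∃ Y₃ ∈ Cfsg.sextets, (MulAction.orbit ↥(MulAction.stabilizer Cfsg.M24 o) Y₁).ncard = 35 ∧ (MulAction.orbit ↥(MulAction.stabilizer Cfsg.M24 o) Y₂).ncard = 840 ∧ (MulAction.orbit ↥(MulAction.stabilizer Cfsg.M24 o) Y₃).ncard = 896 ∧ Cfsg.sextets = MulAction.orbit ↥(MulAction.stabilizer Cfsg.M24 o) Y₁ ∪ MulAction.orbit ↥(MulAction.stabilizer Cfsg.M24 o) Y₂ ∪ MulAction.orbit ↥(MulAction.stabilizer Cfsg.M24 o) Y₃) := by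
  obtain ⟨g, hg⟩ := Sporadic96.exists_smul_baseOctad ho
  rw [← Sporadic96.stabilizer_singleton o, ← hg]
  refine ⟨?_, ?_⟩
  · have h := Sporadic96.transport_table (f := (fun q => Sporadic96.fam 3 Sporadic96.trioP q)) Sporadic96.tableOctTrio
      (fun g _ => Sporadic96.smul_trio g) g
    obtain ⟨m0, c0, -⟩ := h 2 (by decide)
    obtain ⟨m1, c1, -⟩ := h 0 (by decide)
    obtain ⟨m2, c2, -⟩ := h 1 (by decide)
    refine ⟨_, m0, _, m1, _, m2, c0, c1, c2, ?_⟩
    ext T
    simp only [Set.mem_union, (h 0 (by decide)).2.2 T]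
    constructor
    · rintro ⟨j, hj, hT⟩
      change j < 3 at hj
      interval_cases j
      · exact Or.inl (Or.inr hT)
      · exact Or.inr hT
      · exact Or.inl (Or.inl (hT))
    · rintro ((hT | hT) | hT)
      · exact ⟨2, by decide, hT⟩
      · exact ⟨0, by decide, hT⟩
      · exact ⟨1, by decide, hT⟩
  · have h := Sporadic96.transport_table (f := (fun q => Sporadic96.fam 6 Sporadic96.sextP q)) Sporadic96.tableOctSext
      (fun g _ => Sporadic96.smul_sextet g) g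
    obtain ⟨m0, c0, -⟩ := h 2 (by decide)
    obtain ⟨m1, c1, -⟩ := h 1 (by decide)
    obtain ⟨m2, c2, -⟩ := h 0 (by decide)
    refine ⟨_, m0, _, m1, _, m2, c0, c1, c2, ?_⟩
    ext T
    simp only [Set.mem_union, (h 0 (by decide)).2.2 T]
    constructor
    · rintro ⟨j, hj, hT⟩
      change j < 3 at hj
      interval_cases j
      · exact Or.inr hT
      · exact Or.inl (Or.inr hT)
      · exact Or.inl (Or.inl (hT))
    · rintro ((hT | hT) | hT)
      · exact ⟨2, by decide, hT⟩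
      · exact ⟨1, by decide, hT⟩
      · exact ⟨0, by decide, hT⟩

end Cfsg.Agent.S5610
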