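import Cfsg.Statements.S5611
import Cfsg.Agent.Sporadic96.M24.Transitive
import Cfsg.Agent.Sporadic96.M24.CertSextOct
import Cfsg.Agent.Sporadic96.M24.CertSextTrio

set_option autoImplicit false
open scoped Pointwise
open Cfsg

namespace Cfsg.Agent.S5611

/-- The stabiliser of a sextet in the group of the length-24 code has exactly three orbits on the 759 octads, of sizes 15, 360 and 384, and exactly four orbits on the 3795 trios, of sizes 15, 180, 720 and 2880. -/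
theorem result (S : Finset (Finset Cfsg.GolayPt)) (hS : S ∈ Cfsg.sextets) : (∃ X₁ ∈ Cfsg.octads, ∃ X₂ ∈ Cfsg.octads, ∃ X₃ ∈ Cfsg.octads, (MulAction.orbit ↥(MulAction.stabilizer Cfsg.M24 S) X₁).ncard = 15 ∧ (MulAction.orbit ↥(MulAction.stabilizer Cfsg.M24 S) X₂).ncard = 360 ∧ (MulAction.orbit ↥(MulAction.stabilizer Cfsg.M24 S) X₃).ncard = 384 ∧ Cfsg.octads = MulAction.orbit ↥(MulAction.stabilizer Cfsg.M24 S) X₁ ∪ MulAction.orbit ↥(MulAction.stabilizer Cfsg.M24 S) X₂ ∪ MulAction.orbit ↥(MulAction.stabilizer Cfsg.M24 S) X₃) ∧ (∃ Y₁ ∈ Cfsg.trios, ∃ Y₂ ∈ Cfsg.trios, ∃ Y₃ ∈ Cfsg.trios, ∃ Y₄ ∈ Cfsg.trios, (MulAction.orbit ↥(MulAction.stabilizer Cfsg.M24 S) Y₁).ncard = 15 ∧ (MulAction.orbit ↥(MulAction.stabilizer Cfsg.M24 S) Y₂).ncard = 180 ∧ (MulAction.orbit ↥(MulAction.stabilizer Cfsg.M24 S) Y₃).ncard = 720 ∧ (MulAction.orbit ↥(MulAction.stabilizer Cfsg.M24 S) Y₄).ncard = 2880 ∧ Cfsg.trios = MulAction.orbit ↥(MulAction.stabilizer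 Cfsg.M24 S) Y₁ ∪ MulAction.orbit ↥(MulAction.stabilizer Cfsg.M24 S) Y₂ ∪ MulAction.orbit ↥(MulAction.stabilizer Cfsg.M24 S) Y₃ ∪ MulAction.orbit ↥(MulAction.stabilizer Cfsg.M24 S) Y₄) := by
  obtain ⟨g, rfl⟩ := Sporadic96.exists_smul_baseSextet hS
  refine ⟨?_, ?_⟩
  · have h := Sporadic96.transport_table (f := (fun q => Golay.toSet (Sporadic96.lane Sporadic96.octP q))) (Sporadic96.octad_table Sporadic96.tableSextOct)
      (fun g _ => Sporadic96.smul_octad g) g
    obtain ⟨m0, c0, -⟩ := h 2 (by decide)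
    obtain ⟨m1, c1, -⟩ := h 1 (by decide)
    obtain ⟨m2, c2, -⟩ := h 0 (by decide)
    refine ⟨_, m0, _, m1, _, m2, c0, c1, c2, ?_⟩
    ext T
    simp only [Set.mem_union, (h 0 (by decide)).2.2 T]
    constructor
    · rintro ⟨j, hj, hT⟩
      change j < 3 at hj
      interval_cases j
      · exact Or.inr hT
      · exact Or.inl (Or.inr hT)
      · exact Or.inl (Or.inl (hT))
    · rintro ((hT | hT) | hT)
      · exact ⟨2, by decide, hT⟩
      · exact ⟨1, by decide, hT⟩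
      · exact ⟨0, by decide, hT⟩
  · have h := Sporadic96.transport_table (f := (fun q => Sporadic96.fam 3 Sporadic96.trioP q)) Sporadic96.tableSextTrio
      (fun g _ => Sporadic96.smul_trio g) g
    obtain ⟨m0, c0, -⟩ := h 3 (by decide)
    obtain ⟨m1, c1, -⟩ := h 2 (by decide)
    obtain ⟨m2, c2, -⟩ := h 1 (by decide)
    obtain ⟨m3, c3, -⟩ := h 0 (by decide)
    refine ⟨_, m0, _, m1, _, m2, _, m3, c0, c1, c2, c3, ?_⟩
    ext T
    simp only [Set.mem_union, (h 0 (by decide)).2.2 T]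
    constructor
    · rintro ⟨j, hj, hT⟩
      change j < 4 at hj
      interval_cases j
      · exact Or.inr hT
      · exact Or.inl (Or.inr hT)
      · exact Or.inl (Or.inl (Or.inr hT))
      · exact Or.inl (Or.inl (Or.inl (hT)))
    · rintro (((hT | hT) | hT) | hT)
      · exact ⟨3, by decide, hT⟩
      · exact ⟨2, by decide, hT⟩
      · exact ⟨1, by decide, hT⟩
      · exact ⟨0, by decide, hT⟩

end Cfsg.Agent.S5611
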