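import Cfsg.Statements.S5612
import Cfsg.Agent.Sporadic96.M24.Transitive
import Cfsg.Agent.Sporadic96.M24.CertTrioOct
import Cfsg.Agent.Sporadic96.M24.CertTrioSext

set_option autoImplicit false
open scoped Pointwise
open Cfsg

namespace Cfsg.Agent.S5612

/-- The stabiliser of a trio in the group of the length-24 code has exactly three orbits on the 759 octads, of sizes 3, 84 and 672, and exactly four orbits on the 1771 sextets, of sizes 7, 84, 336 and 1344. -/
theorem result (T : Finset (Finset Cfsg.GolayPt)) (hT : T ∈ Cfsg.trios) : (∃ X₁ ∈ Cfsg.octads, ∃ X₂ ∈ Cfsg.octads, ∃ X₃ ∈ Cfsg.octads, (MulAction.orbit ↥(MulAction.stabilizer Cfsg.M24 T) X₁).ncard = 3 ∧ (MulAction.orbit ↥(MulAction.stabilizer Cfsg.M24 T) X₂).ncard = 84 ∧ (MulAction.orbit ↥(MulAction.stabilizer Cfsg.M24 T) X₃).ncard = 672 ∧ Cfsg.octads = MulAction.orbit ↥(MulAction.stabilizer Cfsg.M24 T) X₁ ∪ MulAction.orbit ↥(MulAction.stabilizer Cfsg.M24 T) X₂ ∪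 MulAction.orbit ↥(MulAction.stabilizer Cfsg.M24 T) X₃) ∧ (∃ Y₁ ∈ Cfsg.sextets, ∃ Y₂ ∈ Cfsg.sextets, ∃ Y₃ ∈ Cfsg.sextets, ∃ Y₄ ∈ Cfsg.sextets, (MulAction.orbit ↥(MulAction.stabilizer Cfsg.M24 T) Y₁).ncard = 7 ∧ (MulAction.orbit ↥(MulAction.stabilizer Cfsg.M24 T) Y₂).ncard = 84 ∧ (MulAction.orbit ↥(MulAction.stabilizer Cfsg.M24 T) Y₃).ncard = 336 ∧ (MulAction.orbit ↥(MulAction.stabilizer Cfsg.M24 T) Y₄).ncard = 1344 ∧ Cfsg.sextets = MulAction.orbit ↥(MulAction.stabilizer Cfsg.M24 T) Y₁ ∪ MulAction.orbit ↥(MulAction.stabilizer Cfsg.M24 T) Y₂ ∪ MulAction.orbit ↥(MulAction.stabilizer Cfsg.M24 T) Y₃ ∪ MulAction.orbit ↥(MulAction.stabilizer Cfsg.M24 T) Y₄) := by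
  obtain ⟨g, rfl⟩ := Sporadic96.exists_smul_baseTrio hT
  refine ⟨?_, ?_⟩
  · have h := Sporadic96.transport_table (f := (fun q => Golay.toSet (Sporadic96.lane Sporadic96.octP q))) (Sporadic96.octad_table Sporadic96.tableTrioOct)
      (fun g _ => Sporadic96.smul_octad g) g
    obtain ⟨m0, c0, -⟩ := h 2 (by decide)
    obtain ⟨m1, c1, -⟩ := h 0 (by decide)
    obtain ⟨m2, c2, -⟩ := h 1 (by decide)
    refine ⟨_, m0, _, m1, _, m2, c0, c1, c2, ?_⟩
    ext T
    simp only [Set.mem_union, (h 0 (by decide)).2.2 T]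
    constructor
    · rintro ⟨j, hj, hT⟩
      change j < 3 at hj
      interval_cases j
      · exact Or.inl (Or.inr hT)
      · exact Or.inr hT
      · exact Or.inl (Or.inl (hT))
    · rintro ((hT | hT) | hT)
      · exact ⟨2, by decide, hT⟩
      · exact ⟨0, by decide, hT⟩
      · exact ⟨1, by decide, hT⟩
  · have h := Sporadic96.transport_table (f := (fun q => Sporadic96.fam 6 Sporadic96.sextP q)) Sporadic96.tableTrioSext
      (fun g _ => Sporadic96.smul_sextet g) g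
    obtain ⟨m0, c0, -⟩ := h 3 (by decide)
    obtain ⟨m1, c1, -⟩ := h 2 (by decide)
    obtain ⟨m2, c2, -⟩ := h 1 (by decide)
    obtain ⟨m3, c3, -⟩ := h 0 (by decide)
    refine ⟨_, m0, _, m1, _, m2, _, m3, c0, c1, c2, c3, ?_⟩
    ext T
    simp only [Set.mem_union, (h 0 (by decide)).2.2 T]
    constructor
    · rintro ⟨j, hj, hT⟩
      change j < 4 at hj
      interval_cases j
      · exact Or.inr hT
      · exact Or.inl (Or.inr hT)
      · exact Or.inl (Or.inl (Or.inr hT))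
      · exact Or.inl (Or.inl (Or.inl (hT)))
    · rintro (((hT | hT) | hT) | hT)
      · exact ⟨3, by decide, hT⟩
      · exact ⟨2, by decide, hT⟩
      · exact ⟨1, by decide, hT⟩
      · exact ⟨0, by decide, hT⟩

end Cfsg.Agent.S5612
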