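import Cfsg.Statements.S5620
import Cfsg.Agent.Lib.Golay.M12Outer
-- import your own Cfsg.Agent.* helpers here

set_option autoImplicit false
open scoped Pointwise
open Cfsg

namespace Cfsg.Agent.S5620

open Cfsg.Agent.Golay
open scoped Pointwise

/-- Inside the stabiliser of the dodecad of squares (a Mathieu group of degree 12), the stabiliser of the residue 0 (a point of the dodecad) and the stabiliser of the extra point (a point outside the dodecad) are isomorphic but not conjugate; conjugation by a suitable element of the code's group that maps the dodecad of squares onto its complement carries the first onto the second. -/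
theorem result : Nonempty (↥(Cfsg.Spor.M12 ⊓ MulAction.stabilizer (Equiv.Perm Cfsg.GolayPt) (none : Cfsg.GolayPt)) ≃* ↥Cfsg.Spor.M11) ∧ (¬ ∃ k ∈ Cfsg.Spor.M12, MulAut.conj k • Cfsg.Spor.M11 = Cfsg.Spor.M12 ⊓ MulAction.stabilizer (Equiv.Perm Cfsg.GolayPt) (none : Cfsg.GolayPt)) ∧ ∃ g ∈ Cfsg.M24, g • Cfsg.Spor.squareDodecad = Finset.univ \ Cfsg.Spor.squareDodecad ∧ MulAut.conj g • Cfsg.Spor.M11 = Cfsg.Spor.M12 ⊓ MulAction.stabilizer (Equiv.Perm Cfsg.GolayPt) (none : Cfsg.GolayPt) := by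
  have hnone : (none : GolayPt) ∉ Spor.squareDodecad := by
    intro h
    have h' := Cfsg.Agent.Golay.mem_D_iff.1 h
    exact absurd h' (by decide)
  have h0 : exch (some 0) ∉ Spor.squareDodecad := fun h => (exch_mem_D _).1 h zero_mem_D
  obtain ⟨k, hk, hk0⟩ := exists_map_compl h0 hnone
  obtain ⟨hk12, -⟩ := mem_M11_iff.1 hk
  set g := k * exch with hgdef
  have hg24 : g ∈ M24 := M24.mul_mem (mem_M12_iff.1 hk12).1 exch_mem
  have hg0 : g (some 0) = none := by rw [hgdef, Equiv.Perm.mul_apply, hk0]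
  have hgD : ∀ p, g p ∈ Spor.squareDodecad ↔ p ∉ Spor.squareDodecad := fun p => by
    rw [hgdef, Equiv.Perm.mul_apply, apply_mem_D hk12, exch_mem_D]
  have hgiD : ∀ p, g⁻¹ p ∈ Spor.squareDodecad ↔ p ∉ Spor.squareDodecad := fun p => by
    have h := hgD (g⁻¹ p)
    rw [Equiv.Perm.inv_def, Equiv.apply_symm_apply] at h
    rw [Equiv.Perm.inv_def]
    tauto
  have hgs : g • Spor.squareDodecad = Finset.univ \ Spor.squareDodecad := by
    ext p
    rw [← Finset.inv_smul_mem_iff, Equiv.Perm.smul_def, hgiD, Finset.mem_sdiff]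
    simp
  have hgs' : g • (Finset.univ \ Spor.squareDodecad) = Spor.squareDodecad := by
    ext p
    rw [← Finset.inv_smul_mem_iff, Equiv.Perm.smul_def, Finset.mem_sdiff, hgiD]
    simp
  have hcompl : ∀ h ∈ Spor.M12, h • (Finset.univ \ Spor.squareDodecad) = Finset.univ \ Spor.squareDodecad := by
    intro h hh
    rw [Finset.smul_finset_sdiff, Finset.smul_finset_univ, (mem_M12_iff.1 hh).2]
  have hgi : g⁻¹ • Spor.squareDodecad = Finset.univ \ Spor.squareDodecad := by
    rw [inv_smul_eq_iff, hgs']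
  have hconj : MulAut.conj g • Spor.M11 =
      Spor.M12 ⊓ MulAction.stabilizer (Equiv.Perm GolayPt) (none : GolayPt) := by
    ext x
    rw [Subgroup.mem_pointwise_smul_iff_inv_smul_mem, ← map_inv, MulAut.smul_def, MulAut.conj_apply, inv_inv,
      mem_M11_iff, Subgroup.mem_inf, MulAction.mem_stabilizer_iff, Equiv.Perm.smul_def, Equiv.Perm.mul_apply,
      Equiv.Perm.mul_apply, hg0, Equiv.Perm.inv_def g, Equiv.symm_apply_eq, hg0, mem_M12_iff, mem_M12_iff]
    refine and_congr_left' ⟨fun ⟨h1, h2⟩ => ?_, fun ⟨h1, h2⟩ => ?_⟩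
    · have hx : x ∈ M24 := by
        have := M24.mul_mem (M24.mul_mem hg24 h1) (M24.inv_mem hg24)
        rwa [show g * (g.symm * x * g) * g⁻¹ = x by rw [← Equiv.Perm.inv_def]; group] at this
      refine ⟨hx, ?_⟩
      have h3 := hcompl (g.symm * x * g) (mem_M12_iff.2 ⟨h1, h2⟩)
      rw [← Equiv.Perm.inv_def, mul_smul, mul_smul, hgs', inv_smul_eq_iff, hgs'] at h3
      exact h3
    · have h3 := hcompl x (mem_M12_iff.2 ⟨h1, h2⟩)
      refine ⟨?_, ?_⟩
      · rw [← Equiv.Perm.inv_def]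
        exact M24.mul_mem (M24.mul_mem (M24.inv_mem hg24) h1) hg24
      · rw [← Equiv.Perm.inv_def, mul_smul, mul_smul, hgs, h3, inv_smul_eq_iff, hgs]
  refine ⟨?_, ?_, ⟨g, hg24, hgs, hconj⟩⟩
  · rw [← hconj]
    exact ⟨(Subgroup.equivSMul (MulAut.conj g) Spor.M11).symm⟩
  · rintro ⟨j, hj, hje⟩
    have hp : j (some 0) ∈ Spor.squareDodecad := (apply_mem_D hj _).2 zero_mem_D
    obtain ⟨q, hq, hqp⟩ : ∃ q ∈ Spor.squareDodecad, q ≠ j (some 0) := by
      have h2 : 1 < Spor.squareDodecad.card := by rw [card_squareDodecad]; norm_num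
      exact Finset.exists_mem_ne h2 _
    obtain ⟨h, hh, hhe⟩ := exists_map_compl (p := g⁻¹ (j (some 0))) (q := g⁻¹ q)
      (fun hc => (hgiD _).1 hc hp) (fun hc => (hgiD _).1 hc hq)
    have hmem : g * h * g⁻¹ ∈ MulAut.conj j • Spor.M11 := by
      rw [hje, ← hconj]
      exact ⟨h, hh, rfl⟩
    obtain ⟨m, hm, hme⟩ := hmem
    have h1 : (g * h * g⁻¹) (j (some 0)) = j (some 0) := by
      rw [← hme]
      show (j * m * j⁻¹) (j (some 0)) = _
      rw [Equiv.Perm.mul_apply, Equiv.Perm.mul_apply, Equiv.Perm.inv_def, Equiv.symm_apply_apply,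
        (mem_M11_iff.1 hm).2]
    rw [Equiv.Perm.mul_apply, Equiv.Perm.mul_apply, hhe, Equiv.Perm.inv_def, Equiv.apply_symm_apply] at h1
    exact hqp h1

end Cfsg.Agent.S5620
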