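import Cfsg.Statements.S5625
import Cfsg.Agent.Lib.Steiner.Basic
-- import your own Cfsg.Agent.* helpers here

set_option autoImplicit false
open Cfsg

namespace Cfsg.Agent.S5625

/-- In any Steiner system S(5, 8, 24) and for any set Y of three points, the blocks meeting Y in exactly 3, 2, 1 and 0 points number 21, 168, 360 and 210 respectively (so there are 759 blocks in all). -/
theorem result (α : Type*) [Fintype α] [DecidableEq α] (hα : Fintype.card α = 24) (B : Set (Finset α)) (hB : Cfsg.IsSteinerSystem 5 8 B) (Y : Finset α) (hY : Y.card = 3) : {b : Finset α | b ∈ B ∧ (b ∩ Y).card = 3}.ncard = 21 ∧ {b : Finset α | b ∈ B ∧ (b ∩ Y).card = 2}.ncard = 168 ∧ {b : Finset α | b ∈ B ∧ (b ∩ Y).card = 1}.ncard = 360 ∧ {b : Finset α | b ∈ B ∧ (b ∩ Y).card = 0}.ncard = 210 := by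
  classical
  have hlam : ∀ (s : Finset α) (r : ℕ), s.card ≤ 5 →
      r * (8 - s.card).choose (5 - s.card) = (24 - s.card).choose (5 - s.card) →
      (Steiner.blocksThru B s).card = r := by
    intro s r hs hr
    have h := Steiner.card_blocksThru_mul hB hs
    rw [hα, ← hr] at h
    exact Nat.eq_of_mul_eq_mul_right (Nat.choose_pos (by omega)) h
  set F := Steiner.blocksOf B with hF
  have hsum : ∀ j r, j ≤ 3 → r * (8 - j).choose (5 - j) = (24 - j).choose (5 - j) →
      ∑ c ∈ F, (c ∩ Y).card.choose j = (3 : ℕ).choose j * r := by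
    intro j r hj hr
    rw [Steiner.sum_choose_inter]
    rw [Finset.sum_congr rfl (g := fun _ => r) fun s hs => by
      obtain ⟨-, hs'⟩ := Finset.mem_powersetCard.mp hs
      exact hlam s r (by omega) (by rw [hs']; exact hr)]
    rw [Finset.sum_const, Finset.card_powersetCard, hY, smul_eq_mul]
  have s0 := hsum 0 759 (by omega) (by decide)
  have s1 := hsum 1 253 (by omega) (by decide)
  have s2 := hsum 2 77 (by omega) (by decide)
  have s3 := hsum 3 21 (by omega) (by decide)
  have key : ∀ j, ∑ c ∈ F, (c ∩ Y).card.choose j =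
      ∑ i ∈ Finset.range 4, (F.filter fun c => (c ∩ Y).card = i).card * i.choose j := by
    intro j
    rw [← Finset.sum_fiberwise_of_maps_to (g := fun c => (c ∩ Y).card) (t := Finset.range 4)
      (fun c _ => Finset.mem_range.mpr (by
        have := Finset.card_le_card (Finset.inter_subset_right : c ∩ Y ⊆ Y)
        omega))]
    refine Finset.sum_congr rfl fun i _ => ?_
    rw [Finset.sum_congr rfl (g := fun _ => i.choose j) fun c hc => by
      rw [(Finset.mem_filter.mp hc).2], Finset.sum_const, smul_eq_mul]
  have hset : ∀ i, {b : Finset α | b ∈ B ∧ (b ∩ Y).card = i}.ncard =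
      (F.filter fun c => (c ∩ Y).card = i).card := fun i => by
    rw [← Set.ncard_coe_finset]
    congr 1
    ext b
    simp [hF]
  simp only [key, Finset.sum_range_succ, Finset.sum_range_zero] at s0 s1 s2 s3
  norm_num [Nat.choose] at s0 s1 s2 s3
  rw [hset, hset, hset, hset]
  simp only [Finset.card_eq_zero] at *
  omega

end Cfsg.Agent.S5625
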