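import Cfsg.Statements.S5631
import Cfsg.Agent.MaxSub.Orth

set_option autoImplicit false
open Cfsg

namespace Cfsg.Agent.S5631

section Helpers

open Matrix Cfsg.Agent.MaxSub

theorem core {ι : Type} [Fintype ι] [DecidableEq ι] {F : Type*} [Field F] [Finite F]
    {W : Submodule F (ι → F)} (hW0 : W ≠ ⊥) (hW1 : W ≠ ⊤) :
    Geo.IsMaximalIn (Geo.specialLinear ι F) (Geo.subspaceStabilizer W ⊓ Geo.specialLinear ι F) := by
  obtain ⟨a, ha, ha0⟩ := W.ne_bot_iff.mp hW0
  have hst : ∀ v φ : ι → F, φ ⬝ᵥ v = 0 → (v ∈ W ∨ ∀ x ∈ W, φ ⬝ᵥ x = 0) →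
      tv v φ ∈ Geo.subspaceStabilizer W ⊓ Geo.specialLinear ι F := by
    intro v φ h hc
    refine ⟨mem_subspaceStabilizer fun x hx => ?_, tv_mem_specialLinear v φ⟩
    rw [tv_mulVec h]
    rcases hc with hc | hc
    · exact add_mem hx (W.smul_mem _ hc)
    · rw [hc x hx, zero_smul, add_zero]; exact hx
  refine isMaximalIn_of inf_le_right ?_ fun M hHM hMK g hg hgH => ?_
  · obtain ⟨u, -, hu⟩ := SetLike.exists_of_lt (lt_top_iff_ne_top.mpr hW1)
    have hau : a ∉ Submodule.span F {u} := fun h => by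
      obtain ⟨c, rfl⟩ := Submodule.mem_span_singleton.mp h
      exact hu (by
        have hc : c ≠ 0 := fun hc => ha0 (by rw [hc, zero_smul])
        simpa [smul_smul, hc] using W.smul_mem c⁻¹ ha)
    obtain ⟨φ, hφu, hφa⟩ := exists_annihilator hau
    have hφ0 := hφu u (Submodule.mem_span_singleton_self u)
    refine ⟨tv u φ, tv_mem_specialLinear u φ, fun hmem => ?_⟩
    have h1 := (hmem.1 a).mp ha
    change (tv u φ : Matrix ι ι F) *ᵥ a ∈ W at h1
    rw [tv_mulVec hφ0, hφa, one_smul] at h1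
    exact hu (by simpa using sub_mem h1 ha)
  · obtain ⟨w₀, hw₀, hv⟩ : ∃ x ∈ W, (g : Matrix ι ι F) *ᵥ x ∉ W := by
      by_contra hc
      simp only [not_exists, not_and, not_not] at hc
      exact hgH ⟨mem_subspaceStabilizer hc, hMK hg⟩
    set v := (g : Matrix ι ι F) *ᵥ w₀
    have hfull : ∀ φ : ι → F, φ ⬝ᵥ v = 0 → φ ∈ dualSet M v := fun φ hφ => by
      have h0 : (φ ᵥ* (g : Matrix ι ι F)) ⬝ᵥ w₀ = 0 := by rw [← dotProduct_mulVec]; exact hφ
      have h1 := conj_mem_dualSet hg (M := M) (v := w₀) ⟨h0, hHM (hst _ _ h0 (Or.inl hw₀))⟩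
      rwa [vecMul_vecMul, Units.mul_inv, vecMul_one] at h1
    -- moving `v` inside the coset classes by stabiliser transvections
    have hmove : ∀ u : ι → F, u ∉ W → ∃ c : F, c ≠ 0 ∧ ∃ h ∈ M,
        (h : Matrix ι ι F) *ᵥ (c • v) = u := by
      intro u hu
      by_cases hmem : u ∈ W ⊔ Submodule.span F {v}
      · obtain ⟨w, hw, y, hy, rfl⟩ := Submodule.mem_sup.mp hmem
        obtain ⟨c, rfl⟩ := Submodule.mem_span_singleton.mp hy
        have hc : c ≠ 0 := fun hc => hu (by rw [hc, zero_smul, add_zero]; exact hw)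
        have hvw : c • v ∉ Submodule.span F {w} := fun h => hv (by
          obtain ⟨d, hd⟩ := Submodule.mem_span_singleton.mp h
          have := W.smul_mem c⁻¹ (hd ▸ W.smul_mem d hw)
          rwa [smul_smul, inv_mul_cancel₀ hc, one_smul] at this)
        obtain ⟨χ, hχw, hχv⟩ := exists_annihilator hvw
        have hχ0 := hχw w (Submodule.mem_span_singleton_self w)
        refine ⟨c, hc, tv w χ, hHM (hst w χ hχ0 (Or.inl hw)), ?_⟩
        rw [tv_mulVec hχ0, hχv, one_smul, add_comm]
      · have hvn : v ∉ W ⊔ Submodule.span F {u - v} := fun h => by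
          obtain ⟨w, hw, y, hy, he⟩ := Submodule.mem_sup.mp h
          obtain ⟨d, rfl⟩ := Submodule.mem_span_singleton.mp hy
          have hd : d ≠ 0 := fun hd => hv (by
            rw [← he, hd, zero_smul, add_zero]; exact hw)
          apply hmem
          have hu' : u = -(d⁻¹ • w) + (d⁻¹ + 1) • v := by
            apply smul_right_injective _ hd
            simp only [smul_add, smul_neg, smul_smul, mul_inv_cancel₀ hd, one_smul, mul_add, mul_one]
            linear_combination (norm := module) he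
          rw [hu']
          exact Submodule.add_mem_sup (W.neg_mem (W.smul_mem _ hw))
            (Submodule.smul_mem _ _ (Submodule.mem_span_singleton_self v))
        obtain ⟨χ, hχW, hχv⟩ := exists_annihilator hvn
        have hχ0 := hχW _ (Submodule.mem_sup_right (Submodule.mem_span_singleton_self _))
        refine ⟨1, one_ne_zero, tv (u - v) χ, hHM (hst _ χ hχ0 (Or.inr fun x hx =>
          hχW x (Submodule.mem_sup_left hx))), ?_⟩
        rw [one_smul, tv_mulVec hχ0, hχv, one_smul, add_sub_cancel]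
    refine specialLinear_le_of_tv_mem fun u φ hφ => ?_
    by_cases hu : u ∈ W
    · exact hHM (hst u φ hφ (Or.inl hu))
    obtain ⟨c, hc, h, hh, rfl⟩ := hmove u hu
    have h0 : (φ ᵥ* (h : Matrix ι ι F)) ⬝ᵥ (c • v) = 0 := by rw [← dotProduct_mulVec, hφ]
    have h0' : (φ ᵥ* (h : Matrix ι ι F)) ⬝ᵥ v = 0 := by simpa [hc] using h0
    have h2 : φ ᵥ* (h : Matrix ι ι F) ∈ dualSet M (c • v) := by
      refine ⟨h0, ?_⟩
      rw [tv_smul_comm c h0']
      exact (hfull _ (by simp [h0'])).2
    have := conj_mem_dualSet hh h2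
    rw [vecMul_vecMul, Units.mul_inv, vecMul_one] at this
    exact this.2

end Helpers


/-- For a finite field F and n ≥ 13, the stabiliser in SL_n(F) of any proper non-zero subspace W of F^n is a maximal subgroup of SL_n(F). Here SL_n(F) is the kernel of the determinant inside GL_n(F) and the stabiliser is the set of elements of determinant one mapping W onto itself. -/
theorem result {F : Type*} [Field F] [Fintype F] (n : ℕ) (hn : 13 ≤ n) (W : Submodule F (Fin n → F)) (hW0 : W ≠ ⊥) (hW1 : W ≠ ⊤) : Cfsg.Geo.IsMaximalIn (Cfsg.Geo.specialLinear (Fin n) F) (Cfsg.Geo.subspaceStabilizer W ⊓ Cfsg.Geo.specialLinear (Fin n) F) := by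
  exact core hW0 hW1

end Cfsg.Agent.S5631
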