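import Cfsg.Statements.S5632
import Cfsg.Agent.MaxSub.Orth

set_option autoImplicit false
open Cfsg

namespace Cfsg.Agent.S5632

open Matrix Cfsg.Agent.MaxSub

/-- For a finite field F and subspaces 0 < W < U of F^n with dim W + dim U = n, the elements of SL_n(F) stabilising both W and U form a subgroup that is not maximal in SL_n(F): some subgroup lies strictly between it and SL_n(F). -/
theorem result {F : Type*} [Field F] [Fintype F] (n : ℕ) (W U : Submodule F (Fin n → F)) (hW0 : W ≠ ⊥) (hWU : W < U) (hdim : Module.finrank F W + Module.finrank F U = n) : ∃ K : Subgroup (Matrix.GeneralLinearGroup (Fin n) F), Cfsg.Geo.subspaceStabilizer W ⊓ Cfsg.Geo.subspaceStabilizer U ⊓ Cfsg.Geo.specialLinear (Fin n) F < K ∧ K < Cfsg.Geo.specialLinear (Fin n) F := by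
  have hW1 : W ≠ ⊤ := fun h => not_le_of_gt (h ▸ hWU) le_top
  obtain ⟨u, hu, huW⟩ := SetLike.exists_of_lt hWU
  have hU : U ≠ ⊤ := fun h => by
    rw [h, finrank_top] at hdim
    simp at hdim
    exact hW0 (Submodule.finrank_eq_zero.mp (by simpa using hdim))
  -- a transvection fixing `W` pointwise and moving `U`
  obtain ⟨y, -, hy⟩ := SetLike.exists_of_lt (lt_top_iff_ne_top.mpr hU)
  have hu' : u ∉ W ⊔ Submodule.span F {y} := fun h => by
    obtain ⟨w, hw, z, hz, he⟩ := Submodule.mem_sup.mp h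
    obtain ⟨c, rfl⟩ := Submodule.mem_span_singleton.mp hz
    by_cases hc : c = 0
    · exact huW (by rw [← he, hc, zero_smul, add_zero]; exact hw)
    · apply hy
      have := U.smul_mem c⁻¹ (sub_mem hu (hWU.le hw))
      rwa [← he, add_sub_cancel_left, smul_smul, inv_mul_cancel₀ hc, one_smul] at this
  obtain ⟨φ, hφW, hφu⟩ := exists_annihilator hu'
  have hφy := hφW y (Submodule.mem_sup_right (Submodule.mem_span_singleton_self y))
  refine ⟨Cfsg.Geo.subspaceStabilizer W ⊓ Cfsg.Geo.specialLinear (Fin n) F, ?_, ?_⟩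
  · refine lt_of_le_of_ne (inf_le_inf_right _ inf_le_left) fun he => ?_
    have hmem : tv y φ ∈ Cfsg.Geo.subspaceStabilizer W ⊓ Cfsg.Geo.specialLinear (Fin n) F :=
      ⟨mem_subspaceStabilizer fun x hx => by
        rw [tv_mulVec hφy, hφW x (Submodule.mem_sup_left hx), zero_smul, add_zero]; exact hx,
       tv_mem_specialLinear y φ⟩
    rw [← he] at hmem
    have h1 := (hmem.1.2 u).mp hu
    change (tv y φ : Matrix (Fin n) (Fin n) F) *ᵥ u ∈ U at h1
    rw [tv_mulVec hφy, hφu, one_smul] at h1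
    exact hy (by simpa using sub_mem h1 hu)
  · refine lt_of_le_of_ne inf_le_right fun he => ?_
    obtain ⟨a, ha, ha0⟩ := W.ne_bot_iff.mp hW0
    obtain ⟨b, -, hb⟩ := SetLike.exists_of_lt (lt_top_iff_ne_top.mpr hW1)
    have hab : a ∉ Submodule.span F {b} := fun h => by
      obtain ⟨c, rfl⟩ := Submodule.mem_span_singleton.mp h
      refine hb ?_
      have hc : c ≠ 0 := fun hc => ha0 (by rw [hc, zero_smul])
      simpa [smul_smul, hc] using W.smul_mem c⁻¹ ha
    obtain ⟨χ, hχb, hχa⟩ := exists_annihilator hab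
    have hχ0 := hχb b (Submodule.mem_span_singleton_self b)
    have hmem : tv b χ ∈ Cfsg.Geo.subspaceStabilizer W ⊓ Cfsg.Geo.specialLinear (Fin n) F := by
      rw [he]; exact tv_mem_specialLinear b χ
    have h1 := (hmem.1 a).mp ha
    change (tv b χ : Matrix (Fin n) (Fin n) F) *ᵥ a ∈ W at h1
    rw [tv_mulVec hχ0, hχa, one_smul] at h1
    exact hb (by simpa using sub_mem h1 ha)

end Cfsg.Agent.S5632
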