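import Cfsg.Statements.S5633
import Cfsg.Agent.MaxSub.Orth

set_option autoImplicit false
open Cfsg

namespace Cfsg.Agent.S5633

open Matrix Cfsg.Agent.MaxSub

/-- For a finite field F and complementary non-zero subspaces W ⊕ U = F^n with dim W < dim U, the elements of SL_n(F) stabilising both W and U form a subgroup that is not maximal in SL_n(F): some subgroup lies strictly between it and SL_n(F). -/
theorem result {F : Type*} [Field F] [Fintype F] (n : ℕ) (W U : Submodule F (Fin n → F)) (hW0 : W ≠ ⊥) (hWU : W ⊓ U = ⊥) (hWU' : W ⊔ U = ⊤) (hdim : Module.finrank F W < Module.finrank F U) : ∃ K : Subgroup (Matrix.GeneralLinearGroup (Fin n) F), Cfsg.Geo.subspaceStabilizer W ⊓ Cfsg.Geo.subspaceStabilizer U ⊓ Cfsg.Geo.specialLinear (Fin n) F < K ∧ K < Cfsg.Geo.specialLinear (Fin n) F := by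
  obtain ⟨w, hw, hw0⟩ := W.ne_bot_iff.mp hW0
  have hwU : w ∉ U := fun h => hw0 (by
    have h' : w ∈ W ⊓ U := ⟨hw, h⟩
    rwa [hWU, Submodule.mem_bot] at h')
  have hW1 : W ≠ ⊤ := fun h => by
    rw [h, finrank_top] at hdim
    exact absurd (Submodule.finrank_le U) (not_le.mpr hdim)
  obtain ⟨u, hu, huW⟩ : ∃ u ∈ U, u ∉ W := SetLike.not_le_iff_exists.mp fun h => by
    exact absurd (Submodule.finrank_mono h) (not_le.mpr hdim)
  obtain ⟨φ, hφW', hφu⟩ := exists_annihilator huW
  -- a transvection fixing `W` pointwise and moving `U`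
  set y := w with hy'
  have hy : y ∉ U := hwU
  have hφW : ∀ x ∈ W ⊔ Submodule.span F {y}, φ ⬝ᵥ x = 0 := fun x hx => by
    have hle : W ⊔ Submodule.span F {y} ≤ W :=
      sup_le le_rfl ((Submodule.span_singleton_le_iff_mem _ _).mpr hw)
    exact hφW' x (hle hx)
  have hφy := hφW y (Submodule.mem_sup_right (Submodule.mem_span_singleton_self y))
  refine ⟨Cfsg.Geo.subspaceStabilizer W ⊓ Cfsg.Geo.specialLinear (Fin n) F, ?_, ?_⟩
  · refine lt_of_le_of_ne (inf_le_inf_right _ inf_le_left) fun he => ?_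
    have hmem : tv y φ ∈ Cfsg.Geo.subspaceStabilizer W ⊓ Cfsg.Geo.specialLinear (Fin n) F :=
      ⟨mem_subspaceStabilizer fun x hx => by
        rw [tv_mulVec hφy, hφW x (Submodule.mem_sup_left hx), zero_smul, add_zero]; exact hx,
       tv_mem_specialLinear y φ⟩
    rw [← he] at hmem
    have h1 := (hmem.1.2 u).mp hu
    change (tv y φ : Matrix (Fin n) (Fin n) F) *ᵥ u ∈ U at h1
    rw [tv_mulVec hφy, hφu, one_smul] at h1
    exact hy (by simpa using sub_mem h1 hu)
  · refine lt_of_le_of_ne inf_le_right fun he => ?_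
    obtain ⟨a, ha, ha0⟩ := W.ne_bot_iff.mp hW0
    obtain ⟨b, -, hb⟩ := SetLike.exists_of_lt (lt_top_iff_ne_top.mpr hW1)
    have hab : a ∉ Submodule.span F {b} := fun h => by
      obtain ⟨c, rfl⟩ := Submodule.mem_span_singleton.mp h
      refine hb ?_
      have hc : c ≠ 0 := fun hc => ha0 (by rw [hc, zero_smul])
      simpa [smul_smul, hc] using W.smul_mem c⁻¹ ha
    obtain ⟨χ, hχb, hχa⟩ := exists_annihilator hab
    have hχ0 := hχb b (Submodule.mem_span_singleton_self b)
    have hmem : tv b χ ∈ Cfsg.Geo.subspaceStabilizer W ⊓ Cfsg.Geo.specialLinear (Fin n) F := by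
      rw [he]; exact tv_mem_specialLinear b χ
    have h1 := (hmem.1 a).mp ha
    change (tv b χ : Matrix (Fin n) (Fin n) F) *ᵥ a ∈ W at h1
    rw [tv_mulVec hχ0, hχa, one_smul] at h1
    exact hb (by simpa using sub_mem h1 ha)

end Cfsg.Agent.S5633
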