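import Cfsg.Statements.S5638
import Cfsg.Agent.Classical10.NotMax.TensorTwo
-- import your own Cfsg.Agent.* helpers here

set_option autoImplicit false
open Cfsg
open scoped Matrix MatrixGroups

namespace Cfsg.Agent.S5638

/-- Over the field with 2 elements, for n = 2 n₂ ≥ 13, the stabiliser in SL_n of a tensor decomposition with factors of dimensions 2 and n₂ (the conjugate by any P of the Kronecker-product subgroup transported along any bijection Fin n ≃ Fin 2 × Fin n₂, intersected with SL_n) is not a maximal subgroup: some subgroup lies strictly between it and SL_n. -/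
theorem result {F : Type*} [Field F] [Fintype F] (n : ℕ) (hn : 13 ≤ n) (hq : Fintype.card F = 2) (n₂ : ℕ) (e : Fin n ≃ Fin 2 × Fin n₂) (P : Matrix.GeneralLinearGroup (Fin n) F) : ∃ K : Subgroup (Matrix.GeneralLinearGroup (Fin n) F), Cfsg.Geo.tensorProductSubgroup 2 n₂ e P ⊓ Cfsg.Geo.specialLinear (Fin n) F < K ∧ K < Cfsg.Geo.specialLinear (Fin n) F := by
  obtain ⟨X, hX, hXu, hle⟩ := NotMax.exists_structure hq e P
  have h2 := NotMax.two_eq_zero hq
  have hn₂ : 2 ≤ n₂ := by
    have h := Fintype.card_congr e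
    simp only [Fintype.card_fin, Fintype.card_prod] at h
    omega
  obtain ⟨m, rfl⟩ : ∃ m, n₂ = m + 2 := ⟨n₂ - 2, by omega⟩
  have hSL : ∀ g : GL (Fin n) F, g ∈ Geo.specialLinear (Fin n) F := fun g => Units.ext (by
    rcases NotMax.zero_or_one hq ((Matrix.GeneralLinearGroup.det g : Fˣ) : F) with h | h
    · exact absurd h (Units.ne_zero _)
    · simpa using h)
  let E : Matrix (Fin (m + 2)) (Fin (m + 2)) F := Matrix.single 0 1 1
  have hEE : E * E = 0 := by simp [E, Matrix.single_mul_single_of_ne]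
  have hinvol : ∀ A : Matrix (Fin 2) (Fin 2) F, (1 + Matrix.kroneckerMap (· * ·) A E) *
      (1 + Matrix.kroneckerMap (· * ·) A E) = 1 := fun A => by
    rw [mul_add, mul_one, add_mul, one_mul, ← Matrix.mul_kronecker_mul, hEE, Matrix.kronecker_zero,
      add_zero]
    ext a b
    simp only [Matrix.add_apply]
    linear_combination (Matrix.kroneckerMap (· * ·) A E a b) * h2
  let mkGL : Matrix (Fin 2) (Fin 2) F → GL (Fin 2 × Fin (m + 2)) F := fun A =>
    ⟨1 + Matrix.kroneckerMap (· * ·) A E, 1 + Matrix.kroneckerMap (· * ·) A E, hinvol A, hinvol A⟩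
  have hact : ∀ A u v, (NotMax.ofModel e P (mkGL A) : Matrix (Fin n) (Fin n) F) *ᵥ NotMax.ten e P u v =
      NotMax.ten e P u v + NotMax.ten e P (A *ᵥ u) (E *ᵥ v) := fun A u v => by
    rw [NotMax.ofModel_mulVec, show ((mkGL A : GL (Fin 2 × Fin (m + 2)) F) :
      Matrix (Fin 2 × Fin (m + 2)) (Fin 2 × Fin (m + 2)) F) =
        1 + Matrix.kroneckerMap (· * ·) A E from rfl, Matrix.add_mulVec, Matrix.one_mulVec,
      NotMax.kronecker_mulVec, NotMax.ten_apply, NotMax.ten_apply, ← Matrix.mulVec_add]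
    rfl
  have hcoord : ∀ (u u' u'' : Fin 2 → F) (v v' v'' : Fin (m + 2) → F),
      NotMax.ten e P u v + NotMax.ten e P u' v' = NotMax.ten e P u'' v'' →
      ∀ i k, u i * v k + u' i * v' k = u'' i * v'' k := fun u u' u'' v v' v'' h i k => by
    simp only [NotMax.ten_apply] at h
    rw [← Matrix.mulVec_add] at h
    simpa using congrFun (MaxSub.mulVec_injective P h) (e.symm (i, k))
  let d : Fin (m + 2) → Fin (m + 2) → F := fun i => Pi.single i 1
  have hEd : E *ᵥ d 1 = d 0 := by ext i; simp [E, d, Matrix.mulVec, dotProduct, Matrix.single, Pi.single_apply, eq_comm]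
  have hX2 : ∀ u v, ((X ^ 2 : GL (Fin n) F) : Matrix (Fin n) (Fin n) F) *ᵥ NotMax.ten e P u v =
      NotMax.ten e P (NotMax.jMat F *ᵥ (NotMax.jMat F *ᵥ u)) v := fun u v => by
    rw [pow_two, Units.val_mul, ← Matrix.mulVec_mulVec, hXu, hXu]
  refine NotMax.exists_between (NotMax.sqStab X hX ⊓ Geo.specialLinear (Fin n) F)
    (fun g hg => ⟨hle hg.1, hg.2⟩) inf_le_right (NotMax.ofModel e P (mkGL (NotMax.jMat F)))
    ⟨NotMax.mem_sqStab.mpr (Or.inl (NotMax.ext_ten e P fun u v => ?_)), hSL _⟩ ?_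
    (NotMax.ofModel e P (mkGL (Matrix.single 0 0 1))) (hSL _) ?_
  · rw [Units.val_mul, Units.val_mul, ← Matrix.mulVec_mulVec, ← Matrix.mulVec_mulVec, hXu, hact,
      hact, Matrix.mulVec_add, hXu, hXu]
  · rintro ⟨hT, -⟩
    obtain ⟨A, B, hAB⟩ := NotMax.exists_of_mem_tensorProductSubgroup hT
    have h := hAB (Pi.single 0 1) (d 1)
    rw [hact, hEd] at h
    have h01 := hcoord _ _ _ _ _ _ h 0 1
    have h10 := hcoord _ _ _ _ _ _ h 1 0
    have h00 := hcoord _ _ _ _ _ _ h 0 0
    simp [d, NotMax.jMat, Pi.single_apply] at h01 h10 h00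
    rcases h00 with h0 | h0
    · simp [h0] at h01
    · simp [h0] at h10
  · rintro ⟨hy, -⟩
    rcases NotMax.mem_sqStab.mp hy with h | h
    · have h' := congrArg (fun g : GL (Fin n) F =>
        (g : Matrix (Fin n) (Fin n) F) *ᵥ NotMax.ten e P (Pi.single 0 1) (d 1)) h
      simp only [Units.val_mul, ← Matrix.mulVec_mulVec, hXu, hact, hEd, Matrix.mulVec_add] at h'
      simp only [NotMax.ten_apply, ← Matrix.mulVec_add] at h'
      simpa [d, NotMax.jMat, Pi.single_apply, Matrix.mulVec, dotProduct, Matrix.single] using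
        congrFun (MaxSub.mulVec_injective P h') (e.symm (1, 0))
    · have h' := congrArg (fun g : GL (Fin n) F =>
        (g : Matrix (Fin n) (Fin n) F) *ᵥ NotMax.ten e P (Pi.single 0 1) (d 1)) h
      simp only [Units.val_mul, ← Matrix.mulVec_mulVec, hXu, hX2, hact, hEd, Matrix.mulVec_add] at h'
      simp only [NotMax.ten_apply, ← Matrix.mulVec_add] at h'
      simpa [d, NotMax.jMat, Pi.single_apply, Matrix.mulVec, dotProduct, Matrix.single] using
        congrFun (MaxSub.mulVec_injective P h') (e.symm (0, 1))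

end Cfsg.Agent.S5638
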