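import Cfsg.Statements.S5644
import Cfsg.Agent.MaxSub.Similitude

set_option autoImplicit false
open Cfsg

namespace Cfsg.Agent.S5644

/-- For a finite field F of odd order and n ≥ 13, let Q be a non-degenerate quadratic form on F^n (its polar form is non-degenerate). Then the elements of SL_n(F) that are similarities of Q (Q(gv) = c Q(v) for a non-zero scalar c depending on g) form a maximal subgroup of SL_n(F). -/
theorem result {F : Type*} [Field F] [Fintype F] (n : ℕ) (hn : 13 ≤ n) (hodd : Odd (Fintype.card F)) (Q : (Fin n → F) → F) (hQ : Cfsg.Geo.IsNondegenerateQuadraticForm Q) : Cfsg.Geo.IsMaximalIn (Cfsg.Geo.specialLinear (Fin n) F) (Cfsg.Geo.quadSimilarityGroup Q ⊓ Cfsg.Geo.specialLinear (Fin n) F) := by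
  classical
  obtain ⟨Qf, rfl, hnd⟩ := OrthStab.exists_form hQ
  have h2 : (2 : F) ≠ 0 := fun h => by
    have := CharP.ringChar_of_prime_eq_zero (R := F) Nat.prime_two (by exact_mod_cast h)
    have hev : Even (Fintype.card F) := by
      rw [Nat.even_iff]; exact FiniteField.even_card_iff_char_two.mp this
    exact Nat.not_odd_iff_even.mpr hev hodd
  have hn' : 13 ≤ Fintype.card (Fin n) := by simpa using hn
  refine ⟨lt_of_le_of_ne inf_le_right fun e => ?_, fun M hle hM => ?_⟩
  · -- a transvection that is not a similarity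
    obtain ⟨a, ha0, ha, -⟩ := Similitude.exists_singular hnd hn' h2
      (![] : Fin 0 → Fin n → F) (by omega)
    obtain ⟨b, hb, hab, -⟩ := OrthStab.exists_partner (S := ⊥) hnd (by simpa using ha0) ha
      fun x hx => by rw [(Submodule.mem_bot F).mp hx, QuadraticMap.polar_zero_right]
    have hmem : MaxSub.tv a (MaxSub.rep (QuadraticMap.polar ⇑Qf) a) ∈
        Cfsg.Geo.specialLinear (Fin n) F := MaxSub.tv_mem_specialLinear _ _
    rw [← e] at hmem
    obtain ⟨c, hc⟩ := hmem.1
    have h := hc b
    rw [MaxSub.tv_mulVec (by rw [MaxSub.rep_dot (Similitude.bil Qf),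
        UnitaryOrthogonal.polar_self_eq, ha, mul_zero]),
      MaxSub.rep_dot (Similitude.bil Qf), QuadraticMap.polar_comm, hab, one_smul,
      UnitaryOrthogonal.form_add, hb, ha, QuadraticMap.polar_comm, hab, mul_zero, zero_add,
      zero_add] at h
    exact one_ne_zero h
  · by_cases hMH : M = Cfsg.Geo.quadSimilarityGroup ⇑Qf ⊓ Cfsg.Geo.specialLinear (Fin n) F
    · exact Or.inl hMH
    obtain ⟨g, hgM, hgH⟩ := SetLike.exists_of_lt (lt_of_le_of_ne hle (Ne.symm hMH))
    exact Or.inr (le_antisymm hM (Similitude.specialLinear_le hnd hn' h2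
      (fun u z hu hz => hle (Similitude.se_similar hu hz)) hgM fun hg => hgH ⟨hg, hM hgM⟩))

end Cfsg.Agent.S5644
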