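import Cfsg.Statements.S5645
import Cfsg.Agent.MaxSub.Orth

set_option autoImplicit false
open Cfsg

namespace Cfsg.Agent.S5645

open Matrix Cfsg.Agent.MaxSub

/-- The map `x ↦ x + f(x,a) b + f(x,b) a`, for `f(a,b) = 0`. -/
theorem exists_shear {ι : Type} [Fintype ι] [DecidableEq ι] {F : Type*} [Field F]
    {f : (ι → F) → (ι → F) → F} (hf : Geo.IsSymplecticForm f) {a b : ι → F} (h : f a b = 0) :
    ∃ g : GL ι F, g ∈ isom f ∧
      ∀ x, (g : Matrix ι ι F) *ᵥ x = x + f x a • b + f x b • a := by
  refine ⟨st f (a + b) 1 * (st f a 1)⁻¹ * (st f b 1)⁻¹, mul_mem (mul_mem (st_mem_isom hf _ _)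
    (inv_mem (st_mem_isom hf _ _))) (inv_mem (st_mem_isom hf _ _)), fun x => ?_⟩
  have hinv : ∀ v : ι → F, (st f v 1)⁻¹ = st f v (-1) := fun v => by
    rw [st, tv_inv (rep_dot_self hf v 1), ← neg_smul, st]
  rw [hinv, hinv, Units.val_mul, Units.val_mul, ← mulVec_mulVec, ← mulVec_mulVec, st_mulVec hf,
    st_mulVec hf, st_mulVec hf]
  have hba : f b a = 0 := by rw [hf.skew, h, neg_zero]
  simp only [hf.bilinear.add_left, hf.bilinear.smul_left, hf.bilinear.add_right, hf.alternating, h, hba]
  module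

theorem core {ι : Type} [Fintype ι] [DecidableEq ι] {F : Type*} [Field F] [Finite F]
    {f : (ι → F) → (ι → F) → F} (hf : Geo.IsSymplecticForm f) {W : Submodule F (ι → F)}
    (hW0 : W ≠ ⊥) (hW : Geo.IsTotallySingularFor f W) :
    Geo.IsMaximalIn (isom f) (Geo.subspaceStabilizer W ⊓ isom f) := by
  set W' := orth hf.bilinear W with hW'
  have horth : ∀ b ∈ W', ∀ a ∈ W, f b a = 0 ∧ f a b = 0 := fun b hb a ha =>
    ⟨mem_orth.mp hb a ha, by rw [hf.skew, mem_orth.mp hb a ha, neg_zero]⟩
  have hWW' : W ≤ W' := fun a ha => mem_orth.mpr fun b hb => hW a ha b hb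
  have hst : ∀ v ∈ W', ∀ c, st f v c ∈ Geo.subspaceStabilizer W ⊓ isom f := by
    intro v hv c
    refine ⟨mem_subspaceStabilizer fun x hx => ?_, st_mem_isom hf v c⟩
    rw [st_mulVec hf, (horth v hv x hx).2, mul_zero, zero_smul, add_zero]
    exact hx
  refine isMaximalIn_of inf_le_right ?_ fun M hHM hMK g hg hgH => ?_
  · obtain ⟨a, ha, ha0⟩ := W.ne_bot_iff.mp hW0
    obtain ⟨u, hu⟩ := (hf.nondegenerate a ha0).2
    refine ⟨st f u 1, st_mem_isom hf _ _, fun hmem => ?_⟩
    have h1 := (hmem.1 a).mp ha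
    change (st f u 1 : Matrix ι ι F) *ᵥ a ∈ W at h1
    rw [st_mulVec hf, one_mul] at h1
    have h2 : u ∈ W := by
      have := W.smul_mem (f a u)⁻¹ (sub_mem h1 ha)
      rwa [add_sub_cancel_left, smul_smul, inv_mul_cancel₀ hu, one_smul] at this
    exact hu (hW a ha u h2)
  · have hgi := hMK hg
    have hS : ∀ v ∈ W', v ∈ centres f M := fun v hv c => hHM (hst v hv c)
    -- a centre outside `W'`
    obtain ⟨u, hu, huW⟩ : ∃ u ∈ centres f M, u ∉ W' := by
      by_contra hc
      simp only [not_exists, not_and, not_not] at hc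
      have hgW' : g ∈ Geo.subspaceStabilizer W' :=
        mem_subspaceStabilizer fun x hx => hc _ (conj_mem_centres hf hg hgi (hS x hx))
      refine hgH ⟨?_, hgi⟩
      have h2 := subspaceStabilizer_le_of_eq_orth hf.bilinear hgi hgW'
      have heq : orth hf.bilinear W' = W := by
        refine (Submodule.eq_of_le_of_finrank_eq
          (fun a ha => mem_orth.mpr fun b hb => (horth b hb a ha).2) ?_).symm
        have h3 := finrank_orth hf.bilinear hf.nondegenerate W
        have h4 := finrank_orth hf.bilinear hf.nondegenerate W'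
        rw [← hW'] at h3
        omega
      rwa [heq] at h2
    have huS : ∀ {u}, u ∈ centres f M → u ∉ W' → ∀ x ∈ W', u + x ∈ centres f M := by
      intro u hu huW x hx
      by_cases hne : f u x = 0
      · obtain ⟨w, hw, hw'⟩ : ∃ w ∈ W, f u w ≠ 0 := by
          by_contra h
          simp only [not_exists, not_and, not_not] at h
          exact huW (mem_orth.mpr h)
        have h1 := add_smul_mem_centres hf hu (hS w (hWW' hw)) hw' 1
        rw [one_smul] at h1
        have h2 : f (u + w) (x - w) ≠ 0 := by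
          rw [hf.bilinear.add_left, form_sub_right hf.bilinear, form_sub_right hf.bilinear, hne,
            hf.alternating, (horth x hx w hw).2]
          simpa using hw'
        have h3 := add_smul_mem_centres hf h1 (hS _ (sub_mem hx (hWW' hw))) h2 1
        rwa [one_smul, add_assoc, add_sub_cancel] at h3
      · simpa using add_smul_mem_centres hf hu (hS x hx) hne 1
    -- moving between cosets of `W'` by shears
    have hmove : ∀ {u v : ι → F}, u ∈ centres f M → u ∉ W' →
        (∃ a ∈ W, f u a = 1 ∧ f v a = 1) → v ∈ centres f M := by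
      rintro u v hu huW ⟨a, ha, hua, hva⟩
      have hab : f a (v - u) = 0 := by
        rw [form_sub_right hf.bilinear, hf.skew a v, hf.skew a u, hua, hva, sub_self]
      obtain ⟨k, hki, hk⟩ := exists_shear hf hab
      have hkM : k ∈ M := hHM ⟨mem_subspaceStabilizer fun x hx => by
        rw [hk, hW x hx a ha, zero_smul, add_zero]
        exact add_mem hx (W.smul_mem _ ha), hki⟩
      have h1 := conj_mem_centres hf hkM hki hu
      rw [hk, hua, one_smul] at h1
      have h2 : u + (v - u) + f u (v - u) • a ∉ W' := fun h => by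
        have h3 : v ∈ W' := by
          simpa using sub_mem h (hWW' (W.smul_mem (f u (v - u)) ha))
        exact one_ne_zero (hva ▸ mem_orth.mp h3 a ha)
      simpa using huS h1 h2 _ (hWW' (W.smul_mem (-(f u (v - u))) ha))
    refine isom_le_of_st_mem hf fun v => ?_
    by_cases hv : v ∈ W'
    · exact hS v hv
    let φ : W →ₗ[F] F := (rmap hf.bilinear u).comp W.subtype
    let ψ : W →ₗ[F] F := (rmap hf.bilinear v).comp W.subtype
    have hnz : ∀ x, x ∉ W' → ∃ a ∈ W, f x a ≠ 0 := fun x hx => by
      by_contra h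
      simp only [not_exists, not_and, not_not] at h
      exact hx (mem_orth.mpr h)
    obtain ⟨a₁, ha₁, hne₁⟩ := hnz u huW
    obtain ⟨a₂, ha₂, hne₂⟩ := hnz v hv
    obtain ⟨a₀, ha₀, h1, h2⟩ := exists_form_ne_zero_ne_zero hf (a := u) (b := v)
      (W := W) ⟨a₁, ha₁, hne₁⟩ ⟨a₂, ha₂, by rwa [hf.skew, neg_ne_zero]⟩
    rw [hf.skew, neg_ne_zero] at h2
    -- normalise: `a` with `f u a = 1`; then rescale the target
    have h3 : (f v ((f u a₀)⁻¹ • a₀))⁻¹ • v ∈ centres f M := by
      refine hmove hu huW ⟨(f u a₀)⁻¹ • a₀, W.smul_mem _ ha₀, ?_, ?_⟩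
      · rw [hf.bilinear.smul_right, inv_mul_cancel₀ h1]
      · rw [hf.bilinear.smul_left, inv_mul_cancel₀]
        rw [hf.bilinear.smul_right]
        exact mul_ne_zero (inv_ne_zero h1) h2
    have h4 := smul_mem_centres hf h3 (f v ((f u a₀)⁻¹ • a₀))
    rwa [smul_smul, mul_inv_cancel₀, one_smul] at h4
    rw [hf.bilinear.smul_right]
    exact mul_ne_zero (inv_ne_zero h1) h2


/-- For a finite field F and m ≥ 7, in the symplectic group Sp_2m(F) of the standard alternating form on F^(2m) (as a subgroup of GL_2m(F)), the stabiliser of any non-zero subspace on which the form vanishes identically is a maximal subgroup. -/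
theorem result {F : Type*} [Field F] [Fintype F] (m : ℕ) (hm : 7 ≤ m) (W : Submodule F (Fin m ⊕ Fin m → F)) (hW0 : W ≠ ⊥) (hW : Cfsg.Geo.IsTotallySingularFor (Cfsg.sympForm m F) W) : Cfsg.Geo.IsMaximalIn (Cfsg.spGL m F) (Cfsg.Geo.subspaceStabilizer W ⊓ Cfsg.spGL m F) := by
  rw [spGL_eq_isom]
  exact core (isSymplecticForm_sympForm m) hW0 hW

end Cfsg.Agent.S5645
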