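import Cfsg.Statements.S5646
import Cfsg.Agent.MaxSub.Orth

set_option autoImplicit false
open Cfsg

namespace Cfsg.Agent.S5646

open Matrix Cfsg.Agent.MaxSub

theorem core {ι : Type} [Fintype ι] [DecidableEq ι] {F : Type*} [Field F] [Finite F]
    {f : (ι → F) → (ι → F) → F} (hf : Geo.IsSymplecticForm f) {W : Submodule F (ι → F)}
    (hW0 : W ≠ ⊥) (hW : Geo.IsNondegenerateOn f W)
    (hdim : 2 * Module.finrank F W < Fintype.card ι) :
    Geo.IsMaximalIn (isom f) (Geo.subspaceStabilizer W ⊓ isom f) := by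
  set W' := orth hf.bilinear W with hW'
  have horth : ∀ b ∈ W', ∀ a ∈ W, f b a = 0 ∧ f a b = 0 := fun b hb a ha =>
    ⟨mem_orth.mp hb a ha, by rw [hf.skew, mem_orth.mp hb a ha, neg_zero]⟩
  have hrank := finrank_orth hf.bilinear hf.nondegenerate W
  -- transvections centred in `W` or `W'`
  have hst : ∀ v, v ∈ W ∨ v ∈ W' → ∀ c, st f v c ∈ Geo.subspaceStabilizer W ⊓ isom f := by
    intro v hv c
    refine ⟨mem_subspaceStabilizer fun x hx => ?_, st_mem_isom hf v c⟩
    rw [st_mulVec hf]
    rcases hv with hv | hv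
    · exact add_mem hx (W.smul_mem _ hv)
    · rw [(horth v hv x hx).2, mul_zero, zero_smul, add_zero]; exact hx
  have hWnd : Geo.IsNondegenerateOn f W' := by
    intro b hb hb0
    obtain ⟨y, hy⟩ := (hf.nondegenerate b hb0).2
    obtain ⟨a, ha, c, hc, rfl⟩ := exists_orth_decomp hf.bilinear hf.nondegenerate hW y
    rw [hf.bilinear.add_right, (horth b hb a ha).1, zero_add] at hy
    exact ⟨⟨c, hc, by rwa [hf.skew, neg_ne_zero]⟩, ⟨c, hc, hy⟩⟩
  refine isMaximalIn_of inf_le_right ?_ fun M hHM hMK g hg hgH => ?_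
  · -- an isometry moving `W`
    obtain ⟨a, ha, ha0⟩ := W.ne_bot_iff.mp hW0
    obtain ⟨x, hx, hx'⟩ := (hW a ha ha0).2
    obtain ⟨b, hb, hb0⟩ : ∃ b ∈ W', b ≠ 0 := W'.ne_bot_iff.mp fun h => by
      have h1 : Module.finrank F W' = 0 := by rw [h, finrank_bot]
      rw [hW'] at h1
      omega
    refine ⟨st f (a + b) 1, st_mem_isom hf _ _, fun hmem => ?_⟩
    have h1 := (hmem.1 x).mp hx
    change (st f (a + b) 1 : Matrix ι ι F) *ᵥ x ∈ W at h1
    rw [st_mulVec hf, one_mul, hf.bilinear.add_right, (horth b hb x hx).2, add_zero] at h1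
    have h2 : f x a ≠ 0 := by rwa [hf.skew, neg_ne_zero]
    have h3 : a + b ∈ W := by
      have := W.smul_mem (f x a)⁻¹ (sub_mem h1 hx)
      rwa [add_sub_cancel_left, smul_smul, inv_mul_cancel₀ h2, one_smul] at this
    have h4 : b ∈ W := by simpa using sub_mem h3 ha
    obtain ⟨y, hy, hy'⟩ := (hW b h4 hb0).2
    exact hy' (horth b hb y hy).1
  · have hgi := hMK hg
    have hWS : ∀ w ∈ W, w ∈ centres f M := fun w hw c => hHM (hst w (Or.inl hw) c)
    have hWS' : ∀ w ∈ W', w ∈ centres f M := fun w hw c => hHM (hst w (Or.inr hw) c)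
    -- a centre outside `W ∪ W'`
    obtain ⟨u, hu, huW, huW'⟩ : ∃ u ∈ centres f M, u ∉ W ∧ u ∉ W' := by
      by_contra hc
      simp only [not_exists, not_and, not_not] at hc
      have himg : W'.map (Matrix.mulVecLin (g : Matrix ι ι F)) ≤ W ∨
          W'.map (Matrix.mulVecLin (g : Matrix ι ι F)) ≤ W' := by
        refine le_or_le_of_forall fun x hx => ?_
        obtain ⟨y, hy, rfl⟩ := Submodule.mem_map.mp hx
        exact or_iff_not_imp_left.mpr (hc _ (conj_mem_centres hf hg hgi (hWS' y hy)))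
      rcases himg with h | h
      · have h1 := Submodule.finrank_mono h
        rw [(Submodule.equivMapOfInjective _ (mulVec_injective g) W').symm.finrank_eq, hW'] at h1
        omega
      · have hgW' : g ∈ Geo.subspaceStabilizer W' :=
          mem_subspaceStabilizer fun x hx => h (Submodule.mem_map_of_mem hx)
        refine hgH ⟨mem_subspaceStabilizer fun x hx => ?_, hgi⟩
        obtain ⟨a, ha, b, hb, hab⟩ :=
          exists_orth_decomp hf.bilinear hf.nondegenerate hW ((g : Matrix ι ι F) *ᵥ x)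
        suffices b = 0 by rw [hab, this, add_zero]; exact ha
        by_contra hb0
        obtain ⟨y, hy, hy'⟩ := (hWnd b hb hb0).2
        apply hy'
        have h1 : f ((g : Matrix ι ι F) *ᵥ x) y = 0 := by
          have hy2 : ((g⁻¹ : GL ι F) : Matrix ι ι F) *ᵥ y ∈ W' := (inv_mem hgW' y).mp hy
          rw [← mulVec_inv_mulVec g y, mem_isom.mp hgi]
          exact (horth _ hy2 x hx).2
        rwa [hab, hf.bilinear.add_left, (horth y hy a ha).2, zero_add] at h1
    obtain ⟨a, ha, b, hb, rfl⟩ := exists_orth_decomp hf.bilinear hf.nondegenerate hW u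
    have ha0 : a ≠ 0 := fun h => huW' (by rw [h, zero_add]; exact hb)
    have hb0 : b ≠ 0 := fun h => huW (by rw [h, add_zero]; exact ha)
    refine isom_le_of_st_mem hf fun v => ?_
    obtain ⟨a', ha', b', hb', rfl⟩ := exists_orth_decomp hf.bilinear hf.nondegenerate hW v
    by_cases ha'0 : a' = 0
    · rw [ha'0, zero_add]; exact hWS' b' hb'
    by_cases hb'0 : b' = 0
    · rw [hb'0, add_zero]; exact hWS a' ha'
    have h1 := change_component hf hWS hW (fun w hw => (horth b hb w hw).1) ha ha0 ha' ha'0 hu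
    rw [add_comm] at h1
    have h2 := change_component hf hWS' hWnd (fun w hw => (horth w hw a' ha').2) hb hb0 hb' hb'0 h1
    rwa [add_comm] at h2


/-- For a finite field F and m ≥ 7, in the symplectic group Sp_2m(F) of the standard alternating form on F^(2m), the stabiliser of any non-zero subspace W on which the form is non-degenerate and with dim W < m is a maximal subgroup. -/
theorem result {F : Type*} [Field F] [Fintype F] (m : ℕ) (hm : 7 ≤ m) (W : Submodule F (Fin m ⊕ Fin m → F)) (hW0 : W ≠ ⊥) (hW : Cfsg.Geo.IsNondegenerateOn (Cfsg.sympForm m F) W) (hdim : Module.finrank F W < m) : Cfsg.Geo.IsMaximalIn (Cfsg.spGL m F) (Cfsg.Geo.subspaceStabilizer W ⊓ Cfsg.spGL m F) := by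
  rw [spGL_eq_isom]
  exact core (isSymplecticForm_sympForm m) hW0 hW (by simp; omega)

end Cfsg.Agent.S5646
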