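import Cfsg.Statements.S5648
import Cfsg.Agent.Classical10.NotMax.Basic
-- import your own Cfsg.Agent.* helpers here

set_option autoImplicit false
open Cfsg
open scoped Matrix MatrixGroups

namespace Cfsg.Agent.S5648

/-- Over the field with 2 elements and for m ≥ 7, let D be a decomposition of F^(2m) into t pairwise orthogonal non-degenerate 2-dimensional subspaces for the standard alternating form (t = m ≥ 2). Then the elements of Sp_2m(2) permuting the members of D form a subgroup that is not maximal: some subgroup lies strictly between it and Sp_2m(2). -/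
theorem result {F : Type*} [Field F] [Fintype F] (m : ℕ) (hm : 7 ≤ m) (hq : Fintype.card F = 2) {t : ℕ} (D : Fin t → Submodule F (Fin m ⊕ Fin m → F)) (hD : Cfsg.Geo.IsNondegenerateMDecomposition (Cfsg.sympForm m F) 2 D) : ∃ K : Subgroup (Matrix.GeneralLinearGroup (Fin m ⊕ Fin m) F), Cfsg.Geo.decompositionStabilizer D ⊓ Cfsg.spGL m F < K ∧ K < Cfsg.spGL m F := by
  classical
  obtain ⟨hdec, hnd, ho⟩ := hD
  have hs := MaxSub.isSymplecticForm_sympForm (F := F) m
  have hfl := hs.bilinear.add_left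
  have hfs := hs.bilinear.smul_left
  set f := sympForm m F with hf
  have hcard := NotMax.finrank_le_sum hdec
  rw [Fintype.card_sum, Fintype.card_fin] at hcard
  have ht : 4 ≤ t := by omega
  have h2 := NotMax.two_eq_zero hq
  have hneg : ∀ c : F, -c = c := fun c => by linear_combination -c * h2
  have hsymm : ∀ x y, f x y = f y x := fun x y => by rw [hs.skew x y, hneg]
  -- a symplectic pair in each member
  have hpair : ∀ i, ∃ a ∈ D i, ∃ b ∈ D i, f a b = 1 := fun i => by
    have hne : D i ≠ ⊥ := fun h => by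
      have := hdec.finrank_eq i
      rw [h, finrank_bot] at this
      omega
    obtain ⟨a, ha, ha0⟩ := Submodule.exists_mem_ne_zero_of_ne_bot hne
    obtain ⟨b, hb, hab⟩ := (hnd i a ha ha0).2
    exact ⟨a, ha, b, hb, (NotMax.zero_or_one hq _).resolve_left hab⟩
  choose a ha b hb hab using hpair
  have hspan : ∀ i x, (∀ y ∈ D i, f x y = 0) ↔ f x (a i) = 0 ∧ f x (b i) = 0 := fun i x => by
    refine ⟨fun h => ⟨h _ (ha i), h _ (hb i)⟩, fun h y hy => ?_⟩
    have h0 : a i ≠ 0 := fun h0 => by
      simpa [h0, MaxSub.form_zero_left hs.bilinear] using hab i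
    obtain ⟨c, d, rfl⟩ := NotMax.mem_pair_of_finrank_two (hdec.finrank_eq i) (ha i) (hb i) h0
      (fun c hc => by simpa [← hc, hs.bilinear.smul_right, hs.alternating] using hab i) hy
    rw [hs.bilinear.add_right, hs.bilinear.smul_right, hs.bilinear.smul_right, h.1, h.2]
    simp
  let term : Fin t → (Fin m ⊕ Fin m → F) → F := fun i x =>
    f x (a i) * f x (a i) + f x (a i) * f x (b i) + f x (b i) * f x (b i)
  let Q : (Fin m ⊕ Fin m → F) → F := fun x => ∑ i, term i x
  have hterm : ∀ i x, term i x = if (∀ y ∈ D i, f x y = 0) then 0 else 1 := fun i x => by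
    simp only [hspan]
    rcases NotMax.zero_or_one hq (f x (a i)) with h | h <;>
      rcases NotMax.zero_or_one hq (f x (b i)) with h' | h' <;>
      simp [term, h, h']
    linear_combination h2
  let K : Subgroup (GL (Fin m ⊕ Fin m) F) :=
    { carrier := {g | g ∈ spGL m F ∧ ∀ x, Q ((g : Matrix _ _ F) *ᵥ x) = Q x}
      one_mem' := ⟨one_mem _, fun x => by simp⟩
      mul_mem' := fun {g g'} hg hg' => ⟨mul_mem hg.1 hg'.1, fun x => by
        rw [Units.val_mul, ← Matrix.mulVec_mulVec, hg.2, hg'.2]⟩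
      inv_mem' := fun {g} hg => ⟨inv_mem hg.1, fun x => by
        conv_rhs => rw [← MaxSub.mulVec_inv_mulVec g x]
        rw [hg.2]⟩ }
  -- values of a pairwise orthogonal sum of first basis vectors
  have haa : ∀ i j, f (a i) (a j) = 0 := fun i j => by
    rcases eq_or_ne i j with rfl | h
    · exact hs.alternating _
    · exact ho i j h _ (ha i) _ (ha j)
  have hAb : ∀ i j, f (a i) (b j) = if j = i then 1 else 0 := fun i j => by
    split_ifs with h
    · subst h; exact hab j
    · exact ho i j (Ne.symm h) _ (ha i) _ (hb j)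
  have hst : ∀ (S : Finset (Fin t)) x, Q ((MaxSub.st f (∑ i ∈ S, a i) 1 : Matrix _ _ F) *ᵥ x) =
      Q x + (1 + (S.card : F)) * f x (∑ i ∈ S, a i) ^ 2 := fun S x => by
    set s := f x (∑ i ∈ S, a i) with hs'
    have hsum : ∑ i ∈ S, f x (a i) = s := by
      rw [hs', ← MaxSub.rmap_apply hs.bilinear, map_sum]
      rfl
    have hva : ∀ i, f (∑ j ∈ S, a j) (a i) = 0 := fun i => by
      rw [← MaxSub.lmap_apply hs.bilinear, map_sum]
      simp [haa]
    have hvb : ∀ i, f (∑ j ∈ S, a j) (b i) = if i ∈ S then 1 else 0 := fun i => by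
      rw [← MaxSub.lmap_apply hs.bilinear, map_sum]
      simp only [MaxSub.lmap_apply, hAb, Finset.sum_ite_eq]
    have hone : ∀ i, term i ((MaxSub.st f (∑ i ∈ S, a i) 1 : Matrix _ _ F) *ᵥ x) =
        term i x + (if i ∈ S then s * f x (a i) + s ^ 2 else 0) := fun i => by
      simp only [term, MaxSub.st_mulVec hs, one_mul, hfl, hfs, hva, hvb, ← hs']
      split_ifs <;> simp only [mul_zero, mul_one, add_zero] <;> linear_combination (s * f x (b i)) * h2
    simp only [Q, hone, Finset.sum_add_distrib, Finset.sum_ite_mem, Finset.univ_inter,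
      ← Finset.mul_sum, hsum, Finset.sum_const, nsmul_eq_mul]
    ring
  let ix : Fin 4 → Fin t := Fin.castLE ht
  have hix : Function.Injective ix := Fin.castLE_injective ht
  refine NotMax.exists_between K ?_ (fun g hg => hg.1)
    (MaxSub.st f (a (ix 0) + a (ix 1) + a (ix 2)) 1) ?_ ?_
    (MaxSub.st f (a (ix 0) + a (ix 1)) 1) (MaxSub.st_mem_isom hs _ _) ?_
  · rintro g ⟨⟨σ, hσ⟩, hg⟩
    refine ⟨hg, fun x => ?_⟩
    have hiff : ∀ i, (∀ y ∈ D (σ i), f ((g : Matrix _ _ F) *ᵥ x) y = 0) ↔ ∀ y ∈ D i, f x y = 0 :=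
      fun i => by
      refine ⟨fun h y hy => ?_, fun h y hy => ?_⟩
      · have := h _ (NotMax.mulVec_mem_of_map_eq (hσ i) hy)
        rwa [show f ((g : Matrix _ _ F) *ᵥ x) ((g : Matrix _ _ F) *ᵥ y) = f x y from hg x y] at this
      · obtain ⟨z, hz, rfl⟩ := NotMax.exists_of_map_eq (hσ i) hy
        rw [show f ((g : Matrix _ _ F) *ᵥ x) ((g : Matrix _ _ F) *ᵥ z) = f x z from hg x z, h z hz]
    show ∑ i, term i _ = ∑ i, term i x
    rw [← Equiv.sum_comp σ]
    exact Finset.sum_congr rfl fun i _ => by rw [hterm, hterm]; simp only [hiff i]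
  · refine ⟨MaxSub.st_mem_isom hs _ _, fun x => ?_⟩
    have h3 : ∑ i ∈ ({ix 0, ix 1, ix 2} : Finset (Fin t)), a i = a (ix 0) + a (ix 1) + a (ix 2) := by
      rw [Finset.sum_insert (by simp [hix.eq_iff]), Finset.sum_pair (hix.ne (by decide)), add_assoc]
    rw [← h3, hst, Finset.card_insert_of_notMem (by simp [hix.eq_iff]),
      Finset.card_pair (hix.ne (by decide))]
    push_cast
    linear_combination (2 * f x (∑ i ∈ ({ix 0, ix 1, ix 2} : Finset (Fin t)), a i) ^ 2) * h2
  · rintro ⟨hd, -⟩
    obtain ⟨j, hj⟩ := NotMax.exists_mem_of_mem_decompositionStabilizer hd (ix 0)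
    have hmem := hj _ (hb (ix 0))
    rw [MaxSub.st_mulVec hs] at hmem
    have hval : f (b (ix 0)) (a (ix 0) + a (ix 1) + a (ix 2)) = 1 := by
      simp only [hs.bilinear.add_right, hsymm (b (ix 0)), hAb, hix.eq_iff]
      simp
    rw [hval, one_mul, one_smul] at hmem
    have hjk : ∀ k : Fin 4, k = 1 ∨ k = 2 → j = ix k := fun k hk => by
      refine NotMax.index_eq_of_mem ho hmem (hb (ix k)) ?_
      have hbb : ∀ i j, i ≠ j → f (b i) (b j) = 0 := fun i j h => ho i j h _ (hb i) _ (hb j)
      rcases hk with rfl | rfl <;> simp [hfl, hAb, hbb, hix.eq_iff]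
    exact absurd (hix ((hjk 1 (Or.inl rfl)).symm.trans (hjk 2 (Or.inr rfl)))) (by decide)
  · rintro ⟨-, hQ⟩
    have h := hQ (b (ix 0))
    rw [← Finset.sum_pair (hix.ne (show (0 : Fin 4) ≠ 1 by decide)) (f := a), hst,
      Finset.card_pair (hix.ne (by decide)),
      Finset.sum_pair (hix.ne (show (0 : Fin 4) ≠ 1 by decide))] at h
    simp [hs.bilinear.add_right, hsymm (b (ix 0)), hAb, hix.eq_iff] at h
    exact one_ne_zero (α := F) (by linear_combination h - h2)

end Cfsg.Agent.S5648
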