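import Cfsg.Statements.S5649
import Cfsg.Agent.MaxSub.Lagrangian

-- import your own Cfsg.Agent.* helpers here

set_option autoImplicit false
open Cfsg

namespace Cfsg.Agent.S5649

/-- For a finite field F of odd order and m ≥ 7, let D be a decomposition of F^(2m) into two complementary subspaces of dimension m on each of which the standard alternating form vanishes identically. Then the elements of Sp_2m(F) preserving or interchanging the two subspaces form a maximal subgroup of Sp_2m(F). -/
theorem result {F : Type*} [Field F] [Fintype F] (m : ℕ) (hm : 7 ≤ m) (hodd : Odd (Fintype.card F)) (D : Fin 2 → Submodule F (Fin m ⊕ Fin m → F)) (hD : Cfsg.Geo.IsMDecomposition m D) (hts : ∀ i, Cfsg.Geo.IsTotallySingularFor (Cfsg.sympForm m F) (D i)) : Cfsg.Geo.IsMaximalIn (Cfsg.spGL m F) (Cfsg.Geo.decompositionStabilizer D ⊓ Cfsg.spGL m F) := by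
  have hs := MaxSub.isSymplecticForm_sympForm (F := F) m
  have hf : LagPair.IsPairForm (RingHom.id F) (1 : F) (sympForm m F) :=
    ⟨hs.bilinear.add_left, hs.bilinear.smul_left, hs.bilinear.add_right, hs.bilinear.smul_right,
      fun _ => rfl, one_mul 1, rfl, fun x y => by rw [RingHom.id_apply, hs.skew y x]; ring,
      fun v hv => by
        by_contra h
        obtain ⟨x, hx⟩ := (hs.nondegenerate v h).1
        exact hx (hv x)⟩
  have hp : LagPair.IsPair (sympForm m F) m (D 0) (D 1) := by
    refine ⟨⟨hD.indep.pairwiseDisjoint (by decide), codisjoint_iff.mpr ?_⟩, hts 0, hts 1,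
      hD.finrank_eq 0, hD.finrank_eq 1⟩
    rw [eq_top_iff, ← hD.iSup_eq_top, iSup_le_iff]
    exact Fin.forall_fin_two.mpr ⟨le_sup_left, le_sup_right⟩
  have h2 : (2 : F) ≠ 0 := Ring.two_ne_zero fun h => by
    have := FiniteField.even_card_of_char_two h
    have := Nat.odd_iff.mp hodd
    omega
  rw [MaxSub.spGL_eq_isom]
  exact LagPair.isMaximalIn hf (by omega) hp one_ne_zero (by simp)
    (fun a _ => ⟨a / 2, by rw [RingHom.id_apply, one_mul]; field_simp; ring⟩) le_rfl
    (fun _ _ => LagPair.E_mem_isom hf) (fun _ _ h1 h2 => LagPair.T_mem_isom hf h1 h2)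
    (fun M hM => MaxSub.isom_le_of_st_mem hs fun v c => hM v c (hs.alternating v) (by simp))

end Cfsg.Agent.S5649
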