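import Cfsg.Statements.S5650
import Cfsg.Agent.FGS77.SubSp.Core
import Cfsg.Agent.MaxSub.SubfieldTwo

set_option autoImplicit false
open Cfsg
open scoped commutatorElement

namespace Cfsg.Agent.S5650
open Cfsg.Agent Cfsg.Agent.FGS77.SubSp Cfsg.Agent.MaxSub Matrix

variable {F : Type*} [Field F] [Fintype F]

theorem subfield_dichotomy (F₀ : Subfield F) (r : ℕ) (hr : r.Prime)
    (hfr : Module.finrank F₀ F = r) (T : Subfield F) (hT : F₀ ≤ T) : T = F₀ ∨ T = ⊤ := by
  let K : IntermediateField F₀ F := T.toIntermediateField fun x => hT x.2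
  have hKm : ∀ x, x ∈ K ↔ x ∈ T := fun _ => Iff.rfl
  have hmul := Module.finrank_mul_finrank F₀ K F
  rw [hfr] at hmul
  rcases hr.eq_one_or_self_of_dvd _ (Dvd.intro _ hmul) with h | h
  · left
    rw [IntermediateField.finrank_eq_one_iff] at h
    refine le_antisymm (fun x hx => ?_) hT
    have : x ∈ (⊥ : IntermediateField F₀ F) := h ▸ (hKm x).mpr hx
    obtain ⟨y, rfl⟩ := IntermediateField.mem_bot.mp this
    exact y.2
  · right
    have hK : K.toSubalgebra.toSubmodule = ⊤ :=
      Submodule.eq_top_of_finrank_eq (by rw [hfr]; exact h)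
    refine eq_top_iff.mpr fun x _ => (hKm x).mp ?_
    show x ∈ K.toSubalgebra.toSubmodule
    rw [hK]; trivial

theorem quadratic_mem (F₀ : Subfield F) (r : ℕ) (hr : Odd r) (hfr : Module.finrank F₀ F = r)
    (t u w : F) (hu : u ∈ F₀) (hw : w ∈ F₀) (he : t ^ 2 + u * t + w = 0) : t ∈ F₀ := by
  let P2 : Polynomial F₀ := Polynomial.X ^ 2 + Polynomial.C (⟨u, hu⟩ : F₀) * Polynomial.X +
    Polynomial.C (⟨w, hw⟩ : F₀)
  have hint : IsIntegral F₀ t := IsIntegral.of_finite _ _
  have haev : Polynomial.aeval t P2 = 0 := by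
    simpa [P2, Algebra.algebraMap_ofSubsemiring_apply] using he
  have hdeg : P2.natDegree = 2 := by simp only [P2]; compute_degree!
  have hne : P2 ≠ 0 := fun h => by rw [h] at hdeg; simp at hdeg
  have h2 : (minpoly F₀ t).natDegree ≤ 2 :=
    hdeg ▸ Polynomial.natDegree_le_of_dvd (minpoly.dvd F₀ t haev) hne
  have h1 := minpoly.natDegree_pos hint
  have h3 : (minpoly F₀ t).natDegree ∣ r := hfr ▸ minpoly.degree_dvd hint
  have : (minpoly F₀ t).natDegree = 1 := by
    rcases Nat.lt_or_ge 1 (minpoly F₀ t).natDegree with h | h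
    · obtain ⟨k, rfl⟩ := hr
      rw [show (minpoly F₀ t).natDegree = 2 by omega] at h3
      omega
    · omega
  obtain ⟨y, rfl⟩ := minpoly.natDegree_eq_one_iff.mp this
  exact y.2


/-- For a finite field F, a subfield F₀ with |F| = |F₀| ^ r for a prime r, and m ≥ 7, let P be an invertible matrix and ζ a non-zero scalar such that ζ times the standard alternating form takes values in F₀ on the F₀-span of the columns of P. Then the elements of Sp_2m(F) lying in the subfield group of P (the conjugate by P of the product of GL_2m(F₀) with the scalars) form a maximal subgroup of Sp_2m(F). -/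
theorem result {F : Type*} [Field F] [Fintype F] (m : ℕ) (hm : 7 ≤ m) (F₀ : Subfield F) (r : ℕ) (hr : r.Prime) (hcard : Fintype.card F = Nat.card F₀ ^ r) (P : Matrix.GeneralLinearGroup (Fin m ⊕ Fin m) F) (ζ : F) (hζ : ζ ≠ 0) (hP : Cfsg.Geo.IsFormRationalStructure (Cfsg.sympForm m F) F₀ ζ P) : Cfsg.Geo.IsMaximalIn (Cfsg.spGL m F) (Cfsg.Geo.subfieldSubgroup F₀ P ⊓ Cfsg.spGL m F) := by
  classical
  set f' : (Fin m ⊕ Fin m → F) → (Fin m ⊕ Fin m → F) → F :=
    fun u v => ζ * Cfsg.sympForm m F u v with hf'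
  have hs := isSymplecticForm_sympForm (F := F) m
  have hsymp : Geo.IsSymplecticForm f' := by
    refine ⟨⟨fun x y v => ?_, fun c x v => ?_, fun v x y => ?_, fun c v x => ?_⟩, fun v w => ?_,
      fun v => ?_, fun v hv => ?_⟩
    · simp only [hf', hs.bilinear.add_left, mul_add]
    · simp only [hf', hs.bilinear.smul_left]; ring
    · simp only [hf', hs.bilinear.add_right, mul_add]
    · simp only [hf', hs.bilinear.smul_right]; ring
    · simp only [hf']; rw [hs.skew v w]; ring
    · simp only [hf', hs.alternating, mul_zero]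
    · obtain ⟨⟨x, hx⟩, ⟨y, hy⟩⟩ := hs.nondegenerate v hv
      exact ⟨⟨x, mul_ne_zero hζ hx⟩, ⟨y, mul_ne_zero hζ hy⟩⟩
  have hisom : isom f' = Cfsg.spGL m F := by
    rw [spGL_eq_isom]
    ext g
    rw [mem_isom, mem_isom]
    simp only [hf', mul_right_inj' hζ]
  have hR : RatForm f' F₀ P := ⟨hsymp, fun u w => hP _ _ (fun i => (u i).2) (fun i => (w i).2)⟩
  have hjrat : ∀ w, SubfieldTwo.Rat F₀ P (jmap F₀ P w) := fun w =>
    SubfieldTwo.rat_iff.mpr ⟨_, fun i => (w i).2, rfl⟩
  have hratj : ∀ x, SubfieldTwo.Rat F₀ P x → ∃ w, jmap F₀ P w = x := fun x hx => by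
    obtain ⟨u, hu, rfl⟩ := SubfieldTwo.rat_iff.mp hx
    exact ⟨fun i => ⟨u i, hu i⟩, rfl⟩
  have hfr : Module.finrank F₀ F = r := by
    have h := Module.natCard_eq_pow_finrank (K := F₀) (V := F)
    rw [Nat.card_eq_fintype_card (α := F), hcard] at h
    exact Nat.pow_right_injective (Finite.one_lt_card (α := F₀)) h.symm
  have h4 : 4 ≤ Fintype.card F := by
    rw [hcard]
    calc 4 = 2 ^ 2 := rfl
      _ ≤ Nat.card F₀ ^ 2 := Nat.pow_le_pow_left (Finite.one_lt_card (α := F₀)) 2
      _ ≤ _ := Nat.pow_le_pow_right (Nat.card_pos) hr.two_le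
  rw [← hisom]
  have hHrat : ∀ (u : Fin m ⊕ Fin m → F₀) (s : F), s ∈ F₀ →
      st f' (jmap F₀ P u) s ∈ Geo.subfieldSubgroup F₀ P ⊓ isom f' := fun u s hsF => by
    refine ⟨SubfieldTwo.mem_of_rat one_ne_zero fun x hx => ?_, st_mem_isom hsymp _ _⟩
    obtain ⟨w, rfl⟩ := hratj x hx
    rw [one_smul, st_mulVec hsymp]
    exact SubfieldTwo.rat_add (hjrat w)
      (SubfieldTwo.rat_smul (mul_mem hsF (hR.rat w u)) (hjrat u))
  have hdim : Fintype.card (Fin m ⊕ Fin m) = m + m := by simp
  refine MaxSub.isMaximalIn_of inf_le_right ?_ fun M hHM hMG g hg hgH => ?_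
  · obtain ⟨c, hc⟩ : ∃ c : F, c ∉ F₀ := by
      by_contra hc
      simp only [not_exists, not_not] at hc
      have : Nat.card F₀ = Fintype.card F := by
        rw [← Nat.card_eq_fintype_card]
        exact Nat.card_congr (Equiv.subtypeUnivEquiv hc)
      have h2 : Nat.card F₀ ^ 1 = Nat.card F₀ ^ r := by rw [pow_one, ← hcard, this]
      exact hr.one_lt.ne (Nat.pow_right_injective (Finite.one_lt_card (α := F₀)) h2)
    set p : Fin m ⊕ Fin m → F₀ := Pi.single (Sum.inl ⟨0, by omega⟩) 1 with hp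
    have hp0 : p ≠ 0 := by simp [hp]
    obtain ⟨h, hph⟩ := exists_dual_one hR hp0
    refine ⟨st f' (jmap F₀ P p) c, st_mem_isom hsymp _ _, fun hmem => hc ?_⟩
    obtain ⟨a, ha, hag⟩ := SubfieldTwo.rat_of_mem hmem.1
    obtain ⟨w₁, hw₁⟩ := hratj _ (hag _ (hjrat p))
    obtain ⟨w₂, hw₂⟩ := hratj _ (hag _ (hjrat h))
    rw [st_mulVec hsymp, hsymp.alternating, mul_zero, zero_smul, add_zero] at hw₁
    rw [st_mulVec hsymp, hsymp.skew (jmap F₀ P h), hph] at hw₂
    have ha1 : a ∈ F₀ := by
      have := congrArg (fun x => f' x (jmap F₀ P h)) hw₁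
      simp only [hsymp.bilinear.smul_left, hph, mul_one] at this
      rw [← this]; exact hR.rat _ _
    have hac : a * c ∈ F₀ := by
      have := congrArg (fun x => f' x (jmap F₀ P h)) hw₂
      simp only [hsymp.bilinear.smul_left, hsymp.bilinear.add_left, hsymp.alternating, hph] at this
      have h3 : a * c = -f' (jmap F₀ P w₂) (jmap F₀ P h) := by rw [this]; ring
      rw [h3]; exact neg_mem (hR.rat _ _)
    have := div_mem hac ha1
    rwa [mul_div_cancel_left₀ _ ha] at this
  · have hO : Over f' F₀ P M := ⟨hR, hMG, fun u s hsF => hHM (hHrat u s hsF), by omega⟩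
    obtain ⟨p, hp⟩ : ∃ p, TwoValues f' F₀ P ((g : Matrix _ _ F) *ᵥ jmap F₀ P p) := by
      by_contra hc
      simp only [not_exists] at hc
      choose lam q hq using fun p => exists_smul_of_not_twoValues hR (hc p)
      have hmul : ∀ p h, f' (jmap F₀ P p) (jmap F₀ P h) ≠ 0 →
          lam p * lam h ∈ F₀ ∧ lam p * lam h ≠ 0 := fun p h hne => by
        have e : lam p * lam h * f' (jmap F₀ P (q p)) (jmap F₀ P (q h)) =
            f' (jmap F₀ P p) (jmap F₀ P h) := by
          rw [← mem_isom.mp (hMG hg) (jmap F₀ P p) (jmap F₀ P h), hq, hq,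
            hsymp.bilinear.smul_left, hsymp.bilinear.smul_right]
          ring
        rw [← e] at hne
        refine ⟨?_, left_ne_zero_of_mul hne⟩
        have := div_mem (e ▸ hR.rat p h) (hR.rat (q p) (q h))
        rwa [mul_div_cancel_right₀ _ (right_ne_zero_of_mul hne)] at this
      set p0 : Fin m ⊕ Fin m → F₀ := Pi.single (Sum.inl ⟨0, by omega⟩) 1 with hp0'
      have hp0 : p0 ≠ 0 := by simp [hp0']
      have hl0 : lam p0 ≠ 0 := fun h => by
        have := hq p0
        rw [h, zero_smul] at this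
        exact mulVec_ne_zero g (fun e => hp0 (jmap_injective P (e.trans (map_zero _).symm))) this
      refine hgH ⟨SubfieldTwo.mem_of_rat (inv_ne_zero hl0) fun x hx => ?_, hMG hg⟩
      obtain ⟨p, rfl⟩ := hratj x hx
      by_cases hp : p = 0
      · subst hp
        rw [map_zero, mulVec_zero, smul_zero]
        exact SubfieldTwo.rat_zero
      obtain ⟨h1, hh1⟩ := exists_dual_one hR hp
      obtain ⟨h2, hh2⟩ := exists_dual_one hR hp0
      obtain ⟨h, -, ha, hb⟩ := exists_mem_notMem_notMem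
        (P := (⊤ : Submodule F₀ (Fin m ⊕ Fin m → F₀)))
        (Q := LinearMap.ker (bmap hR p)) (R := LinearMap.ker (bmap hR p0))
        ⟨h1, trivial, fun e => by
          rw [LinearMap.mem_ker, bmap_eq_zero, hh1] at e; exact one_ne_zero e⟩
        ⟨h2, trivial, fun e => by
          rw [LinearMap.mem_ker, bmap_eq_zero, hh2] at e; exact one_ne_zero e⟩
      rw [LinearMap.mem_ker, bmap_eq_zero] at ha hb
      obtain ⟨m1, -⟩ := hmul p h ha
      obtain ⟨m2, m2'⟩ := hmul p0 h hb
      have hdiv := div_mem m1 m2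
      rw [mul_div_mul_right _ _ (right_ne_zero_of_mul m2')] at hdiv
      rw [hq, smul_smul, inv_mul_eq_div]
      exact SubfieldTwo.rat_smul hdiv (hjrat _)
    refine FGS77.SubSp.isom_le hO h4 (subfield_dichotomy F₀ r hr hfr) ?_
      (ratCentre_conj hO hg (fun s hsF => hO.rat p s hsF)) hp
    rintro ⟨v, hv⟩
    refine quadratic_mem F₀ r (hr.odd_of_ne_two ?_) hfr
    have hle : Module.finrank F₀ (Fin m ⊕ Fin m → F₀) ≤ Module.finrank F₀ F :=
      LinearMap.finrank_le_finrank_of_injective (f := phi hR v) (by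
        rw [← LinearMap.ker_eq_bot, Submodule.eq_bot_iff]
        intro u hu
        by_contra h
        exact hv u h hu)
    rw [Module.finrank_pi, hfr, hdim] at hle
    omega

end Cfsg.Agent.S5650
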