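import Cfsg.Statements.S5656
import Cfsg.Agent.Classical10.NotMax.Basic
import Cfsg.Agent.MaxSub.Herm
-- import your own Cfsg.Agent.* helpers here

set_option autoImplicit false
open Cfsg
open scoped Matrix MatrixGroups

namespace Cfsg.Agent.S5656

/-- Let F be the field with 4 elements (q = 2) and n ≥ 13. Let D be a decomposition of F^n into t pairwise orthogonal 2-dimensional subspaces, each non-degenerate for the standard unitary form Σ u_i v_i². Then the elements of SU_n(2) permuting the members of D form a subgroup that is not maximal: some subgroup lies strictly between it and SU_n(2). -/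
theorem result {F : Type*} [Field F] [Fintype F] (n : ℕ) (hF : Fintype.card F = 4) (hn : 13 ≤ n) {t : ℕ} (D : Fin t → Submodule F (Fin n → F)) (hD : Cfsg.Geo.IsNondegenerateMDecomposition (Cfsg.hermForm n F 2) 2 D) : ∃ K : Subgroup (Matrix.GeneralLinearGroup (Fin n) F), Cfsg.Geo.decompositionStabilizer D ⊓ (Cfsg.GU n F 2 ⊓ Cfsg.Geo.specialLinear (Fin n) F) < K ∧ K < (Cfsg.GU n F 2 ⊓ Cfsg.Geo.specialLinear (Fin n) F) := by
  classical
  obtain ⟨hdec, hnd, ho⟩ := hD
  have hcard := NotMax.finrank_le_sum hdec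
  rw [Fintype.card_fin] at hcard
  have ht : 4 ≤ t := by omega
  have h2 : (2 : F) = 0 := by
    have := FiniteField.cast_card_eq_zero (K := F)
    rw [hF, show ((4 : ℕ) : F) = 2 * 2 by norm_num] at this
    exact mul_self_eq_zero.mp this
  have hcharP : CharP F 2 := CharTwo.of_one_ne_zero_of_two_eq_zero one_ne_zero h2
  have hpow : ∀ x : F, (x ^ 2) ^ 2 = x := fun x => by
    rw [← pow_mul]; simpa [hF] using FiniteField.pow_card x
  let σ : F ≃+* F := RingEquiv.ofBijective (frobenius F 2)
    (Finite.injective_iff_bijective.mp (frobenius_inj F 2))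
  have hσ : ∀ x, σ x = x ^ 2 := fun x => frobenius_def 2 x
  have hne : σ ≠ RingEquiv.refl F := fun h => by
    obtain ⟨x, hx⟩ : ∃ x : F, x ∉ ({0, 1} : Finset F) := by
      by_contra h
      simp only [not_exists, not_not] at h
      have := Finset.card_le_card (fun x _ => h x : (Finset.univ : Finset F) ⊆ {0, 1})
      rw [Finset.card_univ, hF, Finset.card_pair zero_ne_one] at this
      omega
    apply hx
    have h1 : x ^ 2 = x := by rw [← hσ, h, RingEquiv.refl_apply]
    rcases mul_eq_zero.mp (show x * (x - 1) = 0 by linear_combination h1) with h | h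
    · simp [h]
    · simp [sub_eq_zero.mp h]
  set f := hermForm n F 2 with hf
  have hf' : Geo.IsUnitaryForm σ f :=
    { ne_refl := hne
      involutive := fun a => by rw [hσ, hσ, hpow]
      add_left := fun x y v => by simp [hf, hermForm, add_mul, Finset.sum_add_distrib]
      smul_left := fun c x v => by simp [hf, hermForm, Finset.mul_sum, mul_assoc]
      herm := fun v w => by
        rw [hσ, hf, hermForm, hermForm, CharTwo.sum_sq]
        exact Finset.sum_congr rfl fun i _ => by rw [mul_pow, hpow, mul_comm]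
      nondegenerate := fun v hv => by
        obtain ⟨i, hi⟩ := Function.ne_iff.mp hv
        constructor <;> refine ⟨Pi.single i 1, ?_⟩ <;> simpa [hf, hermForm, Pi.single_apply] using hi }
  -- self-values are zero or one
  have hself : ∀ x, f x x ≠ 0 → f x x = 1 := fun x hx => by
    have h := hf'.herm x x
    rw [hσ] at h
    rcases mul_eq_zero.mp (show f x x * (f x x - 1) = 0 by linear_combination -h) with h | h
    · exact absurd h hx
    · exact sub_eq_zero.mp h
  -- an orthonormal pair in each member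
  have hbasis : ∀ i, ∃ a ∈ D i, ∃ b ∈ D i, f a a = 1 ∧ f b b = 1 ∧ f a b = 0 := fun i => by
    have hne' : D i ≠ ⊥ := fun h => by
      have := hdec.finrank_eq i
      rw [h, finrank_bot] at this
      omega
    obtain ⟨a, haD, ha⟩ : ∃ a ∈ D i, f a a ≠ 0 := by
      by_contra hiso
      simp only [not_exists, not_and, not_not] at hiso
      obtain ⟨x, hx, hx0⟩ := Submodule.exists_mem_ne_zero_of_ne_bot hne'
      obtain ⟨y, hy, hxy⟩ := (hnd i x hx hx0).2
      obtain ⟨ω, hω⟩ : ∃ ω : F, σ ω ≠ ω := by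
        by_contra h
        simp only [not_exists, not_not] at h
        exact hne (RingEquiv.ext h)
      have hc : ∀ c, σ c * f x y + c * f y x = 0 := fun c => by
        have := hiso _ (add_mem hx (Submodule.smul_mem _ c hy))
        simpa [hf'.add_left, hf'.smul_left, MaxSub.hadd_right hf', MaxSub.hsmul_right hf',
          hiso x hx, hiso y hy] using this
      have h1 := hc 1
      rw [map_one, one_mul, one_mul] at h1
      rcases mul_eq_zero.mp
        (show (σ ω - ω) * f x y = 0 by linear_combination hc ω - ω * h1) with h | h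
      · exact hω (sub_eq_zero.mp h)
      · exact hxy h
    have ha0 : a ≠ 0 := fun h => ha (by rw [h, MaxSub.hzero_left hf'])
    obtain ⟨x, hx, hxa⟩ : ∃ x ∈ D i, x ∉ Submodule.span F {a} := by
      by_contra h
      simp only [not_exists, not_and, not_not] at h
      have := Submodule.finrank_mono (show D i ≤ Submodule.span F {a} from h)
      rw [hdec.finrank_eq, finrank_span_singleton ha0] at this
      omega
    have haa := hself a ha
    let b := x - f x a • a
    have hbD : b ∈ D i := sub_mem hx (Submodule.smul_mem _ _ haD)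
    have hba : f b a = 0 := by simp [b, MaxSub.hsub_left hf', hf'.smul_left, haa]
    have hab := MaxSub.hswap_zero hf' hba
    have hb0 : b ≠ 0 := fun h => hxa (Submodule.mem_span_singleton.mpr
      ⟨f x a, (sub_eq_zero.mp h).symm⟩)
    refine ⟨a, haD, b, hbD, haa, hself b fun hbb => ?_, hab⟩
    obtain ⟨y, hy, hyb⟩ := (hnd i b hbD hb0).1
    obtain ⟨c, d, rfl⟩ := NotMax.mem_pair_of_finrank_two (hdec.finrank_eq i) haD hbD ha0
      (fun c hc => hb0 (by
        have := hba
        rw [← hc, hf'.smul_left, haa, mul_one] at this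
        rw [← hc, this, zero_smul])) hy
    exact hyb (by simp [hf'.add_left, hf'.smul_left, hab, hbb])
  choose a ha b hb haa hbb hab using hbasis
  have hcases : ∀ i x, x ∈ D i → f x x ≠ 0 → (∃ c, x = c • a i) ∨ (∃ c, x = c • b i) := fun i x hx h => by
    obtain ⟨c, d, rfl⟩ := NotMax.mem_pair_of_finrank_two (hdec.finrank_eq i) (ha i) (hb i)
      (fun h0 => by simpa [h0, MaxSub.hzero_left hf'] using haa i)
      (fun c hc => by
        have h0 := hab i
        rw [← hc, MaxSub.hsmul_right hf', haa, mul_one, map_eq_zero] at h0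
        have h1 := hbb i
        rw [← hc, h0, zero_smul, MaxSub.hzero_left hf'] at h1
        exact zero_ne_one h1) hx
    by_cases hc : c = 0
    · exact Or.inr ⟨d, by simp [hc]⟩
    by_cases hd : d = 0
    · exact Or.inl ⟨c, by simp [hd]⟩
    exfalso
    apply h
    have h3 : ∀ e : F, e ≠ 0 → e * e ^ 2 = 1 := fun e he => by
      have := FiniteField.pow_card_sub_one_eq_one e he
      rw [hF] at this
      rw [← this]; ring
    simp [hf'.add_left, hf'.smul_left, MaxSub.hadd_right hf', MaxSub.hsmul_right hf', haa, hbb, hab,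
      MaxSub.hswap_zero hf' (hab i), hσ, h3 c hc, h3 d hd]
    linear_combination h2
  let S : Set (Fin n → F) := {v | ∃ i, v ∈ D i ∧ f v v ≠ 0}
  let ix : Fin 4 → Fin t := Fin.castLE ht
  have hix : Function.Injective ix := Fin.castLE_injective ht
  have haij : ∀ i j, i ≠ j → f (a i) (a j) = 0 := fun i j h => ho i j h _ (ha i) _ (ha j)
  have hone : (1 : F) + σ 1 = 0 := by rw [map_one, ← h2]; norm_num
  have hmem : ∀ v, f v v = 0 →
      MaxSub.ut f v 1 ∈ GU n F 2 ⊓ Geo.specialLinear (Fin n) F := fun v hv =>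
    ⟨MaxSub.ut_mem_isom hf' hv hone, MaxSub.det_tv _ _⟩
  set w := a (ix 0) + a (ix 1) with hw
  set u := a (ix 0) + a (ix 1) + a (ix 2) + a (ix 3) with hu
  have hw0 : f w w = 0 := by
    simp [hw, hf'.add_left, MaxSub.hadd_right hf', haa, haij, hix.eq_iff]
    linear_combination h2
  have hu0 : f u u = 0 := by
    simp [hu, hf'.add_left, MaxSub.hadd_right hf', haa, haij, hix.eq_iff]
    linear_combination 2 * h2
  have hfix : ∀ (c : F) x, f x w = 0 → (MaxSub.ut f w 1 : Matrix _ _ F) *ᵥ (c • x) = c • x :=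
    fun c x h => by rw [MaxSub.ut_mulVec hf' hw0, hf'.smul_left, h]; simp
  have hswap : ∀ (c : F) (k k' : Fin 4), k = 0 ∧ k' = 1 ∨ k = 1 ∧ k' = 0 →
      (MaxSub.ut f w 1 : Matrix _ _ F) *ᵥ (c • a (ix k)) = c • a (ix k') := fun c k k' hk => by
    have h1 : f (a (ix k)) w = 1 := by
      rcases hk with ⟨rfl, -⟩ | ⟨rfl, -⟩ <;> simp [hw, MaxSub.hadd_right hf', haa, haij, hix.eq_iff]
    rw [MaxSub.ut_mulVec hf' hw0, hf'.smul_left, h1, one_mul, mul_one, ← smul_add]
    congr 1
    have hxx : ∀ x : Fin n → F, x + x = 0 := fun x => funext fun j => by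
      simp only [Pi.add_apply, Pi.zero_apply]; linear_combination (x j) * h2
    rcases hk with ⟨rfl, rfl⟩ | ⟨rfl, rfl⟩
    · rw [hw, ← add_assoc, hxx, zero_add]
    · rw [hw, add_left_comm, hxx, add_zero]
  refine NotMax.exists_between (stabilizing (glToMat (Fin n) F) S ⊓
      (GU n F 2 ⊓ Geo.specialLinear (Fin n) F)) ?_ inf_le_right
    (MaxSub.ut f w 1) ⟨?_, hmem w hw0⟩ ?_ (MaxSub.ut f u 1) (hmem u hu0) ?_
  · rintro g ⟨⟨τ, hτ⟩, hg⟩
    refine ⟨fun v => ⟨?_, ?_⟩, hg⟩
    · rintro ⟨i, hv, hvv⟩
      exact ⟨τ i, NotMax.mulVec_mem_of_map_eq (hτ i) hv, fun h => hvv ((hg.1 v v).symm.trans h)⟩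
    · rintro ⟨j, hv, hvv⟩
      obtain ⟨z, hz, he⟩ := NotMax.exists_of_map_eq
        ((τ.apply_symm_apply j) ▸ hτ (τ.symm j)) hv
      have hz' : z = v := MaxSub.mulVec_injective g he
      exact ⟨τ.symm j, hz' ▸ hz, fun h => hvv ((hg.1 v v).trans h)⟩
  · intro v
    have hto : ∀ v ∈ S, (MaxSub.ut f w 1 : Matrix _ _ F) *ᵥ v ∈ S := by
      rintro v ⟨i, hv, hvv⟩
      have hvv' : f ((MaxSub.ut f w 1 : Matrix _ _ F) *ᵥ v) ((MaxSub.ut f w 1 : Matrix _ _ F) *ᵥ v)
          ≠ 0 := fun h => hvv (((hmem w hw0).1 v v).symm.trans h)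
      rcases hcases i v hv hvv with ⟨c, rfl⟩ | ⟨c, rfl⟩
      · by_cases h0 : i = ix 0
        · subst h0
          rw [hswap c 0 1 (by decide)] at hvv' ⊢
          exact ⟨ix 1, Submodule.smul_mem _ _ (ha _), hvv'⟩
        · by_cases h1 : i = ix 1
          · subst h1
            rw [hswap c 1 0 (by decide)] at hvv' ⊢
            exact ⟨ix 0, Submodule.smul_mem _ _ (ha _), hvv'⟩
          · rw [hfix c _ (by simp [hw, MaxSub.hadd_right hf', haij _ _ h0, haij _ _ h1])]
            exact ⟨i, hv, hvv⟩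
      · have hbw : ∀ j, f (b i) (a j) = 0 := fun j => by
          rcases eq_or_ne i j with rfl | h
          · exact MaxSub.hswap_zero hf' (hab _)
          · exact ho i j h _ (hb i) _ (ha j)
        rw [hfix c _ (by simp [hw, MaxSub.hadd_right hf', hbw])]
        exact ⟨i, hv, hvv⟩
    have hinv : (MaxSub.ut f w 1 : Matrix (Fin n) (Fin n) F) *ᵥ ((MaxSub.ut f w 1 : Matrix (Fin n) (Fin n) F) *ᵥ v) = v := by
      simp only [MaxSub.ut_mulVec hf' hw0, hf'.add_left, hf'.smul_left, hw0, one_mul, mul_zero,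
        add_zero]
      ext j
      simp only [Pi.add_apply, Pi.smul_apply, smul_eq_mul]
      linear_combination (f v w * w j) * h2
    exact ⟨hto v, fun h => hinv ▸ hto _ h⟩
  · rintro ⟨hd, -⟩
    obtain ⟨j, hj⟩ := NotMax.exists_mem_of_mem_decompositionStabilizer hd (ix 0)
    have h1 := hj _ (ha (ix 0))
    have h2 := hj _ (hb (ix 0))
    rw [← one_smul F (a (ix 0)), hswap 1 0 1 (by decide), one_smul] at h1
    have hbw : f (b (ix 0)) w = 0 := by
      simp [hw, MaxSub.hadd_right hf', MaxSub.hswap_zero hf' (hab (ix 0)),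
        ho (ix 0) (ix 1) (hix.ne (by decide)) _ (hb _) _ (ha _)]
    rw [← one_smul F (b (ix 0)), hfix 1 _ hbw, one_smul] at h2
    have := NotMax.index_eq_of_mem ho h1 (ha (ix 1)) (by simp [haa])
    have h' := NotMax.index_eq_of_mem ho h2 (hb (ix 0)) (by simp [hbb])
    exact absurd (hix (this.symm.trans h')) (by decide)
  · rintro ⟨hS, -⟩
    obtain ⟨j, hj, -⟩ := (hS (a (ix 0))).1 ⟨ix 0, ha _, by simp [haa]⟩
    have hval : f (a (ix 0)) u = 1 := by simp [hu, MaxSub.hadd_right hf', haa, haij, hix.eq_iff]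
    change (MaxSub.ut f u 1 : Matrix _ _ F) *ᵥ a (ix 0) ∈ D j at hj
    rw [MaxSub.ut_mulVec hf' hu0, hval, one_mul, one_smul] at hj
    have hjk : ∀ k : Fin 4, k ≠ 0 → j = ix k := fun k hk => by
      refine NotMax.index_eq_of_mem ho hj (ha (ix k)) ?_
      fin_cases k <;> first
        | exact absurd rfl hk
        | simp [hu, hf'.add_left, haa, haij, hix.eq_iff]
    exact absurd (hix ((hjk 1 (by decide)).symm.trans (hjk 2 (by decide)))) (by decide)

end Cfsg.Agent.S5656
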