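import Cfsg.Statements.S5657
import Cfsg.Agent.MaxSub.LagrangianHerm

-- import your own Cfsg.Agent.* helpers here

set_option autoImplicit false
open Cfsg

namespace Cfsg.Agent.S5657

/-- Let F be the field with q² elements and n = 2k ≥ 13. Let D be a decomposition of F^n into two complementary subspaces of dimension k on each of which the standard unitary form vanishes identically. Then the elements of SU_n(q) preserving or interchanging the two subspaces form a maximal subgroup of SU_n(q). -/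
theorem result {F : Type*} [Field F] [Fintype F] (n q : ℕ) (hF : Fintype.card F = q ^ 2) (hn : 13 ≤ n) (k : ℕ) (hk : 2 * k = n) (D : Fin 2 → Submodule F (Fin n → F)) (hD : Cfsg.Geo.IsMDecomposition k D) (hts : ∀ i, Cfsg.Geo.IsTotallySingularFor (Cfsg.hermForm n F q) (D i)) : Cfsg.Geo.IsMaximalIn (Cfsg.GU n F q ⊓ Cfsg.Geo.specialLinear (Fin n) F) (Cfsg.Geo.decompositionStabilizer D ⊓ (Cfsg.GU n F q ⊓ Cfsg.Geo.specialLinear (Fin n) F)) := by
  have hf := LagPair.isPairForm_herm (n := n) hF
  have hp : LagPair.IsPair (hermForm n F q) k (D 0) (D 1) := by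
    refine ⟨⟨hD.indep.pairwiseDisjoint (by decide), codisjoint_iff.mpr ?_⟩, hts 0, hts 1,
      hD.finrank_eq 0, hD.finrank_eq 1⟩
    rw [eq_top_iff, ← hD.iSup_eq_top, iSup_le_iff]
    exact Fin.forall_fin_two.mpr ⟨le_sup_left, le_sup_right⟩
  obtain ⟨θ, hθ, hθc⟩ := LagPair.exists_skew_ne_zero hF
  exact LagPair.isMaximalIn hf (by omega) hp hθ hθc (fun a => LagPair.exists_skew_eq hF)
    (fun g hg => hg.1)
    (fun v u h1 h2 h3 => ⟨LagPair.E_mem_isom hf h1 h2 h3, LagPair.det_E hf v u⟩)
    (fun v a h1 h2 => ⟨LagPair.T_mem_isom hf h1 h2, MaxSub.det_tv _ _⟩)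
    (fun M => LagPair.le_of_T_mem hF (by omega))

end Cfsg.Agent.S5657
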