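import Cfsg.Statements.S5666
import Cfsg.Agent.TensorInv.Engine
import Cfsg.Agent.TensorInv.Inter
import Cfsg.Agent.TensorInv.Four
import Cfsg.Agent.TensorInv.Finish
import Cfsg.Agent.Classical10.NotMax.Tensor
import Cfsg.Agent.ClMax99.AltSim

set_option autoImplicit false
open Cfsg

namespace Cfsg.Agent.S5666

section
open Matrix Cfsg.Agent.MaxSub Cfsg.Agent.TensorMax Cfsg.Agent.TensorInv Module
open Cfsg.Agent.ClMax99.TensorRank
open scoped Kronecker
variable {F : Type*} [Field F] {a b : ℕ}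

/-- The change of coordinates of a tensor decomposition. -/
def phi {ι : Type} [Fintype ι] [DecidableEq ι] (e : ι ≃ Fin a × Fin b) (P : GL ι F) :
    GL (Fin a × Fin b) F ≃* GL ι F :=
  (Cfsg.Geo.glReindex e.symm).trans (MulAut.conj P)

theorem phi_mulVec {ι : Type} [Fintype ι] [DecidableEq ι] (e : ι ≃ Fin a × Fin b) (P : GL ι F)
    (g : GL (Fin a × Fin b) F) (z : Fin a × Fin b → F) :
    (phi e P g : Matrix ι ι F) *ᵥ ((P : Matrix ι ι F) *ᵥ (z ∘ e)) =
      (P : Matrix ι ι F) *ᵥ (((g : Matrix (Fin a × Fin b) (Fin a × Fin b) F) *ᵥ z) ∘ e) := by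
  rw [show phi e P g = P * Cfsg.Geo.glReindex e.symm g * P⁻¹ from rfl, Units.val_mul, Units.val_mul,
    ← mulVec_mulVec, ← mulVec_mulVec, inv_mulVec_mulVec]
  congr 1
  show (Matrix.reindex e.symm e.symm (g : Matrix _ _ F)) *ᵥ _ = _
  rw [Matrix.reindex_apply, Matrix.submatrix_mulVec_equiv]
  simp only [Equiv.symm_symm, Function.comp_assoc, Equiv.self_comp_symm, Function.comp_id]

/-- No overgroup of the tensor stabiliser except the two trivial ones. -/
theorem le_kronecker [Finite F] {S : TForm F a b} {H : Subgroup (GL (Fin a × Fin b) F)}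
    (O : Over S H) (hε : S.ε = -1) (hR : ¬ Root S H) (hb : 3 ≤ b) (hae : Even a)
    (hab : 14 ≤ a * b) (hbig : 4 ≤ b ∨ ∃ t : F, t ≠ 0 ∧ t ^ 2 ≠ 1) :
    H ≤ Cfsg.Geo.kroneckerSubgroup a b F := by
  obtain ⟨i, rfl⟩ := hae
  rcases Nat.lt_or_ge (b + 1) (i + i) with h | h
  · intro g hg
    rw [← flipGL_mem_kronecker]
    exact le_kronecker_of_gap O.swap (show -S.ε = 1 by rw [hε, neg_neg]) (fun h' => hR h'.swap)
      hb (by omega) hbig (show flipGL F (i + i) b g ∈ flipH H by
        rw [mem_flipH, flipGL_flipGL]; exact hg)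
  rcases Nat.lt_or_ge b 5 with h5 | h5
  · obtain rfl : b = 4 := by
      by_contra h4
      obtain rfl : b = 3 := by omega
      omega
    obtain rfl : i = 2 := by omega
    exact le_kronecker_four (S := S) O hε hR
  · exact le_kronecker_alt O hε hR (Nat.pos_of_ne_zero fun h0 => by simp [h0] at hab) h h5

/-- A transvection is not in the tensor stabiliser. -/
theorem exists_not_mem {S : TForm F a b} (ha : 2 ≤ a) (hb : 2 ≤ b) :
    ∃ g ∈ isom S.om, g ∉ Cfsg.Geo.kroneckerSubgroup a b F := by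
  have hs := S.om_symplectic
  set p : V F a b := fun _ => 1
  have hp : p ≠ 0 := fun h => one_ne_zero (congrFun h (⟨0, by omega⟩, ⟨0, by omega⟩))
  refine ⟨st S.om p 1, st_mem_isom hs p 1, ?_⟩
  rintro ⟨g, k, hgk⟩
  set T := (st S.om p 1 : Matrix (Fin a × Fin b) (Fin a × Fin b) F)
  have hr : (T - (1 : F) • 1).rank ≤ 1 := by
    rw [rank_eq]
    refine (Submodule.finrank_mono (t := Submodule.span F {p}) ?_).trans (finrank_span_singleton hp).le
    rintro _ ⟨z, rfl⟩
    rw [Matrix.toLin'_apply, sub_mulVec, one_smul, one_mulVec, st_mulVec hs, add_sub_cancel_left]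
    exact Submodule.smul_mem _ _ (Submodule.mem_span_singleton_self p)
  by_cases hg : ∃ c : F, (g : Matrix (Fin a) (Fin a) F) = c • 1
  swap
  · push Not at hg
    have := le_rank_of_nonscalar hg k 1
    rw [← hgk] at this
    omega
  obtain ⟨c, hc⟩ := hg
  have h1 : T - (1 : F) • 1 =
      (1 : Matrix (Fin a) (Fin a) F) ⊗ₖ (c • (k : Matrix (Fin b) (Fin b) F) - 1) := by
    rw [hgk, hc, one_smul, Matrix.smul_kronecker, ← Matrix.kronecker_smul]
    ext q q'
    by_cases h1 : q.1 = q'.1 <;> by_cases h2 : q.2 = q'.2 <;>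
      simp [Matrix.one_apply, Prod.ext_iff, h1, h2]
  have h0 : (c • (k : Matrix (Fin b) (Fin b) F) - 1).rank = 0 := by
    rw [h1, rank_one_kronecker] at hr
    by_contra hne
    have := Nat.mul_le_mul ha (Nat.one_le_iff_ne_zero.2 hne)
    omega
  rw [rank_eq, Submodule.finrank_eq_zero, LinearMap.range_eq_bot] at h0
  obtain ⟨z, hz⟩ := (S.om_nd p hp).1
  have h2 : T *ᵥ z - z = 0 := by
    rw [← one_mulVec z, mulVec_mulVec, mul_one, ← sub_mulVec, show (1 : Matrix _ _ F) = (1 : F) • 1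
      from (one_smul F _).symm, h1]
    rw [show c • (k : Matrix (Fin b) (Fin b) F) - 1 = 0 from Matrix.toLin'.injective
      (by rw [h0, map_zero]), Matrix.kronecker_zero, zero_mulVec]
  rw [st_mulVec hs, add_sub_cancel_left, smul_eq_zero] at h2
  exact h2.elim (by simpa using hz) hp

end

/-- For a finite field F of odd order q and m ≥ 7, suppose the standard alternating form on F^(2m) is similar, through a change of basis P and a bijection of index sets e, to the tensor product of a non-degenerate symplectic form f₁ on F^(n₁) and a non-degenerate symmetric bilinear form f₂ on F^(n₂) with n₂ ≥ 3. Unless q = 3 and n₂ = 3, the elements of Sp_2m(F) in the stabiliser of this tensor decomposition (the conjugate by P of the Kronecker-product subgroup transported along e) form a maximal subgroup of Sp_2m(F). -/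
theorem result {F : Type*} [Field F] [Fintype F] (m : ℕ) (hm : 7 ≤ m) (hodd : Odd (Fintype.card F)) (n₁ n₂ : ℕ) (hn₂ : 3 ≤ n₂) (hex : ¬ (Fintype.card F = 3 ∧ n₂ = 3)) (e : (Fin m ⊕ Fin m) ≃ Fin n₁ × Fin n₂) (P : Matrix.GeneralLinearGroup (Fin m ⊕ Fin m) F) (f₁ : (Fin n₁ → F) → (Fin n₁ → F) → F) (f₂ : (Fin n₂ → F) → (Fin n₂ → F) → F) (hf₁ : Cfsg.Geo.IsSymplecticForm f₁) (hf₂ : Cfsg.Geo.IsSymmetricForm f₂) (hT : Cfsg.Geo.IsTensorFormStructure id (Cfsg.sympForm m F) f₁ f₂ e P) : Cfsg.Geo.IsMaximalIn (Cfsg.spGL m F) (Cfsg.Geo.tensorProductSubgroup n₁ n₂ e P ⊓ Cfsg.spGL m F) := by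
  classical
  obtain ⟨c, hc, hT⟩ := hT
  have hb₁ := hf₁.bilinear
  have hb₂ := hf₂.bilinear
  let g₁ : (Fin n₁ → F) →ₗ[F] (Fin n₁ → F) →ₗ[F] F :=
    c • LinearMap.mk₂ F f₁ hb₁.add_left hb₁.smul_left hb₁.add_right hb₁.smul_right
  let g₂ : (Fin n₂ → F) →ₗ[F] (Fin n₂ → F) →ₗ[F] F :=
    LinearMap.mk₂ F f₂ hb₂.add_left hb₂.smul_left hb₂.add_right hb₂.smul_right
  have h2 : (2 : F) ≠ 0 := Ring.two_ne_zero (fun h => Nat.not_even_iff_odd.2 hodd
    (FiniteField.even_card_of_char_two h |> Nat.even_iff.2))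
  let S : TensorInv.TForm F n₁ n₂ :=
    { f₁ := g₁
      f₂ := g₂
      ε := -1
      hε := by ring
      flip₁ := fun x y => by
        show c * f₁ y x = -1 * (c * f₁ x y)
        rw [hf₁.skew y x]; ring
      flip₂ := fun v w => by
        show f₂ w v = -(-1 * f₂ v w)
        rw [hf₂.symm]; ring
      nd₁ := fun x hx => by
        by_contra h0
        obtain ⟨y, hy⟩ := (hf₁.nondegenerate x h0).2
        exact hy (by simpa [g₁, hc] using hx y)
      nd₂ := fun x hx => by
        by_contra h0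
        obtain ⟨y, hy⟩ := (hf₂.nondegenerate x h0).2
        exact hy (hx y)
      two := h2 }
  let L : (Fin n₁ × Fin n₂ → F) →ₗ[F] (Fin m ⊕ Fin m → F) :=
    (P : Matrix (Fin m ⊕ Fin m) (Fin m ⊕ Fin m) F).mulVecLin ∘ₗ LinearMap.funLeft F F e
  have hL : ∀ z, L z = (P : Matrix (Fin m ⊕ Fin m) (Fin m ⊕ Fin m) F).mulVec (z ∘ e) := fun z => rfl
  have hform : ∀ z z', Cfsg.sympForm m F (L z) (L z') = S.om z z' := by
    have h : ∀ v x w y, Cfsg.sympForm m F (L (TensorMax.emb v x)) (L (TensorMax.emb w y)) =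
        S.f₁ x y * S.f₂ v w := fun v x w y =>
      NotMax.form_ten (σ := RingHom.id F) hT
        (NotMax.eq_formOfGram _ hb₁.add_left hb₁.smul_left hb₁.add_right hb₁.smul_right)
        (NotMax.eq_formOfGram _ hb₂.add_left hb₂.smul_left hb₂.add_right hb₂.smul_right) x y v w
    intro z z'
    let B : (Fin n₁ × Fin n₂ → F) →ₗ[F] (Fin n₁ × Fin n₂ → F) →ₗ[F] F :=
      LinearMap.mk₂ F (fun z z' => Cfsg.sympForm m F (L z) (L z') - S.om z z')
        (fun x y v => by simp [Cfsg.sympForm, S.om_add_left]; ring)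
        (fun r x v => by simp [Cfsg.sympForm, S.om_smul_left]; ring)
        (fun v x y => by simp [Cfsg.sympForm, Matrix.mulVec_add, S.om_add_right]; ring)
        (fun r v x => by simp [Cfsg.sympForm, Matrix.mulVec_smul, S.om_smul_right]; ring)
    have hB : B z z' = 0 := by
      rw [TensorInv.eq_sum_emb z, TensorInv.eq_sum_emb z']
      simp only [map_sum, LinearMap.sum_apply]
      refine Finset.sum_eq_zero fun i _ => Finset.sum_eq_zero fun j _ => ?_
      show Cfsg.sympForm m F _ _ - S.om _ _ = 0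
      rw [h, S.om_emb_emb, sub_self]
    exact sub_eq_zero.1 hB
  have hLs : Function.Surjective L := fun x =>
    ⟨(((P⁻¹ : Matrix.GeneralLinearGroup (Fin m ⊕ Fin m) F) :
      Matrix (Fin m ⊕ Fin m) (Fin m ⊕ Fin m) F).mulVec x) ∘ e.symm, by
      rw [hL, Function.comp_assoc, Equiv.symm_comp_self, Function.comp_id,
        MaxSub.mulVec_inv_mulVec]⟩
  have hI : (MaxSub.isom S.om).map (phi e P).toMonoidHom = Cfsg.spGL m F := by
    ext g
    constructor
    · rintro ⟨k, hk, rfl⟩ u v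
      obtain ⟨z, rfl⟩ := hLs u
      obtain ⟨z', rfl⟩ := hLs v
      show Cfsg.sympForm m F
        ((phi e P k : Matrix (Fin m ⊕ Fin m) (Fin m ⊕ Fin m) F).mulVec (L z))
        ((phi e P k : Matrix (Fin m ⊕ Fin m) (Fin m ⊕ Fin m) F).mulVec (L z')) = _
      rw [hL z, hL z', phi_mulVec, phi_mulVec, ← hL, ← hL, ← hL, ← hL, hform, hform]
      exact hk z z'
    · intro hg
      refine ⟨(phi e P).symm g, fun u v => ?_, (phi e P).apply_symm_apply g⟩
      rw [Units.coeHom_apply, ← hform, ← hform, hL, hL, ← phi_mulVec e P, ← phi_mulVec e P,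
        MulEquiv.apply_symm_apply]
      exact hg _ _
  have hn : 2 * m = n₁ * n₂ := by
    have := Fintype.card_congr e
    simp at this
    omega
  have hae : Even n₁ := by
    have h := ClMax99.AltSim.even_finrank S.f₁ (S.alt₁ rfl) ⊤
      (fun u _ hu => S.nd₁ u fun x => hu x trivial)
    rwa [finrank_top, Module.finrank_fin_fun] at h
  have ha2 : 2 ≤ n₁ := by
    obtain ⟨i, rfl⟩ := hae
    rcases Nat.eq_zero_or_pos i with rfl | hi
    · simp at hn; omega
    · omega
  have hbig : 4 ≤ n₂ ∨ ∃ t : F, t ≠ 0 ∧ t ^ 2 ≠ 1 := by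
    by_contra hn'
    push Not at hn'
    have hsub : Finset.univ ⊆ ({0, 1, -1} : Finset F) := fun t _ => by
      rcases eq_or_ne t 0 with rfl | ht
      · simp
      · rcases sq_eq_one_iff.1 (hn'.2 t ht) with rfl | rfl <;> simp
    have h3 := (Finset.card_le_card hsub).trans Finset.card_le_three
    rw [Finset.card_univ] at h3
    have h1 := Fintype.one_lt_card (α := F)
    obtain ⟨j, hj⟩ := hodd
    exact hex ⟨by omega, by omega⟩
  have hinj : Function.Injective (phi e P).toMonoidHom := (phi e P).injective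
  have hK : (Cfsg.Geo.kroneckerSubgroup n₁ n₂ F ⊓ MaxSub.isom S.om).map (phi e P).toMonoidHom =
      Cfsg.Geo.tensorProductSubgroup n₁ n₂ e P ⊓ Cfsg.spGL m F := by
    rw [Subgroup.map_inf _ _ _ hinj, hI, Cfsg.Geo.tensorProductSubgroup, Subgroup.map_map]
    rfl
  rw [← hK, ← hI]
  refine ⟨(Subgroup.map_lt_map_iff_of_injective hinj).mpr (lt_of_le_of_ne inf_le_right fun h => ?_),
    fun M h1 h2' => ?_⟩
  · obtain ⟨g, hg, hgK⟩ := exists_not_mem (S := S) ha2 (by omega)
    exact hgK (Subgroup.mem_inf.1 (h.symm ▸ hg)).1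
  have hM : (M.comap (phi e P).toMonoidHom).map (phi e P).toMonoidHom = M :=
    Subgroup.map_comap_eq_self_of_surjective (phi e P).surjective M
  set H := M.comap (phi e P).toMonoidHom
  have hle : Cfsg.Geo.kroneckerSubgroup n₁ n₂ F ⊓ MaxSub.isom S.om ≤ H :=
    Subgroup.map_le_iff_le_comap.mp h1
  have hHI : H ≤ MaxSub.isom S.om := by
    rw [← Subgroup.map_le_map_iff_of_injective hinj, hM]; exact h2'
  have O : TensorInv.Over S H := ⟨hHI, fun g k hg => hle ⟨⟨g, k, rfl⟩, hg⟩⟩
  by_cases hR : TensorInv.Root S H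
  · right
    rw [← hM, le_antisymm hHI (TensorInv.isom_le_of_root O rfl hR)]
  · left
    rw [← hM, le_antisymm (le_inf (le_kronecker O rfl hR hn₂ hae (by omega) hbig) hHI) hle]

end Cfsg.Agent.S5666
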