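import Cfsg.Statements.S5667
import Cfsg.Agent.Classical10.NotMax.TensorThree
-- import your own Cfsg.Agent.* helpers here

set_option autoImplicit false
open Cfsg
open scoped Matrix

namespace Cfsg.Agent.S5667

/-- Over the field with 3 elements and for m ≥ 7, suppose the standard alternating form on F^(2m) is similar, through P and e, to the tensor product of a non-degenerate symplectic form f₁ on F^(n₁) and a non-degenerate symmetric bilinear form f₂ on F^3. Then the elements of Sp_2m(3) in the stabiliser of this tensor decomposition form a subgroup that is not maximal: some subgroup lies strictly between it and Sp_2m(3). -/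
theorem result {F : Type*} [Field F] [Fintype F] (m : ℕ) (hm : 7 ≤ m) (hq : Fintype.card F = 3) (n₁ : ℕ) (e : (Fin m ⊕ Fin m) ≃ Fin n₁ × Fin 3) (P : Matrix.GeneralLinearGroup (Fin m ⊕ Fin m) F) (f₁ : (Fin n₁ → F) → (Fin n₁ → F) → F) (f₂ : (Fin 3 → F) → (Fin 3 → F) → F) (hf₁ : Cfsg.Geo.IsSymplecticForm f₁) (hf₂ : Cfsg.Geo.IsSymmetricForm f₂) (hT : Cfsg.Geo.IsTensorFormStructure id (Cfsg.sympForm m F) f₁ f₂ e P) : ∃ K : Subgroup (Matrix.GeneralLinearGroup (Fin m ⊕ Fin m) F), Cfsg.Geo.tensorProductSubgroup n₁ 3 e P ⊓ Cfsg.spGL m F < K ∧ K < Cfsg.spGL m F := by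
  obtain ⟨hμ, a, w, haa, hww, haw, hwa, hS⟩ := NotMax.symm_three_facts hq hf₂
  obtain ⟨c, hc, hT⟩ := hT
  have hs := MaxSub.isSymplecticForm_sympForm (F := F) m
  have hb₁ := hf₁.bilinear
  have hb₂ := hf₂.bilinear
  set f := sympForm m F with hf
  have hcard := Fintype.card_congr e
  simp only [Fintype.card_sum, Fintype.card_fin, Fintype.card_prod] at hcard
  let τ := (NotMax.ten e P).flip
  have hτ : ∀ x y x' y', f (τ x y) (τ x' y') = c * f₂ x x' * f₁ y y' := fun x y x' y' => by
    show f (NotMax.ten e P y x) (NotMax.ten e P y' x') = _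
    rw [NotMax.form_ten (σ := RingHom.id F) hT
      (NotMax.eq_formOfGram _ hb₁.add_left hb₁.smul_left hb₁.add_right hb₁.smul_right)
      (NotMax.eq_formOfGram _ hb₂.add_left hb₂.smul_left hb₂.add_right hb₂.smul_right)]
    ring
  have h1 : 0 < n₁ := Nat.pos_of_ne_zero fun h => by rw [h] at hcard; omega
  haveI : Nonempty (Fin n₁) := ⟨⟨0, h1⟩⟩
  obtain ⟨z, hz⟩ := exists_ne (0 : Fin n₁ → F)
  obtain ⟨y, hy⟩ := (hf₁.nondegenerate z hz).1
  set k := c * f₂ a a * f₁ y z with hk
  have hk0 : k ≠ 0 := mul_ne_zero (mul_ne_zero hc haa) hy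
  refine NotMax.tensor_between (f := f) (f₁ := f₂) (f₂ := f₁) hs.bilinear.add_left hb₁.add_left
    hb₁.smul_left hf₁.nondegenerate τ hc hτ (fun g hg => hg) (fun g hg => ?_) hμ haa hww haw hwa hS
    (g := MaxSub.st f (τ a z) 1) (MaxSub.st_mem_isom hs _ _)
    (fun u v hu => ?_) (fun v => ?_) ⟨y, y + k • z, ?_, ?_, fun r hr => ?_⟩
    (g' := MaxSub.st f (τ (a + w) z) 1) (MaxSub.st_mem_isom hs _ _)
    ⟨y, y + k • z, k • z, ?_, smul_ne_zero hk0 hz, fun r hr => ?_⟩
  · obtain ⟨A, B, hAB⟩ := NotMax.exists_of_mem_tensorProductSubgroup hg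
    exact ⟨B, A, fun x v => hAB v x⟩
  · rw [MaxSub.st_mulVec hs, one_mul, hτ, hu]
    simp
  · refine ⟨v + (c * f₂ a a * f₁ v z) • z, ?_⟩
    rw [MaxSub.st_mulVec hs, one_mul, hτ, map_add, map_smul]
  · exact fun h => hy (by rw [h, MaxSub.form_zero_left hb₁])
  · rw [MaxSub.st_mulVec hs, one_mul, hτ, map_add, map_smul]
  · have h := congrArg (fun x => f₁ x z) hr
    simp only [hb₁.add_left, hb₁.smul_left, hf₁.alternating, mul_zero, add_zero] at h
    rw [mul_right_cancel₀ hy (h.trans (one_mul _).symm), one_smul, left_eq_add] at hr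
    exact smul_ne_zero hk0 hz hr
  · rw [MaxSub.st_mulVec hs, one_mul, hτ, hb₂.add_right, haw, add_zero, ← hk]
    simp only [map_add, map_smul, LinearMap.add_apply, LinearMap.smul_apply, smul_add]
    abel
  · have h := congrArg (fun x => f₁ x z) hr
    simp only [hb₁.add_left, hb₁.smul_left, hf₁.alternating, mul_zero, add_zero] at h
    exact hy h.symm

end Cfsg.Agent.S5667
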