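import Cfsg.Statements.S5668
import Cfsg.Agent.WreathS.Transfer

set_option autoImplicit false
open Cfsg

namespace Cfsg.Agent.S5668

/-- For a finite field F of odd order q and m ≥ 7, suppose the standard alternating form on F^(2m) is similar, through a change of basis P and a bijection of index sets e, to the t-fold tensor power of a non-degenerate symplectic form f₁ on F^k, with t odd, t ≥ 3 and (q, k) ≠ (3, 2). Then the elements of Sp_2m(F) in the stabiliser of this decomposition (the conjugate by P of the standard tensor-wreath subgroup transported along e) form a maximal subgroup of Sp_2m(F). -/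
theorem result {F : Type*} [Field F] [Fintype F] (m : ℕ) (hm : 7 ≤ m) (hodd : Odd (Fintype.card F)) (k t : ℕ) (ht : Odd t) (ht3 : 3 ≤ t) (hex : ¬ (Fintype.card F = 3 ∧ k = 2)) (e : (Fin m ⊕ Fin m) ≃ (Fin t → Fin k)) (P : Matrix.GeneralLinearGroup (Fin m ⊕ Fin m) F) (f₁ : (Fin k → F) → (Fin k → F) → F) (hf₁ : Cfsg.Geo.IsSymplecticForm f₁) (hT : Cfsg.Geo.IsTensorPowerFormStructure id (Cfsg.sympForm m F) f₁ e P) : Cfsg.Geo.IsMaximalIn (Cfsg.spGL m F) (Cfsg.Geo.tensorWreathSubgroup k t e P ⊓ Cfsg.spGL m F) := by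
  classical
  have two : (2 : F) ≠ 0 := Ring.two_ne_zero (fun h => by
    have := FiniteField.even_card_iff_char_two.mp h
    obtain ⟨a, ha⟩ := hodd
    omega)
  have hk : 2 ≤ k := by
    by_contra hlt
    have h1 : k ^ t ≤ 1 := by
      rcases Nat.eq_zero_or_pos k with rfl | hk1
      · rw [zero_pow (by omega)]; omega
      · rw [show k = 1 by omega, one_pow]
    have h2 := Fintype.card_congr e
    simp only [Fintype.card_sum, Fintype.card_fin, Fintype.card_fun] at h2
    omega
  obtain ⟨π, hπ, col, hcol⟩ := Cfsg.Agent.WreathS.exists_sgn two hf₁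
  obtain ⟨T⟩ := Cfsg.Agent.WreathMax.exists_transfer (RingHom.id F) hT
    (Cfsg.Agent.WreathMax.eq_gram (RingHom.id F) hf₁.bilinear.add_left hf₁.bilinear.smul_left
      hf₁.bilinear.add_right hf₁.bilinear.smul_right) (Cfsg.Agent.WreathS.gramS_det π) col hcol
  have hU : ∀ Y, T.Φ Y ∈ Cfsg.spGL m F ↔ Y ∈ Cfsg.Agent.WreathS.U (Cfsg.Agent.WreathS.powS π t) := fun Y => by
    refine (T.mem_isom Y).trans ?_
    simp only [Cfsg.Agent.MaxSub.mem_isom, ← Cfsg.Agent.WreathS.form_gramS]
    rfl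
  refine T.isMaximalIn _ (fun hle => Cfsg.Agent.WreathS.not_le_wreath hπ hk ht (by omega)
    fun Y hY => hle ((hU Y).mpr hY)) fun H hH hM hne Y hY => ?_
  obtain ⟨t', rfl⟩ : ∃ t', t = t' + 1 := ⟨t - 1, by omega⟩
  exact Cfsg.Agent.WreathS.isom_le_of_not_le hπ hk ht (by rwa [Nat.card_eq_fintype_card])
    (fun Z hZ => (hU Z).mp (hH hZ)) (Cfsg.Agent.WreathS.containsS_of_le π fun w hw => hM w (Cfsg.Agent.WreathS.Ws_le_wreath π hw) ((hU w).mpr (Cfsg.Agent.WreathS.Ws_le_U π hw))) hne ((hU Y).mp hY)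

end Cfsg.Agent.S5668
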