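import Cfsg.Statements.S5671
import Cfsg.Agent.Classical10.NotMax.UnitaryFour
-- import your own Cfsg.Agent.* helpers here

set_option autoImplicit false
open Cfsg
open scoped Matrix

namespace Cfsg.Agent.S5671

/-- Let F be the field with 4 elements (q = 2) and n = 2 n₂ ≥ 13. Suppose the standard unitary form Σ u_i v_i² on F^n is similar, through P and e, to the tensor product of non-degenerate unitary forms f₁ on F^2 and f₂ on F^(n₂). Then the elements of SU_n(2) in the stabiliser of this tensor decomposition form a subgroup that is not maximal: some subgroup lies strictly between it and SU_n(2). -/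
theorem result {F : Type*} [Field F] [Fintype F] (n : ℕ) (hF : Fintype.card F = 4) (hn : 13 ≤ n) (n₂ : ℕ) (e : Fin n ≃ Fin 2 × Fin n₂) (P : Matrix.GeneralLinearGroup (Fin n) F) (f₁ : (Fin 2 → F) → (Fin 2 → F) → F) (f₂ : (Fin n₂ → F) → (Fin n₂ → F) → F) (hf₁ : Cfsg.Geo.IsUnitaryFormPow 2 f₁) (hf₂ : Cfsg.Geo.IsUnitaryFormPow 2 f₂) (hT : Cfsg.Geo.IsTensorFormStructure (fun x : F => x ^ 2) (Cfsg.hermForm n F 2) f₁ f₂ e P) : ∃ K : Subgroup (Matrix.GeneralLinearGroup (Fin n) F), Cfsg.Geo.tensorProductSubgroup 2 n₂ e P ⊓ (Cfsg.GU n F 2 ⊓ Cfsg.Geo.specialLinear (Fin n) F) < K ∧ K < (Cfsg.GU n F 2 ⊓ Cfsg.Geo.specialLinear (Fin n) F) := by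
  obtain ⟨σ, hσ, hne, hinv, h2⟩ := NotMax.exists_frobenius hF
  have hf := NotMax.isUnitaryForm_hermForm_two hF hσ hne hinv n
  have toU : ∀ {k : ℕ} {g : (Fin k → F) → (Fin k → F) → F}, Geo.IsUnitaryFormPow 2 g →
      Geo.IsUnitaryForm σ g := fun {k g} h =>
    ⟨hne, hinv, h.add_left, h.smul_left, fun v w => by rw [hσ]; exact h.herm v w, h.nondegenerate⟩
  have hu₁ := toU hf₁
  have hu₂ := toU hf₂
  obtain ⟨hμ, a, w, haa, hww, haw, hwa, hS⟩ := NotMax.unitary_two_facts hF hσ hu₁ h2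
  obtain ⟨c, hc, hT⟩ := hT
  set f := hermForm n F 2 with hfdef
  have hcard := Fintype.card_congr e
  simp only [Fintype.card_fin, Fintype.card_prod] at hcard
  let τ := NotMax.ten e P
  have hT' : ∀ x y : Fin 2 × Fin n₂ → F, f ((P : Matrix (Fin n) (Fin n) F) *ᵥ (x ∘ e))
      ((P : Matrix (Fin n) (Fin n) F) *ᵥ (y ∘ e)) = c * Geo.formOfGram (σ : F →+* F)
        (Matrix.kroneckerMap (· * ·) (Geo.gramMatrix f₁) (Geo.gramMatrix f₂)) x y := fun x y => by
    rw [hT x y, show ((σ : F →+* F) : F → F) = fun x => x ^ 2 from funext hσ]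
  have hτ : ∀ x y x' y', f (τ x y) (τ x' y') = c * f₁ x x' * f₂ y y' := fun x y x' y' =>
    NotMax.form_ten hT'
      (NotMax.eq_formOfGram _ hu₁.add_left hu₁.smul_left (MaxSub.hadd_right hu₁) (MaxSub.hsmul_right hu₁))
      (NotMax.eq_formOfGram _ hu₂.add_left hu₂.smul_left (MaxSub.hadd_right hu₂) (MaxSub.hsmul_right hu₂))
      x x' y y'
  obtain ⟨z, hz, hzz⟩ := NotMax.exists_isotropic_vec hσ hu₂ h2 (by rw [Fintype.card_fin]; omega)
  obtain ⟨y, hy⟩ := (hu₂.nondegenerate z hz).1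
  set k := c * f₁ a a * f₂ y z with hk
  have hk0 : k ≠ 0 := mul_ne_zero (mul_ne_zero hc haa) hy
  have hiso : ∀ x, f (τ x z) (τ x z) = 0 := fun x => by rw [hτ, hzz, mul_zero]
  have hone : (1 : F) + σ 1 = 0 := by rw [map_one, ← h2]; norm_num
  have hmem : ∀ x, MaxSub.ut f (τ x z) 1 ∈ GU n F 2 ⊓ Geo.specialLinear (Fin n) F := fun x =>
    ⟨MaxSub.ut_mem_isom hf (hiso x) hone, MaxSub.det_tv _ _⟩
  refine NotMax.tensor_between (f := f) (f₁ := f₁) (f₂ := f₂) hf.add_left hu₂.add_left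
    hu₂.smul_left hu₂.nondegenerate τ hc hτ (fun g hg => hg.1)
    (fun g hg => NotMax.exists_of_mem_tensorProductSubgroup hg) hμ haa hww haw hwa hS
    (g := MaxSub.ut f (τ a z) 1) (hmem a)
    (fun u v hu => ?_) (fun v => ?_) ⟨y, y + k • z, ?_, ?_, fun r hr => ?_⟩
    (g' := MaxSub.ut f (τ (a + w) z) 1) (hmem _)
    ⟨y, y + k • z, k • z, ?_, smul_ne_zero hk0 hz, fun r hr => ?_⟩
  · rw [MaxSub.ut_mulVec hf (hiso _), one_mul, hτ, hu]
    simp
  · refine ⟨v + (c * f₁ a a * f₂ v z) • z, ?_⟩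
    rw [MaxSub.ut_mulVec hf (hiso _), one_mul, hτ, map_add, map_smul]
  · exact fun h => hy (by rw [h, MaxSub.hzero_left hu₂])
  · rw [MaxSub.ut_mulVec hf (hiso _), one_mul, hτ, map_add, map_smul]
  · have h := congrArg (fun x => f₂ x z) hr
    simp only [hu₂.add_left, hu₂.smul_left, hzz, mul_zero, add_zero] at h
    rw [mul_right_cancel₀ hy (h.trans (one_mul _).symm), one_smul, left_eq_add] at hr
    exact smul_ne_zero hk0 hz hr
  · rw [MaxSub.ut_mulVec hf (hiso _), one_mul, hτ, MaxSub.hadd_right hu₁, haw, add_zero, ← hk]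
    simp only [map_add, map_smul, LinearMap.add_apply, LinearMap.smul_apply, smul_add]
    abel
  · have h := congrArg (fun x => f₂ x z) hr
    simp only [hu₂.add_left, hu₂.smul_left, hzz, mul_zero, add_zero] at h
    exact hy h.symm

end Cfsg.Agent.S5671
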