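import Cfsg.Statements.S5675
import Cfsg.Agent.MaxSub.OrthStabGL

set_option autoImplicit false
open Cfsg
open scoped Matrix

namespace Cfsg.Agent.S5675

/-- Let F be a finite field of odd order q, m ≥ 6, Q the standard quadratic form on F^(2m+1) and Ω the commutator subgroup of its isometry group. Let W be a non-zero subspace of even dimension on which the polar form of Q is non-degenerate; exclude the case q = 3, dim W = 2 with Q vanishing on some line of W (a plus-type plane). Then the elements of Ω stabilising W (equivalently, stabilising its orthogonal complement, of odd dimension) form a maximal subgroup of Ω. -/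
theorem result {F : Type*} [Field F] [Fintype F] (hodd : Odd (Fintype.card F)) (m : ℕ) (hm : 6 ≤ m) (W : Submodule F (Unit ⊕ (Fin m ⊕ Fin m) → F)) (hW0 : W ≠ ⊥) (hev : Even (Module.finrank F W)) (hW : Cfsg.Geo.IsNondegenerateOn (QuadraticMap.polar (Cfsg.quadFormOdd m F)) W) (hex : ¬ (Fintype.card F = 3 ∧ Module.finrank F W = 2 ∧ Cfsg.Geo.IsPlusTypeOn (Cfsg.quadFormOdd m F) W)) : Cfsg.Geo.IsMaximalIn (Cfsg.Geo.omegaGL (Cfsg.quadFormOdd m F)) (Cfsg.Geo.subspaceStabilizer W ⊓ Cfsg.Geo.omegaGL (Cfsg.quadFormOdd m F)) := by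
  have h2 : (2 : F) ≠ 0 := fun h => by
    haveI : Fact (Nat.Prime 2) := ⟨Nat.prime_two⟩
    haveI : CharP F 2 := CharTwo.of_one_ne_zero_of_two_eq_zero one_ne_zero h
    exact Nat.not_even_iff_odd.mpr hodd
      (Nat.even_iff.mpr (FiniteField.even_card_of_char_two (ringChar.eq F 2)))
  have hcoe : Cfsg.quadFormOdd m F = ⇑(UnitaryOrthogonal.qOdd m F) :=
    funext fun v => (UnitaryOrthogonal.qOdd_apply m v).symm
  rw [hcoe] at hW hex ⊢
  have hcard : Fintype.card (Unit ⊕ (Fin m ⊕ Fin m)) = 2 * m + 1 := by simp; omega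
  refine OrthStab.subspace_isMaximalIn
    (((UnitaryOrthogonal.polarND_sqForm h2).hypSum m).congr (UnitaryOrthogonal.qOddIso m F).symm)
    hW hW0 ?_ (by omega) (fun W' hp he _ => ?_) (fun hc U hU2 _ hpl hor => ?_)
  · rintro rfl
    rw [finrank_top, Module.finrank_fintype_fun_eq_card, hcard] at hev
    simp [parity_simps] at hev
  · have := Submodule.finrank_add_eq_of_isCompl hp.compl
    rw [Module.finrank_fintype_fun_eq_card, hcard] at this
    obtain ⟨j, hj⟩ := hev
    omega
  · rw [Nat.card_eq_fintype_card] at hc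
    obtain ⟨j, hj⟩ := hodd
    have h1 := Fintype.one_lt_card (α := F)
    rcases hor with rfl | ⟨-, hsum⟩
    · exact hex ⟨by omega, hU2, hpl⟩
    · obtain ⟨i, hi⟩ := hev
      omega

end Cfsg.Agent.S5675
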