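import Cfsg.Statements.S5680
import Cfsg.Agent.ExtFieldMax.Orth.Main
import Cfsg.Agent.MaxSub.OrthStabGL

set_option autoImplicit false
open Cfsg

namespace Cfsg.Agent.S5680

/-- Let F be a finite field of odd order, m ≥ 6, Q the standard quadratic form on F^(2m+1) and Ω the commutator subgroup of its isometry group. Let K be a subfield of the algebra of (2m+1) × (2m+1) matrices over F containing the scalars, of prime degree r over F with r ≠ 2m + 1, whose elements are self-adjoint for the polar form of Q. Then the elements of Ω normalising K form a maximal subgroup of Ω. -/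
theorem result {F : Type*} [Field F] [Fintype F] (hodd : Odd (Fintype.card F)) (m : ℕ) (hm : 6 ≤ m) (r : ℕ) (hr : r.Prime) (hrn : 2 * m + 1 ≠ r) (K : Subalgebra F (Matrix (Unit ⊕ (Fin m ⊕ Fin m)) (Unit ⊕ (Fin m ⊕ Fin m)) F)) (hK : Cfsg.Geo.IsFieldSubalgebra r K) (hsa : Cfsg.Geo.IsSelfAdjointFor (QuadraticMap.polar (Cfsg.quadFormOdd m F)) K) : Cfsg.Geo.IsMaximalIn (Cfsg.Geo.omegaGL (Cfsg.quadFormOdd m F)) (Cfsg.Geo.subalgebraNormalizer K ⊓ Cfsg.Geo.omegaGL (Cfsg.quadFormOdd m F)) := by
  have h2 : (2 : F) ≠ 0 := Ring.two_ne_zero fun h => by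
    rw [Nat.odd_iff, FiniteField.even_card_of_char_two h] at hodd
    exact absurd hodd (by decide)
  have hcoe : Cfsg.quadFormOdd m F = ⇑(UnitaryOrthogonal.qOdd m F) :=
    funext fun v => (UnitaryOrthogonal.qOdd_apply m v).symm
  rw [hcoe] at hsa ⊢
  have hcard : Fintype.card (Unit ⊕ (Fin m ⊕ Fin m)) = 2 * m + 1 := by simp; omega
  obtain ⟨d, hd⟩ := ExtFieldMax.Orth.dvd_card hK hr
  rw [hcard] at hd
  have h3 : 3 ≤ d := by
    by_contra hc
    have := hr.two_le
    interval_cases d <;> omega
  refine ExtFieldMax.Orth.isMaximalIn_orth_three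
    (((UnitaryOrthogonal.polarND_sqForm h2).hypSum m).congr (UnitaryOrthogonal.qOddIso m F).symm)
    h2 hK hr hsa (by rw [hcard, hd, mul_comm 3 r]; exact Nat.mul_le_mul_left r h3) (fun hlt => ?_)
    (fun h => ?_)
  · rw [hcard] at hlt
    by_contra hc
    have := hr.two_le
    have h5 : r < 5 := by omega
    interval_cases r <;> first | omega | (norm_num at hr)
  · subst h
    omega

end Cfsg.Agent.S5680
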