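import Cfsg.Statements.S5693
import Cfsg.Agent.Classical10.NotMax.FrameBase
import Cfsg.Agent.Classical10.NotMax.Char2Four
import Cfsg.Agent.MaxSub.OrthVectorGL
-- import your own Cfsg.Agent.* helpers here

set_option autoImplicit false
open Cfsg

namespace Cfsg.Agent.S5693

/-- Let F be a finite field with q elements, n ≥ 13 even, Q a non-degenerate quadratic form on F^n of plus type (some subspace of dimension n/2 is totally singular), and Ω the commutator subgroup of the isometry group of Q, viewed inside GL_n(F). Let D be a decomposition of F^n into t ≥ 2 pairwise orthogonal, pairwise Q-isometric subspaces of equal dimension k on which the polar form is non-degenerate (with, for even k, all members of plus type or t even; for odd k, q odd and square discriminant), in one of the cases: k = 2 with q = 3; k = 2 with plus-type members and q ∈ {2, 4, 5}; k = 3 with q = 3; k = 4 with plus-type members and q = 2. Then the elements of Ω permuting the members of D form a subgroup that is not maximal: some subgroup lies strictly between it and Ω.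 -/
theorem result {F : Type*} [Field F] [Fintype F] {n : ℕ} (hn : 13 ≤ n) (heven : Even n) (Q : (Fin n → F) → F) (hQ : Cfsg.Geo.IsNondegenerateQuadraticForm Q) (hplus : Cfsg.Geo.IsPlusTypeOn Q ⊤) {t : ℕ} (k : ℕ) (D : Fin t → Submodule F (Fin n → F)) (hD : Cfsg.Geo.IsOrthogonalMDecomposition Q k D) (hke : Even k → ((∀ i, Cfsg.Geo.IsPlusTypeOn Q (D i)) ∨ Even t)) (hko : Odd k → (Odd (Fintype.card F) ∧ Cfsg.Geo.HasSquareDiscriminant Q)) (hcase : ((k = 2 ∧ (Fintype.card F = 3 ∨ ((∀ i, Cfsg.Geo.IsPlusTypeOn Q (D i)) ∧ (Fintype.card F = 2 ∨ Fintype.card F = 4 ∨ Fintype.card F = 5)))) ∨ (k = 3 ∧ Fintype.card F = 3) ∨ (k = 4 ∧ Fintype.card F = 2 ∧ ∀ i, Cfsg.Geo.IsPlusTypeOn Q (D i)))) : ∃ K : Subgroup (Matrix.GeneralLinearGroup (Fin n) F), Cfsg.Geo.decompositionStabilizer D ⊓ Cfsg.Geo.omegaGL Q < K ∧ K < Cfsg.Geo.omegaGL Q := by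
  obtain ⟨Qf, rfl, hnd⟩ := OrthStab.exists_form hQ
  have hn' : 13 ≤ Fintype.card (Fin n) := by simpa using hn
  have hcard := NotMax.finrank_le_sum hD.decomp.decomp
  rcases hcase with ⟨rfl, h3 | ⟨hp, h2 | h4 | h5⟩⟩ | ⟨rfl, h3⟩ | ⟨rfl, h2, hp⟩
  · exact NotMax.three_between hnd h3 (Or.inl rfl) hD hn'
  · refine NotMax.char2_plane_between hnd (NotMax.two_eq_zero h2) hD.decomp (by omega) hp ⊥
      (fun r hr => ?_) (fun r hr => Or.inl (AddSubgroup.mem_bot.mp hr)) (c₀ := 1) (by simp)
    rw [AddSubgroup.mem_bot, (NotMax.zero_or_one h2 r).resolve_left hr, inv_one]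
    linear_combination NotMax.two_eq_zero h2
  · have h2 : (2 : F) = 0 := by
      have := FiniteField.cast_card_eq_zero (K := F)
      rw [h4, show ((4 : ℕ) : F) = 2 * 2 by norm_num] at this
      exact mul_self_eq_zero.mp this
    let R : AddSubgroup F :=
      { carrier := {r | r * r = r}
        zero_mem' := mul_zero 0
        add_mem' := fun {x y} hx hy => by
          simp only [Set.mem_ofPred_eq] at hx hy ⊢
          linear_combination hx + hy + (x * y) * h2
        neg_mem' := fun {x} hx => by
          simp only [Set.mem_ofPred_eq] at hx ⊢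
          linear_combination hx + x * h2 }
    have h01 : ∀ r ∈ R, r = 0 ∨ r = 1 := fun r hr => by
      have hr' : r * r = r := hr
      rcases mul_eq_zero.mp (show r * (r - 1) = 0 by linear_combination hr') with h | h
      · exact Or.inl h
      · exact Or.inr (sub_eq_zero.mp h)
    obtain ⟨c₀, hc₀⟩ : ∃ c : F, c ∉ R := by
      classical
      by_contra h
      simp only [not_exists, not_not] at h
      have := Finset.card_le_card
        (fun x _ => by simpa using h01 x (h x) : (Finset.univ : Finset F) ⊆ {0, 1})
      rw [Finset.card_univ, h4, Finset.card_pair zero_ne_one] at this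
      omega
    refine NotMax.char2_plane_between hnd h2 hD.decomp (by omega) hp R (fun r hr => ?_) h01 hc₀
    have h := FiniteField.pow_card_sub_one_eq_one r hr
    rw [h4] at h
    norm_num at h
    show (r + r⁻¹) * (r + r⁻¹) = r + r⁻¹
    rw [← eq_inv_of_mul_eq_one_right (show r * (r * r) = 1 by linear_combination h)]
    linear_combination r * h + (r ^ 3) * h2
  · exact NotMax.five_between hnd h5 hD hp hn'
  · exact NotMax.three_between hnd h3 (Or.inr rfl) hD hn'
  · exact NotMax.four_between hnd h2 hD.decomp (by omega) hp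

end Cfsg.Agent.S5693
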