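import Cfsg.Statements.S5697
import Cfsg.Agent.MaxSub.LagrangianOrth

-- import your own Cfsg.Agent.* helpers here

set_option autoImplicit false
open Cfsg

namespace Cfsg.Agent.S5697

/-- Let F be a finite field with q elements, n ≥ 13 even, Q a non-degenerate quadratic form on F^n of plus type (some subspace of dimension n/2 is totally singular), and Ω the commutator subgroup of the isometry group of Q, viewed inside GL_n(F). Suppose n/2 is even and let D be a decomposition of F^n into two complementary subspaces of dimension n/2 on each of which Q vanishes. Then the elements of Ω preserving or interchanging the two subspaces form a maximal subgroup of Ω. -/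
theorem result {F : Type*} [Field F] [Fintype F] {n : ℕ} (hn : 13 ≤ n) (heven : Even n) (Q : (Fin n → F) → F) (hQ : Cfsg.Geo.IsNondegenerateQuadraticForm Q) (hplus : Cfsg.Geo.IsPlusTypeOn Q ⊤) (k : ℕ) (hk : 2 * k = n) (hke : Even k) (D : Fin 2 → Submodule F (Fin n → F)) (hD : Cfsg.Geo.IsMDecomposition k D) (hts : ∀ i, Cfsg.Geo.IsTotallySingularQuad Q (D i)) : Cfsg.Geo.IsMaximalIn (Cfsg.Geo.omegaGL Q) (Cfsg.Geo.decompositionStabilizer D ⊓ Cfsg.Geo.omegaGL Q) := by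
  obtain ⟨Q, rfl, hf, hp⟩ := LagPair.exists_setup hQ hD hts
  have hQs : ∀ i, ∀ x ∈ D i, Q x = 0 := hts
  obtain ⟨hEG, hgen⟩ := LagPair.omega_facts hf hp (by omega) hQs
  have hG : Geo.omegaGL ⇑Q ≤ MaxSub.isom (QuadraticMap.polar ⇑Q) :=
    fun g hg => (LagPair.omega_isom hg).2
  have hEE : ∀ i, ∀ a ∈ D i, ∀ b ∈ D i,
      LagPair.E (QuadraticMap.polar ⇑Q) (-1 : F) a b ∈ Geo.omegaGL ⇑Q :=
    Fin.forall_fin_two.mpr
      ⟨fun a ha b hb => hEG a b (hQs 0 a ha) (hQs 0 b hb) (hp.iso₁ a ha b hb),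
       fun a ha b hb => hEG a b (hQs 1 a ha) (hQs 1 b hb) (hp.iso₂ a ha b hb)⟩
  obtain ⟨w, hwG, hw0, hw1⟩ := LagPair.exists_swap_orth hf hp hke hG (hEE 0) (hEE 1)
  refine LagPair.isMaximalIn_of_cores hf (by omega) hp hG (fun v hv u hu hvu =>
    ⟨hEG v u (hQs 0 v hv) (hQs 1 u hu) hvu,
     hEG u v (hQs 1 u hu) (hQs 0 v hv) (LagPair.eq_zero_comm hf hvu)⟩) ?_ hwG hw0 hw1
    fun M hMK hE hE' hwM h hh hcases => hgen M fun v u hv hu hvu => ?_
  · obtain ⟨a, ha, b, hb, y, hy, a', ha', ha'0, hEy⟩ := LagPair.E_notMem hf hp (by omega)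
    refine ⟨_, hEE 0 a ha b hb, fun hmem => ?_⟩
    obtain ⟨σ, hσ⟩ := hmem
    have h1 : y + a' ∈ D (σ 1) := by
      rw [← hEy, ← hσ 1, Matrix.toLin'_apply']
      exact Submodule.mem_map_of_mem (f := Matrix.mulVecLin _) hy
    rcases Fin.exists_fin_two.mp ⟨σ 1, rfl⟩ with hc | hc <;> rw [hc] at h1
    · have hy0 : y = 0 := hp.eq_zero (by simpa using sub_mem h1 ha') hy
      rw [hy0, Matrix.mulVec_zero, zero_add] at hEy
      exact ha'0 hEy.symm
    · exact ha'0 (hp.eq_zero ha' (by simpa using sub_mem h1 hy))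
  · have hMQ : ∀ g ∈ M, ∀ x, Q (Matrix.mulVec (g : Matrix (Fin n) (Fin n) F) x) = Q x :=
      fun g hg => (LagPair.omega_isom (hMK hg)).1
    have hMi : ∀ g ∈ M, g ∈ MaxSub.isom (QuadraticMap.polar ⇑Q) := fun g hg => hG (hMK hg)
    have hd : Module.finrank F (D 0) = Module.finrank F (D 1) := by rw [hp.fin₁, hp.fin₂]
    have hsw : ∀ (W W' : Submodule F (Fin n → F)),
        (∀ x ∈ W, Matrix.mulVec (w : Matrix (Fin n) (Fin n) F) x ∈ W') →
        Module.finrank F W' ≤ Module.finrank F W →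
        (∀ a ∈ W, ∀ b ∈ W, QuadraticMap.polar ⇑Q a b = 0) →
        (∀ a ∈ W, ∀ b ∈ W, LagPair.E (QuadraticMap.polar ⇑Q) (-1 : F) a b ∈ M) →
        ∀ a ∈ W', ∀ b ∈ W', LagPair.E (QuadraticMap.polar ⇑Q) (-1 : F) a b ∈ M := by
      intro W W' hmap hdim hW hT a ha b hb
      have ha' := LagPair.inv_mem_of_forall hmap hdim a ha
      have hb' := LagPair.inv_mem_of_forall hmap hdim b hb
      have h := mul_mem (mul_mem hwM (hT _ ha' _ hb')) (inv_mem hwM)
      rwa [LagPair.E_conj hf (hG hwG) (hW _ ha' _ ha') (hW _ hb' _ hb') (hW _ ha' _ hb'),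
        MaxSub.mulVec_inv_mulVec, MaxSub.mulVec_inv_mulVec] at h
    rcases hcases with ⟨h1, hbad⟩ | ⟨h1, hbad⟩
    · have h00 := LagPair.E_mem_of_not_fix hf hp (by omega) (hQs 1) (hQs 0) hMQ hMi hE hh h1 hbad
      exact LagPair.E_mem_of_all hf hp hQs hMQ h00 (hsw _ _ hw0 hd.ge hp.iso₁ h00) hE hwM
        (hG hwG) hw1 hv hu hvu
    · have h11 := LagPair.E_mem_of_not_fix (D := ![D 1, D 0]) hf hp.symm (by omega) (hQs 0) (hQs 1)
        hMQ hMi hE' hh h1 hbad
      exact LagPair.E_mem_of_all hf hp hQs hMQ (hsw _ _ hw1 hd.le hp.iso₂ h11) h11 hE hwM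
        (hG hwG) hw1 hv hu hvu

end Cfsg.Agent.S5697
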