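import Cfsg.Statements.S5698
import Cfsg.Agent.MaxSub.LagrangianOrth

-- import your own Cfsg.Agent.* helpers here

set_option autoImplicit false
open Cfsg

namespace Cfsg.Agent.S5698

/-- Let F be a finite field with q elements, n ≥ 13 even, Q a non-degenerate quadratic form on F^n of plus type (some subspace of dimension n/2 is totally singular), and Ω the commutator subgroup of the isometry group of Q, viewed inside GL_n(F). Suppose n/2 is odd and let D be a decomposition of F^n into two complementary subspaces of dimension n/2 on each of which Q vanishes. Then the elements of Ω preserving or interchanging the two subspaces form a subgroup that is not maximal: some subgroup lies strictly between it and Ω. -/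
theorem result {F : Type*} [Field F] [Fintype F] {n : ℕ} (hn : 13 ≤ n) (heven : Even n) (Q : (Fin n → F) → F) (hQ : Cfsg.Geo.IsNondegenerateQuadraticForm Q) (hplus : Cfsg.Geo.IsPlusTypeOn Q ⊤) (k : ℕ) (hk : 2 * k = n) (hko : Odd k) (D : Fin 2 → Submodule F (Fin n → F)) (hD : Cfsg.Geo.IsMDecomposition k D) (hts : ∀ i, Cfsg.Geo.IsTotallySingularQuad Q (D i)) : ∃ K : Subgroup (Matrix.GeneralLinearGroup (Fin n) F), Cfsg.Geo.decompositionStabilizer D ⊓ Cfsg.Geo.omegaGL Q < K ∧ K < Cfsg.Geo.omegaGL Q := by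
  obtain ⟨Q, rfl, hf, hp⟩ := LagPair.exists_setup hQ hD hts
  have hQs : ∀ i, ∀ x ∈ D i, Q x = 0 := hts
  obtain ⟨hEG, -⟩ := LagPair.omega_facts hf hp (by omega) hQs
  have hfix : ∀ g ∈ Geo.decompositionStabilizer D ⊓ Geo.omegaGL ⇑Q,
      g ∈ Geo.subspaceStabilizer (D 0) := by
    intro g hg
    obtain ⟨σ, hσ⟩ := hg.1
    have himg : ∀ i, ∀ x ∈ D i, Matrix.mulVec (g : Matrix (Fin n) (Fin n) F) x ∈ D (σ i) :=
      fun i x hx => by
        rw [← hσ i, Matrix.toLin'_apply']
        exact Submodule.mem_map_of_mem (f := Matrix.mulVecLin _) hx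
    refine MaxSub.mem_subspaceStabilizer fun x hx => ?_
    rcases Fin.exists_fin_two.mp ⟨σ 0, rfl⟩ with h0 | h0
    · exact h0 ▸ himg 0 x hx
    exfalso
    have h1 : σ 1 = 0 := by
      rcases Fin.exists_fin_two.mp ⟨σ 1, rfl⟩ with h | h
      · exact h
      · exact absurd (σ.injective (h0.trans h.symm)) (by decide)
    exact LagPair.odd_dickson_swap hf hp (by omega) hko hQs hg.2 (fun y hy => h0 ▸ himg 0 y hy)
      (fun y hy => h1 ▸ himg 1 y hy)
  refine ⟨Geo.subspaceStabilizer (D 0) ⊓ Geo.omegaGL ⇑Q,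
    lt_of_le_not_ge (fun g hg => ⟨hfix g hg, hg.2⟩) ?_, lt_of_le_not_ge inf_le_right ?_⟩
  · intro hle
    obtain ⟨a, ha, b, hb, y, hy, a', ha', ha'0, hEy⟩ := LagPair.E_notMem hf hp (by omega)
    have hmem : LagPair.E (QuadraticMap.polar ⇑Q) (-1 : F) a b ∈
        Geo.subspaceStabilizer (D 0) ⊓ Geo.omegaGL ⇑Q :=
      ⟨MaxSub.mem_subspaceStabilizer fun x hx => by
        rw [LagPair.E_mulVec hf (hp.iso₁ a ha a ha) (hp.iso₁ b hb b hb) (hp.iso₁ a ha b hb),
          hp.iso₁ x hx a ha, hp.iso₁ x hx b hb]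
        simpa using hx, hEG a b (hQs 0 a ha) (hQs 0 b hb) (hp.iso₁ a ha b hb)⟩
    obtain ⟨σ, hσ⟩ := (hle hmem).1
    have h1 : y + a' ∈ D (σ 1) := by
      rw [← hEy, ← hσ 1, Matrix.toLin'_apply']
      exact Submodule.mem_map_of_mem (f := Matrix.mulVecLin _) hy
    rcases Fin.exists_fin_two.mp ⟨σ 1, rfl⟩ with hc | hc <;> rw [hc] at h1
    · have hy0 : y = 0 := hp.eq_zero (by simpa using sub_mem h1 ha') hy
      rw [hy0, Matrix.mulVec_zero, zero_add] at hEy
      exact ha'0 hEy.symm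
    · exact ha'0 (hp.eq_zero ha' (by simpa using sub_mem h1 hy))
  · intro hle
    obtain ⟨a, ha, b, hb, y, hy, a', ha', ha'0, hEy⟩ := LagPair.E_notMem hf hp.symm (by omega)
    have h := ((hle (hEG a b (hQs 1 a ha) (hQs 1 b hb) (hp.iso₂ a ha b hb))).1 y).1 hy
    change Matrix.mulVec (LagPair.E (QuadraticMap.polar ⇑Q) (-1 : F) a b :
      Matrix (Fin n) (Fin n) F) y ∈ D 0 at h
    rw [hEy] at h
    exact ha'0 (hp.eq_zero (by simpa using sub_mem h hy) ha')

end Cfsg.Agent.S5698
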