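import Cfsg.Statements.S5699
import Cfsg.Agent.MaxSub.OrthStabGL

set_option autoImplicit false
open Cfsg
open scoped Matrix

namespace Cfsg.Agent.S5699

/-- Let F be a finite field with q elements, n ≥ 13 even, Q a non-degenerate quadratic form on F^n (of either type), and Ω the commutator subgroup of the isometry group of Q, viewed inside GL_n(F). Let D be a decomposition of F^n into two orthogonal subspaces of odd dimension n/2 on which the polar form is non-degenerate and which are not Q-isometric to each other. Then the elements of Ω permuting (necessarily fixing) the two subspaces form a maximal subgroup of Ω. -/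
theorem result {F : Type*} [Field F] [Fintype F] {n : ℕ} (hn : 13 ≤ n) (heven : Even n) (Q : (Fin n → F) → F) (hQ : Cfsg.Geo.IsNondegenerateQuadraticForm Q) (k : ℕ) (hk : 2 * k = n) (hko : Odd k) (D : Fin 2 → Submodule F (Fin n → F)) (hD : Cfsg.Geo.IsNondegenerateMDecomposition (QuadraticMap.polar Q) k D) (hni : ¬ Cfsg.Geo.AreIsometricFor Q (D 0) (D 1)) : Cfsg.Geo.IsMaximalIn (Cfsg.Geo.omegaGL Q) (Cfsg.Geo.decompositionStabilizer D ⊓ Cfsg.Geo.omegaGL Q) := by
  obtain ⟨Qf, rfl⟩ : ∃ Qf : QuadraticForm F (Fin n → F), Q = ⇑Qf :=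
    ⟨QuadraticMap.ofPolar Q (fun a x => by rw [smul_eq_mul, hQ.smul, sq])
      hQ.polar_bilinear.add_left
      (fun a x y => by rw [smul_eq_mul]; exact hQ.polar_bilinear.smul_left a x y), rfl⟩
  have hnd : UnitaryOrthogonal.PolarND Qf := fun u hu => by
    by_contra h
    obtain ⟨x, hx⟩ := (hQ.nondegenerate u h).2
    exact hx (hu x)
  have hp : OrthStab.IsOrthPair Qf (D 0) (D 1) := by
    refine ⟨hnd, ⟨hD.decomp.indep.pairwiseDisjoint (by decide), codisjoint_iff.mpr ?_⟩,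
      hD.orthogonal 0 1 (by decide)⟩
    rw [eq_top_iff, ← hD.decomp.iSup_eq_top, iSup_le_iff]
    exact Fin.forall_fin_two.mpr ⟨le_sup_left, le_sup_right⟩
  have hk0 := hD.decomp.finrank_eq 0
  have hk1 := hD.decomp.finrank_eq 1
  refine OrthStab.isMaximalIn_of_orthPair hp (by omega)
    (fun e => ?_) (fun _ h2 => ?_)
    (fun g hg => hni (OrthStab.areIsometricFor_of_map g hg (by rw [hk0, hk1])).1)
    inf_le_right fun g hg => ⟨fun hh x hx => ?_, fun hh => ?_⟩
  · rw [e, finrank_bot] at hk1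
    omega
  · omega
  · obtain ⟨σ, hσ⟩ := hh.1
    obtain ⟨g₀, -, rfl⟩ := hg
    have hmem : (g₀.1 : Matrix (Fin n) (Fin n) F) *ᵥ x ∈ D (σ 0) := by
      rw [← hσ 0]; exact ⟨x, hx, Matrix.toLin'_apply _ _⟩
    obtain h0 | h1 : σ 0 = 0 ∨ σ 0 = 1 := by omega
    · rwa [h0] at hmem
    · exfalso
      refine hni (OrthStab.areIsometricFor_of_map
        (UnitaryOrthogonal.isometryGroupEquiv Qf (f := ⇑Qf) (fun _ => rfl) g₀)
        (W₁ := D 0) (W₂ := D 1) (fun y hy => ?_) (by rw [hk0, hk1])).1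
      show (g₀.1 : Matrix (Fin n) (Fin n) F) *ᵥ y ∈ D 1
      rw [← h1, ← hσ 0]; exact ⟨y, hy, Matrix.toLin'_apply _ _⟩
  · obtain ⟨g₀, hg₀, rfl⟩ := hg
    refine ⟨⟨1, fun i => ?_⟩, ⟨g₀, hg₀, rfl⟩⟩
    have key : ∀ i, ∀ x ∈ D i, (g₀.1 : Matrix (Fin n) (Fin n) F) *ᵥ x ∈ D i :=
      Fin.forall_fin_two.mpr ⟨hh,
        hp.map_mem₂ (UnitaryOrthogonal.isometryGroupEquiv Qf (f := ⇑Qf) (fun _ => rfl) g₀) hh⟩
    refine Submodule.eq_of_le_of_finrank_eq ?_ ?_
    · rintro _ ⟨x, hx, rfl⟩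
      simpa [Matrix.toLin'_apply] using key i x hx
    · rw [← (Submodule.equivMapOfInjective _ ?_ (D i)).finrank_eq]
      · rfl
      · intro a b hab
        exact MaxSub.mulVec_injective g₀.1 (by simpa [Matrix.toLin'_apply] using hab)

end Cfsg.Agent.S5699
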