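import Cfsg.Statements.S5700
import Cfsg.Agent.MaxSub.UnitaryInOmega

set_option autoImplicit false
open Cfsg

namespace Cfsg.Agent.S5700

/-- Let F be a finite field with q elements, n ≥ 13 even, Q a non-degenerate quadratic form on F^n (of either type), and Ω the commutator subgroup of the isometry group of Q, viewed inside GL_n(F). Let K be a subfield of the algebra of n × n matrices over F containing the scalars, of degree 2 over F, closed under adjoints for the polar form of Q but not consisting of self-adjoint elements, and such that every k in K rescales Q (Q(k v) = c Q(v) for a constant c depending on k). Then the elements of Ω normalising K form a maximal subgroup of Ω. -/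
theorem result {F : Type*} [Field F] [Fintype F] {n : ℕ} (hn : 13 ≤ n) (heven : Even n) (Q : (Fin n → F) → F) (hQ : Cfsg.Geo.IsNondegenerateQuadraticForm Q) (K : Subalgebra F (Matrix (Fin n) (Fin n) F)) (hK : Cfsg.Geo.IsFieldSubalgebra 2 K) (hac : Cfsg.Geo.IsAdjointClosedFor (QuadraticMap.polar Q) K) (hnsa : ¬ Cfsg.Geo.IsSelfAdjointFor (QuadraticMap.polar Q) K) (hsc : ∀ k ∈ K, ∃ c : F, ∀ v : (Fin n → F), Q (Matrix.mulVec k v) = c * Q v) : Cfsg.Geo.IsMaximalIn (Cfsg.Geo.omegaGL Q) (Cfsg.Geo.subalgebraNormalizer K ⊓ Cfsg.Geo.omegaGL Q) := by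
  classical
  obtain ⟨Qf, rfl, hnd⟩ := OrthStab.exists_form hQ
  have hfin : Module.finrank F (Fin n → F) = n := by simp
  have h14 : 10 ≤ Module.finrank F (Fin n → F) := by
    obtain ⟨r, hr⟩ := heven; omega
  haveI : Nonempty (Fin n) := ⟨⟨0, by omega⟩⟩
  have cancel : ∀ A B : Matrix (Fin n) (Fin n) F, (∀ u v, QuadraticMap.polar Qf u (Matrix.mulVec A v) =
      QuadraticMap.polar Qf u (Matrix.mulVec B v)) → A = B := fun A B h =>
    Matrix.ext_iff_mulVec.mpr fun v => sub_eq_zero.mp (hnd _ fun u => by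
      rw [QuadraticMap.polar_comm, QuadraticMap.polar_sub_right, h, sub_self])
  obtain ⟨k, hk, hkn⟩ : ∃ k ∈ K, ¬ ∀ u v, QuadraticMap.polar Qf (Matrix.mulVec k u) v =
      QuadraticMap.polar Qf u (Matrix.mulVec k v) := by
    simpa [Cfsg.Geo.IsSelfAdjointFor] using hnsa
  obtain ⟨k', hk', hadj⟩ := hac k hk
  have hkns : ∀ c : F, k ≠ c • 1 := fun c h => hkn fun u v => by
    simp [h, Matrix.smul_mulVec, QuadraticMap.polar_smul_left, QuadraticMap.polar_smul_right]
  have hli : LinearIndependent F ![(1 : Matrix (Fin n) (Fin n) F), k] :=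
    (LinearIndependent.pair_iff' one_ne_zero).mpr fun c h => hkns c h.symm
  have hspan : Submodule.span F (Set.range ![(1 : Matrix (Fin n) (Fin n) F), k]) =
      Subalgebra.toSubmodule K := by
    refine Submodule.eq_of_le_of_finrank_eq (Submodule.span_le.mpr ?_) ?_
    · rintro _ ⟨i, rfl⟩
      fin_cases i
      · exact one_mem K
      · exact hk
    · rw [finrank_span_eq_card hli, Subalgebra.finrank_toSubmodule, hK.finrank_eq]
      simp
  have hgen : ∀ x ∈ K, ∃ a b : F, x = a • 1 + b • k := fun x hx => by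
    have hx' : x ∈ Subalgebra.toSubmodule K := hx
    rw [← hspan, Submodule.mem_span_range_iff_exists_fun] at hx'
    obtain ⟨c, rfl⟩ := hx'
    exact ⟨c 0, c 1, by simp [Fin.sum_univ_two]⟩
  have hadj' : ∀ u v, QuadraticMap.polar Qf (Matrix.mulVec k' u) v =
      QuadraticMap.polar Qf u (Matrix.mulVec k v) := fun u v => by
    rw [QuadraticMap.polar_comm, ← hadj, QuadraticMap.polar_comm]
  obtain ⟨x, y, hxy⟩ := hgen k' hk'
  -- the adjoint of `k` is `t - k`
  have hkk' : k + k' = x • 1 := by
    have h1 : k = x • 1 + y • k' := cancel _ _ fun u v => by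
      rw [← hadj', hxy]
      simp only [Matrix.add_mulVec, Matrix.smul_mulVec, Matrix.one_mulVec,
        QuadraticMap.polar_add_left, QuadraticMap.polar_smul_left, QuadraticMap.polar_add_right,
        QuadraticMap.polar_smul_right, hadj]
      rw [hxy]
      simp only [Matrix.add_mulVec, Matrix.smul_mulVec, Matrix.one_mulVec,
        QuadraticMap.polar_add_right, QuadraticMap.polar_smul_right]
    rw [hxy, smul_add, smul_smul, smul_smul, ← add_assoc, ← add_smul] at h1
    obtain ⟨e1, e2⟩ := LinearIndependent.pair_iff.mp hli (x + y * x) (y * y - 1)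
      (by rw [sub_smul, one_smul, ← add_sub_assoc, ← h1, sub_self])
    rcases mul_self_eq_one_iff.mp (sub_eq_zero.mp e2) with hy | hy
    · by_cases hx : x = 0
      · exact absurd (fun u v => by rw [hadj, hxy, hx, hy, zero_smul, one_smul, zero_add]) hkn
      have h2 : (2 : F) = 0 := by
        have : (2 : F) * x = 0 := by rw [hy] at e1; linear_combination e1
        exact (mul_eq_zero.mp this).resolve_right hx
      rw [hxy, hy, one_smul, add_left_comm, ← two_smul F k, h2, zero_smul, add_zero]
    · rw [hxy, hy, neg_one_smul]; abel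
  obtain ⟨d, hd⟩ := hsc k hk
  have hkk : k' * k = d • 1 := cancel _ _ fun u v => by
    rw [← Matrix.mulVec_mulVec, ← hadj, Matrix.smul_mulVec, Matrix.one_mulVec,
      QuadraticMap.polar_smul_right, smul_eq_mul]
    simp only [QuadraticMap.polar, ← Matrix.mulVec_add, hd]
    ring
  have hsq : k * k = x • k - d • 1 := by
    have : (k + k') * k = x • k := by rw [hkk', Matrix.smul_mul, one_mul]
    rw [add_mul, hkk] at this
    exact eq_sub_of_add_eq this
  have hs : UnitaryInOmega.IsFieldGen Qf k.mulVecLin x d := by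
    refine ⟨hnd, fun v => ?_, fun r hr => ?_, fun u v => ?_, hd, fun v hv => ?_⟩
    · simp only [Matrix.mulVecLin_apply]
      rw [Matrix.mulVec_mulVec, hsq, Matrix.sub_mulVec, Matrix.smul_mulVec, Matrix.smul_mulVec,
        Matrix.one_mulVec]
    · have hne : k - r • 1 ≠ 0 := fun h => hkns r (sub_eq_zero.mp h)
      obtain ⟨y, -, hy⟩ := hK.inv _ (sub_mem hk (Subalgebra.smul_mem K (one_mem K) r)) hne
      have hprod : (k + (r - x) • 1) * (k - r • 1) = 0 := by
        simp only [add_mul, mul_sub, Matrix.smul_mul, Matrix.mul_smul, one_mul, mul_one, hsq,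
          smul_smul]
        rw [show r * r - r * x = -d by linear_combination hr]
        module
      have := congrArg (· * y) hprod
      simp only [mul_assoc, hy, mul_one, zero_mul] at this
      exact hkns (-(r - x)) (by rw [neg_smul]; exact eq_neg_of_add_eq_zero_left this)
    · simp only [Matrix.mulVecLin_apply]
      have : k' = x • 1 - k := eq_sub_of_add_eq (by rw [add_comm, hkk'])
      rw [hadj, this, Matrix.sub_mulVec, Matrix.smul_mulVec, Matrix.one_mulVec,
        QuadraticMap.polar_sub_right, QuadraticMap.polar_smul_right, smul_eq_mul]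
    · obtain ⟨c, hc⟩ := hsc (k + 1) (add_mem hk (one_mem K))
      have := hc v
      rw [Matrix.add_mulVec, Matrix.one_mulVec, UnitaryOrthogonal.form_add, hd, hv] at this
      rw [Matrix.mulVecLin_apply, QuadraticMap.polar_comm]
      simpa using this
  have h5 : 5 ≤ Module.finrank F (Fin n → F) := by omega
  -- commuting elements normalise `K`
  have hnorm : ∀ g₀ : Cfsg.isometryGroup F ⇑Qf,
      ((∀ v, (OrthStab.toOrth g₀).1 (k.mulVecLin v) = k.mulVecLin ((OrthStab.toOrth g₀).1 v)) ∨
        ∀ v, (OrthStab.toOrth g₀).1 (k.mulVecLin v) =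
          x • (OrthStab.toOrth g₀).1 v - k.mulVecLin ((OrthStab.toOrth g₀).1 v)) →
      g₀.1 ∈ Cfsg.Geo.subalgebraNormalizer K := by
    intro g₀ h
    set g := g₀.1 with hgdef
    obtain ⟨a, b, hb, hab, hconj⟩ : ∃ a b : F, b * b = 1 ∧ a + b * a = 0 ∧
        (g : Matrix (Fin n) (Fin n) F) * k * ((g⁻¹ : GL (Fin n) F) : Matrix (Fin n) (Fin n) F) =
          a • 1 + b • k := by
      rcases h with h | h
      · refine ⟨0, 1, one_mul 1, by ring, ?_⟩
        rw [show (g : Matrix (Fin n) (Fin n) F) * k = k * (g : Matrix (Fin n) (Fin n) F) from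
          Matrix.ext_iff_mulVec.mpr fun v => by
            rw [← Matrix.mulVec_mulVec, ← Matrix.mulVec_mulVec]; exact h v,
          mul_assoc, Units.mul_inv, mul_one, one_smul, zero_smul, zero_add]
      · refine ⟨x, -1, by ring, by ring, ?_⟩
        rw [show (g : Matrix (Fin n) (Fin n) F) * k =
            (x • 1 - k) * (g : Matrix (Fin n) (Fin n) F) from
          Matrix.ext_iff_mulVec.mpr fun v => by
            rw [← Matrix.mulVec_mulVec, ← Matrix.mulVec_mulVec, Matrix.sub_mulVec,
              Matrix.smul_mulVec, Matrix.one_mulVec]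
            exact h v,
          mul_assoc, Units.mul_inv, mul_one, neg_one_smul, sub_eq_add_neg]
    intro z
    have hmap : ∀ c e : F, (g : Matrix (Fin n) (Fin n) F) * (c • 1 + e • k) *
        ((g⁻¹ : GL (Fin n) F) : Matrix (Fin n) (Fin n) F) = (c + e * a) • 1 + (e * b) • k :=
      fun c e => by
        simp only [mul_add, add_mul, Matrix.mul_smul, Matrix.smul_mul, mul_one, Units.mul_inv,
          hconj, smul_smul, smul_add, add_smul]
        abel
    have hmemK : ∀ c e : F, c • 1 + e • k ∈ K := fun c e =>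
      add_mem (Subalgebra.smul_mem K (one_mem K) c) (Subalgebra.smul_mem K hk e)
    constructor
    · intro hz
      obtain ⟨c, e, rfl⟩ := hgen z hz
      rw [hmap]; exact hmemK _ _
    · intro hz
      obtain ⟨c, e, hce⟩ := hgen _ hz
      have h1 := hmap (c - e * b * a) (e * b)
      rw [sub_add_cancel, show e * b * b = e by rw [mul_assoc, hb, mul_one], ← hce] at h1
      have h3 := congrArg (fun w => ((g⁻¹ : GL (Fin n) F) : Matrix (Fin n) (Fin n) F) * w *
        (g : Matrix (Fin n) (Fin n) F)) h1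
      simp only [mul_assoc, Units.inv_mul, mul_one] at h3
      simp only [← mul_assoc, Units.inv_mul, one_mul] at h3
      exact h3 ▸ hmemK _ _
  refine ⟨lt_of_le_of_ne inf_le_right fun e => ?_, fun M hle hMΩ => ?_⟩
  · -- a root element moving a field line
    obtain ⟨p, hpn, hp, -⟩ := UnitaryInOmega.perp hs h14 (![] : Fin 0 → Fin n → F)
      (![] : Fin 0 → Fin n → F) (by omega)
    have hp0 : p ≠ 0 := fun h => hpn (h ▸ zero_mem _)
    have hjp : k.mulVecLin p ∉ Submodule.span F (Set.range ![p]) := fun hm => by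
      obtain ⟨c, hc⟩ := (Submodule.mem_span_range_iff_exists_fun F).mp hm
      rw [Fin.sum_univ_one, Matrix.cons_val_zero] at hc
      obtain ⟨w, hw, -, -⟩ := UnitaryInOmega.perp hs h14 (![] : Fin 0 → Fin n → F)
        ![p, k.mulVecLin p] (by omega)
      have := (UnitaryInOmega.indep_K hs hp0 hw (a := c 0) (b := -1) (c := 0) (e := 0)
        (by rw [← sub_eq_zero.mpr hc]; module)).2.1
      exact one_ne_zero (neg_eq_zero.mp this)
    obtain ⟨z, hz, hzp, hzy⟩ := UnitaryInOmega.value hs h14 _ hjp (by omega)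
    obtain ⟨c, hcn, hc, hcp⟩ := UnitaryInOmega.perp hs h14 ![p, k.mulVecLin p, z]
      ![p, k.mulVecLin p] (by omega)
    have hcz : QuadraticMap.polar Qf c z = 0 := hcp 2
    obtain ⟨g₀, hg₀, hgeq⟩ := OrthStab.exists_lift hnd h5
      (UnitaryOrthogonal.eich_mem_eichGroup (Q := Qf) c z)
    rw [← e] at hg₀
    obtain ⟨a, b, hab⟩ := hgen _ ((hg₀.1 k).mp hk)
    have h1 := congrArg (fun w => Matrix.mulVec w
      (Matrix.mulVec (g₀.1 : Matrix (Fin n) (Fin n) F) p)) hab
    simp only [Matrix.mulVec_mulVec, mul_assoc, Units.inv_mul, mul_one] at h1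
    simp only [add_mul, Matrix.smul_mul, one_mul, Matrix.add_mulVec, Matrix.smul_mulVec,
      ← Matrix.mulVec_mulVec] at h1
    have hact : ∀ v, Matrix.mulVec (g₀.1 : Matrix (Fin n) (Fin n) F) v =
        (UnitaryOrthogonal.eich Qf c z).1 v := fun v => by rw [← hgeq]; rfl
    rw [hact, hact, UnitaryOrthogonal.eich_apply hc hcz, UnitaryOrthogonal.eich_apply hc hcz,
      show QuadraticMap.polar Qf c p = 0 from hcp 0,
      show QuadraticMap.polar Qf c (Matrix.mulVec k p) = 0 from hcp 1,
      show QuadraticMap.polar Qf z p = 0 from hzp 0,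
      show QuadraticMap.polar Qf z (Matrix.mulVec k p) = 1 from hzy] at h1
    simp only [zero_smul, add_zero, sub_zero, mul_zero, one_smul] at h1
    refine hcn ((Submodule.mem_span_range_iff_exists_fun F).mpr ⟨![-a, 1 - b], ?_⟩)
    simp only [Fin.sum_univ_two, Matrix.cons_val_zero, Matrix.cons_val_one,
      Matrix.cons_val_fin_one, Matrix.mulVecLin_apply]
    rw [← sub_eq_zero, ← sub_eq_zero.mpr h1]
    module
  · by_cases hMH : M = Cfsg.Geo.subalgebraNormalizer K ⊓ Cfsg.Geo.omegaGL ⇑Qf
    · exact Or.inl hMH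
    obtain ⟨g, hgM, hgH⟩ := SetLike.exists_of_lt (lt_of_le_of_ne hle (Ne.symm hMH))
    obtain ⟨g₀, hg₀, rfl⟩ := hMΩ hgM
    let M' : Subgroup (UnitaryOrthogonal.orth Qf) :=
      (M.comap (Cfsg.isometryGroup F ⇑Qf).subtype).map
        (UnitaryOrthogonal.isometryGroupEquiv Qf (f := ⇑Qf) (fun _ => rfl)).toMonoidHom
    have hM' : ∀ v (l : F), Qf v = 0 →
        UnitaryOrthogonal.eich Qf v (l • k.mulVecLin v) ∈ M' := fun v l hv => by
      obtain ⟨h₀, hh₀, hheq⟩ := OrthStab.exists_lift hnd h5
        (UnitaryOrthogonal.eich_mem_eichGroup (Q := Qf) v (l • k.mulVecLin v))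
      refine ⟨h₀, hle ⟨hnorm h₀ (Or.inl fun w => ?_), hh₀⟩, hheq⟩
      rw [hheq]
      exact UnitaryInOmega.eich_comm hs hv l w
    have hgen' := UnitaryInOmega.eichGroup_le hs h14 hM' (g := OrthStab.toOrth g₀)
      ⟨g₀, hgM, rfl⟩ fun h => hgH ⟨hnorm g₀ h, hMΩ hgM⟩
    refine Or.inr (le_antisymm hMΩ ?_)
    rintro _ ⟨g₁, hg₁, rfl⟩
    obtain ⟨g₂, hg₂, hgg⟩ := hgen' ((OrthStab.mem_omega_iff hnd h5 g₁).mp hg₁)
    exact ((UnitaryOrthogonal.isometryGroupEquiv Qf (f := ⇑Qf) (fun _ => rfl)).injective hgg) ▸ hg₂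

end Cfsg.Agent.S5700
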