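import Cfsg.Statements.S5705
import Cfsg.Agent.Classical10.NotMax.TensorTwo
import Cfsg.Agent.Classical10.NotMax.Orth
import Cfsg.Agent.MaxSub.OrthVectorGL
-- import your own Cfsg.Agent.* helpers here

set_option autoImplicit false
open Cfsg
open scoped Matrix MatrixGroups

namespace Cfsg.Agent.S5705

/-- Let F be the field with 2 elements, n = 2 n₂ ≥ 13 even, Q a non-degenerate quadratic form on F^n of plus type and Ω the commutator subgroup of its isometry group. Suppose that, through P and e, the polar form of Q is similar to the tensor product of non-degenerate symplectic forms f₁ on F^2 and f₂ on F^(n₂), and Q vanishes on the images of all pure tensors. Then the elements of Ω in the stabiliser of this tensor decomposition form a subgroup that is not maximal: some subgroup lies strictly between it and Ω. -/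
theorem result {F : Type*} [Field F] [Fintype F] {n : ℕ} (hn : 13 ≤ n) (heven : Even n) (Q : (Fin n → F) → F) (hQ : Cfsg.Geo.IsNondegenerateQuadraticForm Q) (hplus : Cfsg.Geo.IsPlusTypeOn Q ⊤) (hq : Fintype.card F = 2) (n₂ : ℕ) (h2 : 2 < n₂) (e : (Fin n) ≃ Fin 2 × Fin n₂) (P : Matrix.GeneralLinearGroup (Fin n) F) (f₁ : (Fin 2 → F) → (Fin 2 → F) → F) (f₂ : (Fin n₂ → F) → (Fin n₂ → F) → F) (hf₁ : Cfsg.Geo.IsSymplecticForm f₁) (hf₂ : Cfsg.Geo.IsSymplecticForm f₂) (hT : Cfsg.Geo.IsTensorFormStructure id (QuadraticMap.polar Q) f₁ f₂ e P) (hpure : (∀ (x₁ : Fin 2 → F) (x₂ : Fin n₂ → F), Q (Matrix.mulVec (P : Matrix (Fin n) (Fin n) F) ((fun a : Fin 2 × Fin n₂ => x₁ a.1 * x₂ a.2) ∘ e)) = 0)) : ∃ K : Subgroup (Matrix.GeneralLinearGroup (Fin n) F), Cfsg.Geo.tensorProductSubgroup 2 n₂ e P ⊓ Cfsg.Geo.omegaGL Q < K ∧ K < Cfsg.Geo.omegaGL Q := by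
  obtain ⟨Qf, rfl, hnd⟩ := OrthStab.exists_form hQ
  obtain ⟨X, hX, hXu, hle⟩ := NotMax.exists_structure hq e P
  obtain ⟨c, hc, hT⟩ := hT
  have h20 := NotMax.two_eq_zero hq
  have hb₁ := hf₁.bilinear
  have hb₂ := hf₂.bilinear
  let τ := NotMax.ten e P
  have hc1 : c = 1 := (NotMax.zero_or_one hq c).resolve_left hc
  have hτ : ∀ x y x' y', QuadraticMap.polar Qf (τ x y) (τ x' y') = f₁ x x' * f₂ y y' :=
    fun x y x' y' => by
      rw [NotMax.form_ten (σ := RingHom.id F) hT
        (NotMax.eq_formOfGram _ hb₁.add_left hb₁.smul_left hb₁.add_right hb₁.smul_right)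
        (NotMax.eq_formOfGram _ hb₂.add_left hb₂.smul_left hb₂.add_right hb₂.smul_right), hc1, one_mul]
  have hQτ : ∀ x y, Qf (τ x y) = 0 := hpure
  set a : Fin 2 → F := Pi.single 0 1 with ha
  set b : Fin 2 → F := Pi.single 1 1 with hb
  have hJa : NotMax.jMat F *ᵥ a = b := by ext i; fin_cases i <;> simp [NotMax.jMat, ha, hb]
  have hJb : NotMax.jMat F *ᵥ b = a + b := by ext i; fin_cases i <;> simp [NotMax.jMat, ha, hb]
  have hxsum : ∀ x : Fin 2 → F, x = x 0 • a + x 1 • b := fun x => by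
    ext i; fin_cases i <;> simp [ha, hb]
  have ha0 : a ≠ 0 := fun h => by simpa [ha] using congrFun h 0
  have hab : f₁ a b = 1 := by
    refine (NotMax.zero_or_one hq _).resolve_left fun h => ?_
    obtain ⟨x, hx⟩ := (hf₁.nondegenerate a ha0).2
    rw [hxsum x, hb₁.add_right, hb₁.smul_right, hb₁.smul_right, h, hf₁.alternating] at hx
    simp at hx
  have hba : f₁ b a = 1 := by rw [hf₁.skew, hab]; linear_combination -h20
  have haa := hf₁.alternating a
  have hbb := hf₁.alternating b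
  have hJinv : ∀ x x', f₁ (NotMax.jMat F *ᵥ x) (NotMax.jMat F *ᵥ x') = f₁ x x' := fun x x' => by
    rw [hxsum x, hxsum x']
    simp only [Matrix.mulVec_add, Matrix.mulVec_smul, hJa, hJb, hb₁.add_left, hb₁.add_right,
      hb₁.smul_left, hb₁.smul_right, haa, hbb, hab, hba]
    linear_combination (x 1 * x' 1) * h20
  -- choose `q`, `q'`, `s`
  haveI : Nonempty (Fin n₂) := ⟨⟨0, by omega⟩⟩
  obtain ⟨q, hq0⟩ := exists_ne (0 : Fin n₂ → F)
  obtain ⟨s₀, hs₀⟩ := (hf₂.nondegenerate q hq0).2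
  have hqs₀ : f₂ q s₀ = 1 := (NotMax.zero_or_one hq _).resolve_left hs₀
  obtain ⟨q', hq'0, hqq', hs₀q'⟩ : ∃ q', q' ≠ 0 ∧ f₂ q q' = 0 ∧ f₂ s₀ q' = 0 := by
    let φ : (Fin n₂ → F) →ₗ[F] F × F :=
      LinearMap.prod (MaxSub.rmap hb₂ q) (MaxSub.rmap hb₂ s₀)
    have h := LinearMap.finrank_range_add_finrank_ker φ
    have hle : Module.finrank F (LinearMap.range φ) ≤ 2 :=
      (Submodule.finrank_le _).trans_eq (by simp)
    rw [Module.finrank_fintype_fun_eq_card, Fintype.card_fin] at h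
    obtain ⟨z, hz, hz0⟩ := Submodule.exists_mem_ne_zero_of_ne_bot
      (show LinearMap.ker φ ≠ ⊥ from fun e => by rw [e, finrank_bot] at h; omega)
    have hz' := LinearMap.mem_ker.mp hz
    exact ⟨z, hz0, congrArg Prod.fst hz', congrArg Prod.snd hz'⟩
  have hq'q : f₂ q' q = 0 := by rw [hf₂.skew, hqq', neg_zero]
  have hq's₀ : f₂ q' s₀ = 0 := by rw [hf₂.skew, hs₀q', neg_zero]
  have hs₀q : f₂ s₀ q = 1 := by rw [hf₂.skew, hqs₀]; linear_combination -h20
  have hqq := hf₂.alternating q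
  have hq'q' := hf₂.alternating q'
  -- the first element
  set v := τ a q + τ b q' with hv
  set w := τ b q + τ (a + b) q' with hw
  have hQv : Qf v = 0 := by
    rw [hv, UnitaryOrthogonal.form_add, hQτ, hQτ, hτ, hqq']; simp
  have hQw : Qf w = 0 := by
    rw [hw, UnitaryOrthogonal.form_add, hQτ, hQτ, hτ, hqq']; simp
  have hvw : QuadraticMap.polar Qf v w = 0 := by
    simp [hv, hw, QuadraticMap.polar_add_left, QuadraticMap.polar_add_right, hτ, hqq, hq'q', hqq',
      hq'q]
  obtain ⟨g, hg, hgx⟩ := NotMax.exists_omega_eich hnd (by simp; omega) hQv hvw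
  obtain ⟨y, hy, hyx⟩ := NotMax.exists_omega_eich hnd (by simp; omega) (hQτ a q)
    (z := τ b q') (by rw [hτ, hqq', mul_zero])
  have hpoly : ∀ x y, QuadraticMap.polar Qf ((X : Matrix (Fin n) (Fin n) F) *ᵥ x)
      ((X : Matrix (Fin n) (Fin n) F) *ᵥ y) = QuadraticMap.polar Qf x y := fun x y => by
    refine NotMax.ten_induction e P (p := fun x => QuadraticMap.polar Qf
      ((X : Matrix (Fin n) (Fin n) F) *ᵥ x) ((X : Matrix (Fin n) (Fin n) F) *ᵥ y) =
        QuadraticMap.polar Qf x y) (by simp) (fun x x' h h' => ?_) (fun u s => ?_) x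
    · rw [Matrix.mulVec_add, QuadraticMap.polar_add_left, QuadraticMap.polar_add_left, h, h']
    refine NotMax.ten_induction e P (p := fun y => QuadraticMap.polar Qf
      ((X : Matrix (Fin n) (Fin n) F) *ᵥ NotMax.ten e P u s) ((X : Matrix (Fin n) (Fin n) F) *ᵥ y) =
        QuadraticMap.polar Qf (NotMax.ten e P u s) y) (by simp) (fun x x' h h' => ?_) (fun u' s' => ?_) y
    · rw [Matrix.mulVec_add, QuadraticMap.polar_add_right, QuadraticMap.polar_add_right, h, h']
    rw [hXu, hXu, hτ, hτ, hJinv]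
  have hxx : ∀ x : Fin n → F, x + x = 0 := fun x => funext fun j => by
    simp only [Pi.add_apply, Pi.zero_apply]; linear_combination (x j) * h20
  have hXv : (X : Matrix (Fin n) (Fin n) F) *ᵥ v = w := by
    rw [hv, hw, Matrix.mulVec_add, hXu, hXu, hJa, hJb]
  have hXw : (X : Matrix (Fin n) (Fin n) F) *ᵥ w = v + w := by
    rw [hw, Matrix.mulVec_add, hXu, hXu, Matrix.mulVec_add, hJa, hJb, hv]
    show τ (a + b) q + τ (b + (a + b)) q' = τ a q + τ b q' + (τ b q + τ (a + b) q')
    simp only [map_add, LinearMap.add_apply]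
    abel
  refine NotMax.exists_between (NotMax.sqStab X hX ⊓ Geo.omegaGL ⇑Qf)
    (fun g hg => ⟨hle hg.1, hg.2⟩) inf_le_right g
    ⟨NotMax.mem_sqStab.mpr (Or.inl (MaxSub.gl_ext fun x => ?_)), hg⟩ ?_ y hy ?_
  · rw [Units.val_mul, Units.val_mul, ← Matrix.mulVec_mulVec, ← Matrix.mulVec_mulVec, hgx, hgx, hQw,
      zero_mul, zero_smul, sub_zero, zero_mul, zero_smul, sub_zero]
    have e1 := hpoly v x
    have e2 := hpoly w x
    rw [hXv] at e1
    rw [hXw, QuadraticMap.polar_add_left, e1] at e2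
    rw [e1, Matrix.mulVec_sub, Matrix.mulVec_add, Matrix.mulVec_smul, Matrix.mulVec_smul, hXv, hXw,
      show QuadraticMap.polar Qf v ((X : Matrix (Fin n) (Fin n) F) *ᵥ x) =
        QuadraticMap.polar Qf w x - QuadraticMap.polar Qf v x by linear_combination e2]
    ext j
    simp only [Pi.add_apply, Pi.sub_apply, Pi.smul_apply, smul_eq_mul]
    linear_combination (QuadraticMap.polar Qf w x * w j - QuadraticMap.polar Qf v x * w j -
        QuadraticMap.polar Qf v x * v j) * h20
  · rintro ⟨hg', -⟩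
    obtain ⟨A, B, hAB⟩ := NotMax.exists_of_mem_tensorProductSubgroup hg'
    have hv1 : QuadraticMap.polar Qf v (τ a s₀) = 0 := by
      simp [hv, QuadraticMap.polar_add_left, hτ, haa, hq's₀]
    have hw1 : QuadraticMap.polar Qf w (τ a s₀) = 1 := by
      simp [hw, QuadraticMap.polar_add_left, hτ, hba, hqs₀, hq's₀]
    have h := hAB a s₀
    rw [hgx, hv1, hw1, zero_smul, add_zero, mul_zero, zero_smul, sub_zero, one_smul] at h
    have hneg : τ a s₀ - v = τ a (s₀ + q) + τ b q' := by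
      rw [show τ a s₀ - v = τ a s₀ + v from funext fun j => by
        simp only [Pi.sub_apply, Pi.add_apply]; linear_combination -(v j) * h20, hv, map_add]
      abel
    rw [show NotMax.ten e P a s₀ - v = _ from hneg] at h
    set u := (A : Matrix (Fin 2) (Fin 2) F) *ᵥ a
    set r := (B : Matrix (Fin n₂) (Fin n₂) F) *ᵥ s₀
    have hp : ∀ z, f₂ (s₀ + q) z = f₁ u b * f₂ r z := fun z => by
      have := congrArg (fun x => QuadraticMap.polar Qf x (τ b z)) h
      simpa [τ, QuadraticMap.polar_add_left, hτ, hab, hbb, hb₂.add_left] using this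
    have hr : ∀ z, f₂ q' z = f₁ u a * f₂ r z := fun z => by
      have := congrArg (fun x => QuadraticMap.polar Qf x (τ a z)) h
      simpa [τ, QuadraticMap.polar_add_left, hτ, hba, haa] using this
    have e1 := hp q
    have e2 := hr q
    rw [hb₂.add_left, hs₀q, hqq, add_zero] at e1
    rw [hq'q] at e2
    have hua : f₁ u a = 0 := by
      rcases mul_eq_zero.mp e2.symm with h | h
      · exact h
      · rw [h, mul_zero] at e1; exact absurd e1 one_ne_zero
    obtain ⟨z, hz⟩ := (hf₂.nondegenerate q' hq'0).2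
    exact hz (by rw [hr, hua, zero_mul])
  · rintro ⟨hy', -⟩
    have hy1 : ∀ u, (y : Matrix (Fin n) (Fin n) F) *ᵥ τ u s₀ = τ u s₀ + f₁ a u • τ b q' := fun u => by
      rw [hyx, hτ, hτ, hqs₀, hq's₀, hQτ, mul_one, mul_zero, zero_smul, sub_zero, zero_mul, zero_smul,
        sub_zero]
    rcases NotMax.mem_sqStab.mp hy' with h | h
    · have h' := congrArg (fun g : GL (Fin n) F => (g : Matrix (Fin n) (Fin n) F) *ᵥ τ a s₀) h
      simp only [Units.val_mul, ← Matrix.mulVec_mulVec, τ, hXu, hJa] at h'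
      rw [show (y : Matrix (Fin n) (Fin n) F) *ᵥ NotMax.ten e P b s₀ = _ from hy1 b,
        show (y : Matrix (Fin n) (Fin n) F) *ᵥ NotMax.ten e P a s₀ = _ from hy1 a, haa, hab, zero_smul,
        add_zero, one_smul, hXu, hJa] at h'
      obtain ⟨z, hz⟩ := (hf₂.nondegenerate q' hq'0).2
      have := congrArg (fun x => QuadraticMap.polar Qf x (τ a z)) h'
      simp [τ, QuadraticMap.polar_add_left, hτ, hba, hz] at this
    · have h' := congrArg (fun g : GL (Fin n) F => (g : Matrix (Fin n) (Fin n) F) *ᵥ τ a s₀) h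
      simp only [pow_two, Units.val_mul, ← Matrix.mulVec_mulVec, τ, hXu, hJa] at h'
      rw [show (y : Matrix (Fin n) (Fin n) F) *ᵥ NotMax.ten e P b s₀ = _ from hy1 b,
        show (y : Matrix (Fin n) (Fin n) F) *ᵥ NotMax.ten e P a s₀ = _ from hy1 a, haa, hab, zero_smul,
        add_zero, one_smul, hXu, hXu, hJa, hJb] at h'
      have := congrArg (fun x => QuadraticMap.polar Qf x (τ b q)) h'
      simp [τ, QuadraticMap.polar_add_left, hτ, hbb, hab, hs₀q, hq'q, hb₁.add_left] at this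

end Cfsg.Agent.S5705
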