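import Cfsg.Statements.S5706
import Cfsg.Agent.WreathP.Four
import Cfsg.Agent.WreathP.Omega
import Cfsg.Agent.WreathP.Small

set_option autoImplicit false
open Cfsg

namespace Cfsg.Agent.S5706

open Cfsg.Agent.WreathP Cfsg.Agent.WreathS Cfsg.Agent.WreathMax Cfsg.Agent.FG75.SpinTensor Cfsg.Agent.MaxSub.Asch

/-- The slot index of an alternating form is even. -/
theorem dim_even {F : Type*} [Field F] {k : ℕ} {π : Sgn F (Fin k)} (hπ : Alt0 π) : Even k := by
  have h : ∑ _a : Fin k, (1 : ZMod 2) = 0 := Finset.sum_involution (fun a _ => π.J a) (fun _ _ => by decide)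
    (fun a _ _ => hπ.fix a) (fun a _ => Finset.mem_univ _) (fun a _ => π.inv a)
  rw [Finset.sum_const, Finset.card_univ, Fintype.card_fin, nsmul_one, ZMod.natCast_eq_zero_iff_even] at h
  exact h

/-- An overgroup in the model outside the stabiliser is everything. -/
theorem core {F : Type*} [Field F] [Finite F] {k t : ℕ} {π : Sgn F (Fin k)} (S : Qf π t) (hπ : Alt0 π)
    (hk : 2 ≤ k) (ht : 2 ≤ t) (h13 : 13 ≤ k ^ t) (hsmall : k < 6 → π.Alt ∧ Even t ∧ ¬ (Nat.card F = 3 ∧ k = 2))
    {H : Subgroup (GL (Fin t → Fin k) F)} (hH : H ≤ S.omega) (hM : Geo.tensorWreathStandard k t F ⊓ S.omega ≤ H)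
    (hne : ¬ H ≤ Geo.tensorWreathStandard k t F) : S.omega ≤ H := by
  have h5 : 5 ≤ k ^ t := by omega
  have hroots : HasRoots π H := fun i x c => hM ⟨sRoot_mem_wreath i x c, sRoot_mem_omega S hπ hk ht h5 i x c⟩
  have heven : HasEven H := fun σ hσ => hM ⟨factorPerm_mem σ, (S.factorPerm_mem_omega σ).1 hσ⟩
  obtain ⟨s, rfl⟩ : ∃ s, t = s + 1 := ⟨t - 1, by omega⟩
  have hU : H ≤ U (powS π (s + 1)) := hH.trans S.omega_le_U
  by_cases h6 : 6 ≤ k
  · exact omega_le_of_InR S hπ (by omega) (by omega) hH fun e d hed he hind x y =>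
      blk_all hπ h6 hU hroots heven hne _ e d he hed hind
  obtain ⟨halt, hte, hex⟩ := hsmall (by omega)
  have hk24 : k = 2 ∨ k = 4 := by
    obtain ⟨j, rfl⟩ := dim_even hπ
    omega
  by_cases h4 : 4 ≤ s + 1
  · exact omega_le_small S halt hk hte h4 hex hH
      ((le_inf (Wiso_le_wreath π (s + 1)) (Wiso_le_omega S halt hk h4)).trans hM) hne
  have hs : s = 1 := by
    obtain ⟨j, hj⟩ := hte
    omega
  subst hs
  have hk4 : k = 4 := hk24.resolve_left fun e => by subst e; norm_num at h13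
  exact omega_le_of_InR S hπ (by omega) le_rfl hH fun e d hed he hind x y =>
    blk_all_two halt (by omega) hU hroots hne _ e d he hed hind

/-- Let F be a finite field with q elements, n ≥ 13 even, Q a non-degenerate quadratic form on F^n of plus type (some subspace of dimension n/2 is totally singular), and Ω the commutator subgroup of the isometry group of Q, viewed inside GL_n(F). Suppose that, through a change of basis P and a bijection of index sets e, the polar form of Q is similar to the t-fold tensor power (t ≥ 2) of a non-degenerate symplectic form f₁ on F^k, that Q vanishes on the images of all pure tensors, that t is even if q is odd, that (q, k) is neither (2, 2) nor (3, 2), and that k ≥ 6 if q is even. Then the elements of Ω in the stabiliser of this decomposition form a maximal subgroup of Ω. -/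
theorem result {F : Type*} [Field F] [Fintype F] {n : ℕ} (hn : 13 ≤ n) (heven : Even n) (Q : (Fin n → F) → F) (hQ : Cfsg.Geo.IsNondegenerateQuadraticForm Q) (hplus : Cfsg.Geo.IsPlusTypeOn Q ⊤) (k t : ℕ) (ht : 2 ≤ t) (hqt : Odd (Fintype.card F) → Even t) (hex1 : ¬ (Fintype.card F = 2 ∧ k = 2)) (hex2 : ¬ (Fintype.card F = 3 ∧ k = 2)) (hex3 : ¬ Odd (Fintype.card F) → 6 ≤ k) (e : (Fin n) ≃ (Fin t → Fin k)) (P : Matrix.GeneralLinearGroup (Fin n) F) (f₁ : (Fin k → F) → (Fin k → F) → F) (hf₁ : Cfsg.Geo.IsSymplecticForm f₁) (hT : Cfsg.Geo.IsTensorPowerFormStructure id (QuadraticMap.polar Q) f₁ e P) (hpure : (∀ xs : Fin t → (Fin k → F), Q (Matrix.mulVec (P : Matrix (Fin n) (Fin n) F) ((fun a : Fin t → Fin k => ∏ i, xs i (a i)) ∘ e)) = 0)) : Cfsg.Geo.IsMaximalIn (Cfsg.Geo.omegaGL Q) (Cfsg.Geo.tensorWreathSubgroup k t e P ⊓ Cfsg.Geo.omegaGL Q) := by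
  classical
  obtain ⟨Qf', rfl, -⟩ := Cfsg.Agent.OrthStab.exists_form hQ
  obtain ⟨π, hπ, S, Φ, hW, hΩ⟩ := exists_model Qf' e P f₁ hf₁ hT hpure
  have hcard : n = k ^ t := by
    simpa using Fintype.card_congr e
  subst hcard
  have hk : 2 ≤ k := by
    by_contra h
    have : k ^ t ≤ 1 := by
      rcases (show k = 0 ∨ k = 1 by omega) with rfl | rfl
      · rw [zero_pow (by omega)]; omega
      · rw [one_pow]
    omega
  have hbig : 3 ≤ k ∨ 3 ≤ t := by
    by_contra h
    push Not at h
    obtain ⟨rfl, rfl⟩ : k = 2 ∧ t = 2 := by omega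
    norm_num at hn
  refine isMaximalIn_of_model S Φ hW hΩ (omega_not_le_wreath S hπ ht (by omega) hbig)
    fun H hH hM hne => core S hπ hk ht hn (fun h6 => ?_) hH hM hne
  have hodd : Odd (Fintype.card F) := by
    by_contra h
    have := hex3 h
    omega
  refine ⟨⟨hπ.tau, fun h2 => ?_⟩, hqt hodd, by rwa [Nat.card_eq_fintype_card]⟩
  obtain ⟨p, hp⟩ := CharP.exists F
  haveI := hp
  have h2' : p ∣ 2 := (CharP.cast_eq_zero_iff F p 2).mp (by exact_mod_cast h2)
  obtain ⟨m, hpp, hm⟩ := FiniteField.card F p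
  obtain rfl : p = 2 := (Nat.prime_dvd_prime_iff_eq hpp Nat.prime_two).mp h2'
  rw [hm] at hodd
  exact absurd hodd (Nat.not_odd_iff_even.mpr (Nat.even_pow.mpr ⟨even_two, m.ne_zero⟩))

end Cfsg.Agent.S5706
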