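import Cfsg.Statements.S5707
import Cfsg.Agent.FG75.SpinTensorTransfer

set_option autoImplicit false
set_option linter.all false
open Cfsg

namespace Cfsg.Agent.S5707

/-- Let F be a finite field with q elements, n ≥ 13 even, Q a non-degenerate quadratic form on F^n of plus type (some subspace of dimension n/2 is totally singular), and Ω the commutator subgroup of the isometry group of Q, viewed inside GL_n(F). Suppose q is even and that, through P and e, the polar form of Q is similar to the t-fold tensor power (t ≥ 2) of a non-degenerate symplectic form f₁ on F^k with k ≤ 4 and (q, k) ≠ (2, 2), Q vanishing on the images of all pure tensors. Then the elements of Ω in the stabiliser of this decomposition form a subgroup that is not maximal: some subgroup lies strictly between it and Ω. -/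
theorem result {F : Type*} [Field F] [Fintype F] {n : ℕ} (hn : 13 ≤ n) (heven : Even n) (Q : (Fin n → F) → F) (hQ : Cfsg.Geo.IsNondegenerateQuadraticForm Q) (hplus : Cfsg.Geo.IsPlusTypeOn Q ⊤) (hchar : ¬ Odd (Fintype.card F)) (k t : ℕ) (ht : 2 ≤ t) (hk : k ≤ 4) (hex1 : ¬ (Fintype.card F = 2 ∧ k = 2)) (e : (Fin n) ≃ (Fin t → Fin k)) (P : Matrix.GeneralLinearGroup (Fin n) F) (f₁ : (Fin k → F) → (Fin k → F) → F) (hf₁ : Cfsg.Geo.IsSymplecticForm f₁) (hT : Cfsg.Geo.IsTensorPowerFormStructure id (QuadraticMap.polar Q) f₁ e P) (hpure : (∀ xs : Fin t → (Fin k → F), Q (Matrix.mulVec (P : Matrix (Fin n) (Fin n) F) ((fun a : Fin t → Fin k => ∏ i, xs i (a i)) ∘ e)) = 0)) : ∃ K : Subgroup (Matrix.GeneralLinearGroup (Fin n) F), Cfsg.Geo.tensorWreathSubgroup k t e P ⊓ Cfsg.Geo.omegaGL Q < K ∧ K < Cfsg.Geo.omegaGL Q := by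
  classical
  have two : (2 : F) = 0 := by
    have h2 : 2 ∣ Fintype.card F := even_iff_two_dvd.mp (Nat.not_odd_iff_even.mp hchar)
    obtain ⟨p, hp⟩ := CharP.exists F
    obtain ⟨m, hpp, hcard⟩ := FiniteField.card F p
    have : p = 2 := ((Nat.prime_dvd_prime_iff_eq Nat.prime_two hpp).mp
      (Nat.prime_two.dvd_of_dvd_pow (hcard ▸ h2))).symm
    subst this
    exact CharTwo.two_eq_zero
  have hn' : n = k ^ t := by simpa using Fintype.card_congr e
  obtain ⟨m, u, v, -, -, huv, huu, hvv, hspan⟩ :=
    Cfsg.Agent.Forms.exists_symplectic_family (LinearMap.mk₂ F f₁ hf₁.bilinear.add_left hf₁.bilinear.smul_left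
      hf₁.bilinear.add_right hf₁.bilinear.smul_right) (fun x => hf₁.alternating x) ⊤
      (fun w _ h => by_contra fun hw => by
        obtain ⟨x, hx⟩ := (hf₁.nondegenerate w hw).2
        exact hx (h x trivial))
  simp only [LinearMap.mk₂_apply] at huv huu hvv
  have hkm : k = 2 * m := by
    have h := Cfsg.Agent.Forms.finrank_eq_of_symplectic_family (LinearMap.mk₂ F f₁ hf₁.bilinear.add_left
      hf₁.bilinear.smul_left hf₁.bilinear.add_right hf₁.bilinear.smul_right) (fun x => hf₁.alternating x) ⊤ u v
      (fun _ => trivial) (fun _ => trivial) huv huu hvv hspan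
    simpa using h
  have hsw : ∀ i j, f₁ (v i) (u j) = if j = i then 1 else 0 := fun i j => by
    rw [hf₁.skew, huv]; split_ifs
    · linear_combination -two
    · simp
  have hm : m = 1 ∨ m = 2 := by
    rcases Nat.lt_or_ge m 1 with h | h
    · have hk0 : k = 0 := by omega
      rw [hk0, zero_pow (by omega)] at hn'; omega
    · omega
  rcases hm with rfl | rfl <;> subst hkm
  · refine FG75.SpinTensor.transfer hQ.smul hT hpure two hf₁ FG75.SpinTensor.G2
      ![u 0, v 0] ?_ ?_ ?_ ?_ fun Q' S => ?_
    · ext i j; fin_cases i <;> fin_cases j <;> simp [FG75.SpinTensor.G2]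
    · ext i j; fin_cases i <;> fin_cases j <;>
        simp [FG75.SpinTensor.G2, Matrix.mul_apply, Fin.sum_univ_two]
    · intro x; fin_cases x <;> simp [FG75.SpinTensor.G2]
    · intro i j; fin_cases i <;> fin_cases j <;> simp [FG75.SpinTensor.G2, huv, hsw, huu, hvv, hf₁.alternating]
    · refine FG75.SpinTensor.between_two ?_ S
      by_contra h
      have : 2 ^ t ≤ 2 ^ 3 := Nat.pow_le_pow_right (by norm_num) (by omega)
      norm_num at hn' this
      omega
  · refine FG75.SpinTensor.transfer hQ.smul hT hpure two hf₁ FG75.SpinTensor.G4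
      ![u 0, v 0, u 1, v 1] ?_ ?_ ?_ ?_ fun Q' S => FG75.SpinTensor.between_four ht S
    · ext i j; fin_cases i <;> fin_cases j <;> simp [FG75.SpinTensor.G4]
    · ext i j; fin_cases i <;> fin_cases j <;>
        simp [FG75.SpinTensor.G4, Matrix.mul_apply, Fin.sum_univ_four]
    · intro x; fin_cases x <;> simp [FG75.SpinTensor.G4]
    · intro i j; fin_cases i <;> fin_cases j <;> simp [FG75.SpinTensor.G4, huv, hsw, huu, hvv, hf₁.alternating]

end Cfsg.Agent.S5707
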