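import Cfsg.Statements.S5712
import Cfsg.Agent.SpTrans63.Main
import Cfsg.Agent.SpTrans63.Two
import Cfsg.Agent.SpTrans63.Coord
import Cfsg.Agent.S0247
import Cfsg.Agent.Lib.Thompson.Cores

set_option autoImplicit false
open Cfsg

namespace Cfsg.Agent.S5712

open Cfsg.Agent.SpTrans63

/-- Let F be a finite field of characteristic two, n ≥ 2, V = F^{2n} with the non-degenerate alternating form f(u, v) = Σ (u_i v_{n+i} + u_{n+i} v_i), and G the group of invertible matrices preserving f. Let a ≠ 0 be a vector, H its stabilizer in G, and X a subgroup of O₂(H) of order |F|^{2n−2} no element of which is a transvection (no element g has g − 1 of rank one). If L is a subgroup of G containing X that acts irreducibly on V (no proper non-zero L-invariant subspace), then L = G, or, for some quadratic form Q on V whose polar form is f, L is the isometry group of Q or its subgroup of the isometries g for which g − 1 has even rank, or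 |F| = 2, n = 2 and L is isomorphic to the alternating group of degree 6 or to the symmetric group of degree 5. -/
theorem result {F : Type*} [Field F] [Fintype F] [CharP F 2] {n : ℕ} (hn : 2 ≤ n) (a : (Fin n ⊕ Fin n → F)) (ha : a ≠ 0)
    (X : Subgroup (GL (Fin n ⊕ Fin n) F)) (hXG : X ≤ Cfsg.preserving (Units.coeHom (Matrix (Fin n ⊕ Fin n) (Fin n ⊕ Fin n) F)) (fun u v : (Fin n ⊕ Fin n → F) => ∑ i : Fin n, (u (Sum.inl i) * v (Sum.inr i) + u (Sum.inr i) * v (Sum.inl i))))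
    (hXO : ∀ H : Subgroup (GL (Fin n ⊕ Fin n) F),
      (∀ g : GL (Fin n ⊕ Fin n) F, g ∈ H ↔ (g ∈ Cfsg.preserving (Units.coeHom (Matrix (Fin n ⊕ Fin n) (Fin n ⊕ Fin n) F)) (fun u v : (Fin n ⊕ Fin n → F) => ∑ i : Fin n, (u (Sum.inl i) * v (Sum.inr i) + u (Sum.inr i) * v (Sum.inl i))) ∧ Matrix.mulVec (g : Matrix (Fin n ⊕ Fin n) (Fin n ⊕ Fin n) F) a = a)) →
      X ≤ (Cfsg.pCore 2 ↥H).map H.subtype)
    (hcard : Nat.card ↥X = Fintype.card F ^ (2 * n - 2))
    (hntv : ∀ x ∈ X, ((x : Matrix (Fin n ⊕ Fin n) (Fin n ⊕ Fin n) F) - 1).rank ≠ 1)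
    (L : Subgroup (GL (Fin n ⊕ Fin n) F)) (hXL : X ≤ L) (hLG : L ≤ Cfsg.preserving (Units.coeHom (Matrix (Fin n ⊕ Fin n) (Fin n ⊕ Fin n) F)) (fun u v : (Fin n ⊕ Fin n → F) => ∑ i : Fin n, (u (Sum.inl i) * v (Sum.inr i) + u (Sum.inr i) * v (Sum.inl i))))
    (hirr : ∀ W : Submodule F (Fin n ⊕ Fin n → F), (∀ g ∈ L, ∀ w ∈ W, Matrix.mulVec (g : Matrix (Fin n ⊕ Fin n) (Fin n ⊕ Fin n) F) w ∈ W) → W = ⊥ ∨ W = ⊤) :
    L = Cfsg.preserving (Units.coeHom (Matrix (Fin n ⊕ Fin n) (Fin n ⊕ Fin n) F)) (fun u v : (Fin n ⊕ Fin n → F) => ∑ i : Fin n, (u (Sum.inl i) * v (Sum.inr i) + u (Sum.inr i) * v (Sum.inl i))) ∨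
    (∃ Q : QuadraticForm F (Fin n ⊕ Fin n → F), (∀ u v, QuadraticMap.polar ⇑Q u v = (fun u v : (Fin n ⊕ Fin n → F) => ∑ i : Fin n, (u (Sum.inl i) * v (Sum.inr i) + u (Sum.inr i) * v (Sum.inl i))) u v) ∧
      (L = Cfsg.isometryGroup F ⇑Q ∨
        ∀ g : GL (Fin n ⊕ Fin n) F, g ∈ L ↔ (g ∈ Cfsg.isometryGroup F ⇑Q ∧ Even ((g : Matrix (Fin n ⊕ Fin n) (Fin n ⊕ Fin n) F) - 1).rank))) ∨
    (Fintype.card F = 2 ∧ n = 2 ∧ (Nonempty (↥L ≃* ↥(alternatingGroup (Fin 6))) ∨ Nonempty (↥L ≃* Equiv.Perm (Fin 5)))) := by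
  classical
  haveI : Fact (Nat.Prime 2) := ⟨Nat.prime_two⟩
  set G := Cfsg.preserving (Units.coeHom (Matrix (Fin n ⊕ Fin n) (Fin n ⊕ Fin n) F))
    (fun u v : (Fin n ⊕ Fin n → F) =>
      ∑ i : Fin n, (u (Sum.inl i) * v (Sum.inr i) + u (Sum.inr i) * v (Sum.inl i))) with hGdef
  let f : LinearMap.BilinForm F (Fin n ⊕ Fin n → F) := sform
  have hG : ∀ g, g ∈ G ↔ Iso f (glEquiv g) := fun g => Iff.rfl
  have hf : SympForm f := by
    refine ⟨fun v => ?_, fun v hv => ?_⟩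
    · show sform v v = 0
      rw [sform_apply]
      refine Finset.sum_eq_zero fun i _ => ?_
      rw [mul_comm (v (Sum.inr i))]; exact CharTwo.add_self_eq_zero _
    · ext k
      rcases k with i | i
      · have h := hv (Pi.single (Sum.inr i) 1)
        simpa [f, sform_apply, Pi.single_apply] using h
      · have h := hv (Pi.single (Sum.inl i) 1)
        simpa [f, sform_apply, Pi.single_apply] using h
  have hdim : Module.finrank F (Fin n ⊕ Fin n → F) = n + n := by simp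
  -- the stabiliser and its core
  let H : Subgroup (GL (Fin n ⊕ Fin n) F) :=
  { carrier := {g | g ∈ G ∧ glEquiv g a = a}
    mul_mem' := fun {g h} hg hh => ⟨G.mul_mem hg.1 hh.1, by
      rw [map_mul]; show glEquiv g (glEquiv h a) = a; rw [hh.2, hg.2]⟩
    one_mem' := ⟨G.one_mem, by rw [map_one]; rfl⟩
    inv_mem' := fun {g} hg => ⟨G.inv_mem hg.1, by
      rw [map_inv]; show (glEquiv g).symm a = a
      conv_lhs => rw [← hg.2]
      rw [LinearEquiv.symm_apply_apply]⟩ }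
  have hXH : X ≤ (Cfsg.pCore 2 ↥H).map H.subtype := hXO H fun g => Iff.rfl
  let e := (glEquiv (F := F) (n := n)).toMonoidHom
  let U := ((Cfsg.pCore 2 ↥H).map H.subtype).map e
  have hU2 : IsPGroup 2 U :=
    ((Thompson.isPGroup_pCore (p := 2) (G := H)).map _).map _
  have hUfix : ∀ u ∈ U, Iso f u ∧ u a = a := by
    rintro _ ⟨_, ⟨⟨g, hg⟩, -, rfl⟩, rfl⟩
    exact ⟨(hG g).1 hg.1, hg.2⟩
  have hUnorm : ∀ h, Iso f h → h a = a → ∀ u ∈ U, h * u * h⁻¹ ∈ U := by
    rintro h hh hha _ ⟨_, ⟨u, hu, rfl⟩, rfl⟩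
    obtain ⟨g, rfl⟩ := glEquiv.surjective h
    have hg : g ∈ H := ⟨(hG g).2 hh, hha⟩
    haveI : (Cfsg.pCore 2 ↥H).Normal :=
      Subgroup.normal_of_characteristic _
    refine ⟨g * u * g⁻¹, ⟨⟨g, hg⟩ * u * ⟨g, hg⟩⁻¹, Subgroup.Normal.conj_mem inferInstance u hu _,
      rfl⟩, ?_⟩
    simp [e]
  set L' := L.map e with hL'
  set X' := X.map e with hX'
  have hrad : ∀ x ∈ X', ∃ w c, f w a = 0 ∧ IsRad f x a w c := fun x hx =>
    radical_of_normal_two hf (by omega) ha U hU2 hUfix hUnorm (Subgroup.map_mono hXH hx)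
  have hXcard : Nat.card X' = Nat.card F ^ (Module.finrank F (Fin n ⊕ Fin n → F) - 2) := by
    rw [hX', Subgroup.card_map_of_injective glEquiv.injective, hcard, hdim,
      Nat.card_eq_fintype_card, two_mul]
  have hXntv : ∀ x ∈ X', Module.finrank F (LinearMap.range (x.toLinearMap - LinearMap.id)) ≠ 1 := by
    rintro _ ⟨x, hx, rfl⟩
    exact fun h => hntv x hx ((rank_sub_one x).trans h)
  have hfullX : Full f X' a :=
    full_of_card hf ha X' X' le_rfl hrad hXcard (by omega) hXntv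
  have hfullL : Full f L' a := fun w hw => by
    obtain ⟨c, g, hg, hr⟩ := hfullX w hw
    exact ⟨c, g, Subgroup.map_mono hXL hg, hr⟩
  have hLiso : ∀ g ∈ L', Iso f g := by
    rintro _ ⟨g, hg, rfl⟩
    exact (hG g).1 (hLG hg)
  have hmem : ∀ g, g ∈ L ↔ glEquiv g ∈ L' := fun g =>
    (Subgroup.mem_map_iff_mem (f := e) glEquiv.injective).symm
  rcases main_cases hf (by omega) (by rw [hdim]; exact ⟨n, rfl⟩) L' hLiso (fun W hW => hirr W
    fun g hg w hw => hW (glEquiv g) ((hmem g).1 hg) w hw) ha hfullL with h | h | h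
  · exact Or.inl (le_antisymm hLG fun g hg => (hmem g).2 (h _ ((hG g).1 hg)))
  · obtain ⟨Q, hpol, hQ⟩ := h
    have hiso : ∀ g, g ∈ Cfsg.isometryGroup F ⇑Q ↔ OIso Q (glEquiv g) :=
      fun g => ⟨fun h x => h x x, fun h u v => h u⟩
    refine Or.inr (Or.inl ⟨Q, hpol, hQ.imp (fun h => Subgroup.ext fun g => ?_) fun h g => ?_⟩)
    · rw [hmem, h, hiso]
    · rw [hmem, h, hiso, rank_sub_one]
  -- the field of two elements in dimension four
  obtain ⟨hF2, hd4, htrans⟩ := h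
  have hn2 : n = 2 := by omega
  subst hn2
  have hF : Fintype.card F = 2 := card_field_two hF2
  obtain ⟨e1⟩ := exists_equiv_symplectic (F := F) (n := 2)
  obtain ⟨e2⟩ := S0247.result hF
  let eL : ↥L ≃* ↥L' := L.equivMapOfInjective e glEquiv.injective
  let θ : ↥G →* Equiv.Perm (Fin 6) := (e1.trans e2).toMonoidHom
  let ι : ↥L' →* Equiv.Perm (Fin 6) := (θ.comp (Subgroup.inclusion hLG)).comp eL.symm.toMonoidHom
  have hι : Function.Injective ι :=
    ((e1.trans e2).injective.comp (Subgroup.inclusion_injective hLG)).comp eL.symm.injective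
  have hX4 : Nat.card X' = 4 := by
    rw [hXcard, hd4, Nat.card_eq_fintype_card, hF]
    rfl
  rcases two_cases hf hd4 hF2 ha X' L' (Subgroup.map_mono hXL) hfullX hrad
    (fun x hx => (hUfix x (Subgroup.map_mono hXH hx)).2) hX4 htrans ι hι with h | h
  · refine Or.inl (le_antisymm hLG fun g hg => ?_)
    obtain ⟨l, hl⟩ : θ ⟨g, hg⟩ ∈ ι.range := h ▸ Subgroup.mem_top _
    have h2 : Subgroup.inclusion hLG (eL.symm l) = ⟨g, hg⟩ := (e1.trans e2).injective hl
    have h3 := congrArg Subtype.val h2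
    rw [Subgroup.coe_inclusion] at h3
    have h4 : ((eL.symm l : ↥L) : GL (Fin 2 ⊕ Fin 2) F) = g := h3
    rw [← h4]
    exact (eL.symm l).2
  · exact Or.inr (Or.inr ⟨hF, rfl, h.imp (fun ⟨i⟩ => ⟨eL.trans i⟩) fun ⟨i⟩ => ⟨eL.trans i⟩⟩)

end Cfsg.Agent.S5712
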