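import Cfsg.Statements.S5713
import Cfsg.Agent.FG72.MinDeg.TwoTrans
import Cfsg.Agent.FG72.MinDeg.Uniprimitive
import Mathlib.Analysis.Real.Sqrt

set_option autoImplicit false
open Cfsg

namespace Cfsg.Agent.S5713

/-- A classification-free minimal-degree bound. Let G be a finite group acting faithfully and primitively on a finite set Ω with n elements, and suppose that the image of G in the symmetric group on Ω does not contain the alternating group on Ω. Then every non-identity element of G moves at least (√n − 1)/2 points of Ω, that is, it fixes at most n − (√n − 1)/2 points. -/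
theorem result {G Ω : Type*} [Group G] [Finite G] [MulAction G Ω] [FaithfulSMul G Ω] [Fintype Ω] [DecidableEq Ω]
    (hprim : MulAction.IsPreprimitive G Ω)
    (hA : ¬ alternatingGroup Ω ≤ (MulAction.toPermHom G Ω).range)
    (g : G) (hg : g ≠ 1) :
    (Real.sqrt (Fintype.card Ω) - 1) / 2 ≤ (Fintype.card Ω : ℝ) - Nat.card (MulAction.fixedBy Ω g) := by
  classical
  haveI : MulAction.IsPretransitive G Ω := hprim.toIsPretransitive
  set n := Fintype.card Ω with hn
  let f := MulAction.toPermHom G Ω
  have hf : Function.Injective f := MulAction.toPerm_injective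
  set m := (f g).support.card with hm
  have hsupp : Nat.card (MulAction.fixedBy Ω g) + m = n := by
    rw [hm, Nat.card_eq_fintype_card, Fintype.card_subtype]
    have : (f g).support = Finset.univ.filter fun x => ¬ x ∈ MulAction.fixedBy Ω g := by
      ext x; simp [f, MulAction.mem_fixedBy]
    rw [this, Finset.card_filter_add_card_filter_not, Finset.card_univ]
  suffices hmain : n ≤ (2 * m + 1) ^ 2 by
    have h1 : (Nat.card (MulAction.fixedBy Ω g) : ℝ) + m = n := by exact_mod_cast hsupp
    have h2 : Real.sqrt (n : ℝ) ≤ 2 * m + 1 := by
      rw [Real.sqrt_le_left (by positivity)]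
      exact_mod_cast hmain
    linarith
  by_cases h2t : MulAction.IsMultiplyPretransitive G Ω 2
  · haveI := h2t
    have hH : MulAction.IsMultiplyPretransitive f.range Ω 2 := by
      rw [MulAction.is_two_pretransitive_iff]
      intro a b c d hab hcd
      obtain ⟨k, hk1, hk2⟩ := MulAction.is_two_pretransitive_iff.mp h2t hab hcd
      exact ⟨⟨f k, k, rfl⟩, hk1, hk2⟩
    let φ : Ω →ₑ[(f.rangeRestrict : G → f.range)] Ω := { toFun := id, map_smul' := fun _ _ => rfl }
    have hp : MulAction.IsPreprimitive f.range Ω :=
      MulAction.IsPreprimitive.of_surjective (f := φ) Function.surjective_id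
    have h1 : f g ≠ 1 := fun e => hg (hf (e.trans (map_one f).symm))
    have := MinDeg72.two_transitive_degree_sq hH hp hA ⟨g, rfl⟩ h1
    refine this.trans ?_
    rw [← hm]
    exact Nat.pow_le_pow_left (by omega) 2
  · obtain ⟨x, hx⟩ : ∃ x : Ω, g • x ≠ x := by
      by_contra h
      push_neg at h
      exact hg (eq_of_smul_eq_smul (α := Ω) fun x => by rw [h x, one_smul])
    refine (MinDeg72.dset_sq_ge hprim h2t (Ne.symm hx)).trans (Nat.pow_le_pow_left ?_ 2)
    have : (MinDeg72.dset G x (g • x)).card ≤ m := by
      refine Finset.card_le_card fun z hz => ?_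
      simp only [MinDeg72.dset, Finset.mem_filter, Finset.mem_univ, true_and] at hz
      rw [Equiv.Perm.mem_support]
      intro hfix
      have hfix' : g • z = z := hfix
      apply hz
      conv_rhs => rw [← hfix']
      rw [MinDeg72.col_smul]
    omega

end Cfsg.Agent.S5713
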