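import Cfsg.Statements.S5722
import Cfsg.Agent.MaxSub.CompLen.Main
-- import your own Cfsg.Agent.* helpers here

set_option autoImplicit false
open Cfsg

namespace Cfsg.Agent.S5722

/-- If a finite group G acts faithfully on a finite set with n points and r orbits, then the composition length of G is at most 4(n − r)/3. Here the composition length is expressed through chains: the conclusion bounds the length l of every chain of subgroups 1 = H₀ < H₁ < ⋯ < H_l = G in which each term is normal in the next (the longest such chains are exactly the composition series). -/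
theorem result {G Ω : Type*} [Group G] [Finite G] [MulAction G Ω] [FaithfulSMul G Ω] [Fintype Ω]
    (l : ℕ) (H : Fin (l + 1) → Subgroup G) (h0 : H 0 = ⊥) (hl : H (Fin.last l) = ⊤)
    (hchain : ∀ i : Fin l, H i.castSucc < H i.succ ∧ ((H i.castSucc).subgroupOf (H i.succ)).Normal) :
    3 * l ≤ 4 * (Fintype.card Ω - Nat.card (Quotient (MulAction.orbitRel G Ω))) := by
  classical
  open Cfsg.Agent.MaxSub.CompLen in
  have hsn : l ≤ clen G := by
    have := sn_of_fin H hchain l le_rfl
    rw [h0, show (⟨l, by omega⟩ : Fin (l + 1)) = Fin.last l from rfl, hl] at this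
    exact le_clen this
  let f := MulAction.toPermHom G Ω
  have hf : Function.Injective f := MulAction.toPerm_injective
  have : FaithfulSMul f.range Ω :=
    ⟨fun {a b} h => Subtype.ext (Equiv.Perm.ext fun x => h x)⟩
  have hb := Cfsg.Agent.MaxSub.CompLen.bound _ f.range Ω (Nat.lt_succ_self _)
  have hq : Cfsg.Agent.MaxSub.CompLen.nOrb f.range Ω =
      Nat.card (Quotient (MulAction.orbitRel G Ω)) := by
    refine Nat.card_congr (Quotient.congrRight fun a b => ?_)
    simp only [MulAction.orbitRel_apply]
    constructor
    · rintro ⟨⟨_, g, rfl⟩, rfl⟩; exact ⟨g, rfl⟩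
    · rintro ⟨g, rfl⟩; exact ⟨⟨_, g, rfl⟩, rfl⟩
  rw [hq, Cfsg.Agent.MaxSub.CompLen.clen_congr (MonoidHom.ofInjective hf).symm,
    Nat.card_eq_fintype_card (α := Ω)] at hb
  omega

end Cfsg.Agent.S5722
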