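import Cfsg.Statements.S5726
-- import your own Cfsg.Agent.* helpers here

set_option autoImplicit false
open Cfsg

namespace Cfsg.Agent.S5726

/-- If a finite group acts faithfully and transitively on a set with p^k elements, p a prime and k ≥ 1, then some element of order p fixes no point. -/
theorem result {G Ω : Type*} [Group G] [Finite G] [MulAction G Ω] [FaithfulSMul G Ω] [Fintype Ω] (htr : MulAction.IsPretransitive G Ω)
    (p k : ℕ) (hp : p.Prime) (hk : 1 ≤ k) (hΩ : Fintype.card Ω = p ^ k) :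
    ∃ g : G, orderOf g = p ∧ ∀ ω : Ω, g • ω ≠ ω := by
  classical
  haveI := Fact.mk hp
  haveI : Nonempty Ω := Fintype.card_pos_iff.mp (by rw [hΩ]; exact Nat.pow_pos hp.pos)
  obtain ⟨ω₀⟩ := ‹Nonempty Ω›
  obtain ⟨P⟩ : Nonempty (Sylow p G) := inferInstance
  -- a Sylow subgroup is transitive
  have hcard : Nat.card G = p ^ k * Nat.card (MulAction.stabilizer G ω₀) := by
    rw [← Subgroup.card_mul_index (MulAction.stabilizer G ω₀),
      MulAction.index_stabilizer_of_transitive, Nat.card_eq_fintype_card (α := Ω), hΩ, mul_comm]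
  have htrP : ∀ ω : Ω, ∃ x : (P : Subgroup G), x • ω₀ = ω := by
    have h1 : (p ^ k : ℕ) ∣ Nat.card (MulAction.orbit (P : Subgroup G) ω₀) := by
      have hs : Nat.card ((MulAction.stabilizer (P : Subgroup G) ω₀)) ∣
          Nat.card (MulAction.stabilizer G ω₀) :=
        Subgroup.card_dvd_of_injective
          { toFun := fun x => ⟨x.1.1, x.2⟩, map_one' := rfl, map_mul' := fun _ _ => rfl }
          (fun x y h => Subtype.ext (Subtype.ext (congrArg (fun z => z.1) h)))
      obtain ⟨b, hb⟩ : ∃ b, Nat.card (MulAction.stabilizer (P : Subgroup G) ω₀) = p ^ b :=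
        (P.isPGroup'.to_subgroup _).exists_card_eq
      have horb : Nat.card (MulAction.orbit (P : Subgroup G) ω₀) * p ^ b = Nat.card (P : Subgroup G) := by
        rw [← hb, ← Nat.card_prod]
        exact Nat.card_congr (MulAction.orbitProdStabilizerEquivGroup _ ω₀)
      rw [P.card_eq_multiplicity] at horb
      have hb' : b + k ≤ (Nat.card G).factorization p := by
        rw [← Nat.Prime.pow_dvd_iff_le_factorization hp (Nat.card_pos.ne'), hcard, pow_add, mul_comm]
        exact mul_dvd_mul_left _ (hb ▸ hs)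
      refine Nat.dvd_of_mul_dvd_mul_right (pow_pos hp.pos b) ?_
      rw [horb, ← pow_add]
      exact pow_dvd_pow p (by omega)
    have h2 : (MulAction.orbit (P : Subgroup G) ω₀) = Set.univ := by
      refine Set.eq_univ_of_forall fun ω => ?_
      have hle : Fintype.card Ω ≤ Nat.card (MulAction.orbit (P : Subgroup G) ω₀) := by
        rw [hΩ]
        refine Nat.le_of_dvd ?_ h1
        haveI : Nonempty (MulAction.orbit (P : Subgroup G) ω₀) :=
          ⟨⟨ω₀, MulAction.mem_orbit_self ω₀⟩⟩
        exact Nat.card_pos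
      rw [Nat.card_coe_set_eq, ← Nat.card_eq_fintype_card, ← Set.ncard_univ] at hle
      exact (Set.eq_of_subset_of_ncard_le (Set.subset_univ _) hle (Set.toFinite _)).symm ▸ trivial
    intro ω
    exact (h2.symm ▸ Set.mem_univ ω : ω ∈ MulAction.orbit (P : Subgroup G) ω₀)
  -- a central element of order `p`
  haveI hne : Nontrivial (P : Subgroup G) := by
    obtain ⟨ω₁, h⟩ : ∃ ω : Ω, ω ≠ ω₀ := Fintype.exists_ne_of_one_lt_card (by
      rw [hΩ]; exact Nat.one_lt_pow (by omega) hp.one_lt) ω₀
    obtain ⟨x, hx⟩ := htrP ω₁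
    exact ⟨⟨x, 1, fun h1 => h (by rw [← hx, h1, one_smul])⟩⟩
  haveI := P.isPGroup'.center_nontrivial
  obtain ⟨z, hz⟩ := exists_prime_orderOf_dvd_card' (G := Subgroup.center (P : Subgroup G)) p
    ((P.isPGroup'.to_subgroup _).card_eq_or_dvd.resolve_left Finite.one_lt_card.ne')
  refine ⟨((z : (P : Subgroup G)) : G), by rw [Subgroup.orderOf_coe, Subgroup.orderOf_coe, hz],
    fun ω hω => ?_⟩
  have hone : ((z : (P : Subgroup G)) : G) = 1 := by
    refine FaithfulSMul.eq_of_smul_eq_smul (α := Ω) fun ω' => ?_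
    obtain ⟨x, hx⟩ := htrP ω
    obtain ⟨y, hy⟩ := htrP ω'
    have hcomm : ((z : (P : Subgroup G)) : G) * ((y * x⁻¹ : (P : Subgroup G)) : G) =
        ((y * x⁻¹ : (P : Subgroup G)) : G) * ((z : (P : Subgroup G)) : G) :=
      congrArg Subtype.val (Subgroup.mem_center_iff.mp z.2 (y * x⁻¹)).symm
    have hyx : ((y * x⁻¹ : (P : Subgroup G)) : G) • ω = ω' := by
      show (y * x⁻¹) • ω = ω'
      rw [← hx, mul_smul, inv_smul_smul, hy]
    rw [one_smul, ← hyx, ← mul_smul, hcomm, mul_smul, hω]
  rw [← orderOf_eq_one_iff, Subgroup.orderOf_coe, Subgroup.orderOf_coe, hz] at hone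
  exact hp.one_lt.ne' hone

end Cfsg.Agent.S5726
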