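import Cfsg.Statements.S5727


set_option autoImplicit false
open Cfsg

namespace Cfsg.Agent.S5727

/-- If a finite group acts faithfully and transitively on a set with m·p elements, where p is a prime and 1 ≤ m ≤ p, then some element of order p fixes no point. -/
theorem result {G Ω : Type*} [Group G] [Finite G] [MulAction G Ω] [FaithfulSMul G Ω] [Fintype Ω] (htr : MulAction.IsPretransitive G Ω)
    (p m : ℕ) (hp : p.Prime) (hm : 1 ≤ m) (hmp : m ≤ p) (hΩ : Fintype.card Ω = m * p) :
    ∃ g : G, orderOf g = p ∧ ∀ ω : Ω, g • ω ≠ ω := by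
  classical
  haveI := htr
  haveI : Fact p.Prime := ⟨hp⟩
  haveI : Nonempty Ω := Fintype.card_pos_iff.mp (by rw [hΩ]; exact Nat.mul_pos hm hp.pos)
  obtain ⟨P⟩ : Nonempty (Sylow p G) := inferInstance
  have hOS : ∀ ω : Ω, Nat.card (MulAction.orbit (P : Subgroup G) ω) *
      Nat.card (MulAction.stabilizer (P : Subgroup G) ω) = Nat.card (P : Subgroup G) := fun ω => by
    rw [Nat.card_coe_set_eq, ← MulAction.index_stabilizer, mul_comm, Subgroup.card_mul_index]
  have hO : ∀ ω : Ω, (∃ k, 1 ≤ k ∧ Nat.card (MulAction.orbit (P : Subgroup G) ω) = p ^ k) ∧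
      (m = p → m * p ∣ Nat.card (MulAction.orbit (P : Subgroup G) ω)) := by
    intro ω
    obtain ⟨k, hk⟩ := P.2.card_orbit ω
    have hG : m * p * Nat.card (MulAction.stabilizer G ω) = Nat.card G := by
      rw [← hΩ, ← Nat.card_eq_fintype_card, ← MulAction.index_stabilizer_of_transitive G ω, mul_comm,
        Subgroup.card_mul_index]
    have hd : Nat.card (MulAction.stabilizer (P : Subgroup G) ω) ∣ Nat.card (MulAction.stabilizer G ω) := by
      rw [← Subgroup.card_map_of_injective (P : Subgroup G).subtype_injective]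
      refine Subgroup.card_dvd_of_le ?_
      rintro _ ⟨x, hx, rfl⟩
      exact hx
    have h1 : m * p ∣ p ^ k * (P : Subgroup G).index := by
      refine (Nat.mul_dvd_mul_iff_right
        (Nat.card_pos (α := MulAction.stabilizer (P : Subgroup G) ω))).mp ?_
      refine (Nat.mul_dvd_mul_left _ hd).trans (dvd_of_eq ?_)
      rw [hG, ← (P : Subgroup G).card_mul_index, ← hOS ω, hk]
      ring
    have hi : ¬ p ∣ (P : Subgroup G).index := Sylow.not_dvd_index _
    refine ⟨⟨k, ?_, hk⟩, fun hmeq => ?_⟩
    · by_contra h0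
      rw [show k = 0 by omega, pow_zero, one_mul] at h1
      exact hi (dvd_trans (dvd_mul_left _ _) h1)
    · rw [hk, hmeq]
      rw [hmeq] at h1
      have hc : Nat.Coprime (p * p) (P : Subgroup G).index :=
        Nat.Coprime.mul_left ((hp.coprime_iff_not_dvd).mpr hi) ((hp.coprime_iff_not_dvd).mpr hi)
      exact hc.dvd_of_dvd_mul_right h1
  rcases Nat.lt_or_ge m p with hlt | hge
  · -- all orbits of `P` have length `p`
    have hOp : ∀ ω : Ω, Nat.card (MulAction.orbit (P : Subgroup G) ω) = p := by
      intro ω
      obtain ⟨k, hk1, hk⟩ := (hO ω).1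
      have hle : p ^ k < p ^ 2 := by
        rw [← hk, Nat.card_eq_fintype_card]
        refine lt_of_le_of_lt (Fintype.card_subtype_le _) ?_
        rw [hΩ, pow_two]
        exact Nat.mul_lt_mul_of_pos_right hlt hp.pos
      have := (Nat.pow_lt_pow_iff_right hp.one_lt).mp hle
      rw [hk, show k = 1 by omega, pow_one]
    have hidx : ∀ ω : Ω, (MulAction.stabilizer (P : Subgroup G) ω).index = p := fun ω => by
      rw [MulAction.index_stabilizer, ← Nat.card_coe_set_eq]; exact hOp ω
    have hcardP : ∃ a, Nat.card (P : Subgroup G) = p ^ (a + 1) := by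
      obtain ⟨a, ha⟩ := P.2.exists_card_eq
      refine ⟨a - 1, ?_⟩
      have hd : p ∣ p ^ a := ha ▸ Dvd.intro _ ((hOp (Classical.arbitrary Ω)) ▸ hOS (Classical.arbitrary Ω))
      rcases Nat.eq_zero_or_pos a with h | h
      · rw [h, pow_zero, Nat.dvd_one] at hd; exact absurd hd hp.one_lt.ne'
      · rw [ha]; congr 1; omega
    have hnormal : ∀ ω : Ω, (MulAction.stabilizer (P : Subgroup G) ω).Normal := fun ω => by
      obtain ⟨a, ha⟩ := hcardP
      refine Subgroup.normal_of_index_eq_minFac_card ?_
      rw [hidx, ha, hp.pow_minFac (Nat.succ_ne_zero a)]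
    have hq : Fintype.card (MulAction.orbitRel.Quotient (P : Subgroup G) Ω) = m := by
      have h := Fintype.card_congr (MulAction.selfEquivSigmaOrbits (P : Subgroup G) Ω)
      rw [Fintype.card_sigma] at h
      simp only [← Nat.card_eq_fintype_card, hOp] at h
      rw [Finset.sum_const, Finset.card_univ, smul_eq_mul, Nat.card_eq_fintype_card, hΩ] at h
      exact (Nat.eq_of_mul_eq_mul_right hp.pos h).symm
    by_contra hcon
    push Not at hcon
    haveI : Fintype (P : Subgroup G) := Fintype.ofFinite _
    have hcov : (Finset.univ : Finset (P : Subgroup G)) ⊆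
        Finset.univ.biUnion fun c : MulAction.orbitRel.Quotient (P : Subgroup G) Ω =>
          Finset.univ.filter fun g => g ∈ MulAction.stabilizer (P : Subgroup G) c.out := by
      intro g _
      simp only [Finset.mem_biUnion, Finset.mem_filter, Finset.mem_univ, true_and]
      by_contra hg
      push Not at hg
      have hfree : ∀ ω : Ω, g • ω ≠ ω := by
        intro ω hω
        refine hg (Quotient.mk'' ω) ?_
        obtain ⟨y, hy⟩ : (Quotient.mk'' ω : MulAction.orbitRel.Quotient (P : Subgroup G) Ω).out ∈
            MulAction.orbit (P : Subgroup G) ω := Quotient.mk_out (s := MulAction.orbitRel _ Ω) ω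
        rw [← hy, MulAction.stabilizer_smul_eq_stabilizer_map_conj]
        refine ⟨y⁻¹ * g * y, ?_, by simp [mul_assoc]⟩
        simpa using (hnormal ω).conj_mem g hω y⁻¹
      have h1 : g ^ p = 1 := by
        refine Subtype.ext (eq_of_smul_eq_smul fun ω : Ω => ?_)
        haveI := hnormal ω
        have := (MulAction.stabilizer (P : Subgroup G) ω).pow_index_mem g
        rw [hidx, MulAction.mem_stabilizer_iff, Subgroup.smul_def] at this
        rw [Subgroup.coe_one, one_smul]
        exact this
      obtain ⟨ω, hω⟩ := hcon (g : G) (by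
        refine orderOf_eq_prime (congrArg Subtype.val h1) fun h => ?_
        exact hfree (Classical.arbitrary Ω) (by rw [Subgroup.smul_def, h, one_smul]))
      exact hfree ω hω
    have hle := (Finset.card_le_card hcov).trans Finset.card_biUnion_le
    have hf : ∀ c : MulAction.orbitRel.Quotient (P : Subgroup G) Ω,
        p * (Finset.univ.filter fun g => g ∈ MulAction.stabilizer (P : Subgroup G) c.out).card =
          Nat.card (P : Subgroup G) := fun c => by
      rw [← Fintype.card_subtype, ← Nat.card_eq_fintype_card]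
      have h := hOS c.out
      rw [hOp c.out] at h
      exact h
    have h2 : p * Nat.card (P : Subgroup G) ≤ m * Nat.card (P : Subgroup G) := by
      rw [Nat.card_eq_fintype_card, ← Finset.card_univ]
      refine le_trans (Nat.mul_le_mul_left p hle) ?_
      rw [Finset.mul_sum]
      simp only [hf, Finset.sum_const, Finset.card_univ, hq, smul_eq_mul]
      simp [Nat.card_eq_fintype_card]
    exact absurd (Nat.le_of_mul_le_mul_right h2 Nat.card_pos) (by omega)
  · -- `P` is transitive
    have hmeq : m = p := le_antisymm hmp hge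
    have htrans : ∀ a b : Ω, ∃ x : (P : Subgroup G), x • a = b := by
      intro a b
      have hall : MulAction.orbit (P : Subgroup G) a = Set.univ := by
        refine Set.eq_of_subset_of_ncard_le (Set.subset_univ _) ?_ Set.finite_univ
        rw [Set.ncard_univ, ← Nat.card_coe_set_eq, Nat.card_eq_fintype_card, hΩ]
        exact Nat.le_of_dvd (by rw [Nat.card_coe_set_eq]; exact (Set.ncard_pos).mpr ⟨a, MulAction.mem_orbit_self a⟩)
          ((hO a).2 hmeq)
      exact (hall ▸ Set.mem_univ b : b ∈ MulAction.orbit (P : Subgroup G) a)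
    haveI : Nontrivial (P : Subgroup G) := by
      obtain ⟨a, b, hab⟩ := Fintype.exists_pair_of_one_lt_card (α := Ω) (by rw [hΩ, hmeq]; exact Nat.one_lt_mul_iff.mpr ⟨hp.pos, hp.pos, Or.inl hp.one_lt⟩)
      obtain ⟨x, hx⟩ := htrans a b
      exact ⟨x, 1, fun h => hab (by rw [← hx, h, one_smul])⟩
    haveI : Nontrivial (Subgroup.center (P : Subgroup G)) := P.2.center_nontrivial
    obtain ⟨⟨z, hzc⟩, hz⟩ : ∃ z : Subgroup.center (P : Subgroup G), orderOf z = p := by
      refine exists_prime_orderOf_dvd_card' p ?_
      obtain ⟨a, ha⟩ := (P.2.to_subgroup (Subgroup.center (P : Subgroup G))).exists_card_eq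
      rw [ha]
      refine dvd_pow_self p fun h0 => ?_
      rw [h0, pow_zero] at ha
      exact absurd ha (Finite.one_lt_card).ne'
    rw [← Subgroup.orderOf_coe] at hz
    refine ⟨(z : G), by rw [Subgroup.orderOf_coe]; exact hz, fun ω hω => ?_⟩
    have hz1 : z = 1 := by
      refine Subtype.ext (eq_of_smul_eq_smul fun b : Ω => ?_)
      obtain ⟨x, rfl⟩ := htrans ω b
      rw [Subgroup.coe_one, one_smul, ← Subgroup.smul_def, ← mul_smul, ← Subgroup.mem_center_iff.mp hzc x, mul_smul]
      exact congrArg (x • ·) hω
    subst hz1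
    simp at hz
    exact hp.one_lt.ne hz

end Cfsg.Agent.S5727
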