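import Cfsg.Statements.S5728


set_option autoImplicit false
open Cfsg

namespace Cfsg.Agent.S5728

/-- An elusive transitive action. Let p = 2^s − 1 be a prime and let F be the field with p² elements. Inside the group of affine maps x ↦ a·x + b of F (a ≠ 0), consider the subgroup of maps with both coefficients in the prime field. Then every element of prime order of the affine group is conjugate, within the affine group, to an element of that subgroup; equivalently, in the transitive action of the affine group on the cosets of that subgroup (of degree p(p + 1)) every element of prime order fixes a point. -/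
theorem result (p s : ℕ) [Fact p.Prime] (hs : p = 2 ^ s - 1)
    (g : Equiv.Perm (GaloisField p 2)) (hg : g ∈ Cfsg.affineGroup (GaloisField p 2)) (hord : (orderOf g).Prime) :
    ∃ x ∈ Cfsg.affineGroup (GaloisField p 2), ∃ a b : ZMod p, a ≠ 0 ∧
      ∀ y : GaloisField p 2, (x * g * x⁻¹) y = algebraMap (ZMod p) (GaloisField p 2) a * y + algebraMap (ZMod p) (GaloisField p 2) b := by
  classical
  haveI : Fintype (GaloisField p 2) := Fintype.ofFinite _
  have hcard : Fintype.card (GaloisField p 2) = p ^ 2 := by
    rw [← Nat.card_eq_fintype_card]; exact GaloisField.card p 2 two_ne_zero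
  have hp : p.Prime := Fact.out
  obtain ⟨a, b, hab⟩ := hg
  -- powers of g
  have hpow : ∀ k : ℕ, ∀ x, (g ^ k) x = (a : GaloisField p 2) ^ k * x +
      (∑ i ∈ Finset.range k, (a : GaloisField p 2) ^ i) * b := by
    intro k
    induction k with
    | zero => intro x; simp
    | succ k ih =>
      intro x
      rw [pow_succ', Equiv.Perm.mul_apply, hab, ih, Finset.sum_range_succ']
      simp only [pow_succ', pow_zero, ← Finset.mul_sum]
      ring
  have hmem : ∀ c : (GaloisField p 2)ˣ, ∀ d : GaloisField p 2, ∃ x ∈ Cfsg.affineGroup (GaloisField p 2),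
      ∀ y, x y = (c : GaloisField p 2) * y + d := by
    intro c d
    refine ⟨⟨fun y => c * y + d, fun y => (c⁻¹ : (GaloisField p 2)ˣ) * (y - d), fun y => by simp [← mul_assoc],
      fun y => by simp [← mul_assoc]⟩, ⟨c, d, fun y => rfl⟩, fun y => rfl⟩
  by_cases ha : (a : GaloisField p 2) = 1
  · have hb : b ≠ 0 := by
      intro hb
      apply hord.ne_one
      rw [orderOf_eq_one_iff]
      ext x
      simp [hab, ha, hb]
    obtain ⟨x, hx, hxe⟩ := hmem (Units.mk0 b⁻¹ (inv_ne_zero hb)) 0
    refine ⟨x, hx, 1, 1, one_ne_zero, fun y => ?_⟩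
    obtain ⟨z, rfl⟩ := x.surjective y
    rw [Equiv.Perm.mul_apply, Equiv.Perm.mul_apply, Equiv.Perm.inv_def, Equiv.symm_apply_apply, hxe, hxe, hab, ha]
    simp only [Units.val_mk0, map_one, one_mul, add_zero]
    field_simp
  · have hk : (a : GaloisField p 2) ^ orderOf g = 1 := by
      have h1 := hpow (orderOf g) 1
      have h0 := hpow (orderOf g) 0
      rw [pow_orderOf_eq_one, Equiv.Perm.one_apply, mul_one] at h1
      rw [pow_orderOf_eq_one, Equiv.Perm.one_apply, mul_zero, zero_add] at h0
      rw [← h0, add_zero] at h1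
      exact h1.symm
    have hoa : orderOf (a : GaloisField p 2) = orderOf g :=
      ((Nat.dvd_prime hord).mp (orderOf_dvd_of_pow_eq_one hk)).resolve_left
        (by rwa [orderOf_eq_one_iff])
    have hdvd : orderOf g ∣ (p - 1) * (p + 1) := by
      have h := orderOf_dvd_of_pow_eq_one (FiniteField.pow_card_sub_one_eq_one (a : GaloisField p 2) a.ne_zero)
      rw [hoa, hcard] at h
      have hh : p ^ 2 - 1 = (p - 1) * (p + 1) := by
        rw [mul_comm, ← Nat.sq_sub_sq p 1, one_pow]
      rwa [hh] at h
    have hap : (a : GaloisField p 2) ^ (p - 1) = 1 := by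
      rcases hord.dvd_mul.mp hdvd with h | h
      · rw [← hoa] at h; exact orderOf_dvd_iff_pow_eq_one.mp h
      · have h2 : p + 1 = 2 ^ s := by
          have := Nat.one_le_two_pow (n := s); have := hp.two_le; omega
        rw [h2] at h
        have h3 : orderOf g = 2 := (Nat.prime_dvd_prime_iff_eq hord Nat.prime_two).mp (hord.dvd_of_dvd_pow h)
        have hodd : Odd p := by
          rcases hp.eq_two_or_odd' with h4 | h4
          · exfalso
            have h5 := pow_orderOf_eq_one (a : GaloisField p 2)
            rw [hoa, h3] at h5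
            subst h4
            have h6 : ((a : GaloisField 2 2) - 1) ^ 2 = 0 := by rw [sub_sq, h5]; ring_nf; simp [CharTwo.two_eq_zero]
            exact ha (sub_eq_zero.mp (pow_eq_zero_iff two_ne_zero |>.mp h6))
          · exact h4
        obtain ⟨k, hk'⟩ := hodd
        have h5 := pow_orderOf_eq_one (a : GaloisField p 2)
        rw [hoa, h3] at h5
        rw [show p - 1 = 2 * k by omega, pow_mul, h5, one_pow]
    obtain ⟨a₀, ha₀⟩ : ∃ a₀ : ZMod p, algebraMap (ZMod p) (GaloisField p 2) a₀ = a := by
      have h1 := pow_succ (a : GaloisField p 2) (p - 1)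
      rw [Nat.sub_add_cancel hp.one_le, hap, one_mul] at h1
      have h2 : (a : GaloisField p 2) ∈ (⊥ : Subfield (GaloisField p 2)) :=
        (Subfield.mem_bot_iff_pow_eq_self (F := GaloisField p 2) (p := p)).mpr h1
      have h3 := (bot_le : (⊥ : Subfield (GaloisField p 2)) ≤ (algebraMap (ZMod p) (GaloisField p 2)).fieldRange) h2
      exact h3
    obtain ⟨x, hx, hxe⟩ := hmem 1 (-(b / (1 - a)))
    refine ⟨x, hx, a₀, 0, ?_, fun y => ?_⟩
    · rintro rfl
      exact a.ne_zero (by rw [← ha₀, map_zero])
    obtain ⟨z, rfl⟩ := x.surjective y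
    rw [Equiv.Perm.mul_apply, Equiv.Perm.mul_apply, Equiv.Perm.inv_def, Equiv.symm_apply_apply, hxe, hxe, hab, ha₀]
    have : (1 : GaloisField p 2) - a ≠ 0 := sub_ne_zero.mpr (Ne.symm ha)
    simp only [Units.val_one, one_mul, map_zero, add_zero]
    field_simp
    ring

end Cfsg.Agent.S5728
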