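import Cfsg.Statements.S5729


set_option autoImplicit false
open Cfsg

namespace Cfsg.Agent.S5729

/-- Let a finite group G act faithfully and transitively on a set with n ≥ 3 points. Then either G is a Frobenius permutation group (Frobenius as a permutation group: transitive, some non-identity element fixes a point, and no non-identity element fixes two points) of order n(n − 1) and exactly |G|/n of its elements are derangements (fix no point), or the number of derangements is greater than |G|/n. -/
theorem result {G Ω : Type*} [Group G] [Finite G] [MulAction G Ω] [FaithfulSMul G Ω] [Fintype Ω] (htr : MulAction.IsPretransitive G Ω) (hn : 3 ≤ Fintype.card Ω) :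
    ((MulAction.IsPretransitive G Ω ∧ (∃ g : G, g ≠ 1 ∧ ∃ ω : Ω, g • ω = ω) ∧ ∀ g : G, g ≠ 1 → Nat.card (MulAction.fixedBy Ω g) ≤ 1) ∧ Nat.card G = Fintype.card Ω * (Fintype.card Ω - 1) ∧ Fintype.card Ω * Nat.card {g : G // ∀ ω : Ω, g • ω ≠ ω} = Nat.card G) ∨
    Nat.card G < Fintype.card Ω * Nat.card {g : G // ∀ ω : Ω, g • ω ≠ ω} := by
  classical
  haveI : Fintype G := Fintype.ofFinite G
  haveI := htr
  set n := Fintype.card Ω with hn'
  set π : G → ℤ := fun g => (Fintype.card (MulAction.fixedBy Ω g) : ℤ) with hπ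
  have h1 : ∑ g : G, π g = Fintype.card G := by
    have h := MulAction.sum_card_fixedBy_eq_card_orbits_mul_card_group G Ω
    haveI : Nonempty Ω := Fintype.card_pos_iff.mp (by omega)
    haveI hs : Subsingleton (MulAction.orbitRel.Quotient G Ω) :=
      (MulAction.pretransitive_iff_subsingleton_quotient G Ω).mp htr
    haveI : Nonempty (MulAction.orbitRel.Quotient G Ω) := ⟨Quotient.mk'' (Classical.arbitrary Ω)⟩
    rw [Fintype.card_eq_one_iff_nonempty_unique.mpr ⟨uniqueOfSubsingleton (Classical.arbitrary _)⟩, one_mul] at h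
    simp only [hπ]
    exact_mod_cast h
  obtain ⟨r, hr, h2⟩ : ∃ r : ℤ, 2 ≤ r ∧ ∑ g : G, π g ^ 2 = r * Fintype.card G := by
    refine ⟨Fintype.card (MulAction.orbitRel.Quotient G (Ω × Ω)), ?_, ?_⟩
    · obtain ⟨a, b, hab⟩ := Fintype.exists_pair_of_one_lt_card (α := Ω) (by omega)
      have : 1 < Fintype.card (MulAction.orbitRel.Quotient G (Ω × Ω)) :=
        Fintype.one_lt_card_iff.mpr ⟨Quotient.mk'' (a, a), Quotient.mk'' (a, b), fun h => by
          obtain ⟨g, hg⟩ := Quotient.eq''.mp h
          simp only [Prod.smul_mk, Prod.mk.injEq] at hg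
          exact hab (smul_left_cancel g (hg.1.trans hg.2.symm))⟩
      omega
    · have h := MulAction.sum_card_fixedBy_eq_card_orbits_mul_card_group G (Ω × Ω)
      have e : ∀ g : G, Fintype.card (MulAction.fixedBy (Ω × Ω) g) = Fintype.card (MulAction.fixedBy Ω g) ^ 2 :=
        fun g => by
          rw [pow_two, ← Fintype.card_prod]
          exact Fintype.card_congr
            { toFun := fun x => (⟨x.1.1, congrArg Prod.fst x.2⟩, ⟨x.1.2, congrArg Prod.snd x.2⟩)
              invFun := fun x => ⟨(x.1.1, x.2.1), Prod.ext x.1.2 x.2.2⟩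
              left_inv := fun x => rfl
              right_inv := fun x => rfl }
      simp only [e] at h
      simp only [hπ]
      exact_mod_cast h
  have hle : ∀ g, π g ≤ n := fun g => Int.ofNat_le.mpr (Fintype.card_subtype_le _)
  set D := {g : G | ∀ ω : Ω, g • ω ≠ ω} with hD
  have hD0 : ∀ g, g ∈ D ↔ π g = 0 := fun g => by
    simp [hD, hπ, Fintype.card_eq_zero_iff, isEmpty_subtype, MulAction.mem_fixedBy]
  have key : (n : ℤ) * Nat.card D =
      (r - 1) * Fintype.card G + ∑ g : G, if g ∈ D then 0 else (π g - 1) * (n - π g) := by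
    have hsum : ∑ g : G, ((if g ∈ D then (n : ℤ) else 0) - if g ∈ D then 0 else (π g - 1) * (n - π g)) =
        ∑ g : G, (π g ^ 2 - (n + 1) * π g + n) := by
      refine Finset.sum_congr rfl fun g _ => ?_
      by_cases hg : g ∈ D
      · simp [hg, (hD0 g).mp hg]
      · simp [hg]; ring
    have hcard : ∑ g : G, (if g ∈ D then (n : ℤ) else 0) = n * Nat.card D := by
      rw [← Finset.sum_filter, Finset.sum_const, nsmul_eq_mul, mul_comm, Nat.card_eq_fintype_card, Fintype.card_subtype]
    rw [Finset.sum_sub_distrib, hcard, Finset.sum_add_distrib, Finset.sum_sub_distrib, ← Finset.mul_sum, h1, h2,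
      Finset.sum_const, Finset.card_univ, nsmul_eq_mul] at hsum
    linear_combination hsum
  have hnn : ∀ g : G, 0 ≤ if g ∈ D then 0 else (π g - 1) * (n - π g) := fun g => by
    split_ifs with hg
    · exact le_rfl
    · have h0 : π g ≠ 0 := fun h => hg ((hD0 g).mpr h)
      have h0' : (0 : ℤ) ≤ π g := Int.natCast_nonneg _
      exact mul_nonneg (by omega) (by linarith [hle g])
  have hGpos : (0 : ℤ) < Fintype.card G := by exact_mod_cast Fintype.card_pos
  rcases lt_or_ge (Nat.card G) (n * Nat.card D) with hlt | hge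
  · exact Or.inr hlt
  left
  have hge' : (n : ℤ) * Nat.card D ≤ Fintype.card G := by rw [← Nat.card_eq_fintype_card]; exact_mod_cast hge
  have hS := Finset.sum_nonneg fun g (_ : g ∈ Finset.univ) => hnn g
  have hr2 : r = 2 := by nlinarith
  have hS0 : ∑ g : G, (if g ∈ D then 0 else (π g - 1) * (n - π g)) = 0 := by rw [hr2] at key; linarith
  have hterm := (Finset.sum_eq_zero_iff_of_nonneg fun g _ => hnn g).mp hS0
  have hsemi : ∀ g : G, g ≠ 1 → π g ≤ 1 := by
    intro g hg
    by_contra hc
    push Not at hc
    have hgD : g ∉ D := fun h => by rw [(hD0 g).mp h] at hc; omega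
    have := hterm g (Finset.mem_univ _)
    rw [if_neg hgD] at this
    rcases mul_eq_zero.mp this with h | h
    · omega
    · apply hg
      refine eq_of_smul_eq_smul fun ω : Ω => ?_
      rw [one_smul]
      have hall : Fintype.card (MulAction.fixedBy Ω g) = n := by
        have : π g = n := by linarith
        simp only [hπ] at this
        exact_mod_cast this
      exact Set.eq_univ_iff_forall.mp (Set.toFinset_eq_univ.mp
        (Finset.eq_univ_of_card _ ((Set.toFinset_card _).trans hall))) ω
  have hG : (Fintype.card G : ℤ) = n * (n - 1) := by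
    have h3 : ∑ g : G, (π g ^ 2 - π g) = Fintype.card G := by
      rw [Finset.sum_sub_distrib, h1, h2, hr2]; ring
    rw [← h3, Finset.sum_eq_single 1]
    · have : π 1 = n := by
        simp only [hπ]
        exact_mod_cast (Fintype.card_congr (Equiv.subtypeUnivEquiv fun ω : Ω => one_smul G ω))
      rw [this]; ring
    · intro g _ hg
      have h0' : (0 : ℤ) ≤ π g := Int.natCast_nonneg _
      rcases (show π g = 0 ∨ π g = 1 by have := hsemi g hg; omega) with h | h <;> simp [h]
    · simp
  refine ⟨⟨htr, ?_, fun g hg => ?_⟩, ?_, ?_⟩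
  · by_contra hcon
    push Not at hcon
    have h3 : ∑ g : G, π g = n := by
      rw [Finset.sum_eq_single 1]
      · simp only [hπ]
        exact_mod_cast (Fintype.card_congr (Equiv.subtypeUnivEquiv fun ω : Ω => one_smul G ω))
      · intro g _ hg
        exact (hD0 g).mp (hcon g hg)
      · simp
    rw [h1, hG] at h3
    have h4 : (3 : ℤ) ≤ n := by exact_mod_cast hn
    nlinarith
  · rw [Nat.card_eq_fintype_card]
    have := hsemi g hg
    simp only [hπ] at this
    exact_mod_cast this
  · have h4 : ((n - 1 : ℕ) : ℤ) = (n : ℤ) - 1 := by omega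
    rw [Nat.card_eq_fintype_card]
    exact_mod_cast (show (Fintype.card G : ℤ) = ((n * (n - 1) : ℕ) : ℤ) by rw [Nat.cast_mul, h4, hG])
  · rw [hr2, hS0] at key
    have : (n : ℤ) * Nat.card D = Nat.card G := by rw [Nat.card_eq_fintype_card (α := G)]; linarith
    exact_mod_cast this

end Cfsg.Agent.S5729
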