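import Cfsg.Statements.S5730
import Cfsg.Agent.Derange12.Main

set_option autoImplicit false
open Cfsg

namespace Cfsg.Agent.S5730

/-- Let a finite group G act faithfully and transitively on a set with n ≥ 7 points. Then either G is a Frobenius permutation group (Frobenius as a permutation group: transitive, some non-identity element fixes a point, and no non-identity element fixes two points) of order n(n − 1)/a with a ∈ {1, 2}, in which case exactly a|G|/n of its elements are derangements, or the number of derangements is at least 2|G|/n. (Equality does occur: PSL₃(2) acting on the 7 points of the Fano plane has exactly 2|G|/7 derangements.) -/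
theorem result {G Ω : Type*} [Group G] [Finite G] [MulAction G Ω] [FaithfulSMul G Ω] [Fintype Ω] (htr : MulAction.IsPretransitive G Ω) (hn : 7 ≤ Fintype.card Ω) :
    (∃ a : ℕ, (a = 1 ∨ a = 2) ∧ (MulAction.IsPretransitive G Ω ∧ (∃ g : G, g ≠ 1 ∧ ∃ ω : Ω, g • ω = ω) ∧ ∀ g : G, g ≠ 1 → Nat.card (MulAction.fixedBy Ω g) ≤ 1) ∧ a * Nat.card G = Fintype.card Ω * (Fintype.card Ω - 1) ∧ Fintype.card Ω * Nat.card {g : G // ∀ ω : Ω, g • ω ≠ ω} = a * Nat.card G) ∨
    2 * Nat.card G ≤ Fintype.card Ω * Nat.card {g : G // ∀ ω : Ω, g • ω ≠ ω} := by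
  classical
  haveI := htr
  haveI := Fintype.ofFinite G
  rw [Derange12.card_derangements_eq, Nat.card_eq_fintype_card (α := G)]
  rcases Derange12.two_over_degree (G := G) (Ω := Ω) hn with ⟨h, hs⟩ | hle
  · obtain ⟨h1, h2, h3⟩ := Derange12.sharp_case hn h hs
    refine Or.inl ⟨1, Or.inl rfl, ⟨htr, ?_, fun g hg => ?_⟩, by rw [one_mul, h1], by rw [one_mul, h3]⟩
    · obtain ⟨ω⟩ : Nonempty Ω := Fintype.card_pos_iff.1 (by omega)
      by_contra hno
      push Not at hno
      have hbot : MulAction.stabilizer G ω = ⊥ := by
        rw [Subgroup.eq_bot_iff_forall]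
        intro g hg
        by_contra hg1
        exact hno g hg1 ω hg
      have h4 := (MulAction.stabilizer G ω).card_mul_index
      rw [hbot, Subgroup.card_bot, one_mul, ← hbot, MulAction.index_stabilizer_of_transitive G ω,
        Nat.card_eq_fintype_card, Nat.card_eq_fintype_card, h1] at h4
      have : Fintype.card Ω * 1 < Fintype.card Ω * (Fintype.card Ω - 1) :=
        Nat.mul_lt_mul_of_pos_left (by omega) (by omega)
      omega
    · refine le_of_eq_of_le ?_ (h2 g hg)
      rw [Nat.card_eq_fintype_card, Fintype.card_subtype]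
      rfl
  · exact Or.inr hle

end Cfsg.Agent.S5730
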