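import Cfsg.Statements.S5732
import Cfsg.Agent.DerIdx59.Main
import Cfsg.Agent.RecogB.DerIndex

set_option autoImplicit false
open Cfsg

namespace Cfsg.Agent.S5732

/-- There is a bound N such that for every finite group G acting faithfully and transitively on a set with n ≥ N points, either G is primitive and a Frobenius permutation group (Frobenius as a permutation group: transitive, some non-identity element fixes a point, and no non-identity element fixes two points), or the subgroup generated by the derangements of G has index at most √n − 1 in G. -/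
theorem result : ∃ N : ℕ, ∀ (G Ω : Type*) [Group G] [Finite G] [MulAction G Ω] [FaithfulSMul G Ω] [Fintype Ω],
      MulAction.IsPretransitive G Ω → N ≤ Fintype.card Ω →
      (MulAction.IsPreprimitive G Ω ∧ (MulAction.IsPretransitive G Ω ∧ (∃ g : G, g ≠ 1 ∧ ∃ ω : Ω, g • ω = ω) ∧ ∀ g : G, g ≠ 1 → Nat.card (MulAction.fixedBy Ω g) ≤ 1)) ∨
      ((Subgroup.closure {g : G | ∀ ω : Ω, g • ω ≠ ω}).index : ℝ) ≤ Real.sqrt (Fintype.card Ω) - 1 := by
  refine ⟨4, fun G Ω _ _ _ _ _ htrans h4 => ?_⟩
  rw [← Nat.card_eq_fintype_card] at h4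
  have key : ((RecogB.derSub G Ω).index + 1) ^ 2 ≤ Nat.card Ω →
      ((RecogB.derSub G Ω).index : ℝ) ≤ Real.sqrt (Fintype.card Ω) - 1 := fun h => by
    rw [← Nat.card_eq_fintype_card]
    have h' : (((RecogB.derSub G Ω).index : ℝ) + 1) ^ 2 ≤ (Nat.card Ω : ℝ) := by exact_mod_cast h
    have := (le_abs_self (((RecogB.derSub G Ω).index : ℝ) + 1)).trans (Real.abs_le_sqrt h')
    linarith
  by_cases hprim : MulAction.IsPreprimitive G Ω
  · rcases DerIdx59.bound_or_frobenius (G := G) (Ω := Ω) h4 with h | ⟨-, h1, h2⟩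
    · exact Or.inr (key h)
    · exact Or.inl ⟨hprim, htrans, h1, h2⟩
  · exact Or.inr (key (RecogB.index_add_one_sq_le htrans hprim))

end Cfsg.Agent.S5732
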