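import Cfsg.Statements.S5743
import Cfsg.Agent.TwistedOut.E6SubF4

set_option autoImplicit false
open Cfsg

namespace Cfsg.Agent.S5743

open Cfsg.Lie Cfsg.Agent.ChevGroup Cfsg.Agent.ChevIsogeny Cfsg.Agent.Twisted Cfsg.Agent.TwistedOut
open Cfsg.Agent.Twisted.TypeE6 Cfsg.Agent.ChevCore

set_option maxRecDepth 4000

universe u

theorem wordMat_map {D : ChevalleyDatum} {F₀ : Type} {F : Type u} [Field F₀] [Field F] (i : F₀ →+* F)
    (w : List (ℕ × F₀)) : (D.wordMat F₀ w).map i = D.wordMat F (w.map fun x => (x.1, i x.2)) := by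
  induction w with
  | nil => simp [ChevalleyDatum.wordMat]
  | cons p w ih =>
    simp only [ChevalleyDatum.wordMat, List.map_cons, List.prod_cons] at ih ⊢
    rw [Matrix.map_mul, ih, ChevFixed.x_map]

variable {K : Type u} [Field K] [Fintype K]

theorem mapGroup_wv (i : ZMod 2 →+* K) (w : List (ℕ × ZMod 2)) :
    ChevFixed.mapGroup i (wv MT (relsOfCommGood commGoodE6 (ZMod 2)) w) =
      wv MT (relsOfCommGood commGoodE6 K) (w.map fun x => (x.1, i x.2)) := by
  refine Model.mat_inj ?_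
  rw [mat_wv, ChevFixed.mat_mapGroup]
  exact (congrArg (fun M : Matrix chevE6.Idx chevE6.Idx (ZMod 2) => M.map i)
    (mat_wv (T := MT) (K := relsOfCommGood commGoodE6 (ZMod 2)) w)).trans (wordMat_map i w)

theorem word_map (i : ZMod 2 →+* K) {w : List (ℕ × ZMod 2)} (hw : w ∈ e6Words (ZMod 2) 1) :
    (w.map fun x => (x.1, i x.2)) ∈ e6Words K 2 := by
  have h2 : ∀ t : ZMod 2, t ^ 2 = t := by decide
  rcases hw with ⟨t, -, r, hr, rfl⟩ | ⟨t, rs, hr, rfl⟩
  · exact Or.inl ⟨i t, by rw [← map_pow, h2], r, hr, rfl⟩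
  · refine Or.inr ⟨i t, rs, hr, ?_⟩
    simp [← map_pow, h2]

theorem words_mem :
    [((46 : Fin MT.tab.n).val, (1 : ZMod 2))] ∈ e6Words (ZMod 2) 1 ∧
    [((39 : Fin MT.tab.n).val, (1 : ZMod 2))] ∈ e6Words (ZMod 2) 1 ∧
    [((42 : Fin MT.tab.n).val, (1 : ZMod 2)), ((37 : Fin MT.tab.n).val, 1 ^ 1)] ∈ e6Words (ZMod 2) 1 ∧
    [((56 : Fin MT.tab.n).val, (1 : ZMod 2)), ((36 : Fin MT.tab.n).val, 1 ^ 1)] ∈ e6Words (ZMod 2) 1 := by
  rw [show (46 : Fin MT.tab.n).val = 46 by decide +kernel, show (39 : Fin MT.tab.n).val = 39 by decide +kernel,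
    show (42 : Fin MT.tab.n).val = 42 by decide +kernel, show (37 : Fin MT.tab.n).val = 37 by decide +kernel,
    show (56 : Fin MT.tab.n).val = 56 by decide +kernel, show (36 : Fin MT.tab.n).val = 36 by decide +kernel]
  exact ⟨Or.inl ⟨1, one_pow 1, 46, by decide, rfl⟩, Or.inl ⟨1, one_pow 1, 39, by decide, rfl⟩,
    Or.inr ⟨1, (42, 37), by decide, rfl⟩, Or.inr ⟨1, (56, 36), by decide, rfl⟩⟩

theorem out_aux {M : Type} [Group M] {H : Subgroup M} {G : Type u} [Group G] (e : G ≃* ↥H)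
    (h : Nat.card (Cfsg.Out ↥H) = 2) : Nat.card (Cfsg.Out G) = 2 := (card_out_congr2 e).trans h

theorem out_F4 : Nat.card (Cfsg.Out ↥(chevF4.group (ZMod 2))) = Nat.gcd 2 2 * 1 :=
  ChevAut.card_F4 (F := ZMod 2) 2 1 (by rw [ZMod.card, pow_one])

theorem exists_sub (hK : Fintype.card K = 2 ^ 2) :
    ∃ L : Subgroup ↥(genG MT (relsOfCommGood commGoodE6 K) (e6Words K 2)),
      (∀ x, UnitaryE6.IsUnit1 (frame₀ (F := K) Nat.prime_two.isPrimePow hK) x → x ∈ L) ∧
      Nonempty (↥L ≃* ↥(chevF4.group (ZMod 2))) ∧ Nat.card (Cfsg.Out ↥L) = 2 := by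
  haveI : CharP K 2 := charP_of_card_eq_prime_pow hK
  let i : ZMod 2 →+* K := ZMod.castHom dvd_rfl K
  let G0 := genG MT (relsOfCommGood commGoodE6 (ZMod 2)) (e6Words (ZMod 2) 1)
  have hle : G0 ≤ (genG MT (relsOfCommGood commGoodE6 K) (e6Words K 2)).comap
      (ChevFixed.mapGroup i) := by
    refine (Subgroup.closure_le _).2 ?_
    rintro _ ⟨w, hw, rfl⟩
    rw [SetLike.mem_coe, Subgroup.mem_comap, mapGroup_wv]
    exact wv_mem (word_map i hw)
  let e0 : ↥G0 →* ↥(genG MT (relsOfCommGood commGoodE6 K) (e6Words K 2)) :=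
    ((ChevFixed.mapGroup i).comp G0.subtype).codRestrict _ fun x => hle x.2
  have he0 : Function.Injective e0 := fun x y e =>
    Subtype.ext (ChevFixed.mapGroup_injective i (congrArg Subtype.val e :))
  have hb : Function.Bijective (Fold.foldHom (F := ZMod 2)) :=
    (Nat.bijective_iff_surjective_and_card _).2 ⟨Fold.foldHom_surjective, by
      rw [card_fix frame_one, ChevGroup.TypeF4.card_group (torusFacts_of_good commGoodF4.toGood)
        (relsOfCommGood commGoodF4 (ZMod 2)) rfl]⟩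
  let e : ↥e0.range ≃* ↥(chevF4.group (ZMod 2)) :=
    (MonoidHom.ofInjective he0).symm.trans (MulEquiv.ofBijective _ hb)
  refine ⟨e0.range, ?_, ⟨e⟩, ?_⟩
  · set Z := frame₀ (F := K) Nat.prime_two.isPrimePow hK
    have one : ∀ {r : Fin MT.tab.n} (hr : r ∈ ones)
        (hw : [(r.val, (1 : ZMod 2))] ∈ e6Words (ZMod 2) 1),
        UnitaryE6.oneG Z hr (one_pow 2) ∈ e0.range := fun {r} hr hw => by
      refine ⟨⟨_, wv_mem hw⟩, Subtype.ext ?_⟩
      show ChevFixed.mapGroup i (wv MT (relsOfCommGood commGoodE6 (ZMod 2)) _) =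
        (MT.rel (relsOfCommGood commGoodE6 K)).x r 1
      rw [mapGroup_wv, List.map_cons, List.map_nil, map_one, Z.wv_cons]
      simp [wv]
    have two : ∀ {p : Fin MT.tab.n × Fin MT.tab.n} (hp : p ∈ pairs)
        (hw : [(p.1.val, (1 : ZMod 2)), (p.2.val, 1 ^ 1)] ∈ e6Words (ZMod 2) 1),
        UnitaryE6.twoG Z hp 1 ∈ e0.range := fun {p} hp hw => by
      refine ⟨⟨_, wv_mem hw⟩, Subtype.ext ?_⟩
      show ChevFixed.mapGroup i (wv MT (relsOfCommGood commGoodE6 (ZMod 2)) _) =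
        prodX MT (relsOfCommGood commGoodE6 K) [p.1, p.2] (duo 2 p.1 1)
      rw [mapGroup_wv, ← wv_pair Z hp]
      simp
    obtain ⟨w0, w1, w2, w3⟩ := words_mem
    rintro x (rfl | rfl | rfl | rfl)
    exacts [one UnitaryE6.m46 w0, one UnitaryE6.m39 w1, two (p := (42, 37)) UnitaryE6.p42 w2,
      two (p := (56, 36)) UnitaryE6.p56 w3]
  · exact out_aux e (out_F4.trans (by norm_num))


/-- The simple group ²E₆(2) (the twisted group of type E₆ over the field with 4 elements) contains at least three pairwise non-conjugate subgroups isomorphic to the Chevalley group F₄(2). -/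
theorem result {K : Type*} [Field K] [Fintype K] (hK : Fintype.card K = 4) :
    ∃ H : Fin 3 → Subgroup (Cfsg.Lie.twistedE6 K 2),
      (∀ i, Nonempty ((H i) ≃* Cfsg.Lie.chevF4.group (ZMod 2))) ∧
      (∀ i j, i ≠ j → ∀ g : (Cfsg.Lie.twistedE6 K 2), (H i).map (MulAut.conj g).toMonoidHom ≠ H j) := by
  have hK' : Fintype.card K = 2 ^ 2 := by rw [hK]; norm_num
  obtain ⟨L, hL, ⟨eL⟩, hout⟩ := exists_sub (K := K) hK'
  have hi := UnitaryE6.index_scal (frame₀ (F := K) Nat.prime_two.isPrimePow hK')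
    Nat.prime_two.isPrimePow hK' Nat.prime_two le_rfl (pow_one 2).symm
  obtain ⟨H, hH, hne⟩ := UnitaryE6.exists_three (frame₀ (F := K) Nat.prime_two.isPrimePow hK')
    Nat.prime_two.isPrimePow hK' Nat.prime_two le_rfl (pow_one 2).symm (by rw [hi]; rfl) hL hout
  let E : ↥(genG MT (relsOfCommGood commGoodE6 K) (e6Words K 2)) ≃* ↥(twistedE6 K 2) :=
    genEquiv MT (relsOfCommGood commGoodE6 K) (e6Words K 2)
  refine ⟨fun i => (H i).map E.toMonoidHom, fun i => ?_, fun i j hij g he => ?_⟩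
  · obtain ⟨ei⟩ := hH i
    exact ⟨((H i).equivMapOfInjective E.toMonoidHom E.injective).symm.trans (ei.trans eL)⟩
  · obtain ⟨g, rfl⟩ := E.surjective g
    refine hne i j hij g (Subgroup.map_injective (f := E.toMonoidHom) E.injective ?_)
    dsimp only at he
    rw [← he, Subgroup.map_map, Subgroup.map_map]
    congr 1

end Cfsg.Agent.S5743
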