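import Cfsg.Statements.S5744
import Cfsg.Agent.TwistedOut.Fi22Three
import Cfsg.Agent.SporB.Fi22.O7.Iso
import Cfsg.Agent.S5514
import Cfsg.Agent.S2604

set_option autoImplicit false
open Cfsg

namespace Cfsg.Agent.S5744

theorem exists_equiv :
    Nonempty (Cfsg.Omega (ZMod 3) (Cfsg.quadFormOdd 3 (ZMod 3)) ≃*
      Cfsg.POmega (ZMod 3) (Cfsg.quadFormOdd 3 (ZMod 3))) := by
  obtain ⟨θ⟩ := S5514.exists_omega_equiv
  have hmap : (Cfsg.Omega O73Three.F3 ⇑O73Three.Q7).map (S5514.isoEquiv : O73Three.G7 →* _) =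
      Cfsg.Omega O73Three.F3 (Cfsg.quadFormOdd 3 O73Three.F3) := by
    show (commutator O73Three.G7).map _ = commutator _
    rw [commutator_def, commutator_def, Subgroup.map_commutator,
      Subgroup.map_top_of_surjective _ S5514.isoEquiv.surjective]
  exact ⟨((S5514.isoEquiv.subgroupMap _).trans (MulEquiv.subgroupCongr hmap)).symm.trans θ⟩

/-- the subgroup `⟨b, …, i⟩` -/
def sub7 : Subgroup Cfsg.Spor.Fi22 := CosetEnum.Fi22.pres.sub CosetEnum.Fi22.O.sel

theorem sub7_iso : Nonempty (↥sub7 ≃* Cfsg.POmega (ZMod 3) (Cfsg.quadFormOdd 3 (ZMod 3))) :=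
  CosetEnum.Fi22.O7.sub_iso

theorem mem_sub (x : Cfsg.Spor.Fi22.Gen) (hx : x ≠ .a) :
    (PresentedGroup.of x : Cfsg.Spor.Fi22) ∈ sub7 := by
  cases x
  · exact absurd rfl hx
  all_goals first
    | exact Subgroup.subset_closure ⟨0, by decide, rfl⟩
    | exact Subgroup.subset_closure ⟨1, by decide, rfl⟩
    | exact Subgroup.subset_closure ⟨2, by decide, rfl⟩
    | exact Subgroup.subset_closure ⟨3, by decide, rfl⟩
    | exact Subgroup.subset_closure ⟨4, by decide, rfl⟩
    | exact Subgroup.subset_closure ⟨5, by decide, rfl⟩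
    | exact Subgroup.subset_closure ⟨6, by decide, rfl⟩
    | exact Subgroup.subset_closure ⟨7, by decide, rfl⟩

/-- The simple group ²E₆(2) (the twisted group of type E₆ over the field with 4 elements) contains at least three pairwise non-conjugate subgroups isomorphic to the orthogonal group Ω₇(3) (the commutator subgroup of the isometry group of x₀² + x₁y₁ + x₂y₂ + x₃y₃ over the field with 3 elements). -/
theorem result {K : Type*} [Field K] [Fintype K] (hK : Fintype.card K = 4) :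
    ∃ H : Fin 3 → Subgroup (Cfsg.Lie.twistedE6 K 2),
      (∀ i, Nonempty ((H i) ≃* Cfsg.Omega (ZMod 3) (Cfsg.quadFormOdd 3 (ZMod 3)))) ∧
      (∀ i j, i ≠ j → ∀ g : (Cfsg.Lie.twistedE6 K 2), (H i).map (MulAut.conj g).toMonoidHom ≠ H j) := by
  obtain ⟨e⟩ := sub7_iso
  obtain ⟨θ⟩ := exists_equiv
  have hout : Nat.card (Cfsg.Out (Cfsg.POmega (ZMod 3) (Cfsg.quadFormOdd 3 (ZMod 3)))) = 2 := by
    haveI : Fact (Nat.Prime 3) := ⟨Nat.prime_three⟩
    obtain ⟨o⟩ := S2604.result (F := ZMod 3) (p := 3) (f := 1) (m := 3) le_rfl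
      (by rw [ZMod.card, pow_one]) (by norm_num) le_rfl
    rw [Nat.card_congr o.toEquiv, Nat.card_congr Multiplicative.toAdd, Nat.card_prod, Nat.card_zmod, Nat.card_zmod]
  obtain ⟨H, hH, hne⟩ := TwistedOut.Fi22Three.three hK sub7
    mem_sub ((TwistedOut.card_out_congr2 e).trans hout)
  exact ⟨H, fun i => ⟨(hH i).some.trans (e.trans θ.symm)⟩, hne⟩

end Cfsg.Agent.S5744
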