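import Cfsg.Statements.S5746
import Cfsg.Agent.G24J2.Main
import Cfsg.Agent.SporB.Suz.G24.Iso
import Cfsg.Agent.ChevFixed.Field

set_option autoImplicit false
open Cfsg

namespace Cfsg.Agent.S5746

open Cfsg.Lie

/-- Chevalley groups over isomorphic fields. -/
noncomputable def groupEquiv {D : ChevalleyDatum} {K L : Type*} [Field K] [Field L] (e : K ≃+* L) :
    ↥(D.group K) ≃* ↥(D.group L) :=
  MulEquiv.ofBijective (ChevFixed.mapGroup e.toRingHom)
    ⟨ChevFixed.mapGroup_injective _, fun g => ⟨ChevFixed.mapGroup e.symm.toRingHom g,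
      ChevGroup.Model.mat_inj (Matrix.ext fun _ _ => e.apply_symm_apply _)⟩⟩

theorem transfer {G G' : Type*} [Group G] [Group G'] {K : Type*} [Group K] (e : G ≃* G')
    (h : ∃ H : Subgroup G, IsCoatom H ∧ Nonempty (H ≃* K) ∧
      ∀ x : G, x ∉ H → IsCoatom ((H ⊓ H.map (MulAut.conj x).toMonoidHom).subgroupOf H)) :
    ∃ H : Subgroup G', IsCoatom H ∧ Nonempty (H ≃* K) ∧
      ∀ x : G', x ∉ H → IsCoatom ((H ⊓ H.map (MulAut.conj x).toMonoidHom).subgroupOf H) := by
  obtain ⟨H, hH, ⟨f⟩, hx⟩ := h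
  let ψ : H ≃* H.map e.toMonoidHom := H.equivMapOfInjective _ e.injective
  refine ⟨H.map e.toMonoidHom, (e.mapSubgroup.isCoatom_iff _).mpr hH, ⟨ψ.symm.trans f⟩,
    fun y hy => ?_⟩
  obtain ⟨x, rfl⟩ := e.surjective y
  have hxH : x ∉ H := fun hm => hy ⟨x, hm, rfl⟩
  refine (congrArg IsCoatom ?_).mp ((ψ.mapSubgroup.isCoatom_iff _).mpr (hx x hxH))
  rw [Subgroup.inf_subgroupOf_left, Subgroup.inf_subgroupOf_left]
  have hconj : (H.map e.toMonoidHom).map (MulAut.conj (e x)).toMonoidHom =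
      (H.map (MulAut.conj x).toMonoidHom).map e.toMonoidHom := by
    rw [Subgroup.map_map, Subgroup.map_map]
    congr 1
    ext z
    simp
  rw [hconj]
  ext z
  obtain ⟨w, rfl⟩ := ψ.surjective z
  have hw : ((ψ w : H.map e.toMonoidHom) : G') = e (w : G) := rfl
  simp only [MulEquiv.mapSubgroup_apply, Subgroup.mem_map, Subgroup.mem_subgroupOf, hw]
  constructor
  · rintro ⟨u, hu, huw⟩
    obtain rfl : u = w := ψ.injective huw
    obtain ⟨v, hv, hvu⟩ := hu
    exact ⟨u, ⟨v, hv, hvu⟩, rfl⟩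
  · rintro ⟨u, hu, huw⟩
    obtain rfl : u = (w : G) := e.injective huw
    exact ⟨w, hu, rfl⟩

/-- The Chevalley group G₂(4) (over the field with 4 elements) has a maximal subgroup H isomorphic to the Hall–Janko group J₂ such that for every x outside H the intersection H ∩ xHx⁻¹ is a maximal subgroup of H; that is, the action of G₂(4) on the cosets of H is extremely primitive. -/
theorem result {F : Type*} [Field F] [Fintype F] (hF : Fintype.card F = 4) :
    ∃ H : Subgroup (Cfsg.Lie.chevG2.group F), IsCoatom H ∧ Cfsg.Spor.IsoJ2 H ∧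
      ∀ x : Cfsg.Lie.chevG2.group F, x ∉ H → IsCoatom ((H ⊓ H.map (MulAut.conj x).toMonoidHom).subgroupOf H) := by
  obtain ⟨e₁⟩ := CosetEnum.Suz.G24.iso
  let e₂ := groupEquiv (D := chevG2)
    (FiniteField.ringEquivOfCardEq (K := CosetEnum.He.F4) (K' := F) (CosetEnum.He.F4.card_eq.trans hF.symm))
  obtain ⟨H, h1, h2, h3⟩ := transfer (e₁.trans e₂) G24J2.key
  exact ⟨H, h1, h2, h3⟩

end Cfsg.Agent.S5746
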