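import Cfsg.Statements.S5747


set_option autoImplicit false
open Cfsg

namespace Cfsg.Agent.S5747

section aux

variable {G Ω : Type*} [Group G] [MulAction G Ω]

/-- An irredundant base of the subgroup `H`, as a list. -/
def Irred : Subgroup G → List Ω → Prop
  | H, [] => H = ⊥
  | H, a :: l => (∃ h ∈ H, h • a ≠ a) ∧ Irred (H ⊓ MulAction.stabilizer G a) l

theorem irred_ofFn : ∀ (t : ℕ) (H : Subgroup G) (f : Fin t → Ω), Irred H (List.ofFn f) ↔
    (∀ g ∈ H, (∀ i, g • f i = f i) → g = 1) ∧
      ∀ i : Fin t, ∃ g ∈ H, (∀ j : Fin t, j < i → g • f j = f j) ∧ g • f i ≠ f i := by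
  intro t
  induction t with
  | zero =>
    intro H f
    simp [Irred, Subgroup.eq_bot_iff_forall]
  | succ t ih =>
    intro H f
    rw [List.ofFn_succ, Irred, ih]
    constructor
    · rintro ⟨h0, h1, h2⟩
      refine ⟨fun g hg hfix => h1 g ⟨hg, hfix 0⟩ fun i => hfix i.succ, Fin.cases ?_ fun i => ?_⟩
      · obtain ⟨g, hg, hne⟩ := h0
        exact ⟨g, hg, fun j hj => absurd hj (Fin.not_lt_zero j), hne⟩
      · obtain ⟨g, hg, hlt, hne⟩ := h2 i
        refine ⟨g, hg.1, Fin.cases (fun _ => hg.2) (fun j hj => hlt j (Fin.succ_lt_succ_iff.mp hj)), hne⟩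
    · rintro ⟨h1, h2⟩
      refine ⟨?_, fun g hg hfix => h1 g hg.1 (Fin.cases hg.2 hfix), fun i => ?_⟩
      · obtain ⟨g, hg, -, hne⟩ := h2 0
        exact ⟨g, hg, hne⟩
      · obtain ⟨g, hg, hlt, hne⟩ := h2 i.succ
        exact ⟨g, ⟨hg, hlt 0 (Fin.succ_pos i)⟩, fun j hj => hlt j.succ (Fin.succ_lt_succ_iff.mpr hj), hne⟩

theorem irred_ofFn_top (t : ℕ) (f : Fin t → Ω) : Irred (⊤ : Subgroup G) (List.ofFn f) ↔
    (∀ g : G, (∀ i : Fin t, g • f i = f i) → g = 1) ∧
      ∀ i : Fin t, ∃ g : G, (∀ j : Fin t, j < i → g • f j = f j) ∧ g • f i ≠ f i := by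
  simp [irred_ofFn]

theorem exists_shorter : ∀ (l : List Ω) (H : Subgroup G), (∀ g ∈ H, (∀ a ∈ l, g • a = a) → g = 1) →
    ∃ l' : List Ω, Irred H l' ∧ l'.length ≤ l.length ∧ (¬ Irred H l → l'.length < l.length) := by
  intro l
  induction l with
  | nil =>
    intro H h
    exact ⟨[], (Subgroup.eq_bot_iff_forall H).mpr fun g hg => h g hg (by simp), le_rfl,
      fun hn => absurd ((Subgroup.eq_bot_iff_forall H).mpr fun g hg => h g hg (by simp)) hn⟩
  | cons a x ih =>
    intro H h
    by_cases ha : ∃ g ∈ H, g • a ≠ a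
    · obtain ⟨l', h1, h2, h3⟩ := ih (H ⊓ MulAction.stabilizer G a) fun g hg hfix =>
        h g hg.1 (List.forall_mem_cons.mpr ⟨hg.2, hfix⟩)
      refine ⟨a :: l', ⟨ha, h1⟩, by simp [h2], fun hn => ?_⟩
      have := h3 fun hx => hn ⟨ha, hx⟩
      simp [this]
    · push Not at ha
      obtain ⟨l', h1, h2, -⟩ := ih H fun g hg hfix => h g hg (List.forall_mem_cons.mpr ⟨ha g hg, hfix⟩)
      exact ⟨l', h1, h2.trans (by simp), fun _ => by simp only [List.length_cons]; omega⟩

/-- Transposing two neighbouring points of an irredundant base gives one. -/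
def SwapClosed (Ω : Type*) [MulAction G Ω] (H : Subgroup G) : Prop :=
  ∀ (pre : List Ω) (a b : Ω) (l : List Ω), Irred H (pre ++ a :: b :: l) → Irred H (pre ++ b :: a :: l)

theorem SwapClosed.inherit {H : Subgroup G} (hS : SwapClosed Ω H) {c : Ω} (hc : ∃ h ∈ H, h • c ≠ c) :
    SwapClosed Ω (H ⊓ MulAction.stabilizer G c) :=
  fun pre a b l h => (hS (c :: pre) a b l ⟨hc, h⟩).2

theorem mem_of_irred : ∀ (l : List Ω) (H : Subgroup G), Irred H l → ∀ g ∈ H, (∀ a ∈ l, g • a = a) → g = 1 := by
  intro l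
  induction l with
  | nil => intro H h g hg _; exact (Subgroup.eq_bot_iff_forall H).mp h g hg
  | cons a x ih =>
    intro H h g hg hfix
    exact ih _ h.2 g ⟨hg, hfix a (by simp)⟩ fun b hb => hfix b (by simp [hb])

theorem length_eq [Finite G] [Fintype Ω] : ∀ (n : ℕ) (H : Subgroup G), Nat.card H ≤ n → SwapClosed Ω H →
    ∀ l l' : List Ω, Irred H l → Irred H l' → l.length = l'.length := by
  intro n
  induction n with
  | zero => intro H hH; exact absurd (Nat.card_pos (α := H)) (by omega)
  | succ n ih =>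
    intro H hH hS l l' hl hl'
    have hdec : ∀ c : Ω, (∃ h ∈ H, h • c ≠ c) → Nat.card ↥(H ⊓ MulAction.stabilizer G c) ≤ n := by
      rintro c ⟨h, hh, hne⟩
      have hne' : H ⊓ MulAction.stabilizer G c ≠ H := fun he => hne (he.ge hh).2
      have := Subgroup.card_le_of_le (inf_le_left : H ⊓ MulAction.stabilizer G c ≤ H)
      rcases this.lt_or_eq with hlt | he
      · omega
      · exact absurd (Subgroup.eq_of_le_of_card_ge inf_le_left he.ge) hne'
    rcases l with _ | ⟨a, x⟩
    · rcases l' with _ | ⟨b, y⟩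
      · rfl
      · obtain ⟨h, hh, hne⟩ := hl'.1
        exact absurd (by rw [(Subgroup.eq_bot_iff_forall H).mp hl h hh, one_smul]) hne
    rcases l' with _ | ⟨b, y⟩
    · obtain ⟨h, hh, hne⟩ := hl.1
      exact absurd (by rw [(Subgroup.eq_bot_iff_forall H).mp hl' h hh, one_smul]) hne
    simp only [List.length_cons, Nat.add_right_cancel_iff]
    set A := H ⊓ MulAction.stabilizer G a with hA
    set B := H ⊓ MulAction.stabilizer G b with hB
    have hfaith : ∀ g ∈ H, (∀ ω : Ω, g • ω = ω) → g = 1 := fun g hg hf => mem_of_irred _ H hl g hg fun c _ => hf c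
    by_cases hb : ∃ h ∈ A, h • b ≠ b
    · classical
      obtain ⟨z, hz, -, -⟩ := exists_shorter (Finset.univ : Finset Ω).toList (A ⊓ MulAction.stabilizer G b)
        fun g hg hf => hfaith g hg.1.1 fun ω => hf ω (by simp)
      have h1 : Irred H (a :: b :: z) := ⟨hl.1, hb, hz⟩
      have h2 : Irred H (b :: a :: z) := hS [] a b z h1
      have e1 := ih A (hdec a hl.1) (hS.inherit hl.1) x (b :: z) hl.2 h1.2
      have e2 := ih B (hdec b hl'.1) (hS.inherit hl'.1) y (a :: z) hl'.2 h2.2
      simp only [List.length_cons] at e1 e2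
      omega
    · push Not at hb
      have hAB : A = B := by
        refine le_antisymm (fun g hg => ⟨hg.1, hb g hg⟩) fun g hg => ⟨hg.1, ?_⟩
        by_contra hga
        classical
        obtain ⟨z, hz, -, -⟩ := exists_shorter (Finset.univ : Finset Ω).toList (B ⊓ MulAction.stabilizer G a)
          fun g hg hf => hfaith g hg.1.1 fun ω => hf ω (by simp)
        obtain ⟨h, hh, hne⟩ := (hS [] b a z ⟨hl'.1, ⟨g, hg, hga⟩, hz⟩).2.1
        exact hne (hb h hh)
      exact ih A (hdec a hl.1) (hS.inherit hl.1) x y hl.2 (hAB ▸ hl'.2)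

end aux

/-- Let a finite group G act on a finite set Ω. An irredundant base is a sequence of points ω₁, …, ω_t whose pointwise stabiliser is trivial and in which each ω_i is moved by some element fixing ω₁, …, ω_{i−1}. Then all irredundant bases have the same length if and only if every reordering of an irredundant base is again an irredundant base. -/
theorem result {G Ω : Type*} [Group G] [Finite G] [MulAction G Ω] [Fintype Ω] :
    (∀ (t t' : ℕ) (f : Fin t → Ω) (f' : Fin t' → Ω), ((∀ g : G, (∀ i : Fin t, g • f i = f i) → g = 1) ∧ ∀ i : Fin t, ∃ g : G, (∀ j : Fin t, j < i → g • f j = f j) ∧ g • f i ≠ f i) → ((∀ g : G, (∀ i : Fin t', g • f' i = f' i) → g = 1) ∧ ∀ i : Fin t', ∃ g : G, (∀ j : Fin t', j < i → g • f' j = f' j) ∧ g • f' i ≠ f' i) → t = t') ↔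
    (∀ (t : ℕ) (f : Fin t → Ω) (σ : Equiv.Perm (Fin t)), ((∀ g : G, (∀ i : Fin t, g • f i = f i) → g = 1) ∧ ∀ i : Fin t, ∃ g : G, (∀ j : Fin t, j < i → g • f j = f j) ∧ g • f i ≠ f i) → ((∀ g : G, (∀ i : Fin t, g • (f ∘ σ) i = (f ∘ σ) i) → g = 1) ∧ ∀ i : Fin t, ∃ g : G, (∀ j : Fin t, j < i → g • (f ∘ σ) j = (f ∘ σ) j) ∧ g • (f ∘ σ) i ≠ (f ∘ σ) i)) := by
  classical
  constructor
  · intro hlen t f σ hf
    rw [← irred_ofFn_top] at hf ⊢
    by_contra hn
    obtain ⟨l', h1, -, h3⟩ := exists_shorter (List.ofFn (f ∘ σ)) ⊤ fun g hg hfix => by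
      refine ((irred_ofFn_top t f).mp hf).1 g fun i => hfix (f i) ?_
      exact List.mem_ofFn.mpr ⟨σ.symm i, by simp⟩
    have h4 := h3 hn
    rw [List.length_ofFn] at h4
    have hl' : Irred (⊤ : Subgroup G) (List.ofFn l'.get) := by rwa [List.ofFn_get]
    have := hlen t l'.length f l'.get ((irred_ofFn_top t f).mp hf) ((irred_ofFn_top _ _).mp hl')
    omega
  · intro hperm t t' f f' hf hf'
    rw [← irred_ofFn_top] at hf hf'
    have hS : SwapClosed Ω (⊤ : Subgroup G) := by
      intro pre a b l h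
      set L := pre ++ a :: b :: l with hLdef
      have hlen : pre.length + 1 < L.length := by simp [hLdef]
      let i : Fin L.length := ⟨pre.length, by omega⟩
      let j : Fin L.length := ⟨pre.length + 1, hlen⟩
      have hL : Irred (⊤ : Subgroup G) (List.ofFn L.get) := by rwa [List.ofFn_get]
      have h2 := (irred_ofFn_top _ _).mpr (hperm _ L.get (Equiv.swap i j) ((irred_ofFn_top _ _).mp hL))
      convert h2 using 1
      apply List.ext_getElem
      · simp [hLdef]; omega
      · intro k hk hk'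
        simp only [List.getElem_ofFn, Function.comp_apply, List.get_eq_getElem, Equiv.swap_apply_def, Fin.ext_iff, i, j]
        rcases lt_trichotomy k pre.length with h' | h' | h'
        · simp [hLdef, h'.ne, show k ≠ pre.length + 1 by omega, List.getElem_append_left h']
        · simp [hLdef, h']
        · obtain ⟨d, rfl⟩ := Nat.exists_eq_add_of_lt h'
          rcases d with _ | d
          · simp [hLdef]
          · rw [if_neg (by omega)]
            rw [if_neg (by omega)]
            simp only [hLdef]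
            rw [List.getElem_append_right (by omega), List.getElem_append_right (by omega)]
            simp [show pre.length + (d + 1) + 1 - pre.length = d + 2 by omega]
    simpa using length_eq (Nat.card (⊤ : Subgroup G)) ⊤ le_rfl hS _ _ hf hf'

end Cfsg.Agent.S5747
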