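import Cfsg.Statements.S5748
import Cfsg.Agent.CharDeep.CA.Main
-- import your own Cfsg.Agent.* helpers here

set_option autoImplicit false
open Cfsg

namespace Cfsg.Agent.S5748

/-- In `SL(2, F)`, `char F = 2`, elements commuting with the same non-identity element commute. -/
theorem sl_two_commute {F : Type*} [Field F] [CharP F 2] {a b c : Matrix.SpecialLinearGroup (Fin 2) F}
    (hb : b ≠ 1) (hab : Commute a b) (hbc : Commute b c) : a * c = c * a := by
  have key : ∀ {x : Matrix.SpecialLinearGroup (Fin 2) F}, Commute x b →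
      x.1 0 1 * b.1 1 0 = b.1 0 1 * x.1 1 0 ∧
      x.1 0 1 * (b.1 1 1 - b.1 0 0) = b.1 0 1 * (x.1 1 1 - x.1 0 0) ∧
      x.1 1 0 * (b.1 1 1 - b.1 0 0) = b.1 1 0 * (x.1 1 1 - x.1 0 0) := by
    intro x hx
    have h : x.1 * b.1 = b.1 * x.1 := congrArg Subtype.val hx.eq
    have h00 := congrFun (congrFun h 0) 0
    have h01 := congrFun (congrFun h 0) 1
    have h10 := congrFun (congrFun h 1) 0
    simp only [Matrix.mul_apply, Fin.sum_univ_two] at h00 h01 h10
    exact ⟨by linear_combination h00, by linear_combination h01, by linear_combination -h10⟩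
  obtain ⟨a1, a2, a3⟩ := key hab
  obtain ⟨c1, c2, c3⟩ := key hbc.symm
  have hcases : b.1 0 1 ≠ 0 ∨ b.1 1 0 ≠ 0 ∨ b.1 1 1 - b.1 0 0 ≠ 0 := by
    by_contra hno
    push Not at hno
    obtain ⟨h01, h10, h11⟩ := hno
    have hd := b.2
    rw [Matrix.det_fin_two, h01, h10, sub_eq_zero.1 h11] at hd
    have hsq : (b.1 0 0 - 1) * (b.1 0 0 - 1) = 0 := by
      have h2 : (2 : F) = 0 := CharTwo.two_eq_zero
      linear_combination hd + (1 - b.1 0 0) * h2
    have h00 : b.1 0 0 = 1 := sub_eq_zero.1 (mul_self_eq_zero.1 hsq)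
    refine hb (Subtype.ext ?_)
    ext i j
    fin_cases i <;> fin_cases j <;> simp [h01, h10, h00, sub_eq_zero.1 h11]
  have prop : ∀ x y z : F, x * b.1 1 0 = b.1 0 1 * y → x * (b.1 1 1 - b.1 0 0) = b.1 0 1 * z →
      y * (b.1 1 1 - b.1 0 0) = b.1 1 0 * z →
      ∃ l : F, x = l * b.1 0 1 ∧ y = l * b.1 1 0 ∧ z = l * (b.1 1 1 - b.1 0 0) := by
    intro x y z g1 g2 g3
    rcases hcases with h | h | h
    · refine ⟨x / b.1 0 1, ?_, ?_, ?_⟩ <;> field_simp
      · linear_combination -g1
      · linear_combination -g2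
    · refine ⟨y / b.1 1 0, ?_, ?_, ?_⟩ <;> field_simp
      · linear_combination g1
      · linear_combination -g3
    · refine ⟨z / (b.1 1 1 - b.1 0 0), ?_, ?_, ?_⟩ <;> field_simp
      · linear_combination g2
      · linear_combination g3
  obtain ⟨l, la, la', la''⟩ := prop _ _ _ a1 a2 a3
  obtain ⟨m, mc, mc', mc''⟩ := prop _ _ _ c1 c2 c3
  have e1 : a.1 0 1 * c.1 1 0 = a.1 1 0 * c.1 0 1 := by rw [la, la', mc, mc']; ring
  have e2 : a.1 0 1 * (c.1 1 1 - c.1 0 0) = c.1 0 1 * (a.1 1 1 - a.1 0 0) := by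
    rw [la, la'', mc, mc'']; ring
  have e3 : a.1 1 0 * (c.1 1 1 - c.1 0 0) = c.1 1 0 * (a.1 1 1 - a.1 0 0) := by
    rw [la', la'', mc', mc'']; ring
  refine Subtype.ext ?_
  show a.1 * c.1 = c.1 * a.1
  ext i j
  simp only [Matrix.mul_apply, Fin.sum_univ_two]
  fin_cases i <;> fin_cases j <;> simp only [Fin.zero_eta, Fin.mk_one]
  · linear_combination e1
  · linear_combination e2
  · linear_combination -e3
  · linear_combination -e1

/-- A finite non-abelian simple group in which commuting is a transitive relation on the non-identity elements (equivalently, every non-identity element has abelian centraliser) is isomorphic to PSL₂ over a field with 2^f elements for some f ≥ 2; conversely these groups have that property. -/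
theorem result {G : Type*} [Group G] [Finite G] [IsSimpleGroup G] (hG : ¬ IsMulCommutative G) :
    (∀ a b c : G, a ≠ 1 → b ≠ 1 → c ≠ 1 → Commute a b → Commute b c → Commute a c) ↔
    ∃ (F : Type) (_ : Field F) (_ : Fintype F) (f : ℕ), 2 ≤ f ∧ Fintype.card F = 2 ^ f ∧ Nonempty (G ≃* Matrix.ProjectiveSpecialLinearGroup (Fin 2) F) := by
  constructor
  · exact fun h => CharDeep.CA.exists_psl h hG
  · rintro ⟨F, iF, iFF, f, -, hF, ⟨e⟩⟩
    obtain ⟨ψ⟩ := CharDeep.OrderP.nonempty_psl_equiv_sl hF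
    have := CharDeep.OrderP.charP_two_of_card hF
    let E := e.trans ψ
    intro a b c ha hb hc hab hbc
    have hb' : E b ≠ 1 := fun h => hb (E.injective (by rw [h, map_one]))
    exact E.injective (by
      rw [map_mul, map_mul]
      exact sl_two_commute hb' (hab.map E.toMonoidHom) (hbc.map E.toMonoidHom))

end Cfsg.Agent.S5748
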