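import Cfsg.Statements.S5752
import Cfsg.Agent.LAE65.TW.Main

set_option autoImplicit false
open Cfsg

namespace Cfsg.Agent.S5752

/-- A form of the Thompson–Wielandt Theorem on primitive permutation groups. Let G be a finite group and M₁, M₂ two distinct conjugate maximal subgroups of G with trivial core in G; define two descending sequences of subgroups by A₀ = M₁, B₀ = M₂ and, for every i, A_{i+1} = the core in M₁ of A_i ∩ B_i and B_{i+1} = the core in M₂ of A_i ∩ B_i (the core in M of a subgroup Y ≤ M is the largest normal subgroup of M contained in Y). If A₂ and B₂ are both non-trivial, then for some prime p the subgroup generated by A₂ and B₂ is a p-group, and for each j the generalized Fitting subgroups of M_j and of its first core (A₁, resp. B₁) are their largest normal p-subgroups. -/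
theorem result {G : Type*} [Group G] [Finite G] (M₁ M₂ : Subgroup G) (hmax : IsCoatom M₁) (g : G)
    (hconj : M₂ = M₁.map (MulAut.conj g).toMonoidHom) (hne : M₁ ≠ M₂) (hcore : M₁.normalCore = ⊥)
    (A B : ℕ → Subgroup G) (hA0 : A 0 = M₁) (hB0 : B 0 = M₂)
    (hA : ∀ i, A (i + 1) = ((A i ⊓ B i).subgroupOf M₁).normalCore.map M₁.subtype)
    (hB : ∀ i, B (i + 1) = ((A i ⊓ B i).subgroupOf M₂).normalCore.map M₂.subtype) (hA2 : A 2 ≠ ⊥) (hB2 : B 2 ≠ ⊥) :
    ∃ p : ℕ, p.Prime ∧ IsPGroup p ↥(A 2 ⊔ B 2) ∧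
      Cfsg.generalizedFittingSubgroup ↥M₁ = Cfsg.pCore p ↥M₁ ∧ Cfsg.generalizedFittingSubgroup ↥(A 1) = Cfsg.pCore p ↥(A 1) ∧
      Cfsg.generalizedFittingSubgroup ↥M₂ = Cfsg.pCore p ↥M₂ ∧ Cfsg.generalizedFittingSubgroup ↥(B 1) = Cfsg.pCore p ↥(B 1) := by
  have hcore2 : M₂.normalCore = ⊥ := by
    rw [eq_bot_iff]
    intro x hx
    have h : g⁻¹ * x * g ∈ M₁.normalCore := by
      intro b
      have h1 : (g * b * g⁻¹) * x * (g * b * g⁻¹)⁻¹ ∈ M₂ := hx _
      rw [hconj, Subgroup.mem_map] at h1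
      obtain ⟨y, hy, hye⟩ := h1
      have : b * (g⁻¹ * x * g) * b⁻¹ = y := by
        have hye' : y = g⁻¹ * ((g * b * g⁻¹) * x * (g * b * g⁻¹)⁻¹) * g := by
          rw [← hye]; simp [MulAut.conj_apply, mul_assoc]
        rw [hye']; simp [mul_assoc]
      rw [this]; exact hy
    rw [hcore, Subgroup.mem_bot] at h
    have : x = g * (g⁻¹ * x * g) * g⁻¹ := by simp [mul_assoc]
    rw [Subgroup.mem_bot, this, h]
    simp
  have hmax2 : IsCoatom M₂ := by
    rw [hconj]
    exact ((MulAut.conj g).mapSubgroup.isCoatom_iff M₁).mpr hmax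
  let P : LAE65.TW.MPair G :=
    { M := M₁
      N := M₂
      maxM := hmax
      maxN := hmax2
      coreM := hcore
      coreN := hcore2
      ne := hne
      equiv := ⟨(M₁.equivMapOfInjective (MulAut.conj g).toMonoidHom
        (MulAut.conj g).injective).trans (MulEquiv.subgroupCongr hconj.symm)⟩ }
  have hA1 : A 1 = P.A1 := by rw [hA 0, hA0, hB0]; rfl
  have hB1 : B 1 = P.swap.A1 := by rw [hB 0, hA0, hB0, inf_comm]; rfl
  have hA2' : A 2 = P.A2 := by rw [hA 1, hA1, hB1]; rfl
  have hB2' : B 2 = P.swap.A2 := by rw [hB 1, hA1, hB1, inf_comm]; rfl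
  rw [hA2', hB2', hA1, hB1]
  exact P.thompson_wielandt (hA2' ▸ hA2) (hB2' ▸ hB2)

end Cfsg.Agent.S5752
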