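import Cfsg.Statements.S5753
import Cfsg.Agent.LocalEven61.Binary.Field

set_option autoImplicit false
set_option linter.style.haveILetI false
open Cfsg

namespace Cfsg.Agent.S5753

/-- The affine case, with the translation group written additively. -/
theorem affine_case {p : ℕ} [Fact p.Prime] {G Ω V : Type*} [Group G] [Finite G] [MulAction G Ω]
    [FaithfulSMul G Ω] [Fintype Ω] [AddCommGroup V] [Module (ZMod p) V]
    (hprim : MulAction.IsPreprimitive G Ω)
    (hbin : ∀ (n : ℕ) (I J : Fin n → Ω), 2 ≤ n →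
      (∀ i j : Fin n, i ≠ j → ∃ g : G, g • I i = J i ∧ g • I j = J j) → ∃ g : G, ∀ i, g • I i = J i)
    (ω₀ : Ω) (τ : V → G) (hτ : ∀ v w, τ (v + w) = τ v * τ w)
    (hfree : ∀ v, τ v • ω₀ = ω₀ → v = 0) (htr : ∀ ω, ∃ v, τ v • ω₀ = ω)
    (hnorm : ∀ g v, ∃ w, τ w = g * τ v * g⁻¹) (hnt : Nontrivial V) :
    ((Fintype.card Ω).Prime ∧ ∀ ω : Ω, Nat.card ↥(MulAction.stabilizer G ω) ≤ 2) ∨
    (∃ (F E : Type) (_ : Field F) (_ : Fintype F) (_ : Field E) (_ : Fintype E) (_ : Algebra F E) (e : Ω ≃ E),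
        Module.finrank F E = 2 ∧
        ∀ σ : Equiv.Perm Ω, σ ∈ (MulAction.toPermHom G Ω).range ↔
          ∃ (a b : E) (φ : E ≃ₐ[F] E), Algebra.norm F a = 1 ∧ ∀ ω : Ω, e (σ ω) = a * φ (e ω) + b) := by
  classical
  haveI := hprim
  have hτ0 : τ 0 = 1 := by
    have h := hτ 0 0
    rw [add_zero] at h
    exact left_eq_mul.1 h
  have hτneg : ∀ v, τ (-v) = (τ v)⁻¹ := fun v => by
    refine eq_inv_of_mul_eq_one_left ?_
    rw [← hτ, neg_add_cancel, hτ0]
  have hΩinj : Function.Injective fun v => τ v • ω₀ := by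
    intro a b h
    have h' : a - b = 0 := hfree _ (by
      change τ a • ω₀ = τ b • ω₀ at h
      rw [sub_eq_neg_add, hτ, hτneg, mul_smul, h, inv_smul_smul])
    exact sub_eq_zero.1 h'
  have hτinj : Function.Injective τ := fun a b h => hΩinj (by simp only [h])
  let toΩ : V ≃ Ω := Equiv.ofBijective (fun v => τ v • ω₀) ⟨hΩinj, htr⟩
  haveI : Finite V := Finite.of_equiv Ω toΩ.symm
  have hΩ0 : toΩ 0 = ω₀ := by change τ 0 • ω₀ = ω₀; rw [hτ0, one_smul]
  have hΩadd : ∀ v w : V, toΩ (v + w) = τ v • toΩ w := fun v w => by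
    change τ (v + w) • ω₀ = _
    rw [hτ, mul_smul]; rfl
  choose c hc using hnorm
  have hc_add : ∀ g v w, c g (v + w) = c g v + c g w := fun g v w => hτinj (by
    simp only [hτ, hc]; group)
  have hc_mul : ∀ g h v, c (g * h) v = c g (c h v) := fun g h v => hτinj (by
    simp only [hc]; group)
  have hc_one : ∀ v, c 1 v = v := fun v => hτinj (by simp only [hc]; group)
  let ρ : MulAction.stabilizer G ω₀ →* (V ≃ₗ[ZMod p] V) :=
    { toFun := fun h =>
        { toFun := c (h : G)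
          map_add' := hc_add _
          map_smul' := fun a x => ZMod.map_smul (AddMonoidHom.mk' (c (h : G)) (hc_add _)) a x
          invFun := c (h : G)⁻¹
          left_inv := fun v => by simp [← hc_mul, hc_one]
          right_inv := fun v => by simp [← hc_mul, hc_one] }
      map_one' := LinearEquiv.ext fun v => hc_one v
      map_mul' := fun a b => LinearEquiv.ext fun v => hc_mul _ _ v }
  have hρ : ∀ (h : MulAction.stabilizer G ω₀) (v : V), ρ h v = c (h : G) v := fun _ _ => rfl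
  have hρΩ : ∀ (h : MulAction.stabilizer G ω₀) (v : V), toΩ (ρ h v) = (h : G) • toΩ v := by
    intro h v
    change τ (c (h : G) v) • ω₀ = (h : G) • (τ v • ω₀)
    rw [hc, mul_smul, mul_smul]
    have : (h : G)⁻¹ • ω₀ = ω₀ := inv_smul_eq_iff.2 h.2.symm
    rw [this]
  have hdec : ∀ g : G, ∃ (v : V) (h : MulAction.stabilizer G ω₀), g = τ v * (h : G) := by
    intro g
    obtain ⟨v, hv⟩ := htr (g • ω₀)
    refine ⟨v, ⟨(τ v)⁻¹ * g, ?_⟩, by simp⟩
    rw [MulAction.mem_stabilizer_iff, mul_smul, ← hv, inv_smul_smul]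
  have hirr : LocalEven61.Binary.Irred ρ.range := by
    intro Y hY
    let M : Subgroup G :=
      { carrier := τ '' (Y : Set V)
        one_mem' := ⟨0, Y.zero_mem, hτ0⟩
        mul_mem' := by
          rintro _ _ ⟨a, ha, rfl⟩ ⟨b, hb, rfl⟩
          exact ⟨a + b, Y.add_mem ha hb, hτ a b⟩
        inv_mem' := by
          rintro _ ⟨a, ha, rfl⟩
          exact ⟨-a, Y.neg_mem ha, hτneg a⟩ }
    have hM : M.Normal := by
      refine ⟨?_⟩
      rintro _ ⟨a, ha, rfl⟩ g
      obtain ⟨v, h, rfl⟩ := hdec g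
      refine ⟨ρ h a, hY _ ⟨h, rfl⟩ _ ha, ?_⟩
      have hcm : τ v * τ (c (h : G) a) = τ (c (h : G) a) * τ v := by rw [← hτ, ← hτ, add_comm]
      rw [hρ]
      calc τ (c (h : G) a) = τ v * τ (c (h : G) a) * (τ v)⁻¹ := by rw [hcm, mul_inv_cancel_right]
        _ = _ := by rw [hc]; group
    haveI := hM
    by_cases hM1 : MulAction.fixedPoints M Ω = Set.univ
    · left
      refine eq_bot_iff.2 fun v hv => (Submodule.mem_bot _).2 (hfree v ?_)
      exact (hM1 ▸ Set.mem_univ ω₀ : ω₀ ∈ MulAction.fixedPoints M Ω) ⟨τ v, v, hv, rfl⟩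
    · right
      have htrM : MulAction.IsPretransitive M Ω :=
        MulAction.IsQuasiPreprimitive.isPretransitive_of_normal hM1
      refine eq_top_iff.2 fun v _ => ?_
      obtain ⟨⟨_, y, hy, rfl⟩, hm⟩ := MulAction.exists_smul_eq M ω₀ (τ v • ω₀)
      rwa [← hΩinj hm]
  have hbin' : LocalEven61.Binary.Bin ρ.range := by
    intro P h1 h2
    letI := Fintype.ofFinite P
    let f : ↥P ⊕ Fin 2 → V × V := fun x => x.elim (fun a => a.1) fun _ => 0
    let e : Fin (Fintype.card (↥P ⊕ Fin 2)) ≃ ↥P ⊕ Fin 2 := (Fintype.equivFin _).symm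
    have hd : ∀ x y, ∃ h : MulAction.stabilizer G ω₀,
        ρ h ((f x).1 - (f y).1) = (f x).2 - (f y).2 := by
      rintro (x | x) (y | y)
      · obtain ⟨_, ⟨h, rfl⟩, hh⟩ := h2 _ x.2 _ y.2
        exact ⟨h, hh⟩
      · obtain ⟨_, ⟨h, rfl⟩, hh⟩ := h1 _ x.2
        exact ⟨h, by simpa [f] using hh⟩
      · obtain ⟨_, ⟨h, rfl⟩, hh⟩ := h1 _ y.2
        exact ⟨h, by simpa [f] using hh⟩
      · exact ⟨1, by simp [f]⟩
    obtain ⟨g, hg⟩ := hbin _ (fun i => toΩ (f (e i)).1) (fun i => toΩ (f (e i)).2)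
      (by simp) (fun i j _ => by
        obtain ⟨h, hh⟩ := hd (e i) (e j)
        refine ⟨τ (f (e j)).2 * (h : G) * τ (-(f (e j)).1), ?_, ?_⟩
        · rw [mul_smul, mul_smul, ← hΩadd, ← hρΩ, ← hΩadd, neg_add_eq_sub, hh, add_sub_cancel]
        · rw [mul_smul, mul_smul, ← hΩadd, ← hρΩ, ← hΩadd, neg_add_cancel, map_zero, add_zero])
    have hg0 : g • ω₀ = ω₀ := by
      have := hg (e.symm (Sum.inr 0))
      simpa [f, hΩ0] using this
    refine ⟨ρ ⟨g, hg0⟩, ⟨_, rfl⟩, fun a ha => toΩ.injective ?_⟩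
    rw [hρΩ]
    have := hg (e.symm (Sum.inl ⟨a, ha⟩))
    simpa [f] using this
  have hρinj : Function.Injective ρ := by
    intro a b hab
    refine Subtype.ext (eq_of_smul_eq_smul (α := Ω) fun ω => ?_)
    obtain ⟨v, rfl⟩ := toΩ.surjective ω
    rw [← hρΩ, ← hρΩ, hab]
  rcases LocalEven61.Binary.classify hbin' hirr with
    ⟨hc2, hd1⟩ | ⟨F, E, iF, iFF, iE, iEF, iA, θ, hr, hθ⟩
  · left
    constructor
    · rw [← Nat.card_eq_fintype_card, ← Nat.card_congr toΩ,
        Module.natCard_eq_pow_finrank (K := ZMod p), hd1, Nat.card_zmod, pow_one]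
      exact Fact.out
    · intro ω
      have hst : Nat.card (MulAction.stabilizer G ω₀) ≤ 2 := by
        rw [Nat.card_congr (Equiv.ofInjective ρ hρinj)]
        exact hc2
      have e1 := Subgroup.card_mul_index (MulAction.stabilizer G ω)
      have e2 := Subgroup.card_mul_index (MulAction.stabilizer G ω₀)
      rw [MulAction.index_stabilizer_of_transitive] at e1 e2
      haveI : Nonempty Ω := ⟨ω⟩
      have := Nat.eq_of_mul_eq_mul_right (Nat.card_pos (α := Ω)) (e1.trans e2.symm)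
      omega
  · right
    refine ⟨F, E, iF, iFF, iE, iEF, iA, toΩ.symm.trans θ.toEquiv, hr, fun σ => ?_⟩
    constructor
    · rintro ⟨g, rfl⟩
      obtain ⟨v, h, rfl⟩ := hdec g
      obtain ⟨a, φ, ha, hf⟩ := (hθ (fun w => ρ h w)).1 ⟨_, ⟨h, rfl⟩, fun _ => rfl⟩
      refine ⟨a, θ v, φ, ha, fun ω => ?_⟩
      obtain ⟨w, rfl⟩ := toΩ.surjective ω
      change θ (toΩ.symm ((τ v * (h : G)) • toΩ w)) = a * φ (θ (toΩ.symm (toΩ w))) + θ v
      rw [mul_smul, ← hρΩ, ← hΩadd, Equiv.symm_apply_apply, Equiv.symm_apply_apply, map_add, hf,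
        add_comm]
    · rintro ⟨a, b, φ, ha, hσ⟩
      obtain ⟨_, ⟨h, rfl⟩, hh⟩ :=
        (hθ (fun w => θ.symm (a * φ (θ w)))).2 ⟨a, φ, ha, fun w => θ.apply_symm_apply _⟩
      refine ⟨τ (θ.symm b) * (h : G), Equiv.ext fun ω => ?_⟩
      obtain ⟨w, rfl⟩ := toΩ.surjective ω
      have he := hσ (toΩ w)
      change θ (toΩ.symm (σ (toΩ w))) = a * φ (θ (toΩ.symm (toΩ w))) + b at he
      rw [Equiv.symm_apply_apply, ← θ.eq_symm_apply, toΩ.symm_apply_eq] at he
      change (τ (θ.symm b) * (h : G)) • toΩ w = σ (toΩ w)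
      rw [mul_smul, ← hρΩ, ← hΩadd, ← hh w, he, map_add θ.symm, add_comm]

/-- The binary primitive permutation groups of affine type (the known proof uses the classification of the finite simple groups). Let a finite group G act faithfully and primitively on a finite set Ω, with a non-trivial abelian normal subgroup, and suppose the action is binary: for every n ≥ 2 and all n-tuples I, J of points, if for every pair of positions some element of G carries the corresponding pair of entries of I to those of J, then a single element carries I to J. Then either Ω has a prime number of points and every point stabilizer has order at most 2, or Ω can be identified with a field E that is a quadratic extension of a subfield F in such a way that the permutations induced by G are exactly the maps x ↦ a·φ(x) + b with a ∈ E of norm 1 over F, φ an automorphism of E over F and b ∈ E (the affine group of the anisotropic plane orthogonal group). -/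
theorem result {G Ω : Type*} [Group G] [Finite G] [MulAction G Ω] [FaithfulSMul G Ω] [Fintype Ω]
    (hprim : MulAction.IsPreprimitive G Ω)
    (haff : ∃ N : Subgroup G, N.Normal ∧ N ≠ ⊥ ∧ IsMulCommutative ↥N)
    (hbin : ∀ (n : ℕ) (I J : Fin n → Ω), 2 ≤ n →
      (∀ i j : Fin n, i ≠ j → ∃ g : G, g • I i = J i ∧ g • I j = J j) → ∃ g : G, ∀ i, g • I i = J i) :
    ((Fintype.card Ω).Prime ∧ ∀ ω : Ω, Nat.card ↥(MulAction.stabilizer G ω) ≤ 2) ∨
    (∃ (F E : Type) (_ : Field F) (_ : Fintype F) (_ : Field E) (_ : Fintype E) (_ : Algebra F E) (e : Ω ≃ E),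
        Module.finrank F E = 2 ∧
        ∀ σ : Equiv.Perm Ω, σ ∈ (MulAction.toPermHom G Ω).range ↔
          ∃ (a b : E) (φ : E ≃ₐ[F] E), Algebra.norm F a = 1 ∧ ∀ ω : Ω, e (σ ω) = a * φ (e ω) + b) := by
  classical
  obtain ⟨N, hN, hN1, hNc⟩ := haff
  haveI := hN
  haveI := hprim
  haveI := hNc
  letI : CommGroup N :=
    { (inferInstance : Group N) with mul_comm := fun a b => mul_comm' a b }
  have hfix : ∀ {M : Subgroup G}, M ≠ ⊥ → MulAction.fixedPoints M Ω ≠ Set.univ := by
    intro M hM h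
    refine hM (eq_bot_iff.2 fun m hm => Subgroup.mem_bot.2 (eq_of_smul_eq_smul (α := Ω) fun ω => ?_))
    have : (⟨m, hm⟩ : M) • ω = ω := (h ▸ Set.mem_univ ω : ω ∈ MulAction.fixedPoints M Ω) ⟨m, hm⟩
    rw [one_smul]; exact this
  have htrN : MulAction.IsPretransitive N Ω :=
    MulAction.IsQuasiPreprimitive.isPretransitive_of_normal (hfix hN1)
  obtain ⟨n₁, hn₁, hn₁1⟩ := N.bot_or_exists_ne_one.resolve_left hN1
  obtain ⟨ω₀⟩ : Nonempty Ω := by
    by_contra h
    rw [not_nonempty_iff] at h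
    exact hn₁1 (eq_of_smul_eq_smul (α := Ω) fun ω => isEmptyElim ω)
  have hreg : ∀ n : N, (n : G) • ω₀ = ω₀ → n = 1 := by
    intro n hn
    refine Subtype.ext (eq_of_smul_eq_smul (α := Ω) fun ω => ?_)
    obtain ⟨m, rfl⟩ := MulAction.exists_smul_eq N ω₀ ω
    rw [OneMemClass.coe_one, one_smul]
    change (n : G) • (m : G) • ω₀ = (m : G) • ω₀
    rw [← mul_smul, ← Subgroup.coe_mul, mul_comm, Subgroup.coe_mul, mul_smul, hn]
  have hinj : ∀ a b : N, (a : G) • ω₀ = (b : G) • ω₀ → a = b := by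
    intro a b h
    have h' : ((b⁻¹ * a : N) : G) • ω₀ = ω₀ := by
      rw [Subgroup.coe_mul, Subgroup.coe_inv, mul_smul, h, inv_smul_smul]
    exact (inv_mul_eq_one.1 (hreg _ h')).symm
  obtain ⟨p, hp, hpdvd⟩ : ∃ p, p.Prime ∧ p ∣ Nat.card N :=
    Nat.exists_prime_and_dvd (by
      intro h
      exact hN1 (Subgroup.eq_bot_of_card_eq N h))
  haveI : Fact p.Prime := ⟨hp⟩
  have hexp : ∀ n : N, n ^ p = 1 := by
    let M : Subgroup G :=
      { carrier := {g | g ∈ N ∧ g ^ p = 1}
        one_mem' := ⟨one_mem _, one_pow p⟩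
        mul_mem' := fun {a b} ha hb => ⟨mul_mem ha.1 hb.1, by
          have hc : Commute a b := congrArg Subtype.val (mul_comm (⟨a, ha.1⟩ : N) ⟨b, hb.1⟩)
          rw [hc.mul_pow, ha.2, hb.2, one_mul]⟩
        inv_mem' := fun {a} ha => ⟨inv_mem ha.1, by rw [inv_pow, ha.2, inv_one]⟩ }
    have hM : M.Normal := ⟨fun a ha g => ⟨hN.conj_mem a ha.1 g, by rw [conj_pow, ha.2]; group⟩⟩
    haveI := hM
    have hM1 : M ≠ ⊥ := by
      obtain ⟨x, hx⟩ := exists_prime_orderOf_dvd_card' p hpdvd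
      intro h
      have hxM : (x : G) ∈ M := ⟨x.2, by
        rw [← Subgroup.coe_pow, ← hx, pow_orderOf_eq_one]; rfl⟩
      rw [h, Subgroup.mem_bot, OneMemClass.coe_eq_one] at hxM
      rw [hxM, orderOf_one] at hx
      exact hp.ne_one hx.symm
    have htrM : MulAction.IsPretransitive M Ω :=
      MulAction.IsQuasiPreprimitive.isPretransitive_of_normal (hfix hM1)
    intro n
    obtain ⟨m, hm⟩ := MulAction.exists_smul_eq M ω₀ ((n : G) • ω₀)
    have := hinj ⟨m.1, m.2.1⟩ n hm
    rw [← this]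
    exact Subtype.ext m.2.2
  letI : Module (ZMod p) (Additive N) := AddCommGroup.zmodModule fun x => hexp x.toMul
  refine affine_case (p := p) hprim hbin ω₀ (fun v : Additive N => (v.toMul : G))
    (fun v w => rfl) (fun v hv => ?_) (fun ω => ?_) (fun g v => ?_) ?_
  · exact congrArg Additive.ofMul (hreg v.toMul hv)
  · obtain ⟨m, hm⟩ := MulAction.exists_smul_eq N ω₀ ω
    exact ⟨Additive.ofMul m, hm⟩
  · exact ⟨Additive.ofMul (⟨g * (v.toMul : G) * g⁻¹, hN.conj_mem _ v.toMul.2 g⟩ : N), rfl⟩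
  · haveI : Nontrivial N := (Subgroup.nontrivial_iff_ne_bot N).2 hN1
    infer_instance

end Cfsg.Agent.S5753
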