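import Cfsg.Statements.S5754
-- import your own Cfsg.Agent.* helpers here

set_option autoImplicit false
open Cfsg

namespace Cfsg.Agent.S5754

/-- Let V be a finite-dimensional vector space over a finite field F carrying an anisotropic quadratic form Q (Q(v) = 0 only for v = 0). Then the group of all maps v ↦ φ(v) + c, with φ an isometry of Q and c ∈ V, acts on V as a binary permutation group: given n ≥ 2 and two n-tuples u, u' of vectors such that every pair of corresponding entries of u is carried to that of u' by such a map, one such map carries u to u'. -/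
theorem result {F V : Type*} [Field F] [Finite F] [AddCommGroup V] [Module F V] [Module.Finite F V]
    (Q : QuadraticForm F V) (hQ : Q.Anisotropic) (n : ℕ) (hn : 2 ≤ n) (u u' : Fin n → V)
    (h2 : ∀ i j : Fin n, i ≠ j → ∃ (φ : Q.IsometryEquiv Q) (c : V), φ (u i) + c = u' i ∧ φ (u j) + c = u' j) :
    ∃ (φ : Q.IsometryEquiv Q) (c : V), ∀ i, φ (u i) + c = u' i := by
  classical
  -- differences from a base point
  have hn0 : 0 < n := by omega
  set o : Fin n := ⟨0, hn0⟩
  let w : Fin n → V := fun i => u i - u o
  let w' : Fin n → V := fun i => u' i - u' o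
  have hpair : ∀ i j, Q (u i - u j) = Q (u' i - u' j) := by
    intro i j
    rcases eq_or_ne i j with rfl | hij
    · simp
    obtain ⟨φ, c, hi, hj⟩ := h2 i j hij
    rw [← hi, ← hj, add_sub_add_right_eq_sub]
    exact ((φ.map_app _).symm.trans (congrArg Q (map_sub φ.toLinearEquiv _ _)))
  have hQ1 : ∀ i, Q (w i) = Q (w' i) := fun i => hpair i o
  have hQ2 : ∀ i j, Q (w i - w j) = Q (w' i - w' j) := fun i j => by
    simpa [w, w', sub_sub_sub_cancel_right] using hpair i j
  have hpol : ∀ x y : V, Q (x - y) = Q x + Q y - QuadraticMap.polar Q x y := fun x y => by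
    have h := QuadraticMap.polar_neg_right Q x y
    rw [QuadraticMap.polar, ← sub_eq_add_neg, QuadraticMap.map_neg] at h
    linear_combination h
  -- fix the differences one at a time by reflections
  suffices ∀ s : Finset (Fin n), ∃ φ : Q.IsometryEquiv Q, ∀ i ∈ s, φ (w i) = w' i by
    obtain ⟨φ, hφ⟩ := this Finset.univ
    refine ⟨φ, u' o - φ (u o), fun i => ?_⟩
    have h := hφ i (Finset.mem_univ i)
    simp only [w, w'] at h
    rw [show φ (u i - u o) = φ (u i) - φ (u o) from map_sub φ.toLinearEquiv _ _] at h
    linear_combination (norm := module) h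
  intro s
  induction s using Finset.induction_on with
  | empty => exact ⟨QuadraticMap.IsometryEquiv.refl Q, by simp⟩
  | @insert a s ha ih =>
    obtain ⟨φ, hφ⟩ := ih
    set x := φ (w a) with hx
    by_cases hxa : x = w' a
    · exact ⟨φ, fun i hi => (Finset.mem_insert.mp hi).elim (fun h => h ▸ hxa) (hφ i)⟩
    set d := x - w' a with hd
    have hQd : Q d ≠ 0 := fun h => hxa (sub_eq_zero.mp (hQ d h))
    have hQx : Q x = Q (w' a) := by rw [hx, QuadraticMap.IsometryEquiv.map_app, hQ1]
    let R : V →ₗ[F] V :=
      LinearMap.id - (((Q d)⁻¹ • QuadraticMap.polarBilin Q d).smulRight d)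
    have hR : ∀ y, R y = y - ((Q d)⁻¹ * QuadraticMap.polar Q d y) • d := fun y => by
      simp [R]
    have hRQ : ∀ y, Q (R y) = Q y := fun y => by
      rw [hR, hpol, QuadraticMap.map_smul, QuadraticMap.polar_smul_right,
        QuadraticMap.polar_comm (⇑Q) y d]
      simp only [smul_eq_mul]
      field_simp
      ring
    have hRR : ∀ y, R (R y) = y := fun y => by
      have hdd : QuadraticMap.polar Q d d = 2 * Q d := by
        rw [QuadraticMap.polar_self, nsmul_eq_mul, Nat.cast_ofNat]
      rw [hR, hR, QuadraticMap.polar_sub_right, QuadraticMap.polar_smul_right, hdd, smul_eq_mul]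
      match_scalars <;> field_simp <;> ring
    let r : Q.IsometryEquiv Q :=
      { toLinearEquiv := LinearEquiv.ofInvolutive R hRR, map_app' := hRQ }
    refine ⟨φ.trans r, fun i hi => ?_⟩
    show R (φ (w i)) = w' i
    rcases Finset.mem_insert.mp hi with rfl | hi
    · rw [← hx, hR]
      have h1 : QuadraticMap.polar Q d x = Q d := by
        have h := hpol x (w' i)
        rw [hd, QuadraticMap.polar_sub_left, QuadraticMap.polar_self, nsmul_eq_mul,
          QuadraticMap.polar_comm (⇑Q) (w' i) x, h, hQx]
        push_cast
        ring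
      rw [h1, inv_mul_cancel₀ hQd, one_smul, hd, sub_sub_cancel]
    · rw [hφ i hi, hR]
      have h1 : QuadraticMap.polar Q d (w' i) = 0 := by
        rw [hd, QuadraticMap.polar_sub_left]
        have e1 := hpol (φ (w a)) (φ (w i))
        rw [show φ (w a) - φ (w i) = φ (w a - w i) from (map_sub φ.toLinearEquiv _ _).symm,
          QuadraticMap.IsometryEquiv.map_app, hQ2, hpol (w' a) (w' i),
          QuadraticMap.IsometryEquiv.map_app, QuadraticMap.IsometryEquiv.map_app, hQ1, hQ1,
          hφ i hi, ← hx] at e1
        linear_combination e1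
      rw [h1, mul_zero, zero_smul, sub_zero]

end Cfsg.Agent.S5754
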