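import Cfsg.Statements.S5767
import Cfsg.Agent.PA24.Parity

set_option autoImplicit false
open Cfsg

namespace Cfsg.Agent.S5767

open Cfsg.Agent.PA24 Equiv Equiv.Perm

/-- Maximality of product-action wreath products. Let m ≥ 5 and k ≥ 2 and let W be the wreath product S_m ≀ S_k acting on the m^k functions f : {1..k} → {1..m} by (f ↦ (i ↦ τ_i(f(π⁻¹ i)))) for π ∈ S_k and τ_1, …, τ_k ∈ S_m. If W contains an odd permutation of these m^k points, then W is a maximal subgroup of the symmetric group on them. Unless k = 2 and m ≡ 2 (mod 4) (in which case the even permutations in W form the base group S_m × S_m, which is imprimitive), the even permutations in W form a maximal subgroup of the alternating group on these points. (The known proof uses the classification of the finite simple groups.) -/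
theorem result (m k : ℕ) (hm : 5 ≤ m) (hk : 2 ≤ k) :
    (¬ (k = 2 ∧ m % 4 = 2) → ∃ M : Subgroup ↥(alternatingGroup (Fin k → Fin m)), IsCoatom M ∧ ∀ σ : ↥(alternatingGroup (Fin k → Fin m)), σ ∈ M ↔ ∃ (π : Equiv.Perm (Fin k)) (τ : Fin k → Equiv.Perm (Fin m)), ∀ (f : Fin k → Fin m) (i : Fin k), (σ : Equiv.Perm (Fin k → Fin m)) f i = τ i (f (π.symm i))) ∧
    ((∃ σ : Equiv.Perm (Fin k → Fin m), Equiv.Perm.sign σ = -1 ∧ ∃ (π : Equiv.Perm (Fin k)) (τ : Fin k → Equiv.Perm (Fin m)), ∀ (f : Fin k → Fin m) (i : Fin k), σ f i = τ i (f (π.symm i))) →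
      ∃ M : Subgroup (Equiv.Perm (Fin k → Fin m)), IsCoatom M ∧ ∀ σ, σ ∈ M ↔ ∃ (π : Equiv.Perm (Fin k)) (τ : Fin k → Equiv.Perm (Fin m)), ∀ (f : Fin k → Fin m) (i : Fin k), σ f i = τ i (f (π.symm i))) := by
  classical
  obtain ⟨g, hg3, hgW⟩ := exists_threeCycle_not_isW hm hk
  have hgA : g ∈ alternatingGroup (Fin k → Fin m) := hg3.mem_alternatingGroup
  refine ⟨fun hex => ?_, fun hodd => ?_⟩
  · refine ⟨(wsub k m).subgroupOf (alternatingGroup _), ⟨?_, ?_⟩, fun σ => Iff.rfl⟩
    · intro htop
      exact hgW (Subgroup.subgroupOf_eq_top.1 htop hgA)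
    · intro L hlt
      let H := L.map (alternatingGroup (Fin k → Fin m)).subtype
      have hev : ∀ σ, IsW σ → sign σ = 1 → σ ∈ H := fun σ hW hs =>
        ⟨⟨σ, Equiv.Perm.mem_alternatingGroup.2 hs⟩, hlt.le hW, rfl⟩
      have hH : Hyp H := by
        refine ⟨hm, hk, fun τ hτ => hev _ (isW_bas τ) (sign_evB hτ), fun π => ?_⟩
        rcases Nat.even_or_odd m with he | ho
        · have h4 : 4 ∣ m ^ (k - 1) := by
            have h2 : 2 ∣ m := he.two_dvd
            rcases eq_or_lt_of_le hk with rfl | hk3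
            · have : m % 4 ≠ 2 := fun h => hex ⟨rfl, h⟩
              simp only [Nat.reduceSub, pow_one]
              omega
            · exact (pow_dvd_pow_of_dvd h2 2).trans (pow_dvd_pow m (by omega))
          exact ⟨1, hev _ (isW_we _ _) (sign_we_top h4 π)⟩
        · rcases Int.units_eq_one_or (sign (we (m := m) π 1)) with hs | hs
          · exact ⟨1, hev _ (isW_we _ _) hs⟩
          · let t : Perm (Fin m) := swap ⟨0, by omega⟩ ⟨1, by omega⟩
            let i : Fin k := ⟨0, by omega⟩
            refine ⟨Pi.mulSingle i t, hev _ (isW_we _ _) ?_⟩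
            have e : we π (Pi.mulSingle i t) = PA24.ι i t * we π 1 := by
              rw [ι_eq, bas_eq, we_mul]
              simp
            rw [e, map_mul, sign_ι, hs, sign_swap (by simp), (ho.pow).neg_one_pow]
            rfl
      rcases dichotomy hH with hA | hW
      · rw [eq_top_iff]
        intro σ _
        obtain ⟨σ', hσ', e⟩ := hA σ.2
        rwa [← Subtype.ext e]
      · exfalso
        obtain ⟨σ, hσL, hσW⟩ := SetLike.exists_of_lt hlt
        exact hσW (hW σ ⟨σ, hσL, rfl⟩)
  · obtain ⟨σ0, hs0, hW0⟩ := hodd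
    refine ⟨wsub k m, ⟨fun h => hgW (h ▸ Subgroup.mem_top g : g ∈ wsub k m), fun L hlt => ?_⟩,
      fun σ => Iff.rfl⟩
    have hH : Hyp L :=
      ⟨hm, hk, fun τ _ => hlt.le (isW_bas τ), fun π => ⟨1, hlt.le (isW_we _ _)⟩⟩
    rcases dichotomy hH with hA | hW
    · rw [eq_top_iff]
      intro σ _
      rcases Int.units_eq_one_or (sign σ) with hs | hs
      · exact hA (Equiv.Perm.mem_alternatingGroup.2 hs)
      · have h1 : σ * σ0 ∈ L := hA (Equiv.Perm.mem_alternatingGroup.2 (by
          rw [map_mul, hs, hs0]; rfl))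
        have := L.mul_mem h1 (L.inv_mem (hlt.le hW0))
        simpa using this
    · exfalso
      obtain ⟨σ, hσL, hσW⟩ := SetLike.exists_of_lt hlt
      exact hσW (hW σ hσL)

end Cfsg.Agent.S5767
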