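import Cfsg.Statements.S5778
import Cfsg.Agent.Aschbacher.SU3.Small2

set_option autoImplicit false
open Cfsg

namespace Cfsg.Agent.S5778

/-- Every maximal subgroup of SU_3(q), q ≥ 3, is of one of the listed geometric types or lies in the residual class. Let F be the field with q² elements, f the standard unitary form Σ u_i v_i^q on F^3, and H a maximal subgroup of SU_3(q) (the determinant-one isometries of f, inside GL_3(F)). Then H is the intersection with SU_3(q) of one of: the stabiliser of a non-zero subspace on which f vanishes; the stabiliser of a non-degenerate 1-space; for q ≠ 5, the stabiliser of a decomposition into three mutually orthogonal non-degenerate 1-spaces; for q ≠ 3, 5, the normaliser of an adjoint-closed degree-3 subfield of the matrix algebra; a subfield group of odd prime index whose F₀-structure carries f; for q odd, q ≥ 7, a subfield group of index 2 whose F₀-structure carries f; for q = p ≡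 2 mod 3 prime with p ≥ 11, the normaliser of an absolutely irreducible subgroup of order 27 with centre of order 3, exponent 3 and all characteristic abelian subgroups cyclic, contained in the similarity group of f — or else H lies in the residual class of the unitary case. -/
theorem result {F : Type*} [Field F] [Fintype F] (q : ℕ) (hF : Fintype.card F = q ^ 2) (hq : 3 ≤ q) (H : Subgroup (Matrix.GeneralLinearGroup (Fin 3) F)) (hH : Cfsg.Geo.IsMaximalIn (Cfsg.GU 3 F q ⊓ Cfsg.Geo.specialLinear (Fin 3) F) H) :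
    (∃ W : Submodule F (Fin 3 → F), W ≠ ⊥ ∧ Cfsg.Geo.IsTotallySingularFor (Cfsg.hermForm 3 F q) W ∧ H = Cfsg.Geo.subspaceStabilizer W ⊓ (Cfsg.GU 3 F q ⊓ Cfsg.Geo.specialLinear (Fin 3) F)) ∨
    (∃ W : Submodule F (Fin 3 → F), W ≠ ⊥ ∧ Cfsg.Geo.IsNondegenerateOn (Cfsg.hermForm 3 F q) W ∧ 2 * Module.finrank F W < 3 ∧ H = Cfsg.Geo.subspaceStabilizer W ⊓ (Cfsg.GU 3 F q ⊓ Cfsg.Geo.specialLinear (Fin 3) F)) ∨
    (q ≠ 5 ∧ ∃ D : Fin 3 → Submodule F (Fin 3 → F), Cfsg.Geo.IsNondegenerateMDecomposition (Cfsg.hermForm 3 F q) 1 D ∧ H = Cfsg.Geo.decompositionStabilizer D ⊓ (Cfsg.GU 3 F q ⊓ Cfsg.Geo.specialLinear (Fin 3) F)) ∨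
    (q ≠ 3 ∧ q ≠ 5 ∧ ∃ K : Subalgebra F (Matrix (Fin 3) (Fin 3) F), Cfsg.Geo.IsFieldSubalgebra 3 K ∧ Cfsg.Geo.IsAdjointClosedFor (Cfsg.hermForm 3 F q) K ∧ H = Cfsg.Geo.subalgebraNormalizer K ⊓ (Cfsg.GU 3 F q ⊓ Cfsg.Geo.specialLinear (Fin 3) F)) ∨
    (∃ (F₀ : Subfield F) (r : ℕ) (P : Matrix.GeneralLinearGroup (Fin 3) F), r.Prime ∧ Odd r ∧ Fintype.card F = Nat.card F₀ ^ r ∧ Cfsg.Geo.IsFormRationalStructure (Cfsg.hermForm 3 F q) F₀ 1 P ∧ H = Cfsg.Geo.subfieldSubgroup F₀ P ⊓ (Cfsg.GU 3 F q ⊓ Cfsg.Geo.specialLinear (Fin 3) F)) ∨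
    (Odd q ∧ 7 ≤ q ∧ ∃ (F₀ : Subfield F) (P : Matrix.GeneralLinearGroup (Fin 3) F), Fintype.card F = Nat.card F₀ ^ 2 ∧ Cfsg.Geo.IsFormRationalStructure (Cfsg.hermForm 3 F q) F₀ 1 P ∧ H = Cfsg.Geo.subfieldSubgroup F₀ P ⊓ (Cfsg.GU 3 F q ⊓ Cfsg.Geo.specialLinear (Fin 3) F)) ∨
    (∃ (p : ℕ) (R : Subgroup (Matrix.GeneralLinearGroup (Fin 3) F)), p.Prime ∧ q = p ∧ p % 3 = 2 ∧ 11 ≤ p ∧ Cfsg.Geo.IsSymplecticTypeGroup 3 R ∧ Cfsg.Geo.ActsAbsolutelyIrreducibly (Cfsg.Geo.matrixSet R) ∧ R ≤ Cfsg.Geo.similarityGroup (Cfsg.hermForm 3 F q) ∧ Nat.card R = 27 ∧ Nat.card (Subgroup.center R) = 3 ∧ H = Cfsg.Geo.subgroupNormalizer R ⊓ (Cfsg.GU 3 F q ⊓ Cfsg.Geo.specialLinear (Fin 3) F)) ∨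
    Cfsg.Geo.InUnitaryResidualClass H := by
  obtain hU := Cfsg.Agent.Aschbacher.unitary_prime (n := 3) Nat.prime_three (by decide) (Or.inr hq) hF hH
  have hset : ∀ p, (p = 3 ∨ p = 5) → q = p → ∃ (σ : F →+* F) (r : F), Aschbacher.SU3.Setup p F σ r := fun p hp e =>
    Aschbacher.SU3.exists_setup hp (by rw [hF, e])
  rcases hU with h | h | ⟨D, hD, heq⟩ | ⟨K, hK, hadj, heq⟩ | h | ⟨hodd, F₀, P, hc, hP, heq⟩ |
    ⟨p, k, R, hp, hc, hqk, hk0, hkd, hnd, hmin, hnp, hR, habs, hle, hcard, hcent, heq⟩ | h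
  · exact Or.inl h
  · exact Or.inr (Or.inl h)
  · refine Or.inr (Or.inr (Or.inl ⟨?_, D, hD, heq⟩))
    rintro rfl
    obtain ⟨σ, r, hs⟩ := hset 5 (Or.inr rfl) rfl
    exact hs.frame_not_maximal Aschbacher.SU3.frame_witness Aschbacher.SU3.frame_check hD hH
      (heq.le.trans inf_le_left)
  · refine Or.inr (Or.inr (Or.inr (Or.inl ⟨?_, ?_, K, hK, hadj, heq⟩)))
    · rintro rfl
      obtain ⟨σ, r, hs⟩ := hset 3 (Or.inl rfl) rfl
      exact hs.field_not_maximal (Or.inl rfl) Aschbacher.SU3.seven3_witness Aschbacher.SU3.seven3_check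
        Aschbacher.SU3.seven3_basis hK hadj hH (heq.le.trans inf_le_left)
    · rintro rfl
      obtain ⟨σ, r, hs⟩ := hset 5 (Or.inr rfl) rfl
      exact hs.field_not_maximal (Or.inr rfl) Aschbacher.SU3.seven5_witness Aschbacher.SU3.seven5_check
        Aschbacher.SU3.seven5_basis hK hadj hH (heq.le.trans inf_le_left)
  · exact Or.inr (Or.inr (Or.inr (Or.inr (Or.inl h))))
  · refine Or.inr (Or.inr (Or.inr (Or.inr (Or.inr (Or.inl ⟨hodd, ?_, F₀, P, hc, hP, heq⟩)))))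
    by_contra h7
    obtain rfl | rfl : q = 3 ∨ q = 5 := by obtain ⟨i, hi⟩ := hodd; omega
    · obtain ⟨σ, r, hs⟩ := hset 3 (Or.inl rfl) rfl
      exact hs.real_not_maximal Aschbacher.SU3.real3_witness Aschbacher.SU3.real3_check hc hP hH
        (heq.le.trans inf_le_left)
    · obtain ⟨σ, r, hs⟩ := hset 5 (Or.inr rfl) rfl
      exact hs.real_not_maximal Aschbacher.SU3.real5_witness Aschbacher.SU3.real5_check hc hP hH
        (heq.le.trans inf_le_left)
  · have hk : k = 1 := by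
      have := Nat.le_of_dvd (by norm_num) hkd
      omega
    subst hk
    rw [pow_one] at hqk hnd
    subst hqk
    have h3 : q % 3 = 2 := by
      have := Nat.mod_eq_zero_of_dvd hnd
      omega
    refine Or.inr (Or.inr (Or.inr (Or.inr (Or.inr (Or.inr (Or.inl ⟨q, R, hp, rfl, h3, ?_, hR, habs, hle.trans Cfsg.Agent.Aschbacher.GU_le_similarityGroup, by simpa using hcard, hcent, heq⟩))))))
    by_contra h11
    have h8 : q ≠ 8 := by rintro rfl; norm_num at hp
    obtain rfl : q = 5 := by omega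
    obtain ⟨σ, r, hs⟩ := hset 5 (Or.inr rfl) rfl
    exact hs.heis_not_maximal hR habs hle (by simpa using hcard) hcent hH (heq.le.trans inf_le_left)
  · exact Or.inr (Or.inr (Or.inr (Or.inr (Or.inr (Or.inr (Or.inr (h)))))))

end Cfsg.Agent.S5778
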