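import Cfsg.Statements.S5781
import Cfsg.Agent.Aschbacher.Composite.Cases

set_option autoImplicit false
open Cfsg Cfsg.Agent.Aschbacher

namespace Cfsg.Agent.S5781

/-- Every maximal subgroup of SL_4(q) is of one of the listed geometric types or lies in the residual class. Let F be a finite field with q elements and H a maximal subgroup of SL_4(F) (inside GL_4(F)). Then H is the intersection with SL_4(F) of one of: the stabiliser of a proper non-zero subspace; for q ≥ 7, the stabiliser of a decomposition into four independent lines; for q ≥ 4, the stabiliser of a decomposition into two independent planes; the normaliser of a degree-2 subfield of the matrix algebra; a subfield group for a subfield F₀ with |F| = |F₀|^r, r prime; for q = p ≡ 1 mod 4 prime, the normaliser of an absolutely irreducible 2-subgroup R of exponent 4 with centre of order 4, all of whose characteristic abelian subgroups are cyclic, of order 2^(2+2m) for some m (here |R| = 64), with 4 dividing p − 1;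 for q odd, the similarity group of a non-degenerate quadratic form; the similarity group of a non-degenerate symplectic form; the similarity group of a non-degenerate unitary form — or else H lies in the residual class of the linear case. -/
theorem result {F : Type*} [Field F] [Fintype F] (H : Subgroup (Matrix.GeneralLinearGroup (Fin 4) F)) (hH : Cfsg.Geo.IsMaximalIn (Cfsg.Geo.specialLinear (Fin 4) F) H) :
    (∃ W : Submodule F (Fin 4 → F), W ≠ ⊥ ∧ W ≠ ⊤ ∧ H = Cfsg.Geo.subspaceStabilizer W ⊓ Cfsg.Geo.specialLinear (Fin 4) F) ∨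
    (7 ≤ Fintype.card F ∧ ∃ D : Fin 4 → Submodule F (Fin 4 → F), Cfsg.Geo.IsMDecomposition 1 D ∧ H = Cfsg.Geo.decompositionStabilizer D ⊓ Cfsg.Geo.specialLinear (Fin 4) F) ∨
    (4 ≤ Fintype.card F ∧ ∃ D : Fin 2 → Submodule F (Fin 4 → F), Cfsg.Geo.IsMDecomposition 2 D ∧ H = Cfsg.Geo.decompositionStabilizer D ⊓ Cfsg.Geo.specialLinear (Fin 4) F) ∨
    (∃ K : Subalgebra F (Matrix (Fin 4) (Fin 4) F), Cfsg.Geo.IsFieldSubalgebra 2 K ∧ H = Cfsg.Geo.subalgebraNormalizer K ⊓ Cfsg.Geo.specialLinear (Fin 4) F) ∨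
    (∃ (F₀ : Subfield F) (r : ℕ) (P : Matrix.GeneralLinearGroup (Fin 4) F), r.Prime ∧ Fintype.card F = Nat.card F₀ ^ r ∧ H = Cfsg.Geo.subfieldSubgroup F₀ P ⊓ Cfsg.Geo.specialLinear (Fin 4) F) ∨
    (∃ (p : ℕ) (R : Subgroup (Matrix.GeneralLinearGroup (Fin 4) F)), p.Prime ∧ Fintype.card F = p ∧ p % 4 = 1 ∧ Cfsg.Geo.IsLinearSymplecticTypeData 2 R ∧ H = Cfsg.Geo.subgroupNormalizer R ⊓ Cfsg.Geo.specialLinear (Fin 4) F) ∨
    (Odd (Fintype.card F) ∧ ∃ Q : (Fin 4 → F) → F, Cfsg.Geo.IsNondegenerateQuadraticForm Q ∧ H = Cfsg.Geo.quadSimilarityGroup Q ⊓ Cfsg.Geo.specialLinear (Fin 4) F) ∨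
    (∃ f : (Fin 4 → F) → (Fin 4 → F) → F, Cfsg.Geo.IsSymplecticForm f ∧ H = Cfsg.Geo.similarityGroup f ⊓ Cfsg.Geo.specialLinear (Fin 4) F) ∨
    (∃ (σ : F ≃+* F) (f : (Fin 4 → F) → (Fin 4 → F) → F), Cfsg.Geo.IsUnitaryForm σ f ∧ H = Cfsg.Geo.similarityGroup f ⊓ Cfsg.Geo.specialLinear (Fin 4) F) ∨
    Cfsg.Geo.InLinearResidualClass H := by
  rcases linear_cases (n := 4) (by norm_num) hH with h | ⟨t, m, ht, htm, h⟩ | ⟨r, hr, hrn, h⟩ | ⟨a, b, ha, hab, habn, h⟩ | h |
      ⟨r, k, hr, hk, hrk, h, p, e, hp, hf, hc⟩ | ⟨m, t, hm, ht, hmt, h⟩ | h | h | h | h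
  · exact Or.inl (h)
  · have hm1 : 1 ≤ m := Nat.pos_of_ne_zero (by rintro rfl; simp at htm)
    have ht2 : t ≤ 4 := by nlinarith
    have hm2 : m ≤ 4 := by nlinarith
    interval_cases t <;> first | omega | skip
    · obtain rfl : m = 2 := by omega
      by_cases hq : 4 ≤ Fintype.card F
      · exact Or.inr <| Or.inr <| Or.inl (⟨hq, h⟩)
      · have := Fintype.one_lt_card (α := F)
        exact Or.inr <| Or.inr <| Or.inr <| Or.inr <| Or.inr <| Or.inr <| Or.inr <| Or.inl (planes_small (by norm_num) hH h (by omega))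
    · obtain rfl : m = 1 := by omega
      by_cases hq : 7 ≤ Fintype.card F
      · exact Or.inr <| Or.inl (⟨hq, h⟩)
      · by_cases h5 : Fintype.card F = 5
        · haveI : Fact (Nat.Prime 5) := ⟨Nat.prime_five⟩
          obtain ⟨R, hR, hRH⟩ := four_lines_small hH h h5
          exact Or.inr <| Or.inr <| Or.inr <| Or.inr <| Or.inr <| Or.inl (⟨5, R, Nat.prime_five, h5, by norm_num, hR, hRH⟩)
        · have hpp : Fintype.card F ≠ 6 := fun h6 => by
            haveI := ringChar.charP F
            obtain ⟨n, hp', hn'⟩ := FiniteField.card F (ringChar F)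
            exact not_pow_six hp' (by norm_num) Nat.prime_three (by norm_num) (by norm_num) (hn'.symm.trans h6)
          rcases lines_small (by norm_num) hH h (by omega) with h' | h' | h'
          · exact Or.inl (h')
          · exact Or.inr <| Or.inr <| Or.inr <| Or.inr <| Or.inr <| Or.inr <| Or.inr <| Or.inr <| Or.inl (h')
          · exact Or.inr <| Or.inr <| Or.inr <| Or.inr <| Or.inr <| Or.inr <| Or.inl (h')
  · have hrle := Nat.le_of_dvd (by norm_num) hrn
    interval_cases r <;> first | (exfalso; omega) | (exfalso; norm_num at hr; done) | skip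
    · exact Or.inr <| Or.inr <| Or.inr <| Or.inl (h)
  · exfalso
    have hb2 : b ≤ 4 := by nlinarith
    have ha2 : a ≤ 4 := by omega
    interval_cases a <;> omega
  · exact Or.inr <| Or.inr <| Or.inr <| Or.inr <| Or.inl (h)
  · obtain ⟨rfl, rfl, hp1⟩ := two_data (by rw [hrk]; decide) hr hc
    obtain ⟨R, hR, hRH⟩ := h
    exact Or.inr <| Or.inr <| Or.inr <| Or.inr <| Or.inr <| Or.inl (⟨p, R, hp, by rw [hf, pow_one], hp1, hR, hRH⟩)
  · obtain ⟨rfl, rfl⟩ := pow_bound hm ht hmt (by norm_num)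
    norm_num at hmt
  · exact Or.inr <| Or.inr <| Or.inr <| Or.inr <| Or.inr <| Or.inr <| Or.inr <| Or.inl (h)
  · exact Or.inr <| Or.inr <| Or.inr <| Or.inr <| Or.inr <| Or.inr <| Or.inr <| Or.inr <| Or.inl (h)
  · exact Or.inr <| Or.inr <| Or.inr <| Or.inr <| Or.inr <| Or.inr <| Or.inl (h)
  · exact Or.inr <| Or.inr <| Or.inr <| Or.inr <| Or.inr <| Or.inr <| Or.inr <| Or.inr <| Or.inr <| h

end Cfsg.Agent.S5781
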