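import Cfsg.Statements.S5784
import Cfsg.Agent.Aschbacher.Unit.LinesThree
import Cfsg.Agent.Aschbacher.Unit.PairSmall

set_option autoImplicit false
open Cfsg

namespace Cfsg.Agent.S5784

/-- Every maximal subgroup of SU_4(q) is of one of the listed geometric types or lies in the residual class. Let F be the field with q² elements, f the standard unitary form Σ u_i v_i^q on F^4, and H a maximal subgroup of SU_4(q) (inside GL_4(F)). Then H is the intersection with SU_4(q) of one of: the stabiliser of a non-zero subspace on which f vanishes; the stabiliser of a non-degenerate 1-space; for q ≠ 3, the stabiliser of a decomposition into four mutually orthogonal non-degenerate 1-spaces; for q ≥ 3, of a decomposition into two orthogonal non-degenerate 2-spaces; for q ≥ 4, of a decomposition into two totally isotropic 2-spaces; a subfield group of odd prime index whose F₀-structure carries f; a subfield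 group of index 2 whose F₀-structure carries ζ f, vanishing on pairs (u, u), for some non-zero ζ with ζ + ζ^q = 0; for q odd, a subfield group of index 2 whose F₀-structure carries f; for q = p ≡ 3 mod 4 prime, the normaliser of an absolutely irreducible symplectic-type 2-group of exponent 4, order 64 and centre of order 4 inside the similarity group of f — or else H lies in the residual class of the unitary case. -/
theorem result {F : Type*} [Field F] [Fintype F] (q : ℕ) (hF : Fintype.card F = q ^ 2) (H : Subgroup (Matrix.GeneralLinearGroup (Fin 4) F)) (hH : Cfsg.Geo.IsMaximalIn (Cfsg.GU 4 F q ⊓ Cfsg.Geo.specialLinear (Fin 4) F) H) :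
    (∃ W : Submodule F (Fin 4 → F), W ≠ ⊥ ∧ Cfsg.Geo.IsTotallySingularFor (Cfsg.hermForm 4 F q) W ∧ H = Cfsg.Geo.subspaceStabilizer W ⊓ (Cfsg.GU 4 F q ⊓ Cfsg.Geo.specialLinear (Fin 4) F)) ∨
    (∃ W : Submodule F (Fin 4 → F), W ≠ ⊥ ∧ Cfsg.Geo.IsNondegenerateOn (Cfsg.hermForm 4 F q) W ∧ 2 * Module.finrank F W < 4 ∧ H = Cfsg.Geo.subspaceStabilizer W ⊓ (Cfsg.GU 4 F q ⊓ Cfsg.Geo.specialLinear (Fin 4) F)) ∨
    (q ≠ 3 ∧ ∃ D : Fin 4 → Submodule F (Fin 4 → F), Cfsg.Geo.IsNondegenerateMDecomposition (Cfsg.hermForm 4 F q) 1 D ∧ H = Cfsg.Geo.decompositionStabilizer D ⊓ (Cfsg.GU 4 F q ⊓ Cfsg.Geo.specialLinear (Fin 4) F)) ∨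
    (3 ≤ q ∧ ∃ D : Fin 2 → Submodule F (Fin 4 → F), Cfsg.Geo.IsNondegenerateMDecomposition (Cfsg.hermForm 4 F q) 2 D ∧ H = Cfsg.Geo.decompositionStabilizer D ⊓ (Cfsg.GU 4 F q ⊓ Cfsg.Geo.specialLinear (Fin 4) F)) ∨
    (4 ≤ q ∧ ∃ D : Fin 2 → Submodule F (Fin 4 → F), Cfsg.Geo.IsMDecomposition 2 D ∧ (∀ i, Cfsg.Geo.IsTotallySingularFor (Cfsg.hermForm 4 F q) (D i)) ∧ H = Cfsg.Geo.decompositionStabilizer D ⊓ (Cfsg.GU 4 F q ⊓ Cfsg.Geo.specialLinear (Fin 4) F)) ∨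
    (∃ (F₀ : Subfield F) (r : ℕ) (P : Matrix.GeneralLinearGroup (Fin 4) F), r.Prime ∧ Odd r ∧ Fintype.card F = Nat.card F₀ ^ r ∧ Cfsg.Geo.IsFormRationalStructure (Cfsg.hermForm 4 F q) F₀ 1 P ∧ H = Cfsg.Geo.subfieldSubgroup F₀ P ⊓ (Cfsg.GU 4 F q ⊓ Cfsg.Geo.specialLinear (Fin 4) F)) ∨
    (∃ (F₀ : Subfield F) (P : Matrix.GeneralLinearGroup (Fin 4) F) (ζ : F), Fintype.card F = Nat.card F₀ ^ 2 ∧ ζ ≠ 0 ∧ ζ + ζ ^ q = 0 ∧ Cfsg.Geo.IsFormRationalStructure (Cfsg.hermForm 4 F q) F₀ ζ P ∧ (∀ u : Fin 4 → F, (∀ i, u i ∈ F₀) → (Cfsg.hermForm 4 F q) (Matrix.mulVec (P : Matrix (Fin 4) (Fin 4) F) u) (Matrix.mulVec (P : Matrix (Fin 4) (Fin 4) F) u) = 0) ∧ H = Cfsg.Geo.subfieldSubgroup F₀ P ⊓ (Cfsg.GU 4 F q ⊓ Cfsg.Geo.specialLinear (Fin 4) F)) ∨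
    (Odd q ∧ ∃ (F₀ : Subfield F) (P : Matrix.GeneralLinearGroup (Fin 4) F), Fintype.card F = Nat.card F₀ ^ 2 ∧ Cfsg.Geo.IsFormRationalStructure (Cfsg.hermForm 4 F q) F₀ 1 P ∧ H = Cfsg.Geo.subfieldSubgroup F₀ P ⊓ (Cfsg.GU 4 F q ⊓ Cfsg.Geo.specialLinear (Fin 4) F)) ∨
    (∃ (p : ℕ) (R : Subgroup (Matrix.GeneralLinearGroup (Fin 4) F)), p.Prime ∧ q = p ∧ p % 4 = 3 ∧ Cfsg.Geo.IsSymplecticTypeGroup 2 R ∧ Cfsg.Geo.ActsAbsolutelyIrreducibly (Cfsg.Geo.matrixSet R) ∧ R ≤ Cfsg.Geo.similarityGroup (Cfsg.hermForm 4 F q) ∧ Nat.card R = 64 ∧ Nat.card (Subgroup.center R) = 4 ∧ H = Cfsg.Geo.subgroupNormalizer R ⊓ (Cfsg.GU 4 F q ⊓ Cfsg.Geo.specialLinear (Fin 4) F)) ∨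
    Cfsg.Geo.InUnitaryResidualClass H := by
  have hq1 : 2 ≤ q := by
    have h1 := Fintype.one_lt_card (α := F)
    rcases q with _ | _ | q <;> simp_all
  have hsix : Cfsg.Agent.Aschbacher.SuSix q 2 2 4 H → ∃ (p : ℕ) (R : Subgroup (Matrix.GeneralLinearGroup (Fin 4) F)),
      p.Prime ∧ q = p ∧ p % 4 = 3 ∧ Cfsg.Geo.IsSymplecticTypeGroup 2 R ∧
      Cfsg.Geo.ActsAbsolutelyIrreducibly (Cfsg.Geo.matrixSet R) ∧
      R ≤ Cfsg.Geo.similarityGroup (Cfsg.hermForm 4 F q) ∧ Nat.card R = 64 ∧ Nat.card (Subgroup.center R) = 4 ∧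
      H = Cfsg.Geo.subgroupNormalizer R ⊓ (Cfsg.GU 4 F q ⊓ Cfsg.Geo.specialLinear (Fin 4) F) := by
    rintro ⟨p, e, R, hS, habs, hsim, hrp, hmin, he, hZ, hcard, hH'⟩
    obtain rfl : e = 2 := he rfl
    obtain ⟨hp, hqp, hp4⟩ := Cfsg.Agent.Aschbacher.six_field_four hF hmin
    exact ⟨p, R, hp, hqp, hp4, hS, habs, hsim, by rw [hcard]; norm_num, hZ, hH'⟩
  rcases Cfsg.Agent.Aschbacher.su_cases (by norm_num) (by norm_num) hF hH with h | h | ⟨t, k, ht, hk, htk, h⟩ |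
    ⟨k, hk, h⟩ | h | h | ⟨hev, h⟩ | ⟨r, k, z, hr, hz, hrk, h⟩ | ⟨r, hr, hro, hrn, h⟩ | ⟨a, b, ha, hab, habn, h⟩ |
    ⟨hq2, hn9, h⟩ | h
  · exact Or.inl h
  · exact Or.inr <| Or.inl h
  · have htk' : (t = 4 ∧ k = 1) ∨ (t = 2 ∧ k = 2) := by
      have : t ≤ 4 := Nat.le_of_dvd (by norm_num) ⟨k, htk.symm⟩
      interval_cases t <;> omega
    rcases htk' with ⟨rfl, rfl⟩ | ⟨rfl, rfl⟩
    · by_cases hq : q = 3
      · exact Or.inr <| Or.inr <| Or.inr <| Or.inr <| Or.inr <| Or.inr <| Or.inr <| Or.inr <| Or.inl (hsix (Cfsg.Agent.Aschbacher.lines_four_three hF hq hH h))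
      · exact Or.inr <| Or.inr <| Or.inl ⟨hq, h⟩
    · by_cases hq : q = 2
      · exact Or.inr <| Or.inr <| Or.inl ⟨by omega, Cfsg.Agent.Aschbacher.lines_of_planes_two (by norm_num) hF hq hH h⟩
      · exact Or.inr <| Or.inr <| Or.inr <| Or.inl ⟨by omega, h⟩
  · obtain rfl : k = 2 := by omega
    by_cases hq : 4 ≤ q
    · exact Or.inr <| Or.inr <| Or.inr <| Or.inr <| Or.inl ⟨hq, h⟩
    · exact Or.inr <| Or.inr <| Or.inr <| Or.inr <| Or.inr <| Or.inr <| Or.inl (Cfsg.Agent.Aschbacher.pair_four_small hF (by omega) hH h)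
  · exact Or.inr <| Or.inr <| Or.inr <| Or.inr <| Or.inr <| Or.inl h
  · exact Or.inr <| Or.inr <| Or.inr <| Or.inr <| Or.inr <| Or.inr <| Or.inr <| Or.inl h
  · exact Or.inr <| Or.inr <| Or.inr <| Or.inr <| Or.inr <| Or.inr <| Or.inl h
  · have hrle : r ≤ 4 := Nat.le_of_dvd (by norm_num) (hrk ▸ dvd_pow_self r (by rintro rfl; norm_num at hrk))
    have hkle : k < 3 := (Nat.pow_lt_pow_iff_right one_lt_two).mp (lt_of_le_of_lt
      (Nat.pow_le_pow_left hr.two_le k) (by rw [← hrk]; norm_num))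
    obtain ⟨rfl, rfl⟩ : r = 2 ∧ k = 2 := by
      interval_cases r <;> interval_cases k <;> first | (norm_num at hrk; done) | (norm_num at hr; done) | norm_num
    obtain rfl : z = 4 := by rcases hz with ⟨h1, -⟩ | ⟨-, h1⟩; exacts [absurd h1 (by decide), h1]
    exact Or.inr <| Or.inr <| Or.inr <| Or.inr <| Or.inr <| Or.inr <| Or.inr <| Or.inr <| Or.inl (hsix h)
  · exfalso
    have hrle : r ≤ 4 := Nat.le_of_dvd (by norm_num) hrn
    interval_cases r <;> first | (norm_num at hr; done) | (norm_num at hrn; done) | exact absurd hro (by decide)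
  · exfalso
    nlinarith
  · exact absurd hn9 (by norm_num)
  · exact Or.inr <| Or.inr <| Or.inr <| Or.inr <| Or.inr <| Or.inr <| Or.inr <| Or.inr <| Or.inr <| h

end Cfsg.Agent.S5784
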