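import Cfsg.Statements.S5786
import Cfsg.Agent.S5645
import Cfsg.Agent.S5647
import Cfsg.Agent.Sp4Odd.Field
import Cfsg.Agent.Sp4Odd.Lag
import Cfsg.Agent.Sp4Odd.Unit
import Cfsg.Agent.Sp4Odd.Subfield
import Cfsg.Agent.C6Units.SpMax

set_option autoImplicit false
open Cfsg

namespace Cfsg.Agent.S5786

open Matrix Cfsg.Agent.MaxSub

/-- Maximal subgroups of Sp_4(q) of geometric type, q odd. Let F be a finite field of odd order q, f the standard alternating form on F^4 (coordinates Fin 2 ⊕ Fin 2) and Sp_4(F) its isometry group inside GL_4(F). Each of the following, intersected with Sp_4(F), is a maximal subgroup of Sp_4(F): (1) the stabiliser of any non-zero totally isotropic subspace (totally isotropic 1-spaces and 2-spaces); (2) the stabiliser of any decomposition of F^4 into two mutually orthogonal non-degenerate 2-spaces; (3) for q ≥ 5, the stabiliser of any decomposition of F^4 into two totally isotropic 2-spaces; (4) the normaliser of any degree-2 subfield K of the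 matrix algebra whose elements are self-adjoint for f with f(k v, v) = 0 for all k in K and all v (f is the trace of an alternating form over K); (5) for q ≥ 5, the normaliser of any degree-2 subfield of the matrix algebra that is closed under adjoints but not self-adjoint (f is the trace of a multiple of a unitary form over K); (6) every subfield group for a subfield F₀ with |F| = |F₀|^r, r prime, whose F₀-structure carries a non-zero scalar multiple of f; (7) for q = p prime, the normaliser of any absolutely irreducible 2-group R of symplectic type and exponent 4, of order 32 with centre of order 2 and of minus type, consisting of isometries of f. -/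
theorem result {F : Type*} [Field F] [Fintype F] (hodd : Odd (Fintype.card F)) :
    (∀ W : Submodule F (Fin 2 ⊕ Fin 2 → F), W ≠ ⊥ → Cfsg.Geo.IsTotallySingularFor (Cfsg.sympForm 2 F) W → Cfsg.Geo.IsMaximalIn (Cfsg.spGL 2 F) (Cfsg.Geo.subspaceStabilizer W ⊓ Cfsg.spGL 2 F)) ∧
    (∀ D : Fin 2 → Submodule F (Fin 2 ⊕ Fin 2 → F), Cfsg.Geo.IsNondegenerateMDecomposition (Cfsg.sympForm 2 F) 2 D → Cfsg.Geo.IsMaximalIn (Cfsg.spGL 2 F) (Cfsg.Geo.decompositionStabilizer D ⊓ Cfsg.spGL 2 F)) ∧
    (5 ≤ Fintype.card F → ∀ D : Fin 2 → Submodule F (Fin 2 ⊕ Fin 2 → F), Cfsg.Geo.IsMDecomposition 2 D → (∀ i, Cfsg.Geo.IsTotallySingularFor (Cfsg.sympForm 2 F) (D i)) → Cfsg.Geo.IsMaximalIn (Cfsg.spGL 2 F) (Cfsg.Geo.decompositionStabilizer D ⊓ Cfsg.spGL 2 F)) ∧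
    (∀ K : Subalgebra F (Matrix (Fin 2 ⊕ Fin 2) (Fin 2 ⊕ Fin 2) F), Cfsg.Geo.IsFieldSubalgebra 2 K → Cfsg.Geo.IsSelfAdjointFor (Cfsg.sympForm 2 F) K → (∀ k ∈ K, ∀ v : (Fin 2 ⊕ Fin 2 → F), (Cfsg.sympForm 2 F) (Matrix.mulVec k v) v = 0) → Cfsg.Geo.IsMaximalIn (Cfsg.spGL 2 F) (Cfsg.Geo.subalgebraNormalizer K ⊓ Cfsg.spGL 2 F)) ∧
    (5 ≤ Fintype.card F → ∀ K : Subalgebra F (Matrix (Fin 2 ⊕ Fin 2) (Fin 2 ⊕ Fin 2) F), Cfsg.Geo.IsFieldSubalgebra 2 K → Cfsg.Geo.IsAdjointClosedFor (Cfsg.sympForm 2 F) K → ¬ Cfsg.Geo.IsSelfAdjointFor (Cfsg.sympForm 2 F) K → Cfsg.Geo.IsMaximalIn (Cfsg.spGL 2 F) (Cfsg.Geo.subalgebraNormalizer K ⊓ Cfsg.spGL 2 F)) ∧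
    (∀ (F₀ : Subfield F) (r : ℕ) (P : Matrix.GeneralLinearGroup (Fin 2 ⊕ Fin 2) F) (ζ : F), r.Prime → Fintype.card F = Nat.card F₀ ^ r → ζ ≠ 0 → Cfsg.Geo.IsFormRationalStructure (Cfsg.sympForm 2 F) F₀ ζ P → Cfsg.Geo.IsMaximalIn (Cfsg.spGL 2 F) (Cfsg.Geo.subfieldSubgroup F₀ P ⊓ Cfsg.spGL 2 F)) ∧
    (∀ (p : ℕ) (R : Subgroup (Matrix.GeneralLinearGroup (Fin 2 ⊕ Fin 2) F)), p.Prime → Fintype.card F = p → Cfsg.Geo.IsSymplecticTypeGroup 2 R → Cfsg.Geo.ActsAbsolutelyIrreducibly (Cfsg.Geo.matrixSet R) → R ≤ Cfsg.spGL 2 F → Nat.card R = 32 → Nat.card (Subgroup.center R) = 2 → Cfsg.Geo.IsOfMinusType 2 R → Cfsg.Geo.IsMaximalIn (Cfsg.spGL 2 F) (Cfsg.Geo.subgroupNormalizer R ⊓ Cfsg.spGL 2 F)) := by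
  have hf := isSymplecticForm_sympForm (F := F) 2
  refine ⟨?_, ?_, Sp4Odd.lagrangian_maximal hodd, Sp4Odd.field_maximal hodd, Sp4Odd.unitary_maximal hodd,
    Sp4Odd.subfield_maximal hodd, ?_⟩
  · intro W hW0 hW
    rw [spGL_eq_isom]
    exact S5645.core hf hW0 hW
  · intro D hD
    have hex : ¬ (2 = 2 ∧ Fintype.card F = 2) := fun h => by rw [h.2] at hodd; exact absurd hodd (by decide)
    rw [spGL_eq_isom]
    open S5647 in
      refine isMaximalIn_of inf_le_right ?_ fun M hHM hMK g hg hgH => ?_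
      · -- an isometry outside the stabiliser
        have htwo := hD.decomp.two_le
        set i : Fin 2 := ⟨0, by omega⟩
        set j : Fin 2 := ⟨1, by omega⟩
        have hij : i ≠ j := by simp [i, j, Fin.ext_iff]
        obtain ⟨a, ha, ha0⟩ := exists_ne_zero hf hD i
        obtain ⟨b, hb, hb0⟩ := exists_ne_zero hf hD j
        obtain ⟨x, hx, hx'⟩ := (hD.nondegenerate i a ha ha0).1
        refine ⟨st (sympForm 2 F) (a + b) 1, st_mem_isom hf _ _, fun hmem => ?_⟩
        obtain ⟨σ, hσ⟩ := hmem.1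
        have h1 : (st (sympForm 2 F) (a + b) 1 : Matrix _ _ F) *ᵥ x ∈ D (σ i) := by
          rw [← hσ i, Matrix.toLin'_apply']
          exact Submodule.mem_map_of_mem hx
        rw [st_mulVec hf, one_mul, hf.bilinear.add_right, orth_zero hf hD hij hx hb, add_zero] at h1
        obtain ⟨w, hw, hw'⟩ := (hD.nondegenerate j b hb hb0).2
        have hσj : σ i = j := by
          by_contra h
          have h2 := orth_zero hf hD h h1 hw
          rw [hf.bilinear.add_left, orth_zero hf hD hij hx hw, zero_add, hf.bilinear.smul_left,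
            hf.bilinear.add_left, orth_zero hf hD hij ha hw, zero_add] at h2
          exact mul_ne_zero hx' hw' h2
        -- but its `i`-component pairs with `D i`
        have h3 := orth_zero hf hD (Ne.symm hij) (hσj ▸ h1) ha
        rw [hf.bilinear.add_left, hf.bilinear.smul_left, hf.bilinear.add_left, hf.alternating,
          orth_zero hf hD (Ne.symm hij) hb ha, add_zero, mul_zero, add_zero] at h3
        exact hx' h3
      · have hM : ∀ i, ∀ v ∈ D i, v ∈ centres (sympForm 2 F) M :=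
          fun i v hv c => hHM (st_mem_stab hf hD hv c)
        have hgi := hMK hg
        by_contra hcon
        refine hgH ⟨mem_decompositionStabilizer hf hD fun i => ?_, hgi⟩
        refine exists_le hf hD fun x hx => ?_
        obtain ⟨y, hy, rfl⟩ := Submodule.mem_map.mp hx
        by_contra hc
        exact hcon (main hf hD hM hex hHM (conj_mem_centres hf hg hgi (hM i y hy))
          (not_exists.mp hc))
  · intro p R hp hF hRs hRi hR h32 hZ hm
    exact C6Units.sp_symplecticType_maximal hodd p R hp hF hRs hRi hR h32 hZ hm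

end Cfsg.Agent.S5786
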