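import Cfsg.Statements.S5789
import Cfsg.Agent.S5645
import Cfsg.Agent.S5647
import Cfsg.Agent.Sp4Geo.FieldMain
import Cfsg.Agent.Sp4Geo.SubfieldClause
import Cfsg.Agent.Sp4Geo.Quad

set_option autoImplicit false
open Cfsg

namespace Cfsg.Agent.S5789

open Matrix Cfsg.Agent.MaxSub

/-- Maximal subgroups of Sp_4(q) of geometric type, q ≥ 4 even. Let F be a finite field of even order q ≥ 4, f the standard alternating form on F^4 (coordinates Fin 2 ⊕ Fin 2) and Sp_4(F) its isometry group inside GL_4(F). Each of the following, intersected with Sp_4(F), is a maximal subgroup of Sp_4(F): (1) the stabiliser of any non-zero totally isotropic subspace (totally isotropic 1-spaces and 2-spaces); (2) the stabiliser of any decomposition of F^4 into two mutually orthogonal non-degenerate 2-spaces; (3) the normaliser of any degree-2 subfield K of the matrix algebra whose elements are self-adjoint for f with f(k v, v) = 0 for all k in K and all v; (4) every subfield group for a subfield F₀ with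 |F| = |F₀|^r, r prime, whose F₀-structure carries a non-zero scalar multiple of f; (5) the similarity group of any non-degenerate quadratic form whose polar form is f (either Witt type); its intersection with Sp_4(F) is the orthogonal group of that form. -/
theorem result {F : Type*} [Field F] [Fintype F] (heven : ¬ Odd (Fintype.card F)) (h4 : 4 ≤ Fintype.card F) :
    (∀ W : Submodule F (Fin 2 ⊕ Fin 2 → F), W ≠ ⊥ → Cfsg.Geo.IsTotallySingularFor (Cfsg.sympForm 2 F) W → Cfsg.Geo.IsMaximalIn (Cfsg.spGL 2 F) (Cfsg.Geo.subspaceStabilizer W ⊓ Cfsg.spGL 2 F)) ∧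
    (∀ D : Fin 2 → Submodule F (Fin 2 ⊕ Fin 2 → F), Cfsg.Geo.IsNondegenerateMDecomposition (Cfsg.sympForm 2 F) 2 D → Cfsg.Geo.IsMaximalIn (Cfsg.spGL 2 F) (Cfsg.Geo.decompositionStabilizer D ⊓ Cfsg.spGL 2 F)) ∧
    (∀ K : Subalgebra F (Matrix (Fin 2 ⊕ Fin 2) (Fin 2 ⊕ Fin 2) F), Cfsg.Geo.IsFieldSubalgebra 2 K → Cfsg.Geo.IsSelfAdjointFor (Cfsg.sympForm 2 F) K → (∀ k ∈ K, ∀ v : (Fin 2 ⊕ Fin 2 → F), (Cfsg.sympForm 2 F) (Matrix.mulVec k v) v = 0) → Cfsg.Geo.IsMaximalIn (Cfsg.spGL 2 F) (Cfsg.Geo.subalgebraNormalizer K ⊓ Cfsg.spGL 2 F)) ∧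
    (∀ (F₀ : Subfield F) (r : ℕ) (P : Matrix.GeneralLinearGroup (Fin 2 ⊕ Fin 2) F) (ζ : F), r.Prime → Fintype.card F = Nat.card F₀ ^ r → ζ ≠ 0 → Cfsg.Geo.IsFormRationalStructure (Cfsg.sympForm 2 F) F₀ ζ P → Cfsg.Geo.IsMaximalIn (Cfsg.spGL 2 F) (Cfsg.Geo.subfieldSubgroup F₀ P ⊓ Cfsg.spGL 2 F)) ∧
    (∀ Q : (Fin 2 ⊕ Fin 2 → F) → F, Cfsg.Geo.IsNondegenerateQuadraticForm Q → (∀ u v : (Fin 2 ⊕ Fin 2 → F), QuadraticMap.polar Q u v = (Cfsg.sympForm 2 F) u v) → Cfsg.Geo.IsMaximalIn (Cfsg.spGL 2 F) (Cfsg.Geo.quadSimilarityGroup Q ⊓ Cfsg.spGL 2 F)) := by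
  have hdvd : 2 ∣ Fintype.card F :=
    even_iff_two_dvd.mp (Nat.not_odd_iff_even.mp heven)
  haveI : CharP F 2 := ringChar.of_eq (FiniteField.even_card_iff_char_two.mpr
    (Nat.mod_eq_zero_of_dvd hdvd))
  have h4' : 4 ≤ Nat.card F := by rwa [Nat.card_eq_fintype_card]
  have hf := isSymplecticForm_sympForm (F := F) 2
  refine ⟨?_, ?_, ?_, ?_, ?_⟩
  · intro W hW0 hW
    rw [spGL_eq_isom]
    exact S5645.core hf hW0 hW
  · intro D hD
    have hex : ¬ (2 = 2 ∧ Fintype.card F = 2) := fun h => by omega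
    rw [spGL_eq_isom]
    open S5647 in
      refine isMaximalIn_of inf_le_right ?_ fun M hHM hMK g hg hgH => ?_
      · -- an isometry outside the stabiliser
        have htwo := hD.decomp.two_le
        set i : Fin 2 := ⟨0, by omega⟩
        set j : Fin 2 := ⟨1, by omega⟩
        have hij : i ≠ j := by simp [i, j, Fin.ext_iff]
        obtain ⟨a, ha, ha0⟩ := exists_ne_zero hf hD i
        obtain ⟨b, hb, hb0⟩ := exists_ne_zero hf hD j
        obtain ⟨x, hx, hx'⟩ := (hD.nondegenerate i a ha ha0).1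
        refine ⟨st (sympForm 2 F) (a + b) 1, st_mem_isom hf _ _, fun hmem => ?_⟩
        obtain ⟨σ, hσ⟩ := hmem.1
        have h1 : (st (sympForm 2 F) (a + b) 1 : Matrix _ _ F) *ᵥ x ∈ D (σ i) := by
          rw [← hσ i, Matrix.toLin'_apply']
          exact Submodule.mem_map_of_mem hx
        rw [st_mulVec hf, one_mul, hf.bilinear.add_right, orth_zero hf hD hij hx hb, add_zero] at h1
        obtain ⟨w, hw, hw'⟩ := (hD.nondegenerate j b hb hb0).2
        have hσj : σ i = j := by
          by_contra h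
          have h2 := orth_zero hf hD h h1 hw
          rw [hf.bilinear.add_left, orth_zero hf hD hij hx hw, zero_add, hf.bilinear.smul_left,
            hf.bilinear.add_left, orth_zero hf hD hij ha hw, zero_add] at h2
          exact mul_ne_zero hx' hw' h2
        -- but its `i`-component pairs with `D i`
        have h3 := orth_zero hf hD (Ne.symm hij) (hσj ▸ h1) ha
        rw [hf.bilinear.add_left, hf.bilinear.smul_left, hf.bilinear.add_left, hf.alternating,
          orth_zero hf hD (Ne.symm hij) hb ha, add_zero, mul_zero, add_zero] at h3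
        exact hx' h3
      · have hM : ∀ i, ∀ v ∈ D i, v ∈ centres (sympForm 2 F) M :=
          fun i v hv c => hHM (st_mem_stab hf hD hv c)
        have hgi := hMK hg
        by_contra hcon
        refine hgH ⟨mem_decompositionStabilizer hf hD fun i => ?_, hgi⟩
        refine exists_le hf hD fun x hx => ?_
        obtain ⟨y, hy, rfl⟩ := Submodule.mem_map.mp hx
        by_contra hc
        exact hcon (main hf hD hM hex hHM (conj_mem_centres hf hg hgi (hM i y hy))
          (not_exists.mp hc))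
  · intro K hK hsa halt
    rw [spGL_eq_isom]
    exact Sp4Geo.field_maximal hf rfl h4' hK hsa halt
  · intro F₀ r P ζ hr hq hζ hP
    exact Sp4Geo.subfield_maximal F₀ r P ζ hr hq hζ hP
  · intro Q hQ hpol
    exact Sp4Geo.quad_maximal hQ hpol h4'

end Cfsg.Agent.S5789
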