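import Cfsg.Statements.S5825
import Cfsg.Agent.Omega8Minus50.Subspaces
import Cfsg.Agent.Omega8Minus50.ExtMain
import Cfsg.Agent.Omega8Minus50.Sub.GL
import Cfsg.Agent.MaxSub.SubfieldQuadGL

set_option autoImplicit false
open Cfsg

namespace Cfsg.Agent.S5825

/-- Maximal subgroups of Ω_8^-(q) of geometric type (any q). Let F be a finite field with q elements, Q a non-degenerate quadratic form on F^8 (non-degenerate polar form) of minus type (Witt index 3: no totally singular 4-space), and Ω = Ω_8^-(q) the commutator subgroup of the isometry group of Q, inside GL_8(F). Each of the following, intersected with Ω, is a maximal subgroup of Ω: (1) the stabiliser of any non-zero subspace on which Q vanishes identically (totally singular 1-, 2- and 3-spaces); (2) for q odd, the stabiliser of any proper subspace of odd dimension (1, 3, 5 or 7) on which the polar form of Q is non-degenerate; (3) the stabiliser of any non-degenerate 2-space of minus type (containing no non-zero singular vector); (4) for q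 ≥ 4, the stabiliser of any non-degenerate 2-space of plus type (containing a non-zero singular vector); (5) the stabiliser of any non-degenerate 4-space (its orthogonal complement is then a non-degenerate 4-space of the opposite type); (6) for q even, the stabiliser of the 1-space spanned by any non-singular vector v (Q(v) ≠ 0); (7) for q odd, the normaliser of any degree-2 subfield K of the matrix algebra whose elements are self-adjoint for the polar form of Q (Q is then the trace of a quadratic form over K); (8) every subfield group for a subfield F₀ of odd prime index r in F whose F₀-structure carries a non-zero scalar multiple of Q. -/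
theorem result {F : Type*} [Field F] [Fintype F] (Q : (Fin 8 → F) → F) (hQ : Cfsg.Geo.IsNondegenerateQuadraticForm Q) (hminus : ¬ Cfsg.Geo.IsPlusTypeOn Q ⊤) :
    (∀ W : Submodule F (Fin 8 → F), W ≠ ⊥ → Cfsg.Geo.IsTotallySingularQuad Q W → Cfsg.Geo.IsMaximalIn (Cfsg.Geo.omegaGL Q) (Cfsg.Geo.subspaceStabilizer W ⊓ Cfsg.Geo.omegaGL Q)) ∧
    (Odd (Fintype.card F) → ∀ W : Submodule F (Fin 8 → F), W ≠ ⊥ → W ≠ ⊤ → Odd (Module.finrank F W) → Cfsg.Geo.IsNondegenerateOn (QuadraticMap.polar Q) W → Cfsg.Geo.IsMaximalIn (Cfsg.Geo.omegaGL Q) (Cfsg.Geo.subspaceStabilizer W ⊓ Cfsg.Geo.omegaGL Q)) ∧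
    (∀ W : Submodule F (Fin 8 → F), Module.finrank F W = 2 → Cfsg.Geo.IsNondegenerateOn (QuadraticMap.polar Q) W → ¬ Cfsg.Geo.IsPlusTypeOn Q W → Cfsg.Geo.IsMaximalIn (Cfsg.Geo.omegaGL Q) (Cfsg.Geo.subspaceStabilizer W ⊓ Cfsg.Geo.omegaGL Q)) ∧
    (4 ≤ Fintype.card F → ∀ W : Submodule F (Fin 8 → F), Module.finrank F W = 2 → Cfsg.Geo.IsNondegenerateOn (QuadraticMap.polar Q) W → Cfsg.Geo.IsPlusTypeOn Q W → Cfsg.Geo.IsMaximalIn (Cfsg.Geo.omegaGL Q) (Cfsg.Geo.subspaceStabilizer W ⊓ Cfsg.Geo.omegaGL Q)) ∧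
    (∀ W : Submodule F (Fin 8 → F), Module.finrank F W = 4 → Cfsg.Geo.IsNondegenerateOn (QuadraticMap.polar Q) W → Cfsg.Geo.IsMaximalIn (Cfsg.Geo.omegaGL Q) (Cfsg.Geo.subspaceStabilizer W ⊓ Cfsg.Geo.omegaGL Q)) ∧
    (¬ Odd (Fintype.card F) → ∀ v : (Fin 8 → F), Q v ≠ 0 → Cfsg.Geo.IsMaximalIn (Cfsg.Geo.omegaGL Q) (Cfsg.Geo.subspaceStabilizer (Submodule.span F {v}) ⊓ Cfsg.Geo.omegaGL Q)) ∧
    (Odd (Fintype.card F) → ∀ K : Subalgebra F (Matrix (Fin 8) (Fin 8) F), Cfsg.Geo.IsFieldSubalgebra 2 K → Cfsg.Geo.IsSelfAdjointFor (QuadraticMap.polar Q) K → Cfsg.Geo.IsMaximalIn (Cfsg.Geo.omegaGL Q) (Cfsg.Geo.subalgebraNormalizer K ⊓ Cfsg.Geo.omegaGL Q)) ∧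
    (∀ (F₀ : Subfield F) (r : ℕ) (P : Matrix.GeneralLinearGroup (Fin 8) F) (ζ : F), r.Prime → Odd r → Fintype.card F = Nat.card F₀ ^ r → ζ ≠ 0 → Cfsg.Geo.IsQuadFormRationalStructure (fun v : Fin 8 → F => ζ * Q v) F₀ P → Cfsg.Geo.IsMaximalIn (Cfsg.Geo.omegaGL Q) (Cfsg.Geo.subfieldSubgroup F₀ P ⊓ Cfsg.Geo.omegaGL Q)) := by
  obtain ⟨Qf, rfl, hnd⟩ := OrthStab.exists_form hQ
  have hfin : Module.finrank F (Fin 8 → F) = 8 := by simp
  refine ⟨fun W hW0 hW => ?_, fun _ W hW0 hW1 hodd hW => ?_, fun W hd hW hpl => ?_,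
    fun hq W hd hW _ => ?_, fun W hd hW => ?_, fun _ v hv => ?_, ?_, ?_⟩
  · refine OrthStab.singular_isMaximalIn hnd (by omega) hW hW0 fun u hu huW hperp => ?_
    have hlt := Omega8Minus50.totallySingular_lt hnd hminus _ (OrthStab.singular_sup hW hu hperp)
    rw [OrthStab.finrank_sup_singleton huW] at hlt
    omega
  · exact Omega8Minus50.subspace_isMaximalIn hnd hminus hW hW0 hW1
      (fun h => by rw [h] at hodd; exact absurd hodd (by decide))
      (fun _ h => by rw [h] at hodd; exact absurd hodd (by decide))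
  · refine Omega8Minus50.subspace_isMaximalIn hnd hminus hW (fun h => by subst h; simp [finrank_bot, finrank_top] at hd)
      (fun h => by subst h; simp [finrank_bot, finrank_top] at hd) (by omega) fun _ _ x hx hxQ => ?_
    by_contra hx0
    refine hpl ⟨Submodule.span F {x}, Submodule.span_le.mpr (Set.singleton_subset_iff.mpr hx),
      fun w hw => ?_, by rw [finrank_span_singleton hx0, hd]⟩
    obtain ⟨t, rfl⟩ := Submodule.mem_span_singleton.mp hw
    rw [UnitaryOrthogonal.form_smul, hxQ, mul_zero]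
  · exact Omega8Minus50.subspace_isMaximalIn hnd hminus hW (fun h => by subst h; simp [finrank_bot, finrank_top] at hd)
      (fun h => by subst h; simp [finrank_bot, finrank_top] at hd) (by omega)
      (fun hc => by rw [Nat.card_eq_fintype_card] at hc; omega)
  · exact Omega8Minus50.subspace_isMaximalIn hnd hminus hW (fun h => by subst h; simp [finrank_bot, finrank_top] at hd)
      (fun h => by subst h; simp [finrank_bot, finrank_top] at hd) (by omega) (fun _ h => by omega)
  · exact OrthStab.vector_isMaximalIn hnd (by omega) hv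
  · intro hodd K hK hsa
    have h2 : (2 : F) ≠ 0 := Ring.two_ne_zero fun h => by
      rw [Nat.odd_iff, FiniteField.even_card_of_char_two h] at hodd
      exact absurd hodd (by decide)
    exact Omega8Minus50.isMaximalIn_orth_two hnd h2 hK Nat.prime_two hsa rfl (Fintype.card_fin 8)
      (Omega8Minus50.totallySingular_lt hnd hminus)
  · intro F₀ r P ζ hr hodd hcard hζ hP
    classical
    have hcoe : (fun v : Fin 8 → F => ζ * Qf v) = ⇑(ζ • Qf) := rfl
    rw [← SubfieldQuad.omegaGL_smul (⇑Qf) hζ, hcoe]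
    rw [hcoe] at hP
    refine Omega8Minus50.Sub.isMaximal_subfield (ζ • Qf) (fun u hu => hnd u fun x => ?_)
      (by simp) hr hodd (by rw [Nat.card_eq_fintype_card]; exact hcard) hP
    have := hu x
    simp [QuadraticMap.polar] at this
    have h' : ζ * QuadraticMap.polar Qf u x = 0 := by
      rw [QuadraticMap.polar]; linear_combination this
    exact (mul_eq_zero.mp h').resolve_left hζ

end Cfsg.Agent.S5825
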