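import Cfsg.Statements.S5829
import Cfsg.Agent.Aschbacher.Composite.Cases

set_option autoImplicit false
open Cfsg Cfsg.Agent.Aschbacher

namespace Cfsg.Agent.S5829

/-- Every maximal subgroup of SL_9(q) is of one of the listed geometric types or lies in the residual class. Let F be a finite field with q elements (p its characteristic) and H a maximal subgroup of SL_9(F) (inside GL_9(F)). Then H is the intersection with SL_9(F) of one of: the stabiliser of a proper non-zero subspace; for q ≥ 5, the stabiliser of a decomposition into 9 independent 1-spaces; the stabiliser of a decomposition into 3 independent 3-spaces; the normaliser of a degree-3 subfield of the matrix algebra; a subfield group for a subfield F₀ with |F| = |F₀|^r, r prime; for q = p prime with p ≡ 1 mod 3, the normaliser of an absolutely irreducible 3-subgroup R of exponent 3 and order 3^(1+2m) with centre of order 3, all of whose characteristic abelian subgroups are cyclic, F being the smallest field of characteristic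 p containing the cube roots of unity (here R is extraspecial of order 3^5); the stabiliser of a tensor decomposition into 2 factors of dimension 3; for q odd, the similarity group of a non-degenerate quadratic form; the similarity group of a non-degenerate unitary form — or else H lies in the residual class of the linear case (modulo scalars H is almost simple, with absolutely irreducible perfect socle preimage realisable over no proper subfield and fixing no non-degenerate quadratic, symplectic or unitary form). -/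
theorem result {F : Type*} [Field F] [Fintype F] (H : Subgroup (Matrix.GeneralLinearGroup (Fin 9) F)) (hH : Cfsg.Geo.IsMaximalIn (Cfsg.Geo.specialLinear (Fin 9) F) H) :
    (∃ W : Submodule F (Fin 9 → F), W ≠ ⊥ ∧ W ≠ ⊤ ∧ H = Cfsg.Geo.subspaceStabilizer W ⊓ Cfsg.Geo.specialLinear (Fin 9) F) ∨
    (5 ≤ Fintype.card F ∧ ∃ D : Fin 9 → Submodule F (Fin 9 → F), Cfsg.Geo.IsMDecomposition 1 D ∧ H = Cfsg.Geo.decompositionStabilizer D ⊓ Cfsg.Geo.specialLinear (Fin 9) F) ∨
    (∃ D : Fin 3 → Submodule F (Fin 9 → F), Cfsg.Geo.IsMDecomposition 3 D ∧ H = Cfsg.Geo.decompositionStabilizer D ⊓ Cfsg.Geo.specialLinear (Fin 9) F) ∨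
    (∃ K : Subalgebra F (Matrix (Fin 9) (Fin 9) F), Cfsg.Geo.IsFieldSubalgebra 3 K ∧ H = Cfsg.Geo.subalgebraNormalizer K ⊓ Cfsg.Geo.specialLinear (Fin 9) F) ∨
    (∃ (F₀ : Subfield F) (r : ℕ) (P : Matrix.GeneralLinearGroup (Fin 9) F), r.Prime ∧ Fintype.card F = Nat.card F₀ ^ r ∧ H = Cfsg.Geo.subfieldSubgroup F₀ P ⊓ Cfsg.Geo.specialLinear (Fin 9) F) ∨
    ((∃ p : ℕ, p.Prime ∧ Fintype.card F = p ∧ (p % 3 = 1)) ∧ ∃ R : Subgroup (Matrix.GeneralLinearGroup (Fin 9) F), Cfsg.Geo.IsLinearSymplecticTypeData 3 R ∧ H = Cfsg.Geo.subgroupNormalizer R ⊓ Cfsg.Geo.specialLinear (Fin 9) F) ∨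
    (∃ (e : Fin 9 ≃ (Fin 2 → Fin 3)) (P : Matrix.GeneralLinearGroup (Fin 9) F), H = Cfsg.Geo.tensorWreathSubgroup 3 2 e P ⊓ Cfsg.Geo.specialLinear (Fin 9) F) ∨
    (Odd (Fintype.card F) ∧ ∃ Q : (Fin 9 → F) → F, Cfsg.Geo.IsNondegenerateQuadraticForm Q ∧ H = Cfsg.Geo.quadSimilarityGroup Q ⊓ Cfsg.Geo.specialLinear (Fin 9) F) ∨
    (∃ (σ : F ≃+* F) (f : (Fin 9 → F) → (Fin 9 → F) → F), Cfsg.Geo.IsUnitaryForm σ f ∧ H = Cfsg.Geo.similarityGroup f ⊓ Cfsg.Geo.specialLinear (Fin 9) F) ∨
    Cfsg.Geo.InLinearResidualClass H := by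
  rcases linear_cases (n := 9) (by norm_num) hH with h | ⟨t, m, ht, htm, h⟩ | ⟨r, hr, hrn, h⟩ | ⟨a, b, ha, hab, habn, h⟩ | h |
      ⟨r, k, hr, hk, hrk, h, p, e, hp, hf, hc⟩ | ⟨m, t, hm, ht, hmt, h⟩ | h | h | h | h
  · exact Or.inl (h)
  · have hm1 : 1 ≤ m := Nat.pos_of_ne_zero (by rintro rfl; simp at htm)
    have ht2 : t ≤ 9 := by nlinarith
    have hm2 : m ≤ 9 := by nlinarith
    interval_cases t <;> first | omega | skip
    · obtain rfl : m = 3 := by omega
      exact Or.inr <| Or.inr <| Or.inl (h)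
    · obtain rfl : m = 1 := by omega
      by_cases hq : 5 ≤ Fintype.card F
      · exact Or.inr <| Or.inl (⟨hq, h⟩)
      · rcases lines_small (by norm_num) hH h (by omega) with h' | h' | h'
        · exact Or.inl (h')
        · exact Or.inr <| Or.inr <| Or.inr <| Or.inr <| Or.inr <| Or.inr <| Or.inr <| Or.inr <| Or.inl (h')
        · exact Or.inr <| Or.inr <| Or.inr <| Or.inr <| Or.inr <| Or.inr <| Or.inr <| Or.inl (h')
  · have hrle := Nat.le_of_dvd (by norm_num) hrn
    interval_cases r <;> first | (exfalso; omega) | (exfalso; norm_num at hr; done) | skip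
    · exact Or.inr <| Or.inr <| Or.inr <| Or.inl (h)
  · exfalso
    have hb2 : b ≤ 9 := by nlinarith
    have ha2 : a ≤ 9 := by omega
    interval_cases a <;> omega
  · exact Or.inr <| Or.inr <| Or.inr <| Or.inr <| Or.inl (h)
  · obtain rfl : r = 3 := (Nat.prime_dvd_prime_iff_eq Nat.prime_three hr).mp
      (Nat.prime_three.dvd_of_dvd_pow (show 3 ∣ r ^ k by rw [hrk]; norm_num)) |>.symm
    rcases hc with ⟨h2, -⟩ | ⟨-, he, hd, hmin⟩
    · exact absurd h2 (by norm_num)
    · obtain ⟨rfl, hp1⟩ := three_data hp hd he hmin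
      exact Or.inr <| Or.inr <| Or.inr <| Or.inr <| Or.inr <| Or.inl (⟨⟨p, hp, by rw [hf, pow_one], hp1⟩, h⟩)
  · obtain ⟨rfl, rfl⟩ := pow_bound hm ht hmt (by norm_num)
    exact Or.inr <| Or.inr <| Or.inr <| Or.inr <| Or.inr <| Or.inr <| Or.inl (h)
  · obtain ⟨f, hf, -⟩ := h
    exfalso
    have hg := exists_gram (RingHom.id F) f hf.bilinear.add_left hf.bilinear.smul_left hf.bilinear.add_right
      (fun c v x => hf.bilinear.smul_right c v x)
    have hu := (Matrix.isUnit_iff_isUnit_det _).mp (gram_isUnit hg hf.nondegenerate)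
    rw [det_eq_zero_of_alternating (by simp; decide) (G := Geo.gramMatrix f) (fun i => hf.alternating _)
      (fun i j => hf.skew _ _)] at hu
    exact not_isUnit_zero hu
  · exact Or.inr <| Or.inr <| Or.inr <| Or.inr <| Or.inr <| Or.inr <| Or.inr <| Or.inr <| Or.inl (h)
  · exact Or.inr <| Or.inr <| Or.inr <| Or.inr <| Or.inr <| Or.inr <| Or.inr <| Or.inl (h)
  · exact Or.inr <| Or.inr <| Or.inr <| Or.inr <| Or.inr <| Or.inr <| Or.inr <| Or.inr <| Or.inr <| h

end Cfsg.Agent.S5829
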