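import Cfsg.Statements.S5835
import Cfsg.Agent.Aschbacher.Orth.Frame
import Cfsg.Agent.MaxSub.Asch.OrthOddMain

set_option autoImplicit false
open Cfsg

namespace Cfsg.Agent.S5835

/-- Every maximal subgroup of Ω_9(q), q odd, is of one of the listed geometric types or lies in the residual class. Let F be a finite field of odd order q, Q the standard quadratic form x₀² + Σ x_i y_i on F^9 (coordinates Unit ⊕ (Fin 4 ⊕ Fin 4)), Ω the commutator subgroup of its isometry group, and H a maximal subgroup of Ω (inside GL_9(F)). Then H is the intersection with Ω of one of: the stabiliser of a non-zero totally singular subspace; the stabiliser of a non-zero non-degenerate subspace of even dimension (not a plus-type plane when q = 3); for q prime, the stabiliser of a decomposition into nine pairwise orthogonal, pairwise isometric non-degenerate 1-spaces; for q ≥ 5, the stabiliser of a decomposition into three pairwise orthogonal, pairwise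 isometric non-degenerate 3-spaces; the normaliser of a degree-3 subfield of the matrix algebra, self-adjoint for the polar form; a subfield group (|F| = |F₀|^r, r prime) whose F₀-structure carries Q; for q ≥ 5, the stabiliser of a tensor decomposition of the polar form as a tensor square of a symmetric form on F^3 — or else H lies in the residual class of the orthogonal case (modulo scalars H is almost simple, with absolutely irreducible perfect socle preimage realisable over no proper subfield and fixing no non-degenerate unitary form). -/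
theorem result {F : Type*} [Field F] [Fintype F] (hodd : Odd (Fintype.card F)) (H : Subgroup (Matrix.GeneralLinearGroup (Unit ⊕ (Fin 4 ⊕ Fin 4)) F)) (hH : Cfsg.Geo.IsMaximalIn (Cfsg.Geo.omegaGL (Cfsg.quadFormOdd 4 F)) H) :
    (∃ W : Submodule F (Unit ⊕ (Fin 4 ⊕ Fin 4) → F), W ≠ ⊥ ∧ Cfsg.Geo.IsTotallySingularQuad (Cfsg.quadFormOdd 4 F) W ∧ H = Cfsg.Geo.subspaceStabilizer W ⊓ Cfsg.Geo.omegaGL (Cfsg.quadFormOdd 4 F)) ∨
    (∃ W : Submodule F (Unit ⊕ (Fin 4 ⊕ Fin 4) → F), W ≠ ⊥ ∧ Even (Module.finrank F W) ∧ Cfsg.Geo.IsNondegenerateOn (QuadraticMap.polar (Cfsg.quadFormOdd 4 F)) W ∧ ¬ (Fintype.card F = 3 ∧ Module.finrank F W = 2 ∧ Cfsg.Geo.IsPlusTypeOn (Cfsg.quadFormOdd 4 F) W) ∧ H = Cfsg.Geo.subspaceStabilizer W ⊓ Cfsg.Geo.omegaGL (Cfsg.quadFormOdd 4 F)) ∨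
    ((Fintype.card F).Prime ∧ ∃ D : Fin 9 → Submodule F (Unit ⊕ (Fin 4 ⊕ Fin 4) → F), Cfsg.Geo.IsOrthogonalMDecomposition (Cfsg.quadFormOdd 4 F) 1 D ∧ H = Cfsg.Geo.decompositionStabilizer D ⊓ Cfsg.Geo.omegaGL (Cfsg.quadFormOdd 4 F)) ∨
    (5 ≤ Fintype.card F ∧ ∃ D : Fin 3 → Submodule F (Unit ⊕ (Fin 4 ⊕ Fin 4) → F), Cfsg.Geo.IsOrthogonalMDecomposition (Cfsg.quadFormOdd 4 F) 3 D ∧ H = Cfsg.Geo.decompositionStabilizer D ⊓ Cfsg.Geo.omegaGL (Cfsg.quadFormOdd 4 F)) ∨
    (∃ K : Subalgebra F (Matrix (Unit ⊕ (Fin 4 ⊕ Fin 4)) (Unit ⊕ (Fin 4 ⊕ Fin 4)) F), Cfsg.Geo.IsFieldSubalgebra 3 K ∧ Cfsg.Geo.IsSelfAdjointFor (QuadraticMap.polar (Cfsg.quadFormOdd 4 F)) K ∧ H = Cfsg.Geo.subalgebraNormalizer K ⊓ Cfsg.Geo.omegaGL (Cfsg.quadFormOdd 4 F)) ∨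
    (∃ (F₀ : Subfield F) (r : ℕ) (P : Matrix.GeneralLinearGroup (Unit ⊕ (Fin 4 ⊕ Fin 4)) F), r.Prime ∧ Fintype.card F = Nat.card F₀ ^ r ∧ Cfsg.Geo.IsQuadFormRationalStructure (Cfsg.quadFormOdd 4 F) F₀ P ∧ H = Cfsg.Geo.subfieldSubgroup F₀ P ⊓ Cfsg.Geo.omegaGL (Cfsg.quadFormOdd 4 F)) ∨
    (5 ≤ Fintype.card F ∧ ∃ (e : (Unit ⊕ (Fin 4 ⊕ Fin 4)) ≃ (Fin 2 → Fin 3)) (P : Matrix.GeneralLinearGroup (Unit ⊕ (Fin 4 ⊕ Fin 4)) F) (f₁ : (Fin 3 → F) → (Fin 3 → F) → F), Cfsg.Geo.IsSymmetricForm f₁ ∧ Cfsg.Geo.IsTensorPowerFormStructure id (QuadraticMap.polar (Cfsg.quadFormOdd 4 F)) f₁ e P ∧ H = Cfsg.Geo.tensorWreathSubgroup 3 2 e P ⊓ Cfsg.Geo.omegaGL (Cfsg.quadFormOdd 4 F)) ∨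
    Cfsg.Geo.InOrthogonalResidualClass H := by
  classical
  have h2 : (2 : F) ≠ 0 := Aschbacher.two_ne_zero_of_odd hodd
  set Qf := Aschbacher.stdOdd 4 F with hQf
  have hQc : quadFormOdd 4 F = ⇑Qf := (Aschbacher.coe_stdOdd 4 F).symm
  have hQ : UnitaryOrthogonal.PolarND Qf := fun x hx => (Aschbacher.stdOdd_nondegenerate h2).1 x hx
  have hn : 7 ≤ Fintype.card (Unit ⊕ (Fin 4 ⊕ Fin 4)) := by simp
  have hfr : Module.finrank F (Unit ⊕ (Fin 4 ⊕ Fin 4) → F) = 9 := by simp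
  rcases MaxSub.Asch.orthOdd_structure (m := 4) h2 (by norm_num)
    (hH.1.le.trans (Subgroup.map_subtype_le _)) with ⟨M, hM, hle⟩ | hres
  swap
  · exact Or.inr (Or.inr (Or.inr (Or.inr (Or.inr (Or.inr (Or.inr hres))))))
  rw [hQc] at hH ⊢
  simp only [Geo.InOrthogonalOddClass, hQc] at hM
  rcases hM with ⟨W, hW0, hWs, rfl⟩ | ⟨W, hW0, hWt, hWn, rfl⟩ | ⟨t, k, D, hk, hD, rfl⟩ | ⟨t, D, hp, hD, rfl⟩ |
    ⟨r, K, hr, -, hK, hKs, rfl⟩ | ⟨n₁, n₂, e, P, f₁, f₂, h₁, h₂, -, -, -, rfl⟩ | ⟨F₀, r, P, hr, hc, hP, rfl⟩ |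
    ⟨k, t, e, P, f₁, hk, ht, hqk, hf₁, hf, rfl⟩
  · refine Or.inl ⟨W, hW0, hWs, Aschbacher.eq_inf_of_maximal hH (hle.trans inf_le_left)
      (Aschbacher.Orth.not_le_subspaceStabilizer hQ hn hW0 fun e => ?_)⟩
    have h1 := OrthStab.two_mul_finrank_le hQ (S := W) hWs
    rw [e, finrank_top, hfr] at h1
    omega
  · obtain ⟨W', hW'0, hW't, hW'n, hev, hle'⟩ : ∃ W' : Submodule F (Unit ⊕ (Fin 4 ⊕ Fin 4) → F), W' ≠ ⊥ ∧ W' ≠ ⊤ ∧
        Geo.IsNondegenerateOn (QuadraticMap.polar ⇑Qf) W' ∧ Even (Module.finrank F W') ∧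
        H ≤ Geo.subspaceStabilizer W' := by
      by_cases hev : Even (Module.finrank F W)
      · exact ⟨W, hW0, hWt, hWn, hev, hle.trans inf_le_left⟩
      have h1 := OrthStab.finrank_perpOf hQ W
      have h2' : Module.finrank F W < 9 := hfr ▸ Submodule.finrank_lt hWt
      obtain ⟨j, hj⟩ := Nat.not_even_iff_odd.mp hev
      rw [hfr] at h1
      refine ⟨OrthStab.perpOf Qf W, Aschbacher.Orth.ne_bot_of_finrank (by omega), fun e => ?_,
        Aschbacher.Orth.perp_nondeg hQ hWn, ⟨4 - j, by omega⟩, hle.trans (Aschbacher.Orth.perp_stab W)⟩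
      rw [e, finrank_top, hfr] at h1
      omega
    have heq := Aschbacher.eq_inf_of_maximal hH hle' (Aschbacher.Orth.not_le_subspaceStabilizer hQ hn hW'0 hW't)
    refine Or.inr (Or.inl ⟨W', hW'0, hev, hW'n, ?_, heq⟩)
    rintro ⟨hq, hd, hplus⟩
    obtain ⟨K, hK1, hK2⟩ := OrthStab.plane_not_maximal hQ (by omega)
      (by rw [Nat.card_eq_fintype_card, hq]) hd hW'n hplus
    rcases hH.2 K (heq ▸ hK1.le) hK2.le with h | h
    · exact hK1.ne (h ▸ heq.symm)
    · exact hK2.ne h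
  · have htk := Aschbacher.Orth.dec_card hD.decomp.decomp
    have ht2 := hD.decomp.decomp.two_le
    rw [Fintype.card_sum, Fintype.card_sum, Fintype.card_unit, Fintype.card_fin] at htk
    obtain ⟨rfl, rfl⟩ : t = 3 ∧ k = 3 := by
      have : t ≤ 4 := by nlinarith
      interval_cases t <;> omega
    by_cases hq : 5 ≤ Fintype.card F
    · exact Or.inr (Or.inr (Or.inr (Or.inl ⟨hq, D, hD, Aschbacher.eq_inf_of_maximal hH (hle.trans inf_le_left)
        (Aschbacher.Orth.not_le_decompositionStabilizer hQ hn hD.decomp.decomp)⟩)))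
    have h3 : Fintype.card F = 3 := by
      have := Fintype.one_lt_card (α := F)
      obtain ⟨j, hj⟩ := hodd
      omega
    obtain ⟨a, ha, hfr3⟩ := Aschbacher.Orth.frame_three h3 (hD.decomp.decomp.finrank_eq 0) (hD.decomp.nondegenerate 0)
    obtain ⟨D', hD', hle'⟩ := Aschbacher.Orth.lines_of_frames h2 hD.decomp ha fun i => hfr3 _ (hD.isometric 0 i)
    exact Or.inr (Or.inr (Or.inl ⟨by rw [h3]; exact Nat.prime_three, D', hD',
      Aschbacher.eq_inf_of_maximal hH (hle.trans hle')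
        (Aschbacher.Orth.not_le_decompositionStabilizer hQ hn hD'.decomp.decomp)⟩))
  · have htk := Aschbacher.Orth.dec_card hD.decomp.decomp
    rw [Fintype.card_sum, Fintype.card_sum, Fintype.card_unit, Fintype.card_fin, mul_one] at htk
    obtain rfl : t = 9 := htk
    exact Or.inr (Or.inr (Or.inl ⟨hp, D, hD, Aschbacher.eq_inf_of_maximal hH (hle.trans inf_le_left)
      (Aschbacher.Orth.not_le_decompositionStabilizer hQ hn hD.decomp.decomp)⟩))
  · obtain rfl : r = 3 := by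
      have h := MaxSub.Asch.field_dvd_card hK hr.pos
      simp at h
      exact (Nat.prime_dvd_prime_iff_eq hr Nat.prime_three).mp (hr.dvd_of_dvd_pow (n := 2) h)
    exact Or.inr (Or.inr (Or.inr (Or.inr (Or.inl ⟨K, hK, hKs, Aschbacher.eq_inf_of_maximal hH (hle.trans inf_le_left)
      (Aschbacher.Orth.not_le_subalgebraNormalizer hQ hn hK (by norm_num))⟩))))
  · have hc := Fintype.card_congr e
    simp at hc
    nlinarith
  · refine Or.inr (Or.inr (Or.inr (Or.inr (Or.inr (Or.inl ⟨F₀, r, P, hr, hc, hP, Aschbacher.eq_inf_of_maximal hH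
      (hle.trans inf_le_left) (Aschbacher.Orth.not_le_subfieldSubgroup hQ hn (fun h => ?_) P)⟩)))))
    subst h
    rw [Nat.card_congr Subfield.topEquiv.toEquiv, Nat.card_eq_fintype_card] at hc
    exact hr.one_lt.ne (Nat.pow_right_injective Fintype.one_lt_card ((pow_one _).trans hc))
  · have hc := Fintype.card_congr e
    simp at hc
    obtain ⟨rfl, rfl⟩ : k = 3 ∧ t = 2 := by
      have h1 : t ≤ 2 := by
        by_contra hcon
        have : 3 ^ 3 ≤ k ^ t := (Nat.pow_le_pow_left hk 3).trans (Nat.pow_le_pow_right (by omega) (by omega))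
        omega
      obtain rfl : t = 2 := by omega
      exact ⟨by nlinarith, rfl⟩
    have hq : 5 ≤ Fintype.card F := by
      have h3 : Fintype.card F ≠ 3 := fun h => hqk ⟨h, rfl⟩
      have := Fintype.one_lt_card (α := F)
      obtain ⟨j, hj⟩ := hodd
      omega
    exact Or.inr (Or.inr (Or.inr (Or.inr (Or.inr (Or.inr (Or.inl ⟨hq, e, P, f₁, hf₁, hf,
      Aschbacher.eq_inf_of_maximal hH (hle.trans inf_le_left)
        (Aschbacher.Orth.not_le_tensorWreathSubgroup hQ hn le_rfl (by simp) e P)⟩))))))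

end Cfsg.Agent.S5835
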