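import Cfsg.Statements.S5850
import Cfsg.Agent.Aschbacher.Orth.Glue
import Cfsg.Agent.Aschbacher.Symp.Fields

set_option autoImplicit false
open Cfsg

namespace Cfsg.Agent.S5850

/-- Every maximal subgroup of Ω_10^-(q) is of one of the listed geometric types or lies in the residual class. Let F be a finite field with q elements (characteristic p), Q a non-degenerate quadratic form on F^10 of minus type (Witt index 4: no totally singular 5-space), Ω the commutator subgroup of its isometry group, and H a maximal subgroup of Ω (inside GL_10(F)). Then H is the intersection with Ω of one of: the stabiliser of a non-zero totally singular subspace; for q odd, the stabiliser of a non-degenerate subspace of odd dimension ≠ 5; the stabiliser of a non-degenerate 2-space of minus type; for q ≥ 4, the stabiliser of a non-degenerate 2-space of plus type; the stabiliser of a non-degenerate 4-space; for q even, the stabiliser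 of the span of a non-singular vector; for q = p prime with p ≡ 3 mod 4, the stabiliser of a decomposition into 10 pairwise orthogonal, pairwise isometric non-degenerate 1-spaces; for q ≠ 3, the stabiliser of a decomposition into 5 pairwise orthogonal, pairwise isometric non-degenerate 2-spaces; for q ≡ 3 mod 4, the stabiliser of a decomposition into 2 pairwise orthogonal, pairwise isometric non-degenerate 5-spaces; for q ≡ 1 mod 4, the stabiliser of a decomposition into two orthogonal, non-isometric non-degenerate 5-spaces; for q odd, the normaliser of a degree-2 subfield of the matrix algebra, self-adjoint for the polar form; the normaliser of a degree-2 subfield K, adjoint-closed but not self-adjoint, acting by similarities of Q; a subfield group (|F| = |F₀|^r, r odd prime) whose F₀-structure carries a non-zero multiple of Q — or else H lies in the residual class of the orthogonal case (modulo scalars H is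 almost simple, with absolutely irreducible perfect socle preimage realisable over no proper subfield and fixing no non-degenerate unitary form). -/
theorem result {F : Type*} [Field F] [Fintype F] (Q : (Fin 10 → F) → F) (hQ : Cfsg.Geo.IsNondegenerateQuadraticForm Q) (hminus : ¬ Cfsg.Geo.IsPlusTypeOn Q ⊤) (H : Subgroup (Matrix.GeneralLinearGroup (Fin 10) F)) (hH : Cfsg.Geo.IsMaximalIn (Cfsg.Geo.omegaGL Q) H) :
    (∃ W : Submodule F (Fin 10 → F), W ≠ ⊥ ∧ Cfsg.Geo.IsTotallySingularQuad Q W ∧ H = Cfsg.Geo.subspaceStabilizer W ⊓ Cfsg.Geo.omegaGL Q) ∨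
    (Odd (Fintype.card F) ∧ ∃ W : Submodule F (Fin 10 → F), W ≠ ⊥ ∧ W ≠ ⊤ ∧ Odd (Module.finrank F W) ∧ 2 * Module.finrank F W ≠ 10 ∧ Cfsg.Geo.IsNondegenerateOn (QuadraticMap.polar Q) W ∧ H = Cfsg.Geo.subspaceStabilizer W ⊓ Cfsg.Geo.omegaGL Q) ∨
    (∃ W : Submodule F (Fin 10 → F), Module.finrank F W = 2 ∧ Cfsg.Geo.IsNondegenerateOn (QuadraticMap.polar Q) W ∧ ¬ Cfsg.Geo.IsPlusTypeOn Q W ∧ H = Cfsg.Geo.subspaceStabilizer W ⊓ Cfsg.Geo.omegaGL Q) ∨
    (4 ≤ Fintype.card F ∧ ∃ W : Submodule F (Fin 10 → F), Module.finrank F W = 2 ∧ Cfsg.Geo.IsNondegenerateOn (QuadraticMap.polar Q) W ∧ Cfsg.Geo.IsPlusTypeOn Q W ∧ H = Cfsg.Geo.subspaceStabilizer W ⊓ Cfsg.Geo.omegaGL Q) ∨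
    (∃ W : Submodule F (Fin 10 → F), Module.finrank F W = 4 ∧ Cfsg.Geo.IsNondegenerateOn (QuadraticMap.polar Q) W ∧ H = Cfsg.Geo.subspaceStabilizer W ⊓ Cfsg.Geo.omegaGL Q) ∨
    (¬ Odd (Fintype.card F) ∧ ∃ v : (Fin 10 → F), Q v ≠ 0 ∧ H = Cfsg.Geo.subspaceStabilizer (Submodule.span F {v}) ⊓ Cfsg.Geo.omegaGL Q) ∨
    ((∃ p : ℕ, p.Prime ∧ Fintype.card F = p ∧ (p % 4 = 3)) ∧ ∃ D : Fin 10 → Submodule F (Fin 10 → F), Cfsg.Geo.IsOrthogonalMDecomposition Q 1 D ∧ H = Cfsg.Geo.decompositionStabilizer D ⊓ Cfsg.Geo.omegaGL Q) ∨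
    (Fintype.card F ≠ 3 ∧ ∃ D : Fin 5 → Submodule F (Fin 10 → F), Cfsg.Geo.IsOrthogonalMDecomposition Q 2 D ∧ H = Cfsg.Geo.decompositionStabilizer D ⊓ Cfsg.Geo.omegaGL Q) ∨
    (Fintype.card F % 4 = 3 ∧ ∃ D : Fin 2 → Submodule F (Fin 10 → F), Cfsg.Geo.IsOrthogonalMDecomposition Q 5 D ∧ H = Cfsg.Geo.decompositionStabilizer D ⊓ Cfsg.Geo.omegaGL Q) ∨
    (Fintype.card F % 4 = 1 ∧ ∃ D : Fin 2 → Submodule F (Fin 10 → F), Cfsg.Geo.IsNondegenerateMDecomposition (QuadraticMap.polar Q) 5 D ∧ ¬ Cfsg.Geo.AreIsometricFor Q (D 0) (D 1) ∧ H = Cfsg.Geo.decompositionStabilizer D ⊓ Cfsg.Geo.omegaGL Q) ∨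
    (Odd (Fintype.card F) ∧ ∃ K : Subalgebra F (Matrix (Fin 10) (Fin 10) F), Cfsg.Geo.IsFieldSubalgebra 2 K ∧ Cfsg.Geo.IsSelfAdjointFor (QuadraticMap.polar Q) K ∧ H = Cfsg.Geo.subalgebraNormalizer K ⊓ Cfsg.Geo.omegaGL Q) ∨
    (∃ K : Subalgebra F (Matrix (Fin 10) (Fin 10) F), Cfsg.Geo.IsFieldSubalgebra 2 K ∧ Cfsg.Geo.IsAdjointClosedFor (QuadraticMap.polar Q) K ∧ ¬ Cfsg.Geo.IsSelfAdjointFor (QuadraticMap.polar Q) K ∧ (∀ k ∈ K, ∃ c : F, ∀ v : (Fin 10 → F), Q (Matrix.mulVec k v) = c * Q v) ∧ H = Cfsg.Geo.subalgebraNormalizer K ⊓ Cfsg.Geo.omegaGL Q) ∨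
    (∃ (F₀ : Subfield F) (r : ℕ) (P : Matrix.GeneralLinearGroup (Fin 10) F) (ζ : F), r.Prime ∧ Odd r ∧ Fintype.card F = Nat.card F₀ ^ r ∧ ζ ≠ 0 ∧ Cfsg.Geo.IsQuadFormRationalStructure (fun v : Fin 10 → F => ζ * Q v) F₀ P ∧ H = Cfsg.Geo.subfieldSubgroup F₀ P ⊓ Cfsg.Geo.omegaGL Q) ∨
    Cfsg.Geo.InOrthogonalResidualClass H := by
  classical
  obtain ⟨Qf, rfl, hQf⟩ := OrthStab.exists_form hQ
  clear hQ
  have h7 : 7 ≤ 10 := by norm_num
  have hIso : H ≤ Cfsg.isometryGroup F ⇑Qf := Aschbacher.Orth.le_iso hQf h7 hH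
  have hplusIff := Aschbacher.Orth.plus_top_iff hQf (show Even (Fintype.card (Fin 10)) by simp; decide)
  by_cases hirr : Aschbacher.Irr H
  swap
  · rcases Aschbacher.Orth.reducible_cases hQf (by simp) hH hirr with ⟨W, hb, hts, heq, hdim⟩ | ⟨hev, v, hv, heq⟩ |
      ⟨W, hb, ht, hd, hW, hodd, heq, hq⟩
    · exact Or.inl ⟨W, hb, hts, heq⟩
    · exact Or.inr (Or.inr (Or.inr (Or.inr (Or.inr (Or.inl ⟨hev, v, hv, heq⟩)))))
    rw [Fintype.card_fin] at hd
    have h0 : 1 ≤ Module.finrank F W := Submodule.one_le_finrank_iff.mpr hb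
    by_cases h5 : Module.finrank F W = 5
    · obtain ⟨D, ε, ε', hD, hε, hε', hS, heq', hiso', hniso⟩ :=
        Aschbacher.Orth.half_case hQf h7 hH hW h5 (by norm_num) (heq.le.trans inf_le_left)
      have h2 : (2 : F) ≠ 0 := Aschbacher.Orth.two_ne_zero_of_odd_piece hW (h5 ▸ ⟨2, rfl⟩)
      rw [show OrthFix.sig F 5 5 = OrthFix.chi (-1 : F) from if_pos ⟨⟨2, rfl⟩, ⟨2, rfl⟩⟩] at hS
      by_cases he : ε = ε'
      · refine Or.inr (Or.inr (Or.inr (Or.inr (Or.inr (Or.inr (Or.inr (Or.inr (Or.inl ⟨?_, D, hiso' he, heq'⟩))))))))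
        rcases Aschbacher.Orth.chi_neg_one_or h2 with ⟨hc, -⟩ | ⟨-, h4⟩
        · refine absurd (hplusIff.mpr ?_) hminus
          rcases hε with rfl | rfl <;> subst he <;> rw [hc] at hS <;> norm_num at hS <;> exact hS
        · exact h4
      · refine Or.inr (Or.inr (Or.inr (Or.inr (Or.inr (Or.inr (Or.inr (Or.inr (Or.inr (Or.inl ⟨?_, D, hD, hniso he, heq'⟩)))))))))
        rcases Aschbacher.Orth.chi_neg_one_or h2 with ⟨-, h4⟩ | ⟨hc, -⟩
        · exact h4
        · refine absurd (hplusIff.mpr ?_) hminus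
          rcases hε with rfl | rfl <;> rcases hε' with rfl | rfl <;> rw [hc] at hS <;> norm_num at hS he <;> exact hS
    by_cases ho : Odd (Module.finrank F W)
    · exact Or.inr (Or.inl ⟨hodd ho, W, hb, ht, ho, by have := Nat.odd_iff.mp ho; omega, hW, heq⟩)
    have he := Nat.even_iff.mp (Nat.not_odd_iff_even.mp ho)
    obtain h | h : Module.finrank F W = 2 ∨ Module.finrank F W = 4 := by omega
    · by_cases hp : Cfsg.Geo.IsPlusTypeOn ⇑Qf W
      · exact Or.inr (Or.inr (Or.inr (Or.inl ⟨hq h hp, W, h, hW, hp, heq⟩)))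
      · exact Or.inr (Or.inr (Or.inl ⟨W, h, hW, hp, heq⟩))
    · exact Or.inr (Or.inr (Or.inr (Or.inr (Or.inl ⟨W, h, hW, heq⟩))))
  rcases Aschbacher.Orth.conc_or_residual hQf hIso hirr (by norm_num) (fun h => absurd h (by norm_num)) with hc | hres
  swap
  · exact Or.inr (Or.inr (Or.inr (Or.inr (Or.inr (Or.inr (Or.inr (Or.inr (Or.inr (Or.inr (Or.inr (Or.inr (Or.inr (hres)))))))))))))
  rcases hc with ⟨t, k, D, hD, hle⟩ | ⟨k, D, hD, hts, hle⟩ | ⟨r, K, hr, hrn, hr3, hodd, hK, hsa, hle⟩ |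
    ⟨K, hK, hadj, hnsa, hsim, hle⟩ | ⟨b, e, P, f₁, f₂, hb3, hf₁, hf₂, hS, h0, hle⟩ |
    ⟨hodd, e, P, f₁, f₂, hf₁, hf₂, hS, hle⟩ | ⟨F₀, r, P, ζ, hr, hc, hζ, hP, hle⟩
  · obtain ⟨htk, ht2, hk0⟩ := Aschbacher.Orth.dec_dims hD.decomp.decomp
    have hlines : ∀ D' : Fin 10 → Submodule F (Fin 10 → F), Cfsg.Geo.IsOrthogonalMDecomposition ⇑Qf 1 D' →
        H ≤ Cfsg.Geo.decompositionStabilizer D' → _ := fun D' hD' hle' => Aschbacher.Orth.lines_case hQf h7 hH hD' hle'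
    have hk : k ≤ 5 := by nlinarith
    obtain rfl | rfl | rfl : k = 1 ∨ k = 2 ∨ k = 5 := by interval_cases k <;> omega
    rotate_left
    · obtain rfl : t = 5 := by omega
      rcases Aschbacher.Orth.planes_case hQf h7 hH hirr hD hle with ⟨hp, h7q, heq⟩ | ⟨hm, h3, heq⟩ | ⟨D', hD', hle'⟩ | hs
      · exact Or.inr (Or.inr (Or.inr (Or.inr (Or.inr (Or.inr (Or.inr (Or.inl ⟨by omega, D, hD, heq⟩)))))))
      · exact Or.inr (Or.inr (Or.inr (Or.inr (Or.inr (Or.inr (Or.inr (Or.inl ⟨h3, D, hD, heq⟩)))))))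
      · rcases hlines D' hD' hle' with ⟨hp', heq⟩ | hs
        · obtain ⟨-, h2, hiff⟩ := Aschbacher.Orth.dec_odd hQf hD' odd_one (j := 5) rfl
          refine Or.inr (Or.inr (Or.inr (Or.inr (Or.inr (Or.inr (Or.inl ⟨⟨_, hp', rfl, ?_⟩, D', hD', heq⟩))))))
          rcases Aschbacher.Orth.chi_neg_one_or h2 with ⟨hc, h4⟩ | ⟨hc, h4⟩
          · exact absurd (hiff.mpr (by rw [hc]; norm_num)) hminus
          · exact h4
        · obtain ⟨F₀, r, P, ζ, hr, hc, hζ, hP, heq⟩ := hs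
          exact Or.inr (Or.inr (Or.inr (Or.inr (Or.inr (Or.inr (Or.inr (Or.inr (Or.inr (Or.inr (Or.inr (Or.inr (Or.inl ⟨F₀, r, P, ζ, hr, Aschbacher.Orth.odd_index hQf (by decide) (by norm_num) hminus hr hc hζ hP, hc, hζ, hP, heq⟩))))))))))))
      · obtain ⟨F₀, r, P, ζ, hr, hc, hζ, hP, heq⟩ := hs
        exact Or.inr (Or.inr (Or.inr (Or.inr (Or.inr (Or.inr (Or.inr (Or.inr (Or.inr (Or.inr (Or.inr (Or.inr (Or.inl ⟨F₀, r, P, ζ, hr, Aschbacher.Orth.odd_index hQf (by decide) (by norm_num) hminus hr hc hζ hP, hc, hζ, hP, heq⟩))))))))))))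
    · obtain rfl : t = 2 := by omega
      obtain ⟨-, h2, hiff⟩ := Aschbacher.Orth.dec_odd hQf hD (by decide) (j := 1) rfl
      refine Or.inr (Or.inr (Or.inr (Or.inr (Or.inr (Or.inr (Or.inr (Or.inr (Or.inl ⟨?_, D, hD, Aschbacher.Orth.eq_dec hQf h7 hH hD.decomp.decomp hle⟩))))))))
      rcases Aschbacher.Orth.chi_neg_one_or h2 with ⟨hc, h4⟩ | ⟨hc, h4⟩
      · exact absurd (hiff.mpr (by rw [hc]; norm_num)) hminus
      · exact h4
    · obtain rfl : t = 10 := by omega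
      obtain ⟨D', hD', hle'⟩ : ∃ D' : Fin 10 → Submodule F (Fin 10 → F),
          Cfsg.Geo.IsOrthogonalMDecomposition ⇑Qf 1 D' ∧ H ≤ Cfsg.Geo.decompositionStabilizer D' := ⟨D, hD, hle⟩
      rcases hlines D' hD' hle' with ⟨hp', heq⟩ | hs
      · obtain ⟨-, h2, hiff⟩ := Aschbacher.Orth.dec_odd hQf hD' odd_one (j := 5) rfl
        refine Or.inr (Or.inr (Or.inr (Or.inr (Or.inr (Or.inr (Or.inl ⟨⟨_, hp', rfl, ?_⟩, D', hD', heq⟩))))))
        rcases Aschbacher.Orth.chi_neg_one_or h2 with ⟨hc, h4⟩ | ⟨hc, h4⟩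
        · exact absurd (hiff.mpr (by rw [hc]; norm_num)) hminus
        · exact h4
      · obtain ⟨F₀, r, P, ζ, hr, hc, hζ, hP, heq⟩ := hs
        exact Or.inr (Or.inr (Or.inr (Or.inr (Or.inr (Or.inr (Or.inr (Or.inr (Or.inr (Or.inr (Or.inr (Or.inr (Or.inl ⟨F₀, r, P, ζ, hr, Aschbacher.Orth.odd_index hQf (by decide) (by norm_num) hminus hr hc hζ hP, hc, hζ, hP, heq⟩))))))))))))
  · exact (Aschbacher.Orth.false_of_ts_pair hQf h7 hH hirr (m := 5) (by decide) rfl hD hts hle).elim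
  · have h2r := hr.two_le
    obtain rfl : r = 2 := by interval_cases r <;> omega
    exact Or.inr (Or.inr (Or.inr (Or.inr (Or.inr (Or.inr (Or.inr (Or.inr (Or.inr (Or.inr (Or.inl ⟨hodd rfl, K, hK, hsa, Aschbacher.Orth.eq_field hQf h7 hH hK le_rfl hle⟩))))))))))
  · exact Or.inr (Or.inr (Or.inr (Or.inr (Or.inr (Or.inr (Or.inr (Or.inr (Or.inr (Or.inr (Or.inr (Or.inl ⟨K, hK, hadj, hnsa, hsim, Aschbacher.Orth.eq_field hQf h7 hH hK le_rfl hle⟩)))))))))))
  · have h1 := Fintype.card_congr e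
    have h2 := Aschbacher.even_card_of_symplectic hf₂
    simp only [Fintype.card_prod, Fintype.card_fin] at h1 h2
    omega
  · simpa using Fintype.card_congr e
  · exact Or.inr (Or.inr (Or.inr (Or.inr (Or.inr (Or.inr (Or.inr (Or.inr (Or.inr (Or.inr (Or.inr (Or.inr (Or.inl ⟨F₀, r, P, ζ, hr, Aschbacher.Orth.odd_index hQf (by decide) (by norm_num) hminus hr hc hζ hP, hc, hζ, hP, Aschbacher.Orth.eq_subfield hQf h7 hH hr hc hle⟩))))))))))))

end Cfsg.Agent.S5850
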