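import Cfsg.Statements.S5871
import Cfsg.Agent.Aschbacher.Orth.Glue
import Cfsg.Agent.Aschbacher.Symp.Fields

set_option autoImplicit false
open Cfsg

namespace Cfsg.Agent.S5871

/-- Every maximal subgroup of Ω_12^+(q) is of one of the listed geometric types or lies in the residual class. Let F be a finite field with q elements (characteristic p), Q a non-degenerate quadratic form on F^12 of plus type (Witt index 6: some totally singular 6-space), Ω the commutator subgroup of its isometry group, and H a maximal subgroup of Ω (inside GL_12(F)). Then H is the intersection with Ω of one of: the stabiliser of a non-zero totally singular subspace of dimension ≠ 5; for q odd, the stabiliser of a non-degenerate subspace of odd dimension; the stabiliser of a non-degenerate 2-space of minus type; for q ≥ 4, the stabiliser of a non-degenerate 2-space of plus type; the stabiliser of a non-degenerate 4-space; for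 q even, the stabiliser of the span of a non-singular vector; for q = p an odd prime, the stabiliser of a decomposition into 12 pairwise orthogonal, pairwise isometric non-degenerate 1-spaces; for q ≥ 7, the stabiliser of a decomposition into 6 pairwise orthogonal, pairwise isometric non-degenerate 2-spaces of plus type; for q ≠ 3, the stabiliser of a decomposition into 6 pairwise orthogonal, pairwise isometric non-degenerate 2-spaces of minus type; for q odd with q ≥ 5, the stabiliser of a decomposition into 4 pairwise orthogonal, pairwise isometric non-degenerate 3-spaces; for q ≥ 3, the stabiliser of a decomposition into 3 pairwise orthogonal, pairwise isometric non-degenerate 4-spaces; the stabiliser of a decomposition into 2 pairwise orthogonal, pairwise isometric non-degenerate 6-spaces; of a decomposition into two totally singular 6-spaces; the normaliser of a degree-2 subfield of the matrix algebra;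 the normaliser of a degree-3 subfield of the matrix algebra; the normaliser of a degree-2 subfield K, adjoint-closed but not self-adjoint, acting by similarities of Q; for q ≥ 3, the stabiliser of a tensor decomposition of Q into alternating forms on F^2 and F^6 (Q vanishing on pure tensors); a subfield group (|F| = |F₀|^r, r prime) whose F₀-structure carries a non-zero multiple of Q — or else H lies in the residual class of the orthogonal case (modulo scalars H is almost simple, with absolutely irreducible perfect socle preimage realisable over no proper subfield and fixing no non-degenerate unitary form). -/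
theorem result {F : Type*} [Field F] [Fintype F] (Q : (Fin 12 → F) → F) (hQ : Cfsg.Geo.IsNondegenerateQuadraticForm Q) (hplus : Cfsg.Geo.IsPlusTypeOn Q ⊤) (H : Subgroup (Matrix.GeneralLinearGroup (Fin 12) F)) (hH : Cfsg.Geo.IsMaximalIn (Cfsg.Geo.omegaGL Q) H) :
    (∃ W : Submodule F (Fin 12 → F), W ≠ ⊥ ∧ Cfsg.Geo.IsTotallySingularQuad Q W ∧ Module.finrank F W ≠ 5 ∧ H = Cfsg.Geo.subspaceStabilizer W ⊓ Cfsg.Geo.omegaGL Q) ∨
    (Odd (Fintype.card F) ∧ ∃ W : Submodule F (Fin 12 → F), W ≠ ⊥ ∧ W ≠ ⊤ ∧ Odd (Module.finrank F W) ∧ 2 * Module.finrank F W ≠ 12 ∧ Cfsg.Geo.IsNondegenerateOn (QuadraticMap.polar Q) W ∧ H = Cfsg.Geo.subspaceStabilizer W ⊓ Cfsg.Geo.omegaGL Q) ∨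
    (∃ W : Submodule F (Fin 12 → F), Module.finrank F W = 2 ∧ Cfsg.Geo.IsNondegenerateOn (QuadraticMap.polar Q) W ∧ ¬ Cfsg.Geo.IsPlusTypeOn Q W ∧ H = Cfsg.Geo.subspaceStabilizer W ⊓ Cfsg.Geo.omegaGL Q) ∨
    (4 ≤ Fintype.card F ∧ ∃ W : Submodule F (Fin 12 → F), Module.finrank F W = 2 ∧ Cfsg.Geo.IsNondegenerateOn (QuadraticMap.polar Q) W ∧ Cfsg.Geo.IsPlusTypeOn Q W ∧ H = Cfsg.Geo.subspaceStabilizer W ⊓ Cfsg.Geo.omegaGL Q) ∨
    (∃ W : Submodule F (Fin 12 → F), Module.finrank F W = 4 ∧ Cfsg.Geo.IsNondegenerateOn (QuadraticMap.polar Q) W ∧ H = Cfsg.Geo.subspaceStabilizer W ⊓ Cfsg.Geo.omegaGL Q) ∨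
    (¬ Odd (Fintype.card F) ∧ ∃ v : (Fin 12 → F), Q v ≠ 0 ∧ H = Cfsg.Geo.subspaceStabilizer (Submodule.span F {v}) ⊓ Cfsg.Geo.omegaGL Q) ∨
    ((∃ p : ℕ, p.Prime ∧ Odd p ∧ Fintype.card F = p) ∧ ∃ D : Fin 12 → Submodule F (Fin 12 → F), Cfsg.Geo.IsOrthogonalMDecomposition Q 1 D ∧ H = Cfsg.Geo.decompositionStabilizer D ⊓ Cfsg.Geo.omegaGL Q) ∨
    (7 ≤ Fintype.card F ∧ ∃ D : Fin 6 → Submodule F (Fin 12 → F), Cfsg.Geo.IsOrthogonalMDecomposition Q 2 D ∧ (∀ i, Cfsg.Geo.IsPlusTypeOn Q (D i)) ∧ H = Cfsg.Geo.decompositionStabilizer D ⊓ Cfsg.Geo.omegaGL Q) ∨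
    (Fintype.card F ≠ 3 ∧ ∃ D : Fin 6 → Submodule F (Fin 12 → F), Cfsg.Geo.IsOrthogonalMDecomposition Q 2 D ∧ (∀ i, ¬ Cfsg.Geo.IsPlusTypeOn Q (D i)) ∧ H = Cfsg.Geo.decompositionStabilizer D ⊓ Cfsg.Geo.omegaGL Q) ∨
    (Odd (Fintype.card F) ∧ 5 ≤ Fintype.card F ∧ ∃ D : Fin 4 → Submodule F (Fin 12 → F), Cfsg.Geo.IsOrthogonalMDecomposition Q 3 D ∧ H = Cfsg.Geo.decompositionStabilizer D ⊓ Cfsg.Geo.omegaGL Q) ∨
    (3 ≤ Fintype.card F ∧ ∃ D : Fin 3 → Submodule F (Fin 12 → F), Cfsg.Geo.IsOrthogonalMDecomposition Q 4 D ∧ H = Cfsg.Geo.decompositionStabilizer D ⊓ Cfsg.Geo.omegaGL Q) ∨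
    (∃ D : Fin 2 → Submodule F (Fin 12 → F), Cfsg.Geo.IsOrthogonalMDecomposition Q 6 D ∧ H = Cfsg.Geo.decompositionStabilizer D ⊓ Cfsg.Geo.omegaGL Q) ∨
    (∃ D : Fin 2 → Submodule F (Fin 12 → F), Cfsg.Geo.IsMDecomposition 6 D ∧ (∀ i, Cfsg.Geo.IsTotallySingularQuad Q (D i)) ∧ H = Cfsg.Geo.decompositionStabilizer D ⊓ Cfsg.Geo.omegaGL Q) ∨
    (∃ K : Subalgebra F (Matrix (Fin 12) (Fin 12) F), Cfsg.Geo.IsFieldSubalgebra 2 K ∧ H = Cfsg.Geo.subalgebraNormalizer K ⊓ Cfsg.Geo.omegaGL Q) ∨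
    (∃ K : Subalgebra F (Matrix (Fin 12) (Fin 12) F), Cfsg.Geo.IsFieldSubalgebra 3 K ∧ H = Cfsg.Geo.subalgebraNormalizer K ⊓ Cfsg.Geo.omegaGL Q) ∨
    (∃ K : Subalgebra F (Matrix (Fin 12) (Fin 12) F), Cfsg.Geo.IsFieldSubalgebra 2 K ∧ Cfsg.Geo.IsAdjointClosedFor (QuadraticMap.polar Q) K ∧ ¬ Cfsg.Geo.IsSelfAdjointFor (QuadraticMap.polar Q) K ∧ (∀ k ∈ K, ∃ c : F, ∀ v : (Fin 12 → F), Q (Matrix.mulVec k v) = c * Q v) ∧ H = Cfsg.Geo.subalgebraNormalizer K ⊓ Cfsg.Geo.omegaGL Q) ∨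
    (3 ≤ Fintype.card F ∧ ∃ (e : Fin 12 ≃ Fin 2 × Fin 6) (P : Matrix.GeneralLinearGroup (Fin 12) F) (f₁ : (Fin 2 → F) → (Fin 2 → F) → F) (f₂ : (Fin 6 → F) → (Fin 6 → F) → F), Cfsg.Geo.IsSymplecticForm f₁ ∧ Cfsg.Geo.IsSymplecticForm f₂ ∧ Cfsg.Geo.IsTensorFormStructure id (QuadraticMap.polar Q) f₁ f₂ e P ∧ (∀ (x₁ : Fin 2 → F) (x₂ : Fin 6 → F), Q (Matrix.mulVec (P : Matrix (Fin 12) (Fin 12) F) ((fun a : Fin 2 × Fin 6 => x₁ a.1 * x₂ a.2) ∘ e)) = 0) ∧ H = Cfsg.Geo.tensorProductSubgroup 2 6 e P ⊓ Cfsg.Geo.omegaGL Q) ∨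
    (∃ (F₀ : Subfield F) (r : ℕ) (P : Matrix.GeneralLinearGroup (Fin 12) F) (ζ : F), r.Prime ∧ Fintype.card F = Nat.card F₀ ^ r ∧ ζ ≠ 0 ∧ Cfsg.Geo.IsQuadFormRationalStructure (fun v : Fin 12 → F => ζ * Q v) F₀ P ∧ H = Cfsg.Geo.subfieldSubgroup F₀ P ⊓ Cfsg.Geo.omegaGL Q) ∨
    Cfsg.Geo.InOrthogonalResidualClass H := by
  classical
  obtain ⟨Qf, rfl, hQf⟩ := OrthStab.exists_form hQ
  clear hQ
  have h7 : 7 ≤ 12 := by norm_num
  have hIso : H ≤ Cfsg.isometryGroup F ⇑Qf := Aschbacher.Orth.le_iso hQf h7 hH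
  have hplusIff := Aschbacher.Orth.plus_top_iff hQf (show Even (Fintype.card (Fin 12)) by simp; decide)
  by_cases hirr : Aschbacher.Irr H
  swap
  · rcases Aschbacher.Orth.reducible_cases hQf (by simp) hH hirr with ⟨W, hb, hts, heq, hdim⟩ | ⟨hev, v, hv, heq⟩ |
      ⟨W, hb, ht, hd, hW, hodd, heq, hq⟩
    · exact Or.inl ⟨W, hb, hts, fun h => hdim hplus (by rw [Fintype.card_fin]; omega), heq⟩
    · exact Or.inr (Or.inr (Or.inr (Or.inr (Or.inr (Or.inl ⟨hev, v, hv, heq⟩)))))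
    rw [Fintype.card_fin] at hd
    have h0 : 1 ≤ Module.finrank F W := Submodule.one_le_finrank_iff.mpr hb
    by_cases h6 : Module.finrank F W = 6
    · obtain ⟨D, ε, ε', hD, hε, hε', hS, heq', hiso', -⟩ :=
        Aschbacher.Orth.half_case hQf h7 hH hW h6 (by norm_num) (heq.le.trans inf_le_left)
      rw [OrthFix.sig_even_left (show Even 6 from ⟨3, rfl⟩), mul_one] at hS
      have h1 := (hplusIff.mp hplus).unique hS
      refine Or.inr (Or.inr (Or.inr (Or.inr (Or.inr (Or.inr (Or.inr (Or.inr (Or.inr (Or.inr (Or.inr (Or.inl ⟨D, hiso' ?_, heq'⟩)))))))))))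
      rcases hε with rfl | rfl <;> rcases hε' with rfl | rfl <;> first | rfl | norm_num at h1
    by_cases ho : Odd (Module.finrank F W)
    · exact Or.inr (Or.inl ⟨hodd ho, W, hb, ht, ho, by have := Nat.odd_iff.mp ho; omega, hW, heq⟩)
    have he := Nat.even_iff.mp (Nat.not_odd_iff_even.mp ho)
    obtain h | h : Module.finrank F W = 2 ∨ Module.finrank F W = 4 := by omega
    · by_cases hp : Cfsg.Geo.IsPlusTypeOn ⇑Qf W
      · exact Or.inr (Or.inr (Or.inr (Or.inl ⟨hq h hp, W, h, hW, hp, heq⟩)))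
      · exact Or.inr (Or.inr (Or.inl ⟨W, h, hW, hp, heq⟩))
    · exact Or.inr (Or.inr (Or.inr (Or.inr (Or.inl ⟨W, h, hW, heq⟩))))
  rcases Aschbacher.Orth.conc_or_residual hQf hIso hirr (by norm_num) (fun h => absurd h (by norm_num)) with hc | hres
  swap
  · exact Or.inr (Or.inr (Or.inr (Or.inr (Or.inr (Or.inr (Or.inr (Or.inr (Or.inr (Or.inr (Or.inr (Or.inr (Or.inr (Or.inr (Or.inr (Or.inr (Or.inr (Or.inr (hres))))))))))))))))))
  rcases hc with ⟨t, k, D, hD, hle⟩ | ⟨k, D, hD, hts, hle⟩ | ⟨r, K, hr, hrn, hr3, hodd, hK, hsa, hle⟩ |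
    ⟨K, hK, hadj, hnsa, hsim, hle⟩ | ⟨b, e, P, f₁, f₂, hb3, hf₁, hf₂, hS, h0, hle⟩ |
    ⟨hodd, e, P, f₁, f₂, hf₁, hf₂, hS, hle⟩ | ⟨F₀, r, P, ζ, hr, hc, hζ, hP, hle⟩
  · obtain ⟨htk, ht2, hk0⟩ := Aschbacher.Orth.dec_dims hD.decomp.decomp
    have hlines : ∀ D' : Fin 12 → Submodule F (Fin 12 → F), Cfsg.Geo.IsOrthogonalMDecomposition ⇑Qf 1 D' →
        H ≤ Cfsg.Geo.decompositionStabilizer D' → _ := fun D' hD' hle' =>
      And.intro hD' (Aschbacher.Orth.lines_case hQf h7 hH hD' hle')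
    have hk : k ≤ 6 := by nlinarith
    obtain rfl | rfl | rfl | rfl | rfl : k = 1 ∨ k = 2 ∨ k = 3 ∨ k = 4 ∨ k = 6 := by interval_cases k <;> omega
    · obtain rfl : t = 12 := by omega
      obtain ⟨hD', hp | hs⟩ := hlines D hD hle
      · obtain ⟨hoddF, -, -⟩ := Aschbacher.Orth.dec_odd hQf hD' odd_one (j := 6) rfl
        exact Or.inr (Or.inr (Or.inr (Or.inr (Or.inr (Or.inr (Or.inl ⟨⟨_, hp.1, hoddF, rfl⟩, D, hD, hp.2⟩))))))
      · exact Or.inr (Or.inr (Or.inr (Or.inr (Or.inr (Or.inr (Or.inr (Or.inr (Or.inr (Or.inr (Or.inr (Or.inr (Or.inr (Or.inr (Or.inr (Or.inr (Or.inr (Or.inl hs)))))))))))))))))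
    · obtain rfl : t = 6 := by omega
      rcases Aschbacher.Orth.planes_case hQf h7 hH hirr hD hle with ⟨hp, h7q, heq⟩ | ⟨hm, h3, heq⟩ | ⟨D', hD', hle'⟩ | hs
      · exact Or.inr (Or.inr (Or.inr (Or.inr (Or.inr (Or.inr (Or.inr (Or.inl ⟨h7q, D, hD, hp, heq⟩)))))))
      · exact Or.inr (Or.inr (Or.inr (Or.inr (Or.inr (Or.inr (Or.inr (Or.inr (Or.inl ⟨h3, D, hD, hm, heq⟩))))))))
      · obtain ⟨hD', hp | hs⟩ := hlines D' hD' hle'
        · obtain ⟨hoddF, -, -⟩ := Aschbacher.Orth.dec_odd hQf hD' odd_one (j := 6) rfl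
          exact Or.inr (Or.inr (Or.inr (Or.inr (Or.inr (Or.inr (Or.inl ⟨⟨_, hp.1, hoddF, rfl⟩, D', hD', hp.2⟩))))))
        · exact Or.inr (Or.inr (Or.inr (Or.inr (Or.inr (Or.inr (Or.inr (Or.inr (Or.inr (Or.inr (Or.inr (Or.inr (Or.inr (Or.inr (Or.inr (Or.inr (Or.inr (Or.inl hs)))))))))))))))))
      · exact Or.inr (Or.inr (Or.inr (Or.inr (Or.inr (Or.inr (Or.inr (Or.inr (Or.inr (Or.inr (Or.inr (Or.inr (Or.inr (Or.inr (Or.inr (Or.inr (Or.inr (Or.inl hs)))))))))))))))))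
    · obtain rfl : t = 4 := by omega
      obtain ⟨hoddF, h2, -⟩ := Aschbacher.Orth.dec_odd hQf hD (by decide) (j := 2) rfl
      by_cases h5 : 5 ≤ Fintype.card F
      · exact Or.inr (Or.inr (Or.inr (Or.inr (Or.inr (Or.inr (Or.inr (Or.inr (Or.inr (Or.inl ⟨hoddF, h5, D, hD, Aschbacher.Orth.eq_dec hQf h7 hH hD.decomp.decomp hle⟩)))))))))
      have h3 : Fintype.card F = 3 := by
        have := Fintype.one_lt_card (α := F)
        obtain ⟨i, hi⟩ := hoddF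
        omega
      obtain ⟨a, ha, hfr⟩ := Aschbacher.Orth.frame_three h3 (hD.decomp.decomp.finrank_eq 0) (hD.decomp.nondegenerate 0)
      obtain ⟨D', hD', hle'⟩ := Aschbacher.Orth.lines_of_frames h2 hD.decomp ha fun i => hfr (D i) (hD.isometric 0 i)
      obtain ⟨hD'', hp | hs⟩ := hlines D' hD' (Aschbacher.Orth.le_refined hQf h7 hH hle hle')
      · exact Or.inr (Or.inr (Or.inr (Or.inr (Or.inr (Or.inr (Or.inl ⟨⟨_, hp.1, hoddF, rfl⟩, D', hD'', hp.2⟩))))))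
      · exact Or.inr (Or.inr (Or.inr (Or.inr (Or.inr (Or.inr (Or.inr (Or.inr (Or.inr (Or.inr (Or.inr (Or.inr (Or.inr (Or.inr (Or.inr (Or.inr (Or.inr (Or.inl hs)))))))))))))))))
    · obtain rfl : t = 3 := by omega
      by_cases h3 : 3 ≤ Fintype.card F
      · exact Or.inr (Or.inr (Or.inr (Or.inr (Or.inr (Or.inr (Or.inr (Or.inr (Or.inr (Or.inr (Or.inl ⟨h3, D, hD, Aschbacher.Orth.eq_dec hQf h7 hH hD.decomp.decomp hle⟩))))))))))
      have h2q : Fintype.card F = 2 := by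
        have := Fintype.one_lt_card (α := F)
        omega
      rcases Aschbacher.Orth.dec_even hQf hD (by decide) with ⟨hp, -⟩ | ⟨-, hiff⟩
      · obtain ⟨D', hD', hm, hle'⟩ := Aschbacher.Orth.quads_two hD hp h2q
        exact Or.inr (Or.inr (Or.inr (Or.inr (Or.inr (Or.inr (Or.inr (Or.inr (Or.inl ⟨by omega, D', hD', hm, Aschbacher.Orth.eq_dec hQf h7 hH hD'.decomp.decomp (Aschbacher.Orth.le_refined hQf h7 hH hle hle')⟩))))))))
      · exact absurd (hiff.mp hplus) (by decide)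
    · obtain rfl : t = 2 := by omega
      exact Or.inr (Or.inr (Or.inr (Or.inr (Or.inr (Or.inr (Or.inr (Or.inr (Or.inr (Or.inr (Or.inr (Or.inl ⟨D, hD, Aschbacher.Orth.eq_dec hQf h7 hH hD.decomp.decomp hle⟩)))))))))))
  · obtain ⟨htk, -, -⟩ := Aschbacher.Orth.dec_dims hD
    obtain rfl : k = 6 := by omega
    exact Or.inr (Or.inr (Or.inr (Or.inr (Or.inr (Or.inr (Or.inr (Or.inr (Or.inr (Or.inr (Or.inr (Or.inr (Or.inl ⟨D, hD, hts, Aschbacher.Orth.eq_dec hQf h7 hH hD hle⟩))))))))))))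
  · have h2r := hr.two_le
    obtain rfl | rfl : r = 2 ∨ r = 3 := by omega
    · exact Or.inr (Or.inr (Or.inr (Or.inr (Or.inr (Or.inr (Or.inr (Or.inr (Or.inr (Or.inr (Or.inr (Or.inr (Or.inr (Or.inl ⟨K, hK, Aschbacher.Orth.eq_field hQf h7 hH hK le_rfl hle⟩)))))))))))))
    · exact Or.inr (Or.inr (Or.inr (Or.inr (Or.inr (Or.inr (Or.inr (Or.inr (Or.inr (Or.inr (Or.inr (Or.inr (Or.inr (Or.inr (Or.inl ⟨K, hK, Aschbacher.Orth.eq_field hQf h7 hH hK (by norm_num) hle⟩))))))))))))))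
  · exact Or.inr (Or.inr (Or.inr (Or.inr (Or.inr (Or.inr (Or.inr (Or.inr (Or.inr (Or.inr (Or.inr (Or.inr (Or.inr (Or.inr (Or.inr (Or.inl ⟨K, hK, hadj, hnsa, hsim, Aschbacher.Orth.eq_field hQf h7 hH hK le_rfl hle⟩)))))))))))))))
  · obtain rfl : b = 6 := by
      have h1 := Fintype.card_congr e
      simp only [Fintype.card_prod, Fintype.card_fin] at h1
      omega
    by_cases h3 : 3 ≤ Fintype.card F
    · exact Or.inr (Or.inr (Or.inr (Or.inr (Or.inr (Or.inr (Or.inr (Or.inr (Or.inr (Or.inr (Or.inr (Or.inr (Or.inr (Or.inr (Or.inr (Or.inr (Or.inl ⟨h3, e, P, f₁, f₂, hf₁, hf₂, hS, h0, Aschbacher.Orth.eq_tensor hQf h7 hH (by norm_num) (by norm_num) (by norm_num) hle⟩))))))))))))))))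
    have h2q : Fintype.card F = 2 := by
      have := Fintype.one_lt_card (α := F)
      omega
    obtain ⟨K, hK, hle'⟩ := Aschbacher.Orth.tensor_two_field h2q (by norm_num) e P
    exact Or.inr (Or.inr (Or.inr (Or.inr (Or.inr (Or.inr (Or.inr (Or.inr (Or.inr (Or.inr (Or.inr (Or.inr (Or.inr (Or.inl ⟨K, hK, Aschbacher.Orth.eq_field hQf h7 hH hK le_rfl (hle.trans hle')⟩)))))))))))))
  · have h2 : (2 : F) ≠ 0 := Aschbacher.two_ne_zero_of_odd hodd
    have h3 : 3 ≤ Fintype.card F := by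
      have := Fintype.one_lt_card (α := F)
      obtain ⟨i, hi⟩ := hodd
      omega
    obtain ⟨e', P', g₁, g₂, hg₁, hg₂, hS', h0', hle'⟩ := Aschbacher.Orth.tensor_plus_two_six hQf hIso (Aschbacher.Orth.le_special hQf h7 hH) h2
      hf₁ hf₂ hS hle ((Aschbacher.Orth.tensor_sign hQf h2 hf₁ hf₂ hS).mpr hplus)
    exact Or.inr (Or.inr (Or.inr (Or.inr (Or.inr (Or.inr (Or.inr (Or.inr (Or.inr (Or.inr (Or.inr (Or.inr (Or.inr (Or.inr (Or.inr (Or.inr (Or.inl ⟨h3, e', P', g₁, g₂, hg₁, hg₂, hS', h0', Aschbacher.Orth.eq_tensor hQf h7 hH (by norm_num) (by norm_num) (by norm_num) hle'⟩))))))))))))))))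
  · exact Or.inr (Or.inr (Or.inr (Or.inr (Or.inr (Or.inr (Or.inr (Or.inr (Or.inr (Or.inr (Or.inr (Or.inr (Or.inr (Or.inr (Or.inr (Or.inr (Or.inr (Or.inl ⟨F₀, r, P, ζ, hr, hc, hζ, hP, Aschbacher.Orth.eq_subfield hQf h7 hH hr hc hle⟩)))))))))))))))))

end Cfsg.Agent.S5871
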