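import Cfsg.Statements.S5874
import Cfsg.Agent.Aschbacher.Orth.Glue
import Cfsg.Agent.Aschbacher.Symp.Fields

set_option autoImplicit false
open Cfsg

namespace Cfsg.Agent.S5874

/-- Every maximal subgroup of Ω_12^-(q) is of one of the listed geometric types or lies in the residual class. Let F be a finite field with q elements (characteristic p), Q a non-degenerate quadratic form on F^12 of minus type (Witt index 5: no totally singular 6-space), Ω the commutator subgroup of its isometry group, and H a maximal subgroup of Ω (inside GL_12(F)). Then H is the intersection with Ω of one of: the stabiliser of a non-zero totally singular subspace; for q odd, the stabiliser of a non-degenerate subspace of odd dimension; the stabiliser of a non-degenerate 2-space of minus type; for q ≥ 4, the stabiliser of a non-degenerate 2-space of plus type; the stabiliser of a non-degenerate 4-space; the stabiliser of a non-degenerate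 6-space; for q even, the stabiliser of the span of a non-singular vector; the stabiliser of a decomposition into 3 pairwise orthogonal, pairwise isometric non-degenerate 4-spaces of minus type; the normaliser of a degree-2 subfield of the matrix algebra; the normaliser of a degree-3 subfield of the matrix algebra; for q odd with q ≥ 5, the stabiliser of a tensor decomposition of the polar form into symmetric forms on F^3 and F^4 (minus type); a subfield group (|F| = |F₀|^r, r odd prime) whose F₀-structure carries a non-zero multiple of Q — or else H lies in the residual class of the orthogonal case (modulo scalars H is almost simple, with absolutely irreducible perfect socle preimage realisable over no proper subfield and fixing no non-degenerate unitary form). -/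
theorem result {F : Type*} [Field F] [Fintype F] (Q : (Fin 12 → F) → F) (hQ : Cfsg.Geo.IsNondegenerateQuadraticForm Q) (hminus : ¬ Cfsg.Geo.IsPlusTypeOn Q ⊤) (H : Subgroup (Matrix.GeneralLinearGroup (Fin 12) F)) (hH : Cfsg.Geo.IsMaximalIn (Cfsg.Geo.omegaGL Q) H) :
    (∃ W : Submodule F (Fin 12 → F), W ≠ ⊥ ∧ Cfsg.Geo.IsTotallySingularQuad Q W ∧ H = Cfsg.Geo.subspaceStabilizer W ⊓ Cfsg.Geo.omegaGL Q) ∨
    (Odd (Fintype.card F) ∧ ∃ W : Submodule F (Fin 12 → F), W ≠ ⊥ ∧ W ≠ ⊤ ∧ Odd (Module.finrank F W) ∧ 2 * Module.finrank F W ≠ 12 ∧ Cfsg.Geo.IsNondegenerateOn (QuadraticMap.polar Q) W ∧ H = Cfsg.Geo.subspaceStabilizer W ⊓ Cfsg.Geo.omegaGL Q) ∨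
    (∃ W : Submodule F (Fin 12 → F), Module.finrank F W = 2 ∧ Cfsg.Geo.IsNondegenerateOn (QuadraticMap.polar Q) W ∧ ¬ Cfsg.Geo.IsPlusTypeOn Q W ∧ H = Cfsg.Geo.subspaceStabilizer W ⊓ Cfsg.Geo.omegaGL Q) ∨
    (4 ≤ Fintype.card F ∧ ∃ W : Submodule F (Fin 12 → F), Module.finrank F W = 2 ∧ Cfsg.Geo.IsNondegenerateOn (QuadraticMap.polar Q) W ∧ Cfsg.Geo.IsPlusTypeOn Q W ∧ H = Cfsg.Geo.subspaceStabilizer W ⊓ Cfsg.Geo.omegaGL Q) ∨
    (∃ W : Submodule F (Fin 12 → F), Module.finrank F W = 4 ∧ Cfsg.Geo.IsNondegenerateOn (QuadraticMap.polar Q) W ∧ H = Cfsg.Geo.subspaceStabilizer W ⊓ Cfsg.Geo.omegaGL Q) ∨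
    (∃ W : Submodule F (Fin 12 → F), Module.finrank F W = 6 ∧ Cfsg.Geo.IsNondegenerateOn (QuadraticMap.polar Q) W ∧ H = Cfsg.Geo.subspaceStabilizer W ⊓ Cfsg.Geo.omegaGL Q) ∨
    (¬ Odd (Fintype.card F) ∧ ∃ v : (Fin 12 → F), Q v ≠ 0 ∧ H = Cfsg.Geo.subspaceStabilizer (Submodule.span F {v}) ⊓ Cfsg.Geo.omegaGL Q) ∨
    (∃ D : Fin 3 → Submodule F (Fin 12 → F), Cfsg.Geo.IsOrthogonalMDecomposition Q 4 D ∧ (∀ i, ¬ Cfsg.Geo.IsPlusTypeOn Q (D i)) ∧ H = Cfsg.Geo.decompositionStabilizer D ⊓ Cfsg.Geo.omegaGL Q) ∨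
    (∃ K : Subalgebra F (Matrix (Fin 12) (Fin 12) F), Cfsg.Geo.IsFieldSubalgebra 2 K ∧ H = Cfsg.Geo.subalgebraNormalizer K ⊓ Cfsg.Geo.omegaGL Q) ∨
    (∃ K : Subalgebra F (Matrix (Fin 12) (Fin 12) F), Cfsg.Geo.IsFieldSubalgebra 3 K ∧ H = Cfsg.Geo.subalgebraNormalizer K ⊓ Cfsg.Geo.omegaGL Q) ∨
    (Odd (Fintype.card F) ∧ 5 ≤ Fintype.card F ∧ ∃ (e : Fin 12 ≃ Fin 3 × Fin 4) (P : Matrix.GeneralLinearGroup (Fin 12) F) (f₁ : (Fin 3 → F) → (Fin 3 → F) → F) (f₂ : (Fin 4 → F) → (Fin 4 → F) → F), Cfsg.Geo.IsSymmetricForm f₁ ∧ Cfsg.Geo.IsSymmetricForm f₂ ∧ ¬ Cfsg.Geo.IsPlusTypeOn (fun v : Fin 4 → F => f₂ v v) ⊤ ∧ Cfsg.Geo.IsTensorFormStructure id (QuadraticMap.polar Q) f₁ f₂ e P ∧ H = Cfsg.Geo.tensorProductSubgroup 3 4 e P ⊓ Cfsg.Geo.omegaGL Q) ∨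
    (∃ (F₀ : Subfield F) (r : ℕ) (P : Matrix.GeneralLinearGroup (Fin 12) F) (ζ : F), r.Prime ∧ Odd r ∧ Fintype.card F = Nat.card F₀ ^ r ∧ ζ ≠ 0 ∧ Cfsg.Geo.IsQuadFormRationalStructure (fun v : Fin 12 → F => ζ * Q v) F₀ P ∧ H = Cfsg.Geo.subfieldSubgroup F₀ P ⊓ Cfsg.Geo.omegaGL Q) ∨
    Cfsg.Geo.InOrthogonalResidualClass H := by
  classical
  obtain ⟨Qf, rfl, hQf⟩ := OrthStab.exists_form hQ
  clear hQ
  have h7 : 7 ≤ 12 := by norm_num
  have hIso : H ≤ Cfsg.isometryGroup F ⇑Qf := Aschbacher.Orth.le_iso hQf h7 hH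
  have hplusIff := Aschbacher.Orth.plus_top_iff hQf (show Even (Fintype.card (Fin 12)) by simp; decide)
  by_cases hirr : Aschbacher.Irr H
  swap
  · rcases Aschbacher.Orth.reducible_cases hQf (by simp) hH hirr with ⟨W, hb, hts, heq, hdim⟩ | ⟨hev, v, hv, heq⟩ |
      ⟨W, hb, ht, hd, hW, hodd, heq, hq⟩
    · exact Or.inl ⟨W, hb, hts, heq⟩
    · exact Or.inr (Or.inr (Or.inr (Or.inr (Or.inr (Or.inr (Or.inl ⟨hev, v, hv, heq⟩))))))
    rw [Fintype.card_fin] at hd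
    have h0 : 1 ≤ Module.finrank F W := Submodule.one_le_finrank_iff.mpr hb
    by_cases ho : Odd (Module.finrank F W)
    · exact Or.inr (Or.inl ⟨hodd ho, W, hb, ht, ho, by have := Nat.odd_iff.mp ho; omega, hW, heq⟩)
    have he := Nat.even_iff.mp (Nat.not_odd_iff_even.mp ho)
    obtain h | h | h : Module.finrank F W = 2 ∨ Module.finrank F W = 4 ∨ Module.finrank F W = 6 := by omega
    · by_cases hp : Cfsg.Geo.IsPlusTypeOn ⇑Qf W
      · exact Or.inr (Or.inr (Or.inr (Or.inl ⟨hq h hp, W, h, hW, hp, heq⟩)))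
      · exact Or.inr (Or.inr (Or.inl ⟨W, h, hW, hp, heq⟩))
    · exact Or.inr (Or.inr (Or.inr (Or.inr (Or.inl ⟨W, h, hW, heq⟩))))
    · exact Or.inr (Or.inr (Or.inr (Or.inr (Or.inr (Or.inl ⟨W, h, hW, heq⟩)))))
  rcases Aschbacher.Orth.conc_or_residual hQf hIso hirr (by norm_num) (fun h => absurd h (by norm_num)) with hc | hres
  swap
  · exact Or.inr (Or.inr (Or.inr (Or.inr (Or.inr (Or.inr (Or.inr (Or.inr (Or.inr (Or.inr (Or.inr (Or.inr (hres))))))))))))
  rcases hc with ⟨t, k, D, hD, hle⟩ | ⟨k, D, hD, hts, hle⟩ | ⟨r, K, hr, hrn, hr3, hodd, hK, hsa, hle⟩ |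
    ⟨K, hK, hadj, hnsa, hsim, hle⟩ | ⟨b, e, P, f₁, f₂, hb3, hf₁, hf₂, hS, h0, hle⟩ |
    ⟨hodd, e, P, f₁, f₂, hf₁, hf₂, hS, hle⟩ | ⟨F₀, r, P, ζ, hr, hc, hζ, hP, hle⟩
  · obtain ⟨htk, ht2, hk0⟩ := Aschbacher.Orth.dec_dims hD.decomp.decomp
    have hk : k ≤ 6 := by nlinarith
    obtain rfl | rfl | rfl | rfl | rfl : k = 1 ∨ k = 2 ∨ k = 3 ∨ k = 4 ∨ k = 6 := by interval_cases k <;> omega
    · obtain rfl : t = 12 := by omega
      obtain ⟨-, h2, hiff⟩ := Aschbacher.Orth.dec_odd hQf hD odd_one (j := 6) rfl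
      refine absurd (hiff.mpr ?_) hminus
      rcases Aschbacher.Orth.chi_neg_one_or h2 with ⟨hc, -⟩ | ⟨hc, -⟩ <;> rw [hc] <;> norm_num
    · obtain rfl : t = 6 := by omega
      refine absurd ?_ hminus
      rcases Aschbacher.Orth.dec_even hQf hD even_two with ⟨-, h⟩ | ⟨-, h⟩
      · exact h
      · exact h.mpr (by decide)
    · obtain rfl : t = 4 := by omega
      obtain ⟨-, h2, hiff⟩ := Aschbacher.Orth.dec_odd hQf hD (by decide) (j := 2) rfl
      refine absurd (hiff.mpr ?_) hminus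
      rcases Aschbacher.Orth.chi_neg_one_or h2 with ⟨hc, -⟩ | ⟨hc, -⟩ <;> rw [hc] <;> norm_num
    · obtain rfl : t = 3 := by omega
      rcases Aschbacher.Orth.dec_even hQf hD (by decide) with ⟨-, h⟩ | ⟨hm, -⟩
      · exact absurd h hminus
      · exact Or.inr (Or.inr (Or.inr (Or.inr (Or.inr (Or.inr (Or.inr (Or.inl ⟨D, hD, hm, Aschbacher.Orth.eq_dec hQf h7 hH hD.decomp.decomp hle⟩)))))))
    · obtain rfl : t = 2 := by omega
      refine absurd ?_ hminus
      rcases Aschbacher.Orth.dec_even hQf hD (by decide) with ⟨-, h⟩ | ⟨-, h⟩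
      · exact h
      · exact h.mpr (by decide)
  · obtain ⟨htk, -, -⟩ := Aschbacher.Orth.dec_dims hD
    exact absurd (Aschbacher.Orth.plus_of_half (hts 0) (by rw [hD.finrank_eq, Fintype.card_fin]; omega)) hminus
  · have h2r := hr.two_le
    obtain rfl | rfl : r = 2 ∨ r = 3 := by omega
    · exact Or.inr (Or.inr (Or.inr (Or.inr (Or.inr (Or.inr (Or.inr (Or.inr (Or.inl ⟨K, hK, Aschbacher.Orth.eq_field hQf h7 hH hK le_rfl hle⟩))))))))
    · exact Or.inr (Or.inr (Or.inr (Or.inr (Or.inr (Or.inr (Or.inr (Or.inr (Or.inr (Or.inl ⟨K, hK, Aschbacher.Orth.eq_field hQf h7 hH hK (by norm_num) hle⟩)))))))))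
  · exact Or.inr (Or.inr (Or.inr (Or.inr (Or.inr (Or.inr (Or.inr (Or.inr (Or.inl ⟨K, hK, Aschbacher.Orth.eq_field hQf h7 hH hK le_rfl hle⟩))))))))
  · exact absurd (Aschbacher.Orth.plus_of_pure hQf h0) hminus
  · have h2 : (2 : F) ≠ 0 := Aschbacher.two_ne_zero_of_odd hodd
    by_cases h5 : 5 ≤ Fintype.card F
    · exact Or.inr (Or.inr (Or.inr (Or.inr (Or.inr (Or.inr (Or.inr (Or.inr (Or.inr (Or.inr (Or.inl ⟨hodd, h5, e, P, f₁, f₂, hf₁, hf₂, fun h => hminus ((Aschbacher.Orth.tensor_sign hQf h2 hf₁ hf₂ hS).mp h), hS, Aschbacher.Orth.eq_tensor hQf h7 hH (by norm_num) (by norm_num) (by norm_num) hle⟩))))))))))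
    have h3 : Fintype.card F = 3 := by
      have := Fintype.one_lt_card (α := F)
      obtain ⟨i, hi⟩ := hodd
      omega
    obtain ⟨D, hD, hle'⟩ := Aschbacher.Orth.tensor_three_dec hQf hIso h3 hf₁ hf₂ hS hle
    rcases Aschbacher.Orth.dec_even hQf hD (by decide) with ⟨-, h⟩ | ⟨hm, -⟩
    · exact absurd h hminus
    · exact Or.inr (Or.inr (Or.inr (Or.inr (Or.inr (Or.inr (Or.inr (Or.inl ⟨D, hD, hm, Aschbacher.Orth.eq_dec hQf h7 hH hD.decomp.decomp hle'⟩)))))))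
  · exact Or.inr (Or.inr (Or.inr (Or.inr (Or.inr (Or.inr (Or.inr (Or.inr (Or.inr (Or.inr (Or.inr (Or.inl ⟨F₀, r, P, ζ, hr, Aschbacher.Orth.odd_index hQf (by decide) (by norm_num) hminus hr hc hζ hP, hc, hζ, hP, Aschbacher.Orth.eq_subfield hQf h7 hH hr hc hle⟩)))))))))))

end Cfsg.Agent.S5874
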