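import Cfsg.Statements.S5876
import Cfsg.Agent.FG75.FixSpace

set_option autoImplicit false
set_option linter.all false
open Cfsg

namespace Cfsg.Agent.S5876

/-- Fixed-point spaces in primitive soluble linear groups. Let F be a finite field and G a soluble subgroup of GL_n(F) that acts irreducibly on F^n and primitively (G preserves no decomposition of F^n into two or more independent subspaces of equal dimension). Then every non-identity element g of G has fixed-point space {v : g v = v} of dimension at most 3n/4. -/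
theorem result {F : Type*} [Field F] [Fintype F] {n : ℕ} (G : Subgroup (Matrix.GeneralLinearGroup (Fin n) F)) (hsol : IsSolvable G) (hirr : Cfsg.Geo.ActsIrreducibly (Cfsg.Geo.matrixSet G)) (hprim : ∀ (m t : ℕ) (D : Fin t → Submodule F (Fin n → F)), 2 ≤ t → Cfsg.Geo.IsMDecomposition m D → ¬ G ≤ Cfsg.Geo.decompositionStabilizer D) (g : Matrix.GeneralLinearGroup (Fin n) F) (hg : g ∈ G) (hg1 : g ≠ 1) :
    4 * Module.finrank F (Module.End.eigenspace (Matrix.toLin' (g : Matrix (Fin n) (Fin n) F)) 1) ≤ 3 * n := by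
  haveI : Finite ↥G := inferInstance
  haveI : Group.IsSolvable ↥G := hsol
  let ρ : ↥G →* Module.End F (Fin n → F) :=
    { toFun := fun x => Matrix.toLin' ((x : Matrix.GeneralLinearGroup (Fin n) F) :
        Matrix (Fin n) (Fin n) F)
      map_one' := by simp [Module.End.one_eq_id]
      map_mul' := fun x y => by
        simp [Matrix.toLin'_mul, Module.End.mul_eq_comp] }
  have hinj : Function.Injective ρ := fun x y h =>
    Subtype.ext (Units.ext (Matrix.toLin'.injective h))
  have hirr' : ∀ W : Submodule F (Fin n → F), (∀ x, W.map (ρ x) ≤ W) → W = ⊥ ∨ W = ⊤ := by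
    intro W hW
    refine hirr W ?_
    rintro _ ⟨k, hk, rfl⟩
    exact hW ⟨k, hk⟩
  have hprim' : ∀ (t m : ℕ) (D : Fin t → Submodule F (Fin n → F)), 2 ≤ t → 0 < m →
      (∀ i, Module.finrank F (D i) = m) → iSupIndep D → iSup D = ⊤ →
      (∀ x, ∃ σ : Equiv.Perm (Fin t), ∀ i, (D i).map (ρ x) = D (σ i)) → False :=
    fun t m D h2 hm hd hi ht hperm =>
      hprim m t D h2 ⟨h2, hm, hd, hi, ht⟩ fun x hx => hperm ⟨x, hx⟩
  have h := FG75.FixSpace.four_fix_le ρ hinj hirr' hprim' (g := ⟨g, hg⟩)
    (fun h => hg1 (congrArg Subtype.val h))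
  have heq : Module.End.eigenspace (Matrix.toLin' (g : Matrix (Fin n) (Fin n) F)) 1 =
      FG75.FixSpace.fix ρ ⟨g, hg⟩ := by
    ext v
    rw [Module.End.mem_eigenspace_iff, one_smul, FG75.FixSpace.mem_fix]
    rfl
  rw [Module.finrank_fin_fun] at h
  rw [heq]
  exact h

end Cfsg.Agent.S5876
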