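import Cfsg.Statements.S5877
import Cfsg.Agent.FG75.EigenExtraspecial

set_option autoImplicit false
set_option linter.all false
open Cfsg
open scoped commutatorElement

namespace Cfsg.Agent.S5877

/-- Eigenspaces of elements normalising an absolutely irreducible extraspecial group. Let F be a finite field, r a prime, and R ≤ GL_n(F) an absolutely irreducible extraspecial r-group (an r-group whose centre equals its derived subgroup and has order r) of exponent r or 4. Let g ∈ GL_n(F) normalise the product of R with the scalar matrices, have prime order ϖ and not be scalar, and let W be the eigenspace of g for any c ∈ F (W may be the zero subspace). Then dim W ≤ 3n/4 if ϖ = 2, dim W ≤ 2n/3 if ϖ = 3, and dim W ≤ n/2 if ϖ > 3; moreover if ϖ = 3 and 3 does not divide n then dim W ≤ n/2. -/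
theorem result {F : Type*} [Field F] [Fintype F] {n r ϖ : ℕ} (R : Subgroup (Matrix.GeneralLinearGroup (Fin n) F)) (hr : r.Prime) (hR : IsPGroup r R) (hZ : Nat.card (Subgroup.center R) = r) (hext : commutator R = Subgroup.center R) (hexp : Monoid.exponent R = r ∨ Monoid.exponent R = 4) (hirr : Cfsg.Geo.ActsAbsolutelyIrreducibly (Cfsg.Geo.matrixSet R)) (g : Matrix.GeneralLinearGroup (Fin n) F) (hg : g ∈ Cfsg.Geo.subgroupNormalizer (R ⊔ Cfsg.Geo.scalars (Fin n) F)) (hϖ : ϖ.Prime) (hord : orderOf g = ϖ) (hns : g ∉ Cfsg.Geo.scalars (Fin n) F) (c : F) :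
    (ϖ = 2 → 4 * Module.finrank F (Module.End.eigenspace (Matrix.toLin' (g : Matrix (Fin n) (Fin n) F)) c) ≤ 3 * n) ∧
    (ϖ = 3 → 3 * Module.finrank F (Module.End.eigenspace (Matrix.toLin' (g : Matrix (Fin n) (Fin n) F)) c) ≤ 2 * n) ∧
    (3 < ϖ → 2 * Module.finrank F (Module.End.eigenspace (Matrix.toLin' (g : Matrix (Fin n) (Fin n) F)) c) ≤ n) ∧
    (ϖ = 3 → ¬ 3 ∣ n → 2 * Module.finrank F (Module.End.eigenspace (Matrix.toLin' (g : Matrix (Fin n) (Fin n) F)) c) ≤ n) := by
  classical
  rcases Nat.eq_zero_or_pos n with rfl | hn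
  · exact absurd ((Cfsg.Geo.mem_scalars_iff g).2 ⟨1, Matrix.ext fun i => i.elim0⟩) hns
  haveI : Nonempty (Fin n) := ⟨⟨0, hn⟩⟩
  let ρ : GL (Fin n) F →* Module.End F (Fin n → F) :=
    ((Matrix.toLinAlgEquiv' : Matrix (Fin n) (Fin n) F ≃ₐ[F] _).toMonoidHom).comp
      (Units.coeHom (Matrix (Fin n) (Fin n) F))
  have hρ : ∀ x : GL (Fin n) F, ρ x = Matrix.toLin' (x : Matrix (Fin n) (Fin n) F) := fun _ => rfl
  have hsc : Cfsg.Geo.scalars (Fin n) F ≤ Subgroup.center (GL (Fin n) F) := by
    intro x hx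
    obtain ⟨a, ha⟩ := (Cfsg.Geo.mem_scalars_iff x).1 hx
    refine Subgroup.mem_center_iff.2 fun z => Units.ext ?_
    rw [Units.val_mul, Units.val_mul, ha, mul_smul_comm, smul_mul_assoc, mul_one, one_mul]
  have hscal : ∀ x : GL (Fin n) F, (∀ y ∈ R, x * y = y * x) →
      ∃ a : F, (x : Matrix (Fin n) (Fin n) F) = a • 1 := fun x hx =>
    hirr.2 _ fun s hs => by
      obtain ⟨y, hy, rfl⟩ := hs
      exact congrArg Units.val (hx y hy)
  have hcen : ∀ x : GL (Fin n) F, (∀ y ∈ R, x * y = y * x) →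
      x ∈ Cfsg.Geo.scalars (Fin n) F := fun x hx => by
    obtain ⟨a, ha⟩ := hscal x hx
    have ha0 : a ≠ 0 := by
      intro h
      rw [h, zero_smul] at ha
      exact x.ne_zero ha
    exact (Cfsg.Geo.mem_scalars_iff x).2 ⟨Units.mk0 a ha0, ha⟩
  have hcR : ∀ x, ∀ hx : x ∈ R, ∀ y, ∀ hy : y ∈ R,
      (⁅(⟨x, hx⟩ : R), (⟨y, hy⟩ : R)⁆ : R) ∈ Subgroup.center R := fun x hx y hy => by
    rw [← hext, _root_.commutator_def]
    exact Subgroup.commutator_mem_commutator (Subgroup.mem_top _) (Subgroup.mem_top _)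
  have C : FG75.EigenExtraspecial.Ctx ρ R (R ⊔ Cfsg.Geo.scalars (Fin n) F) r g :=
    { inj := fun a b h => Units.ext (Matrix.toLin'.injective h)
      prime := hr
      scal := fun x hx => by
        obtain ⟨a, ha⟩ := hscal x hx
        exact ⟨a, by rw [hρ, ha, map_smul, Matrix.toLin'_one]; rfl⟩
      le := le_sup_left
      dec := fun x hx => by
        obtain ⟨y, hy, s, hs, rfl⟩ := Subgroup.mem_sup_of_normal_right.1 hx
        exact ⟨y, hy, s, hsc hs, Subgroup.mem_center_iff.1 (hsc hs) y⟩
      comm := fun x hx y hy => hsc (hcen _ fun z hz => by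
        have := Subgroup.mem_center_iff.1 (hcR x hx y hy) ⟨z, hz⟩
        exact (congrArg Subtype.val this).symm)
      comm_pow := fun x hx y hy => by
        have h : (⟨_, hcR x hx y hy⟩ : Subgroup.center R) ^ r = 1 := by
          rw [← hZ]; exact pow_card_eq_one'
        exact congrArg Subtype.val (congrArg Subtype.val h)
      pow_one := fun hr2 y hy => by
        rcases hexp with he | he
        · have := Monoid.pow_exponent_eq_one (⟨y, hy⟩ : R)
          rw [he] at this
          exact congrArg Subtype.val this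
        · have h4 := Monoid.pow_exponent_eq_one (⟨y, hy⟩ : R)
          rw [he] at h4
          obtain ⟨k, hk⟩ := hR ⟨y, hy⟩
          have hcop : Nat.Coprime 4 (r ^ k) := Nat.Coprime.pow_right k
            (((Nat.coprime_primes Nat.prime_two hr).2 (Ne.symm hr2)).pow_left 2)
          have h1 : (⟨y, hy⟩ : R) = 1 := orderOf_eq_one_iff.1 (Nat.eq_one_of_dvd_coprimes hcop
            (orderOf_dvd_of_pow_eq_one h4) (orderOf_dvd_of_pow_eq_one hk))
          rw [show y = 1 from congrArg Subtype.val h1, one_pow]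
      norm := fun x hx => (Subgroup.mem_normalizer_iff.1 hg x).1 hx }
  have hgns : g ∉ Subgroup.center (GL (Fin n) F) := fun h => hns
    (hcen g fun y _ => (Subgroup.mem_center_iff.1 h y).symm)
  have hm := C.main hϖ (hord ▸ pow_orderOf_eq_one g) hgns c
  simp only [hρ, Module.finrank_fintype_fun_eq_card, Fintype.card_fin] at hm
  exact hm

end Cfsg.Agent.S5877
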