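import Cfsg.Statements.S5883
import Cfsg.Agent.SporB.Fi23.Max.Main

set_option autoImplicit false
open Cfsg

namespace Cfsg.Agent.S5883

/-- The constant 10 in the statement that H⁽¹⁰⁾ is perfect for every maximal subgroup H of a finite almost simple group cannot be lowered to 9: there exist a finite almost simple group G (with a non-abelian simple normal subgroup of trivial centralizer) and a maximal subgroup H of G whose ninth derived subgroup H⁽⁹⁾ is not perfect, i.e. H⁽¹⁰⁾ ≠ H⁽⁹⁾. (A solvable maximal subgroup of derived length 10 in the Fischer group Fi₂₃ is such an example.) -/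
theorem result :
    ∃ (G : Type) (_ : Group G) (_ : Finite G) (S H : Subgroup G), S.Normal ∧ IsSimpleGroup S ∧ ¬ IsMulCommutative S ∧
      Subgroup.centralizer (S : Set G) = ⊥ ∧ IsCoatom H ∧ derivedSeries H 10 ≠ derivedSeries H 9 := by
  haveI := Cfsg.Agent.CosetEnum.Fi23.finite
  haveI := Cfsg.Agent.CosetEnum.Fi23.simple
  haveI : IsSimpleGroup (⊤ : Subgroup Cfsg.Agent.CosetEnum.Fi23.pres.Gp) :=
    @MulEquiv.isSimpleGroup _ _ _ _ (Cfsg.Agent.CosetEnum.Fi23.simple) Subgroup.topEquiv
  refine ⟨_, inferInstance, inferInstance, ⊤, Cfsg.Agent.CosetEnum.Fi23.Max.HM, inferInstance,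
    inferInstance, ?_, ?_, Cfsg.Agent.CosetEnum.Fi23.Max.maximal_HM,
    Cfsg.Agent.CosetEnum.Fi23.Max.derived_ne⟩
  · intro h
    have hp : Subgroup.center Cfsg.Agent.CosetEnum.Fi23.pres.Gp = ⊤ := by
      rw [eq_top_iff]
      intro x _
      rw [Subgroup.mem_center_iff]
      intro y
      exact congrArg Subtype.val (h.is_comm.comm ⟨y, Subgroup.mem_top y⟩ ⟨x, Subgroup.mem_top x⟩)
    rw [Cfsg.Agent.CosetEnum.Fi23.Max.center_bot] at hp
    exact bot_ne_top hp
  · rw [Subgroup.coe_top, Subgroup.centralizer_univ, Cfsg.Agent.CosetEnum.Fi23.Max.center_bot]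

end Cfsg.Agent.S5883
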