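import Cfsg.Statements.S5885
import Mathlib

set_option autoImplicit false
open Cfsg
open scoped Pointwise

namespace Cfsg.Agent.S5885

/-- Let n be an odd positive integer such that every primitive permutation group of degree n contains the alternating group (so the symmetric and alternating groups are the only primitive groups of degree n). Let G be a finite group, M a maximal subgroup of G of index n, and H a maximal subgroup of M. Then H is a second maximal subgroup of G: H is maximal in every maximal subgroup K of G containing H. -/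
theorem result {G : Type*} [Group G]
    [Finite G] (n : ℕ) (hodd : Odd n)
    (hA : ∀ P : Subgroup (Equiv.Perm (Fin n)), MulAction.IsPreprimitive P (Fin n) → alternatingGroup (Fin n) ≤ P)
    (M : Subgroup G) (hM : IsCoatom M) (hn : M.index = n) (H : Subgroup G) (hHM : H ≤ M)
    (hmax : IsCoatom (H.subgroupOf M)) (K : Subgroup G) (hK : IsCoatom K) (hHK : H ≤ K) :
    IsCoatom (H.subgroupOf K) := by
  classical
  by_cases hKM : K = M
  · subst hKM; exact hmax
  have hinf : M ⊓ K = H := by
    refine le_antisymm ?_ (le_inf hHM hHK)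
    rcases eq_or_lt_of_le (show H.subgroupOf M ≤ K.subgroupOf M from fun x hx => hHK hx) with h | h
    · intro x hx
      have : (⟨x, hx.1⟩ : M) ∈ K.subgroupOf M := hx.2
      rw [← h] at this
      exact this
    · exfalso
      have h1 := hmax.2 _ h
      have hMK : M ≤ K := Subgroup.subgroupOf_eq_top.mp h1
      rcases eq_or_lt_of_le hMK with h2 | h2
      · exact hKM h2.symm
      · exact hK.1 (hM.2 K h2)
  refine ⟨fun h => ?_, fun L' hL' => ?_⟩
  · have hKH : K ≤ M := (Subgroup.subgroupOf_eq_top.mp h).trans hHM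
    rcases eq_or_lt_of_le hKH with h2 | h2
    · exact hKM h2
    · exact hM.1 (hK.2 M h2)
  -- the permutation representation on the cosets of `M`
  haveI : Fintype (G ⧸ M) := Fintype.ofFinite _
  let e : (G ⧸ M) ≃ Fin n := Fintype.equivFinOfCardEq (by rw [← Nat.card_eq_fintype_card]; exact hn)
  letI : MulAction G (Fin n) :=
    { smul := fun g x => e (g • e.symm x)
      one_smul := fun x => by show e ((1 : G) • e.symm x) = x; simp
      mul_smul := fun g h x => by
        show e ((g * h) • e.symm x) = e (g • e.symm (e (h • e.symm x)))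
        simp [mul_smul] }
  set a : Fin n := e ((1 : G) : G ⧸ M) with ha
  have hsmul : ∀ g : G, g • a = e (g : G ⧸ M) := fun g => by
    show e (g • e.symm a) = _
    simp [ha]
  have hstab : ∀ g : G, g • a = a ↔ g ∈ M := fun g => by
    rw [hsmul, ha, e.injective.eq_iff, QuotientGroup.eq]
    simp
  haveI : MulAction.IsPretransitive G (Fin n) := ⟨fun x y => by
    obtain ⟨g, hg⟩ := MulAction.exists_smul_eq G (e.symm x) (e.symm y)
    exact ⟨g, by show e (g • e.symm x) = y; rw [hg, e.apply_symm_apply]⟩⟩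
  haveI : Nontrivial (Fin n) := by
    rw [← Fintype.one_lt_card_iff_nontrivial, Fintype.card_fin]
    have h1 : M.index ≠ 1 := fun h => hM.1 (Subgroup.index_eq_one.mp h)
    obtain ⟨k, hk⟩ := hodd
    omega
  have hst : MulAction.stabilizer G a = M := Subgroup.ext fun g => hstab g
  haveI : MulAction.IsPreprimitive G (Fin n) :=
    (MulAction.isCoatom_stabilizer_iff_preprimitive G a).mp (hst.symm ▸ hM)
  -- even permutations are induced by the group
  have hlift : ∀ c : Equiv.Perm (Fin n), Equiv.Perm.sign c = 1 → ∃ g : G, ∀ x, g • x = c x := by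
    intro c hc
    let φ := MulAction.toPermHom G (Fin n)
    let f : Fin n →ₑ[φ.rangeRestrict] Fin n := { toFun := id, map_smul' := fun g x => rfl }
    have hP : MulAction.IsPreprimitive φ.range (Fin n) :=
      MulAction.IsPreprimitive.of_surjective (f := f) Function.surjective_id
    obtain ⟨g, hg⟩ := hA φ.range hP (Equiv.Perm.mem_alternatingGroup.mpr hc)
    exact ⟨g, fun x => by rw [← hg]; rfl⟩
  set L : Subgroup G := L'.map K.subtype with hL
  have hLK : L ≤ K := Subgroup.map_subtype_le L'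
  have hHL : H ≤ L := fun x hx => ⟨⟨x, hHK hx⟩, hL'.le hx, rfl⟩
  have hKH : ∀ g ∈ K, g • a = a → g ∈ H := fun g hg hga => hinf ▸ ⟨(hstab g).mp hga, hg⟩
  let B : Set (Fin n) := {x | ∃ l ∈ L, l • a = x}
  have haB : a ∈ B := ⟨1, one_mem _, one_smul G a⟩
  -- translates of `B` by elements of `K` are blocks
  have hblock : ∀ k ∈ K, ∀ x ∈ B, k • x ∈ B → k ∈ L := by
    rintro k hk _ ⟨l, hl, rfl⟩ ⟨l', hl', he⟩
    have h1 : l'⁻¹ * k * l ∈ H := by
      refine hKH _ (mul_mem (mul_mem (inv_mem (hLK hl')) hk) (hLK hl)) ?_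
      rw [mul_assoc, mul_smul, mul_smul, ← he, inv_smul_smul]
    have h2 := mul_mem (mul_mem hl' (hHL h1)) (inv_mem hl)
    simpa [mul_assoc] using h2
  have hLB : ∀ l ∈ L, ∀ x ∈ B, l • x ∈ B := by
    rintro l hl _ ⟨l', hl', rfl⟩
    exact ⟨l * l', mul_mem hl hl', mul_smul l l' a⟩
  by_contra hne
  obtain ⟨k, hk, hkL⟩ : ∃ k ∈ K, k ∉ L := by
    by_contra h
    push Not at h
    refine hne (eq_top_iff.mpr fun x _ => ?_)
    obtain ⟨y, hy, hyx⟩ := h x x.2
    exact Subtype.ext hyx ▸ hy
  obtain ⟨b, hbB, hba⟩ : ∃ b ∈ B, b ≠ a := by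
    by_contra h
    push Not at h
    exact not_le_of_gt hL' fun x hx => hKH _ x.2 (h _ ⟨_, ⟨x, hx, rfl⟩, rfl⟩)
  have hxB : k • a ∉ B := fun h => hkL (hblock k hk a haB h)
  have hyB : k • b ∉ B := fun h => hkL (hblock k hk b hbB h)
  have hxy : k • a ≠ k • b := fun h => hba ((smul_left_cancel k h).symm)
  -- a point outside two blocks, by parity
  obtain ⟨z, hzB, hzkB⟩ : ∃ z, z ∉ B ∧ z ∉ (fun x => k • x) '' B := by
    by_contra h
    push Not at h
    let S : Finset (Fin n) := Finset.univ.filter (· ∈ B)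
    have hdis : Disjoint S (S.image (k • ·)) := by
      rw [Finset.disjoint_left]
      intro x hx hx'
      obtain ⟨w, hw, rfl⟩ := Finset.mem_image.mp hx'
      exact hkL (hblock k hk w (Finset.mem_filter.mp hw).2 (Finset.mem_filter.mp hx).2)
    have hun : S ∪ S.image (k • ·) = Finset.univ := by
      rw [Finset.eq_univ_iff_forall]
      intro x
      by_cases hx : x ∈ B
      · simp [S, hx]
      · obtain ⟨w, hw, hwx⟩ := h x hx
        exact Finset.mem_union_right _ (Finset.mem_image.mpr ⟨w, by simp [S, hw], hwx⟩)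
    have hc := congrArg Finset.card hun
    rw [Finset.card_union_of_disjoint hdis, Finset.card_image_of_injective _ (MulAction.injective k),
      Finset.card_univ, Fintype.card_fin] at hc
    obtain ⟨j, hj⟩ := hodd
    omega
  set x := k • a with hx
  set y := k • b with hy
  have hzx : z ≠ x := fun h => hzkB ⟨a, haB, h.symm⟩
  have hzy : z ≠ y := fun h => hzkB ⟨b, hbB, h.symm⟩
  have cyc : ∀ p q r : Fin n, p ≠ q → q ≠ r → p ≠ r → ∃ g : G, g • p = q ∧ g • q = r ∧
      ∀ w, w ≠ p → w ≠ q → w ≠ r → g • w = w := by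
    intro p q r h1 h2 h3
    obtain ⟨g, hg⟩ := hlift (Equiv.swap p r * Equiv.swap p q) (by simp [Equiv.Perm.sign_swap h1, Equiv.Perm.sign_swap h3])
    refine ⟨g, ?_, ?_, fun w w1 w2 w3 => ?_⟩
    · rw [hg, Equiv.Perm.mul_apply, Equiv.swap_apply_left, Equiv.swap_apply_of_ne_of_ne h1.symm h2]
    · rw [hg, Equiv.Perm.mul_apply, Equiv.swap_apply_right, Equiv.swap_apply_left]
    · rw [hg, Equiv.Perm.mul_apply, Equiv.swap_apply_of_ne_of_ne w1 w2, Equiv.swap_apply_of_ne_of_ne w1 w3]
  obtain ⟨g, hgx, hgy, hgfix⟩ := cyc x y z hxy hzy.symm hzx.symm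
  have hgB : ∀ w ∈ B, g • w = w := fun w hw =>
    hgfix w (fun h => hxB (h ▸ hw)) (fun h => hyB (h ▸ hw)) (fun h => hzB (h ▸ hw))
  -- the element fixing `B` pointwise lies in `K`
  have hgK : g ∈ K := by
    by_contra hgK
    have hgM : g ∈ M := (hstab g).mp (hgB a haB)
    let T : Subgroup M := (MulAction.stabilizer G B).subgroupOf M
    have hHT : H.subgroupOf M < T := by
      refine lt_of_le_of_ne (fun u hu => ?_) fun h => hgK (hHK ?_)
      · show (u : G) • B = B
        refine Set.Subset.antisymm ?_ fun w hw => ⟨(u : G)⁻¹ • w, hLB _ (inv_mem (hHL hu)) w hw, smul_inv_smul _ w⟩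
        rintro _ ⟨w, hw, rfl⟩
        exact hLB _ (hHL hu) w hw
      · have hgT : (⟨g, hgM⟩ : M) ∈ T := by
          show g • B = B
          refine Set.Subset.antisymm ?_ fun w hw => ⟨w, hw, hgB w hw⟩
          rintro _ ⟨w, hw, rfl⟩
          show g • w ∈ B; rw [hgB w hw]; exact hw
        rw [← h] at hgT
        exact hgT
    have hT := hmax.2 T hHT
    -- a 3-cycle fixing `a` moves `b` out of `B`
    obtain ⟨h0, hh1, -, hh2⟩ := cyc b x y (fun h => hxB (h ▸ hbB)) hxy (fun h => hyB (h ▸ hbB))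
    have hh0M : h0 ∈ M := (hstab h0).mp
      (hh2 a hba.symm (fun h => hxB (h ▸ haB)) (fun h => hyB (h ▸ haB)))
    have hfix : h0 • B = B := (show (⟨h0, hh0M⟩ : M) ∈ T by rw [hT]; trivial)
    exact hxB (hh1 ▸ hfix ▸ Set.smul_mem_smul_set hbB)
  have h1 : k⁻¹ * g * k ∈ L := by
    refine hblock _ (mul_mem (mul_mem (inv_mem hk) hgK) hk) a haB ?_
    rw [mul_smul, mul_smul, ← hx, hgx, hy, inv_smul_smul]
    exact hbB
  refine hzkB ⟨(k⁻¹ * g * k) • b, hLB _ h1 b hbB, ?_⟩
  show k • ((k⁻¹ * g * k) • b) = z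
  rw [mul_smul, mul_smul, ← hy, hgy, smul_inv_smul]

end Cfsg.Agent.S5885
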