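import Cfsg.Statements.S5887
import Cfsg.Agent.Aschbacher.Composite.NotLe
import Cfsg.Agent.Aschbacher.FieldAux

set_option autoImplicit false
open Cfsg

namespace Cfsg.Agent.S5887

open scoped Matrix
open Module Cfsg.Agent.Aschbacher

variable {F : Type*} [Field F] {n : ℕ}

theorem field_proper [Fintype F] {r s : ℕ} {K : Subalgebra F (Matrix (Fin n) (Fin n) F)}
    (hK : Geo.IsFieldSubalgebra r K) (hs : s ∣ r) (hs0 : 0 < s) (hsr : 2 * s ≤ r) (hrn : 2 * r ≤ n) :
    ∃ K' : Subalgebra F (Matrix (Fin n) (Fin n) F), Geo.IsFieldSubalgebra s K' ∧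
      Geo.subalgebraNormalizer K ≤ Geo.subalgebraNormalizer K' ∧
      ∃ t ∈ Geo.subalgebraNormalizer K' ⊓ Geo.specialLinear (Fin n) F, t ∉ Geo.subalgebraNormalizer K := by
  classical
  haveI : NeZero n := ⟨by omega⟩
  letI fK : Field K := IsField.toField
    { exists_pair_ne := ⟨0, 1, fun h => zero_ne_one (congrArg Subtype.val h)⟩
      mul_comm := fun x y => Subtype.ext (hK.comm x x.2 y y.2)
      mul_inv_cancel := fun {x} hx => by
        obtain ⟨y, hy, hxy⟩ := hK.inv x x.2 (fun h => hx (Subtype.ext h))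
        exact ⟨⟨y, hy⟩, Subtype.ext hxy⟩ }
  haveI : Finite K := Finite.of_injective _ Subtype.val_injective
  haveI : Fintype K := Fintype.ofFinite K
  obtain ⟨p, hp⟩ := CharP.exists F
  haveI : Fact p.Prime := ⟨CharP.char_is_prime F p⟩
  haveI : NeZero s := ⟨hs0.ne'⟩
  obtain ⟨ψ⟩ := FiniteField.nonempty_algHom_of_finrank_dvd (F := F) (K := FiniteField.Extension F p s) (L := K)
    (by rw [FiniteField.finrank_extension]; exact hK.finrank_eq ▸ hs)
  set E := FiniteField.Extension F p s
  set K' := (K.val.comp ψ).range with hK'def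
  have hfin : finrank F K' = s := by
    rw [← (AlgEquiv.ofInjectiveField (K.val.comp ψ)).toLinearEquiv.finrank_eq, FiniteField.finrank_extension]
  have hK' : Geo.IsFieldSubalgebra s K' := by
    refine ⟨?_, ?_, hfin⟩
    · rintro _ ⟨x, rfl⟩ _ ⟨y, rfl⟩
      exact hK.comm _ (ψ x).2 _ (ψ y).2
    · rintro _ ⟨x, rfl⟩ h0
      have hx : x ≠ 0 := fun h => h0 (by rw [h, map_zero])
      exact ⟨(K.val.comp ψ) x⁻¹, ⟨x⁻¹, rfl⟩,
        (map_mul (K.val.comp ψ) x x⁻¹).symm.trans (by rw [mul_inv_cancel₀ hx, map_one])⟩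
  have hmem : ∀ x : Matrix (Fin n) (Fin n) F, x ∈ K' ↔ x ∈ K ∧ x ^ Nat.card E = x := by
    intro x
    have hS : ∀ y : K, y ∈ ψ.fieldRange.toSubfield ↔ y ^ Nat.card E = y := by
      intro y
      rw [mem_subfield_iff_pow]
      have : Nat.card ψ.fieldRange.toSubfield = Nat.card E :=
        Nat.card_congr (AlgEquiv.ofInjectiveField ψ).toEquiv.symm
      rw [this]
    constructor
    · rintro ⟨e, rfl⟩
      refine ⟨(ψ e).2, ?_⟩
      simpa using congrArg Subtype.val ((hS (ψ e)).mp ⟨e, rfl⟩)
    · rintro ⟨hx, hpow⟩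
      obtain ⟨e, he⟩ := (hS ⟨x, hx⟩).mpr (Subtype.ext (by simpa using hpow))
      exact ⟨e, congrArg Subtype.val he⟩
  refine ⟨K', hK', fun g hg k => ?_, ?_⟩
  · have hpow : ∀ m : ℕ, ((g : Matrix (Fin n) (Fin n) F) * k * ((g⁻¹ : GL (Fin n) F) : Matrix (Fin n) (Fin n) F)) ^ m =
        (g : Matrix (Fin n) (Fin n) F) * k ^ m * ((g⁻¹ : GL (Fin n) F) : Matrix (Fin n) (Fin n) F) := fun m =>
      Units.conj_pow g k m
    rw [hmem, hmem, hg k, hpow]
    refine and_congr_right fun _ => ⟨fun h => by rw [h], fun h => ?_⟩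
    exact g.isUnit.mul_left_cancel ((g⁻¹).isUnit.mul_right_cancel h)
  set φ := K.val.comp ψ with hφ
  letI : Module E (Fin n → F) :=
    Module.compHom _ ((Matrix.toLinAlgEquiv' (R := F) (n := Fin n)).toAlgHom.comp φ).toRingHom
  have hsmul : ∀ (k : E) (v : Fin n → F), k • v = φ k *ᵥ v := fun k v => rfl
  haveI : IsScalarTower F E (Fin n → F) := ⟨fun c k v => by
    rw [hsmul, hsmul, map_smul, Matrix.smul_mulVec]⟩
  haveI : Module.Finite E (Fin n → F) := Module.Finite.of_restrictScalars_finite F E _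
  have hfinE : finrank F E = s := FiniteField.finrank_extension F p s
  have hdim : s * finrank E (Fin n → F) = n := by
    have := Module.finrank_mul_finrank F E (Fin n → F)
    rwa [hfinE, Module.finrank_fin_fun] at this
  have h2 : 1 < finrank E (Fin n → F) := by
    by_contra h
    push Not at h
    interval_cases h' : finrank E (Fin n → F) <;> omega
  obtain ⟨w, hw⟩ := exists_ne (0 : Fin n → F)
  have hne : Submodule.span E {w} ≠ ⊤ := fun htop => by
    have h1 := congrArg (fun W : Submodule E (Fin n → F) => finrank E W) htop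
    simp only [finrank_span_singleton hw, finrank_top] at h1
    omega
  obtain ⟨u, -, hu⟩ := SetLike.exists_of_lt (lt_top_iff_ne_top.mpr hne)
  obtain ⟨f, hfu, hfw⟩ := Submodule.exists_le_ker_of_notMem hu
  have hfw' : f w = 0 := hfw (Submodule.mem_span_singleton_self w)
  let T : (Fin n → F) →ₗ[F] (Fin n → F) := (LinearMap.toSpanSingleton E _ w ∘ₗ f).restrictScalars F
  set N := LinearMap.toMatrix' T with hNdef
  have hN : ∀ x, N *ᵥ x = f x • w := fun x => LinearMap.toMatrix'_mulVec T x
  have hNN : N * N = 0 := by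
    refine Matrix.ext_of_mulVec_single fun i => ?_
    rw [← Matrix.mulVec_mulVec, Matrix.zero_mulVec, hN, hN, map_smul, hfw', smul_zero, zero_smul]
  let t : GL (Fin n) F := ⟨1 + N, 1 - N, by simp [mul_sub, add_mul, hNN], by simp [sub_mul, mul_add, hNN]⟩
  have htK' : ∀ k ∈ K', (t : Matrix (Fin n) (Fin n) F) * k = k * (t : Matrix (Fin n) (Fin n) F) := by
    intro k hk
    refine Matrix.ext_of_mulVec_single fun i => ?_
    show ((1 + N) * k) *ᵥ _ = (k * (1 + N)) *ᵥ _
    rw [add_mul, mul_add, one_mul, mul_one, Matrix.add_mulVec, Matrix.add_mulVec, ← Matrix.mulVec_mulVec,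
      ← Matrix.mulVec_mulVec, hN, hN]
    congr 1
    obtain ⟨e, rfl⟩ := hk
    have h1 : f (φ e *ᵥ Pi.single i (1 : F)) = (e : E) * f (Pi.single i (1 : F)) :=
      LinearMap.map_smul f (e : E) (Pi.single i (1 : F))
    show f (φ e *ᵥ _) • w = φ e *ᵥ _
    rw [h1, mul_smul, hsmul]
  refine ⟨t, ⟨fun k => ?_, ?_⟩, fun htK => ?_⟩
  · constructor
    · intro hk
      rw [htK' k hk, mul_assoc, ← Units.val_mul, mul_inv_cancel, Units.val_one, mul_one]
      exact hk
    · intro hk
      have h2 := htK' _ hk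
      rw [mul_assoc ((t : Matrix (Fin n) (Fin n) F) * k) ((t⁻¹ : GL (Fin n) F) : Matrix (Fin n) (Fin n) F) t,
        ← Units.val_mul, inv_mul_cancel, Units.val_one, mul_one] at h2
      rwa [t.isUnit.mul_left_cancel h2] at hk
  · -- determinant one, since the characteristic is positive
    show Matrix.GeneralLinearGroup.det t = 1
    refine Units.ext ?_
    show (1 + N).det = 1
    have h1 : ∀ m : ℕ, (1 + N) ^ m = 1 + m • N := fun m => by
      induction m with
      | zero => simp
      | succ m ih => rw [pow_succ, ih, mul_add, mul_one, add_mul, one_mul, smul_mul_assoc, hNN, smul_zero, add_zero,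
          succ_nsmul, add_assoc]
    have h2 : (1 + N) ^ p = 1 := by
      rw [h1, ← Nat.cast_smul_eq_nsmul F, CharP.cast_eq_zero, zero_smul, add_zero]
    have h3 := congrArg Matrix.det h2
    rw [Matrix.det_pow, Matrix.det_one] at h3
    exact frobenius_inj F p (by rw [frobenius_def, frobenius_def, h3, one_pow])
  · -- otherwise the image of `N` would be a `K`-subspace of dimension less than `r`
    have hcomm : ∀ k ∈ K, (t : Matrix (Fin n) (Fin n) F) * k = k * (t : Matrix (Fin n) (Fin n) F) := by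
      intro k hk
      set k' := (t : Matrix (Fin n) (Fin n) F) * k * ((t⁻¹ : GL (Fin n) F) : Matrix (Fin n) (Fin n) F) with hk'
      have hk'K : k' ∈ K := (htK k).mp hk
      have hrel : k' * (t : Matrix (Fin n) (Fin n) F) = (t : Matrix (Fin n) (Fin n) F) * k := by
        rw [hk', mul_assoc, ← Units.val_mul, inv_mul_cancel, Units.val_one, mul_one]
      by_contra hne
      obtain ⟨l, hlK, hl⟩ := hK.inv (k' - k) (sub_mem hk'K hk)
        (fun h => hne (by rw [sub_eq_zero] at h; rw [← hrel, h]))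
      let L := (f.restrictScalars F).prod ((f.restrictScalars F).comp (Matrix.toLin' k))
      obtain ⟨x, hx, hx0⟩ := (Submodule.ne_bot_iff _).mp (LinearMap.ker_ne_bot_of_finrank_lt (f := L)
        (by rw [Module.finrank_prod, Module.finrank_fin_fun, hfinE]; omega))
      have hx1 : f x = 0 := congrArg Prod.fst hx
      have hx2 : f (k *ᵥ x) = 0 := congrArg Prod.snd hx
      have ht : ∀ y, f y = 0 → (t : Matrix (Fin n) (Fin n) F) *ᵥ y = y := fun y hy => by
        show (1 + N) *ᵥ y = y
        rw [Matrix.add_mulVec, Matrix.one_mulVec, hN, hy, zero_smul, add_zero]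
      have hz : (k' - k) *ᵥ x = 0 := by
        rw [Matrix.sub_mulVec, sub_eq_zero]
        calc k' *ᵥ x = k' *ᵥ ((t : Matrix (Fin n) (Fin n) F) *ᵥ x) := by rw [ht x hx1]
          _ = (t : Matrix (Fin n) (Fin n) F) *ᵥ (k *ᵥ x) := by
            rw [Matrix.mulVec_mulVec, hrel, ← Matrix.mulVec_mulVec]
          _ = k *ᵥ x := ht _ hx2
      apply hx0
      rw [← Matrix.one_mulVec x, ← mul_eq_one_comm.mp hl, ← Matrix.mulVec_mulVec, hz, Matrix.mulVec_zero]
    let mu : K →ₗ[F] (Fin n → F) :=
        { toFun := fun k => (k : Matrix (Fin n) (Fin n) F) *ᵥ u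
          map_add' := fun a b => by simp [Matrix.add_mulVec]
          map_smul' := fun c a => by simp [Matrix.smul_mulVec] }
    let ev : K →ₗ[F] E := (f.restrictScalars F).comp mu
    have hev : Function.Injective ev := by
      rw [← LinearMap.ker_eq_bot, Submodule.eq_bot_iff]
      intro k hk
      by_contra h0
      have h1 := congrArg (· *ᵥ u) (hcomm k k.2)
      change ((1 + N) * _) *ᵥ u = (_ * (1 + N)) *ᵥ u at h1
      rw [add_mul, mul_add, one_mul, mul_one, Matrix.add_mulVec, Matrix.add_mulVec, add_right_inj,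
        ← Matrix.mulVec_mulVec, ← Matrix.mulVec_mulVec, hN, hN,
        show f ((k : Matrix (Fin n) (Fin n) F) *ᵥ u) = 0 from hk, zero_smul] at h1
      obtain ⟨l, hl, hkl⟩ := hK.inv k k.2 (fun h => h0 (Subtype.ext h))
      have h2 := congrArg (l *ᵥ ·) h1
      simp only [Matrix.mulVec_zero, Matrix.mulVec_mulVec] at h2
      rw [hK.comm l hl k k.2, hkl, Matrix.one_mulVec] at h2
      exact (smul_eq_zero.mp h2.symm).elim hfu hw
    have := LinearMap.finrank_le_finrank_of_injective hev
    rw [hfinE, hK.finrank_eq] at this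
    omega

end Cfsg.Agent.S5887

namespace Cfsg.Agent.S5887

/-- Let F be a finite field, n a positive integer and r a composite number (r > 1, not prime) that divides n with r < n. Let K be a subalgebra of the algebra of n × n matrices over F which is a field of degree r over F (commutative, every non-zero element invertible, of dimension r over F). Then the normaliser N of K in GL_n(F) (a group of type ΓL_{n/r}(F_{q^r})) is not a maximal subgroup of GL_n(F), and N ∩ SL_n(F) is not a maximal subgroup of SL_n(F): both lie properly inside the normaliser of an intermediate subfield of prime degree over F. -/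
theorem result {F : Type*} [Field F]
    [Fintype F] (n r : ℕ) (hr1 : 1 < r) (hrp : ¬ r.Prime) (hrn : r ∣ n) (hlt : r < n)
    (K : Subalgebra F (Matrix (Fin n) (Fin n) F)) (hK : Cfsg.Geo.IsFieldSubalgebra r K) :
    ¬ IsCoatom (Cfsg.Geo.subalgebraNormalizer K) ∧
      ¬ Cfsg.Geo.IsMaximalIn (Cfsg.Geo.specialLinear (Fin n) F)
        (Cfsg.Geo.subalgebraNormalizer K ⊓ Cfsg.Geo.specialLinear (Fin n) F) := by
  open Cfsg.Agent.Aschbacher in
  have hs := Nat.minFac_prime hr1.ne'
  obtain ⟨c, hc⟩ := Nat.minFac_dvd r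
  have hc2 : 2 ≤ c := by
    rcases c with _ | _ | c
    · omega
    · exact absurd (by rw [hc, zero_add, mul_one]; exact hs : r.Prime) hrp
    · omega
  obtain ⟨d, hd⟩ := hrn
  have hd2 : 2 ≤ d := by
    rcases d with _ | _ | d
    · omega
    · omega
    · omega
  obtain ⟨K', hK', hle, t, ⟨ht, ht1⟩, htK⟩ := field_proper hK (Nat.minFac_dvd r) hs.pos
    (by calc 2 * r.minFac = r.minFac * 2 := mul_comm _ _
      _ ≤ r.minFac * c := Nat.mul_le_mul_left _ hc2
      _ = r := hc.symm)
    (by rw [hd, mul_comm]; exact Nat.mul_le_mul_left r hd2)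
  have h2 := hs.two_le
  have hnot := Cfsg.Agent.Aschbacher.sl_not_le_subalgebraNormalizer (ι := Fin n) (by
    have : 2 * r.minFac ≤ r := by rw [mul_comm]; calc _ ≤ r.minFac * c := Nat.mul_le_mul_left _ hc2
                                                      _ = r := hc.symm
    simp; omega) hK' hs.one_lt
  refine ⟨fun h => ?_, fun h => ?_⟩
  · have hlt : Cfsg.Geo.subalgebraNormalizer K < Cfsg.Geo.subalgebraNormalizer K' :=
      SetLike.lt_iff_le_and_exists.mpr ⟨hle, t, ht, htK⟩
    exact hnot (h.2 _ hlt ▸ le_top)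
  · rcases h.2 _ (inf_le_inf_right _ hle) inf_le_right with h1 | h1
    · exact htK (h1.le ⟨ht, ht1⟩).1
    · exact hnot (h1 ▸ inf_le_left)

end Cfsg.Agent.S5887
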