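import Cfsg.Statements.S5890
import Cfsg.Agent.Lib.Dickson.PGLMeet

set_option autoImplicit false
open Cfsg

namespace Cfsg.Agent.S5890

open Cfsg.Agent.Dickson

/-- Transfer of maximality along the embedding of `PSL₂`. -/
theorem isCoatom_transfer {F : Type*} [Field F] [Fintype F]
    {M : Subgroup (Matrix.ProjGenLinGroup (Fin 2) F)} (h : IsCoatom (M.comap (toP F))) :
    IsCoatom ((M ⊓ (toP F).range).subgroupOf (toP F).range) := by
  have he : (M ⊓ (toP F).range).subgroupOf (toP F).range =
      (MonoidHom.ofInjective (toP_injective (F := F))).mapSubgroup (M.comap (toP F)) := by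
    ext ⟨y, hy⟩
    rw [Subgroup.mem_subgroupOf, MulEquiv.mapSubgroup_apply, Subgroup.mem_map]
    constructor
    · rintro ⟨hyM, -⟩
      obtain ⟨x, hx⟩ := hy
      subst hx
      exact ⟨x, hyM, Subtype.ext rfl⟩
    · rintro ⟨x, hx, hxy⟩
      have : toP F x = y := congrArg Subtype.val hxy
      exact ⟨this ▸ hx, hy⟩
  rw [he]
  exact (OrderIso.isCoatom_iff _ _).mpr h

/-- Let F be a finite field with q ≥ 4 elements, let L ≤ PGL₂(F) be the image of SL₂(F) (a copy of PSL₂(F), of index gcd(2, q − 1)), and let M be a maximal subgroup of PGL₂(F) that does not contain L. Suppose q ∉ {7, 9, 11} and that q is not a prime congruent to ±11 or ±19 modulo 40. Then M ∩ L is a maximal subgroup of L. (For the excluded q there are maximal subgroups of PGL₂(q) — dihedral groups of order 12 and 16 at q = 7, of order 20 and 16 at q = 9, of order 20 at q = 11, and S₄ at the excluded primes — whose intersection with L is not maximal in L.) -/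
theorem result {F : Type*} [Field F]
    [Fintype F] (h4 : 4 ≤ Fintype.card F) (h7 : Fintype.card F ≠ 7) (h9 : Fintype.card F ≠ 9) (h11 : Fintype.card F ≠ 11)
    (h40 : (Fintype.card F).Prime → Fintype.card F % 40 ∉ ({11, 19, 21, 29} : Finset ℕ))
    (M : Subgroup (Matrix.ProjGenLinGroup (Fin 2) F)) (hM : IsCoatom M)
    (hML : ¬ (Matrix.ProjGenLinGroup.mk.comp Matrix.SpecialLinearGroup.toGL).range ≤ M) :
    IsCoatom ((M ⊓ (Matrix.ProjGenLinGroup.mk.comp Matrix.SpecialLinearGroup.toGL).range).subgroupOf
      (Matrix.ProjGenLinGroup.mk.comp Matrix.SpecialLinearGroup.toGL).range) := by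
  rw [← toP_range_eq] at hML ⊢
  apply isCoatom_transfer
  rcases Nat.even_or_odd (Fintype.card F) with hev | hodd
  · haveI : Finite (Matrix.ProjGenLinGroup (Fin 2) F) := finite_pgl
    haveI : Finite (PSL2 F) := Finite.of_injective _ (toP_injective (F := F))
    have hd : Nat.gcd 2 (Fintype.card F - 1) = 1 := by
      rcases d_even_or_odd (F := F) with ⟨h, -⟩ | ⟨-, h⟩
      · exact h
      · have := Nat.even_iff.mp hev; omega
    have hbij : Function.Bijective (toP F) :=
      (Nat.bijective_iff_injective_and_card _).mpr ⟨toP_injective, by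
        have := card_psl_eq (F := F)
        rw [hd, one_mul] at this
        rw [this, card_pgl]⟩
    have e : M.comap (toP F) = (MulEquiv.ofBijective (toP F) hbij).comapSubgroup M := rfl
    rw [e]
    exact (OrderIso.isCoatom_iff _ _).mpr hM
  · exact PGLMax.isCoatom_comap ⟨hodd, h4, hM, hML⟩ h7 h9 h11 h40

end Cfsg.Agent.S5890
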