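import Cfsg.Statements.S5892
import Cfsg.Agent.Lib.Dickson.MaximalTypes
import Cfsg.Agent.S0805

set_option autoImplicit false
open Cfsg

namespace Cfsg.Agent.S5892

attribute [local instance] Cfsg.Agent.PLocalB.lineAction Cfsg.Agent.Dickson.pslLine

set_option maxHeartbeats 2000000 in
/-- Let F be a finite field of odd order q ≥ 5 and characteristic p, and let M be a maximal subgroup of PSL₂(F). Then one of the following holds: |M| = q(q − 1)/2 (the stabiliser of a point of the projective line); q ≥ 13 and M is dihedral of order q − 1; q ∉ {7, 9} and M is dihedral of order q + 1; q = q₀² and M ≅ PGL₂(F₀) with |F₀| = q₀; q = q₀^r for an odd prime r and M ≅ PSL₂(F₀) with |F₀| = q₀; q ≡ ±1 (mod 10) with q = p or q = p², p ≡ ±3 (mod 10), and M ≅ A₅; q = p ≡ ±3 (mod 8), q ≢ ±1 (mod 10), and M ≅ A₄; or q = p ≡ ±1 (mod 8) and M ≅ S₄. -/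
theorem result {F : Type*} [Field F] [Fintype F] (p : ℕ)
    [Fact p.Prime] [CharP F p] (hodd : Odd (Fintype.card F)) (h5 : 5 ≤ Fintype.card F)
    (M : Subgroup (Matrix.ProjectiveSpecialLinearGroup (Fin 2) F)) (hM : IsCoatom M) :
    2 * Nat.card M = Fintype.card F * (Fintype.card F - 1) ∨
    (13 ≤ Fintype.card F ∧ (∃ k : ℕ, 2 * k = Fintype.card F - 1 ∧ Nonempty (M ≃* DihedralGroup k))) ∨
    (Fintype.card F ≠ 7 ∧ Fintype.card F ≠ 9 ∧ (∃ k : ℕ, 2 * k = Fintype.card F + 1 ∧ Nonempty (M ≃* DihedralGroup k))) ∨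
    (∃ (F₀ : Type) (_ : Field F₀) (_ : Fintype F₀), Fintype.card F = Fintype.card F₀ ^ 2 ∧
        Nonempty (M ≃* Matrix.ProjGenLinGroup (Fin 2) F₀)) ∨
    (∃ (F₀ : Type) (_ : Field F₀) (_ : Fintype F₀) (r : ℕ), r.Prime ∧ Odd r ∧ Fintype.card F = Fintype.card F₀ ^ r ∧
        Nonempty (M ≃* Matrix.ProjectiveSpecialLinearGroup (Fin 2) F₀)) ∨
    ((Fintype.card F % 10 = 1 ∨ Fintype.card F % 10 = 9) ∧
        (Fintype.card F = p ∨ (Fintype.card F = p ^ 2 ∧ (p % 10 = 3 ∨ p % 10 = 7))) ∧
        Nonempty (M ≃* alternatingGroup (Fin 5))) ∨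
    (Fintype.card F = p ∧ (p % 8 = 3 ∨ p % 8 = 5) ∧ ¬ (p % 10 = 1 ∨ p % 10 = 9) ∧
        Nonempty (M ≃* alternatingGroup (Fin 4))) ∨
    (Fintype.card F = p ∧ (p % 8 = 1 ∨ p % 8 = 7) ∧ Nonempty (M ≃* Equiv.Perm (Fin 4))) := by
  open Cfsg.Agent.Dickson in
  obtain ⟨⟨n, hn0⟩, hpp, hqn⟩ := FiniteField.card F p
  replace hqn : Fintype.card F = p ^ n := hqn
  have hqodd : Fintype.card F % 2 = 1 := Nat.odd_iff.mp hodd
  have hd : Nat.gcd 2 (Fintype.card F - 1) = 2 := by
    rcases d_even_or_odd (F := F) with ⟨-, h⟩ | ⟨h, -⟩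
    · omega
    · exact h
  have hp2 : p ≠ 2 := fun e => by
    rw [hqn, e, Nat.pow_mod] at hqodd
    simp [zero_pow hn0.ne'] at hqodd
  have hp3 : 3 ≤ p := by have := hpp.two_le; omega
  have hpo : p % 2 = 1 := hpp.eq_two_or_odd.resolve_left hp2
  have h2F : (2 : F) ≠ 0 := fun e => by
    have h2 : p ∣ 2 := (CharP.cast_eq_zero_iff F p 2).mp (by exact_mod_cast e)
    exact hp2 ((Nat.prime_dvd_prime_iff_eq hpp Nat.prime_two).mp h2)
  have hG := card_psl_eq (F := F)
  rw [hd] at hG
  have hbig : ∀ {c : ℕ}, 2 * c < (Fintype.card F + 1) * (Fintype.card F * (Fintype.card F - 1)) →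
      c < Nat.card (PSL2 F) := fun h => by omega
  have prime_field : ∀ {T : Subfield F} {m : ℕ}, Nat.card T ^ m = Fintype.card F → 1 < m →
      ¬ m.Prime → ∀ {D}, M ≤ pullBack D (pglImage T) → False := fun h h1 h2 D hle => by
    obtain ⟨r, hr, h2r, hlt⟩ := Nat.exists_dvd_of_not_prime2 h1 h2
    exact false_of_composite hM hle h hr h2r hlt
  rcases subgroup_cases p M with ⟨w, hw⟩ | ⟨N, k, hN, hle⟩ | hA4 | hS4 | hA5 | ⟨T, hT⟩
  · left
    have e : M = MulAction.stabilizer (PSL2 F) w := by
      rcases hw.eq_or_lt with e | e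
      · exact e
      · exact absurd (hM.2 _ e) (stabilizer_point_ne_top w)
    have := d_mul_card_stabilizer (F := F) w
    rwa [hd, ← e] at this
  · have hcN := card_torusNorm hN
    obtain ⟨hk2, hiso, -, hkn⟩ := id hN
    rw [hd] at hkn
    have hNtop : N ≠ ⊤ := fun e => by
      rw [e, Subgroup.card_top] at hcN
      rw [hcN] at hG
      have : 2 * (Fintype.card F + 1) < (Fintype.card F + 1) * (Fintype.card F * (Fintype.card F - 1)) := by
        rw [mul_comm 2]
        exact Nat.mul_lt_mul_of_pos_left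
          (lt_of_lt_of_le (by norm_num : 2 < 5 * 4) (Nat.mul_le_mul h5 (by omega))) (by omega)
      rcases hkn with h | h <;> omega
    obtain rfl : M = N := by
      rcases hle.eq_or_lt with e | e
      · exact e
      · exact absurd (hM.2 _ e) hNtop
    have small : ∀ (l : ℕ) (K : Subgroup (PSL2 F)), k = l → (l = 2 ∨ l = 3 ∨ l = 4 ∨ l = 5) →
        ¬ p ∣ l → HasDihedral K l → 2 * l < Nat.card K →
        2 * Nat.card K < (Fintype.card F + 1) * (Fintype.card F * (Fintype.card F - 1)) → False :=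
      fun l K e hl hlp hK h1 h2 => not_isCoatom_dihedral h2F hl
        (fun h => hlp ((CharP.cast_eq_zero_iff F p l).mp h)) (e ▸ hiso) hK h1 (hbig h2) hM
    have hp_dvd : p ∣ Fintype.card F := hqn ▸ dvd_pow_self _ hn0.ne'
    have hA4K : Fintype.card F = 5 → ∃ K : Subgroup (PSL2 F),
        HasDihedral K 2 ∧ Nat.card K = 12 := fun _ => by
      obtain ⟨K, hK⟩ := exists_A4_of (F := F) p n hqn (fun h => hp2 h.1)
      exact ⟨K, hasDihedral_A4 hK, by rw [Nat.card_congr hK.some.toEquiv, card_A4]⟩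
    have hS4K : Fintype.card F ^ 2 % 16 = 1 → ∃ K : Subgroup (PSL2 F),
        (HasDihedral K 3 ∧ HasDihedral K 4) ∧ Nat.card K = 24 := fun h => by
      obtain ⟨K, hK⟩ := exists_S4_of h
      exact ⟨K, hasDihedral_S4 hK, by rw [Nat.card_congr hK.some.toEquiv, card_S4]⟩
    have hA5K : 5 ∣ Fintype.card F * (Fintype.card F ^ 2 - 1) → ∃ K : Subgroup (PSL2 F),
        HasDihedral K 5 ∧ Nat.card K = 60 := fun h => by
      obtain ⟨K, hK⟩ := exists_A5_of_dvd h
      exact ⟨K, hasDihedral_A5 hK, by rw [Nat.card_congr hK.some.toEquiv, card_A5]⟩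
    rcases hkn with hk | hk
    · refine Or.inr (Or.inl ⟨?_, k, hk, hiso⟩)
      by_contra h13
      exfalso
      rcases (by omega : Fintype.card F = 5 ∨ Fintype.card F = 7 ∨ Fintype.card F = 9 ∨
        Fintype.card F = 11) with e | e | e | e <;> rw [e] at hp_dvd
      · obtain ⟨K, hK, hc⟩ := hA4K e
        refine small 2 K (by omega) (by norm_num) (fun h => ?_) hK (by omega) (by rw [e, hc]; norm_num)
        have := Nat.le_of_dvd (by norm_num) h
        omega
      · obtain ⟨K, hK, hc⟩ := hS4K (by rw [e]; norm_num)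
        refine small 3 K (by omega) (by norm_num) (fun h => ?_) hK.1 (by omega) (by rw [e, hc]; norm_num)
        have := Nat.le_of_dvd (by norm_num) (Nat.dvd_gcd hp_dvd h)
        norm_num at this
        omega
      · obtain ⟨K, hK, hc⟩ := hS4K (by rw [e]; norm_num)
        refine small 4 K (by omega) (by norm_num) (fun h => ?_) hK.2 (by omega) (by rw [e, hc]; norm_num)
        have := Nat.le_of_dvd (by norm_num) (Nat.dvd_gcd hp_dvd h)
        norm_num at this
        omega
      · obtain ⟨K, hK, hc⟩ := hA5K (by rw [e]; norm_num)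
        refine small 5 K (by omega) (by norm_num) (fun h => ?_) hK (by omega) (by rw [e, hc]; norm_num)
        have := Nat.le_of_dvd (by norm_num) (Nat.dvd_gcd hp_dvd h)
        norm_num at this
        omega
    · refine Or.inr (Or.inr (Or.inl ⟨fun e => ?_, fun e => ?_, k, hk, hiso⟩)) <;> rw [e] at hp_dvd
      · obtain ⟨K, hK, hc⟩ := hS4K (by rw [e]; norm_num)
        refine small 4 K (by omega) (by norm_num) (fun h => ?_) hK.2 (by omega) (by rw [e, hc]; norm_num)
        have := Nat.le_of_dvd (by norm_num) (Nat.dvd_gcd hp_dvd h)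
        norm_num at this
        omega
      · obtain ⟨K, hK, hc⟩ := hA5K (by rw [e]; norm_num)
        refine small 5 K (by omega) (by norm_num) (fun h => ?_) hK (by omega) (by rw [e, hc]; norm_num)
        have := Nat.le_of_dvd (by norm_num) (Nat.dvd_gcd hp_dvd h)
        norm_num at this
        omega
  · have hcM : Nat.card M = 12 := by rw [Nat.card_congr hA4.some.toEquiv, card_A4]
    rcases (show n = 1 ∨ 1 < n by omega) with rfl | hn1
    · rw [pow_one] at hqn
      have bigger : (∃ K : Subgroup (PSL2 F), (Nonempty (K ≃* Equiv.Perm (Fin 4)) ∨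
          Nonempty (K ≃* alternatingGroup (Fin 5)))) → 7 ≤ Fintype.card F → False := by
        rintro ⟨K, hK⟩ h7
        obtain ⟨X, hXK, hX⟩ := exists_A4_in hK
        obtain ⟨K', hle, hc⟩ := A4_le_conj h2F M X K hA4 hX hXK
        have h78 : 8 * (7 * 6) ≤ (Fintype.card F + 1) * (Fintype.card F * (Fintype.card F - 1)) :=
          Nat.mul_le_mul (by omega) (Nat.mul_le_mul h7 (by omega))
        refine false_of_le hM hle ?_ (hc ▸ hbig ?_)
        all_goals
          rcases hK with ⟨⟨e⟩⟩ | ⟨⟨e⟩⟩ <;>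
            simp only [hc, hcM, Nat.card_congr e.toEquiv, card_S4, card_A5] <;> omega
      have h8 : ¬ (p % 8 = 1 ∨ p % 8 = 7) := fun h => by
        refine bigger ?_ (by omega)
        have h16 : Fintype.card F ^ 2 % 16 = 1 := by
          rw [hqn, Nat.pow_mod]
          rcases (by omega : p % 16 = 1 ∨ p % 16 = 7 ∨ p % 16 = 9 ∨ p % 16 = 15) with e | e | e | e <;>
            rw [e]
        obtain ⟨K, hK⟩ := exists_S4_of h16
        exact ⟨K, Or.inl hK⟩
      have h10 : ¬ (p % 10 = 1 ∨ p % 10 = 9) := fun h => by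
        refine bigger ?_ (by omega)
        obtain ⟨K, hK⟩ := exists_A5_of_dvd (F := F) (by
          rw [hqn]
          refine dvd_mul_of_dvd_right (Nat.dvd_of_mod_eq_zero ?_) _
          have h1 : p ^ 2 % 10 = 1 := by rcases h with e | e <;> rw [Nat.pow_mod, e]
          omega)
        exact ⟨K, Or.inr hK⟩
      exact Or.inr (Or.inr (Or.inr (Or.inr (Or.inr (Or.inr (Or.inl ⟨hqn, by omega, h10, hA4⟩))))))
    · obtain ⟨T, hT⟩ := exists_subfield_dvd (F := F) hqn (one_dvd n) le_rfl
      rw [pow_one] at hT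
      obtain ⟨D, hle⟩ := A4_conj_into h2F M hA4 T
      have hTn : Nat.card T ^ n = Fintype.card F := by rw [hT, hqn]
      rcases (show p = 3 ∨ 5 ≤ p by omega) with rfl | hp5
      · rcases Nat.even_or_odd n with hev | hon
        · have := (eq_of_even hM hle hTn hev (by omega)).2
          rw [hT, hcM] at this
          norm_num at this
        · by_cases hnp : n.Prime
          · refine Or.inr (Or.inr (Or.inr (Or.inr (Or.inl
              ⟨ZMod 3, inferInstance, inferInstance, n, hnp, hon, by rw [ZMod.card, hqn], ?_⟩))))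
            obtain ⟨e⟩ := LinearGroup.psl_two_small (F := ZMod 3) (Or.inl (Nat.card_zmod 3))
            rw [Nat.card_zmod] at e
            exact ⟨hA4.some.trans e.symm⟩
          · exact (prime_field hTn hn1 hnp hle).elim
      · exfalso
        refine false_of_le_subfield hM hle (hTn ▸ Nat.pow_le_pow_right (by omega) hn1) ?_
        rw [hcM, hT]
        have h24 : 24 ≤ p ^ 2 - 1 := by have := Nat.pow_le_pow_left hp5 2; omega
        have := Nat.mul_le_mul hp5 h24
        omega
  · have hcM : Nat.card M = 24 := by rw [Nat.card_congr hS4.some.toEquiv, card_S4]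
    have h16 := sq_mod_of_S4 M hS4
    rcases (show n = 1 ∨ 1 < n by omega) with rfl | hn1
    · rw [pow_one] at hqn
      refine Or.inr (Or.inr (Or.inr (Or.inr (Or.inr (Or.inr (Or.inr ⟨hqn, ?_, hS4⟩))))))
      rw [hqn, Nat.pow_mod] at h16
      rcases (show p % 16 = 1 ∨ p % 16 = 3 ∨ p % 16 = 5 ∨ p % 16 = 7 ∨ p % 16 = 9 ∨ p % 16 = 11 ∨
        p % 16 = 13 ∨ p % 16 = 15 by omega) with e | e | e | e | e | e | e | e <;>
        rw [e] at h16 <;> omega
    · obtain ⟨T, hT⟩ := exists_subfield_dvd (F := F) hqn (one_dvd n) le_rfl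
      rw [pow_one] at hT
      obtain ⟨D, hle⟩ := S4_conj_into h2F M hS4 T
      have hTn : Nat.card T ^ n = Fintype.card F := by rw [hT, hqn]
      rcases (show p = 3 ∨ 5 ≤ p by omega) with rfl | hp5
      · have hev : Even n := by
          rcases Nat.even_or_odd n with h | ⟨j, rfl⟩
          · exact h
          · rw [hqn, ← pow_mul, Nat.pow_mod,
              show (2 * j + 1) * 2 = 4 * j + 2 by ring, ← Nat.pow_mod, pow_add, pow_mul,
              Nat.mul_mod, Nat.pow_mod] at h16
            norm_num at h16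
        rcases (show n = 2 ∨ 2 < n by omega) with rfl | h2n
        · obtain ⟨F₀, i1, i2, ⟨e0⟩⟩ := exists_field_type0 T
          refine Or.inr (Or.inr (Or.inr (Or.inl ⟨F₀, i1, i2, ?_, ?_⟩)))
          · rw [← Nat.card_eq_fintype_card (α := F₀), ← Nat.card_congr e0.toEquiv, hT, hqn]
          · obtain ⟨e⟩ := (eq_of_even hM hle hTn hev (by omega)).1
            exact ⟨e.trans (pglCongr e0)⟩
        · exact (false_of_composite hM hle hTn (even_iff_two_dvd.mp hev) le_rfl h2n).elim
      · exfalso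
        refine false_of_le_subfield hM hle (hTn ▸ Nat.pow_le_pow_right (by omega) hn1) ?_
        rw [hcM, hT]
        have h24 : 24 ≤ p ^ 2 - 1 := by have := Nat.pow_le_pow_left hp5 2; omega
        have := Nat.mul_le_mul hp5 h24
        omega
  · have hcM : Nat.card M = 60 := by rw [Nat.card_congr hA5.some.toEquiv, card_A5]
    have h5d := five_dvd_of_A5 M hA5
    have hp5d : p ≠ 5 → 5 ∣ p ^ (2 * n) - 1 := fun h => by
      rw [hqn, ← pow_mul, mul_comm n] at h5d
      refine ((Nat.prime_five.dvd_mul).mp h5d).resolve_left fun h' => h ?_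
      exact ((Nat.prime_dvd_prime_iff_eq Nat.prime_five hpp).mp (Nat.prime_five.dvd_of_dvd_pow h')).symm
    have big : ∀ r : ℕ, r ∣ n → 1 ≤ r → 2 * r ≤ n → 5 ∣ p ^ r * ((p ^ r) ^ 2 - 1) →
        120 < p ^ r * ((p ^ r) ^ 2 - 1) → False := fun r hr h1r h2r h5r hlt => by
      obtain ⟨T, hT⟩ := exists_subfield_dvd (F := F) hqn hr h1r
      obtain ⟨s, hs, hs2⟩ := exists_root (T := T) (hT ▸ h5r)
      obtain ⟨D, hle⟩ := A5_conj_into h2F M hA5 T hs hs2
      refine false_of_le_subfield hM hle ?_ (by rw [hT, hcM]; omega)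
      rw [hT, hqn, ← pow_mul]
      exact Nat.pow_le_pow_right hpp.pos (by omega)
    rcases (show p = 5 ∨ p ≠ 5 from em _) with rfl | hne5
    · obtain ⟨T, hT⟩ := exists_subfield_dvd (F := F) hqn (one_dvd n) le_rfl
      rw [pow_one] at hT
      obtain ⟨s, hs, hs2⟩ := exists_root (T := T) (by rw [hT]; exact dvd_mul_right _ _)
      obtain ⟨D, hle⟩ := A5_conj_into h2F M hA5 T hs hs2
      have hTn : Nat.card T ^ n = Fintype.card F := by rw [hT, hqn]
      rcases (show n = 1 ∨ 1 < n by omega) with rfl | hn1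
      · exfalso
        rw [pow_one] at hqn
        rw [hqn] at hG
        norm_num at hG
        exact hM.1 (Subgroup.eq_top_of_card_eq M (show Nat.card M = Nat.card (PSL2 F) by omega))
      · rcases Nat.even_or_odd n with hev | hon
        · have := (eq_of_even hM hle hTn hev (by omega)).2
          rw [hT, hcM] at this
          norm_num at this
        · by_cases hnp : n.Prime
          · refine Or.inr (Or.inr (Or.inr (Or.inr (Or.inl
              ⟨ZMod 5, inferInstance, inferInstance, n, hnp, hon, by rw [ZMod.card, hqn], ?_⟩))))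
            obtain ⟨e⟩ := LinearGroup.psl_two_five (F := ZMod 5) (Nat.card_zmod 5)
            exact ⟨hA5.some.trans e.symm⟩
          · exact (prime_field hTn hn1 hnp hle).elim
    · have h5p := hp5d hne5
      have hm5 : p % 5 ≠ 0 := fun h => hne5
        ((Nat.prime_dvd_prime_iff_eq Nat.prime_five hpp).mp (Nat.dvd_of_mod_eq_zero h)).symm
      have hm10 : p % 10 = 1 ∨ p % 10 = 9 ∨ p % 10 = 3 ∨ p % 10 = 7 := by omega
      rcases (show (p % 10 = 1 ∨ p % 10 = 9) ∨ (p % 10 = 3 ∨ p % 10 = 7) by omega) with h | h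
      · rcases (show n = 1 ∨ 1 < n by omega) with rfl | hn1
        · rw [pow_one] at hqn
          exact Or.inr (Or.inr (Or.inr (Or.inr (Or.inr (Or.inl ⟨hqn ▸ h, Or.inl hqn, hA5⟩)))))
        · have h11 : 11 ≤ p := by
            by_contra hlt
            have : p = 9 := by omega
            rw [this] at hpp
            norm_num at hpp
          have hsq : p ^ 2 % 10 = 1 := by rcases h with e | e <;> rw [Nat.pow_mod, e]
          have h120 : 120 ≤ p ^ 2 - 1 := by have := Nat.pow_le_pow_left h11 2; omega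
          refine (big 1 (one_dvd n) le_rfl (by omega) ?_ ?_).elim <;> rw [pow_one]
          · exact dvd_mul_of_dvd_right (Nat.dvd_of_mod_eq_zero (by omega)) _
          · have := Nat.mul_le_mul h11 h120
            omega
      · have hev : Even n := by
          rcases Nat.even_or_odd n with h' | ⟨j, rfl⟩
          · exact h'
          · exfalso
            have h1 : p ^ (2 * (2 * j + 1)) % 5 = 4 := by
              rw [show 2 * (2 * j + 1) = 4 * j + 2 by ring, pow_add, pow_mul, Nat.mul_mod, Nat.pow_mod,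
                Nat.pow_mod p 4, Nat.pow_mod p 2]
              rcases (by omega : p % 5 = 2 ∨ p % 5 = 3) with e | e <;> rw [e] <;> norm_num
            omega
        have h4 : p ^ 4 % 5 = 1 := by
          rw [Nat.pow_mod]
          rcases (by omega : p % 5 = 2 ∨ p % 5 = 3) with e | e <;> rw [e]
        rcases (show n = 2 ∨ 4 ≤ n by rcases hev with ⟨j, rfl⟩; omega) with rfl | hn4
        · refine Or.inr (Or.inr (Or.inr (Or.inr (Or.inr (Or.inl ⟨?_, Or.inr ⟨hqn, h⟩, hA5⟩)))))
          right
          rw [hqn, Nat.pow_mod]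
          rcases h with e | e <;> rw [e]
        · have h8 : 80 ≤ (p ^ 2) ^ 2 - 1 := by
            have := Nat.pow_le_pow_left (Nat.pow_le_pow_left hp3 2) 2
            omega
          refine (big 2 (even_iff_two_dvd.mp hev) (by norm_num) hn4 ?_ ?_).elim
          · exact dvd_mul_of_dvd_right (Nat.dvd_of_mod_eq_zero (by
              rw [← pow_mul, show 2 * 2 = 4 from rfl]; omega)) _
          · have := Nat.mul_le_mul (Nat.pow_le_pow_left hp3 2) h8
            omega
  · obtain ⟨m, hm2, hTm, hsq⟩ := big_proper hT hM.1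
    obtain ⟨D, hle⟩ := le_pullBack_of_big hT
    obtain ⟨F₀, i1, i2, ⟨e0⟩⟩ := exists_field_type0 T
    have hcard : ∀ l : ℕ, Nat.card T ^ l = Fintype.card F → Fintype.card F = Fintype.card F₀ ^ l :=
      fun l hl => by rw [← Nat.card_eq_fintype_card (α := F₀), ← Nat.card_congr e0.toEquiv, hl]
    haveI : Fintype T := Fintype.ofFinite T
    rcases Nat.even_or_odd m with hev | hom
    · rcases (show m = 2 ∨ 2 < m by omega) with rfl | h2m
      · obtain ⟨e⟩ := (eq_of_even hM hle hTm hev (by omega)).1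
        exact Or.inr (Or.inr (Or.inr (Or.inl ⟨F₀, i1, i2, hcard 2 hTm, ⟨e.trans (pglCongr e0)⟩⟩)))
      · exact (false_of_composite hM hle hTm (even_iff_two_dvd.mp hev) le_rfl h2m).elim
    · by_cases hmp : m.Prime
      · rcases card_big hT with ⟨-, ⟨e⟩⟩ | ⟨-, hpgl⟩
        · exact Or.inr (Or.inr (Or.inr (Or.inr (Or.inl
            ⟨F₀, i1, i2, m, hmp, hom, hcard m hTm, ⟨e.trans (LinearGroup.pslCongr e0)⟩⟩))))
        · exfalso
          rw [Nat.card_eq_fintype_card] at hTm
          exact Nat.not_even_iff_odd.mpr hom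
            ((Cfsg.Agent.S0805.result rfl hodd m (by omega) hTm).2.mp ⟨M, hpgl⟩)
      · exact (prime_field hTm (by omega) hmp hle).elim

end Cfsg.Agent.S5892
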