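import Cfsg.Statements.S5893
import Cfsg.Agent.Lib.Dickson.MaximalTypes

set_option autoImplicit false
open Cfsg

namespace Cfsg.Agent.S5893

attribute [local instance] Cfsg.Agent.PLocalB.lineAction Cfsg.Agent.Dickson.pslLine

open Cfsg.Agent.Dickson

theorem A4_comm : ∀ a b : alternatingGroup (Fin 4), a ^ 2 = 1 →
    a * (b * a * b⁻¹) = b * a * b⁻¹ * a := by decide +kernel

theorem A4_le_stabilizer {F : Type*} [Field F] [Fintype F] [CharP F 2] (M : Subgroup (PSL2 F))
    (h : Nonempty (M ≃* alternatingGroup (Fin 4))) :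
    ∃ w : OnePoint F, M ≤ MulAction.stabilizer (PSL2 F) w := by
  haveI : Fact (Nat.Prime 2) := ⟨Nat.prime_two⟩
  haveI : CharP (AlgebraicClosure F) 2 :=
    charP_of_injective_algebraMap (algebraMap F (AlgebraicClosure F)).injective 2
  obtain ⟨a, b, haM, hbM, ha, -, -, hgen⟩ := gen_A4 M h
  have ha1 : a ≠ 1 := fun e => by rw [e, orderOf_one] at ha; omega
  have ha2 : a ^ 2 = 1 := orderOf_dvd_iff_pow_eq_one.mp (dvd_of_eq ha)
  obtain ⟨v, hv⟩ := exists_isUni_of_pow_char 2
    (x := extend (algebraMap F (AlgebraicClosure F)) a) (by rw [← map_pow, ha2, map_one])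
  obtain ⟨w, rfl⟩ := exists_rational_of_isUni _ ha1 hv
  have hfix := ((isUni_extend_iff _ a w).mp hv).resolve_left ha1
  have hcomm : a * (b * a * b⁻¹) = b * a * b⁻¹ * a := by
    obtain ⟨e⟩ := h
    have := A4_comm (e ⟨a, haM⟩) (e ⟨b, hbM⟩) (by
      rw [← map_pow, show (⟨a, haM⟩ : M) ^ 2 = 1 from Subtype.ext ha2, map_one])
    rw [← map_inv, ← map_mul, ← map_mul, ← map_mul, ← map_mul] at this
    exact congrArg Subtype.val (e.injective this)
  have hc : (b * a * b⁻¹) • w = w := (hfix _).mp (by rw [← mul_smul, hcomm, mul_smul, (hfix w).mpr rfl])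
  rw [mul_smul, mul_smul, smul_eq_iff_eq_inv_smul, hfix] at hc
  refine ⟨w, hgen _ ((hfix w).mpr rfl) ?_⟩
  show b • w = w
  exact (inv_smul_eq_iff.mp hc).symm

set_option maxHeartbeats 1000000 in
/-- Let F be a finite field of even order q ≥ 4 and let M be a maximal subgroup of PSL₂(F) (= SL₂(F) = PGL₂(F)). Then one of the following holds: |M| = q(q − 1) (the stabiliser of a point of the projective line, elementary abelian of order q extended by a cyclic group of order q − 1); M is dihedral of order 2(q − 1); M is dihedral of order 2(q + 1); or q = q₀^r for a prime r with q₀ ≠ 2 and M ≅ PSL₂(F₀) with |F₀| = q₀. -/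
theorem result {F : Type*} [Field F] [Fintype F]
    (heven : Even (Fintype.card F)) (h4 : 4 ≤ Fintype.card F) (M : Subgroup (Matrix.ProjectiveSpecialLinearGroup (Fin 2) F)) (hM : IsCoatom M) :
    Nat.card M = Fintype.card F * (Fintype.card F - 1) ∨
    Nonempty (M ≃* DihedralGroup (Fintype.card F - 1)) ∨
    Nonempty (M ≃* DihedralGroup (Fintype.card F + 1)) ∨
    (∃ (F₀ : Type) (_ : Field F₀) (_ : Fintype F₀) (r : ℕ), r.Prime ∧ Fintype.card F₀ ≠ 2 ∧
        Fintype.card F = Fintype.card F₀ ^ r ∧ Nonempty (M ≃* Matrix.ProjectiveSpecialLinearGroup (Fin 2) F₀)) := by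
  haveI : Fact (Nat.Prime 2) := ⟨Nat.prime_two⟩
  obtain ⟨p, hp⟩ := CharP.exists F
  obtain ⟨⟨n, hn0⟩, hpp, hqn⟩ := FiniteField.card F p
  replace hqn : Fintype.card F = p ^ n := hqn
  obtain rfl : p = 2 := by
    have h2 : 2 ∣ p ^ n := hqn ▸ even_iff_two_dvd.mp heven
    exact ((Nat.prime_dvd_prime_iff_eq Nat.prime_two hpp).mp (Nat.prime_two.dvd_of_dvd_pow h2)).symm
  have hd : Nat.gcd 2 (Fintype.card F - 1) = 1 := by
    rcases d_even_or_odd (F := F) with ⟨h, -⟩ | ⟨-, h⟩
    · exact h
    · have := Nat.even_iff.mp heven; omega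
  have hG := card_psl_eq (F := F)
  rw [hd, one_mul] at hG
  have pgl_psl : ∀ (T : Subfield F), Nat.gcd 2 (Nat.card T - 1) = 1 →
      Nonempty (Matrix.ProjGenLinGroup (Fin 2) T ≃* PSL2 T) := fun T hT => by
    haveI : Finite (Matrix.ProjGenLinGroup (Fin 2) T) :=
      Finite.of_surjective _ Matrix.ProjGenLinGroup.mk_surjective
    haveI : Fintype T := Fintype.ofFinite T
    refine ⟨(MulEquiv.ofBijective (toP T)
      ((Nat.bijective_iff_injective_and_card _).mpr ⟨toP_injective, ?_⟩)).symm⟩
    have := LinearGroup.gcd_mul_card_PSL_two (F := T)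
    rw [hT, one_mul] at this
    rw [this, Cfsg.Agent.S0265.result, LinearGroup.card_SL_two]
  have stab_case : ∀ w : OnePoint F, M ≤ MulAction.stabilizer (PSL2 F) w →
      Nat.card M = Fintype.card F * (Fintype.card F - 1) := fun w hw => by
    have e : M = MulAction.stabilizer (PSL2 F) w := by
      rcases hw.eq_or_lt with e | e
      · exact e
      · exact absurd (hM.2 _ e) (stabilizer_point_ne_top w)
    have := d_mul_card_stabilizer (F := F) w
    rwa [hd, one_mul, ← e] at this
  rcases subgroup_cases 2 M with ⟨w, hw⟩ | ⟨N, k, hN, hle⟩ | hA4 | hS4 | hA5 | ⟨T, hT⟩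
  · exact Or.inl (stab_case w hw)
  · have hcN := card_torusNorm hN
    obtain ⟨hk2, hiso, -, hkn⟩ := id hN
    rw [hd, one_mul] at hkn
    have hNtop : N ≠ ⊤ := fun e => by
      rw [e, Subgroup.card_top, hG] at hcN
      have : 2 * (Fintype.card F + 1) < (Fintype.card F + 1) * (Fintype.card F * (Fintype.card F - 1)) := by
        rw [mul_comm 2]
        exact Nat.mul_lt_mul_of_pos_left
          (lt_of_lt_of_le (by norm_num : 2 < 4 * 3) (Nat.mul_le_mul h4 (by omega))) (by omega)
      omega
    obtain rfl : M = N := by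
      rcases hle.eq_or_lt with e | e
      · exact e
      · exact absurd (hM.2 _ e) hNtop
    rcases hkn with rfl | rfl
    · exact Or.inr (Or.inl hiso)
    · exact Or.inr (Or.inr (Or.inl hiso))
  · obtain ⟨w, hw⟩ := A4_le_stabilizer M hA4
    exact Or.inl (stab_case w hw)
  · exfalso
    have h16 := sq_mod_of_S4 M hS4
    have h2 : Fintype.card F ^ 2 % 2 = 0 := by rw [Nat.pow_mod, Nat.even_iff.mp heven]
    omega
  · have hcM : Nat.card M = 60 := by rw [Nat.card_congr hA5.some.toEquiv, card_A5]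
    have hev : Even n := by
      rcases Nat.even_or_odd n with h | ⟨j, rfl⟩
      · exact h
      · exfalso
        have h5d := five_dvd_of_A5 M hA5
        rw [hqn, ← pow_mul] at h5d
        rcases Nat.prime_five.dvd_mul.mp h5d with h | h
        · exact absurd (Nat.prime_five.dvd_of_dvd_pow h) (by norm_num)
        · have h1 : 2 ^ ((2 * j + 1) * 2) % 5 = 4 := by
            rw [show (2 * j + 1) * 2 = 4 * j + 2 by ring, pow_add, pow_mul, Nat.mul_mod, Nat.pow_mod]
            norm_num
          have h2' := Nat.one_le_two_pow (n := (2 * j + 1) * 2)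
          omega
    obtain ⟨m, rfl⟩ := even_iff_two_dvd.mp hev
    obtain ⟨T, hT⟩ := exists_subfield_dvd (F := F) hqn (dvd_mul_right 2 m) (by norm_num)
    norm_num at hT
    obtain ⟨s, hs, hs2⟩ := exists_root (T := T) (by rw [hT]; norm_num)
    obtain ⟨D, hle⟩ := A5_conj_into_two M hA5 T hs hs2
    have hTm : Nat.card T ^ m = Fintype.card F := by rw [hT, hqn, pow_mul]; norm_num
    rcases (show m = 1 ∨ 1 < m by omega) with rfl | hm1
    · exfalso
      rw [show Fintype.card F = 4 by rw [hqn]; norm_num] at hG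
      exact hM.1 (Subgroup.eq_top_of_card_eq M (show Nat.card M = Nat.card (PSL2 F) by omega))
    · by_cases hmp : m.Prime
      · obtain ⟨F₀, i1, i2, ⟨e0⟩⟩ := exists_field_type0 T
        have h0 : Nat.card F₀ = 4 := by rw [← Nat.card_congr e0.toEquiv, hT]
        refine Or.inr (Or.inr (Or.inr ⟨F₀, i1, i2, m, hmp, ?_, ?_, ?_⟩))
        · rw [← Nat.card_eq_fintype_card, h0]; norm_num
        · rw [← Nat.card_eq_fintype_card (α := F₀), h0, ← hTm, hT]
        · obtain ⟨e⟩ := LinearGroup.psl_two_small (F := F₀) (Or.inr h0)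
          rw [h0] at e
          exact ⟨hA5.some.trans e.symm⟩
      · obtain ⟨r, hr, h2r, hlt⟩ := Nat.exists_dvd_of_not_prime2 hm1 hmp
        exact (false_of_composite hM hle hTm hr h2r hlt).elim
  · obtain ⟨m, hm2, hTm, hsq⟩ := big_proper hT hM.1
    obtain ⟨D, hle⟩ := le_pullBack_of_big hT
    by_cases hmp : m.Prime
    · obtain ⟨F₀, i1, i2, ⟨e0⟩⟩ := exists_field_type0 T
      have h0 : Fintype.card F₀ = Nat.card T := by
        rw [← Nat.card_eq_fintype_card, Nat.card_congr e0.toEquiv]
      refine Or.inr (Or.inr (Or.inr ⟨F₀, i1, i2, m, hmp, ?_, by rw [h0, hTm], ?_⟩))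
      · have := hT.1; omega
      · rcases hT.2.2.1 with e | e <;> obtain ⟨e⟩ := e
        · exact ⟨e.trans (LinearGroup.pslCongr e0)⟩
        · have hg : Nat.gcd 2 (Nat.card T - 1) = 1 := by
            haveI : Fintype T := Fintype.ofFinite T
            rw [Nat.card_eq_fintype_card] at hTm ⊢
            rcases d_even_or_odd (F := T) with ⟨h, -⟩ | ⟨-, h⟩
            · exact h
            · exfalso
              have : Fintype.card F % 2 = 1 := by rw [← hTm, Nat.pow_mod, h]; simp
              have := Nat.even_iff.mp heven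
              omega
          exact ⟨e.trans ((pgl_psl T hg).some.trans (LinearGroup.pslCongr e0))⟩
    · obtain ⟨r, hr, h2r, hlt⟩ := Nat.exists_dvd_of_not_prime2 hm2 hmp
      exact (false_of_composite hM hle hTm hr h2r hlt).elim

end Cfsg.Agent.S5893
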