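import Cfsg.Statements.S5894
import Cfsg.Agent.Blocks88.SetStabilizer
-- import your own Cfsg.Agent.* helpers here

set_option autoImplicit false
open Cfsg

namespace Cfsg.Agent.S5894

open scoped Pointwise

/-- For every m ≥ 2 the symmetric group on 2m letters has a maximal subgroup M of index 2m together with a maximal subgroup H of M that is not second maximal: some maximal subgroup K of the symmetric group contains H without H being maximal in K. (One may take M the stabiliser of a letter, H ≅ S_m × S_{m−1} inside it, and K ≅ S_m ≀ S₂ the stabiliser of a partition into two m-sets, with H < S_m × S_m < K.) So the prime-index hypothesis in the second-maximality criterion cannot be relaxed to any even index ≥ 4. -/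
theorem result (m : ℕ) (hm : 2 ≤ m) :
    ∃ M H K : Subgroup (Equiv.Perm (Fin (2 * m))), IsCoatom M ∧ M.index = 2 * m ∧ H ≤ M ∧ IsCoatom (H.subgroupOf M) ∧
      IsCoatom K ∧ H ≤ K ∧ ¬ IsCoatom (H.subgroupOf K) := by
  classical
  let a : Fin (2 * m) := ⟨2 * m - 1, by omega⟩
  let O : Set (Fin (2 * m)) := {x | x.val < m}
  have haO : a ∉ O := by simp only [O, a, Set.mem_setOf_eq]; omega
  have hOc : Nat.card O = m := by
    rw [Nat.card_congr (⟨fun x => ⟨x.1.val, x.2⟩, fun y => ⟨⟨y.val, by omega⟩, y.2⟩,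
      fun _ => rfl, fun _ => rfl⟩ : O ≃ Fin m), Nat.card_fin]
  have hOcc : Nat.card O = Nat.card ↥Oᶜ := by
    have := Set.ncard_add_ncard_compl O
    simp only [← Nat.card_coe_set_eq, Nat.card_fin, hOc] at this
    omega
  obtain ⟨hMc, hMi, hHM, hlt⟩ := Blocks88.stabilizer_facts a O haO (by rw [Nat.card_fin, hOc]; omega)
    (by rw [Nat.card_fin, hOc]; omega)
    (by rw [hOc]; omega)
  have hlt := hlt ⟨⟨m, by omega⟩, by simp [O], by simp [a, Fin.ext_iff]; omega⟩
  set S := MulAction.stabilizer (Equiv.Perm (Fin (2 * m))) O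
  have hS := Blocks88.not_isCoatom_stabilizer (by rw [Fintype.card_fin]; omega) O hOcc
  have hStop : S ≠ ⊤ := fun h => by
    have hb : (⟨0, by omega⟩ : Fin (2 * m)) ∈ O := show 0 < m by omega
    have h1 : Equiv.swap a ⟨0, by omega⟩ ∈ S := h ▸ Subgroup.mem_top _
    rw [MulAction.mem_stabilizer_iff] at h1
    have h2 := h1.le (Set.smul_mem_smul_set (a := Equiv.swap a (⟨0, by omega⟩ : Fin (2 * m))) hb)
    rw [Equiv.Perm.smul_def, Equiv.swap_apply_right] at h2
    exact haO h2
  obtain ⟨K, hK, hSK⟩ := (eq_top_or_exists_le_coatom S).resolve_left hStop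
  refine ⟨_, _, K, hMc, by rw [hMi, Nat.card_fin], inf_le_left, hHM, hK, hlt.le.trans hSK,
    fun hc => ?_⟩
  refine Subgroup.subgroupOf_eq_top.not.mpr ?_ (hc.2 (S.subgroupOf K) ?_)
  · exact fun h => hS (by rwa [le_antisymm h hSK] at hK)
  · exact SetLike.lt_iff_le_and_exists.mpr ⟨fun x hx => hlt.le hx, by
      obtain ⟨s, hs, hs'⟩ := SetLike.exists_of_lt hlt
      exact ⟨⟨s, hSK hs⟩, hs, hs'⟩⟩

end Cfsg.Agent.S5894
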