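import Cfsg.Statements.S5895
import Mathlib
-- import your own Cfsg.Agent.* helpers here

set_option autoImplicit false
open Cfsg

namespace Cfsg.Agent.S5895

open scoped Pointwise

variable {p d : ℕ} [Fact p.Prime]

/-- A functional separating `v` and `w` modulo `S`. -/
theorem exists_functional (S : Submodule (ZMod p) (Fin d → ZMod p)) {v w : Fin d → ZMod p}
    (hv : v ∉ S) (hw : w ∉ S) :
    ∃ φ : Module.Dual (ZMod p) (Fin d → ZMod p), (∀ x ∈ S, φ x = 0) ∧ φ v = 1 ∧ φ w ≠ 0 := by
  have aux : ∀ u ∉ S, ∃ φ : Module.Dual (ZMod p) (Fin d → ZMod p), (∀ x ∈ S, φ x = 0) ∧ φ u = 1 := by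
    intro u hu
    obtain ⟨φ, hφu, hφS⟩ := Submodule.exists_dual_map_eq_bot_of_notMem hu inferInstance
    refine ⟨(φ u)⁻¹ • φ, fun x hx => ?_, by rw [LinearMap.smul_apply, smul_eq_mul, inv_mul_cancel₀ hφu]⟩
    have : φ x ∈ Submodule.map φ S := Submodule.mem_map_of_mem hx
    rw [hφS, Submodule.mem_bot] at this
    rw [LinearMap.smul_apply, this, smul_zero]
  obtain ⟨φ, hφS, hφv⟩ := aux v hv
  by_cases h : φ w = 0
  · obtain ⟨ψ, hψS, hψw⟩ := aux w hw
    refine ⟨φ + ψ - ψ v • φ, fun x hx => by simp [hφS x hx, hψS x hx], by simp [hφv], ?_⟩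
    simp [h, hψw]
  · exact ⟨φ, hφS, hφv, h⟩

/-- A linear automorphism fixing `S` pointwise and moving `v` to `w`. -/
theorem exists_equiv (S : Submodule (ZMod p) (Fin d → ZMod p)) {v w : Fin d → ZMod p}
    (hv : v ∉ S) (hw : w ∉ S) :
    ∃ e : (Fin d → ZMod p) ≃ₗ[ZMod p] (Fin d → ZMod p), (∀ x ∈ S, e x = x) ∧ e v = w := by
  obtain ⟨φ, hφS, hφv, hφw⟩ := exists_functional S hv hw
  let T : (Fin d → ZMod p) →ₗ[ZMod p] (Fin d → ZMod p) := LinearMap.id + φ.smulRight (w - v)
  have hT : Function.Injective T := by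
    rw [injective_iff_map_eq_zero]
    intro x hx
    have h1 : x + φ x • (w - v) = 0 := hx
    have h2 := congrArg φ h1
    rw [map_add, map_smul, map_sub, map_zero, hφv, smul_eq_mul] at h2
    have h3 : φ x = 0 := (mul_eq_zero.mp (show φ x * φ w = 0 by linear_combination h2)).resolve_right hφw
    rwa [h3, zero_smul, add_zero] at h1
  refine ⟨LinearEquiv.ofBijective T ⟨hT, Finite.surjective_of_injective hT⟩, fun x hx => ?_, ?_⟩
  · show x + φ x • (w - v) = x
    rw [hφS x hx, zero_smul, add_zero]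
  · show v + φ v • (w - v) = w
    rw [hφv, one_smul, add_sub_cancel]

/-- For every prime p and every d ≥ 2 there is a finite group G with a maximal subgroup M of index p^d and a maximal subgroup H of M that is not second maximal in G: some maximal subgroup K of G contains H without H being maximal in K. (One may take G the affine group V ⋊ GLS(V) of V = 𝔽_p^d, M = GLS(V), H the stabiliser in M of a line W of V, and K = V ⋊ H, with H < W ⋊ H < K.) So the prime-index hypothesis in the second-maximality criterion cannot be relaxed to prime-power index. -/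
theorem result (p d : ℕ) (hp : p.Prime)
    (hd : 2 ≤ d) :
    ∃ (G : Type) (_ : Group G) (_ : Finite G) (M H K : Subgroup G), IsCoatom M ∧ M.index = p ^ d ∧ H ≤ M ∧
      IsCoatom (H.subgroupOf M) ∧ IsCoatom K ∧ H ≤ K ∧ ¬ IsCoatom (H.subgroupOf K) := by
  classical
  haveI : Fact p.Prime := ⟨hp⟩
  let Aff := (Fin d → ZMod p) ≃ᵃ[ZMod p] (Fin d → ZMod p)
  haveI : Finite Aff :=
    Finite.of_injective (fun g : Aff => (g : (Fin d → ZMod p) → (Fin d → ZMod p))) DFunLike.coe_injective
  have happ : ∀ (g : Aff) x, g x = g.linear x + g 0 := fun g x => by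
    have := g.map_vadd 0 x
    simpa using this
  let ofLin : ((Fin d → ZMod p) ≃ₗ[ZMod p] (Fin d → ZMod p)) → Aff := fun e => e.toAffineEquiv
  let tr : (Fin d → ZMod p) → Aff := fun v => AffineEquiv.constVAdd (ZMod p) _ v
  let e0 : Fin d → ZMod p := Pi.single ⟨0, by omega⟩ 1
  let e1 : Fin d → ZMod p := Pi.single ⟨1, by omega⟩ 1
  set S : Submodule (ZMod p) (Fin d → ZMod p) := Submodule.span (ZMod p) {e0} with hS
  have he0 : e0 ≠ 0 := by simp [e0]
  have he0S : e0 ∈ S := Submodule.mem_span_singleton_self _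
  have he1S : e1 ∉ S := by
    rw [hS, Submodule.mem_span_singleton]
    rintro ⟨c, hc⟩
    have := congrFun hc ⟨1, by omega⟩
    simp [e0, e1] at this
  have hlinS : ∀ {g : Aff}, g.linear e0 ∈ S → ∀ x ∈ S, g.linear x ∈ S := by
    intro g hg x hx
    obtain ⟨c, rfl⟩ := Submodule.mem_span_singleton.mp hx
    rw [map_smul]
    exact Submodule.smul_mem _ c hg
  have hinvS : ∀ {g : Aff}, g.linear e0 ∈ S → g.linear.symm e0 ∈ S := by
    intro g hg
    obtain ⟨c, hc⟩ := Submodule.mem_span_singleton.mp hg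
    have hc0 : c ≠ 0 := by
      rintro rfl
      rw [zero_smul] at hc
      exact he0 (g.linear.injective (by rw [← hc, map_zero]))
    rw [show g.linear.symm e0 = c⁻¹ • e0 from g.linear.injective (by
      rw [LinearEquiv.apply_symm_apply, map_smul, ← hc, smul_smul, inv_mul_cancel₀ hc0, one_smul])]
    exact Submodule.smul_mem _ _ he0S
  have hlmul : ∀ (g h : Aff) x, (g * h).linear x = g.linear (h.linear x) := fun g h x => rfl
  have hlinv : ∀ (g : Aff) x, (g⁻¹).linear x = g.linear.symm x := fun g x => rfl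
  have hone : ∀ x, (1 : Aff).linear x = x := fun x => rfl
  have hinv0 : ∀ (g : Aff) x, g (g⁻¹ x) = x := fun g x => g.apply_symm_apply x
  have htr0 : ∀ v, tr v 0 = v := fun v => add_zero v
  let M : Subgroup Aff :=
    { carrier := {g | g 0 = 0}
      one_mem' := rfl
      mul_mem' := fun {g h} (hg : g 0 = 0) (hh : h 0 = 0) => show g (h 0) = 0 by rw [hh, hg]
      inv_mem' := fun {g} (hg : g 0 = 0) => show g⁻¹ 0 = 0 from
        g.injective (by rw [hinv0, hg]) }
  let Kp : Subgroup Aff :=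
    { carrier := {g | g.linear e0 ∈ S}
      one_mem' := he0S
      mul_mem' := fun {g h} hg hh => hlinS hg _ hh
      inv_mem' := fun {g} hg => hinvS hg }
  let GLS : Subgroup Aff :=
    { carrier := {g | g.linear e0 ∈ S ∧ g 0 ∈ S}
      one_mem' := ⟨he0S, zero_mem _⟩
      mul_mem' := fun {g h} hg hh => ⟨hlinS hg.1 _ hh.1, show g (h 0) ∈ S by
        rw [happ]; exact add_mem (hlinS hg.1 _ hh.2) hg.2⟩
      inv_mem' := fun {g} hg => ⟨hinvS hg.1, by
        have h1 := hinv0 g 0
        rw [happ] at h1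
        show g⁻¹ 0 ∈ S
        have h2 : g⁻¹ 0 = g.linear.symm (-(g 0)) := g.linear.injective (by
          rw [LinearEquiv.apply_symm_apply, eq_neg_iff_add_eq_zero, h1])
        rw [h2]
        obtain ⟨c, hc⟩ := Submodule.mem_span_singleton.mp (neg_mem hg.2)
        rw [← hc, map_smul]
        exact Submodule.smul_mem _ _ (hinvS hg.1)⟩ }
  let H : Subgroup Aff := M ⊓ Kp
  have hMcoatom : IsCoatom M := by
    refine ⟨fun h => ?_, fun L hL => ?_⟩
    · have h1 : tr e0 ∈ M := h ▸ Subgroup.mem_top _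
      have h2 : tr e0 0 = 0 := h1
      exact he0 ((htr0 e0).symm.trans h2)
    · obtain ⟨g, hgL, hg⟩ := SetLike.exists_of_lt hL
      have hg0 : g 0 ∉ (⊥ : Submodule (ZMod p) (Fin d → ZMod p)) := by
        rw [Submodule.mem_bot]; exact hg
      refine eq_top_iff.mpr fun a _ => ?_
      by_cases ha : a 0 = 0
      · exact hL.le ha
      obtain ⟨e, -, he⟩ := exists_equiv ⊥ hg0 (show a 0 ∉ (⊥ : Submodule (ZMod p) _) by
        rw [Submodule.mem_bot]; exact ha)
      have hem : ofLin e ∈ M := map_zero e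
      have h1 : (ofLin e * g)⁻¹ * a ∈ M := by
        show (ofLin e * g)⁻¹ (a 0) = 0
        rw [← he]
        exact (ofLin e * g).symm_apply_apply 0
      have := mul_mem (mul_mem (hL.le hem) hgL) (hL.le h1)
      rwa [mul_inv_cancel_left] at this
  have hMindex : M.index = p ^ d := by
    let φ : Aff ⧸ M → (Fin d → ZMod p) := Quotient.lift (fun g : Aff => g 0) (fun a b hab => by
      have h : (a⁻¹ * b) 0 = 0 := QuotientGroup.leftRel_apply.mp hab
      show a 0 = b 0
      rw [show a 0 = a ((a⁻¹ * b) 0) by rw [h]]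
      exact hinv0 a (b 0))
    rw [Subgroup.index_eq_card, Nat.card_eq_of_bijective φ ⟨?_, fun v => ⟨QuotientGroup.mk (tr v), ?_⟩⟩]
    · simp [Nat.card_fun]
    swap
    · exact htr0 v
    · intro q r
      induction q using QuotientGroup.induction_on with
      | H a =>
        induction r using QuotientGroup.induction_on with
        | H b =>
          intro h
          refine QuotientGroup.eq.mpr (show a⁻¹ (b 0) = 0 from ?_)
          rw [show b 0 = a 0 from h.symm]
          exact a.symm_apply_apply 0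
  have hHM : IsCoatom (H.subgroupOf M) := by
    refine ⟨fun h => ?_, fun L hL => ?_⟩
    · obtain ⟨e, -, he⟩ := exists_equiv ⊥ (show e0 ∉ (⊥ : Submodule (ZMod p) _) by
        rw [Submodule.mem_bot]; exact he0) (show e1 ∉ (⊥ : Submodule (ZMod p) _) by
        rw [Submodule.mem_bot]; intro h; exact he1S (h ▸ zero_mem _))
      have h1 : (⟨ofLin e, map_zero e⟩ : M) ∈ H.subgroupOf M := h ▸ Subgroup.mem_top _
      have h2 : e e0 ∈ S := h1.2
      rw [he] at h2
      exact he1S h2
    · obtain ⟨g, hgL, hg⟩ := SetLike.exists_of_lt hL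
      have hg' : (g : Aff).linear e0 ∉ S := fun h => hg ⟨g.2, h⟩
      refine eq_top_iff.mpr fun a _ => ?_
      by_cases ha : (a : Aff).linear e0 ∈ S
      · exact hL.le ⟨a.2, ha⟩
      obtain ⟨e, heS, he⟩ := exists_equiv S hg' ha
      have hem : (⟨ofLin e, map_zero e⟩ : M) ∈ H.subgroupOf M :=
        ⟨map_zero e, show e e0 ∈ S by rw [heS e0 he0S]; exact he0S⟩
      have h1 : ((⟨ofLin e, map_zero e⟩ : M) * g)⁻¹ * a ∈ H.subgroupOf M := by
        refine ⟨(((⟨ofLin e, map_zero e⟩ : M) * g)⁻¹ * a).2, ?_⟩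
        show ((ofLin e * (g : Aff))⁻¹ * (a : Aff)).linear e0 ∈ S
        rw [hlmul, hlinv, ← he, show e ((g : Aff).linear e0) = (ofLin e * (g : Aff)).linear e0 from rfl,
          LinearEquiv.symm_apply_apply]
        exact he0S
      have := mul_mem (mul_mem (hL.le hem) hgL) (hL.le h1)
      rwa [mul_inv_cancel_left] at this
  have hKtop : Kp ≠ ⊤ := fun h => by
    obtain ⟨e, -, he⟩ := exists_equiv ⊥ (show e0 ∉ (⊥ : Submodule (ZMod p) _) by
      rw [Submodule.mem_bot]; exact he0) (show e1 ∉ (⊥ : Submodule (ZMod p) _) by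
      rw [Submodule.mem_bot]; intro h; exact he1S (h ▸ zero_mem _))
    have h2 : e e0 ∈ S := (h ▸ Subgroup.mem_top (ofLin e) : ofLin e ∈ Kp)
    rw [he] at h2
    exact he1S h2
  obtain ⟨K, hK, hKK⟩ := (eq_top_or_exists_le_coatom Kp).resolve_left hKtop
  refine ⟨Aff, inferInstance, inferInstance, M, H, K, hMcoatom, hMindex, inf_le_left, hHM, hK,
    inf_le_right.trans hKK, fun hc => ?_⟩
  have hHG : H ≤ GLS := fun g hg => ⟨hg.2, by rw [show g 0 = 0 from hg.1]; exact zero_mem _⟩
  have hGK : GLS ≤ K := fun g hg => hKK hg.1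
  have htr : ∀ v, (tr v).linear e0 = e0 := fun v => rfl
  have h1 : H.subgroupOf K < GLS.subgroupOf K := by
    refine lt_of_le_not_ge (fun x hx => hHG hx) fun h => ?_
    have h4 : (⟨tr e0, hKK (show (tr e0).linear e0 ∈ S from he0S)⟩ : K) ∈ GLS.subgroupOf K :=
      ⟨he0S, show tr e0 0 ∈ S by rw [htr0]; exact he0S⟩
    exact he0 ((htr0 e0).symm.trans (h h4).1)
  have h2 := hc.2 _ h1
  have h3 : (⟨tr e1, hKK (show (tr e1).linear e0 ∈ S from he0S)⟩ : K) ∈ GLS.subgroupOf K := h2 ▸ Subgroup.mem_top _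
  exact he1S (htr0 e1 ▸ h3.2)

end Cfsg.Agent.S5895
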