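import Cfsg.Statements.S5896
import Mathlib
-- import your own Cfsg.Agent.* helpers here

set_option autoImplicit false
open Cfsg

namespace Cfsg.Agent.S5896

open Matrix
open scoped MatrixGroups commutatorElement

variable {k : ℕ}

/-- The ambient ring. -/
abbrev Rk (k : ℕ) := ZMod (5 ^ k)

/-- Units are the residues prime to five. -/
theorem isUnit_of_cast [NeZero k] {x : Rk k}
    (h : ZMod.castHom (dvd_pow_self 5 (NeZero.ne k)) (ZMod 5) x ≠ 0) : IsUnit x := by
  rw [← ZMod.natCast_zmod_val x] at h ⊢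
  rw [map_natCast, Ne, ZMod.natCast_eq_zero_iff] at h
  rw [ZMod.isUnit_iff_coprime]
  exact Nat.Coprime.pow_right k ((Nat.Prime.coprime_iff_not_dvd (by norm_num)).mpr h).symm

/-- Upper unitriangular. -/
def upU (t : Rk k) : SL(2, Rk k) := ⟨!![1, t; 0, 1], by simp [Matrix.det_fin_two_of]⟩

/-- Lower unitriangular. -/
def loU (t : Rk k) : SL(2, Rk k) := ⟨!![1, 0; t, 1], by simp [Matrix.det_fin_two_of]⟩

/-- Diagonal. -/
def dgU (u : (Rk k)ˣ) : SL(2, Rk k) :=
  ⟨!![(u : Rk k), 0; 0, ((u⁻¹ : (Rk k)ˣ) : Rk k)], by simp [Matrix.det_fin_two_of]⟩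

/-- `g ≡ 1 + 5 ^ m X` modulo `5 ^ (m + 1)`. -/
def Lev (m : ℕ) (X : Matrix (Fin 2) (Fin 2) (Rk k)) (g : SL(2, Rk k)) : Prop :=
  ∃ Y, (g : Matrix (Fin 2) (Fin 2) (Rk k)) = 1 + (5 ^ m : Rk k) • (X + (5 : Rk k) • Y)

@[simp] theorem upU_coe (t : Rk k) : (upU t : Matrix (Fin 2) (Fin 2) (Rk k)) = !![1, t; 0, 1] := rfl

@[simp] theorem loU_coe (t : Rk k) : (loU t : Matrix (Fin 2) (Fin 2) (Rk k)) = !![1, 0; t, 1] := rfl

@[simp] theorem dgU_coe (u : (Rk k)ˣ) : (dgU u : Matrix (Fin 2) (Fin 2) (Rk k)) =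
    !![(u : Rk k), 0; 0, ((u⁻¹ : (Rk k)ˣ) : Rk k)] := rfl

theorem lev_mul {m : ℕ} (hm : 1 ≤ m) {X X' : Matrix (Fin 2) (Fin 2) (Rk k)} {g h : SL(2, Rk k)}
    (hg : Lev m X g) (hh : Lev m X' h) : Lev m (X + X') (g * h) := by
  obtain ⟨Y, hY⟩ := hg
  obtain ⟨Y', hY'⟩ := hh
  obtain ⟨a, rfl⟩ : ∃ a, m = a + 1 := ⟨m - 1, by omega⟩
  refine ⟨Y + Y' + (5 ^ a : Rk k) • ((X + (5 : Rk k) • Y) * (X' + (5 : Rk k) • Y')), ?_⟩
  rw [Matrix.SpecialLinearGroup.coe_mul, hY, hY']
  simp only [mul_add, add_mul, one_mul, mul_one, smul_mul_assoc, mul_smul_comm, smul_add, smul_smul, pow_succ]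
  module

theorem lev_congr {m : ℕ} {X Z : Matrix (Fin 2) (Fin 2) (Rk k)} {g : SL(2, Rk k)}
    (hg : Lev m (X + (5 : Rk k) • Z) g) : Lev m X g := by
  obtain ⟨Y, hY⟩ := hg
  exact ⟨Z + Y, by rw [hY, smul_add (5 : Rk k) Z Y, add_assoc]⟩

theorem lev_comm {i j : ℕ} (hi : 1 ≤ i) (hj : 1 ≤ j) {X X' : Matrix (Fin 2) (Fin 2) (Rk k)}
    {g h : SL(2, Rk k)} (hg : Lev i X g) (hh : Lev j X' h) :
    Lev (i + j) (X * X' - X' * X) ⁅g, h⁆ := by
  obtain ⟨Y, hY⟩ := hg
  obtain ⟨Y', hY'⟩ := hh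
  -- the inverse of `h * g` is congruent to one
  obtain ⟨W, hW⟩ : ∃ W, (((h * g)⁻¹ : SL(2, Rk k)) : Matrix (Fin 2) (Fin 2) (Rk k)) = 1 + (5 : Rk k) • W := by
    obtain ⟨D, hD⟩ : ∃ D, ((h * g : SL(2, Rk k)) : Matrix (Fin 2) (Fin 2) (Rk k)) = 1 + (5 : Rk k) • D := by
      obtain ⟨a, rfl⟩ : ∃ a, i = a + 1 := ⟨i - 1, by omega⟩
      obtain ⟨b, rfl⟩ : ∃ b, j = b + 1 := ⟨j - 1, by omega⟩
      refine ⟨(5 ^ a : Rk k) • (X + (5 : Rk k) • Y) + (5 ^ b : Rk k) • (X' + (5 : Rk k) • Y') +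
        (5 ^ b * 5 ^ (a + 1) : Rk k) • ((X' + (5 : Rk k) • Y') * (X + (5 : Rk k) • Y)), ?_⟩
      rw [Matrix.SpecialLinearGroup.coe_mul, hY, hY']
      simp only [mul_add, add_mul, one_mul, mul_one, smul_mul_assoc, mul_smul_comm, smul_add, smul_smul, pow_succ]
      module
    refine ⟨- (((h * g)⁻¹ : SL(2, Rk k)) : Matrix (Fin 2) (Fin 2) (Rk k)) * D, ?_⟩
    have h1 : (((h * g)⁻¹ : SL(2, Rk k)) : Matrix (Fin 2) (Fin 2) (Rk k)) *
        ((h * g : SL(2, Rk k)) : Matrix (Fin 2) (Fin 2) (Rk k)) = 1 := by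
      rw [← Matrix.SpecialLinearGroup.coe_mul, inv_mul_cancel, Matrix.SpecialLinearGroup.coe_one]
    rw [hD, mul_add, mul_one, mul_smul_comm] at h1
    rw [neg_mul, smul_neg, ← sub_eq_add_neg]
    exact eq_sub_of_add_eq h1
  set A := X + (5 : Rk k) • Y
  set B := X' + (5 : Rk k) • Y'
  have e : ⁅g, h⁆ = (g * h) * (h * g)⁻¹ := by rw [commutatorElement_def]; group
  have e2 : ((g * h : SL(2, Rk k)) : Matrix (Fin 2) (Fin 2) (Rk k)) =
      ((h * g : SL(2, Rk k)) : Matrix (Fin 2) (Fin 2) (Rk k)) + (5 ^ (i + j) : Rk k) • (A * B - B * A) := by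
    rw [Matrix.SpecialLinearGroup.coe_mul, Matrix.SpecialLinearGroup.coe_mul, hY, hY']
    simp only [mul_add, add_mul, one_mul, mul_one, smul_mul_assoc, mul_smul_comm, smul_smul, pow_add,
      mul_comm ((5 : Rk k) ^ j) ((5 : Rk k) ^ i)]
    module
  refine ⟨(X * Y' - Y' * X) + (Y * X' - X' * Y) + (5 : Rk k) • (Y * Y' - Y' * Y) + (A * B - B * A) * W, ?_⟩
  rw [e, Matrix.SpecialLinearGroup.coe_mul, e2, add_mul, ← Matrix.SpecialLinearGroup.coe_mul,
    mul_inv_cancel, Matrix.SpecialLinearGroup.coe_one, hW]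
  congr 1
  simp only [A, B, mul_add, add_mul, one_mul, mul_one, sub_mul, mul_sub, smul_mul_assoc, mul_smul_comm,
    smul_add, smul_sub, smul_smul]
  module

theorem upU_add (s t : Rk k) : upU s * upU t = upU (s + t) :=
  Subtype.ext (by simp [add_comm])

theorem loU_add (s t : Rk k) : loU s * loU t = loU (s + t) :=
  Subtype.ext (by simp)

theorem eq_upU_loU_upU (g : SL(2, Rk k)) (v : Rk k) (hv : v * g 1 0 = 1) :
    g = upU ((g 0 0 - 1) * v) * loU (g 1 0) * upU ((g 1 1 - 1) * v) := by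
  have hd : g 0 0 * g 1 1 - g 0 1 * g 1 0 = 1 := by
    have := g.2
    rwa [Matrix.det_fin_two] at this
  refine Subtype.ext ?_
  rw [Matrix.SpecialLinearGroup.coe_mul, Matrix.SpecialLinearGroup.coe_mul, upU_coe, loU_coe, upU_coe]
  ext i j
  fin_cases i <;> fin_cases j <;> simp [Matrix.mul_apply, Fin.sum_univ_two]
  · linear_combination -(g 0 0 - 1) * hv
  · linear_combination (-v) * hd - (g 0 1 + (g 0 0 - 1) * v * (g 1 1 - 1)) * hv
  · linear_combination -(g 1 1 - 1) * hv

theorem comm_upU (u : (Rk k)ˣ) (s : Rk k) :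
    ⁅dgU u, upU s⁆ = upU (((u : Rk k) * (u : Rk k) - 1) * s) := by
  have e : dgU u * upU s = upU (((u : Rk k) * (u : Rk k)) * s) * dgU u := by
    refine Subtype.ext ?_
    ext i j
    fin_cases i <;> fin_cases j <;> simp [Matrix.mul_apply, Fin.sum_univ_two]
    linear_combination -((u : Rk k) * s) * u.mul_inv
  rw [commutatorElement_def, e, mul_inv_cancel_right, mul_inv_eq_iff_eq_mul, upU_add]
  congr 1
  ring

theorem comm_loU (u : (Rk k)ˣ) (s : Rk k) :
    ⁅dgU u, loU s⁆ = loU ((((u⁻¹ : (Rk k)ˣ) : Rk k) * ((u⁻¹ : (Rk k)ˣ) : Rk k) - 1) * s) := by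
  have e : dgU u * loU s = loU (((u⁻¹ : (Rk k)ˣ) : Rk k) * ((u⁻¹ : (Rk k)ˣ) : Rk k) * s) * dgU u := by
    refine Subtype.ext ?_
    ext i j
    fin_cases i <;> fin_cases j <;> simp [Matrix.mul_apply, Fin.sum_univ_two]
    linear_combination -(((u⁻¹ : (Rk k)ˣ) : Rk k) * s) * u.inv_mul
  rw [commutatorElement_def, e, mul_inv_cancel_right, mul_inv_eq_iff_eq_mul, loU_add]
  congr 1
  ring

/-- Finite perfect groups have solvable maximal subgroups of unbounded derived length: for every d there is a finite perfect group G (equal to its commutator subgroup) with a solvable maximal subgroup H whose derived length exceeds d, i.e. the d-th term of the derived series of H is non-trivial. (Take the derived subgroup of a wreath product S ≀ A₅ with S solvable of large derived length, and H the preimage of a maximal subgroup of A₅.) -/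
theorem result (d : ℕ) :
    ∃ (G : Type) (_ : Group G) (_ : Finite G) (H : Subgroup G), commutator G = ⊤ ∧ IsCoatom H ∧ Group.IsSolvable H ∧
      derivedSeries H d ≠ ⊥ := by
  classical
  set k := 2 ^ d + 1 with hk
  haveI : NeZero k := ⟨Nat.succ_ne_zero _⟩
  haveI : NeZero (5 ^ k) := ⟨by positivity⟩
  set π := ZMod.castHom (dvd_pow_self 5 (NeZero.ne k)) (ZMod 5) with hπ
  have hunit : ∀ n : ℕ, ¬ 5 ∣ n → IsUnit (n : Rk k) := fun n hn => isUnit_of_cast (by
    rw [map_natCast, Ne, ZMod.natCast_eq_zero_iff]; exact hn)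
  -- generation
  have hgen : ∀ K : Subgroup SL(2, Rk k), (∀ t, upU t ∈ K) → (∀ t, loU t ∈ K) → K = ⊤ := by
    intro K hu hl
    refine eq_top_iff.mpr fun g _ => ?_
    have key : ∀ g : SL(2, Rk k), π (g 1 0) ≠ 0 → g ∈ K := fun g hg => by
      obtain ⟨v, hv⟩ := (isUnit_of_cast hg).exists_left_inv
      rw [eq_upU_loU_upU g v hv]
      exact mul_mem (mul_mem (hu _) (hl _)) (hu _)
    by_cases hc : π (g 1 0) = 0
    · have h1 : ((loU 1 * g : SL(2, Rk k)) 1 0) = g 0 0 + g 1 0 := by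
        simp [Matrix.mul_apply, Fin.sum_univ_two]
      have h2 : π (((loU 1 * g : SL(2, Rk k)) 1 0)) ≠ 0 := by
        rw [h1, map_add, hc, add_zero]
        intro h0
        have h3 := congrArg π g.2
        rw [Matrix.det_fin_two, map_sub, map_mul, map_mul, h0, hc, zero_mul, mul_zero, sub_zero,
          map_one] at h3
        exact absurd h3 (by decide)
      have h4 := mul_mem (inv_mem (hl 1)) (key _ h2)
      rwa [inv_mul_cancel_left] at h4
    · exact key g hc
  have hperf : commutator SL(2, Rk k) = ⊤ := by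
    obtain ⟨u, hu⟩ := hunit 2 (by norm_num)
    obtain ⟨v, hv⟩ := (isUnit_of_cast (x := (u : Rk k) * (u : Rk k) - 1) (by
      rw [map_sub, map_mul, hu, map_natCast, map_one]; decide)).exists_left_inv
    obtain ⟨w, hw⟩ := (isUnit_of_cast
      (x := ((u⁻¹ : (Rk k)ˣ) : Rk k) * ((u⁻¹ : (Rk k)ˣ) : Rk k) - 1) (by
      have h1 : π (u : Rk k) * π ((u⁻¹ : (Rk k)ˣ) : Rk k) = 1 := by rw [← map_mul, u.mul_inv, map_one]
      rw [map_sub, map_mul, map_one]
      rw [hu, map_natCast] at h1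
      generalize π ((u⁻¹ : (Rk k)ˣ) : Rk k) = z at h1
      revert h1; revert z; decide)).exists_left_inv
    refine hgen _ (fun t => ?_) (fun t => ?_)
    · have h := Subgroup.commutator_mem_commutator (Subgroup.mem_top (dgU u)) (Subgroup.mem_top (upU (v * t)))
      rw [comm_upU, ← mul_assoc, mul_comm _ v, hv, one_mul] at h
      exact h
    · have h := Subgroup.commutator_mem_commutator (Subgroup.mem_top (dgU u)) (Subgroup.mem_top (loU (w * t)))
      rw [comm_loU, ← mul_assoc, mul_comm _ w, hw, one_mul] at h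
      exact h
  let H : Subgroup SL(2, Rk k) :=
    { carrier := {g | π (g 1 0) = 0}
      one_mem' := by simp
      mul_mem' := fun {g h} (hg : π (g 1 0) = 0) (hh : π (h 1 0) = 0) => by
        show π ((g * h) 1 0) = 0
        simp [Matrix.mul_apply, Fin.sum_univ_two, hg, hh]
      inv_mem' := fun {g} (hg : π (g 1 0) = 0) => by
        show π (g⁻¹ 1 0) = 0
        simp [Matrix.adjugate_fin_two, hg] }
  have hupH : ∀ t, upU t ∈ H := fun t => by show π ((upU t) 1 0) = 0; simp
  have hH : IsCoatom H := by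
    refine ⟨fun h => ?_, fun L hL => ?_⟩
    · have h1 : loU 1 ∈ H := h ▸ Subgroup.mem_top _
      have h2 : π ((loU 1 : SL(2, Rk k)) 1 0) = 0 := h1
      simp at h2
      exact absurd h2 (by decide)
    · obtain ⟨g, hgL, hg⟩ := SetLike.exists_of_lt hL
      obtain ⟨v, hv⟩ := (isUnit_of_cast (show π (g 1 0) ≠ 0 from hg)).exists_left_inv
      have hc : loU (g 1 0) ∈ L := by
        have h := eq_upU_loU_upU g v hv
        have e : loU (g 1 0) = (upU ((g 0 0 - 1) * v))⁻¹ * g * (upU ((g 1 1 - 1) * v))⁻¹ := by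
          conv_rhs => arg 1; arg 2; rw [h]
          group
        rw [e]
        exact mul_mem (mul_mem (inv_mem (hL.le (hupH _))) hgL) (inv_mem (hL.le (hupH _)))
      have hmul : ∀ n : ℕ, loU ((n : Rk k) * g 1 0) ∈ L := by
        intro n
        induction n with
        | zero => rw [Nat.cast_zero, zero_mul, show loU (0 : Rk k) = 1 from Subtype.ext (by simp [Matrix.one_fin_two])]; exact one_mem _
        | succ n ih => rw [Nat.cast_succ, add_mul, one_mul, ← loU_add]; exact mul_mem ih hc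
      refine hgen L (fun t => hL.le (hupH t)) fun t => ?_
      have h := hmul (t * v).val
      rwa [ZMod.natCast_zmod_val, mul_assoc, hv, mul_one] at h
  -- congruence levels
  have hlev : ∀ g : SL(2, Rk k), π (g 0 0) = 1 → π (g 0 1) = 0 → π (g 1 0) = 0 → π (g 1 1) = 1 →
      ∃ X, Lev 1 X g := by
    intro g h00 h01 h10 h11
    have hdiv : ∀ x : Rk k, π x = 0 → ∃ y, x = 5 * y := fun x hx => by
      rw [← ZMod.natCast_zmod_val x, map_natCast, ZMod.natCast_eq_zero_iff] at hx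
      obtain ⟨c, hc⟩ := hx
      exact ⟨(c : Rk k), by rw [← ZMod.natCast_zmod_val x, hc]; push_cast; ring⟩
    obtain ⟨a, ha⟩ := hdiv (g 0 0 - 1) (by rw [map_sub, h00, map_one, sub_self])
    obtain ⟨b, hb⟩ := hdiv _ h01
    obtain ⟨c, hc⟩ := hdiv _ h10
    obtain ⟨e, he⟩ := hdiv (g 1 1 - 1) (by rw [map_sub, h11, map_one, sub_self])
    refine ⟨!![a, b; c, e], 0, ?_⟩
    ext i j
    fin_cases i <;> fin_cases j <;> simp
    · linear_combination ha
    · exact hb
    · exact hc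
    · linear_combination he
  have hsolv : Group.IsSolvable H := by
    let D : Subgroup SL(2, Rk k) :=
      { carrier := {g | π (g 0 0) = 1 ∧ π (g 1 0) = 0 ∧ π (g 1 1) = 1}
        one_mem' := by simp
        mul_mem' := fun {g h} hg hh => by
          simp [Matrix.mul_apply, Fin.sum_univ_two, hg.1, hg.2.1, hg.2.2, hh.1, hh.2.1, hh.2.2]
        inv_mem' := fun {g} hg => by
          simp [Matrix.adjugate_fin_two, hg.1, hg.2.1, hg.2.2] }
    have hd1 : ⁅H, H⁆ ≤ D := by
      rw [Subgroup.commutator_le]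
      intro g hg h hh
      change π (g 1 0) = 0 at hg
      change π (h 1 0) = 0 at hh
      have hgd := congrArg π g.2
      have hhd := congrArg π h.2
      rw [Matrix.det_fin_two, map_sub, map_mul, map_mul, map_one, hg, mul_zero, sub_zero] at hgd
      rw [Matrix.det_fin_two, map_sub, map_mul, map_mul, map_one, hh, mul_zero, sub_zero] at hhd
      refine ⟨?_, ?_, ?_⟩ <;>
        simp [commutatorElement_def, Matrix.mul_apply, Fin.sum_univ_two, Matrix.adjugate_fin_two, hg, hh]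
      · linear_combination π (h 0 0) * π (h 1 1) * hgd + hhd
      · linear_combination π (h 0 0) * π (h 1 1) * hgd + hhd
    have hd2 : ∀ g ∈ ⁅D, D⁆, π (g 0 1) = 0 := by
      let E : Subgroup SL(2, Rk k) :=
        { carrier := {g | π (g 0 0) = 1 ∧ π (g 1 0) = 0 ∧ π (g 1 1) = 1 ∧ π (g 0 1) = 0}
          one_mem' := by simp
          mul_mem' := fun {g h} hg hh => by
            simp [Matrix.mul_apply, Fin.sum_univ_two, hg.1, hg.2.1, hg.2.2.1, hg.2.2.2, hh.1, hh.2.1,
              hh.2.2.1, hh.2.2.2]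
          inv_mem' := fun {g} hg => by
            simp [Matrix.adjugate_fin_two, hg.1, hg.2.1, hg.2.2.1, hg.2.2.2] }
      have : ⁅D, D⁆ ≤ E := by
        rw [Subgroup.commutator_le]
        intro g hg h hh
        refine ⟨?_, ?_, ?_, ?_⟩ <;>
          simp [commutatorElement_def, Matrix.mul_apply, Fin.sum_univ_two, Matrix.adjugate_fin_two, hg.1,
            hg.2.1, hg.2.2, hh.1, hh.2.1, hh.2.2]
      exact fun g hg => (this hg).2.2.2
    have hder : ∀ n, ∀ g ∈ (derivedSeries H (n + 2)).map H.subtype, ∃ X, Lev (2 ^ n) X g := by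
      intro n
      induction n with
      | zero =>
        intro g hg
        have h1 : (derivedSeries H 1).map H.subtype ≤ D := by
          rw [derivedSeries_succ, derivedSeries_zero, Subgroup.map_commutator,
            ← MonoidHom.range_eq_map, H.range_subtype]
          exact hd1
        have h2 : (derivedSeries H 2).map H.subtype ≤ ⁅D, D⁆ := by
          rw [derivedSeries_succ, Subgroup.map_commutator]
          exact Subgroup.commutator_mono h1 h1
        have h3 := hd2 g (h2 hg)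
        have h4 := Subgroup.commutator_le_self D (h2 hg)
        exact hlev g h4.1 h3 h4.2.1 h4.2.2
      | succ n ih =>
        intro g hg
        rw [derivedSeries_succ, Subgroup.map_commutator, Subgroup.commutator_def] at hg
        induction hg using Subgroup.closure_induction with
        | mem x hx =>
          obtain ⟨a, ha, b, hb, rfl⟩ := hx
          obtain ⟨X, hX⟩ := ih a ha
          obtain ⟨X', hX'⟩ := ih b hb
          rw [pow_succ, mul_two]
          exact ⟨_, lev_comm Nat.one_le_two_pow Nat.one_le_two_pow hX hX'⟩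
        | one => exact ⟨0, 0, by simp⟩
        | mul x y _ _ hx hy =>
          obtain ⟨X, hX⟩ := hx
          obtain ⟨X', hX'⟩ := hy
          exact ⟨_, lev_mul Nat.one_le_two_pow hX hX'⟩
        | inv x _ hx =>
          obtain ⟨X, Y, hXY⟩ := hx
          refine ⟨-((x⁻¹ : SL(2, Rk k)) : Matrix (Fin 2) (Fin 2) (Rk k)) * (X + (5 : Rk k) • Y), 0, ?_⟩
          have h1 : ((x⁻¹ : SL(2, Rk k)) : Matrix (Fin 2) (Fin 2) (Rk k)) *
              (x : Matrix (Fin 2) (Fin 2) (Rk k)) = 1 := by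
            rw [← Matrix.SpecialLinearGroup.coe_mul, inv_mul_cancel, Matrix.SpecialLinearGroup.coe_one]
          rw [hXY, mul_add, mul_one, mul_smul_comm] at h1
          rw [smul_zero, add_zero, neg_mul, smul_neg, ← sub_eq_add_neg]
          exact eq_sub_of_add_eq h1
    refine ⟨k + 2, (Subgroup.map_eq_bot_iff_of_injective _ H.subtype_injective).mp (eq_bot_iff.mpr fun g hg => ?_)⟩
    obtain ⟨X, Y, hXY⟩ := hder k g hg
    rw [Subgroup.mem_bot]
    refine Subtype.ext ?_
    have h0 : ((5 : Rk k) ^ (2 ^ k)) = 0 := by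
      obtain ⟨c, hc⟩ : ∃ c, 2 ^ k = k + c := ⟨2 ^ k - k, by have := Nat.lt_two_pow_self (n := k); omega⟩
      rw [hc, pow_add, show ((5 : Rk k) ^ k) = ((5 ^ k : ℕ) : Rk k) by simp only [Nat.cast_pow, Nat.cast_ofNat], ZMod.natCast_self, zero_mul]
    rw [hXY, h0, zero_smul, add_zero, Matrix.SpecialLinearGroup.coe_one]
  refine ⟨SL(2, Rk k), inferInstance, inferInstance, H, hperf, hH, hsolv, fun hbot => ?_⟩
  have hmain : ∀ n, ∀ X ∈ ([!![0, 1; 0, 0], !![0, 0; 1, 0], !![1, 0; 0, -1]] : List (Matrix (Fin 2) (Fin 2) (Rk k))),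
      ∃ g ∈ (derivedSeries H n).map H.subtype, Lev (2 ^ n) X g := by
    intro n
    induction n with
    | zero =>
      intro X hX
      rw [derivedSeries_zero, ← MonoidHom.range_eq_map, H.range_subtype]
      simp only [List.mem_cons, List.not_mem_nil, or_false] at hX
      rcases hX with rfl | rfl | rfl
      · refine ⟨upU 5, hupH 5, 0, ?_⟩
        ext i j; fin_cases i <;> fin_cases j <;> simp
      · refine ⟨loU 5, by show π ((loU 5 : SL(2, Rk k)) 1 0) = 0; rw [show (loU (5 : Rk k) : SL(2, Rk k)) 1 0 = 5 by simp, map_ofNat]; decide, 0, ?_⟩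
        ext i j; fin_cases i <;> fin_cases j <;> simp
      · obtain ⟨u, hu⟩ := hunit 6 (by norm_num)
        refine ⟨dgU u, by show π ((dgU u : SL(2, Rk k)) 1 0) = 0; simp,
          !![0, 0; 0, ((u⁻¹ : (Rk k)ˣ) : Rk k) + ((u⁻¹ : (Rk k)ˣ) : Rk k) * 0 + (1 - ((u⁻¹ : (Rk k)ˣ) : Rk k)) * 0 + (((1 : Rk k) - 1)) + (((u⁻¹ : (Rk k)ˣ) : Rk k) * 0)], ?_⟩
        have h6 : (6 : Rk k) * ((u⁻¹ : (Rk k)ˣ) : Rk k) = 1 := by
          have := u.mul_inv
          rw [hu] at this
          exact_mod_cast this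
        have hu' : (u : Rk k) = 6 := by rw [hu]; norm_num
        ext i j; fin_cases i <;> fin_cases j <;> simp [hu']
        · norm_num
        · linear_combination (-4) * h6
    | succ n ih =>
      intro X hX
      obtain ⟨e, he, hLe⟩ := ih !![0, 1; 0, 0] (by simp)
      obtain ⟨f, hf, hLf⟩ := ih !![0, 0; 1, 0] (by simp)
      obtain ⟨t, ht, hLt⟩ := ih !![1, 0; 0, -1] (by simp)
      have hm := Nat.one_le_two_pow (n := n)
      have hmem : ∀ a ∈ (derivedSeries H n).map H.subtype, ∀ b ∈ (derivedSeries H n).map H.subtype,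
          ⁅a, b⁆ ∈ (derivedSeries H (n + 1)).map H.subtype := fun a ha b hb => by
        rw [derivedSeries_succ, Subgroup.map_commutator]
        exact Subgroup.commutator_mem_commutator ha hb
      have hm2 : 1 ≤ 2 ^ n + 2 ^ n := by omega
      rw [show 2 ^ (n + 1) = 2 ^ n + 2 ^ n by ring]
      simp only [List.mem_cons, List.not_mem_nil, or_false] at hX
      rcases hX with rfl | rfl | rfl
      · refine ⟨⁅t, e⁆ * ⁅t, e⁆ * ⁅t, e⁆,
          mul_mem (mul_mem (hmem t ht e he) (hmem t ht e he)) (hmem t ht e he),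
          lev_congr (Z := !![0, 1; 0, 0]) ?_⟩
        convert lev_mul hm2 (lev_mul hm2 (lev_comm hm hm hLt hLe) (lev_comm hm hm hLt hLe))
          (lev_comm hm hm hLt hLe) using 1
        ext i j; fin_cases i <;> fin_cases j <;> simp
        norm_num
      · refine ⟨⁅t, f⁆ * ⁅t, f⁆, mul_mem (hmem t ht f hf) (hmem t ht f hf),
          lev_congr (Z := !![0, 0; -1, 0]) ?_⟩
        convert lev_mul hm2 (lev_comm hm hm hLt hLf) (lev_comm hm hm hLt hLf) using 1
        ext i j; fin_cases i <;> fin_cases j <;> simp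
        norm_num
      · refine ⟨⁅e, f⁆, hmem e he f hf, ?_⟩
        convert lev_comm hm hm hLe hLf using 1
        ext i j; fin_cases i <;> fin_cases j <;> simp
  obtain ⟨g, hg, Y, hY⟩ := hmain d !![0, 1; 0, 0] (by simp)
  rw [hbot, Subgroup.map_bot, Subgroup.mem_bot] at hg
  subst hg
  have h := congrFun (congrFun hY 0) 1
  simp at h
  have h1 : (5 : Rk k) ^ (2 ^ d) * (1 + 5 * Y 0 1) = 0 := by linear_combination -h
  have h2 : IsUnit (1 + 5 * Y 0 1) := isUnit_of_cast (by
    rw [map_add, map_mul, map_one, show π (5 : Rk k) = 0 by rw [map_ofNat]; decide, zero_mul, add_zero]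
    decide)
  have h3 : ((5 ^ (2 ^ d) : ℕ) : Rk k) = 0 := by
    push_cast
    exact h2.mul_left_eq_zero.mp h1
  rw [ZMod.natCast_eq_zero_iff, hk] at h3
  have := (Nat.pow_dvd_pow_iff_le_right (by norm_num)).mp h3
  omega

end Cfsg.Agent.S5896
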