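import Cfsg.Statements.S5902
import Cfsg.Agent.Blocks88.LatticeComplement
-- import your own Cfsg.Agent.* helpers here

set_option autoImplicit false
open Cfsg

namespace Cfsg.Agent.S5902

/-- Let G be a finite group, X a subgroup whose own subgroup lattice is complemented, and suppose X lies in exactly one maximal subgroup M of G. Then every subgroup H of G not contained in the normal core of M has a complement in the subgroup lattice of G (some C with H ⊔ C = G and H ⊓ C = 1); in particular the subgroup lattice of G modulo the normal core of M is complemented. -/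
theorem result {G : Type*} [Group G] [Finite G] (X M : Subgroup G)
    (hK : ComplementedLattice (Subgroup X))
    (hM : IsCoatom M) (hXM : X ≤ M) (huniq : ∀ M' : Subgroup G, IsCoatom M' → X ≤ M' → M' = M) :
    (∀ H : Subgroup G, ¬ H ≤ M.normalCore → ∃ C : Subgroup G, H ⊔ C = ⊤ ∧ H ⊓ C = ⊥) ∧
    ComplementedLattice (Subgroup (G ⧸ M.normalCore)) := by
  have h1 : ∀ H : Subgroup G, ¬ H ≤ M.normalCore → ∃ C : Subgroup G, H ⊔ C = ⊤ ∧ H ⊓ C = ⊥ := by
    intro H hH
    obtain ⟨g, hg⟩ : ∃ g : G, ¬ H.map (MulAut.conj g).toMonoidHom ≤ M := by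
      by_contra hc
      push Not at hc
      exact hH fun h hh g => hc g ⟨h, hh, rfl⟩
    refine Blocks88.exists_complement_conj g (Blocks88.exists_complement (T := ⊥) bot_le
      (fun Y _ hY => ?_) huniq hg (inf_bot_eq _))
    obtain ⟨C, hC, h2, h3⟩ := Blocks88.exists_complement_le hK Y hY
    exact ⟨C, bot_le, hC, h2, h3⟩
  refine ⟨h1, ⟨fun A => ?_⟩⟩
  set f := QuotientGroup.mk' M.normalCore with hf
  by_cases hA : A = ⊥
  · exact ⟨⊤, hA ▸ isCompl_bot_top⟩
  have hle : M.normalCore ≤ A.comap f := fun x hx => by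
    rw [Subgroup.mem_comap, hf, QuotientGroup.mk'_apply, (QuotientGroup.eq_one_iff x).mpr hx]
    exact one_mem _
  have hnot : ¬ A.comap f ≤ M.normalCore := fun h => hA (by
    rw [← Subgroup.map_comap_eq_self_of_surjective (QuotientGroup.mk'_surjective _) A,
      le_antisymm h hle, QuotientGroup.map_mk'_self])
  obtain ⟨C, h2, h3⟩ := h1 _ hnot
  refine ⟨C.map f, disjoint_iff.mpr ?_, codisjoint_iff.mpr ?_⟩
  · rw [eq_bot_iff]
    rintro _ ⟨hA', c, hc, rfl⟩
    have : c ∈ A.comap f ⊓ C := ⟨hA', hc⟩
    rw [h3, Subgroup.mem_bot] at this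
    rw [this, map_one]
    exact one_mem _
  · rw [← Subgroup.map_comap_eq_self_of_surjective (QuotientGroup.mk'_surjective _) A,
      ← Subgroup.map_sup, h2, Subgroup.map_top_of_surjective _ (QuotientGroup.mk'_surjective _)]

end Cfsg.Agent.S5902
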