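import Cfsg.Statements.S5903
import Cfsg.Agent.Blocks88.LatticeComplement
-- import your own Cfsg.Agent.* helpers here

set_option autoImplicit false
open Cfsg

namespace Cfsg.Agent.S5903

/-- Let G be a finite simple group, X a subgroup lying in exactly one maximal subgroup M of G, and N a subgroup of prime order with N ≤ X that is central in M. If the subgroup lattice of X/N is complemented, then the subgroup lattice of G is complemented. -/
theorem result {G : Type*} [Group G] [Finite G] [IsSimpleGroup G] (X M N : Subgroup G)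
    (hM : IsCoatom M) (hXM : X ≤ M) (huniq : ∀ M' : Subgroup G, IsCoatom M' → X ≤ M' → M' = M)
    (hNX : N ≤ X) (hN : (Nat.card N).Prime) (hcen : ∀ n ∈ N, ∀ m ∈ M, m * n = n * m)
    [(N.subgroupOf X).Normal] (hK : ComplementedLattice (Subgroup (X ⧸ N.subgroupOf X))) :
    ComplementedLattice (Subgroup G) := by
  have hint : ∀ Y : Subgroup G, N ≤ Y → Y ≤ X →
      ∃ C : Subgroup G, N ≤ C ∧ C ≤ X ∧ Y ⊔ C = X ∧ Y ⊓ C = N := by
    intro Y hNY hYX
    set f := QuotientGroup.mk' (N.subgroupOf X) with hf
    obtain ⟨D, hD⟩ := hK.exists_isCompl ((Y.subgroupOf X).map f)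
    have hk : f.ker = N.subgroupOf X := QuotientGroup.ker_mk' _
    have hY' : Y.subgroupOf X = ((Y.subgroupOf X).map f).comap f := by
      rw [Subgroup.comap_map_eq, hk]
      exact (sup_eq_left.mpr fun x hx => hNY hx).symm
    refine ⟨(D.comap f).map X.subtype, ?_, Subgroup.map_subtype_le _, ?_, ?_⟩
    · exact (Subgroup.map_subgroupOf_eq_of_le hNX).ge.trans
        (Subgroup.map_mono (hk.ge.trans (Subgroup.ker_le_comap f D)))
    · rw [← Subgroup.map_subgroupOf_eq_of_le hYX, ← Subgroup.map_sup, hY',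
        Subgroup.comap_sup_eq f _ _ (QuotientGroup.mk'_surjective _), hD.sup_eq_top,
        Subgroup.comap_top, ← MonoidHom.range_eq_map, X.range_subtype]
    · rw [← Subgroup.map_subgroupOf_eq_of_le hYX, ← Subgroup.map_inf _ _ _ X.subtype_injective, hY',
        ← Subgroup.comap_inf, hD.inf_eq_bot, MonoidHom.comap_bot, hk,
        Subgroup.map_subgroupOf_eq_of_le hNX]
  refine ⟨fun H => ?_⟩
  by_cases hbot : H = ⊥
  · exact ⟨⊤, hbot ▸ isCompl_bot_top⟩
  by_cases htop : H = ⊤
  · exact ⟨⊥, htop ▸ isCompl_bot_top.symm⟩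
  obtain ⟨g, hg1, hg2⟩ : ∃ g : G, ¬ H.map (MulAut.conj g).toMonoidHom ≤ M ∧
      H.map (MulAut.conj g).toMonoidHom ⊓ N = ⊥ := by
    by_contra hc
    push Not at hc
    have hn : ∀ g : G, N ≤ Subgroup.normalizer (H.map (MulAut.conj g).toMonoidHom : Set G) := by
      intro g
      set K := H.map (MulAut.conj g).toMonoidHom
      by_cases h : K ≤ M
      · refine le_trans ?_ (Subgroup.centralizer_le_normalizer _)
        intro n hn
        exact Subgroup.mem_centralizer_iff.mpr fun k hk => hcen n hn k (h hk)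
      · refine le_trans ?_ Subgroup.le_normalizer
        haveI : Fact (Nat.card N).Prime := ⟨hN⟩
        have h1 : (K ⊓ N).subgroupOf N ≠ ⊥ := fun h2 => hc g h (by
          rw [← Subgroup.map_subgroupOf_eq_of_le (inf_le_right : K ⊓ N ≤ N), h2, Subgroup.map_bot])
        have h2 := ((K ⊓ N).subgroupOf N).eq_bot_or_eq_top_of_prime_card.resolve_left h1
        exact (Subgroup.subgroupOf_eq_top.mp h2).trans inf_le_left
    have hle : Subgroup.normalClosure (N : Set G) ≤ Subgroup.normalizer (H : Set G) := by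
      refine (Subgroup.closure_le _).mpr fun x hx => ?_
      obtain ⟨n, hn', hnx⟩ := Group.mem_conjugatesOfSet_iff.mp hx
      obtain ⟨c, rfl⟩ := isConj_iff.mp hnx
      have h := Subgroup.mem_normalizer_iff.mp (hn c⁻¹ hn')
      refine Subgroup.mem_normalizer_iff.mpr fun y => ?_
      have h' := h (c⁻¹ * y * c)
      simp only [Subgroup.mem_map, MulEquiv.coe_toMonoidHom, MulAut.conj_apply, inv_inv,
        SetLike.mem_coe] at h'
      constructor
      · intro hy
        obtain ⟨z, hz, he⟩ := h'.mp ⟨y, hy, rfl⟩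
        convert hz using 1
        calc c * n * c⁻¹ * y * (c * n * c⁻¹)⁻¹ = c * (n * (c⁻¹ * y * c) * n⁻¹) * c⁻¹ := by group
          _ = z := by rw [← he]; group
      · intro hy
        obtain ⟨z, hz, he⟩ := h'.mpr ⟨_, hy, by group⟩
        convert hz using 1
        calc y = c * (c⁻¹ * y * c) * c⁻¹ := by group
          _ = z := by rw [← he]; group
    have hNne : Subgroup.normalClosure (N : Set G) ≠ ⊥ := fun h => hN.ne_one (by
      rw [show N = ⊥ from le_bot_iff.mp (h ▸ Subgroup.le_normalClosure), Subgroup.card_bot])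
    have hnt := (Subgroup.normalClosure_normal (s := (N : Set G))).eq_bot_or_eq_top.resolve_left hNne
    rw [hnt, top_le_iff, Subgroup.normalizer_eq_top_iff] at hle
    exact htop (hle.eq_bot_or_eq_top.resolve_left hbot)
  obtain ⟨C, h1, h2⟩ := Blocks88.exists_complement_conj g
    (Blocks88.exists_complement hNX hint huniq hg1 hg2)
  exact ⟨C, disjoint_iff.mpr h2, codisjoint_iff.mpr h1⟩

end Cfsg.Agent.S5903
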