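import Cfsg.Statements.S5905
import Mathlib
-- import your own Cfsg.Agent.* helpers here

set_option autoImplicit false
open Cfsg

namespace Cfsg.Agent.S5905

open Equiv

/-- The permutations preserving a partition. -/
def partStab {Ω : Type*} {b : ℕ} (f : Ω → Fin b) : Subgroup (Equiv.Perm Ω) where
  carrier := {g | ∀ x y : Ω, f x = f y ↔ f (g x) = f (g y)}
  one_mem' := fun _ _ => Iff.rfl
  mul_mem' := fun {g h} hg hh x y => (hh x y).trans (hg (h x) (h y))
  inv_mem' := fun {g} hg x y => by
    have := hg (g⁻¹ x) (g⁻¹ y)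
    simp only [Equiv.Perm.inv_def, Equiv.apply_symm_apply] at this
    exact this.symm

/-- Let Ω be a finite set and f : Ω → Fin b a map onto b ≥ 2 labels whose fibres all have the same size a ≥ 2 (a partition of Ω into b blocks of size a, so |Ω| = ab). Then the stabilizer of this partition in the symmetric group on Ω — the permutations g such that x and y lie in the same block exactly when g x and g y do, a group isomorphic to the imprimitive wreath product S_a ≀ S_b — is a maximal subgroup of the symmetric group. -/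
theorem result {Ω : Type*} [Fintype Ω] [DecidableEq Ω] (a b : ℕ) (ha : 2 ≤ a) (hb : 2 ≤ b)
    (f : Ω → Fin b) (hf : ∀ i : Fin b, Nat.card {x : Ω // f x = i} = a) :
    IsCoatom (Subgroup.closure {g : Equiv.Perm Ω | ∀ x y : Ω, f x = f y ↔ f (g x) = f (g y)}) := by
  classical
  rw [show Subgroup.closure {g : Equiv.Perm Ω | ∀ x y : Ω, f x = f y ↔ f (g x) = f (g y)} = partStab f
    from Subgroup.closure_eq (partStab f)]
  have e : Ω ≃ Fin b × Fin a :=
    ((Equiv.sigmaFiberEquiv f).symm.trans (Equiv.sigmaCongrRight fun i =>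
      (Finite.equivFinOfCardEq (hf i)))).trans (Equiv.sigmaEquivProd _ _)
  have hne : ∀ i, ∃ x : Ω, f x = i := fun i => by
    have : Nonempty {x : Ω // f x = i} := (Nat.card_pos_iff.mp (by rw [hf i]; omega)).1
    exact ⟨this.some.1, this.some.2⟩
  -- swaps inside a block
  have hswap : ∀ x y : Ω, f x = f y → Equiv.swap x y ∈ partStab f := by
    intro x y hxy u v
    have hfix : ∀ w, f (Equiv.swap x y w) = f w := fun w => by
      rcases eq_or_ne w x with rfl | h1
      · rw [Equiv.swap_apply_left, hxy]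
      rcases eq_or_ne w y with rfl | h2
      · rw [Equiv.swap_apply_right, hxy]
      · rw [Equiv.swap_apply_of_ne_of_ne h1 h2]
    rw [hfix, hfix]
  -- lifting a permutation of the blocks
  have hlift : ∀ σ : Equiv.Perm (Fin b), ∃ g ∈ partStab f, ∀ x, f (g x) = σ (f x) := by
    intro σ
    have choose_equiv : ∀ i, {x : Ω // f x = i} ≃ {x : Ω // f x = σ i} := fun i =>
      Classical.choice ((Finite.card_eq).mp (by rw [hf, hf]))
    let g : Equiv.Perm Ω := ((Equiv.sigmaFiberEquiv f).symm.trans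
      (Equiv.sigmaCongr σ choose_equiv)).trans (Equiv.sigmaFiberEquiv f)
    have hg : ∀ x, f (g x) = σ (f x) := fun x => (choose_equiv (f x) ⟨x, rfl⟩).2
    exact ⟨g, fun x y => by rw [hg, hg]; exact σ.injective.eq_iff.symm, hg⟩
  obtain ⟨x0, hx0⟩ := hne ⟨0, by omega⟩
  obtain ⟨y0, hy0⟩ := hne ⟨1, by omega⟩
  have hx0y0 : f x0 ≠ f y0 := by rw [hx0, hy0]; simp
  obtain ⟨x1, hx1, hx10⟩ : ∃ x1, f x1 = f x0 ∧ x1 ≠ x0 := by
    haveI : Nontrivial {x : Ω // f x = f x0} := Finite.one_lt_card_iff_nontrivial.mp (by rw [hf]; omega)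
    obtain ⟨z, hz⟩ := exists_ne (⟨x0, rfl⟩ : {x : Ω // f x = f x0})
    exact ⟨z.1, z.2, fun h => hz (Subtype.ext h)⟩
  refine ⟨fun h => ?_, fun K hK => ?_⟩
  · have h1 : Equiv.swap x0 y0 ∈ partStab f := h ▸ Subgroup.mem_top _
    have h2 := (h1 x1 x0).mp hx1
    rw [Equiv.swap_apply_left, Equiv.swap_apply_of_ne_of_ne hx10 (fun h => hx0y0 (h ▸ hx1).symm),
      hx1] at h2
    exact hx0y0 h2
  · obtain ⟨g, hgK, hg⟩ := SetLike.exists_of_lt hK
    obtain ⟨u, v, huv, hK'⟩ : ∃ u v, f u ≠ f v ∧ Equiv.swap u v ∈ K := by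
      change ¬ ∀ x y : Ω, f x = f y ↔ f (g x) = f (g y) at hg
      push Not at hg
      obtain ⟨x, y, h⟩ := hg
      rcases h with ⟨h1, h2⟩ | ⟨h1, h2⟩
      · refine ⟨g x, g y, h2, ?_⟩
        rw [Equiv.swap_apply_apply]
        exact mul_mem (mul_mem hgK (hK.le (hswap x y h1))) (inv_mem hgK)
      · refine ⟨x, y, h1, ?_⟩
        have h3 := mul_mem (mul_mem (inv_mem hgK) (hK.le (hswap (g x) (g y) h2))) hgK
        rw [Equiv.swap_apply_apply] at h3
        simpa [mul_assoc] using h3
    -- any two points can be exchanged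
    have hblock : ∀ x y, f x = f u → f y = f v → Equiv.swap x y ∈ K := by
      intro x y hx hy
      have hw := mul_mem (hswap u x hx.symm) (hswap v y hy.symm)
      have h3 := mul_mem (mul_mem (hK.le hw) hK') (inv_mem (hK.le hw))
      rw [← Equiv.swap_apply_apply] at h3
      have e1 : (Equiv.swap u x * Equiv.swap v y) u = x := by
        rw [Perm.mul_apply, Equiv.swap_apply_of_ne_of_ne (fun h => huv (congrArg f h))
          (fun h => huv ((congrArg f h).trans hy)), Equiv.swap_apply_left]
      have e2 : (Equiv.swap u x * Equiv.swap v y) v = y := by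
        rw [Perm.mul_apply, Equiv.swap_apply_left,
          Equiv.swap_apply_of_ne_of_ne (fun h => huv ((congrArg f h).symm.trans hy))
            (fun h => huv ((hx.symm.trans (congrArg f h).symm).trans hy))]
      rwa [e1, e2] at h3
    refine eq_top_iff.mpr ?_
    rw [← Equiv.Perm.closure_isSwap, Subgroup.closure_le]
    rintro _ ⟨x, y, -, rfl⟩
    show Equiv.swap x y ∈ K
    by_cases hxy : f x = f y
    · exact hK.le (hswap x y hxy)
    have hσ : ∃ σ : Equiv.Perm (Fin b), σ (f u) = f x ∧ σ (f v) = f y := by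
      set s1 := Equiv.swap (f u) (f x)
      refine ⟨Equiv.swap (s1 (f v)) (f y) * s1, ?_, ?_⟩
      · have h1 : s1 (f u) = f x := Equiv.swap_apply_left _ _
        rw [Perm.mul_apply, h1, Equiv.swap_apply_of_ne_of_ne
          (fun h => huv (s1.injective (h1.trans h))) hxy]
      · rw [Perm.mul_apply, Equiv.swap_apply_left]
    obtain ⟨σ, hσu, hσv⟩ := hσ
    obtain ⟨w, hw, hwf⟩ := hlift σ
    have h3 := mul_mem (mul_mem (hK.le hw) (hblock (w⁻¹ x) (w⁻¹ y) ?_ ?_)) (inv_mem (hK.le hw))
    · rw [← Equiv.swap_apply_apply] at h3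
      simpa using h3
    · exact σ.injective (by rw [← hwf, Equiv.Perm.inv_def, Equiv.apply_symm_apply, hσu])
    · exact σ.injective (by rw [← hwf, Equiv.Perm.inv_def, Equiv.apply_symm_apply, hσv])

end Cfsg.Agent.S5905
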