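import Cfsg.Statements.S5909
import Cfsg.Agent.ClMax99.Wreath

set_option autoImplicit false
open Cfsg

namespace Cfsg.Agent.S5909

section
open ClMax99
variable {Ω : Type*} [Fintype Ω] [DecidableEq Ω] {a b : ℕ} {f : Ω → Fin b}

theorem small_case (e : Ω ≃ Fin b × Fin a) (he : ∀ x, (e x).1 = f x) (ha : a = 2) (hb : b = 2 ∨ b = 3)
    (G : Subgroup (Equiv.Perm Ω)) (hG : partStab f ⊓ alternatingGroup Ω < G)
    (hGA : G ≤ alternatingGroup Ω) : alternatingGroup Ω ≤ G := by
  classical
  subst ha
  have hn : Fintype.card Ω = b * 2 := by simp [Fintype.card_congr e]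
  have : Nontrivial Ω := Fintype.one_lt_card_iff_nontrivial.1 (by omega)
  set P := partStab f
  set H := P ⊓ alternatingGroup Ω with hH
  -- the even part has index two
  have hidx : (alternatingGroup Ω).relIndex P = 2 := by
    have hne : (alternatingGroup Ω).relIndex P ≠ 1 := by
      rw [Ne, Subgroup.relIndex_eq_one]
      intro hle
      have hb0 : 0 < b := by omega
      let x := e.symm (⟨0, hb0⟩, 0)
      let y := e.symm (⟨0, hb0⟩, 1)
      have hfx : f x = f y := by rw [← he, ← he]; simp [x, y]
      have hxy : x ≠ y := by simp [x, y]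
      have := hle (swap_mem_partStab (f := f) hfx)
      rw [Equiv.Perm.mem_alternatingGroup, Equiv.Perm.sign_swap hxy] at this
      exact absurd this (by decide)
    have hd := Subgroup.relIndex_dvd_index_of_normal (alternatingGroup Ω) P
    rw [alternatingGroup.index_eq_two] at hd
    exact ((Nat.dvd_prime Nat.prime_two).1 hd).resolve_left hne
  have hcP := card_partStab e he (by norm_num : 0 < 2)
  have hcH : Nat.card H * 2 = b.factorial * 2 ^ b := by
    have h1 := ((alternatingGroup Ω).subgroupOf P).card_mul_index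
    rw [← Subgroup.relIndex, hidx, hcP, show Nat.factorial 2 = 2 from rfl] at h1
    rw [← h1]
    congr 1
    rw [hH, ← Subgroup.inf_subgroupOf_left, Nat.card_congr (Subgroup.subgroupOfEquivOfLe inf_le_left).toEquiv]
  -- the index of `G` in the alternating group
  obtain ⟨m, hm⟩ := Subgroup.card_dvd_of_le hG.le
  have hm2 : 2 ≤ m := by
    have hpos : 0 < Nat.card G := Nat.card_pos
    rcases m with _ | _ | m
    · simp at hm
    · exact absurd (Subgroup.eq_of_le_of_card_ge hG.le (by rw [hm, zero_add, mul_one])) hG.ne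
    · omega
  let G' := G.subgroupOf (alternatingGroup Ω)
  have hGc : Nat.card G' = Nat.card G := Nat.card_congr (Subgroup.subgroupOfEquivOfLe hGA).toEquiv
  have hA := G'.card_mul_index
  rw [hGc, hm] at hA
  have h2A := two_mul_nat_card_alternatingGroup (α := Ω)
  rw [Nat.card_perm, Nat.card_eq_fintype_card (α := Ω), hn] at h2A
  rw [← Subgroup.subgroupOf_eq_top, ← Subgroup.index_eq_one]
  show G'.index = 1
  rcases hb with rfl | rfl
  · rw [show Nat.factorial 2 * 2 ^ 2 = 8 from rfl] at hcH
    rw [show Nat.factorial (2 * 2) = 24 from rfl] at h2A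
    have hH4 : Nat.card H = 4 := by omega
    rw [hH4] at hA
    have hmk : m * G'.index = 3 := by nlinarith
    have : G'.index ≠ 0 := Subgroup.index_ne_zero_of_finite
    rcases (Nat.dvd_prime Nat.prime_three).1 (Dvd.intro_left m hmk) with h | h
    · exact h
    · rw [h] at hmk; omega
  · rw [show Nat.factorial 3 * 2 ^ 3 = 48 from rfl] at hcH
    rw [show Nat.factorial (3 * 2) = 720 from rfl] at h2A
    have hH24 : Nat.card H = 24 := by omega
    rw [hH24] at hA
    have hmk : m * G'.index = 15 := by nlinarith
    have hk : G'.index ≤ 7 := by nlinarith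
    by_contra hne
    have hsimple := alternatingGroup.isSimpleGroup (α := Ω) (by rw [Nat.card_eq_fintype_card, hn]; norm_num)
    have hk5 : G'.index ≤ 5 := by
      by_contra h
      rcases (by omega : G'.index = 6 ∨ G'.index = 7) with h' | h' <;> rw [h'] at hmk <;> omega
    have hinj : Function.Injective (MulAction.toPermHom (alternatingGroup Ω) (alternatingGroup Ω ⧸ G')) := by
      rw [← MonoidHom.ker_eq_bot_iff, ← Subgroup.normalCore_eq_ker]
      rcases Subgroup.Normal.eq_bot_or_eq_top (G'.normalCore_normal) with h | h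
      · exact h
      · exact absurd (Subgroup.index_eq_one.2 (top_le_iff.1 (h ▸ G'.normalCore_le))) hne
    have hle := Nat.card_le_card_of_injective _ hinj
    rw [Nat.card_perm, ← Subgroup.index] at hle
    have := hle.trans (Nat.factorial_le hk5)
    rw [show Nat.factorial 5 = 120 from rfl] at this
    omega

end


/-- Let Ω be a finite set whose size is not 8, and f : Ω → Fin b a labelling with b ≥ 2 whose fibres all have the same size a ≥ 2 (a partition into b blocks of size a). Then the even permutations preserving the partition — the intersection of the imprimitive wreath product S_a ≀ S_b with the alternating group — form a maximal subgroup of the alternating group on Ω. -/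
theorem result {Ω : Type*} [Fintype Ω] [DecidableEq Ω] (h8 : Fintype.card Ω ≠ 8) (a b : ℕ) (ha : 2 ≤ a) (hb : 2 ≤ b)
    (f : Ω → Fin b) (hf : ∀ i : Fin b, Nat.card {x : Ω // f x = i} = a) :
    IsCoatom ((Subgroup.closure {g : Equiv.Perm Ω | ∀ x y : Ω, f x = f y ↔ f (g x) = f (g y)} ⊓ alternatingGroup Ω).subgroupOf (alternatingGroup Ω)) := by
  rw [show {g : Equiv.Perm Ω | ∀ x y : Ω, f x = f y ↔ f (g x) = f (g y)} = ClMax99.preservingSet f
    from rfl, ClMax99.closure_preservingSet]
  obtain ⟨e, he⟩ := ClMax99.fibre_equiv hf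
  have hn : Fintype.card Ω = b * a := by simp [Fintype.card_congr e]
  refine ⟨fun h => ?_, fun K hK => ?_⟩
  · rw [Subgroup.subgroupOf_eq_top] at h
    let x := e.symm (⟨0, by omega⟩, ⟨0, by omega⟩)
    let y := e.symm (⟨0, by omega⟩, ⟨1, by omega⟩)
    let z := e.symm (⟨1, by omega⟩, ⟨0, by omega⟩)
    have hxy : x ≠ y := by simp [x, y]
    have hxz : x ≠ z := by simp [x, z]
    have hyz : y ≠ z := by simp [y, z]
    have ht := (h (ClMax99.tc_mem_alternating (z := z) hxy hxz)).1 x y
    rw [ClMax99.tc_apply_self hxz hyz] at ht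
    have : ClMax99.tc x y z y = x := by
      rw [ClMax99.tc, Equiv.Perm.mul_apply, Equiv.swap_apply_of_ne_of_ne hxy.symm hyz,
        Equiv.swap_apply_right]
    rw [this, ← he, ← he, ← he] at ht
    simp [x, y, z] at ht
  · let G := K.map (alternatingGroup Ω).subtype
    have hGA : G ≤ alternatingGroup Ω := Subgroup.map_subtype_le K
    have hKG : G.subgroupOf (alternatingGroup Ω) = K :=
      Subgroup.comap_map_eq_self_of_injective Subtype.val_injective K
    have hlt : ClMax99.partStab f ⊓ alternatingGroup Ω < G := by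
      refine lt_of_le_of_ne (fun g hg => ⟨⟨g, hg.2⟩, hK.le hg, rfl⟩) fun heq => hK.ne ?_
      rw [← hKG, heq]
    obtain ⟨g, hgG, hg⟩ := SetLike.exists_of_lt hlt
    have hgP : g ∉ ClMax99.partStab f := fun h => hg ⟨h, hGA hgG⟩
    rw [← hKG, Subgroup.subgroupOf_eq_top]
    by_cases ha3 : 3 ≤ a
    · exact ClMax99.alternatingGroup_le_of_three_le G e he hlt.le ha3 hgG hgP
    · have ha2 : a = 2 := by omega
      by_cases hb5 : 5 ≤ b
      · exact ClMax99.alternatingGroup_le_of_two G e he hlt.le ha2 hb5 hgG hgP
      · refine small_case e he ha2 ?_ G hlt hGA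
        subst ha2
        omega

end Cfsg.Agent.S5909
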