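import Cfsg.Statements.S5910
import Cfsg.Agent.ClMax99.Wreath

set_option autoImplicit false
open Cfsg

namespace Cfsg.Agent.S5910

open ClMax99 in
/-- The permutation of eight points given by a block permutation. -/
def dat (p : Equiv.Perm (Fin 4) × (Fin 4 → Equiv.Perm (Fin 2))) : Equiv.Perm (Fin 8) :=
  (finProdFinEquiv (m := 4) (n := 2)).permCongr (Equiv.prodShear p.1 p.2)

/-- The permutations of eight points preserving affine dependence for the binary structure. -/
def Aff (g : Equiv.Perm (Fin 8)) : Prop :=
  ∀ x y z : Fin 8, g (x ^^^ y ^^^ z) = g x ^^^ g y ^^^ g z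

instance : DecidablePred Aff := fun g => by unfold Aff; infer_instance

/-- The affine group of eight points. -/
def affGroup : Subgroup (Equiv.Perm (Fin 8)) where
  carrier := {g | Aff g}
  mul_mem' {g h} hg hh x y z := by simp [hh x y z, hg (h x) (h y) (h z)]
  one_mem' x y z := by simp
  inv_mem' {g} hg x y z := by
    apply g.injective
    rw [hg]
    simp

set_option maxRecDepth 100000 in
theorem even_dat_aff : ∀ p : Equiv.Perm (Fin 4) × (Fin 4 → Equiv.Perm (Fin 2)),
    Equiv.Perm.sign (dat p) = 1 → Aff (dat p) := by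
  decide +kernel

/-- An affine even permutation not preserving the pairs. -/
def wit : Equiv.Perm (Fin 8) := Equiv.swap 1 2 * Equiv.swap 5 6

theorem wit_spec : Aff wit ∧ Equiv.Perm.sign wit = 1 ∧
    ¬ ((finProdFinEquiv (m := 4) (n := 2)).symm (wit 0)).1 = ((finProdFinEquiv (m := 4) (n := 2)).symm (wit 1)).1 := by
  decide +kernel

theorem bad_spec : ¬ Aff (Equiv.swap (0 : Fin 8) 1 * Equiv.swap 0 2) ∧
    Equiv.Perm.sign (Equiv.swap (0 : Fin 8) 1 * Equiv.swap 0 2) = 1 := by
  decide +kernel


/-- Let Ω be a set with 8 elements and f : Ω → Fin 4 a labelling whose four fibres all have size 2 (a partition of the 8 points into 4 pairs). Then the group of even permutations preserving this partition, (S₂ ≀ S₄) ∩ A₈, is not a maximal subgroup of the alternating group A₈ (it lies in a subgroup isomorphic to the affine group AGL₃(2)). -/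
theorem result {Ω : Type*} [Fintype Ω] [DecidableEq Ω] (h8 : Fintype.card Ω = 8)
    (f : Ω → Fin 4) (hf : ∀ i : Fin 4, Nat.card {x : Ω // f x = i} = 2) :
    ¬ IsCoatom ((Subgroup.closure {g : Equiv.Perm Ω | ∀ x y : Ω, f x = f y ↔ f (g x) = f (g y)} ⊓ alternatingGroup Ω).subgroupOf (alternatingGroup Ω)) := by
  rw [show {g : Equiv.Perm Ω | ∀ x y : Ω, f x = f y ↔ f (g x) = f (g y)} = ClMax99.preservingSet f
    from rfl, ClMax99.closure_preservingSet]
  obtain ⟨e, he⟩ := ClMax99.fibre_equiv hf
  let u : Ω ≃ Fin 8 := e.trans finProdFinEquiv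
  let K : Subgroup (Equiv.Perm Ω) := affGroup.comap u.permCongrHom.toMonoidHom
  rintro ⟨-, hmax⟩
  have hsub : ∀ g ∈ ClMax99.partStab f, g ∈ alternatingGroup Ω → g ∈ K := by
    intro g hg hgA
    let F : Equiv.Perm (Fin 4) × (Fin 4 → Equiv.Perm (Fin 2)) → ClMax99.partStab f :=
      fun p => ⟨ClMax99.blockPerm e p, ClMax99.blockPerm_mem e he p⟩
    have hFi : Function.Injective F := by
      intro p q h
      have h' : ∀ i j, Equiv.prodShear p.1 p.2 (i, j) = Equiv.prodShear q.1 q.2 (i, j) := fun i j => by
        have := Equiv.ext_iff.1 (congrArg Subtype.val h) (e.symm (i, j))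
        simpa [F, ClMax99.blockPerm] using this
      exact Prod.ext (Equiv.ext fun i => congrArg Prod.fst (h' i 0))
        (funext fun i => Equiv.ext fun j => congrArg Prod.snd (h' i j))
    have hFb : Function.Bijective F := (Nat.bijective_iff_injective_and_card F).2 ⟨hFi, by
      rw [ClMax99.card_partStab e he (by norm_num), Nat.card_prod, Nat.card_pi, Finset.prod_const,
        Nat.card_perm, Nat.card_perm, Finset.card_univ, Fintype.card_fin, Nat.card_fin, Nat.card_fin]⟩
    obtain ⟨p, hp⟩ := hFb.2 ⟨g, hg⟩
    have hp' : ClMax99.blockPerm e p = g := congrArg Subtype.val hp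
    have heq : u.permCongrHom g = dat p := by
      subst hp'
      ext x
      simp [u, dat, ClMax99.blockPerm]
    show Aff (u.permCongrHom g)
    rw [heq]
    refine even_dat_aff p ?_
    rw [← heq, show u.permCongrHom g = u.permCongr g from rfl, Equiv.Perm.sign_permCongr]
    exact hgA
  have hle : (ClMax99.partStab f ⊓ alternatingGroup Ω).subgroupOf (alternatingGroup Ω) ≤
      K.subgroupOf (alternatingGroup Ω) := fun g hg => hsub _ hg.1 hg.2
  rcases hle.lt_or_eq with hlt | heq
  · have hK := Subgroup.subgroupOf_eq_top.1 (hmax _ hlt)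
    have hmem : u.symm.permCongr (Equiv.swap (0 : Fin 8) 1 * Equiv.swap 0 2) ∈ alternatingGroup Ω := by
      rw [Equiv.Perm.mem_alternatingGroup, Equiv.Perm.sign_permCongr]
      exact bad_spec.2
    refine bad_spec.1 ?_
    have : Aff (u.permCongr (u.symm.permCongr (Equiv.swap (0 : Fin 8) 1 * Equiv.swap 0 2))) := hK hmem
    convert this using 1
    ext x
    simp
  · have hmem : u.symm.permCongr wit ∈ alternatingGroup Ω := by
      rw [Equiv.Perm.mem_alternatingGroup, Equiv.Perm.sign_permCongr]
      exact wit_spec.2.1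
    have hwK : (⟨_, hmem⟩ : alternatingGroup Ω) ∈ K.subgroupOf (alternatingGroup Ω) := by
      show Aff (u.permCongr (u.symm.permCongr wit))
      convert wit_spec.1 using 1
      ext x
      simp
    rw [← heq] at hwK
    have h01 := (hwK.1 (u.symm 0) (u.symm 1)).1 (by rw [← he, ← he]; simp [u]; decide)
    rw [← he, ← he] at h01
    refine wit_spec.2.2 ?_
    simpa [u] using h01

end Cfsg.Agent.S5910
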