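import Cfsg.Statements.S5912
import Cfsg.Agent.ClMax99.SymSix

set_option autoImplicit false
open Cfsg

namespace Cfsg.Agent.S5912

theorem index_map_equiv {G K : Type*} [Group G] [Group K] (e : G ≃* K) (L : Subgroup G) :
    (L.map e.toMonoidHom).index = L.index := by
  rw [← Subgroup.index_comap_of_surjective (f := e.toMonoidHom) _ e.surjective,
    Subgroup.comap_map_eq_self_of_injective e.injective]

theorem map_map_conj {G K : Type*} [Group G] [Group K] (e : G ≃* K) (L : Subgroup G) (g : G) :
    (L.map (MulAut.conj g).toMonoidHom).map e.toMonoidHom =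
      (L.map e.toMonoidHom).map (MulAut.conj (e g)).toMonoidHom := by
  rw [Subgroup.map_map, Subgroup.map_map]
  congr 1
  ext x
  simp


/-- The symmetric group on a 6-element set Ω has exactly two conjugacy classes of subgroups of index 6: there are two non-conjugate subgroups of index 6 (a point stabilizer and a transitive subgroup isomorphic to S₅), and every subgroup of index 6 is conjugate to one of them. -/
theorem result {Ω : Type*} [Fintype Ω] [DecidableEq Ω] (h6 : Fintype.card Ω = 6) :
    ∃ H₁ H₂ : Subgroup (Equiv.Perm Ω), H₁.index = 6 ∧ H₂.index = 6 ∧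
      (¬ ∃ g : Equiv.Perm Ω, Subgroup.map (MulAut.conj g).toMonoidHom H₁ = H₂) ∧
      ∀ H : Subgroup (Equiv.Perm Ω), H.index = 6 →
        ∃ g : Equiv.Perm Ω, Subgroup.map (MulAut.conj g).toMonoidHom H₁ = H ∨ Subgroup.map (MulAut.conj g).toMonoidHom H₂ = H := by
  classical
  let e : Equiv.Perm (Fin 6) ≃* Equiv.Perm Ω := (Fintype.equivFinOfCardEq h6).symm.permCongrHom
  refine ⟨(MulAction.stabilizer (Equiv.Perm (Fin 6)) (0 : Fin 6)).map e.toMonoidHom,
    ClMax99.excSub.map e.toMonoidHom, ?_, ?_, ?_, ?_⟩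
  · rw [index_map_equiv, MulAction.index_stabilizer_of_transitive, Nat.card_fin]
  · rw [index_map_equiv, ClMax99.index_excSub]
  · rintro ⟨g, hg⟩
    obtain ⟨g, rfl⟩ := e.surjective g
    rw [← map_map_conj] at hg
    have := Subgroup.map_injective (f := e.toMonoidHom) e.injective hg
    rw [ClMax99.map_conj_stabilizer] at this
    exact ClMax99.excSub_not_stabilizer _ this.symm
  · intro H hH
    obtain ⟨H, rfl⟩ : ∃ L : Subgroup (Equiv.Perm (Fin 6)), L.map e.toMonoidHom = H :=
      ⟨H.comap e.toMonoidHom, Subgroup.map_comap_eq_self_of_surjective e.surjective H⟩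
    rw [index_map_equiv] at hH
    rcases ClMax99.six_classification H hH with ⟨a, rfl⟩ | ⟨g, rfl⟩
    · obtain ⟨g, rfl⟩ := MulAction.exists_smul_eq (Equiv.Perm (Fin 6)) (0 : Fin 6) a
      refine ⟨e g, Or.inl ?_⟩
      rw [← map_map_conj, ClMax99.map_conj_stabilizer]
      rfl
    · exact ⟨e g, Or.inr (map_map_conj e _ g).symm⟩

end Cfsg.Agent.S5912
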