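import Cfsg.Statements.S5913

set_option autoImplicit false
open Cfsg

namespace Cfsg.Agent.S5913

theorem exists_not_commute {S : Type*} [Group S] [IsSimpleGroup S] (hS : ¬ IsMulCommutative S)
    {a : S} (ha : a ≠ 1) : ∃ s : S, a * s ≠ s * a := by
  by_contra! h
  rcases Subgroup.Normal.eq_bot_or_eq_top (H := Subgroup.center S) inferInstance with hc | hc
  · have : a ∈ Subgroup.center S := Subgroup.mem_center_iff.2 fun s => (h s).symm
    rw [hc, Subgroup.mem_bot] at this
    exact ha this
  · exact hS ⟨⟨fun x y => ((Subgroup.mem_center_iff.1 (hc ▸ Subgroup.mem_top x : x ∈ Subgroup.center S)) y).symm⟩⟩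


/-- Let S be a non-abelian simple group and n a natural number. Every normal subgroup N of the direct power S^n (functions Fin n → S) is a subproduct: there is a set T of coordinates such that N consists exactly of the elements whose coordinates outside T are trivial. In particular the minimal normal subgroups of S^n are its n factors. -/
theorem result {S : Type*} [Group S] [IsSimpleGroup S] (hS : ¬ IsMulCommutative S) (n : ℕ)
    (N : Subgroup (Fin n → S)) [N.Normal] :
    ∃ T : Finset (Fin n), ∀ x : Fin n → S, x ∈ N ↔ ∀ i, i ∉ T → x i = 1 := by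
  classical
  refine ⟨Finset.univ.filter (fun i => ∃ x ∈ N, x i ≠ 1), fun x => ⟨?_, ?_⟩⟩
  · intro hx i hi
    by_contra h
    exact hi (Finset.mem_filter.2 ⟨Finset.mem_univ _, x, hx, h⟩)
  · intro hx
    refine Subgroup.pi_mem_of_mulSingle_mem x fun i => ?_
    by_cases hi : ∃ y ∈ N, y i ≠ 1
    · obtain ⟨y, hy, hyi⟩ := hi
      let M : Subgroup S := N.comap (MonoidHom.mulSingle (fun _ : Fin n => S) i)
      have hM : M.Normal := inferInstance
      obtain ⟨s, hs⟩ := exists_not_commute hS hyi
      have hmem : y i * s * (y i)⁻¹ * s⁻¹ ∈ M := by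
        show Pi.mulSingle i (y i * s * (y i)⁻¹ * s⁻¹) ∈ N
        have e : Pi.mulSingle i (y i * s * (y i)⁻¹ * s⁻¹) =
            y * (Pi.mulSingle i s * y⁻¹ * (Pi.mulSingle i s)⁻¹) := by
          funext j
          rcases eq_or_ne j i with rfl | hj
          · simp [mul_assoc]
          · simp [hj]
        rw [e]
        exact N.mul_mem hy (Subgroup.Normal.conj_mem inferInstance _ (N.inv_mem hy) _)
      rcases Subgroup.Normal.eq_bot_or_eq_top hM with h | h
      · rw [h, Subgroup.mem_bot] at hmem
        exact absurd (mul_inv_eq_one.1 hmem |> mul_inv_eq_iff_eq_mul.1) hs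
      · have : x i ∈ M := h ▸ Subgroup.mem_top _
        exact this
    · have : x i = 1 := hx i (fun h => hi (Finset.mem_filter.1 h).2)
      rw [this, Pi.mulSingle_one]
      exact N.one_mem

end Cfsg.Agent.S5913
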