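import Cfsg.Statements.S5914

set_option autoImplicit false
open Cfsg

namespace Cfsg.Agent.S5914

/-- A type in the lowest universe to carry a transported group structure. -/
structure Carrier (m : ℕ) : Type where
  val : Fin m

section
variable {G : Type*} [Group G] [Finite G]

theorem forward [Nontrivial G] (hcs : ∀ H : Subgroup G, H.Characteristic → H = ⊥ ∨ H = ⊤) :
    ∃ (S : Type) (_ : Group S) (_ : IsSimpleGroup S) (n : ℕ), 1 ≤ n ∧ Nonempty (G ≃* (Fin n → S)) := by
  classical
  have : Fintype G := Fintype.ofFinite G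
  let P : ℕ → Prop := fun c => ∃ N : Subgroup G, N.Normal ∧ N ≠ ⊥ ∧ Nat.card N = c
  have hP : ∃ c, P c := ⟨_, ⊤, inferInstance, top_ne_bot, rfl⟩
  obtain ⟨N, hN, hN0, hNc⟩ := Nat.find_spec hP
  have hmin : ∀ K : Subgroup G, K.Normal → K ≠ ⊥ → Nat.card N ≤ Nat.card K := fun K hK hK0 =>
    hNc ▸ Nat.find_min' hP ⟨K, hK, hK0, rfl⟩
  let Q : ℕ → Prop := fun k => ∃ φ : (Fin k → N) →* G, Function.Injective φ ∧ φ.range.Normal
  have hQ0 : Q 0 := ⟨1, fun a b _ => Subsingleton.elim a b, by rw [MonoidHom.range_one]; infer_instance⟩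
  have hN2 : 2 ≤ Nat.card N := by
    have : Nontrivial N := (Subgroup.nontrivial_iff_ne_bot N).2 hN0
    exact Finite.one_lt_card
  have hbound : ∀ k, Q k → k ≤ Nat.card G := by
    rintro k ⟨φ, hφ, -⟩
    have h := Nat.card_le_card_of_injective φ hφ
    rw [Nat.card_pi, Finset.prod_const, Finset.card_univ, Fintype.card_fin] at h
    exact ((Nat.lt_pow_self hN2).le).trans h
  have hQk := Nat.findGreatest_spec (P := Q) (Nat.zero_le (Nat.card G)) hQ0
  set k := Nat.findGreatest Q (Nat.card G)
  have hstop : ¬ Q (k + 1) := fun h => by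
    have := Nat.le_findGreatest (hbound _ h) h
    omega
  obtain ⟨φ, hφ, hM⟩ := hQk
  have htop : φ.range = ⊤ := by
    by_contra hne
    have : ∃ α : G ≃* G, ¬ N.map α.toMonoidHom ≤ φ.range := by
      by_contra! hall
      let C : Subgroup G := ⨆ α : G ≃* G, N.map α.toMonoidHom
      have hC : C.Characteristic := by
        refine Subgroup.characteristic_iff_map_le.2 fun β => ?_
        simp only [C, Subgroup.map_iSup, Subgroup.map_map]
        exact iSup_le fun α => le_iSup_of_le (α.trans β) (le_of_eq rfl)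
      rcases hcs C hC with h | h
      · apply hN0
        rw [eq_bot_iff, ← h]
        refine le_iSup_of_le (MulEquiv.refl G) ?_
        simp
      · exact hne (top_le_iff.1 (h ▸ iSup_le hall))
    obtain ⟨α, hα⟩ := this
    set A := N.map α.toMonoidHom with hA
    have hAn : A.Normal := hN.map _ α.surjective
    have hAc : Nat.card A = Nat.card N :=
      (Nat.card_congr (N.equivMapOfInjective α.toMonoidHom α.injective).toEquiv).symm
    have hdis : A ⊓ φ.range = ⊥ := by
      by_contra h0
      have h1 := hmin _ (inferInstance : (A ⊓ φ.range).Normal) h0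
      exact hα (inf_eq_left.1 (Subgroup.eq_of_le_of_card_ge inf_le_left (by omega)))
    have hcomm : ∀ a ∈ A, ∀ b ∈ φ.range, a * b = b * a := fun a ha b hb =>
      Subgroup.commute_of_normal_of_disjoint A φ.range hAn hM (disjoint_iff.2 hdis) a b ha hb
    let ψ : N →* G := α.toMonoidHom.comp N.subtype
    have hψ : ∀ x, ψ x ∈ A := fun x => ⟨x, x.2, rfl⟩
    have hψr : ψ.range = A := by
      ext y
      constructor
      · rintro ⟨x, rfl⟩; exact hψ x
      · rintro ⟨x, hx, rfl⟩; exact ⟨⟨x, hx⟩, rfl⟩
    have hc : ∀ (a : N) (b : Fin k → N), Commute (ψ a) (φ b) := fun a b =>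
      hcomm _ (hψ a) _ (MonoidHom.mem_range.2 ⟨b, rfl⟩)
    let χ : (Fin (k + 1) → N) →* G :=
      (ψ.noncommCoprod φ hc).comp
        { toFun := fun x => (x 0, fun i => x i.succ)
          map_one' := rfl
          map_mul' := fun _ _ => rfl }
    refine hstop ⟨χ, ?_, ?_⟩
    · rw [injective_iff_map_eq_one]
      intro x hx
      simp only [χ, MonoidHom.comp_apply, MonoidHom.coe_mk, OneHom.coe_mk,
        MonoidHom.noncommCoprod_apply] at hx
      have h1 : ψ (x 0) ∈ A ⊓ φ.range := ⟨hψ _, by
        rw [eq_inv_of_mul_eq_one_left hx]; exact φ.range.inv_mem ⟨_, rfl⟩⟩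
      rw [hdis, Subgroup.mem_bot] at h1
      rw [h1, one_mul] at hx
      have h0 : x 0 = 1 := Subtype.ext (α.injective (by simpa [ψ] using h1))
      have hs : (fun i : Fin k => x i.succ) = 1 := hφ (by rw [hx, map_one])
      funext i
      refine Fin.cases h0 (fun j => congrFun hs j) i
    · have hr : χ.range = A ⊔ φ.range := by
        rw [← hψr, ← MonoidHom.noncommCoprod_range ψ φ hc]
        ext g
        constructor
        · rintro ⟨y, rfl⟩; exact ⟨_, rfl⟩
        · rintro ⟨y, rfl⟩; exact ⟨Fin.cons y.1 y.2, by simp [χ]⟩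
      rw [hr]
      exact Subgroup.sup_normal A φ.range
  let e : (Fin k → N) ≃* G := MulEquiv.ofBijective φ ⟨hφ, MonoidHom.range_eq_top.1 htop⟩
  have hk : 1 ≤ k := by
    by_contra h
    have : k = 0 := by omega
    have : IsEmpty (Fin k) := this ▸ Fin.isEmpty'
    exact (not_nontrivial_iff_subsingleton.2 e.symm.toEquiv.subsingleton) ‹Nontrivial G›
  have : Nontrivial N := (Subgroup.nontrivial_iff_ne_bot N).2 hN0
  have hsimp : IsSimpleGroup N := by
    refine { eq_bot_or_eq_top_of_normal := fun K hK => ?_ }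
    by_contra! hK'
    let i0 : Fin k := ⟨0, hk⟩
    let ι : N →* G := φ.comp (MonoidHom.mulSingle (fun _ : Fin k => N) i0)
    have hι : Function.Injective ι := hφ.comp (fun a b h => by simpa using congrFun h i0)
    have hnorm : (K.map ι).Normal := by
      constructor
      rintro _ ⟨x, hx, rfl⟩ g
      obtain ⟨y, rfl⟩ := e.surjective g
      refine ⟨y i0 * x * (y i0)⁻¹, hK.conj_mem x hx _, ?_⟩
      show φ (Pi.mulSingle i0 _) = φ y * φ (Pi.mulSingle i0 x) * (φ y)⁻¹
      rw [← map_inv, ← map_mul, ← map_mul]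
      congr 1
      funext j
      rcases eq_or_ne j i0 with rfl | hj
      · simp
      · simp [hj]
    have h1 := hmin _ hnorm (fun h => hK'.1 ((Subgroup.map_eq_bot_iff_of_injective _ hι).1 h))
    rw [← Nat.card_congr (K.equivMapOfInjective ι hι).toEquiv] at h1
    exact hK'.2 (Subgroup.eq_top_of_le_card K h1)
  let eN : Carrier (Nat.card N) ≃ N :=
    { toFun := fun a => (Finite.equivFin N).symm a.val
      invFun := fun a => ⟨Finite.equivFin N a⟩
      left_inv := fun a => by simp
      right_inv := fun a => by simp }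
  let : Group (Carrier (Nat.card N)) := eN.group
  let u : Carrier (Nat.card N) ≃* N := eN.mulEquiv
  exact ⟨Carrier (Nat.card N), inferInstance, u.isSimpleGroup, k, hk,
    ⟨e.symm.trans (MulEquiv.piCongrRight fun _ => u.symm)⟩⟩

end

theorem backward {S : Type} [Group S] [IsSimpleGroup S] (n : ℕ) (H : Subgroup (Fin n → S))
    (hH : H.Characteristic) : H = ⊥ ∨ H = ⊤ := by
  classical
  rcases eq_or_ne H ⊥ with h | h
  · exact Or.inl h
  right
  obtain ⟨x, hx, hx1⟩ := H.ne_bot_iff_exists_ne_one.1 h |> fun ⟨a, ha⟩ =>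
    (⟨a.1, a.2, fun e => ha (Subtype.ext e)⟩ : ∃ a, a ∈ H ∧ a ≠ 1)
  obtain ⟨i, hi⟩ := Function.ne_iff.1 hx1
  have hinv : ∀ θ : (Fin n → S) ≃* (Fin n → S), ∀ y ∈ H, θ y ∈ H := fun θ y hy =>
    (Subgroup.characteristic_iff_map_le.1 hH θ) ⟨y, hy, rfl⟩
  have hperm : ∀ (σ : Equiv.Perm (Fin n)) y, y ∈ H → (fun l => y (σ l)) ∈ H := fun σ y hy =>
    hinv { toFun := fun y l => y (σ l), invFun := fun y l => y (σ.symm l)
           left_inv := fun y => by simp, right_inv := fun y => by simp
           map_mul' := fun _ _ => rfl } y hy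
  -- it is enough to find one full coordinate subgroup
  suffices hfull : ∃ j, ∀ s, Pi.mulSingle j s ∈ H by
    obtain ⟨j, hj⟩ := hfull
    rw [eq_top_iff]
    intro y _
    refine Subgroup.pi_mem_of_mulSingle_mem y fun l => ?_
    convert hperm (Equiv.swap j l) _ (hj (y l)) using 1
    funext l'
    rcases eq_or_ne l' l with rfl | hl
    · simp
    · rw [Pi.mulSingle_eq_of_ne hl, Pi.mulSingle_eq_of_ne]
      intro hc
      exact hl ((Equiv.swap j l).injective (hc.trans (Equiv.swap_apply_right j l).symm))
  suffices hone : ∃ j s, s ≠ (1 : S) ∧ Pi.mulSingle j s ∈ H by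
    obtain ⟨j, s, hs, hsH⟩ := hone
    refine ⟨j, fun t => ?_⟩
    have : H.Normal := Subgroup.normal_of_characteristic H
    rcases Subgroup.Normal.eq_bot_or_eq_top
      (inferInstance : (H.comap (MonoidHom.mulSingle (fun _ : Fin n => S) j)).Normal) with h0 | h0
    · have : s ∈ H.comap (MonoidHom.mulSingle (fun _ : Fin n => S) j) := hsH
      rw [h0, Subgroup.mem_bot] at this
      exact absurd this hs
    · have : t ∈ H.comap (MonoidHom.mulSingle (fun _ : Fin n => S) j) := h0 ▸ Subgroup.mem_top t
      exact this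
  by_cases hcen : ∀ s, x i * s = s * x i
  · -- then `S` is commutative
    have hcomm : ∀ a b : S, a * b = b * a := by
      rcases Subgroup.Normal.eq_bot_or_eq_top (H := Subgroup.center S) inferInstance with hc | hc
      · have : x i ∈ Subgroup.center S := Subgroup.mem_center_iff.2 fun s => (hcen s).symm
        rw [hc, Subgroup.mem_bot] at this
        exact absurd this hi
      · intro a b
        exact ((Subgroup.mem_center_iff.1 (hc ▸ Subgroup.mem_top a : a ∈ Subgroup.center S)) b).symm
    by_cases hj : ∃ j, j ≠ i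
    · obtain ⟨j, hj⟩ := hj
      refine ⟨j, x i, hi, ?_⟩
      let θ : (Fin n → S) ≃* (Fin n → S) :=
        { toFun := fun y => y * Pi.mulSingle j (y i)
          invFun := fun y => y * Pi.mulSingle j (y i)⁻¹
          left_inv := fun y => by
            funext l
            rcases eq_or_ne l j with rfl | hl
            · simp [hj.symm]
            · simp [hl, hj.symm]
          right_inv := fun y => by
            funext l
            rcases eq_or_ne l j with rfl | hl
            · simp [hj.symm]
            · simp [hl, hj.symm]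
          map_mul' := fun y z => by
            funext l
            rcases eq_or_ne l j with rfl | hl
            · simp only [Pi.mul_apply, Pi.mulSingle_eq_same]
              rw [mul_assoc, mul_assoc, ← mul_assoc (z l) (y i), hcomm (z l) (y i), mul_assoc]
            · simp [hl] }
      have h1 := hinv θ x hx
      have h2 := H.mul_mem (H.inv_mem hx) h1
      simpa [θ, ← mul_assoc] using h2
    · push Not at hj
      refine ⟨i, x i, hi, ?_⟩
      convert hx using 1
      funext l
      rw [hj l, Pi.mulSingle_eq_same]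
  · push Not at hcen
    obtain ⟨s, hs⟩ := hcen
    refine ⟨i, x i * s * (x i)⁻¹ * s⁻¹, fun h => hs (mul_inv_eq_iff_eq_mul.1 (mul_inv_eq_one.1 h)), ?_⟩
    have : H.Normal := Subgroup.normal_of_characteristic H
    have e : Pi.mulSingle i (x i * s * (x i)⁻¹ * s⁻¹) =
        x * (Pi.mulSingle i s * x⁻¹ * (Pi.mulSingle i s)⁻¹) := by
      funext l
      rcases eq_or_ne l i with rfl | hl
      · simp [mul_assoc]
      · simp [hl]
    rw [e]
    exact H.mul_mem hx (Subgroup.Normal.conj_mem inferInstance _ (H.inv_mem hx) _)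


/-- A non-trivial finite group G is characteristically simple (its only characteristic subgroups are 1 and G) if and only if G is isomorphic to a direct power S^n (n ≥ 1) of some simple group S (possibly cyclic of prime order). -/
theorem result {G : Type*} [Group G] [Finite G] [Nontrivial G] :
    (∀ H : Subgroup G, H.Characteristic → H = ⊥ ∨ H = ⊤) ↔
    ∃ (S : Type) (_ : Group S) (_ : IsSimpleGroup S) (n : ℕ), 1 ≤ n ∧ Nonempty (G ≃* (Fin n → S)) := by
  refine ⟨forward, ?_⟩
  rintro ⟨S, hS, hS', n, -, ⟨e⟩⟩ H hH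
  have hc : (H.map e.toMonoidHom).Characteristic := by
    refine Subgroup.characteristic_iff_map_le.2 fun θ => ?_
    have h := Subgroup.characteristic_iff_map_le.1 hH ((e.trans θ).trans e.symm)
    rintro _ ⟨_, ⟨y, hy, rfl⟩, rfl⟩
    exact ⟨_, h ⟨y, hy, rfl⟩, by simp⟩
  rcases backward n _ hc with h | h
  · left; exact (Subgroup.map_eq_bot_iff_of_injective _ e.injective).1 h
  · right
    apply Subgroup.map_injective (f := e.toMonoidHom) e.injective
    rw [h, Subgroup.map_top_of_surjective _ e.surjective]

end Cfsg.Agent.S5914
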