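import Cfsg.Statements.S5938
import Cfsg.Agent.ClMax99.PSLMax
import Cfsg.Agent.S0803

set_option autoImplicit false
open Cfsg

namespace Cfsg.Agent.S5938

open Cfsg.Agent.Dickson Cfsg.Agent.ClMax99 in

/-- Let p be a prime with p ≡ ±1 (mod 8) and F a field with p elements. Then PSL_2(F) has a maximal subgroup isomorphic to the symmetric group S_4. -/
theorem result {F : Type*} [Field F] [Fintype F] (p : ℕ) [Fact p.Prime] (hF : Fintype.card F = p) (hp : p % 8 = 1 ∨ p % 8 = 7) : ∃ H : Subgroup (Matrix.ProjectiveSpecialLinearGroup (Fin 2) F), IsCoatom H ∧ Nonempty (H ≃* Equiv.Perm (Fin 4)) := by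
  haveI : CharP F p := (CharP.charP_iff_prime_eq_zero Fact.out).mpr
    (hF ▸ FiniteField.cast_card_eq_zero F)
  have hpp : p.Prime := Fact.out
  have h7 : 7 ≤ p := by
    have := hpp.two_le
    omega
  have hq2 : p ^ 2 % 16 = 1 := by
    rw [Nat.pow_mod]
    have : p % 16 = 1 ∨ p % 16 = 7 ∨ p % 16 = 9 ∨ p % 16 = 15 := by omega
    rcases this with h | h | h | h <;> rw [h]
  obtain ⟨H, ⟨e⟩⟩ := (Cfsg.Agent.S0803.result hF).mpr hq2
  refine ⟨H, ?_, ⟨e⟩⟩
  have hH : Nat.card H = 24 := by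
    rw [Nat.card_congr e.toEquiv, Nat.card_perm, Nat.card_fin]; rfl
  have hG := card_PSL_two_odd (K := F) (by
    rw [Nat.card_eq_fintype_card, hF]; exact Nat.odd_iff.mpr (by omega))
  rw [Nat.card_eq_fintype_card (α := F), hF] at hG
  have h49 : 49 ≤ p ^ 2 := Nat.le_trans (by norm_num) (Nat.pow_le_pow_left h7 2)
  refine isCoatom_of_card ?_ fun M hle hM => ?_
  · show Nat.card H < Nat.card (PSL2 F)
    have : 7 * 48 ≤ p * (p ^ 2 - 1) := Nat.mul_le_mul h7 (by omega)
    omega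
  have hdvd := Subgroup.card_dvd_of_le hle
  rcases overgroup_cases p hle hM (sqWit_S4.map e.symm.toMonoidHom e.symm.injective)
    ((comWit_S4 (Nat.odd_iff.mpr (by omega))).map e.symm.toMonoidHom e.symm.injective)
    with h | ⟨t, m, ht, hm, hcard, -⟩
  · rw [hH] at hdvd ⊢
    rcases h with h | h | h <;> rw [h] at hdvd ⊢ <;> norm_num at hdvd
  · rw [hF] at hcard
    exact absurd (hcard ▸ hpp) (Nat.Prime.not_prime_pow hm)

end Cfsg.Agent.S5938
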