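import Cfsg.Statements.S5939
import Cfsg.Agent.ClMax99.PSLMax
import Cfsg.Agent.S0804

set_option autoImplicit false
open Cfsg

namespace Cfsg.Agent.S5939

open Cfsg.Agent.Dickson Cfsg.Agent.ClMax99 in

/-- Let p be a prime and F a finite field of characteristic p such that either F has p elements and p ≡ ±1 (mod 10), or F has p² elements and p ≡ ±3 (mod 10). Then PSL_2(F) has a maximal subgroup isomorphic to the alternating group A_5. -/
theorem result {F : Type*} [Field F] [Fintype F] (p : ℕ) [Fact p.Prime] [CharP F p] (h : (Fintype.card F = p ∧ (p % 10 = 1 ∨ p % 10 = 9)) ∨ (Fintype.card F = p ^ 2 ∧ (p % 10 = 3 ∨ p % 10 = 7))) : ∃ H : Subgroup (Matrix.ProjectiveSpecialLinearGroup (Fin 2) F), IsCoatom H ∧ Nonempty (H ≃* alternatingGroup (Fin 5)) := by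
  have hpp : p.Prime := Fact.out
  have hodd : p % 2 = 1 := by omega
  have hmod : (p % 5 = 1 ∨ p % 5 = 4) ∧ Fintype.card F = p ∧ 11 ≤ p ∨
      (p % 5 = 2 ∨ p % 5 = 3) ∧ Fintype.card F = p ^ 2 ∧ 3 ≤ p := by
    rcases h with ⟨h, h'⟩ | ⟨h, h'⟩
    · left
      refine ⟨by omega, h, ?_⟩
      by_contra hc
      have := hpp.two_le
      interval_cases p <;> first | omega | norm_num at hpp
    · right
      exact ⟨by omega, h, by omega⟩
  have h5q : 5 ∣ Fintype.card F * (Fintype.card F ^ 2 - 1) := by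
    apply dvd_mul_of_dvd_right
    have : Fintype.card F ^ 2 % 5 = 1 := by
      rcases hmod with ⟨h5, h, -⟩ | ⟨h5, h, -⟩ <;> rw [h, Nat.pow_mod]
      · rcases h5 with h5 | h5 <;> rw [h5]
      · rcases h5 with h5 | h5 <;> simp [Nat.pow_mod, h5]
    omega
  obtain ⟨H, ⟨e⟩⟩ := (Cfsg.Agent.S0804.result rfl).mpr h5q
  refine ⟨H, ?_, ⟨e⟩⟩
  have hH : Nat.card H = 60 := by
    rw [Nat.card_congr e.toEquiv, nat_card_alternatingGroup, Nat.card_fin]; rfl
  have hG := card_PSL_two_odd (K := F) (by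
    rw [Nat.card_eq_fintype_card]
    rcases hmod with ⟨-, h, -⟩ | ⟨-, h, -⟩ <;> rw [h]
    · exact Nat.odd_iff.mpr hodd
    · exact (Nat.odd_iff.mpr hodd).pow)
  rw [Nat.card_eq_fintype_card (α := F)] at hG
  have hq9 : 9 ≤ Fintype.card F := by
    rcases hmod with ⟨-, h, h'⟩ | ⟨-, h, h'⟩ <;> rw [h]
    · omega
    · exact Nat.le_trans (by norm_num) (Nat.pow_le_pow_left h' 2)
  refine isCoatom_of_card ?_ fun M hle hM => ?_
  · show Nat.card H < Nat.card (PSL2 F)
    have h81 : 81 ≤ Fintype.card F ^ 2 := Nat.le_trans (by norm_num) (Nat.pow_le_pow_left hq9 2)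
    have : 9 * 80 ≤ Fintype.card F * (Fintype.card F ^ 2 - 1) := Nat.mul_le_mul hq9 (by omega)
    omega
  have hdvd := Subgroup.card_dvd_of_le hle
  rw [hH] at hdvd ⊢
  rcases overgroup_cases p hle hM (sqWit_A5.map e.symm.toMonoidHom e.symm.injective)
    ((comWit_A5 p).map e.symm.toMonoidHom e.symm.injective) with h | ⟨t, m, ht, hm, hcard, hM'⟩
  · rcases h with h | h | h <;> rw [h] at hdvd ⊢ <;> norm_num at hdvd
  · exfalso
    rcases hmod with ⟨-, h, -⟩ | ⟨h5, h, -⟩ <;> rw [h] at hcard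
    · exact (Nat.Prime.not_prime_pow hm) (hcard ▸ hpp)
    · have htp : t = p := by
        obtain ⟨a, -, rfl⟩ := (Nat.dvd_prime_pow hpp).mp (hcard ▸ dvd_pow_self t (by omega))
        rw [← pow_mul] at hcard
        have := Nat.pow_right_injective hpp.two_le hcard
        rcases a with _ | _ | a
        · simp at ht
        · rw [pow_one]
        · nlinarith
      subst htp
      have h5d : 5 ∣ t * (t ^ 2 - 1) := by
        have h5M : 5 ∣ Nat.card M := (show (5 : ℕ) ∣ 60 by norm_num).trans hdvd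
        rcases hM' with h | h
        · exact h ▸ h5M.mul_left _
        · exact h ▸ h5M
      rcases Nat.prime_five.dvd_mul.mp h5d with h' | h'
      · omega
      · have : t ^ 2 % 5 = 4 := by
          rw [Nat.pow_mod]
          rcases h5 with h5 | h5 <;> rw [h5]
        omega

end Cfsg.Agent.S5939
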