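import Cfsg.Statements.S5940
import Cfsg.Agent.ClMax99.PSLMax
import Cfsg.Agent.S0802

set_option autoImplicit false
open Cfsg

namespace Cfsg.Agent.S5940

open Cfsg.Agent.Dickson Cfsg.Agent.ClMax99 in

/-- Let p ≥ 5 be a prime with p ≡ ±3 (mod 8) and p ≢ ±1 (mod 10), and F a field with p elements. Then PSL_2(F) has a maximal subgroup isomorphic to the alternating group A_4. -/
theorem result {F : Type*} [Field F] [Fintype F] (p : ℕ) [Fact p.Prime] (hF : Fintype.card F = p) (h5 : 5 ≤ p) (h8 : p % 8 = 3 ∨ p % 8 = 5) (h10 : p % 10 ≠ 1 ∧ p % 10 ≠ 9) : ∃ H : Subgroup (Matrix.ProjectiveSpecialLinearGroup (Fin 2) F), IsCoatom H ∧ Nonempty (H ≃* alternatingGroup (Fin 4)) := by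
  haveI : CharP F p := (CharP.charP_iff_prime_eq_zero Fact.out).mpr
    (hF ▸ FiniteField.cast_card_eq_zero F)
  have hpp : p.Prime := Fact.out
  have hF1 : Fintype.card F = p ^ 1 := by rw [hF, pow_one]
  obtain ⟨H, ⟨e⟩⟩ := (Cfsg.Agent.S0802.result p 1 hF1).mpr (by omega)
  refine ⟨H, ?_, ⟨e⟩⟩
  have hH : Nat.card H = 12 := by
    rw [Nat.card_congr e.toEquiv, nat_card_alternatingGroup, Nat.card_fin]; rfl
  have hG := card_PSL_two_odd (K := F) (by
    rw [Nat.card_eq_fintype_card, hF]; exact Nat.odd_iff.mpr (by omega))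
  rw [Nat.card_eq_fintype_card (α := F), hF] at hG
  have h25 : 25 ≤ p ^ 2 := Nat.le_trans (by norm_num) (Nat.pow_le_pow_left h5 2)
  refine isCoatom_of_card ?_ fun M hle hM => ?_
  · show Nat.card H < Nat.card (PSL2 F)
    have : 5 * 24 ≤ p * (p ^ 2 - 1) := Nat.mul_le_mul h5 (by omega)
    omega
  rcases overgroup_cases p hle hM (sqWit_A4.map e.symm.toMonoidHom e.symm.injective)
    ((comWit_A4 (Nat.odd_iff.mpr (by omega))).map e.symm.toMonoidHom e.symm.injective)
    with h | ⟨t, m, ht, hm, hcard, -⟩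
  · rw [hH]
    rcases h with h | h | h
    · exact h.le
    · exfalso
      obtain ⟨c, hc⟩ := M.card_subgroup_dvd_card
      rw [hc, h] at hG
      have h16 : 16 ∣ p * (p ^ 2 - 1) := ⟨3 * c, by rw [← hG]; ring⟩
      have hcop : Nat.Coprime 16 p := by
        have : Nat.Coprime 2 p := (Nat.coprime_primes Nat.prime_two hpp).mpr (by omega)
        exact this.pow_left 4
      have := hcop.dvd_of_dvd_mul_left h16
      have : p ^ 2 % 16 = 9 := by
        rw [Nat.pow_mod]
        have : p % 16 = 3 ∨ p % 16 = 5 ∨ p % 16 = 11 ∨ p % 16 = 13 := by omega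
        rcases this with h | h | h | h <;> rw [h]
      omega
    · exfalso
      obtain ⟨c, hc⟩ := M.card_subgroup_dvd_card
      rw [hc, h] at hG
      have h5d : 5 ∣ p * (p ^ 2 - 1) := ⟨24 * c, by rw [← hG]; ring⟩
      rcases Nat.prime_five.dvd_mul.mp h5d with h' | h'
      · obtain rfl : p = 5 := ((Nat.prime_dvd_prime_iff_eq Nat.prime_five hpp).mp h').symm
        norm_num at hG
        obtain rfl : c = 1 := by omega
        exact hM (Subgroup.eq_top_of_le_card M (by rw [hc, h]))
      · have : p ^ 2 % 5 = 4 := by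
          rw [Nat.pow_mod]
          have hp5 : p % 5 = 2 ∨ p % 5 = 3 ∨ p % 5 = 0 := by omega
          rcases hp5 with h | h | h
          · rw [h]
          · rw [h]
          · obtain rfl : p = 5 :=
              ((Nat.prime_dvd_prime_iff_eq Nat.prime_five hpp).mp (Nat.dvd_of_mod_eq_zero h)).symm
            norm_num at h'
        omega
  · rw [hF] at hcard
    exact absurd (hcard ▸ hpp) (Nat.Prime.not_prime_pow hm)

end Cfsg.Agent.S5940
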