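import Cfsg.Statements.S5941
import Cfsg.Agent.ClMax99.PSLSub

set_option autoImplicit false
open Cfsg

namespace Cfsg.Agent.S5941

open Cfsg.Agent.Dickson Cfsg.Agent.ClMax99 in

/-- Let K and F be finite fields of odd characteristic with #F = (#K)². Then PSL_2(F) has a maximal subgroup isomorphic to PGL_2(K). -/
theorem result {F K : Type*} [Field F] [Fintype F] [Field K] [Fintype K] (q : ℕ) (hK : Fintype.card K = q) (hF : Fintype.card F = q ^ 2) (hq : Odd q) : ∃ H : Subgroup (Matrix.ProjectiveSpecialLinearGroup (Fin 2) F), IsCoatom H ∧ Nonempty (H ≃* Matrix.ProjGenLinGroup (Fin 2) K) := by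
  subst hK
  obtain ⟨p, hcp⟩ := CharP.exists K
  haveI := hcp
  haveI : Fact p.Prime := ⟨CharP.char_is_prime K p⟩
  haveI := charP_of_card hF p
  obtain ⟨f⟩ := nonempty_ringHom p hF
  obtain ⟨H, ⟨e⟩⟩ := exists_PGL_le hF hq f
  refine ⟨H, ?_, ⟨e⟩⟩
  have hpodd : Odd p := by
    obtain ⟨n, -, hn⟩ := FiniteField.card K p
    rw [hn] at hq
    exact (Nat.odd_pow_iff n.ne_zero).mp hq
  have h1 : 1 < Fintype.card K := Fintype.one_lt_card
  have h3 : 3 ≤ Fintype.card K := by rcases hq with ⟨k, hk⟩; omega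
  have hwit := wit_PGL2 (K := K) p (by
    rw [Nat.card_eq_fintype_card]
    rcases Nat.lt_or_ge (Fintype.card K) 4 with h | h
    · exact Or.inr ⟨by omega, hpodd⟩
    · exact Or.inl h)
  have hH : Nat.card H = Fintype.card K * (Fintype.card K ^ 2 - 1) := by
    rw [Nat.card_congr e.toEquiv, card_PGL_two, Nat.card_eq_fintype_card]
  have hG := card_PSL_two_odd (K := F) (by
    rw [Nat.card_eq_fintype_card, hF]; exact hq.pow)
  rw [Nat.card_eq_fintype_card (α := F), hF] at hG
  refine isCoatom_of_card ?_ fun M hle hM => ?_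
  · rw [hH]
    have h4 : 9 ≤ Fintype.card K ^ 2 := Nat.le_trans (by norm_num) (Nat.pow_le_pow_left h3 2)
    have h5 : 80 ≤ (Fintype.card K ^ 2) ^ 2 - 1 := by
      have := Nat.pow_le_pow_left h4 2
      omega
    have h6 : Fintype.card K ≤ Fintype.card K ^ 2 := Nat.le_self_pow two_ne_zero _
    have h7 : Fintype.card K ^ 2 ≤ (Fintype.card K ^ 2) ^ 2 := Nat.le_self_pow two_ne_zero _
    have h8 : 2 * Fintype.card K < Fintype.card K ^ 2 := by nlinarith
    have : 2 * Fintype.card K * (Fintype.card K ^ 2 - 1) <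
        Fintype.card K ^ 2 * ((Fintype.card K ^ 2) ^ 2 - 1) :=
      Nat.mul_lt_mul_of_lt_of_le h8 (Nat.sub_le_sub_right h7 1) (by omega)
    rw [mul_assoc] at this
    omega
  have hdvd := Subgroup.card_dvd_of_le hle
  have hle' : Nat.card H ≤ Nat.card M := Nat.le_of_dvd Nat.card_pos hdvd
  rw [hH] at hle' hdvd ⊢
  have h24 : 24 ≤ Fintype.card K * (Fintype.card K ^ 2 - 1) := by
    have h4 : 9 ≤ Fintype.card K ^ 2 := Nat.le_trans (by norm_num) (Nat.pow_le_pow_left h3 2)
    calc 24 ≤ 3 * 8 := le_rfl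
      _ ≤ _ := Nat.mul_le_mul h3 (by omega)
  rcases overgroup_cases p hle hM (hwit.1.map e.symm.toMonoidHom e.symm.injective)
    (hwit.2.map e.symm.toMonoidHom e.symm.injective) with h | ⟨t, m, ht, hm, hcard, hM'⟩
  · rcases h with h | h | h
    · omega
    · omega
    · rw [h] at hdvd hle' ⊢
      have hK5 : Fintype.card K ≤ 3 := by
        by_contra hc
        have h5 : 5 ≤ Fintype.card K := by rcases hq with ⟨k, hk⟩; omega
        have h4 : 25 ≤ Fintype.card K ^ 2 := Nat.le_trans (by norm_num) (Nat.pow_le_pow_left h5 2)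
        have : 5 * 24 ≤ Fintype.card K * (Fintype.card K ^ 2 - 1) := Nat.mul_le_mul h5 (by omega)
        omega
      rw [show Fintype.card K = 3 by omega] at hdvd
      norm_num at hdvd
  · rw [hF] at hcard
    have htle : t ≤ Fintype.card K := by
      by_contra hc
      have : Fintype.card K ^ 2 < t ^ m :=
        lt_of_lt_of_le (Nat.pow_lt_pow_left (by omega) two_ne_zero)
          (Nat.pow_le_pow_right (by omega) hm)
      omega
    calc Nat.card M ≤ t * (t ^ 2 - 1) := by
          rcases hM' with h | h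
          · rw [← h]; exact Nat.le_mul_of_pos_left _ (Nat.gcd_pos_of_pos_left _ two_pos)
          · exact h.le
      _ ≤ _ := Nat.mul_le_mul htle (Nat.sub_le_sub_right (Nat.pow_le_pow_left htle 2) 1)

end Cfsg.Agent.S5941
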