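import Cfsg.Statements.S5942
import Cfsg.Agent.ClMax99.PSLSub

set_option autoImplicit false
open Cfsg

namespace Cfsg.Agent.S5942

open Cfsg.Agent.Dickson Cfsg.Agent.ClMax99 in

/-- Let K and F be finite fields of odd characteristic with #F = (#K)^r for an odd prime r. Then PSL_2(F) has a maximal subgroup isomorphic to PSL_2(K). -/
theorem result {F K : Type*} [Field F] [Fintype F] [Field K] [Fintype K] (q r : ℕ) (hK : Fintype.card K = q) (hF : Fintype.card F = q ^ r) (hq : Odd q) (hr : r.Prime) (hr2 : r ≠ 2) : ∃ H : Subgroup (Matrix.ProjectiveSpecialLinearGroup (Fin 2) F), IsCoatom H ∧ Nonempty (H ≃* Matrix.ProjectiveSpecialLinearGroup (Fin 2) K) := by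
  subst hK
  obtain ⟨p, hcp⟩ := CharP.exists K
  haveI := hcp
  haveI : Fact p.Prime := ⟨CharP.char_is_prime K p⟩
  haveI := charP_of_card hF p
  obtain ⟨f⟩ := nonempty_ringHom p hF
  obtain ⟨H, ⟨e⟩⟩ := exists_range (extend f) (extend_injective f)
  refine ⟨H, ?_, ⟨e⟩⟩
  obtain ⟨b, -, hb⟩ := FiniteField.card K p
  have hpodd : Odd p := by
    rw [hb] at hq
    exact (Nat.odd_pow_iff b.ne_zero).mp hq
  have h1 : 1 < Fintype.card K := Fintype.one_lt_card
  have h3 : 3 ≤ Fintype.card K := by rcases hq with ⟨k, hk⟩; omega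
  have hwit := wit_PSL2 (K := K) p (by
    rw [Nat.card_eq_fintype_card]
    rcases Nat.lt_or_ge (Fintype.card K) 4 with h | h
    · exact Or.inr ⟨by omega, hpodd⟩
    · exact Or.inl h)
  have hH : 2 * Nat.card H = Fintype.card K * (Fintype.card K ^ 2 - 1) := by
    rw [Nat.card_congr e.toEquiv, card_PSL_two_odd (K := K) (by
      rw [Nat.card_eq_fintype_card]; exact hq), Nat.card_eq_fintype_card]
  have hG := card_PSL_two_odd (K := F) (by
    rw [Nat.card_eq_fintype_card, hF]; exact hq.pow)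
  rw [Nat.card_eq_fintype_card (α := F), hF] at hG
  obtain ⟨k, hk⟩ : ∃ k, r = 2 * k + 1 := hr.odd_of_ne_two hr2
  have hqq : 9 ≤ Fintype.card K ^ 2 := Nat.le_trans (by norm_num) (Nat.pow_le_pow_left h3 2)
  obtain ⟨s, hs⟩ := odd_geom (Fintype.card K) k hq
  have hG2 : 2 * Nat.card (PSL2 F) =
      Fintype.card K ^ r * ((Fintype.card K ^ 2 - 1) * (2 * s + 1)) := by
    rw [hG, ← hs, ← pow_mul, ← hk, mul_comm r 2]
  have hnd : ¬ 2 * Nat.card H ∣ Nat.card (PSL2 F) := by
    rintro ⟨c, hc⟩
    rw [hc, hH] at hG2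
    have hKp : 0 < Fintype.card K := by omega
    have e1 : Fintype.card K ^ r * (2 * s + 1) = Fintype.card K * (2 * c) := by
      apply Nat.eq_of_mul_eq_mul_right (show 0 < Fintype.card K ^ 2 - 1 by omega)
      linarith [hG2]
    have h2 : Odd (Fintype.card K ^ r * (2 * s + 1)) := hq.pow.mul (odd_two_mul_add_one s)
    rw [e1] at h2
    exact Nat.not_even_iff_odd.mpr h2 ((even_two_mul c).mul_left _)
  refine isCoatom_of_card ?_ fun M hle hM => ?_
  · have h5 : Fintype.card K < Fintype.card K ^ r := lt_self_pow₀ (by omega) hr.one_lt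
    have h6 : Fintype.card K ^ 2 - 1 ≤ (Fintype.card K ^ 2 - 1) * (2 * s + 1) :=
      Nat.le_mul_of_pos_right _ (by omega)
    have : Fintype.card K * (Fintype.card K ^ 2 - 1) <
        Fintype.card K ^ r * ((Fintype.card K ^ 2 - 1) * (2 * s + 1)) :=
      Nat.mul_lt_mul_of_lt_of_le h5 h6 (by omega)
    omega
  have hdvd := Subgroup.card_dvd_of_le hle
  have hMG : Nat.card M ∣ Nat.card (PSL2 F) := M.card_subgroup_dvd_card
  have hle' : Nat.card H ≤ Nat.card M := Nat.le_of_dvd Nat.card_pos hdvd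
  rcases overgroup_cases p hle hM (hwit.1.map e.symm.toMonoidHom e.symm.injective)
    (hwit.2.map e.symm.toMonoidHom e.symm.injective) with h | ⟨t, m, ht, hm, hcard, hM'⟩
  · have h7 : Fintype.card K ≤ 5 := by
      by_contra hc
      have h7 : 7 ≤ Fintype.card K := by rcases hq with ⟨j, hj⟩; omega
      have h4 : 49 ≤ Fintype.card K ^ 2 := Nat.le_trans (by norm_num) (Nat.pow_le_pow_left h7 2)
      have : 7 * 48 ≤ Fintype.card K * (Fintype.card K ^ 2 - 1) := Nat.mul_le_mul h7 (by omega)
      omega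
    by_cases h5 : Fintype.card K = 5
    · rw [h5] at hH; norm_num at hH
      omega
    have hq3 : Fintype.card K = 3 := by rcases hq with ⟨j, hj⟩; omega
    rw [hq3] at hH; norm_num at hH
    rcases h with h | h | h
    · omega
    · exact absurd ((show 2 * Nat.card H ∣ Nat.card M by rw [h, show Nat.card H = 12 by omega]).trans hMG) hnd
    · exfalso
      have h5d : 5 ∣ 3 ^ r * ((3 ^ r) ^ 2 - 1) := by
        rw [← hq3, ← hG]
        exact ((show 5 ∣ Nat.card M by rw [h]; norm_num).trans hMG).mul_left 2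
      rcases (Nat.Prime.dvd_mul (by norm_num)).mp h5d with h' | h'
      · exact absurd ((Nat.prime_five).dvd_of_dvd_pow h') (by norm_num)
      · have : (3 ^ r) ^ 2 % 5 = 4 := by
          rw [← pow_mul, hk, show (2 * k + 1) * 2 = 4 * k + 2 by ring, pow_add, pow_mul,
            Nat.mul_mod, Nat.pow_mod]
          norm_num
        omega
  · rw [hF] at hcard
    have hdv : Nat.card M ∣ t * (t ^ 2 - 1) := by
      rcases hM' with h | h
      · exact ⟨_, h.symm.trans (mul_comm _ _)⟩
      · exact dvd_of_eq h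
    obtain rfl : t = Fintype.card K := by
      rw [hb] at hcard hH h3 ⊢
      exact eq_of_order_dvd Fact.out b.pos h3 hr hcard hm (dvd_of_eq hH.symm) (hdvd.trans hdv)
    rw [← hH] at hM'
    rcases hM' with h | h
    · rw [Nat.gcd_eq_left (even_iff_two_dvd.mp (Nat.Odd.sub_odd hq odd_one))] at h
      omega
    · exact absurd (h ▸ hMG) hnd

end Cfsg.Agent.S5942
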