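import Cfsg.Statements.S5943
import Cfsg.Agent.ClMax99.PSLSub

set_option autoImplicit false
open Cfsg

namespace Cfsg.Agent.S5943

open Cfsg.Agent.Dickson Cfsg.Agent.ClMax99 in

/-- Let K and F be finite fields of characteristic 2 with #K = q > 2 and #F = q^r for a prime r. Then PSL_2(F) has a maximal subgroup isomorphic to PSL_2(K) (which equals PGL_2(K) in characteristic 2). -/
theorem result {F K : Type*} [Field F] [Fintype F] [Field K] [Fintype K] (q r : ℕ) (hK : Fintype.card K = q) (hF : Fintype.card F = q ^ r) (hq : Even q) (hq2 : q ≠ 2) (hr : r.Prime) : ∃ H : Subgroup (Matrix.ProjectiveSpecialLinearGroup (Fin 2) F), IsCoatom H ∧ Nonempty (H ≃* Matrix.ProjectiveSpecialLinearGroup (Fin 2) K) := by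
  subst hK
  obtain ⟨p, hcp⟩ := CharP.exists K
  haveI := hcp
  haveI : Fact p.Prime := ⟨CharP.char_is_prime K p⟩
  haveI := charP_of_card hF p
  obtain ⟨f⟩ := nonempty_ringHom p hF
  obtain ⟨H, ⟨e⟩⟩ := exists_range (extend f) (extend_injective f)
  refine ⟨H, ?_, ⟨e⟩⟩
  obtain ⟨b, -, hb⟩ := FiniteField.card K p
  obtain rfl : p = 2 := by
    rw [hb, Nat.even_pow] at hq
    exact ((Fact.out : p.Prime).even_iff).mp hq.1
  have h1 : 1 < Fintype.card K := Fintype.one_lt_card
  have h4 : 4 ≤ Fintype.card K := by rcases hq with ⟨k, hk⟩; omega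
  have hwit := wit_PSL2 (K := K) 2 (Or.inl (by rw [Nat.card_eq_fintype_card]; exact h4))
  have hH : Nat.card H = Fintype.card K * (Fintype.card K ^ 2 - 1) := by
    rw [Nat.card_congr e.toEquiv, card_PSL_two_even (K := K) (by
      rw [Nat.card_eq_fintype_card]; exact hq), Nat.card_eq_fintype_card]
  have hG := card_PSL_two_even (K := F) (by
    rw [Nat.card_eq_fintype_card, hF]; exact (Nat.even_pow.mpr ⟨hq, hr.ne_zero⟩))
  rw [Nat.card_eq_fintype_card (α := F), hF] at hG
  have hqq : 16 ≤ Fintype.card K ^ 2 := Nat.le_trans (by norm_num) (Nat.pow_le_pow_left h4 2)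
  refine isCoatom_of_card ?_ fun M hle hM => ?_
  · rw [hH, hG]
    have h5 : Fintype.card K < Fintype.card K ^ r := lt_self_pow₀ (by omega) hr.one_lt
    exact Nat.mul_lt_mul_of_lt_of_le h5
      (Nat.sub_le_sub_right (Nat.pow_le_pow_left h5.le 2) 1) (by
        have := Nat.pow_le_pow_left h5.le 2
        omega)
  have hdvd := Subgroup.card_dvd_of_le hle
  have hle' : Nat.card H ≤ Nat.card M := Nat.le_of_dvd Nat.card_pos hdvd
  have h60 : 60 ≤ Fintype.card K * (Fintype.card K ^ 2 - 1) :=
    Nat.le_trans (by norm_num) (Nat.mul_le_mul h4 (show 15 ≤ _ by omega))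
  rcases overgroup_cases 2 hle hM (hwit.1.map e.symm.toMonoidHom e.symm.injective)
    (hwit.2.map e.symm.toMonoidHom e.symm.injective) with h | ⟨t, m, ht, hm, hcard, hM'⟩
  · omega
  · rw [hF] at hcard
    have hdv : Nat.card M ∣ t * (t ^ 2 - 1) := by
      rcases hM' with h | h
      · exact ⟨_, h.symm.trans (mul_comm _ _)⟩
      · exact dvd_of_eq h
    obtain rfl : t = Fintype.card K := by
      rw [hb] at hcard hH h4 ⊢
      exact eq_of_order_dvd Fact.out b.pos (by omega) hr hcard hm
        (hH ▸ dvd_mul_left _ _) (hdvd.trans hdv)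
    rw [hH]
    exact Nat.le_of_dvd (by omega) hdv

end Cfsg.Agent.S5943
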