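import Cfsg.Statements.S5945
import Cfsg.Agent.ClMax99.SymSix

set_option autoImplicit false
open Cfsg

namespace Cfsg.Agent.S5945


/-- The symmetric group S_6 has exactly 12 subgroups of index 6; each of them is isomorphic to S_5, and at least one of them is not the stabilizer of any point. -/
theorem result : Nat.card {H : Subgroup (Equiv.Perm (Fin 6)) // H.index = 6} = 12 ∧ (∀ H : Subgroup (Equiv.Perm (Fin 6)), H.index = 6 → Nonempty (H ≃* Equiv.Perm (Fin 5))) ∧ ∃ H : Subgroup (Equiv.Perm (Fin 6)), H.index = 6 ∧ ∀ a : Fin 6, H ≠ MulAction.stabilizer (Equiv.Perm (Fin 6)) a := by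
  refine ⟨ClMax99.card_index_six, fun H hH => ?_, ClMax99.excSub, ClMax99.index_excSub,
    ClMax99.excSub_not_stabilizer⟩
  obtain ⟨ψ, x, hψ⟩ := ClMax99.exists_mulAut_stabilizer H (by simp) (by simpa using hH)
  let e1 : H ≃* MulAction.stabilizer (Equiv.Perm (Fin 6)) x :=
    { toFun := fun g => ⟨ψ g, (hψ g).1 g.2⟩
      invFun := fun g => ⟨ψ.symm g, (hψ _).2 (by rw [MulEquiv.apply_symm_apply]; exact g.2)⟩
      left_inv := fun g => by simp
      right_inv := fun g => by simp
      map_mul' := fun g h => by ext1; simp }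
  let f : Equiv.Perm {y // y ≠ x} →* MulAction.stabilizer (Equiv.Perm (Fin 6)) x :=
    Equiv.Perm.ofSubtype.codRestrict _ fun u =>
      MulAction.mem_stabilizer_iff.2 (Equiv.Perm.ofSubtype_apply_of_not_mem u (by simp))
  have hf : Function.Bijective f := by
    refine ⟨fun u v h => Equiv.Perm.ofSubtype_injective (congrArg Subtype.val h), fun g => ?_⟩
    have hgx : (g : Equiv.Perm (Fin 6)) x = x := g.2
    refine ⟨(g : Equiv.Perm (Fin 6)).subtypePerm (fun y => ?_), Subtype.ext ?_⟩
    · exact not_congr ⟨fun h => (g : Equiv.Perm (Fin 6)).injective (by rw [h, hgx]), fun h => by rw [h, hgx]⟩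
    · exact Equiv.Perm.ofSubtype_subtypePerm _ (fun y hy hyx => hy (by rw [hyx, hgx]))
  have e3 : {y : Fin 6 // y ≠ x} ≃ Fin 5 := Fintype.equivFinOfCardEq (by simp)
  exact ⟨(e1.trans (MulEquiv.ofBijective f hf).symm).trans e3.permCongrHom⟩

end Cfsg.Agent.S5945
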