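import Cfsg.Statements.S5947
import Cfsg.Agent.Lib.NumberTheory.Zsigmondy

set_option autoImplicit false
open Cfsg

namespace Cfsg.Agent.S5947

theorem prime_of_succ_eq_two_pow {p f : ℕ} (hp : p.Prime) (h : ∃ m, p ^ f + 1 = 2 ^ m) (hf : 1 ≤ f) :
    f = 1 := by
  obtain ⟨m, hm⟩ := h
  by_contra hne
  have hp2 : Odd p := by
    rcases hp.eq_two_or_odd' with rfl | h
    · exfalso
      rcases Nat.eq_zero_or_pos m with rfl | hm0
      · simp at hm
      · have h1 : 2 ∣ 2 ^ f := dvd_pow_self 2 (by omega)
        have h2 : 2 ∣ 2 ^ m := dvd_pow_self 2 (by omega)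
        omega
    · exact h
  have hp3 : 3 ≤ p := by
    obtain ⟨a, ha⟩ := hp2
    have := hp.two_le
    omega
  rcases Nat.even_or_odd f with ⟨g, rfl⟩ | hodd
  · obtain ⟨a, ha⟩ := hp2.pow (n := g)
    rw [pow_add, ha] at hm
    have h4 : 4 ≤ 2 ^ m := by
      rw [← hm]
      have : 3 ≤ 2 * a + 1 := ha ▸ le_trans hp3 (Nat.le_self_pow (by omega) p)
      nlinarith
    have h2 : 2 ≤ m := by
      by_contra h
      rcases (by omega : m = 0 ∨ m = 1) with rfl | rfl <;> norm_num at h4
    have : 4 ∣ 2 ^ m := (pow_dvd_pow 2 h2 : 2 ^ 2 ∣ 2 ^ m)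
    have e : (2 * a + 1) * (2 * a + 1) = 4 * (a * a + a) + 1 := by ring
    omega
  · -- `p + 1` times an odd number bigger than one
    have hd : p + 1 ∣ p ^ f + 1 := by simpa using hodd.nat_add_dvd_pow_add_pow p 1
    obtain ⟨t, ht⟩ := hd
    have ht2 : ∃ j, t = 2 ^ j := by
      rw [hm] at ht
      obtain ⟨j, -, hj⟩ := (Nat.dvd_prime_pow Nat.prime_two).1 (Dvd.intro_left _ ht.symm)
      exact ⟨j, hj⟩
    obtain ⟨j, rfl⟩ := ht2
    -- modulo two the cofactor is one
    have hodd_t : Odd (2 ^ j) := by
      have h' : ((p : ℤ) ^ f + 1) = ((p : ℤ) + 1) * ∑ i ∈ Finset.range f, (-(p : ℤ)) ^ i := by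
        have := geom_sum_mul (-(p : ℤ)) f
        rw [hodd.neg_pow] at this
        linear_combination this
      have hz : ((p : ℤ) + 1) * (2 ^ j : ℕ) = ((p : ℤ) + 1) * ∑ i ∈ Finset.range f, (-(p : ℤ)) ^ i := by
        rw [← h']
        exact_mod_cast ht.symm
      have hz2 := mul_left_cancel₀ (by omega : (p : ℤ) + 1 ≠ 0) hz
      have : ((2 ^ j : ℕ) : ZMod 2) = 1 := by
        have := congrArg (Int.cast : ℤ → ZMod 2) hz2
        push_cast at this ⊢
        rw [this]
        have hp1 : (p : ZMod 2) = 1 := ZMod.natCast_eq_one_iff_odd.2 hp2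
        simp [hp1, ZMod.natCast_eq_one_iff_odd.2 hodd]
      exact ZMod.natCast_eq_one_iff_odd.1 this
    have hj : j = 0 := by
      by_contra h
      exact (Nat.not_odd_iff_even.2 ((Nat.even_pow).2 ⟨even_two, h⟩)) hodd_t
    subst hj
    have : p ^ 2 ≤ p ^ f := Nat.pow_le_pow_right hp.pos (by
      obtain ⟨g, rfl⟩ := hodd; omega)
    simp at ht
    nlinarith

section
variable {F K : Type*} [Field F] [Fintype F] [Field K] [Fintype K] [Algebra F K]

theorem fixed_trivial {n r : ℕ} (hdim : Module.finrank F K = n) (hr : r.Prime)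
    (hprim : ∀ k, 0 < k → k < n → ¬ r ∣ Fintype.card F ^ k - 1) (hrq : ¬ r ∣ Fintype.card F)
    (x : (Module.End F K)ˣ) (hx : orderOf x = r) (W : Submodule F K)
    (hW : ∀ w ∈ W, (x : Module.End F K) w ∈ W) :
    W = ⊥ ∨ W = ⊤ := by
  classical
  have : Fact r.Prime := ⟨hr⟩
  have : Finite (Module.End F K) := Module.finite_of_finite F
  rcases eq_or_ne W ⊤ with h | hne
  · exact Or.inr h
  left
  -- the fixed space of `x`
  let E : Submodule F K := LinearMap.ker ((x : Module.End F K) - 1)
  have key : ∀ (S : Submodule F K), (∀ w ∈ S, (x : Module.End F K) w ∈ S) →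
      Module.finrank F ↥(S ⊓ E) < Module.finrank F ↥S →
      r ∣ Fintype.card F ^ (Module.finrank F ↥S - Module.finrank F ↥(S ⊓ E)) - 1 := by
    intro S hS hlt
    let P : Subgroup (Module.End F K)ˣ := Subgroup.zpowers x
    have hP : ∀ g ∈ P, ∀ w ∈ S, (g : Module.End F K) w ∈ S := by
      intro g hg
      obtain ⟨k, rfl⟩ := (Submonoid.mem_powers_iff _ _).1 (mem_powers_iff_mem_zpowers.2 hg)
      clear hg
      induction k with
      | zero => intro w hw; simpa using hw
      | succ k ih => intro w hw; rw [pow_succ, Units.val_mul]; exact ih _ (hS w hw)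
    let act : MulAction P S :=
      { smul := fun g w => ⟨(g.1 : Module.End F K) w, hP g.1 g.2 w w.2⟩
        one_smul := fun w => Subtype.ext rfl
        mul_smul := fun g h w => Subtype.ext rfl }
    have hPg : IsPGroup r P := IsPGroup.of_card (n := 1) (by rw [Nat.card_zpowers, hx, pow_one])
    have hm := @IsPGroup.card_modEq_card_fixedPoints r P _ hPg _ S act _
    have hfix : Nat.card (@MulAction.fixedPoints P S _ act) = Nat.card ↥(S ⊓ E) := by
      refine Nat.card_congr
        { toFun := fun w => ⟨w.1.1, w.1.2, ?_⟩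
          invFun := fun w => ⟨⟨w.1, w.2.1⟩, fun g => ?_⟩
          left_inv := fun w => rfl
          right_inv := fun w => rfl }
      · have := congrArg Subtype.val (w.2 ⟨x, Subgroup.mem_zpowers x⟩)
        show ((x : Module.End F K) - 1) w.1.1 = 0
        rw [LinearMap.sub_apply, Module.End.one_apply, sub_eq_zero]
        exact this
      · have hw : ((x : Module.End F K) - 1) w.1 = 0 := w.2.2
        rw [LinearMap.sub_apply, Module.End.one_apply, sub_eq_zero] at hw
        obtain ⟨g, hg⟩ := g
        obtain ⟨k, rfl⟩ := (Submonoid.mem_powers_iff _ _).1 (mem_powers_iff_mem_zpowers.2 hg)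
        refine Subtype.ext ?_
        show ((x ^ k : (Module.End F K)ˣ) : Module.End F K) w.1 = w.1
        clear hg
        induction k with
        | zero => simp
        | succ k ih => rw [pow_succ, Units.val_mul, Module.End.mul_apply, hw, ih]
    rw [hfix, Module.natCard_eq_pow_finrank (K := F) (V := ↥S),
      Module.natCard_eq_pow_finrank (K := F) (V := ↥(S ⊓ E)), Nat.card_eq_fintype_card] at hm
    set a := Module.finrank F ↥(S ⊓ E)
    set s := Module.finrank F ↥S
    have hd := (Nat.modEq_iff_dvd' (Nat.pow_le_pow_right Fintype.card_pos hlt.le)).1 hm.symm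
    rw [show Fintype.card F ^ s - Fintype.card F ^ a = Fintype.card F ^ a * (Fintype.card F ^ (s - a) - 1) by
      rw [Nat.mul_sub, mul_one, ← pow_add, Nat.add_sub_cancel' hlt.le]] at hd
    exact (hr.dvd_mul.1 hd).resolve_left fun h => hrq (hr.dvd_of_dvd_pow h)
  have hEtop : E ≠ ⊤ := by
    intro h
    have h0 : ((x : Module.End F K) - 1) = 0 := LinearMap.ker_eq_top.1 h
    have : x = 1 := Units.ext (by simpa [sub_eq_zero] using h0)
    rw [this, orderOf_one] at hx
    exact hr.one_lt.ne hx
  have hE : E = ⊥ := by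
    have hlt : Module.finrank F ↥((⊤ : Submodule F K) ⊓ E) < Module.finrank F ↥(⊤ : Submodule F K) := by
      rw [top_inf_eq, finrank_top]
      exact Submodule.finrank_lt hEtop
    have h := key ⊤ (fun w _ => Submodule.mem_top) hlt
    rw [top_inf_eq, finrank_top, hdim] at h
    rcases Nat.eq_zero_or_pos (Module.finrank F ↥E) with h0 | h0
    · exact Submodule.finrank_eq_zero.1 h0
    · rw [top_inf_eq, finrank_top, hdim] at hlt
      exact absurd h (hprim _ (by omega) (by omega))
  by_contra hW0
  have hpos : 0 < Module.finrank F ↥W := Nat.pos_of_ne_zero (fun h => hW0 (Submodule.finrank_eq_zero.1 h))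
  have h := key W hW (by rw [hE, inf_bot_eq, finrank_bot]; exact hpos)
  rw [hE, inf_bot_eq, finrank_bot, Nat.sub_zero] at h
  exact hprim _ hpos (hdim ▸ Submodule.finrank_lt hne) h

end


/-- Let F ⊆ K be finite fields with |F| = q and [K : F] = n ≥ 2, regard K as an n-dimensional F-vector space, and let M ≤ GL_F(K) be the Singer group of multiplications by non-zero elements of K (cyclic of order q^n − 1). Assume (n, q) ≠ (6, 2), and that it is not the case that n = 2 with q a prime such that q + 1 is a power of 2. Then every abelian subgroup of GL_F(K) of order q^n − 1 is conjugate to M. -/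
theorem result {F K : Type*} [Field F] [Fintype F] [Field K] [Fintype K] [Algebra F K] (n : ℕ) (hn : 2 ≤ n) (hdim : Module.finrank F K = n)
    (hex1 : ¬ (n = 6 ∧ Fintype.card F = 2))
    (hex2 : ¬ (n = 2 ∧ (Fintype.card F).Prime ∧ ∃ a : ℕ, Fintype.card F + 1 = 2 ^ a))
    (U : Subgroup (Module.End F K)ˣ) (hU : IsMulCommutative U) (hcard : Nat.card U = Fintype.card K - 1) :
    ∃ g : (Module.End F K)ˣ, U.map (MulAut.conj g).toMonoidHom = (Units.map ((Algebra.lmul F K : K →ₐ[F] Module.End F K) : K →* Module.End F K)).range := by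
  classical
  set q := Fintype.card F with hq
  have hq1 : 1 < q := Fintype.one_lt_card
  have hKc : Fintype.card K = q ^ n := by rw [Module.card_eq_pow_finrank (K := F), hdim]
  obtain ⟨r, hr, hrd, hrk⟩ := NumberTheory.exists_isPrimitivePrimeDivisor (a := q) (n := n) hq1 (by omega)
    (fun h => hex1 ⟨h.2, h.1⟩) (fun ⟨h2, m, hm⟩ => by
      obtain ⟨p, hcp⟩ := CharP.exists F
      obtain ⟨f, hp, hf⟩ := FiniteField.card F p
      have hf1 := prime_of_succ_eq_two_pow hp ⟨m, by rw [← hf]; exact hm⟩ f.pos
      refine hex2 ⟨h2, ?_, m, hm⟩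
      rw [hq, hf, hf1, pow_one]
      exact hp)
  have : Fact r.Prime := ⟨hr⟩
  have hrq : ¬ r ∣ q := fun h => by
    have h1 := dvd_pow h (by omega : n ≠ 0)
    have h2 : 1 ≤ q ^ n := Nat.one_le_pow _ _ (by omega)
    exact hr.one_lt.ne' (Nat.dvd_one.1 (by have := Nat.dvd_sub h1 hrd; rwa [Nat.sub_sub_self h2] at this))
  have : Finite (Module.End F K) := Module.finite_of_finite F
  obtain ⟨x₀, hx₀⟩ := exists_prime_orderOf_dvd_card' r (G := U) (by rw [hcard, hKc]; exact hrd)
  set x : (Module.End F K)ˣ := x₀.1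
  have hx : orderOf x = r := by rw [Subgroup.orderOf_coe]; exact hx₀
  let C : Subalgebra F (Module.End F K) := Subalgebra.centralizer F {(x : Module.End F K)}
  have hmemC : ∀ c : Module.End F K, c ∈ C ↔ (x : Module.End F K) * c = c * x := by
    intro c; simp [C, Subalgebra.mem_centralizer_iff]
  have hUC : ∀ u ∈ U, (u : Module.End F K) ∈ C := by
    intro u hu
    rw [hmemC, ← Units.val_mul, ← Units.val_mul]
    exact congrArg Units.val (congrArg Subtype.val (IsMulCommutative.is_comm.comm x₀ ⟨u, hu⟩))
  have hinj : ∀ c ∈ C, c ≠ 0 → Function.Injective c := by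
    intro c hc hc0
    rw [← LinearMap.ker_eq_bot]
    have hinv : ∀ w ∈ LinearMap.ker c, (x : Module.End F K) w ∈ LinearMap.ker c := by
      intro w hw
      rw [LinearMap.mem_ker] at hw ⊢
      rw [← Module.End.mul_apply, ← (hmemC c).1 hc, Module.End.mul_apply, hw, map_zero]
    exact (fixed_trivial hdim hr hrk hrq x hx _ hinv).resolve_right
      fun h => hc0 (LinearMap.ker_eq_top.1 h)
  have hev : Function.Injective (fun c : C => (c : Module.End F K) 1) := by
    intro c d h
    by_contra hne
    have hcd : (c : Module.End F K) - d ≠ 0 := fun e => hne (Subtype.ext (sub_eq_zero.1 e))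
    exact one_ne_zero (hinj _ (C.sub_mem c.2 d.2) hcd (a₁ := 1) (a₂ := 0)
      (by simpa [sub_eq_zero] using h))
  have hCle : Nat.card C ≤ q ^ n := by
    rw [← hKc, ← Nat.card_eq_fintype_card]; exact Nat.card_le_card_of_injective _ hev
  have hCge : q ^ n ≤ Nat.card C := by
    let ι : Option U → C := fun o => o.elim 0 (fun u => ⟨u.1, hUC u.1 u.2⟩)
    have hι : Function.Injective ι := by
      rintro (_ | u) (_ | v) h
      · rfl
      · exact absurd (congrArg Subtype.val h).symm (Units.ne_zero v.1)
      · exact absurd (congrArg Subtype.val h) (Units.ne_zero u.1)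
      · exact congrArg some (Subtype.ext (Units.ext (congrArg Subtype.val h)))
    refine le_trans ?_ (Nat.card_le_card_of_injective ι hι)
    rw [Finite.card_option, hcard, hKc]
    omega
  have hnz : NoZeroDivisors C := by
    refine ⟨fun {c d} h => ?_⟩
    rw [or_iff_not_imp_left]
    intro hc
    have hc' : (c : Module.End F K) ≠ 0 := fun e => hc (Subtype.ext e)
    refine Subtype.ext (LinearMap.ext fun v => hinj _ c.2 hc' ?_)
    have := LinearMap.congr_fun (congrArg Subtype.val h) v
    simpa using this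
  have hnt : Nontrivial C := ⟨0, 1, fun e => zero_ne_one (congrArg Subtype.val e)⟩
  have : IsDomain C := NoZeroDivisors.to_isDomain C
  let : Field C := (Finite.isDomain_to_isField C).toField
  have hfr : Module.finrank F C = n := by
    have h := Module.natCard_eq_pow_finrank (K := F) (V := C)
    rw [le_antisymm hCle hCge, Nat.card_eq_fintype_card] at h
    exact (Nat.pow_right_injective hq1 h).symm
  obtain ⟨φ⟩ := FiniteField.nonempty_algHom_of_finrank_dvd (F := F) (K := K) (L := C)
    (by rw [hdim, hfr])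
  have hφ : Function.Bijective φ := (Nat.bijective_iff_injective_and_card _).2
    ⟨φ.toRingHom.injective, by rw [Nat.card_eq_fintype_card, hKc]; exact le_antisymm hCge hCle⟩
  let ψ : K →ₐ[F] Module.End F K := C.val.comp φ
  let g₀ : K →ₗ[F] K :=
    { toFun := fun k => ψ k 1
      map_add' := fun a b => by simp
      map_smul' := fun c a => by simp }
  have hg₀ : Function.Injective g₀ := hev.comp hφ.1
  let g : (Module.End F K)ˣ :=
    LinearMap.GeneralLinearGroup.ofLinearEquiv (LinearEquiv.ofInjectiveEndo g₀ hg₀)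
  have hgl : ∀ l : K, (g : Module.End F K) * Algebra.lmul F K l = ψ l * (g : Module.End F K) := by
    intro l
    refine LinearMap.ext fun k => ?_
    show g₀ (l * k) = ψ l (g₀ k)
    simp [g₀, map_mul]
  refine ⟨g⁻¹, ?_⟩
  have hcardle : Nat.card (Units.map ((Algebra.lmul F K : K →ₐ[F] Module.End F K) : K →* Module.End F K)).range
      ≤ Fintype.card K - 1 := by
    refine (Nat.card_le_card_of_surjective (α := Kˣ) _ (MonoidHom.rangeRestrict_surjective _)).trans ?_
    rw [Nat.card_units, Nat.card_eq_fintype_card]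
  have hsub : U.map (MulAut.conj g⁻¹).toMonoidHom ≤
      (Units.map ((Algebra.lmul F K : K →ₐ[F] Module.End F K) : K →* Module.End F K)).range := by
    rintro _ ⟨u, hu, rfl⟩
    obtain ⟨l, hl⟩ := hφ.2 ⟨u, hUC u hu⟩
    have hψl : ψ l = (u : Module.End F K) := congrArg Subtype.val hl
    have hl0 : l ≠ 0 := fun h => by rw [h, map_zero] at hψl; exact Units.ne_zero u hψl.symm
    refine ⟨Units.mk0 l hl0, Units.ext ?_⟩
    simp only [MulEquiv.coe_toMonoidHom, MulAut.conj_apply, inv_inv, Units.val_mul]
    show Algebra.lmul F K l = _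
    rw [mul_assoc, ← hψl, ← hgl, ← mul_assoc, ← Units.val_mul, inv_mul_cancel, Units.val_one, one_mul]
  exact Subgroup.eq_of_le_of_card_ge hsub (by
    rw [Subgroup.card_map_of_injective (MulEquiv.injective _), hcard]
    exact hcardle)

end Cfsg.Agent.S5947
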