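import Cfsg.Statements.S5950
import Cfsg.Agent.ClMax99.InvCompl
import Cfsg.Agent.ClMax99.JordanSL

set_option autoImplicit false
open scoped MatrixGroups
open Cfsg

namespace Cfsg.Agent.S5950

open Cfsg.Agent.ClMax99.Inv Module in

/-- Elements of prime order of PSL_n(q) fixing no decomposition `F^n = U ⊕ W` with `dim U = m`. Here `T = PSL_n(F)` for a field `F` with `q = p^f` elements (`n ≥ 2`, `(n, q) ≠ (2, 2), (2, 3)`); an element of `T` of prime order `r` is represented by a matrix `x` of determinant 1 with `x^r` scalar and `x` not scalar; `i` denotes the multiplicative order of `q` modulo `r` (when `r ≠ p`), and `(a)_r` the `r`-part of `a`. Let `n ≥ 3`, `1 ≤ m < n/2`, and let `r` be a prime dividing the number of such decompositions (unordered pairs `{U, W}` of complementary subspaces with `dim U = m`; since `m ≠ n − m` these are the ordered pairs with `dim U = m`). Then every element of `T` of order `r` fixes such a pair (fixes both `U` and `W` for some complementary `U, W`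 with `dim U = m`) if and only if one of: (i) `r = p > 2` and every partition of `n` into parts of size at most `p` contains, as a sub-multiset, a partition of `m`; (ii) `r = p = 2` and `n` is odd or `m` is even; (iii) `r ≠ p`, `i = 1`, and `r ∣ m` or `(q−1)_r ≥ (n)_r` (with `q ≡ 1 (mod 4)` required when `r = 2` and `n` is even); (iv) `r ≠ p`, `2 ≤ i ≤ m` and `n mod i ≥ m mod i`. -/
theorem result {F : Type*} [Field F] [Fintype F] {p : ℕ} [Fact p.Prime] [CharP F p] {q : ℕ} (hq : Fintype.card F = q)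
    (n m : ℕ) (hn : 3 ≤ n) (hm : 1 ≤ m) (hmn : 2 * m < n)
    (r : ℕ) [Fact r.Prime]
    (hrΩ : r ∣ Nat.card {P : Submodule F (Fin n → F) × Submodule F (Fin n → F) // IsCompl P.1 P.2 ∧ Module.finrank F ↥P.1 = m}) :
    (∀ x : Matrix.SpecialLinearGroup (Fin n) F,
      (∃ c : F, ((x ^ r : Matrix.SpecialLinearGroup (Fin n) F) : Matrix (Fin n) (Fin n) F) = c • (1 : Matrix (Fin n) (Fin n) F)) →
      (∀ c : F, (x : Matrix (Fin n) (Fin n) F) ≠ c • (1 : Matrix (Fin n) (Fin n) F)) →
      ∃ U W : Submodule F (Fin n → F), IsCompl U W ∧ Module.finrank F ↥U = m ∧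
        U.map (Matrix.toLin' (x : Matrix (Fin n) (Fin n) F)) ≤ U ∧ W.map (Matrix.toLin' (x : Matrix (Fin n) (Fin n) F)) ≤ W) ↔
    ((r = p ∧ 2 < p ∧ (∀ μ : Multiset ℕ, (∀ a ∈ μ, 0 < a ∧ a ≤ p) → μ.sum = n → ∃ ν : Multiset ℕ, ν ≤ μ ∧ ν.sum = m)) ∨
     (r = p ∧ p = 2 ∧ (Odd n ∨ Even m)) ∨
     (r ≠ p ∧
      ((orderOf (q : ZMod r) = 1 ∧ (r ∣ m ∨ (padicValNat r n ≤ padicValNat r (q - 1) ∧ (r = 2 → Even n → q % 4 = 1)))) ∨
       (2 ≤ orderOf (q : ZMod r) ∧ orderOf (q : ZMod r) ≤ m ∧ m % orderOf (q : ZMod r) ≤ n % orderOf (q : ZMod r))))) := by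
  subst hq
  by_cases hrp : r = p
  · subst hrp
    have key : ((∀ x : Matrix.SpecialLinearGroup (Fin n) F,
        (∃ c : F, ((x ^ r : Matrix.SpecialLinearGroup (Fin n) F) : Matrix (Fin n) (Fin n) F) = c • (1 : Matrix (Fin n) (Fin n) F)) →
        (∀ c : F, (x : Matrix (Fin n) (Fin n) F) ≠ c • (1 : Matrix (Fin n) (Fin n) F)) →
        ∃ U W : Submodule F (Fin n → F), IsCompl U W ∧ Module.finrank F ↥U = m ∧
          U.map (Matrix.toLin' (x : Matrix (Fin n) (Fin n) F)) ≤ U ∧
          W.map (Matrix.toLin' (x : Matrix (Fin n) (Fin n) F)) ≤ W) ↔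
      (∀ μ : Multiset ℕ, (∀ a ∈ μ, 0 < a ∧ a ≤ r) → μ.sum = n → ∃ ν : Multiset ℕ, ν ≤ μ ∧ ν.sum = m)) :=
      Cfsg.Agent.ClMax99.JType.elusive_char n m (by omega) (by omega)
    refine key.trans ?_
    have hr2 := (Fact.out : r.Prime).two_le
    rcases eq_or_lt_of_le hr2 with h2 | h2
    · subst h2
      simp only [lt_irrefl, false_and, and_false, ne_eq, not_true_eq_false, or_false, false_or, true_and]
      exact Cfsg.Agent.ClMax99.JType.two_partitions n m (by omega)
    · simp only [h2, ne_eq, not_true_eq_false, false_and, or_false, true_and]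
      exact ⟨fun h => Or.inl h, fun h => h.resolve_right (fun h' => by omega)⟩
  obtain ⟨k₀, hk1, hk2, hk3⟩ :=
    exists_dvd_of_dvd_card_compl (Module.finrank_fin_fun F) m (by omega) (Fact.out : r.Prime) hrp hrΩ
  suffices hmain : ((∀ x : Matrix.SpecialLinearGroup (Fin n) F,
      (∃ c : F, ((x ^ r : Matrix.SpecialLinearGroup (Fin n) F) : Matrix (Fin n) (Fin n) F) = c • (1 : Matrix (Fin n) (Fin n) F)) →
      (∀ c : F, (x : Matrix (Fin n) (Fin n) F) ≠ c • (1 : Matrix (Fin n) (Fin n) F)) →
      ∃ W : Submodule F (Fin n → F), Module.finrank F ↥W = m ∧ W.map (Matrix.toLin' (x : Matrix (Fin n) (Fin n) F)) ≤ W) ↔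
    (r ≠ p ∧
      ((orderOf (Fintype.card F : ZMod r) = 1 ∧ (r ∣ m ∨ (padicValNat r n ≤ padicValNat r (Fintype.card F - 1) ∧ (r = 2 → Even n → Fintype.card F % 4 = 1)))) ∨
       (2 ≤ orderOf (Fintype.card F : ZMod r) ∧ orderOf (Fintype.card F : ZMod r) ≤ m ∧ m % orderOf (Fintype.card F : ZMod r) ≤ n % orderOf (Fintype.card F : ZMod r))))) by
    refine Iff.trans ?_ (hmain.trans ?_)
    · refine ⟨fun h x hx hx' => ?_, fun h x hx hx' => ?_⟩
      · obtain ⟨U, W, -, hU, hUi, -⟩ := h x hx hx'
        exact ⟨U, hU, hUi⟩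
      · obtain ⟨U, hU, hUi⟩ := h x hx hx'
        obtain ⟨z, hz⟩ := hx
        rw [Matrix.SpecialLinearGroup.coe_pow] at hz
        obtain ⟨W, hc, hWi⟩ := exists_invariant_compl (cast_ne_zero_of_ne (F := F) hrp)
          (scalar_ne_zero (by omega) x.2 hz) (toLin_pow _ hz) hUi
        exact ⟨U, W, hc, hU, hUi, hWi⟩
    · constructor
      · intro h; exact Or.inr (Or.inr h)
      · rintro (⟨h, -⟩ | ⟨h, -⟩ | h)
        · exact absurd h hrp
        · exact absurd h hrp
        · exact h
  have hrF := cast_ne_zero_of_ne (F := F) hrp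
  have hik : orderOf (Fintype.card F : ZMod r) ∣ k₀ := (orderOf_dvd_iff_dvd_pow k₀).mpr hk3
  have hipos := orderOf_pos_of_ne (F := F) hrp
  constructor
  · intro hall
    refine ⟨hrp, ?_⟩
    by_cases hi1 : orderOf (Fintype.card F : ZMod r) = 1
    · left
      refine ⟨hi1, ?_⟩
      by_contra hcon
      push Not at hcon
      obtain ⟨hrm, hcon⟩ := hcon
      have hr1 := orderOf_eq_one_iff_dvd.mp hi1
      obtain ⟨k, z, hnk, hz, hdet⟩ := exists_bad_scalar (F := F) hr1 (n := n) (by omega) (by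
        by_contra hc
        push Not at hc
        obtain ⟨a1, a2, a3⟩ := hcon hc.1
        exact a3 (hc.2 a1 a2))
      obtain ⟨A, hA1, hAr⟩ := exists_elt_nonpower hnk hz hdet
      obtain ⟨W, hW, hWi⟩ := hall (mkSL A hA1)
        ⟨z, by rw [Matrix.SpecialLinearGroup.coe_pow]; exact hAr⟩
        (fun c => not_scalar_of_nonpower (by omega) hz hAr c)
      exact hrm (hW ▸ dvd_finrank_of_nonpower hz (toLin_pow A hAr) hWi)
    · right
      set i := orderOf (Fintype.card F : ZMod r) with hi
      have hr1 : ¬ r ∣ Fintype.card F - 1 := fun h => hi1 (orderOf_eq_one_iff_dvd.mpr h)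
      have hin : i ≤ n := (Nat.le_of_dvd (by omega) hik).trans hk2
      obtain ⟨A, hA1, hAr, hAk⟩ := exists_elt_order hrF hr1 (n := n) (s := n / i)
        (Nat.div_mul_le_self n i)
      have hke : finrank F (LinearMap.ker (Matrix.toLin' A - 1)) = n % i := by
        rw [hAk, ← hi]
        have := Nat.div_add_mod n i
        rw [mul_comm] at this
        omega
      obtain ⟨W, hW, hWi⟩ := hall (mkSL A hA1)
        ⟨1, by rw [Matrix.SpecialLinearGroup.coe_pow, one_smul]; exact hAr⟩
        (fun c => not_scalar_of_ker (by omega) hr1 hAr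
          (by rw [hke]; exact lt_of_lt_of_le (Nat.mod_lt _ hipos) hin) c)
      have hf : (Matrix.toLin' A) ^ r = 1 := by
        simpa using toLin_pow A (z := (1 : F)) (k := r) (by rw [hAr, one_smul])
      have h1 := finrank_mod hrF hf (W := W) hWi
      have h2 : finrank F ↥(W ⊓ LinearMap.ker (Matrix.toLin' A - 1)) ≤ n % i :=
        hke ▸ Submodule.finrank_mono inf_le_right
      rw [hW, ← hi, Nat.mod_eq_of_lt (lt_of_le_of_lt h2 (Nat.mod_lt _ hipos))] at h1
      refine ⟨by omega, ?_, by omega⟩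
      by_contra hlt
      rw [Nat.mod_eq_of_lt (by omega)] at h1
      obtain ⟨c, rfl⟩ := hik
      have h5 : c * i ≤ n := by rw [mul_comm]; exact hk2
      have h6 : i * c ≤ i * (n / i) :=
        Nat.mul_le_mul_left _ ((Nat.le_div_iff_mul_le hipos).mpr h5)
      have := Nat.div_add_mod n i
      omega
  · rintro ⟨-, hrhs⟩ x ⟨z, hxz⟩ -
    rw [Matrix.SpecialLinearGroup.coe_pow] at hxz
    have hfz := toLin_pow _ hxz
    by_cases hpow : ∃ w : F, w ^ r = z
    · obtain ⟨w, rfl⟩ := hpow
      have hw : w ≠ 0 := fun e => scalar_ne_zero (by omega) x.2 hxz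
        (by rw [e, zero_pow (Fact.out : r.Prime).ne_zero])
      set y : Module.End F (Fin n → F) := w⁻¹ • Matrix.toLin' (x : Matrix (Fin n) (Fin n) F) with hy
      have hyr : y ^ r = 1 := smul_pow_eq_one hw hfz
      have hR := dvd_finrank_moved hrF hyr (W := ⊤) (by simp)
      rw [Submodule.map_top] at hR
      have hdim := finrank_range_add_ker (Module.finrank_fin_fun F (n := n)) y
      set e := finrank F (LinearMap.ker (y - 1))
      set i := orderOf (Fintype.card F : ZMod r) with hi
      obtain ⟨s, hs⟩ := hR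
      obtain ⟨d, k, hdk, hd, hk⟩ : ∃ d k, d + k * i = m ∧ d ≤ e ∧ k ≤ s := by
        rcases hrhs with ⟨h1, -⟩ | ⟨-, h2, h3⟩
        · rw [h1, one_mul] at hs
          exact ⟨min m e, m - min m e, by rw [h1]; omega, by omega, by omega⟩
        · have hne : e % i = n % i := by
            rw [← hdim, hs, add_comm, Nat.add_mul_mod_self_left]
          have h4 := Nat.mod_le e i
          have h5 := Nat.div_add_mod m i
          rw [mul_comm] at h5
          by_cases hms : m / i ≤ s
          · exact ⟨m % i, m / i, by omega, by omega, hms⟩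
          · have h6 : s * i ≤ m / i * i := Nat.mul_le_mul_right _ (by omega)
            rw [mul_comm] at hs
            exact ⟨m - s * i, s, by omega, by omega, le_rfl⟩
      have hki : k * i ≤ finrank F (LinearMap.range (y - 1)) := by
        rw [hs, mul_comm i s]; exact Nat.mul_le_mul_right _ hk
      obtain ⟨U, -, -, hUi, -, hU, -⟩ :=
        exists_invariant_sum hrF hyr d k hd hki le_rfl hd le_rfl hki
      refine ⟨U, by rw [hU]; exact hdk, ?_⟩
      rwa [hy, map_smul_le_iff _ (inv_ne_zero hw)] at hUi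
    · push Not at hpow
      obtain ⟨k, hnk, hdet⟩ := det_of_nonpower hpow hxz
      rw [x.2] at hdet
      rcases hrhs with ⟨h1, h2⟩ | ⟨h1, -⟩
      · rcases h2 with h2 | ⟨h2, h3⟩
        · obtain ⟨U, -, -, hUi, -, hU, -⟩ := exists_invariant_nonpower hpow hfz h2 h2 le_rfl
            (by rw [Module.finrank_fin_fun]; omega)
          exact ⟨U, hU, hUi⟩
        · exact (no_bad_scalar (orderOf_eq_one_iff_dvd.mp h1) hnk (by omega) h2
            (fun e => h3 e (by subst e; exact ⟨k, by omega⟩)) hpow hdet.symm).elim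
      · obtain ⟨w, hw⟩ := exists_root_of_not_dvd (F := F) (r := r) (z := z)
          (fun h => by rw [orderOf_eq_one_iff_dvd.mpr h] at h1; omega)
        exact absurd hw (hpow w)

end Cfsg.Agent.S5950
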