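import Cfsg.Statements.S5952

set_option autoImplicit false
open Cfsg

namespace Cfsg.Agent.S5952

section
variable {F V : Type*} [Field F] [AddCommGroup V] [Module F V] [FiniteDimensional F V]

theorem step (f : V →ₗ[F] V) {S U W : Submodule F V} (hS : S.map f ≤ S) (hU : U.map f ≤ U)
    (hW : W.map f ≤ W) (hd : Disjoint S U)
    (hirr : ∀ P : Submodule F V, P ≤ U → P.map f ≤ P → P = ⊥ ∨ P = U) :
    Module.finrank F ↥(W ⊓ (S ⊔ U)) = Module.finrank F ↥(W ⊓ S) ∨
      Module.finrank F ↥(W ⊓ (S ⊔ U)) = Module.finrank F ↥(W ⊓ S) + Module.finrank F ↥U := by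
  let X := (W ⊓ (S ⊔ U)) ⊔ S
  have hX : X.map f ≤ X := by
    simp only [X, Submodule.map_sup]
    refine sup_le_sup ((Submodule.map_inf_le f).trans (inf_le_inf hW ?_)) hS
    rw [Submodule.map_sup]
    exact sup_le_sup hS hU
  have hXd : Module.finrank F ↥X = Module.finrank F ↥S + Module.finrank F ↥(X ⊓ U) := by
    have h1 : S ⊔ X ⊓ U = X := by
      rw [inf_comm, ← sup_inf_assoc_of_le U (le_sup_right : S ≤ X), inf_eq_right]
      exact sup_le inf_le_right le_sup_left
    have h2 := Submodule.finrank_sup_add_finrank_inf_eq S (X ⊓ U)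
    rw [h1, (hd.mono_right inf_le_right).eq_bot, finrank_bot, add_zero] at h2
    exact h2
  have h3 := Submodule.finrank_sup_add_finrank_inf_eq (W ⊓ (S ⊔ U)) S
  rw [show (W ⊓ (S ⊔ U)) ⊓ S = W ⊓ S by rw [inf_assoc, inf_eq_right.2 (le_sup_left : S ≤ S ⊔ U)]] at h3
  rcases hirr (X ⊓ U) inf_le_right ((Submodule.map_inf_le f).trans (inf_le_inf hX hU)) with h | h
  · left
    rw [h, finrank_bot] at hXd
    simp only [X] at hXd
    omega
  · right
    rw [h] at hXd
    simp only [X] at hXd
    omega

end


/-- Which dimensions of invariant subspaces a semisimple linear map has. Let `V` be a finite-dimensional vector space over a field `F` and `f` an invertible semisimple linear map of `V`. Suppose `V` is the internal direct sum of the fixed space `C_V(f)` (the eigenspace for 1) and subspaces `U_1, …, U_s`, each `f`-invariant of dimension `a ≥ 1` on which `f` acts irreducibly (no `f`-invariant subspaces other than 0 and `U_j`). Let `0 < m < dim V` and `ℓ = m mod a`. Then `f` leaves some `m`-dimensional subspace invariant if and only if `dim C_V(f) ≥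 m`, or `a ≤ m` and `dim C_V(f) ≥ ℓ`. -/
theorem result {F V : Type*} [Field F] [AddCommGroup V] [Module F V]
    [FiniteDimensional F V] (f : V →ₗ[F] V) (hf : Function.Bijective f) (hss : Module.End.IsSemisimple f)
    {s a : ℕ} (ha : 1 ≤ a) (U : Fin s → Submodule F V)
    (hUinv : ∀ j, (U j).map f ≤ U j) (hUdim : ∀ j, Module.finrank F ↥(U j) = a)
    (hUirr : ∀ j, ∀ W : Submodule F V, W ≤ U j → W.map f ≤ W → W = ⊥ ∨ W = U j)
    (hdec : DirectSum.IsInternal (fun o : Option (Fin s) => o.elim (Module.End.eigenspace f 1) U))
    (m : ℕ) (hm : 0 < m) (hmV : m < Module.finrank F V) :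
    (∃ W : Submodule F V, Module.finrank F ↥W = m ∧ W.map f ≤ W) ↔
    (m ≤ Module.finrank F ↥(Module.End.eigenspace f 1) ∨
      (a ≤ m ∧ m % a ≤ Module.finrank F ↥(Module.End.eigenspace f 1))) := by
  classical
  set C := Module.End.eigenspace f 1
  set A : Option (Fin s) → Submodule F V := fun o => o.elim C U with hA
  have hind := hdec.submodule_iSupIndep
  have htop := hdec.submodule_iSup_eq_top
  have hCinv : C.map f ≤ C := by
    rintro _ ⟨v, hv, rfl⟩
    rw [SetLike.mem_coe, Module.End.mem_eigenspace_iff, one_smul] at hv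
    rw [hv]
    simpa [C, Module.End.mem_eigenspace_iff] using hv
  have hdis : ∀ (t : Finset (Fin s)) (j : Fin s), j ∉ t → Disjoint (C ⊔ t.sup U) (U j) := by
    intro t j hj
    have h := hind (some j)
    refine Disjoint.symm (Disjoint.mono_right ?_ h)
    refine sup_le (le_iSup₂_of_le none (by simp) le_rfl) (Finset.sup_le fun l hl => ?_)
    refine le_iSup₂_of_le (some l) (fun e => hj ?_) le_rfl
    rw [Option.some.injEq] at e
    rw [← e]; exact hl
  have hinv : ∀ t : Finset (Fin s), (C ⊔ t.sup U).map f ≤ C ⊔ t.sup U := by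
    intro t
    induction t using Finset.induction with
    | empty => simpa using hCinv
    | insert j t _ ih =>
      rw [Finset.sup_insert, sup_left_comm, Submodule.map_sup]
      exact sup_le_sup (hUinv j) ih
  have hdim : ∀ t : Finset (Fin s),
      Module.finrank F ↥(C ⊔ t.sup U) = Module.finrank F ↥C + t.card * a := by
    intro t
    induction t using Finset.induction with
    | empty => rw [Finset.sup_empty, sup_bot_eq, Finset.card_empty, zero_mul, add_zero]
    | insert j t hj ih =>
      rw [Finset.sup_insert, sup_left_comm, sup_comm]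
      have h2 := Submodule.finrank_sup_add_finrank_inf_eq (C ⊔ t.sup U) (U j)
      rw [(hdis t j hj).eq_bot, finrank_bot, ih, hUdim, add_zero] at h2
      rw [h2, Finset.card_insert_of_notMem hj]
      ring
  have hall : C ⊔ Finset.univ.sup U = ⊤ := by
    rw [eq_top_iff, ← htop]
    refine iSup_le fun o => ?_
    cases o with
    | none => exact le_sup_left
    | some j => exact le_sup_of_le_right (Finset.le_sup (f := U) (Finset.mem_univ j))
  constructor
  · rintro ⟨W, hWm, hWf⟩
    have key : ∀ t : Finset (Fin s), ∃ k,
        Module.finrank F ↥(W ⊓ (C ⊔ t.sup U)) = Module.finrank F ↥(W ⊓ C) + k * a := by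
      intro t
      induction t using Finset.induction with
      | empty => exact ⟨0, by rw [Finset.sup_empty, sup_bot_eq, zero_mul, add_zero]⟩
      | insert j t hj ih =>
        obtain ⟨k, hk⟩ := ih
        rw [Finset.sup_insert, sup_left_comm, sup_comm]
        rcases step f (hinv t) (hUinv j) hWf (hdis t j hj) (hUirr j) with h | h
        · exact ⟨k, h.trans hk⟩
        · exact ⟨k + 1, by rw [h, hk, hUdim]; ring⟩
    obtain ⟨k, hk⟩ := key Finset.univ
    rw [hall, inf_top_eq, hWm] at hk
    have hle : Module.finrank F ↥(W ⊓ C) ≤ Module.finrank F ↥C :=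
      Submodule.finrank_mono inf_le_right
    rcases k.eq_zero_or_pos with rfl | hkp
    · left; omega
    · right
      refine ⟨?_, ?_⟩
      · have : 1 * a ≤ k * a := Nat.mul_le_mul_right _ hkp
        omega
      · rw [hk, Nat.add_mul_mod_self_right]
        exact (Nat.mod_le _ _).trans hle
  · intro hcond
    have hVdim : Module.finrank F V = Module.finrank F ↥C + s * a := by
      rw [← finrank_top F V, ← hall, hdim, Finset.card_univ, Fintype.card_fin]
    obtain ⟨k, hks, d, hdc, hdk⟩ : ∃ k, k ≤ s ∧ ∃ d, d ≤ Module.finrank F ↥C ∧ m = d + k * a := by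
      rcases hcond with h | ⟨-, h⟩
      · exact ⟨0, Nat.zero_le _, m, h, by simp⟩
      · have hdm := Nat.div_add_mod m a
        rw [mul_comm] at hdm
        rcases le_or_gt (m / a) s with h' | h'
        · exact ⟨m / a, h', m % a, h, by omega⟩
        · have : s * a ≤ m / a * a := Nat.mul_le_mul_right _ h'.le
          exact ⟨s, le_rfl, m - s * a, by omega, by omega⟩
    obtain ⟨t, -, htc⟩ := Finset.exists_subset_card_eq (s := (Finset.univ : Finset (Fin s))) (n := k)
      (by simpa using hks)
    obtain ⟨D, hD⟩ : ∃ D : Submodule F ↥C, Module.finrank F ↥D = d := by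
      refine ⟨Submodule.span F (Set.range (Module.finBasis F ↥C ∘ Fin.castLE hdc)), ?_⟩
      rw [finrank_span_eq_card, Fintype.card_fin]
      exact (Module.finBasis F ↥C).linearIndependent.comp _ (Fin.castLE_injective hdc)
    let D' := D.map C.subtype
    have hD'C : D' ≤ C := Submodule.map_subtype_le C D
    have hD'f : ∀ v ∈ D', f v = v := by
      intro v hv
      have := hD'C hv
      rwa [Module.End.mem_eigenspace_iff, one_smul] at this
    refine ⟨D' ⊔ t.sup U, ?_, ?_⟩
    · have h2 := Submodule.finrank_sup_add_finrank_inf_eq D' (t.sup U)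
      have h3 := Submodule.finrank_sup_add_finrank_inf_eq C (t.sup U)
      have hCd : Disjoint C (t.sup U) := by
        refine Disjoint.mono_right (Finset.sup_le fun l _ => ?_) (hind none)
        exact le_iSup₂_of_le (some l) (by simp) le_rfl
      rw [hCd.eq_bot, finrank_bot, hdim, add_zero] at h3
      rw [(hCd.mono_left hD'C).eq_bot, finrank_bot, add_zero] at h2
      have hd' : Module.finrank F ↥D' = d :=
        (Submodule.equivMapOfInjective C.subtype C.injective_subtype D).finrank_eq.symm.trans hD
      rw [h2, hd', hdk, ← htc]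
      omega
    · rw [Submodule.map_sup]
      refine sup_le_sup ?_ ?_
      · rintro _ ⟨v, hv, rfl⟩
        rwa [hD'f v hv]
      · clear htc
        induction t using Finset.induction with
        | empty => simp
        | insert j t _ ih =>
          rw [Finset.sup_insert, Submodule.map_sup]
          exact sup_le_sup (hUinv j) ih

end Cfsg.Agent.S5952
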