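import Cfsg.Statements.S5953
import Cfsg.Agent.ClMax99.UnitSU
import Mathlib.LinearAlgebra.Lagrange

set_option autoImplicit false
open scoped MatrixGroups
open Cfsg

namespace Cfsg.Agent.S5953

set_option linter.unusedSectionVars false
set_option linter.style.haveILetI false
set_option maxHeartbeats 800000

open Cfsg.Agent Cfsg.Agent.ClMax99 Cfsg.Agent.ClMax99.UnitFix Cfsg.Agent.Unitary Module Polynomial

universe u

section

variable {F : Type u} [Field F] [Fintype F] {n m q r : ℕ} (hF : Fintype.card F = q ^ 2)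

/-- The condition on `W` in the statement. -/
def TIm (q m : ℕ) (W : Submodule F (Fin n → F)) : Prop :=
  finrank F ↥W = m ∧ (∀ u ∈ W, ∀ v ∈ W, Cfsg.hermForm n F q u v = 0)

include hF

/-- A prime dividing the number of totally isotropic subspaces. -/
theorem exists_dvd_factor [hr : Fact r.Prime] (hn : 1 ≤ n) (hmn : 2 * m ≤ n)
    (hΩ : r ∣ Nat.card {W : Submodule F (Fin n → F) // TIm q m W}) :
    ¬ r ∣ q ∧ ∃ j, n - 2 * m < j ∧ j ≤ n ∧ r ∣ (if Even j then q ^ j - 1 else q ^ j + 1) := by
  classical
  let Ω := {W : Submodule F (Fin n → F) // TIm q m W}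
  let lg : Cfsg.SU n F q → Module.End F (Fin n → F) := fun g => DistribSMul.toLinearMap F (Fin n → F) g
  have hlg : ∀ g, Function.Injective (lg g) := fun g a b e => MulAction.injective g e
  letI : MulAction (Cfsg.SU n F q) Ω :=
    { smul := fun g W => ⟨W.1.map (lg g),
        (Submodule.equivMapOfInjective _ (hlg g) W.1).finrank_eq.symm.trans W.2.1, by
          rintro _ ⟨u, hu, rfl⟩ _ ⟨v, hv, rfl⟩
          exact (herm_smul_SU g u v).trans (W.2.2 u hu v hv)⟩
      one_smul := fun W => Subtype.ext (by
        show W.1.map (lg 1) = W.1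
        rw [show lg 1 = LinearMap.id from LinearMap.ext fun v => one_smul _ v, Submodule.map_id])
      mul_smul := fun g g' W => Subtype.ext (by
        show W.1.map (lg (g * g')) = (W.1.map (lg g')).map (lg g)
        rw [← Submodule.map_comp]
        exact congrArg (fun φ => W.1.map φ) (LinearMap.ext fun v => mul_smul g g' v)) }
  obtain ⟨W₁, -, hW1T, hW1d⟩ := exists_ti hF m (nd_top hF (n := n)) (by rw [finrank_top, Module.finrank_fin_fun]; exact hmn)
  let W₀ : Ω := ⟨W₁, hW1d, hW1T⟩
  have horb : MulAction.orbit (Cfsg.SU n F q) W₀ = Set.univ := by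
    refine Set.eq_univ_of_forall fun W => ?_
    let b : Fin m → (Fin n → F) := fun l => (Module.finBasisOfFinrankEq F W₁ hW1d l : _)
    let b' : Fin m → (Fin n → F) := fun l => (Module.finBasisOfFinrankEq F W.1 W.2.1 l : _)
    have hb : LinearIndependent F b :=
      (Module.finBasisOfFinrankEq F W₁ hW1d).linearIndependent.map' W₁.subtype W₁.ker_subtype
    have hb' : LinearIndependent F b' :=
      (Module.finBasisOfFinrankEq F W.1 W.2.1).linearIndependent.map' W.1.subtype W.1.ker_subtype
    obtain ⟨g, hg⟩ := Classical10.exists_smul_isotropic_tuple hF b b' hb hb'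
      (fun i j => hW1T _ (SetLike.coe_mem _) _ (SetLike.coe_mem _))
      (fun i j => W.2.2 _ (SetLike.coe_mem _) _ (SetLike.coe_mem _))
    obtain ⟨h, hh, hhd⟩ := Classical10.exists_det_stab hF hn W₁ hW1T (a := (detGU g : F)⁻¹)
      (by rw [inv_pow, det_norm hF g, inv_one])
    have hk : g * h ∈ (detGU : GU n F q →* Fˣ).ker := Units.ext (by
      rw [map_mul, Units.val_mul, hhd, mul_inv_cancel₀ (Units.ne_zero _), Units.val_one])
    rw [← range_toGU] at hk
    obtain ⟨s, hs⟩ := hk
    refine ⟨s, Subtype.ext (Submodule.eq_of_le_of_finrank_eq ?_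
      (((Submodule.equivMapOfInjective _ (hlg s) W₁).finrank_eq.symm.trans hW1d).trans W.2.1.symm))⟩
    rintro _ ⟨w, hw, rfl⟩
    show s • w ∈ W.1
    rw [← toGU_smul, hs, mul_smul]
    have hsp : Submodule.span F (Set.range b) = W₁ := by
      refine Submodule.eq_of_le_of_finrank_eq (Submodule.span_le.2 (by rintro _ ⟨l, rfl⟩; exact SetLike.coe_mem _)) ?_
      rw [finrank_span_eq_card hb, Fintype.card_fin, hW1d]
    have hw' := hh w hw
    rw [← hsp] at hw'
    obtain ⟨cf, hcf⟩ := (Submodule.mem_span_range_iff_exists_fun F).1 hw'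
    rw [← hcf, Finset.smul_sum]
    exact sum_mem fun l _ => by rw [smul_comm, hg]; exact W.1.smul_mem _ (SetLike.coe_mem _)
  have hcard : Nat.card Ω * Nat.card (MulAction.stabilizer (Cfsg.SU n F q) W₀) = Nat.card (Cfsg.SU n F q) := by
    rw [← Nat.card_univ (α := Ω), ← horb, ← Nat.card_prod]
    exact Nat.card_congr (MulAction.orbitProdStabilizerEquivGroup (Cfsg.SU n F q) W₀)
  have hstab : Nat.card (MulAction.stabilizer (Cfsg.SU n F q) W₀) =
      Nat.card ↥((Cfsg.stabilizing (Cfsg.slToMat n F) (W₁ : Set (Fin n → F))).subgroupOf (Cfsg.SU n F q)) := by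
    refine Nat.card_congr (Equiv.subtypeEquivRight fun g => ?_)
    refine Iff.trans ?_ (Subgroup.mem_subgroupOf.trans (Forms.mem_stabilizing_submodule_iff _ W₁ _)).symm
    rw [MulAction.mem_stabilizer_iff, Subtype.ext_iff]
    show W₁.map (lg g) = W₁ ↔ _
    constructor
    · intro h w hw
      rw [← h]
      exact ⟨w, hw, rfl⟩
    · intro h
      refine Submodule.eq_of_le_of_finrank_eq ?_ (Submodule.equivMapOfInjective _ (hlg g) W₁).finrank_eq.symm
      rintro _ ⟨w, hw, rfl⟩
      exact h w hw
  have key := congrArg ((q + 1) * ·) hcard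
  simp only [hstab] at key
  rw [mul_left_comm, Classical10.card_stab_isotropic hF hn hmn W₁ hW1d hW1T, card_SU_mul hF hn, card_GU hF] at key
  set a : ℕ → ℕ := fun i => if Even i then q ^ (i + 1) + 1 else q ^ (i + 1) - 1
  set T := n * (n - 1) / 2
  obtain ⟨k, rfl⟩ : ∃ k, n = k + 2 * m := ⟨n - 2 * m, by omega⟩
  rw [Nat.add_sub_cancel] at key
  have hq2 := two_le_q hF
  have hGL : ∏ l : Fin m, ((q ^ 2) ^ m - (q ^ 2) ^ (l : ℕ)) = q ^ (m * (m - 1)) * ∏ l ∈ Finset.range m, ((q ^ 2) ^ (m - l) - 1) := by
    rw [Fin.prod_univ_eq_prod_range (fun l => (q ^ 2) ^ m - (q ^ 2) ^ l) m]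
    have e2 : q ^ (m * (m - 1)) = ∏ l ∈ Finset.range m, (q ^ 2) ^ l := by
      rw [Finset.prod_pow_eq_pow_sum, ← pow_mul]
      congr 1
      rw [← Finset.sum_range_id_mul_two, mul_comm]
    rw [e2, ← Finset.prod_mul_distrib]
    refine Finset.prod_congr rfl fun l hl => ?_
    rw [Nat.mul_sub, mul_one, ← pow_add (q ^ 2), Nat.add_sub_cancel' (Finset.mem_range.1 hl).le]
  rw [hGL, Finset.prod_range_add a k (2 * m)] at key
  set P := ∏ i ∈ Finset.range k, a i
  set R := ∏ i ∈ Finset.range (2 * m), a (k + i)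
  have he : m * (2 * (k + 2 * m) - 3 * m) + m * (m - 1) + k * (k - 1) / 2 = T := by
    obtain ⟨s, hs⟩ : Even (k * (k - 1)) := Nat.even_mul_pred_self k
    have h3 : k + (k + s) ≥ 0 := Nat.zero_le _
    have hT2 : (k + 2 * m) * (k + 2 * m - 1) = 2 * (m * (2 * (k + 2 * m) - 3 * m) + m * (m - 1) + s) := by
      rw [show 2 * (k + 2 * m) - 3 * m = 2 * k + m by omega]
      rcases Nat.eq_zero_or_pos m with rfl | hm0
      · simpa [two_mul] using hs
      obtain ⟨m', rfl⟩ : ∃ m', m = m' + 1 := ⟨m - 1, by omega⟩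
      rw [Nat.add_sub_cancel, show k + 2 * (m' + 1) - 1 = k + 2 * m' + 1 by omega]
      rcases Nat.eq_zero_or_pos k with rfl | hk0
      · have : s = 0 := by simp at hs; omega
        subst this; ring
      obtain ⟨k', rfl⟩ : ∃ k', k = k' + 1 := ⟨k - 1, by omega⟩
      rw [Nat.add_sub_cancel] at hs
      linarith
    show _ = (k + 2 * m) * (k + 2 * m - 1) / 2
    rw [hT2, Nat.mul_div_cancel_left _ two_pos, hs, ← two_mul, Nat.mul_div_cancel_left _ two_pos]
  have hpos : 0 < q ^ T * P := Nat.mul_pos (pow_pos (by omega) _) (Finset.prod_pos fun i _ => by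
    have := Nat.one_lt_pow (n := i + 1) (by omega) (show 1 < q by omega)
    dsimp only [a]; split_ifs <;> omega)
  have hd : r ∣ R := by
    have h1 : Nat.card Ω * (∏ l ∈ Finset.range m, ((q ^ 2) ^ (m - l) - 1)) * (q ^ T * P) = R * (q ^ T * P) := by
      refine Eq.trans ?_ (key.trans (by ring))
      rw [← he, pow_add, pow_add]; ring
    rw [← Nat.eq_of_mul_eq_mul_right hpos h1]
    exact dvd_mul_of_dvd_left hΩ _
  obtain ⟨j, hj, hj'⟩ := (hr.out.prime.dvd_finsetProd_iff _).1 hd
  rw [Finset.mem_range] at hj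
  have hj2 : r ∣ (if Even (k + j + 1) then q ^ (k + j + 1) - 1 else q ^ (k + j + 1) + 1) := by
    by_cases h : Even (k + j)
    · rw [if_neg (Nat.even_add_one.not.2 (not_not_intro h))]
      simpa [a, h] using hj'
    · rw [if_pos (Nat.even_add_one.2 h)]
      simpa [a, h] using hj'
  refine ⟨fun hrq => hr.out.one_lt.ne' (Nat.dvd_one.1 ?_), k + j + 1, by omega, by omega, hj2⟩
  have h1 : r ∣ q ^ (k + j + 1) := dvd_pow hrq (by omega)
  have h2 : 1 ≤ q ^ (k + j + 1) := Nat.one_le_pow _ _ (by omega)
  split_ifs at hj2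
  · have := Nat.dvd_sub h1 hj2
    rwa [Nat.sub_sub_self h2] at this
  · exact (Nat.dvd_add_right h1).1 hj2

/-- The coordinate subspace of a fibre. -/
theorem fibre_nd {κ : Type*} [DecidableEq κ] (a : Fin n → κ) (x : κ) :
    Nd q (supp (Finset.univ.filter fun l => a l ≠ x) : Submodule F (Fin n → F)) ∧
    finrank F (supp (Finset.univ.filter fun l => a l ≠ x) : Submodule F (Fin n → F)) ≤
      (Finset.univ.filter fun l => a l = x).card := by
  constructor
  · intro u hu h
    funext l
    by_cases hl : a l = x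
    · have h2 := h (eI l) (eI_mem_supp (by simp [hl]))
      rwa [herm_eI_right hF] at h2
    · exact hu l (by simp [hl])
  · let L : (supp (Finset.univ.filter fun l => a l ≠ x) : Submodule F (Fin n → F)) →ₗ[F]
        (↥(Finset.univ.filter fun l => a l = x) → F) :=
      { toFun := fun v l => (v : Fin n → F) l
        map_add' := fun _ _ => rfl
        map_smul' := fun _ _ => rfl }
    refine (LinearMap.finrank_le_finrank_of_injective (f := L) fun v w h => Subtype.ext (funext fun l => ?_)).trans
      (by rw [Module.finrank_fintype_fun_eq_card, Fintype.card_coe])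
    by_cases hl : a l = x
    · exact congrFun h ⟨l, by simp [hl]⟩
    · rw [v.2 l (by simp [hl]), w.2 l (by simp [hl])]

/-- A diagonal element without totally isotropic invariant `m`-spaces. -/
theorem diag_bound {κ : Type*} [Fintype κ] [DecidableEq κ] (a : Fin n → κ) (ev : κ → F) (hev : Function.Injective ev)
    {T : Module.End F (Fin n → F)} (hT : ∀ v l, T v l = ev (a l) * v l) {P : Submodule F (Fin n → F)}
    (hP : P.map T ≤ P) (hPT : TI q P) :
    2 * finrank F P ≤ ∑ x, 2 * ((Finset.univ.filter fun l => a l = x).card / 2) := by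
  classical
  set E : κ → Submodule F (Fin n → F) := fun x => supp (Finset.univ.filter fun l => a l ≠ x)
  have hpoly : ∀ (R : F[X]) v l, aeval T R v l = R.eval (ev (a l)) * v l := by
    intro R
    induction R using Polynomial.induction_on' with
    | add R S hR hS => intro v l; simp [hR, hS, add_mul]
    | monomial j c =>
      intro v l
      induction j generalizing v with
      | zero => simp [Module.algebraMap_end_eq_smul_id]
      | succ j ih =>
        simp only [aeval_monomial, pow_succ, ← mul_assoc, Module.End.mul_apply, eval_monomial] at ih ⊢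
        rw [ih, hT]; ring
  have hle : P ≤ ⨆ x, P ⊓ E x := by
    intro v hv
    have hsum : v = ∑ x, (fun l => if a l = x then v l else 0) := by
      funext l; simp
    rw [hsum]
    refine sum_mem fun x _ => Submodule.mem_iSup_of_mem x ⟨?_, fun l hl => by simp at hl; simp [hl]⟩
    have := Inv.aeval_mem hP (Lagrange.basis Finset.univ ev x) hv
    have e : (fun l => if a l = x then v l else 0) = aeval T (Lagrange.basis Finset.univ ev x) v := by
      funext l
      rw [hpoly]
      by_cases hl : a l = x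
      · rw [if_pos hl, hl, Lagrange.eval_basis_self (fun _ _ _ _ h => hev h) (Finset.mem_univ _), one_mul]
      · rw [if_neg hl, Lagrange.eval_basis_of_ne (Ne.symm hl) (Finset.mem_univ _), zero_mul]
    show _ ∈ P
    rw [e]; exact this
  have h1 : finrank F P ≤ ∑ x, finrank F ↥(P ⊓ E x) := by
    have key : ∀ s : Finset κ, finrank F ↥(⨆ x ∈ s, P ⊓ E x) ≤ ∑ x ∈ s, finrank F ↥(P ⊓ E x) := by
      intro s
      induction s using Finset.induction_on with
      | empty => simp
      | @insert x s hx ih =>
        rw [Finset.iSup_insert, Finset.sum_insert hx]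
        exact (Submodule.finrank_add_le_finrank_add_finrank _ _).trans (Nat.add_le_add_left ih _)
    have := key Finset.univ
    rw [show (⨆ x ∈ (Finset.univ : Finset κ), P ⊓ E x) = ⨆ x, P ⊓ E x by simp] at this
    exact (Submodule.finrank_mono hle).trans this
  rw [← Finset.mul_sum]
  refine Nat.mul_le_mul_left 2 (h1.trans (Finset.sum_le_sum fun x _ => ?_))
  obtain ⟨hnd, hd⟩ := fibre_nd hF a x
  have h2 := ti_le hF (W := P ⊓ E x) inf_le_right hnd fun u hu v hv => hPT u hu.1 v hv.1
  have h3 : finrank F ↥(P ⊓ E x) ≤ ((Finset.univ.filter fun l => a l = x).card) / 2 :=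
    (Nat.le_div_iff_mul_le two_pos).2 (by linarith)
  exact h3

omit hF in
/-- A multiplicity function with many odd fibres and total zero. -/
theorem exists_fibres [hr : Fact r.Prime] (hr2 : r ≠ 2) (hn : 3 ≤ n) (hm : 1 ≤ m) (hmn : 2 * m ≤ n)
    (hlt : n + 2 ≤ r + 2 * m) :
    ∃ a : Fin n → ZMod r, ∑ l, a l = 0 ∧ (∃ l l', a l ≠ a l') ∧
      ∑ x, 2 * ((Finset.univ.filter fun l => a l = x).card / 2) < 2 * m := by
  classical
  obtain ⟨m', rfl⟩ : ∃ m', m = m' + 1 := ⟨m - 1, by omega⟩
  obtain ⟨u, rfl⟩ : ∃ u, n = u + 2 * m' := ⟨n - 2 * m', by omega⟩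
  have hu : u ≤ r := by omega
  have hinj : ∀ t : ZMod r, Function.Injective fun j : Fin u => ((j : ℕ) : ZMod r) + t := fun t j j' h => by
    have h1 := add_right_cancel h
    rw [ZMod.natCast_eq_natCast_iff'] at h1
    rw [Nat.mod_eq_of_lt (lt_of_lt_of_le j.2 hu), Nat.mod_eq_of_lt (lt_of_lt_of_le j'.2 hu)] at h1
    exact Fin.ext h1
  obtain ⟨t, c, hc⟩ : ∃ (t : ZMod r) (c : Fin m' → ZMod r),
      ∑ j : Fin u, (((j : ℕ) : ZMod r) + t) + 2 * ∑ l, c l = 0 := by
    rcases Nat.eq_zero_or_pos m' with rfl | hm'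
    · by_cases hru : r ∣ u
      · obtain rfl : u = r := le_antisymm hu (Nat.le_of_dvd (by omega) hru)
        refine ⟨0, Fin.elim0, ?_⟩
        haveI : NeZero u := ⟨hr.out.ne_zero⟩
        simp only [add_zero, Finset.univ_eq_empty, Finset.sum_empty, mul_zero]
        rw [Fin.sum_univ_eq_sum_range (fun j => (j : ZMod u)), ← Nat.cast_sum, ZMod.natCast_eq_zero_iff]
        obtain ⟨h, hh⟩ := hr.out.odd_of_ne_two hr2
        refine ⟨h, ?_⟩
        have := Finset.sum_range_id_mul_two u
        rw [show u - 1 = 2 * h by omega] at this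
        linarith
      · have hu0 : (u : ZMod r) ≠ 0 := fun e => hru ((ZMod.natCast_eq_zero_iff _ _).1 e)
        refine ⟨-(∑ j : Fin u, ((j : ℕ) : ZMod r)) / (u : ZMod r), Fin.elim0, ?_⟩
        simp only [Finset.sum_add_distrib, Finset.sum_const, Finset.card_univ, Fintype.card_fin, nsmul_eq_mul,
          Finset.univ_eq_empty, Finset.sum_empty, mul_zero, add_zero]
        rw [mul_div_cancel₀ _ hu0]; ring
    · refine ⟨0, Pi.single ⟨0, hm'⟩ (-(∑ j : Fin u, ((j : ℕ) : ZMod r)) / 2), ?_⟩
      have h2 : (2 : ZMod r) ≠ 0 := fun h => hr2 ((Nat.prime_dvd_prime_iff_eq hr.out Nat.prime_two).1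
        ((ZMod.natCast_eq_zero_iff _ _).1 (by exact_mod_cast h)))
      simp only [add_zero]
      rw [Finset.sum_pi_single', if_pos (Finset.mem_univ _), mul_div_cancel₀ _ h2, add_neg_cancel]
  let b : Fin u ⊕ Fin 2 × Fin m' → ZMod r := Sum.elim (fun j => ((j : ℕ) : ZMod r) + t) fun p => c p.2
  let e : Fin (u + 2 * m') ≃ Fin u ⊕ Fin 2 × Fin m' := (Fintype.equivFinOfCardEq (by simp)).symm
  refine ⟨b ∘ e, ?_, ⟨e.symm (Sum.inl ⟨0, by omega⟩), e.symm (Sum.inl ⟨1, by omega⟩), fun h => ?_⟩, ?_⟩
  · simp only [Function.comp_apply]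
    rw [Equiv.sum_comp e b, Fintype.sum_sum_type]
    simp only [b, Sum.elim_inl, Sum.elim_inr]
    rw [Fintype.sum_prod_type, Fin.sum_univ_two, ← two_mul]
    exact hc
  · simp only [Function.comp_apply, e.apply_symm_apply, b, Sum.elim_inl] at h
    exact absurd (congrArg Fin.val (@hinj t ⟨0, by omega⟩ ⟨1, by omega⟩ h)) (by norm_num)
  · have hcard : ∀ x, (Finset.univ.filter fun l => (b ∘ e) l = x).card =
        (Finset.univ.filter fun j : Fin u => ((j : ℕ) : ZMod r) + t = x).card +
          2 * (Finset.univ.filter fun l => c l = x).card := fun x => by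
      rw [Finset.card_filter, Finset.card_filter, Finset.card_filter]
      simp only [Function.comp_apply]
      rw [Equiv.sum_comp e (fun s => if b s = x then 1 else 0),
        Fintype.sum_sum_type, Fintype.sum_prod_type, Fin.sum_univ_two]
      rw [two_mul]
      rfl
    have hle : ∀ x, (Finset.univ.filter fun j : Fin u => ((j : ℕ) : ZMod r) + t = x).card ≤ 1 := fun x =>
      Finset.card_le_one.2 fun j hj j' hj' => hinj t ((Finset.mem_filter.1 hj).2.trans (Finset.mem_filter.1 hj').2.symm)
    have heq : ∀ x, 2 * ((Finset.univ.filter fun l => (b ∘ e) l = x).card / 2) =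
        2 * (Finset.univ.filter fun l => c l = x).card := fun x => by
      rw [hcard]
      have := hle x
      omega
    rw [Finset.sum_congr rfl fun x _ => heq x, ← Finset.mul_sum,
      ← Finset.card_eq_sum_card_fiberwise (f := c) (s := Finset.univ) (t := Finset.univ) fun _ _ => Finset.mem_univ _,
      Finset.card_univ, Fintype.card_fin]
    omega

/-- Diagonal members of `SU`. -/
theorem exists_diag (lam : Fin n → F) (hlam : ∀ l, lam l ^ (q + 1) = 1) (hprod : ∏ l, lam l = 1) :
    ∃ x : Matrix.SpecialLinearGroup (Fin n) F, x ∈ Cfsg.SU n F q ∧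
      (x : Matrix (Fin n) (Fin n) F) = Matrix.diagonal lam ∧ ∀ v l, slin x v l = lam l * v l := by
  refine ⟨⟨Matrix.diagonal lam, by rw [Matrix.det_diagonal, hprod]⟩, ?_, rfl, fun v l => Matrix.mulVec_diagonal lam v l⟩
  refine mem_SU_iff.2 fun u v => ?_
  show herm q (Matrix.toLin' (Matrix.diagonal lam) u) (Matrix.toLin' (Matrix.diagonal lam) v) = _
  simp only [Matrix.toLin'_apply, herm, hermForm]
  refine Finset.sum_congr rfl fun l _ => ?_
  rw [Matrix.mulVec_diagonal, Matrix.mulVec_diagonal, mul_pow, mul_mul_mul_comm, ← pow_succ', hlam, one_mul]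

omit hF in
/-- Splitting an invariant subspace into fixed and moved parts. -/
theorem split_parts [hr : Fact r.Prime] (hrF : (r : F) ≠ 0) {T : Module.End F (Fin n → F)} (hTr : T ^ r = 1)
    {P : Submodule F (Fin n → F)} (hP : P.map T ≤ P) :
    P.map (T - 1) ≤ P ∧ (P.map (T - 1)).map T ≤ P.map (T - 1) ∧
      finrank F (P.map (T - 1)) + finrank F ↥(P ⊓ LinearMap.ker (T - 1)) = finrank F P := by
  refine ⟨?_, ?_, Inv.finrank_split T P⟩
  · rintro _ ⟨v, hv, rfl⟩
    exact P.sub_mem (hP ⟨v, hv, rfl⟩) hv
  · rintro _ ⟨_, ⟨v, hv, rfl⟩, rfl⟩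
    exact ⟨T v, hP ⟨v, hv, rfl⟩, by simp⟩

end


/-- Elements of prime order of PSU_n(q) with no fixed totally isotropic `m`-space. Here `T = PSU_n(q)` (`n ≥ 3`, `(n, q) ≠ (3, 2)`), realised through the matrices of determinant 1 over the field `F` with `q²` elements preserving the Hermitian form `h(u, v) = Σ u_i v_i^q`; an element of `T` of prime order `r` is such a matrix `x` with `x^r` scalar and `x` not scalar. For `r ≠ p` let `i` be the multiplicative order of `q` modulo `r`, `b = i/2` for `i` even and `b = i` for `i` odd, `c = i, i/2, 2i` according as `i ≡ 0, 2 (mod 4)` or `i` odd, and write `k = n mod c`, `ℓ = m mod b`, `ℓ' = m mod c`, `n' = ⌊n/b⌋`, `m' = ⌊m/b⌋`, `s = (r−1)/b`; `(a)_r` is the `r`-part of `a`. Let `1 ≤ m ≤ n/2` and let `r` be a prime dividing the number of totally isotropic `m`-spaces. Then every element of `T` of order `r` fixes a totally isotropic `m`-space if and only if either (i) `r = 2`, `p ≠ 2`, and (`m < n/2` or `(q+1)_2 ≤ (n)_2`); or (ii) `r ≠ p`, `r > 2`, `b ≤ m`, `k ≥ 2ℓ`,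 and either `i ≢ 2 (mod 4)`, or `i ≡ 2 (mod 4)`, `n' − 2m' ≥ s` and (`i > 2`, or `i = 2` and (`r ∣ m` or `(q+1)_r ≥ (n)_r`)). -/
theorem result {F : Type*} [Field F] [Fintype F] {p : ℕ} [Fact p.Prime] [CharP F p] {q : ℕ} (hq : Fintype.card F = q ^ 2)
    (n m : ℕ) (hn : 3 ≤ n) (hT : (n, q) ≠ (3, 2)) (hm : 1 ≤ m) (hmn : 2 * m ≤ n)
    (r : ℕ) [Fact r.Prime]
    (hrΩ : r ∣ Nat.card {W : Submodule F (Fin n → F) // Module.finrank F ↥W = m ∧ (∀ u ∈ W, ∀ v ∈ W, Cfsg.hermForm n F q u v = 0)})
    (i b c : ℕ) (hi : i = orderOf (q : ZMod r)) (hb : b = if Even i then i / 2 else i)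
    (hc : c = if i % 4 = 0 then i else if i % 4 = 2 then i / 2 else 2 * i) :
    (∀ x : Matrix.SpecialLinearGroup (Fin n) F, x ∈ Cfsg.SU n F q →
      (∃ z : F, ((x ^ r : Matrix.SpecialLinearGroup (Fin n) F) : Matrix (Fin n) (Fin n) F) = z • (1 : Matrix (Fin n) (Fin n) F)) →
      (∀ z : F, (x : Matrix (Fin n) (Fin n) F) ≠ z • (1 : Matrix (Fin n) (Fin n) F)) →
      ∃ W : Submodule F (Fin n → F), Module.finrank F ↥W = m ∧ (∀ u ∈ W, ∀ v ∈ W, Cfsg.hermForm n F q u v = 0) ∧
        W.map (Matrix.toLin' (x : Matrix (Fin n) (Fin n) F)) ≤ W) ↔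
    ((r = 2 ∧ p ≠ 2 ∧ (2 * m < n ∨ padicValNat 2 (q + 1) ≤ padicValNat 2 n)) ∨
     (r ≠ p ∧ 2 < r ∧ b ≤ m ∧ 2 * (m % b) ≤ n % c ∧
       (i % 4 ≠ 2 ∨ (i % 4 = 2 ∧ (r - 1) / b + 2 * (m / b) ≤ n / b ∧
         (2 < i ∨ (i = 2 ∧ (r ∣ m ∨ padicValNat r n ≤ padicValNat r (q + 1)))))))) := by
  classical
  have hrΩ' : r ∣ Nat.card {W : Submodule F (Fin n → F) // TIm q m W} := hrΩ
  have hrpr : r.Prime := Fact.out
  obtain ⟨hrq, j, hj1, hj2, hj3⟩ := exists_dvd_factor hq (by omega) hmn hrΩ'
  have hq2 := two_le_q hq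
  have hrp : r ≠ p := fun e => hrq (by
    obtain ⟨p', k, hp', hk, hc', hqk⟩ := exists_prime_pow hq
    have : p' = p := CharP.eq F hc' ‹CharP F p›
    rw [hqk, e, this]; exact dvd_pow_self _ hk.ne')
  have hrF := Inv.cast_ne_zero_of_ne (F := F) hrp
  by_cases hr2 : r = 2
  · subst hr2
    have hp2 : p ≠ 2 := Ne.symm hrp
    have h20 : (2 : F) ≠ 0 := by exact_mod_cast hrF
    constructor
    · intro hall
      refine Or.inl ⟨rfl, hp2, ?_⟩
      by_contra hcon
      push Not at hcon
      obtain ⟨h2m, hv⟩ := hcon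
      have hn2 : n = 2 * m := by omega
      set e := padicValNat 2 n with he
      have hd1 : 2 ^ (e + 1) ∣ q + 1 := (padicValNat_dvd_iff_le (by omega)).2 hv
      obtain ⟨g, hg⟩ := IsCyclic.exists_ofOrder_eq_natCard (α := Fˣ)
      rw [Nat.card_units, Nat.card_eq_fintype_card, UnitFix.card_sub_one hq] at hg
      obtain ⟨M, hM⟩ : 2 ^ (e + 1) ∣ (q + 1) * (q - 1) := hd1.mul_right _
      have hM0 : M ≠ 0 := fun h => by
        rw [h, mul_zero, mul_eq_zero] at hM
        omega
      set w : F := ((g ^ M : Fˣ) : F) with hw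
      have hord : orderOf w = 2 ^ (e + 1) := by
        rw [hw, orderOf_units, orderOf_pow' _ hM0, hg, hM, Nat.gcd_mul_left_left, Nat.mul_div_cancel _ (Nat.pos_of_ne_zero hM0)]
      have hwq : w ^ (q + 1) = 1 := orderOf_dvd_iff_pow_eq_one.1 (hord ▸ hd1)
      have hwn : w ^ n = -1 := by
        have h1 : (w ^ n) * (w ^ n) = 1 := by
          rw [← pow_add, ← two_mul]
          exact orderOf_dvd_iff_pow_eq_one.1 (hord ▸ by rw [pow_succ']; exact mul_dvd_mul_left 2 pow_padicValNat_dvd)
        refine (mul_self_eq_one_iff.1 h1).resolve_left fun h => ?_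
        have := orderOf_dvd_of_pow_eq_one h
        rw [hord, padicValNat_dvd_iff_le (by omega)] at this
        omega
      let i0 : Fin n := ⟨0, by omega⟩
      let lam : Fin n → F := Function.update (fun _ => w) i0 (-w)
      have hqo : Even (q + 1) := even_iff_two_dvd.2 (dvd_trans (dvd_pow_self 2 (by omega)) hd1)
      obtain ⟨x, hx, hxm, hxl⟩ := exists_diag hq lam (fun l => by
          by_cases h : l = i0
          · subst h; simp only [lam, Function.update_self]; rw [hqo.neg_pow, hwq]
          · simp only [lam, Function.update_of_ne h, hwq])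
        (by
          rw [Finset.prod_update_of_mem (Finset.mem_univ _), Finset.prod_const, ← Finset.erase_eq,
            Finset.card_erase_of_mem (Finset.mem_univ _), Finset.card_univ, Fintype.card_fin, neg_mul,
            ← pow_succ', Nat.sub_add_cancel (by omega), hwn, neg_neg])
      obtain ⟨W, hWd, hWT, hWi⟩ := hall x hx ⟨w * w, by
          rw [Matrix.SpecialLinearGroup.coe_pow, hxm, Matrix.diagonal_pow, ← Matrix.diagonal_one, ← Matrix.diagonal_smul]
          congr 1
          funext l
          by_cases h : l = i0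
          · subst h; simp [lam, pow_two]
          · simp [lam, Function.update_of_ne h, pow_two]⟩ (fun z hz => by
          rw [hxm] at hz
          have e0 := congrFun (congrFun hz i0) i0
          have e1 := congrFun (congrFun hz ⟨1, by omega⟩) ⟨1, by omega⟩
          have hne : (⟨1, by omega⟩ : Fin n) ≠ i0 := by simp [i0, Fin.ext_iff]
          simp [lam, Function.update_of_ne hne] at e0 e1
          have hw0 : w ≠ 0 := Units.ne_zero _
          exact hw0 ((mul_eq_zero.1 (show (2 : F) * w = 0 by linear_combination e1 - e0)).resolve_left h20))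
      have hWi' : W.map (slin x) ≤ W := hWi
      have hle : W ≤ supp {i0} := fun v hv l hl => by
        rw [Finset.mem_singleton] at hl
        subst hl
        have hd : (2 * w * v i0) • (eI i0 : Fin n → F) ∈ W := by
          have := W.sub_mem (W.smul_mem w hv) (hWi' ⟨v, hv, rfl⟩)
          convert this using 1
          funext l
          rw [Pi.sub_apply, hxl]
          by_cases h : l = i0
          · subst h; simp [lam, eI]; ring
          · simp [lam, Function.update_of_ne h, eI, h]
        have h0 := hWT _ hd _ hd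
        change herm q _ _ = 0 at h0
        rw [herm_smul_left, herm_smul_right hq, herm_eI_eI hq, if_pos rfl, mul_one, ← pow_succ'] at h0
        have h0' := h0
        exact (mul_eq_zero.1 (pow_eq_zero_iff (by omega) |>.1 h0')).resolve_left
          (mul_ne_zero h20 (Units.ne_zero _))
      have hnd : Nd q (supp {i0} : Submodule F (Fin n → F)) := fun u hu h => funext fun l => by
        by_cases hl : l = i0
        · subst hl; exact hu _ (Finset.mem_singleton_self _)
        · have := h (eI l) (eI_mem_supp (by simpa using hl))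
          rwa [herm_eI_right hq] at this
      have hlt : finrank F (supp {i0} : Submodule F (Fin n → F)) < n := by
        refine lt_of_lt_of_le (Submodule.finrank_lt fun h => ?_) (le_of_eq (Module.finrank_fin_fun F))
        have := (h ▸ Submodule.mem_top : (eI i0 : Fin n → F) ∈ supp {i0}) i0 (Finset.mem_singleton_self _)
        simp [eI] at this
      have := ti_le hq hle hnd hWT
      omega
    · rintro (⟨-, -, hcond⟩ | ⟨-, hc', -⟩) x hx ⟨z, hxz⟩ -
      swap
      · omega
      obtain ⟨hlr, -⟩ := scalar_pow hxz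
      have hiso := mem_SU_iff.1 hx
      have hzq := scalar_norm hq (by omega) hiso hlr
      have hz0 : z ≠ 0 := fun e => by rw [e, zero_pow (by omega)] at hzq; exact zero_ne_one hzq
      have hqo : Odd q := Nat.not_even_iff_odd.1 fun h => hrq h.two_dvd
      obtain ⟨qh, hqh⟩ := hqo
      obtain ⟨w, hw⟩ : IsSquare z := (FiniteField.isSquare_iff (by rw [ringChar.eq F p]; exact hp2) hz0).2 (by
        rw [show Fintype.card F / 2 = (q + 1) * qh by
          rw [hq, hqh, show (2 * qh + 1) ^ 2 = 2 * ((2 * qh + 1 + 1) * qh) + 1 by ring]; omega,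
          pow_mul, hzq, one_pow])
      have hw0 : w ≠ 0 := fun e => hz0 (by rw [hw, e, mul_zero])
      have hs : w ^ (q + 1) * w ^ (q + 1) = 1 := by rw [← mul_pow, ← hw, hzq]
      set T := w⁻¹ • slin x with hT
      have hT2 : ∀ v, T (T v) = v := fun v => by
        have h1 : slin x (slin x v) = z • v := by rw [← Module.End.mul_apply, ← pow_two, hlr]; rfl
        simp only [hT, LinearMap.smul_apply, map_smul, h1, smul_smul, hw]
        rw [show w⁻¹ * (w⁻¹ * (w * w)) = 1 by field_simp, one_smul]
      have hTf : ∀ u v, herm q (T u) (T v) = (w ^ (q + 1))⁻¹ * herm q u v := fun u v => by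
        rw [hT, LinearMap.smul_apply, LinearMap.smul_apply, herm_smul_left, herm_smul_right hq, hiso, inv_pow, pow_succ']
        field_simp
      set A := LinearMap.ker (T - 1)
      set B := LinearMap.ker (T + 1)
      have hA : ∀ v, v ∈ A ↔ T v = v := fun v => by
        simp only [A, LinearMap.mem_ker, LinearMap.sub_apply, Module.End.one_apply, sub_eq_zero]
      have hB : ∀ v, v ∈ B ↔ T v = -v := fun v => by
        simp only [B, LinearMap.mem_ker, LinearMap.add_apply, Module.End.one_apply, add_eq_zero_iff_eq_neg]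
      have hdec : IsCompl A B := by
        refine ⟨Submodule.disjoint_def.2 fun v h1 h2 => ?_, codisjoint_iff_le_sup.2 fun v _ => ?_⟩
        · rw [hA] at h1
          rw [hB, h1] at h2
          have : (2 : F) • v = 0 := by rw [two_smul]; nth_rewrite 2 [h2]; exact add_neg_cancel v
          exact (smul_eq_zero.1 this).resolve_left h20
        · rw [show v = (2 : F)⁻¹ • (v + T v) + (2 : F)⁻¹ • (v - T v) by
            rw [← smul_add, show v + T v + (v - T v) = (2 : F) • v by module, smul_smul, inv_mul_cancel₀ h20, one_smul]]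
          exact Submodule.add_mem_sup (A.smul_mem _ ((hA _).2 (by rw [map_add, hT2]; abel)))
            (B.smul_mem _ ((hB _).2 (by rw [map_sub, hT2]; abel)))
      have hdim : finrank F A + finrank F B = n := by
        have := Submodule.finrank_add_eq_of_isCompl hdec
        rwa [Module.finrank_fin_fun] at this
      have hinv : ∀ P : Submodule F (Fin n → F), (∀ v ∈ P, T v ∈ P) → P.map (Matrix.toLin' (x : Matrix (Fin n) (Fin n) F)) ≤ P := by
        rintro P hP _ ⟨v, hv, rfl⟩
        have := P.smul_mem w (hP v hv)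
        rwa [hT, LinearMap.smul_apply, smul_smul, mul_inv_cancel₀ hw0, one_smul] at this
      rcases mul_self_eq_one_iff.1 hs with hs1 | hs1
      · have horth : ∀ a ∈ A, ∀ b ∈ B, herm q a b = 0 := fun a ha b hb => by
          have := hTf a b
          rw [(hA a).1 ha, (hB b).1 hb, hs1, inv_one, one_mul, herm_neg_right hq] at this
          exact (mul_eq_zero.1 (show (2 : F) * herm q a b = 0 by linear_combination -this)).resolve_left h20
        have hAn : Nd q A := fun u hu h => eq_zero_of_herm hq fun y => by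
          obtain ⟨a, ha, b, hb, rfl⟩ := Submodule.mem_sup.1 (hdec.sup_eq_top ▸ Submodule.mem_top : y ∈ A ⊔ B)
          rw [herm_add_right hq, h a ha, horth u hu b hb, add_zero]
        have hBn : Nd q B := fun u hu h => eq_zero_of_herm hq fun y => by
          obtain ⟨a, ha, b, hb, rfl⟩ := Submodule.mem_sup.1 (hdec.sup_eq_top ▸ Submodule.mem_top : y ∈ A ⊔ B)
          rw [herm_add_right hq, h b hb, (herm_eq_zero_comm hq).1 (horth a ha u hu), zero_add]
        obtain ⟨a1, a2, h1, h2, h12⟩ : ∃ a1 a2, 2 * a1 ≤ finrank F A ∧ 2 * a2 ≤ finrank F B ∧ a1 + a2 = m := by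
          refine ⟨min m (finrank F A / 2), m - min m (finrank F A / 2), by omega, ?_, by omega⟩
          rcases hcond with h | h
          · omega
          by_cases hbo : Even (finrank F B)
          · obtain ⟨bb, hbb⟩ := hbo; omega
          exfalso
          rw [Nat.not_even_iff_odd] at hbo
          have hdetT : LinearMap.det T = (-1 : F) ^ finrank F B := by
            have hTE : T = (Submodule.prodEquivOfIsCompl A B hdec).conj
                ((LinearMap.id : A →ₗ[F] A).prodMap (-LinearMap.id : B →ₗ[F] B)) := by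
              refine LinearMap.ext fun v => ?_
              obtain ⟨⟨a, b⟩, rfl⟩ := (Submodule.prodEquivOfIsCompl A B hdec).surjective v
              rw [LinearEquiv.conj_apply_apply, LinearEquiv.symm_apply_apply, LinearMap.prodMap_apply,
                Submodule.coe_prodEquivOfIsCompl', Submodule.coe_prodEquivOfIsCompl', map_add, (hA a).1 a.2, (hB b).1 b.2]
              simp
            rw [hTE, LinearEquiv.conj_apply, LinearMap.comp_assoc, LinearMap.det_conj, LinearMap.det_prodMap,
              LinearMap.det_id, one_mul, ← neg_one_smul F (LinearMap.id : B →ₗ[F] B), LinearMap.det_smul,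
              LinearMap.det_id, mul_one]
          rw [hT, LinearMap.det_smul, Module.finrank_fin_fun, hbo.neg_one_pow, slin, LinearMap.det_toLin', x.2,
            mul_one, inv_pow, inv_eq_iff_eq_inv, inv_neg, inv_one] at hdetT
          have hw2n : w ^ (2 * n) = 1 := by rw [mul_comm, pow_mul, hdetT, neg_one_sq]
          have hg := pow_gcd_eq_one.mpr ⟨hw2n, hs1⟩
          obtain ⟨dd, hdd⟩ := Nat.gcd_dvd_left (2 * n) (q + 1)
          rcases Nat.even_or_odd dd with ⟨d', hd'⟩ | hdo
          · have hgn : Nat.gcd (2 * n) (q + 1) ∣ n := ⟨d', by rw [hd', mul_add] at hdd; omega⟩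
            obtain ⟨k, hk⟩ := hgn
            rw [hk, pow_mul, hg, one_pow] at hdetT
            exact h20 (by linear_combination hdetT)
          · have h2e : 2 ^ (padicValNat 2 n + 1) ∣ Nat.gcd (2 * n) (q + 1) * dd :=
              hdd ▸ (by rw [pow_succ']; exact mul_dvd_mul_left 2 pow_padicValNat_dvd)
            have := ((Nat.coprime_two_left.2 hdo).pow_left _).dvd_of_dvd_mul_right h2e
            have := (padicValNat_dvd_iff_le (by omega)).1 (this.trans (Nat.gcd_dvd_right _ _))
            omega
        obtain ⟨P, hPA, hPT, hPd⟩ := exists_ti hq a1 hAn h1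
        obtain ⟨R, hRB, hRT, hRd⟩ := exists_ti hq a2 hBn h2
        refine ⟨P ⊔ R, ?_, ?_, hinv _ fun v hv => ?_⟩
        · have h := Submodule.finrank_sup_add_finrank_inf_eq P R
          rw [(hdec.disjoint.mono hPA hRB).eq_bot, finrank_bot, hPd, hRd] at h
          omega
        · intro u hu v hv
          obtain ⟨a, ha, b, hb, rfl⟩ := Submodule.mem_sup.1 hu
          obtain ⟨a', ha', b', hb', rfl⟩ := Submodule.mem_sup.1 hv
          show herm q _ _ = 0
          rw [herm_add_left, herm_add_right hq, herm_add_right hq, hPT a ha a' ha', hRT b hb b' hb',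
            horth a (hPA ha) b' (hRB hb'), (herm_eq_zero_comm hq).1 (horth a' (hPA ha') b (hRB hb))]
          simp
        · obtain ⟨a, ha, b, hb, rfl⟩ := Submodule.mem_sup.1 hv
          rw [map_add, (hA a).1 (hPA ha), (hB b).1 (hRB hb)]
          exact Submodule.add_mem_sup ha (R.neg_mem hb)
      · have hTI : ∀ a b, (T a = a ∧ T b = b) ∨ (T a = -a ∧ T b = -b) → herm q a b = 0 := fun a b h => by
          have := hTf a b
          rw [hs1, inv_neg, inv_one, neg_one_mul] at this
          rcases h with ⟨h1, h2⟩ | ⟨h1, h2⟩ <;> rw [h1, h2] at this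
          · exact (mul_eq_zero.1 (show (2 : F) * herm q a b = 0 by linear_combination this)).resolve_left h20
          · rw [herm_neg_left, herm_neg_right hq, neg_neg] at this
            exact (mul_eq_zero.1 (show (2 : F) * herm q a b = 0 by linear_combination this)).resolve_left h20
        have hAT : TI q A := fun a ha b hb => hTI a b (Or.inl ⟨(hA a).1 ha, (hA b).1 hb⟩)
        have hBT : TI q B := fun a ha b hb => hTI a b (Or.inr ⟨(hB a).1 ha, (hB b).1 hb⟩)
        have hA2 := ti_le hq (le_top : A ≤ ⊤) (nd_top hq) hAT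
        have hB2 := ti_le hq (le_top : B ≤ ⊤) (nd_top hq) hBT
        rw [finrank_top, Module.finrank_fin_fun] at hA2 hB2
        let β := Module.finBasis F A
        have hle : m ≤ finrank F A := by omega
        have hli : LinearIndependent F fun l : Fin m => (β (Fin.castLE hle l) : Fin n → F) :=
          (β.linearIndependent.comp _ (Fin.castLE_injective hle)).map' A.subtype A.ker_subtype
        refine ⟨Submodule.span F (Set.range fun l : Fin m => (β (Fin.castLE hle l) : Fin n → F)),
          by rw [finrank_span_eq_card hli, Fintype.card_fin], ?_, hinv _ fun v hv => ?_⟩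
        · have hsub : Submodule.span F (Set.range fun l : Fin m => (β (Fin.castLE hle l) : Fin n → F)) ≤ A :=
            Submodule.span_le.2 (by rintro _ ⟨l, rfl⟩; exact SetLike.coe_mem _)
          exact fun u hu v hv => hAT u (hsub hu) v (hsub hv)
        · have hvA : v ∈ A := (Submodule.span_le.2 (by rintro _ ⟨l, rfl⟩; exact SetLike.coe_mem _)) hv
          rwa [(hA v).1 hvA]
  -- odd primes
  have hr3 : 2 < r := lt_of_le_of_ne hrpr.two_le (Ne.symm hr2)
  have N : Num F q r i b c := ⟨hq, hrF, hr2, hi, hb, hc⟩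
  have hbp := N.b_pos
  have hcp := N.c_pos
  have hcj : c ∣ j := (N.dvd_iff j).1 hj3
  have hkm : n % c < 2 * m := by
    obtain ⟨j', rfl⟩ := hcj
    have h1 : j' ≤ n / c := (Nat.le_div_iff_mul_le hcp).2 (by rwa [mul_comm])
    have h2 := Nat.div_add_mod n c
    have h3 : c * j' ≤ c * (n / c) := Nat.mul_le_mul_left c h1
    omega
  have hi2 : r ∣ q + 1 ↔ i = 2 := by
    rw [← ZMod.natCast_eq_zero_iff, Nat.cast_add, Nat.cast_one, add_eq_zero_iff_eq_neg, ← pow_one (q : ZMod r),
      N.neg_one_iff]
    constructor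
    · rintro ⟨h1, h2⟩
      have := Nat.le_of_dvd two_pos h1
      have := N.i_pos
      interval_cases i <;> omega
    · rintro rfl; omega
  set s := (r - 1) / b with hs
  have hsb : s * b = r - 1 := Nat.div_mul_cancel N.b_dvd_pred
  have hscal : ∀ T : Module.End F (Fin n → F), finrank F (LinearMap.ker (T - 1)) < n → T ^ r = 1 → ¬ r ∣ q + 1 →
      (∀ u v, herm q (T u) (T v) = herm q u v) → ∀ c : F, T ≠ c • 1 := by
    intro T hlt hTr hndvd hiso c hc'
    have hc1 : c ^ r = 1 := by
      have h1 := LinearMap.congr_fun hTr (eI ⟨0, by omega⟩)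
      rw [hc', _root_.smul_pow, one_pow] at h1
      simpa [eI] using congrFun h1 ⟨0, by omega⟩
    have hcq : c ^ (q + 1) = 1 := by
      have := hiso (eI ⟨0, by omega⟩) (eI ⟨0, by omega⟩)
      rw [hc'] at this
      simp only [LinearMap.smul_apply, Module.End.one_apply, herm_smul_left, herm_smul_right hq, herm_eI_eI hq,
        if_true, mul_one] at this
      rwa [pow_succ]
    have := pow_gcd_eq_one.mpr ⟨hc1, hcq⟩
    rw [(hrpr.coprime_iff_not_dvd.2 hndvd).gcd_eq_one, pow_one] at this
    rw [hc', this, one_smul, sub_self, LinearMap.ker_zero, finrank_top, Module.finrank_fin_fun] at hlt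
    exact lt_irrefl n hlt
  constructor
  · intro hall
    refine Or.inr ⟨hrp, hr3, ?_⟩
    have hcase : ∀ T : Module.End F (Fin n → F), (∀ u v, herm q (T u) (T v) = herm q u v) → T ^ r = 1 → ¬ r ∣ q + 1 →
        finrank F (LinearMap.ker (T - 1)) < n →
        (∀ P : Submodule F (Fin n → F), P.map T ≤ P → TI q P → finrank F P ≠ m) → False := by
      intro T hiso hTr hnd hlt hno
      obtain ⟨x, hx, hxT⟩ := exists_SU hq hiso (det_eq_one hq hnd hiso hTr)
      have hxm : (x : Matrix (Fin n) (Fin n) F) = LinearMap.toMatrixAlgEquiv' T := by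
        rw [← hxT, slin]; exact (LinearMap.toMatrix'_toLin' _).symm
      obtain ⟨W, hWd, hWT, hWi⟩ := hall x hx
        ⟨1, by rw [Matrix.SpecialLinearGroup.coe_pow, hxm, ← map_pow, hTr, map_one, one_smul]⟩
        (not_scalar (by omega) hxT (hscal T hlt hTr hnd hiso))
      refine hno W ?_ hWT hWd
      rw [← hxT]
      exact hWi
    have htwo : ∀ (hi2' : i = 2), n + 1 < r + 2 * m → False := by
      intro hi2' hlt
      obtain ⟨a, ha0, ⟨l, l', hll⟩, hasum⟩ := exists_fibres (r := r) hr2 hn hm hmn (by omega)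
      obtain ⟨g, hg⟩ := exists_prime_orderOf_dvd_card' (G := Fˣ) r (by
        rw [Nat.card_units, Nat.card_eq_fintype_card, UnitFix.card_sub_one hq]
        exact (hi2.2 hi2').mul_right _)
      set ζ : F := (g : F) with hζ
      have hζo : orderOf ζ = r := by rw [hζ, orderOf_units, hg]
      have hev : Function.Injective fun x : ZMod r => ζ ^ x.val := fun x y hxy => by
        refine ZMod.val_injective r (pow_injOn_Iio_orderOf ?_ ?_ hxy) <;>
          rw [hζo] <;> exact ZMod.val_lt _
      have hζq : ∀ x : ZMod r, (ζ ^ x.val) ^ (q + 1) = 1 := fun x => by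
        rw [← pow_mul]
        refine orderOf_dvd_iff_pow_eq_one.1 ?_
        rw [hζo]
        exact (hi2.2 hi2').mul_left _
      obtain ⟨x, hx, hxm, hxl⟩ := exists_diag hq (fun l => ζ ^ (a l).val) (fun l => hζq _) (by
        rw [Finset.prod_pow_eq_pow_sum]
        refine orderOf_dvd_iff_pow_eq_one.1 ?_
        rw [hζo, ← ZMod.natCast_eq_zero_iff, Nat.cast_sum, ← ha0]
        exact Finset.sum_congr rfl fun l _ => ZMod.natCast_zmod_val _)
      obtain ⟨W, hWd, hWT, hWi⟩ := hall x hx ⟨1, by
          rw [Matrix.SpecialLinearGroup.coe_pow, hxm, Matrix.diagonal_pow, one_smul, ← Matrix.diagonal_one]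
          congr 1
          funext l
          rw [Pi.pow_apply, ← pow_mul, mul_comm, pow_mul,
            orderOf_dvd_iff_pow_eq_one.1 (dvd_of_eq hζo), one_pow]⟩ (fun z hz => hll (hev (by
          rw [hxm] at hz
          have e0 := congrFun (congrFun hz l) l
          have e1 := congrFun (congrFun hz l') l'
          simp at e0 e1
          exact e0.trans e1.symm)))
      have := diag_bound hq a _ hev (T := slin x) hxl hWi hWT
      omega
    have hbm : b ≤ m ∧ 2 * (m % b) ≤ n % c := by
      by_cases hi2' : i = 2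
      · obtain ⟨hcb, -, -⟩ := N.c_two (by omega)
        have hb1 : b = 1 := by rw [hb, hi2']; rfl
        rw [hb1, Nat.mod_one]
        omega
      by_contra hcon
      have hndvd : ¬ r ∣ q + 1 := fun h => hi2' (hi2.1 h)
      have hS : n / c * c ≤ n := Nat.div_mul_le_self n c
      have hS' : 0 < n / c := Nat.div_pos ((Nat.le_of_dvd (by omega) hcj).trans hj2) hcp
      obtain ⟨T, hiso, hTr, hker⟩ := exists_elem N (n := n) (s := n / c) hS
      have hk : n - n / c * c = n % c := by
        have := Nat.div_add_mod n c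
        rw [mul_comm] at this
        omega
      rw [hk] at hker
      refine hcase T hiso hTr hndvd (by rw [hker]; exact lt_of_lt_of_le (Nat.mod_lt _ hcp) ((Nat.le_of_dvd (by omega) hcj).trans hj2))
        fun P hP hPT hPd => ?_
      obtain ⟨hle, hPi, hdim⟩ := split_parts hrF hTr hP
      obtain ⟨jj, hjj⟩ := dvd_ti N hiso hTr LinearMap.map_le_range hPi
      obtain ⟨-, hCn, -, -⟩ := parts N hiso hTr (W := ⊤) le_top (nd_top hq)
      rw [top_inf_eq] at hCn
      have ha := ti_le hq (W := P ⊓ LinearMap.ker (T - 1)) inf_le_right hCn fun u hu v hv => hPT u hu.1 v hv.1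
      rw [hker] at ha
      rw [hjj, hPd] at hdim
      rw [not_and_or] at hcon
      rcases hcon with h | h
      · rcases Nat.eq_zero_or_pos jj with rfl | h0
        · rw [mul_zero] at hdim; omega
        · have := Nat.le_mul_of_pos_right b h0
          omega
      · have h1 : m % b = finrank F ↥(P ⊓ LinearMap.ker (T - 1)) % b := by
          rw [← hdim, Nat.mul_add_mod]
        have := Nat.mod_le (finrank F ↥(P ⊓ LinearMap.ker (T - 1))) b
        omega
    refine ⟨hbm.1, hbm.2, ?_⟩
    by_cases h4 : i % 4 = 2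
    swap
    · exact Or.inl h4
    refine Or.inr ⟨h4, ?_, ?_⟩
    · by_contra hcon
      rw [not_le] at hcon
      obtain ⟨hcb, -, hib⟩ := N.c_two h4
      by_cases hi2' : i = 2
      · have hb1 : b = 1 := by omega
        rw [hb1, Nat.div_one, Nat.div_one] at hcon
        have : s = r - 1 := by rw [← hsb, hb1, mul_one]
        exact htwo hi2' (by omega)
      have hndvd : ¬ r ∣ q + 1 := fun h => hi2' (hi2.1 h)
      set u := min s (n / b) with hu
      have hub : u * b ≤ r - 1 := (Nat.mul_le_mul_right b (min_le_left _ _)).trans hsb.le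
      have hun : u * b ≤ n := (Nat.mul_le_mul_right b (min_le_right _ _)).trans (Nat.div_mul_le_self n b)
      have hu0 : 0 < u := by
        refine lt_min ?_ (Nat.div_pos (by omega) hbp)
        rcases Nat.eq_zero_or_pos s with h | h
        · rw [h, zero_mul] at hsb; omega
        · exact h
      obtain ⟨T, hiso, hTr, hker, hg⟩ := exists_distinct N h4 hub hun
      have hub0 : 0 < u * b := Nat.mul_pos hu0 hbp
      refine hcase T hiso hTr hndvd (by omega) fun P hP hPT hPd => ?_
      obtain ⟨hle, hPi, hdim⟩ := split_parts hrF hTr hP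
      have hbot := ti_eq_bot N h4 hiso hTr hg LinearMap.map_le_range hPi fun u hu v hv => hPT u (hle hu) v (hle hv)
      rw [hbot, finrank_bot, hPd, zero_add] at hdim
      obtain ⟨-, hCn, -, -⟩ := parts N hiso hTr (W := ⊤) le_top (nd_top hq)
      rw [top_inf_eq] at hCn
      have ha := ti_le hq (W := P ⊓ LinearMap.ker (T - 1)) inf_le_right hCn fun u hu v hv => hPT u hu.1 v hv.1
      rw [hker, hdim] at ha
      rcases le_or_gt s (n / b) with hsn | hsn
      · rw [hu, min_eq_left hsn] at ha hun
        have h1 : (s + 2 * (m / b)) * b ≤ n := by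
          rw [add_mul, mul_assoc]
          have := Nat.div_mul_le_self m b
          omega
        have := (Nat.le_div_iff_mul_le hbp).2 h1
        omega
      · rw [hu, min_eq_right hsn.le] at ha
        have h1 := Nat.div_add_mod n b
        rw [mul_comm] at h1
        have := Nat.mod_lt n hbp
        omega
    · by_contra hcon
      push Not at hcon
      obtain ⟨h1, h2⟩ := hcon
      have hi2' : i = 2 := by omega
      obtain ⟨hrm, hv⟩ := h2 hi2'
      obtain ⟨x, hx, hz, hns, hdiv⟩ := exists_nonpower hq hr2 (hi2.2 hi2') (by omega) hv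
      obtain ⟨W, hWd, -, hWi⟩ := hall x hx hz hns
      exact hrm (hWd ▸ hdiv W hWi)
  · rintro (⟨hr2', -⟩ | ⟨-, -, hbm, hkl, hcond⟩) x hx ⟨z, hxz⟩ -
    · exact absurd hr2' hr2
    obtain ⟨hlr, hmat⟩ := scalar_pow hxz
    have hiso := mem_SU_iff.1 hx
    have hzq := scalar_norm hq (by omega) hiso hlr
    have hz0 : z ≠ 0 := fun e => by rw [e, zero_pow (by omega)] at hzq; exact zero_ne_one hzq
    by_cases hpow : r ∣ q + 1 → ∃ w, w ^ r = z
    · obtain ⟨w, hw, hwq⟩ := exists_root hq hzq hr2 hpow
      obtain ⟨hiso0, hTr, hw0⟩ := normalise hq (by omega) hiso hlr hw hwq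
      set T := w⁻¹ • slin x
      suffices hW : ∃ W : Submodule F (Fin n → F), W.map T ≤ W ∧ TI q W ∧ finrank F W = m by
        obtain ⟨W, hWi, hWT, hWd⟩ := hW
        refine ⟨W, hWd, hWT, ?_⟩
        rintro _ ⟨v, hv, rfl⟩
        have := W.smul_mem w (hWi ⟨v, hv, rfl⟩)
        rwa [LinearMap.smul_apply, smul_smul, mul_inv_cancel₀ hw0, one_smul] at this
      by_cases hi2' : i = 2
      · obtain ⟨hcb, hbo, hib⟩ := N.c_two (by omega)
        have hb1 : b = 1 := by omega
        rcases hcond with h | ⟨-, hcount, -⟩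
        · omega
        simp only [hb1, Nat.div_one] at hcount
        have hsr : s = r - 1 := by rw [← hsb, hb1, mul_one]
        have hTQ : ∀ w ∈ (⊤ : Submodule F (Fin n → F)), (T ^ (q ^ 1)) (T w) = w := fun w _ => by
          rw [pow_one, ← Module.End.mul_apply, ← pow_succ]
          obtain ⟨k, hk⟩ := hi2.2 hi2'
          rw [hk, pow_mul, hTr, one_pow, Module.End.one_apply]
        have hz1 : T ^ r = (1 : F) • 1 := by rw [hTr, one_smul]
        have hf0 : (X ^ r - 1 : F[X]) ≠ 0 := X_pow_sub_C_ne_zero hrpr.pos 1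
        have hdeg : ∀ g : F[X], Irreducible g → g ∣ X ^ r - 1 → g.natDegree = 1 := fun g hg hgd =>
          le_antisymm (Inv.natDegree_le hg one_pos (by
            rw [pow_one, UnitFix.card_sub_one hq]; exact (hi2.2 hi2').mul_right _) hgd) hg.natDegree_pos
        have hfW : ∀ w ∈ (⊤ : Submodule F (Fin n → F)), aeval T (X ^ r - 1 : F[X]) w = 0 := fun w _ => by
          simp [hTr]
        obtain ⟨J, hJ, hP⟩ := exists_ti_mult hq hiso0 hf0 hdeg hfW hrF one_ne_zero hz1 le_top (E := r)
          (fun Y hY hYi hYn hlt => exists_ti_of_lt hq hiso0 odd_one le_top hTQ hf0 hdeg hfW hrF one_ne_zero hz1 Y hY hYi hYn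
            (by rw [← C_1, natDegree_X_pow_sub_C]; exact hlt))
          one_pos ⊤ le_rfl le_top (nd_top hq)
        rw [finrank_top, Module.finrank_fin_fun, mul_one] at hJ
        obtain ⟨P, -, hPi, hPT, hPd⟩ := hP m (by rw [hs] at hsr; omega)
        exact ⟨P, hPi, hPT, by rw [hPd, mul_one]⟩
      · obtain ⟨hMn, hCn, -, hdim⟩ := parts N hiso0 hTr (W := ⊤) le_top (nd_top hq)
        rw [Submodule.map_top] at hMn hdim
        rw [top_inf_eq] at hCn hdim
        rw [finrank_top, Module.finrank_fin_fun] at hdim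
        obtain ⟨sD, hsD, -⟩ := moved_pieces N hiso0 hTr le_rfl Inv.map_range_sub_le hMn
        obtain ⟨J, hJ, hP⟩ := moved_ti N hiso0 hTr le_rfl Inv.map_range_sub_le hMn
        have hkD : n % c ≤ finrank F ↥(LinearMap.ker (T - 1)) := by
          conv_lhs => rw [← hdim, hsD, Nat.mul_add_mod']
          exact Nat.mod_le _ _
        obtain ⟨jj, aa, hjJ, haa, hsum⟩ : ∃ jj aa, jj ≤ J ∧ 2 * aa ≤ finrank F ↥(LinearMap.ker (T - 1)) ∧
            aa + jj * b = m := by
          have hm' := Nat.div_add_mod m b
          rw [mul_comm] at hm'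
          rcases le_or_gt (m / b) J with hJm | hJm
          · exact ⟨m / b, m % b, hJm, by omega, by omega⟩
          · have h1 : J * b + b ≤ m / b * b := by
              rw [← Nat.add_one_mul]; exact Nat.mul_le_mul_right b hJm
            refine ⟨J, m - J * b, le_rfl, ?_, by omega⟩
            by_cases h4 : i % 4 = 2
            · rcases hcond with h | ⟨-, hcount, -⟩
              · exact absurd h4 h
              obtain ⟨hcb, -, -⟩ := N.c_two h4
              have hn' := Nat.div_add_mod n b
              rw [mul_comm] at hn'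
              have h2 : (s + 2 * (m / b)) * b ≤ n / b * b := Nat.mul_le_mul_right b hcount
              rw [add_mul, mul_assoc, hsb] at h2
              rw [if_pos h4] at hJ
              rw [hcb] at hkl
              omega
            · rw [if_neg h4] at hJ
              omega
        obtain ⟨E, hE, hET, hEd⟩ := exists_ti hq aa hCn haa
        obtain ⟨P, hPM, hPi, hPT, hPd⟩ := hP jj hjJ
        have horth := orth_parts N hiso0 hTr
        refine ⟨E ⊔ P, ?_, ?_, ?_⟩
        · rw [Submodule.map_sup]
          refine sup_le_sup ?_ hPi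
          rintro _ ⟨v, hv, rfl⟩
          have h1 := hE hv
          rw [LinearMap.mem_ker, LinearMap.sub_apply, Module.End.one_apply, sub_eq_zero] at h1
          rwa [h1]
        · intro u hu v hv
          obtain ⟨a, ha, b, hb, rfl⟩ := Submodule.mem_sup.1 hu
          obtain ⟨a', ha', b', hb', rfl⟩ := Submodule.mem_sup.1 hv
          rw [herm_add_left, herm_add_right hq, herm_add_right hq, hET a ha a' ha', hPT b hb b' hb',
            horth a' (hE ha') b (hPM hb), (herm_eq_zero_comm hq).1 (horth a (hE ha) b' (hPM hb'))]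
          simp
        · have h := Submodule.finrank_sup_add_finrank_inf_eq E P
          rw [((Inv.disjoint_ker_range hrF hTr).mono hE hPM).eq_bot, finrank_bot, hEd, hPd] at h
          omega
    · push Not at hpow
      obtain ⟨hdvd, hnp⟩ := hpow
      have hi2' := hi2.1 hdvd
      rcases hcond with h | ⟨-, -, h | ⟨-, hcase⟩⟩
      · omega
      · omega
      obtain ⟨k, hk, hdk⟩ := Inv.det_of_nonpower hnp hmat
      rw [x.2] at hdk
      rcases hcase with hrm | hv
      swap
      · exfalso
        refine Inv.no_bad_scalar (F := F) ?_ hk (by omega) ?_ (fun h => absurd h hr2) hnp hdk.symm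
        · rw [UnitFix.card_sub_one hq]; exact hdvd.mul_right _
        · rw [UnitFix.card_sub_one hq, padicValNat.mul (by omega) (by omega)]
          omega
      obtain ⟨M, hM⟩ : r * (q + 1) ∣ q ^ r + 1 := by
        have h2 : ((q : ℤ) + 1) * (∑ l ∈ Finset.range r, (-(q : ℤ)) ^ l) = (q : ℤ) ^ r + 1 := by
          have := mul_neg_geom_sum (-(q : ℤ)) r
          rw [(hrpr.odd_of_ne_two hr2).neg_pow, sub_neg_eq_add, sub_neg_eq_add] at this
          linarith
        have h3 : (r : ℤ) ∣ ∑ l ∈ Finset.range r, (-(q : ℤ)) ^ l := by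
          rw [← ZMod.intCast_zmod_eq_zero_iff_dvd]
          have hq1 : (q : ZMod r) = -1 := eq_neg_of_add_eq_zero_left (by
            exact_mod_cast (ZMod.natCast_eq_zero_iff _ r).2 hdvd)
          push_cast
          simp [hq1]
        exact Int.natCast_dvd_natCast.1 (by push_cast; rw [← h2, mul_comm]; exact mul_dvd_mul_left _ h3)
      have hTQ : ∀ w ∈ (⊤ : Submodule F (Fin n → F)), (slin x ^ (q ^ r)) (slin x w) = w := fun w _ => by
        rw [← Module.End.mul_apply, ← pow_succ, hM, mul_assoc, pow_mul, hlr, _root_.smul_pow, one_pow,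
          pow_mul, hzq, one_pow, one_smul, Module.End.one_apply]
      have hirr := Inv.irreducible_of_nonpower hnp
      have hf0 : (X ^ r - C z : F[X]) ≠ 0 := hirr.ne_zero
      have hdeg : ∀ g : F[X], Irreducible g → g ∣ X ^ r - C z → g.natDegree = r := fun g hg hgd => by
        rw [natDegree_eq_of_degree_eq (degree_eq_degree_of_associated (hg.associated_of_dvd hirr hgd)), natDegree_X_pow_sub_C]
      have hfW : ∀ w ∈ (⊤ : Submodule F (Fin n → F)), aeval (slin x) (X ^ r - C z) w = 0 := fun w _ => by
        simp [hlr, Module.algebraMap_end_eq_smul_id]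
      obtain ⟨J, hJ, hP⟩ := exists_ti_mult hq hiso hf0 hdeg hfW hrF hz0 hlr le_top (E := r)
        (fun Y hY hYi hYn hlt => exists_ti_of_lt hq hiso (hrpr.odd_of_ne_two hr2) le_top hTQ hf0 hdeg hfW hrF hz0 hlr Y hY
          hYi hYn (by rwa [natDegree_X_pow_sub_C])) hrpr.pos ⊤ le_rfl le_top (nd_top hq)
      rw [finrank_top, Module.finrank_fin_fun, hk] at hJ
      obtain ⟨m', rfl⟩ := hrm
      have h1 : m' ≤ J := by
        have h2 : r * (2 * m') ≤ r * k := by rw [← hk]; linarith
        have h3 := Nat.le_of_mul_le_mul_left h2 hrpr.pos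
        have h4 : r * k ≤ r * (2 * J + 1) := by linarith
        have h5 := Nat.le_of_mul_le_mul_left h4 hrpr.pos
        omega
      obtain ⟨P, -, hPi, hPT, hPd⟩ := hP m' h1
      exact ⟨P, by rw [hPd, mul_comm], hPT, hPi⟩

end Cfsg.Agent.S5953
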