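import Cfsg.Statements.S5954
import Cfsg.Agent.ClMax99.UnitUni
import Mathlib.FieldTheory.Perfect

set_option autoImplicit false
open scoped MatrixGroups
open Cfsg

namespace Cfsg.Agent.S5954

set_option linter.unusedSectionVars false
set_option linter.style.haveILetI false
set_option maxHeartbeats 800000

open Cfsg.Agent Cfsg.Agent.ClMax99 Cfsg.Agent.ClMax99.UnitFix Cfsg.Agent.Unitary Module Polynomial

universe u

/-- The two readings of nondegeneracy. -/
theorem nd_iff {F : Type u} [Field F] {n q : ℕ} {W : Submodule F (Fin n → F)} :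
    (∀ u ∈ W, u ≠ 0 → ∃ v ∈ W, Cfsg.hermForm n F q u v ≠ 0) ↔ Nd q W := by
  constructor
  · intro h u hu hz
    by_contra hu0
    obtain ⟨v, hv, hvn⟩ := h u hu hu0
    exact hvn (hz v hv)
  · intro h u hu hu0
    by_contra hcon
    push Not at hcon
    exact hu0 (h u hu hcon)

/-- The criterion for `p = 2`. -/
theorem part_two (n m : ℕ) (hmn : m ≤ n) :
    (∀ μ : Multiset ℕ, (∀ a ∈ μ, 0 < a ∧ a ≤ 2) → μ.sum = n → ∃ ν : Multiset ℕ, ν ≤ μ ∧ ν.sum = m) ↔
      (Odd n ∨ Even m) := by
  constructor
  · intro h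
    by_contra hcon
    push Not at hcon
    rw [Nat.not_odd_iff_even, Nat.not_even_iff_odd] at hcon
    obtain ⟨⟨k, hk⟩, hmo⟩ := hcon
    obtain ⟨ν, hν, hs⟩ := h (Multiset.replicate k 2)
      (fun a ha => by rw [Multiset.eq_of_mem_replicate ha]; omega) (by simp; omega)
    have : ν = Multiset.replicate (Multiset.card ν) 2 :=
      Multiset.eq_replicate_card.2 fun a ha => Multiset.eq_of_mem_replicate (Multiset.mem_of_le hν ha)
    rw [this] at hs
    simp at hs
    obtain ⟨m', hm'⟩ := hmo
    omega
  · intro h μ hμ hs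
    have hμ' : μ = Multiset.replicate (μ.count 1) 1 + Multiset.replicate (μ.count 2) 2 := by
      ext a
      rw [Multiset.count_add, Multiset.count_replicate, Multiset.count_replicate]
      by_cases h1 : a = 1
      · subst h1; simp
      by_cases h2 : a = 2
      · subst h2; simp
      rw [if_neg (Ne.symm h1), if_neg (Ne.symm h2)]
      exact Multiset.count_eq_zero.2 fun ha => by have := hμ a ha; omega
    rw [hμ', Multiset.sum_add, Multiset.sum_replicate, Multiset.sum_replicate] at hs
    simp only [smul_eq_mul, mul_one] at hs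
    set a := μ.count 1
    set b := μ.count 2
    refine ⟨Multiset.replicate (m - 2 * min b (m / 2)) 1 + Multiset.replicate (min b (m / 2)) 2, ?_, ?_⟩
    · rw [hμ']
      refine add_le_add (Multiset.le_iff_count.2 fun x => ?_) (Multiset.le_iff_count.2 fun x => ?_)
      · rw [Multiset.count_replicate, Multiset.count_replicate]
        split_ifs
        · rcases h with ⟨k, hk⟩ | ⟨k, hk⟩ <;> omega
        · omega
      · rw [Multiset.count_replicate, Multiset.count_replicate]
        split_ifs <;> omega
    · simp; omega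


/-- Elements of prime order of PSU_n(q) with no fixed nondegenerate `m`-space. Here `T = PSU_n(q)` (`n ≥ 3`, `(n, q) ≠ (3, 2)`), realised through the matrices of determinant 1 over the field `F` with `q²` elements preserving the Hermitian form `h(u, v) = Σ u_i v_i^q`; an element of `T` of prime order `r` is such a matrix `x` with `x^r` scalar and `x` not scalar. For `r ≠ p` let `i` be the multiplicative order of `q` modulo `r`, `b = i/2` for `i` even and `b = i` for `i` odd, `c = i, i/2, 2i` according as `i ≡ 0, 2 (mod 4)` or `i` odd, and write `k = n mod c`, `ℓ = m mod b`, `ℓ' = m mod c`, `n' = ⌊n/b⌋`, `m' = ⌊m/b⌋`, `s = (r−1)/b`; `(a)_r` is the `r`-part of `a`. Let `1 ≤ m < n/2` and let `r` be a prime dividing the number of nondegenerate `m`-spaces. Then every element of `T` of order `r` fixes a nondegenerate `m`-space if and only if one of: (i) `r = p > 2` and every partition of `n` into parts of size at most `p` contains (as a sub-multiset) a partition of `m`; (ii) `r = p = 2` and (`n` is odd or `m` is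 even); (iii) `r = 2 ≠ p` and (`n` is odd, or `m` is even, or `(q+1)_2 ≥ (n)_2` and `q ≡ 3 (mod 4)`); (iv) `r ≠ p`, `r > 2`, and either `i ≠ 2`, `c ≤ m` and `k ≥ ℓ'`, or `i = 2` and (`r ∣ m` or `(q+1)_r ≥ (n)_r`). -/
theorem result {F : Type*} [Field F] [Fintype F] {p : ℕ} [Fact p.Prime] [CharP F p] {q : ℕ} (hq : Fintype.card F = q ^ 2)
    (n m : ℕ) (hn : 3 ≤ n) (hT : (n, q) ≠ (3, 2)) (hm : 1 ≤ m) (hmn : 2 * m < n)
    (r : ℕ) [Fact r.Prime]
    (hrΩ : r ∣ Nat.card {W : Submodule F (Fin n → F) // Module.finrank F ↥W = m ∧ (∀ u ∈ W, u ≠ 0 → ∃ v ∈ W, Cfsg.hermForm n F q u v ≠ 0)})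
    (i b c : ℕ) (hi : i = orderOf (q : ZMod r)) (hb : b = if Even i then i / 2 else i)
    (hc : c = if i % 4 = 0 then i else if i % 4 = 2 then i / 2 else 2 * i) :
    (∀ x : Matrix.SpecialLinearGroup (Fin n) F, x ∈ Cfsg.SU n F q →
      (∃ z : F, ((x ^ r : Matrix.SpecialLinearGroup (Fin n) F) : Matrix (Fin n) (Fin n) F) = z • (1 : Matrix (Fin n) (Fin n) F)) →
      (∀ z : F, (x : Matrix (Fin n) (Fin n) F) ≠ z • (1 : Matrix (Fin n) (Fin n) F)) →
      ∃ W : Submodule F (Fin n → F), Module.finrank F ↥W = m ∧ (∀ u ∈ W, u ≠ 0 → ∃ v ∈ W, Cfsg.hermForm n F q u v ≠ 0) ∧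
        W.map (Matrix.toLin' (x : Matrix (Fin n) (Fin n) F)) ≤ W) ↔
    ((r = p ∧ 2 < p ∧ (∀ μ : Multiset ℕ, (∀ a ∈ μ, 0 < a ∧ a ≤ p) → μ.sum = n → ∃ ν : Multiset ℕ, ν ≤ μ ∧ ν.sum = m)) ∨
     (r = p ∧ p = 2 ∧ (Odd n ∨ Even m)) ∨
     (r = 2 ∧ p ≠ 2 ∧ (Odd n ∨ Even m ∨ (padicValNat 2 n ≤ padicValNat 2 (q + 1) ∧ q % 4 = 3))) ∨
     (r ≠ p ∧ 2 < r ∧ ((i ≠ 2 ∧ c ≤ m ∧ m % c ≤ n % c) ∨ (i = 2 ∧ (r ∣ m ∨ padicValNat r n ≤ padicValNat r (q + 1)))))) := by
  classical
  have hrpr : r.Prime := Fact.out
  have hq2 := two_le_q hq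
  have hn0 : 0 < n := by omega
  have hΩ : r ∣ Nat.card {W : Submodule F (Fin n → F) // finrank F ↥W = m ∧ Nd q W} := by
    rwa [Nat.card_congr (Equiv.subtypeEquivRight fun W : Submodule F (Fin n → F) =>
      and_congr_right fun _ => (nd_iff (q := q) (W := W)).symm)]
  obtain ⟨pp, k0, hpp, hk0, hcpp, hqk⟩ := exists_prime_pow hq
  have hpeq : pp = p := CharP.eq F hcpp ‹CharP F p›
  subst hpeq
  by_cases hrp : r = pp
  · subst hrp
    have hmain : (∀ x : Matrix.SpecialLinearGroup (Fin n) F, x ∈ Cfsg.SU n F q →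
        (∃ z : F, ((x ^ r : Matrix.SpecialLinearGroup (Fin n) F) : Matrix (Fin n) (Fin n) F) = z • (1 : Matrix (Fin n) (Fin n) F)) →
        (∀ z : F, (x : Matrix (Fin n) (Fin n) F) ≠ z • (1 : Matrix (Fin n) (Fin n) F)) →
        ∃ W : Submodule F (Fin n → F), Module.finrank F ↥W = m ∧ (∀ u ∈ W, u ≠ 0 → ∃ v ∈ W, Cfsg.hermForm n F q u v ≠ 0) ∧
          W.map (Matrix.toLin' (x : Matrix (Fin n) (Fin n) F)) ≤ W) ↔
        (∀ μ : Multiset ℕ, (∀ a ∈ μ, 0 < a ∧ a ≤ r) → μ.sum = n → ∃ ν : Multiset ℕ, ν ≤ μ ∧ ν.sum = m) := by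
      constructor
      · intro hall μ hμ hμs
        subst hμs
        by_contra hcon
        push Not at hcon
        obtain ⟨T, hiso, hN, hker⟩ := exists_unipotent hq μ hμ
        have hTr : T ^ r = 1 := by
          have := congrArg (aeval T) (sub_pow_char (X : F[X]) 1 (p := r))
          simp [hN] at this
          exact (sub_eq_zero.1 this.symm)
        have hdet : LinearMap.det T = 1 := by
          have h1 : LinearMap.det T ^ r = 1 := by rw [← map_pow, hTr, map_one]
          exact frobenius_inj F r (by rw [frobenius_def, h1, map_one])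
        obtain ⟨x, hx, hxT⟩ := exists_SU hq hiso hdet
        have hxm : (x : Matrix (Fin μ.sum) (Fin μ.sum) F) = LinearMap.toMatrix' T := by
          rw [← hxT, slin, LinearMap.toMatrix'_toLin']
        have hns : ∀ c : F, T ≠ c • 1 := fun c hc => by
          have hc1 : c = 1 := by
            have h1 := hTr
            rw [hc, _root_.smul_pow, one_pow] at h1
            have h2 := congrFun (LinearMap.congr_fun h1 (eI ⟨0, hn0⟩)) ⟨0, hn0⟩
            simp [eI] at h2
            exact frobenius_inj F r (by rw [frobenius_def, h2, map_one])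
          have h1 := hker 1
          rw [hc, hc1, one_smul, sub_self, pow_one, LinearMap.ker_zero, finrank_top, Module.finrank_fin_fun, JType.nul] at h1
          have h2 : ∀ a ∈ μ, a = 1 := by
            intro a ha
            by_contra hne
            have ha1 := (hμ a ha).1
            have hle : ((μ.erase a).map fun e => min e 1).sum ≤ (μ.erase a).sum := by
              conv_rhs => rw [← Multiset.map_id' (μ.erase a)]
              exact Multiset.sum_map_le_sum_map _ _ fun e _ => min_le_left _ _
            rw [← Multiset.cons_erase ha, Multiset.map_cons, Multiset.sum_cons, Multiset.sum_cons] at h1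
            omega
          have h3 : μ = Multiset.replicate μ.sum 1 := by
            have h4 := Multiset.eq_replicate_card.2 h2
            conv_lhs => rw [h4]
            congr 1
            conv_rhs => rw [h4]
            simp
          exact hcon (Multiset.replicate m 1) (by
            conv_rhs => rw [h3]
            exact (Multiset.replicate_le_replicate 1).2 (by omega)) (by simp)
        obtain ⟨W, hWd, hWn, hWi⟩ := hall x hx ⟨1, by
            rw [Matrix.SpecialLinearGroup.coe_pow, hxm, one_smul]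
            have := congrArg LinearMap.toMatrixAlgEquiv' hTr
            rw [map_pow, map_one] at this
            exact this⟩ (not_scalar hn0 hxT hns)
        rw [← slin, hxT] at hWi
        have hWn' := nd_iff.1 hWn
        obtain ⟨hd, hsup, -, -⟩ := split hq le_top hWn' (nd_top hq)
        have hperp := map_inf_perp_le hq hiso hWi (le_top : (⊤ : Submodule F (Fin μ.sum → F)).map T ≤ ⊤)
        have hinv : ∀ P : Submodule F (Fin μ.sum → F), P.map T ≤ P → P.map (T - 1) ≤ P := by
          rintro P hP _ ⟨v, hv, rfl⟩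
          exact P.sub_mem (hP ⟨v, hv, rfl⟩) hv
        obtain ⟨ν, hν, hνs⟩ := JType.type_of_isCompl (T - 1) hN ⟨hd, codisjoint_iff.2 hsup⟩ (hinv _ hWi)
          (hinv _ hperp) (fun a ha => (hμ a ha).1) hker
        exact hcon ν hν (hνs.trans hWd)
      · intro hC x hx ⟨z, hxz⟩ _
        obtain ⟨hlr, -⟩ := scalar_pow hxz
        have hiso := mem_SU_iff.1 hx
        have hzq := scalar_norm hq hn0 hiso hlr
        obtain ⟨w, hw⟩ := surjective_frobenius F r z
        rw [frobenius_def] at hw
        have hwq : w ^ (q + 1) = 1 := frobenius_inj F r (by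
          rw [frobenius_def, ← pow_mul, mul_comm, pow_mul, hw, hzq, map_one])
        obtain ⟨hiso0, hTr, hw0⟩ := normalise hq hn0 hiso hlr hw hwq
        obtain ⟨μ, hμ, hμs, hW⟩ := exists_blocks hq hiso0 hTr (sub_one_pow_char hTr) ⊤ le_top (nd_top hq)
        rw [finrank_top, Module.finrank_fin_fun] at hμs
        obtain ⟨ν, hν, hνs⟩ := hC μ hμ hμs
        obtain ⟨W, -, hWi, hWn, hWd⟩ := hW ν hν
        refine ⟨W, hWd.trans hνs, nd_iff.2 hWn, ?_⟩
        rintro _ ⟨v, hv, rfl⟩
        have := W.smul_mem w (hWi ⟨v, hv, rfl⟩)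
        rwa [LinearMap.smul_apply, smul_smul, mul_inv_cancel₀ hw0, one_smul] at this
    rw [hmain]
    rcases eq_or_ne r 2 with hr2 | hr2
    · subst hr2
      rw [part_two n m (by omega)]
      simp
    · have h2 : 2 < r := lt_of_le_of_ne hrpr.two_le (Ne.symm hr2)
      simp [h2, hr2]
  have hrq : ¬ r ∣ q := fun h => hrp (by
    rw [hqk] at h
    exact (Nat.prime_dvd_prime_iff_eq hrpr hpp).1 (hrpr.dvd_of_dvd_pow h))
  have hrF := Inv.cast_ne_zero_of_ne (F := F) hrp
  by_cases hr2 : r = 2
  · subst hr2
    have hp2 : pp ≠ 2 := Ne.symm hrp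
    have h20 : (2 : F) ≠ 0 := by exact_mod_cast hrF
    have hqo : Odd q := Nat.not_even_iff_odd.1 fun h => hrq h.two_dvd
    set v := padicValNat 2 (q + 1) with hvdef
    set e := padicValNat 2 n with hedef
    obtain ⟨qh, hqh⟩ := hqo
    have hv1 : 1 ≤ v := one_le_padicValNat_of_dvd (by omega) ⟨qh + 1, by omega⟩
    have hv4 : q % 4 = 1 → v = 1 := by
      intro h4
      have : ¬ 2 ^ (1 + 1) ∣ q + 1 := by
        show ¬ 4 ∣ q + 1
        omega
      rw [padicValNat_dvd_iff_le (by omega)] at this
      omega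
    constructor
    · intro hall
      refine Or.inr (Or.inr (Or.inl ⟨rfl, hp2, ?_⟩))
      by_contra hcon
      push Not at hcon
      obtain ⟨hno, hmo, hcond⟩ := hcon
      rw [Nat.not_odd_iff_even] at hno
      obtain ⟨k, hk⟩ := hno
      obtain ⟨w, hwq, hwn⟩ : ∃ w : F, w ^ (q + 1) = -1 ∧ w ^ n * (-1) ^ k = 1 := by
        obtain ⟨g, hg⟩ := IsCyclic.exists_ofOrder_eq_natCard (α := Fˣ)
        rw [Nat.card_units, Nat.card_eq_fintype_card, UnitFix.card_sub_one hq] at hg
        obtain ⟨M, hM⟩ : 2 ^ (v + 1) ∣ (q + 1) * (q - 1) := by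
          rw [pow_succ]; exact mul_dvd_mul pow_padicValNat_dvd ⟨qh, by omega⟩
        have hM0 : M ≠ 0 := fun h => by
          rw [h, mul_zero, mul_eq_zero] at hM
          omega
        set w : F := ((g ^ M : Fˣ) : F) with hw
        have hord : orderOf w = 2 ^ (v + 1) := by
          rw [hw, orderOf_units, orderOf_pow' _ hM0, hg, hM, Nat.gcd_mul_left_left, Nat.mul_div_cancel _ (Nat.pos_of_ne_zero hM0)]
        have hwq : w ^ (q + 1) = -1 := by
          have h1 : w ^ (q + 1) * w ^ (q + 1) = 1 := by
            rw [← pow_add, ← two_mul]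
            exact orderOf_dvd_iff_pow_eq_one.1 (hord ▸ by rw [pow_succ']; exact mul_dvd_mul_left 2 pow_padicValNat_dvd)
          refine (mul_self_eq_one_iff.1 h1).resolve_left fun h => ?_
          have := orderOf_dvd_of_pow_eq_one h
          rw [hord, padicValNat_dvd_iff_le (by omega)] at this
          omega
        refine ⟨w, hwq, ?_⟩
        rcases Nat.lt_or_ge v e with hve | hve
        · have h1 : w ^ n = 1 := orderOf_dvd_iff_pow_eq_one.1 (hord ▸ (padicValNat_dvd_iff_le (by omega)).2 hve)
          have h2 : 2 ^ 2 ∣ n := (padicValNat_dvd_iff_le (by omega)).2 (by omega)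
          have hke : Even k := even_iff_two_dvd.2 (by norm_num at h2; omega)
          rw [h1, one_mul, hke.neg_one_pow]
        · have h4 : q % 4 = 1 := by
            have := hcond hve
            omega
          have hw2 : w ^ 2 = -1 := by
            have hw4 : w ^ 2 * w ^ 2 = 1 := by
              rw [← pow_add, ← orderOf_dvd_iff_pow_eq_one, hord, hv4 h4]
              norm_num
            refine (mul_self_eq_one_iff.1 hw4).resolve_left fun h => ?_
            have := Nat.le_of_dvd two_pos (orderOf_dvd_of_pow_eq_one h)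
            rw [hord, hv4 h4] at this
            norm_num at this
          rw [hk, ← two_mul, pow_mul, hw2, ← mul_pow, neg_one_mul, neg_neg, one_pow]
      let β : F := w * w
      have hβq : β ^ (q + 1) = 1 := by rw [mul_pow, hwq]; ring
      let σ : Fin n ≃ Fin 2 × Fin k := (Fintype.equivFinOfCardEq (by simp; omega)).symm
      let T : Module.End F (Fin n → F) :=
        { toFun := fun u l => (if (σ l).1 = 0 then 1 else β) * u (σ.symm ((σ l).1 + 1, (σ l).2))
          map_add' := fun a b => funext fun l => mul_add _ _ _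
          map_smul' := fun a b => funext fun l => by simp [mul_left_comm] }
      have hTT : T ^ 2 = β • 1 := by
        refine LinearMap.ext fun u => funext fun l => ?_
        have hl : l = σ.symm ((σ l).1, (σ l).2) := (σ.symm_apply_apply l).symm
        rw [pow_two, Module.End.mul_apply]
        simp only [T, LinearMap.coe_mk, AddHom.coe_mk, Equiv.apply_symm_apply, LinearMap.smul_apply,
          Module.End.one_apply, Pi.smul_apply, smul_eq_mul]
        conv_rhs => rw [hl]
        generalize (σ l).1 = s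
        fin_cases s <;> simp
      have hiso : ∀ u v, herm q (T u) (T v) = herm q u v := fun u v => by
        simp only [herm, hermForm]
        rw [← σ.symm.sum_comp, ← σ.symm.sum_comp (fun l => u l * v l ^ q), Fintype.sum_prod_type, Fintype.sum_prod_type,
          Fin.sum_univ_two, Fin.sum_univ_two]
        simp only [T, LinearMap.coe_mk, AddHom.coe_mk, Equiv.apply_symm_apply]
        simp only [Fin.one_eq_zero_iff, if_true, one_mul, mul_pow, one_pow, OfNat.ofNat_ne_one, if_false, zero_add]
        rw [add_comm]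
        congr 1
        refine Finset.sum_congr rfl fun l _ => ?_
        rw [show (1 : Fin 2) + 1 = 0 from rfl]
        rw [mul_mul_mul_comm, ← pow_succ', hβq, one_mul]
      have hdet : LinearMap.det T = 1 := by
        let P : Matrix (Fin n) (Fin n) F :=
          (Matrix.blockDiagonal fun _ : Fin k => !![0, 1; β, 0]).submatrix σ σ
        have hTP : T = Matrix.toLin' P := by
          refine LinearMap.ext fun u => funext fun l => ?_
          rw [Matrix.toLin'_apply, Matrix.mulVec, dotProduct, ← σ.symm.sum_comp, Fintype.sum_prod_type,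
            Fin.sum_univ_two]
          simp only [P, Matrix.submatrix_apply, Equiv.apply_symm_apply, T, LinearMap.coe_mk, AddHom.coe_mk]
          obtain ⟨s, t⟩ := σ l
          fin_cases s <;> simp [Matrix.blockDiagonal_apply, ite_mul]
        rw [hTP, LinearMap.det_toLin', Matrix.det_submatrix_equiv_self, Matrix.det_blockDiagonal]
        simp [Matrix.det_fin_two, β]
        calc (-(w * w)) ^ k = w ^ n * (-1) ^ k := by rw [neg_pow, hk, pow_add, mul_pow]; ring
          _ = 1 := hwn
      obtain ⟨x, hx, hxT⟩ := exists_SU hq hiso hdet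
      have hxm : (x : Matrix (Fin n) (Fin n) F) = LinearMap.toMatrix' T := by rw [← hxT, slin, LinearMap.toMatrix'_toLin']
      obtain ⟨W, hWd, hWn, hWi⟩ := hall x hx ⟨β, by
          rw [Matrix.SpecialLinearGroup.coe_pow, hxm]
          have := congrArg LinearMap.toMatrixAlgEquiv' hTT
          rw [map_pow, map_smul, map_one] at this
          exact this⟩ (not_scalar hn0 hxT fun c hc => by
            have h1 := congrFun (LinearMap.congr_fun hc (eI (σ.symm (1, ⟨0, by omega⟩)))) (σ.symm (0, ⟨0, by omega⟩))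
            simp [T, eI] at h1)
      rw [← slin, hxT] at hWi
      have hWn' := nd_iff.1 hWn
      set S := w⁻¹ • T with hS
      have hw0 : w ≠ 0 := fun h => by rw [h, zero_pow (by omega)] at hwq; exact one_ne_zero (by linear_combination hwq)
      have hS2 : ∀ u, S (S u) = u := fun u => by
        have h1 : T (T u) = β • u := by rw [← Module.End.mul_apply, ← pow_two, hTT]; rfl
        simp only [hS, LinearMap.smul_apply, map_smul, h1, smul_smul, β]
        rw [show w⁻¹ * (w⁻¹ * (w * w)) = 1 by field_simp, one_smul]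
      have hSf : ∀ a b, herm q (S a) (S b) = -herm q a b := fun a b => by
        rw [hS, LinearMap.smul_apply, LinearMap.smul_apply, herm_smul_left, herm_smul_right hq, hiso, inv_pow, ← mul_assoc,
          ← mul_inv, ← pow_succ', hwq, inv_neg, inv_one, neg_one_mul]
      have hSW : ∀ a ∈ W, S a ∈ W := fun a ha => W.smul_mem _ (hWi ⟨a, ha, rfl⟩)
      set A := W ⊓ LinearMap.ker (S - 1)
      set B := W ⊓ LinearMap.ker (S + 1)
      have hA : ∀ a ∈ A, S a = a := fun a ha => by
        have := ha.2
        simpa [sub_eq_zero] using this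
      have hB : ∀ a ∈ B, S a = -a := fun a ha => by
        have := ha.2
        simpa [add_eq_zero_iff_eq_neg] using this
      have hAT : TI q A := fun a ha b hb => by
        have := hSf a b
        rw [hA a ha, hA b hb] at this
        exact (mul_eq_zero.1 (show (2 : F) * herm q a b = 0 by linear_combination this)).resolve_left h20
      have hBT : TI q B := fun a ha b hb => by
        have := hSf a b
        rw [hB a ha, hB b hb, herm_neg_left, herm_neg_right hq, neg_neg] at this
        exact (mul_eq_zero.1 (show (2 : F) * herm q a b = 0 by linear_combination this)).resolve_left h20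
      have hsup : A ⊔ B = W := by
        refine le_antisymm (sup_le inf_le_left inf_le_left) fun a ha => ?_
        rw [show a = (2 : F)⁻¹ • (a + S a) + (2 : F)⁻¹ • (a - S a) by
          rw [← smul_add, show a + S a + (a - S a) = (2 : F) • a by module, smul_smul, inv_mul_cancel₀ h20, one_smul]]
        refine Submodule.add_mem_sup (A.smul_mem _ ⟨W.add_mem ha (hSW a ha), ?_⟩) (B.smul_mem _ ⟨W.sub_mem ha (hSW a ha), ?_⟩)
        · simp [hS2, add_comm]
        · simp [hS2]
      have hA2 : 2 * finrank F A ≤ finrank F W := ti_le hq inf_le_left hWn' hAT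
      have hB2 : 2 * finrank F B ≤ finrank F W := ti_le hq inf_le_left hWn' hBT
      have hle := Submodule.finrank_add_le_finrank_add_finrank A B
      rw [hsup, hWd] at hle
      rw [hWd] at hA2 hB2
      exact hmo ⟨finrank F A, by omega⟩
    · rintro (⟨h, -, -⟩ | ⟨h1, h2, -⟩ | ⟨-, -, hcond⟩ | ⟨-, h, -⟩) x hx ⟨z, hxz⟩ -
      · exact absurd h hrp
      · exact absurd h1 hrp
      swap
      · omega
      obtain ⟨hlr, -⟩ := scalar_pow hxz
      have hiso := mem_SU_iff.1 hx
      have hzq := scalar_norm hq (by omega) hiso hlr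
      have hz0 : z ≠ 0 := fun e => by rw [e, zero_pow (by omega)] at hzq; exact zero_ne_one hzq
      obtain ⟨w, hw⟩ : IsSquare z := (FiniteField.isSquare_iff (by rw [ringChar.eq F pp]; exact hp2) hz0).2 (by
        rw [show Fintype.card F / 2 = (q + 1) * qh by
          rw [hq, hqh, show (2 * qh + 1) ^ 2 = 2 * ((2 * qh + 1 + 1) * qh) + 1 by ring]; omega,
          pow_mul, hzq, one_pow])
      have hw0 : w ≠ 0 := fun e => hz0 (by rw [hw, e, mul_zero])
      have hs : w ^ (q + 1) * w ^ (q + 1) = 1 := by rw [← mul_pow, ← hw, hzq]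
      set T := w⁻¹ • slin x with hT'
      have hT2 : ∀ v, T (T v) = v := fun v => by
        have h1 : slin x (slin x v) = z • v := by rw [← Module.End.mul_apply, ← pow_two, hlr]; rfl
        simp only [hT', LinearMap.smul_apply, map_smul, h1, smul_smul, hw]
        rw [show w⁻¹ * (w⁻¹ * (w * w)) = 1 by field_simp, one_smul]
      have hTf : ∀ u v, herm q (T u) (T v) = (w ^ (q + 1))⁻¹ * herm q u v := fun u v => by
        rw [hT', LinearMap.smul_apply, LinearMap.smul_apply, herm_smul_left, herm_smul_right hq, hiso, inv_pow, pow_succ']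
        field_simp
      set A := LinearMap.ker (T - 1)
      set B := LinearMap.ker (T + 1)
      have hA : ∀ v, v ∈ A ↔ T v = v := fun v => by
        simp only [A, LinearMap.mem_ker, LinearMap.sub_apply, Module.End.one_apply, sub_eq_zero]
      have hB : ∀ v, v ∈ B ↔ T v = -v := fun v => by
        simp only [B, LinearMap.mem_ker, LinearMap.add_apply, Module.End.one_apply, add_eq_zero_iff_eq_neg]
      have hdec : IsCompl A B := by
        refine ⟨Submodule.disjoint_def.2 fun v h1 h2 => ?_, codisjoint_iff_le_sup.2 fun v _ => ?_⟩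
        · rw [hA] at h1
          rw [hB, h1] at h2
          have : (2 : F) • v = 0 := by rw [two_smul]; nth_rewrite 2 [h2]; exact add_neg_cancel v
          exact (smul_eq_zero.1 this).resolve_left h20
        · rw [show v = (2 : F)⁻¹ • (v + T v) + (2 : F)⁻¹ • (v - T v) by
            rw [← smul_add, show v + T v + (v - T v) = (2 : F) • v by module, smul_smul, inv_mul_cancel₀ h20, one_smul]]
          exact Submodule.add_mem_sup (A.smul_mem _ ((hA _).2 (by rw [map_add, hT2]; abel)))
            (B.smul_mem _ ((hB _).2 (by rw [map_sub, hT2]; abel)))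
      have hdim : finrank F A + finrank F B = n := by
        have := Submodule.finrank_add_eq_of_isCompl hdec
        rwa [Module.finrank_fin_fun] at this
      have hinv : ∀ P R : Submodule F (Fin n → F), P ≤ A → R ≤ B →
          (P ⊔ R).map (Matrix.toLin' (x : Matrix (Fin n) (Fin n) F)) ≤ P ⊔ R := by
        rintro P R hP hR _ ⟨v, hv, rfl⟩
        have h1 : T v ∈ P ⊔ R := by
          obtain ⟨a, ha, b, hb, rfl⟩ := Submodule.mem_sup.1 hv
          rw [map_add, (hA a).1 (hP ha), (hB b).1 (hR hb)]
          exact Submodule.add_mem_sup ha (R.neg_mem hb)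
        have := (P ⊔ R).smul_mem w h1
        rwa [hT', LinearMap.smul_apply, smul_smul, mul_inv_cancel₀ hw0, one_smul] at this
      rcases mul_self_eq_one_iff.1 hs with hs1 | hs1
      · have horth : ∀ a ∈ A, ∀ b ∈ B, herm q a b = 0 := fun a ha b hb => by
          have := hTf a b
          rw [(hA a).1 ha, (hB b).1 hb, hs1, inv_one, one_mul, herm_neg_right hq] at this
          exact (mul_eq_zero.1 (show (2 : F) * herm q a b = 0 by linear_combination -this)).resolve_left h20
        have hAn : Nd q A := fun u hu h => eq_zero_of_herm hq fun y => by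
          obtain ⟨a, ha, b, hb, rfl⟩ := Submodule.mem_sup.1 (hdec.sup_eq_top ▸ Submodule.mem_top : y ∈ A ⊔ B)
          rw [herm_add_right hq, h a ha, horth u hu b hb, add_zero]
        have hBn : Nd q B := fun u hu h => eq_zero_of_herm hq fun y => by
          obtain ⟨a, ha, b, hb, rfl⟩ := Submodule.mem_sup.1 (hdec.sup_eq_top ▸ Submodule.mem_top : y ∈ A ⊔ B)
          rw [herm_add_right hq, h b hb, (herm_eq_zero_comm hq).1 (horth a ha u hu), zero_add]
        obtain ⟨P, hPA, hPn, hPd⟩ := exists_nd_sub hq hAn (min_le_right m (finrank F A))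
        obtain ⟨R, hRB, hRn, hRd⟩ := exists_nd_sub hq hBn
          (show m - min m (finrank F A) ≤ finrank F B by omega)
        obtain ⟨hn2, hd2⟩ := nd_sup hq hPn hRn fun b hb a ha => (herm_eq_zero_comm hq).1 (horth a (hPA ha) b (hRB hb))
        exact ⟨P ⊔ R, by rw [hd2, hPd, hRd]; omega, nd_iff.2 hn2, hinv P R hPA hRB⟩
      · have hTI : ∀ a b, (T a = a ∧ T b = b) ∨ (T a = -a ∧ T b = -b) → herm q a b = 0 := fun a b h => by
          have := hTf a b
          rw [hs1, inv_neg, inv_one, neg_one_mul] at this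
          rcases h with ⟨h1, h2⟩ | ⟨h1, h2⟩ <;> rw [h1, h2] at this
          · exact (mul_eq_zero.1 (show (2 : F) * herm q a b = 0 by linear_combination this)).resolve_left h20
          · rw [herm_neg_left, herm_neg_right hq, neg_neg] at this
            exact (mul_eq_zero.1 (show (2 : F) * herm q a b = 0 by linear_combination this)).resolve_left h20
        have hAT : TI q A := fun a ha b hb => hTI a b (Or.inl ⟨(hA a).1 ha, (hA b).1 hb⟩)
        have hBT : TI q B := fun a ha b hb => hTI a b (Or.inr ⟨(hB a).1 ha, (hB b).1 hb⟩)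
        have hA2 := ti_le hq (le_top : A ≤ ⊤) (nd_top hq) hAT
        have hB2 := ti_le hq (le_top : B ≤ ⊤) (nd_top hq) hBT
        rw [finrank_top, Module.finrank_fin_fun] at hA2 hB2
        by_cases hme : Even m
        · obtain ⟨m', hm'⟩ := hme
          obtain ⟨P, R, hPA, hRB, hn2, hd2⟩ := exists_nd_pair hq hAT hBT hdec (show m' ≤ finrank F A by omega)
          exact ⟨P ⊔ R, by rw [hd2]; omega, nd_iff.2 hn2, hinv P R hPA hRB⟩
        exfalso
        obtain ⟨k, hk⟩ : ∃ k, n = 2 * k := ⟨finrank F B, by omega⟩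
        rcases hcond with ⟨n', hn'⟩ | h | ⟨hev, h4⟩
        · omega
        · exact hme h
        have hdetT : LinearMap.det T = (-1 : F) ^ finrank F B := by
          have hTE : T = (Submodule.prodEquivOfIsCompl A B hdec).conj
              ((LinearMap.id : A →ₗ[F] A).prodMap (-LinearMap.id : B →ₗ[F] B)) := by
            refine LinearMap.ext fun v => ?_
            obtain ⟨⟨a, b⟩, rfl⟩ := (Submodule.prodEquivOfIsCompl A B hdec).surjective v
            rw [LinearEquiv.conj_apply_apply, LinearEquiv.symm_apply_apply, LinearMap.prodMap_apply,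
              Submodule.coe_prodEquivOfIsCompl', Submodule.coe_prodEquivOfIsCompl', map_add, (hA a).1 a.2, (hB b).1 b.2]
            simp
          rw [hTE, LinearEquiv.conj_apply, LinearMap.comp_assoc, LinearMap.det_conj, LinearMap.det_prodMap,
            LinearMap.det_id, one_mul, ← neg_one_smul F (LinearMap.id : B →ₗ[F] B), LinearMap.det_smul,
            LinearMap.det_id, mul_one]
        have hBk : finrank F B = k := by omega
        rw [hT', LinearMap.det_smul, Module.finrank_fin_fun, hBk, slin, LinearMap.det_toLin', x.2,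
          mul_one, inv_pow] at hdetT
        obtain ⟨o, ho⟩ : 2 ^ v ∣ q + 1 := pow_padicValNat_dvd
        have hoo : Odd o := by
          rw [← Nat.not_even_iff_odd]
          rintro ⟨o', rfl⟩
          have : 2 ^ (v + 1) ∣ q + 1 := ⟨o', by rw [ho, pow_succ]; ring⟩
          rw [padicValNat_dvd_iff_le (by omega)] at this
          omega
        have hu : orderOf (w ^ o) = 2 ^ (v + 1) := by
          refine orderOf_eq_prime_pow ?_ ?_
          · rw [← pow_mul, mul_comm, ← ho, hs1]
            exact fun h => h20 (by linear_combination -h)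
          · rw [← pow_mul, pow_succ, ← mul_assoc, mul_comm o, ← ho, pow_mul, hs1, neg_one_sq]
        have hwn : w ^ n = (-1) ^ k := by
          have h1 := congrArg (·⁻¹) hdetT
          simp only [inv_inv] at h1
          rw [h1, ← inv_pow, inv_neg, inv_one]
        have he1 : 1 ≤ e := one_le_padicValNat_of_dvd (by omega) ⟨k, hk⟩
        rcases Nat.lt_or_ge e 2 with he2 | he2
        · have h1 : (w ^ o) ^ (2 * n) = 1 := by
            rw [← pow_mul, mul_comm, pow_mul, mul_comm 2, pow_mul, hwn, ← pow_mul, ← pow_mul, mul_comm k, mul_assoc,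
              pow_mul, neg_one_sq, one_pow]
          have h2 := orderOf_dvd_of_pow_eq_one h1
          rw [hu, pow_succ'] at h2
          have h3 := (padicValNat_dvd_iff_le (by omega)).1 (Nat.dvd_of_mul_dvd_mul_left two_pos h2)
          have : ¬ 2 ^ 2 ∣ n := by rw [padicValNat_dvd_iff_le (by omega)]; omega
          have h5 : 2 ^ (1 + 1) ∣ q + 1 := by
            show 4 ∣ q + 1
            omega
          rw [padicValNat_dvd_iff_le (by omega)] at h5
          omega
        · have hke : Even k := by
            have : 2 ^ 2 ∣ n := (padicValNat_dvd_iff_le (by omega)).2 he2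
            norm_num at this
            exact even_iff_two_dvd.2 (by omega)
          rw [hke.neg_one_pow] at hwn
          have h1 : (w ^ o) ^ n = 1 := by rw [← pow_mul, mul_comm, pow_mul, hwn, one_pow]
          have h2 := orderOf_dvd_of_pow_eq_one h1
          rw [hu, padicValNat_dvd_iff_le (by omega)] at h2
          omega
  have hr3 : 2 < r := lt_of_le_of_ne hrpr.two_le (Ne.symm hr2)
  have N : UnitFix.Num F q r i b c := ⟨hq, hrF, hr2, hi, hb, hc⟩
  have hbp := N.b_pos
  have hcp := N.c_pos
  have hi2 : r ∣ q + 1 ↔ i = 2 := by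
    rw [← ZMod.natCast_eq_zero_iff, Nat.cast_add, Nat.cast_one, add_eq_zero_iff_eq_neg, ← pow_one (q : ZMod r),
      N.neg_one_iff]
    constructor
    · rintro ⟨h1, h2⟩
      have := Nat.le_of_dvd two_pos h1
      have := N.i_pos
      interval_cases i <;> omega
    · rintro rfl; omega
  obtain ⟨j, hj1, hj2, hj3⟩ := exists_dvd_factor_nd hq hrq (by omega) hΩ
  obtain ⟨j', rfl⟩ := (N.dvd_iff j).1 hj3
  have hj'1 : 1 ≤ j' := Nat.pos_of_ne_zero fun h => by rw [h, mul_zero] at hj1; omega
  have hcn : c ≤ n := le_trans (Nat.le_mul_of_pos_right c hj'1) hj2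
  have hkm : n % c < m := by
    have h1 : j' ≤ n / c := (Nat.le_div_iff_mul_le hcp).2 (by rwa [mul_comm])
    have h2 := Nat.div_add_mod n c
    have h3 : c * j' ≤ c * (n / c) := Nat.mul_le_mul_left c h1
    omega
  constructor
  · intro hall
    refine Or.inr (Or.inr (Or.inr ⟨hrp, hr3, ?_⟩))
    by_cases hi2' : i = 2
    · refine Or.inr ⟨hi2', ?_⟩
      by_contra hcon
      push Not at hcon
      obtain ⟨hrm, hv⟩ := hcon
      obtain ⟨x, hx, hz, hns, hdiv⟩ := exists_nonpower hq hr2 (hi2.2 hi2') hn0 hv
      obtain ⟨W, hWd, -, hWi⟩ := hall x hx hz hns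
      exact hrm (hWd ▸ hdiv W hWi)
    refine Or.inl ⟨hi2', ?_⟩
    have hndvd : ¬ r ∣ q + 1 := fun h => hi2' (hi2.1 h)
    obtain ⟨T, hiso, hTr, hker⟩ := exists_elem N (n := n) (s := n / c) (Nat.div_mul_le_self n c)
    have hk : n - n / c * c = n % c := by
      have := Nat.div_add_mod n c
      rw [mul_comm] at this
      omega
    rw [hk] at hker
    have hscal : ∀ a : F, T ≠ a • 1 := by
      intro a ha
      have h1 : a ^ r = 1 := by
        have h1 := LinearMap.congr_fun hTr (eI ⟨0, hn0⟩)
        rw [ha, _root_.smul_pow, one_pow] at h1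
        simpa [eI] using congrFun h1 ⟨0, hn0⟩
      have h2 : a ^ (q + 1) = 1 := by
        have := hiso (eI ⟨0, hn0⟩) (eI ⟨0, hn0⟩)
        rw [ha] at this
        simp only [LinearMap.smul_apply, Module.End.one_apply, herm_smul_left, herm_smul_right hq, herm_eI_eI hq,
          if_true, mul_one] at this
        rwa [pow_succ]
      have := pow_gcd_eq_one.mpr ⟨h1, h2⟩
      rw [(hrpr.coprime_iff_not_dvd.2 hndvd).gcd_eq_one, pow_one] at this
      rw [ha, this, one_smul, sub_self, LinearMap.ker_zero, finrank_top, Module.finrank_fin_fun] at hker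
      have := Nat.mod_lt n hcp
      omega
    obtain ⟨x, hx, hxT⟩ := exists_SU hq hiso (det_eq_one hq hndvd hiso hTr)
    have hxm : (x : Matrix (Fin n) (Fin n) F) = LinearMap.toMatrixAlgEquiv' T := by
      rw [← hxT, slin]; exact (LinearMap.toMatrix'_toLin' _).symm
    obtain ⟨W, hWd, hWn, hWi⟩ := hall x hx
      ⟨1, by rw [Matrix.SpecialLinearGroup.coe_pow, hxm, ← map_pow, hTr, map_one, one_smul]⟩
      (not_scalar hn0 hxT hscal)
    rw [← slin, hxT] at hWi
    obtain ⟨hMn, -, hMW, hdim⟩ := parts N hiso hTr hWi (nd_iff.1 hWn)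
    have hMi : (W.map (T - 1)).map T ≤ W.map (T - 1) := by
      rintro _ ⟨_, ⟨v, hv, rfl⟩, rfl⟩
      exact ⟨T v, hWi ⟨v, hv, rfl⟩, by simp⟩
    obtain ⟨s, hs, -⟩ := moved_pieces N hiso hTr LinearMap.map_le_range hMi hMn
    have hf : finrank F ↥(W ⊓ LinearMap.ker (T - 1)) ≤ n % c := hker ▸ Submodule.finrank_mono inf_le_right
    rw [hWd, hs] at hdim
    have hle : m % c ≤ n % c := by
      rw [← hdim, Nat.mul_add_mod']
      exact (Nat.mod_le _ _).trans hf
    refine ⟨?_, hle⟩
    by_contra hcm
    rw [Nat.mod_eq_of_lt (not_le.1 hcm)] at hle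
    omega
  · rintro (⟨h, -⟩ | ⟨h, -⟩ | ⟨h, -⟩ | ⟨-, -, hcond⟩) x hx ⟨z, hxz⟩ -
    · exact absurd h hrp
    · exact absurd h hrp
    · exact absurd h hr2
    obtain ⟨hlr, hmat⟩ := scalar_pow hxz
    have hiso := mem_SU_iff.1 hx
    have hzq := scalar_norm hq hn0 hiso hlr
    have hz0 : z ≠ 0 := fun e => by rw [e, zero_pow (by omega)] at hzq; exact zero_ne_one hzq
    by_cases hpow : r ∣ q + 1 → ∃ w, w ^ r = z
    · obtain ⟨w, hw, hwq⟩ := exists_root hq hzq hr2 hpow
      obtain ⟨hiso0, hTr, hw0⟩ := normalise hq hn0 hiso hlr hw hwq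
      set T := w⁻¹ • slin x
      suffices hW : ∃ W : Submodule F (Fin n → F), W.map T ≤ W ∧ Nd q W ∧ finrank F W = m by
        obtain ⟨W, hWi, hWn, hWd⟩ := hW
        refine ⟨W, hWd, nd_iff.2 hWn, ?_⟩
        rintro _ ⟨v, hv, rfl⟩
        have := W.smul_mem w (hWi ⟨v, hv, rfl⟩)
        rwa [LinearMap.smul_apply, smul_smul, mul_inv_cancel₀ hw0, one_smul] at this
      by_cases hi2' : i = 2
      · have hTQ : ∀ w ∈ (⊤ : Submodule F (Fin n → F)), (T ^ (q ^ 1)) (T w) = w := fun w _ => by
          rw [pow_one, ← Module.End.mul_apply, ← pow_succ]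
          obtain ⟨k, hk⟩ := hi2.2 hi2'
          rw [hk, pow_mul, hTr, one_pow, Module.End.one_apply]
        have hz1 : T ^ r = (1 : F) • 1 := by rw [hTr, one_smul]
        have hf0 : (X ^ r - 1 : F[X]) ≠ 0 := X_pow_sub_C_ne_zero hrpr.pos 1
        have hdeg : ∀ g : F[X], Irreducible g → g ∣ X ^ r - 1 → g.natDegree = 1 := fun g hg hgd =>
          le_antisymm (Inv.natDegree_le hg one_pos (by
            rw [pow_one, UnitFix.card_sub_one hq]; exact (hi2.2 hi2').mul_right _) hgd) hg.natDegree_pos
        have hfW : ∀ w ∈ (⊤ : Submodule F (Fin n → F)), aeval T (X ^ r - 1 : F[X]) w = 0 := fun w _ => by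
          simp [hTr]
        obtain ⟨s, hs, hP, -⟩ := exists_pieces hq hiso0 hf0 hdeg hfW hrF one_ne_zero hz1 le_top (c := 1)
          (fun Y hY hYi hYn hY0 => exists_nd hq hiso0 odd_one le_top hTQ hf0 hdeg hfW hrF one_ne_zero hz1 hY hYi hYn hY0)
          one_pos ⊤ le_rfl le_top (nd_top hq)
        rw [finrank_top, Module.finrank_fin_fun, mul_one] at hs
        obtain ⟨P, -, hPi, hPn, hPd⟩ := hP m (by omega)
        exact ⟨P, hPi, hPn, by rw [hPd, mul_one]⟩
      · obtain ⟨hMn, hCn, -, hdim⟩ := parts N hiso0 hTr (W := ⊤) le_top (nd_top hq)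
        rw [Submodule.map_top] at hMn hdim
        rw [top_inf_eq] at hCn hdim
        rw [finrank_top, Module.finrank_fin_fun] at hdim
        obtain ⟨s, hs, hP⟩ := moved_pieces N hiso0 hTr le_rfl Inv.map_range_sub_le hMn
        obtain ⟨-, -, hle⟩ : i ≠ 2 ∧ c ≤ m ∧ m % c ≤ n % c := hcond.resolve_right fun h => hi2' h.1
        have hkD : n % c ≤ finrank F ↥(LinearMap.ker (T - 1)) := by
          conv_lhs => rw [← hdim, hs, Nat.mul_add_mod']
          exact Nat.mod_le _ _
        obtain ⟨jj, hjs, hj0, hjm⟩ : ∃ jj ≤ s, jj * c ≤ m ∧ m ≤ jj * c + finrank F ↥(LinearMap.ker (T - 1)) := by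
          rcases le_total (m / c) s with h | h
          · refine ⟨m / c, h, Nat.div_mul_le_self m c, ?_⟩
            have := Nat.div_add_mod m c
            rw [mul_comm] at this
            omega
          · exact ⟨s, le_rfl, (Nat.mul_le_mul_right c h).trans (Nat.div_mul_le_self m c), by omega⟩
        obtain ⟨E, hE, hEn, hEd⟩ := exists_nd_sub hq hCn (show m - jj * c ≤ _ by omega)
        obtain ⟨P, hPM, hPi, hPn, hPd⟩ := hP jj hjs
        obtain ⟨hn2, hd2⟩ := nd_sup hq hPn hEn fun a ha p hp =>
          (herm_eq_zero_comm hq).1 (orth_parts N hiso0 hTr a (hE ha) p (hPM hp))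
        refine ⟨P ⊔ E, ?_, hn2, by rw [hd2, hPd, hEd]; omega⟩
        rw [Submodule.map_sup]
        refine sup_le_sup hPi ?_
        rintro _ ⟨v, hv, rfl⟩
        have h1 := hE hv
        rw [LinearMap.mem_ker, LinearMap.sub_apply, Module.End.one_apply, sub_eq_zero] at h1
        rwa [h1]
    · push Not at hpow
      obtain ⟨hdvd, hnp⟩ := hpow
      have hi2' := hi2.1 hdvd
      obtain ⟨k, hk, hdk⟩ := Inv.det_of_nonpower hnp hmat
      rw [x.2] at hdk
      rcases hcond with h | ⟨-, hrm | hv⟩
      · exact absurd hi2' h.1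
      swap
      · exfalso
        refine Inv.no_bad_scalar (F := F) ?_ hk hn0 ?_ (fun h => absurd h hr2) hnp hdk.symm
        · rw [UnitFix.card_sub_one hq]; exact hdvd.mul_right _
        · rw [UnitFix.card_sub_one hq, padicValNat.mul (by omega) (by omega)]
          omega
      obtain ⟨M, hM⟩ : r * (q + 1) ∣ q ^ r + 1 := by
        have h2 : ((q : ℤ) + 1) * (∑ l ∈ Finset.range r, (-(q : ℤ)) ^ l) = (q : ℤ) ^ r + 1 := by
          have := mul_neg_geom_sum (-(q : ℤ)) r
          rw [(hrpr.odd_of_ne_two hr2).neg_pow, sub_neg_eq_add, sub_neg_eq_add] at this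
          linarith
        have h3 : (r : ℤ) ∣ ∑ l ∈ Finset.range r, (-(q : ℤ)) ^ l := by
          rw [← ZMod.intCast_zmod_eq_zero_iff_dvd]
          have hq1 : (q : ZMod r) = -1 := eq_neg_of_add_eq_zero_left (by
            exact_mod_cast (ZMod.natCast_eq_zero_iff _ r).2 hdvd)
          push_cast
          simp [hq1]
        exact Int.natCast_dvd_natCast.1 (by push_cast; rw [← h2, mul_comm]; exact mul_dvd_mul_left _ h3)
      have hTQ : ∀ w ∈ (⊤ : Submodule F (Fin n → F)), (slin x ^ (q ^ r)) (slin x w) = w := fun w _ => by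
        rw [← Module.End.mul_apply, ← pow_succ, hM, mul_assoc, pow_mul, hlr, _root_.smul_pow, one_pow,
          pow_mul, hzq, one_pow, one_smul, Module.End.one_apply]
      have hirr := Inv.irreducible_of_nonpower hnp
      have hf0 : (X ^ r - C z : F[X]) ≠ 0 := hirr.ne_zero
      have hdeg : ∀ g : F[X], Irreducible g → g ∣ X ^ r - C z → g.natDegree = r := fun g hg hgd => by
        rw [natDegree_eq_of_degree_eq (degree_eq_degree_of_associated (hg.associated_of_dvd hirr hgd)), natDegree_X_pow_sub_C]
      have hfW : ∀ w ∈ (⊤ : Submodule F (Fin n → F)), aeval (slin x) (X ^ r - C z) w = 0 := fun w _ => by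
        simp [hlr, Module.algebraMap_end_eq_smul_id]
      obtain ⟨s, hs, hP, -⟩ := exists_pieces hq hiso hf0 hdeg hfW hrF hz0 hlr le_top (c := r)
        (fun Y hY hYi hYn hY0 => exists_nd hq hiso (hrpr.odd_of_ne_two hr2) le_top hTQ hf0 hdeg hfW hrF hz0 hlr hY
          hYi hYn hY0) hrpr.pos ⊤ le_rfl le_top (nd_top hq)
      rw [finrank_top, Module.finrank_fin_fun] at hs
      obtain ⟨m', rfl⟩ := hrm
      have hms : r * m' ≤ r * s := by rw [mul_comm r s, ← hs]; omega
      obtain ⟨P, -, hPi, hPn, hPd⟩ := hP m' (Nat.le_of_mul_le_mul_left hms hrpr.pos)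
      exact ⟨P, by rw [hPd, mul_comm], nd_iff.2 hPn, hPi⟩

end Cfsg.Agent.S5954
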