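import Cfsg.Statements.S5955
import Cfsg.Agent.ClMax99.SympTIElt
import Cfsg.Agent.ClMax99.SympConj
import Cfsg.Agent.S0775

set_option autoImplicit false
open scoped MatrixGroups
open Cfsg

namespace Cfsg.Agent.S5955

open Cfsg.Agent Cfsg.Agent.ClMax99 Module SympInv SympTI

section

variable {F : Type*} [Field F] [Fintype F] {d m : ℕ}

/-- The condition on `W` in the statement. -/
def TIm (m : ℕ) (W : Submodule F (Fin d ⊕ Fin d → F)) : Prop :=
  finrank F ↥W = m ∧ (∀ u ∈ W, ∀ v ∈ W, Cfsg.sympForm d F u v = 0)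

theorem tim_iff (W : Submodule F (Fin d ⊕ Fin d → F)) :
    TIm m W ↔ finrank F ↥W = m ∧ TI (Forms.sympBilin d F) W := by
  simp [TIm, TI, Forms.sympBilin_apply]

theorem gl_card (q m : ℕ) :
    (∏ i : Fin m, (q ^ m - q ^ (i : ℕ))) = q ^ (m * (m - 1) / 2) * ∏ i ∈ Finset.range m, (q ^ (m - i) - 1) := by
  rw [Fin.prod_univ_eq_prod_range (fun i => q ^ m - q ^ i) m, ← Finset.sum_range_id, ← Finset.prod_pow_eq_pow_sum,
    ← Finset.prod_mul_distrib]
  refine Finset.prod_congr rfl fun i hi => ?_
  rw [Nat.mul_sub, mul_one, ← pow_add, Nat.add_sub_cancel' (Finset.mem_range.1 hi).le]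

/-- A prime dividing the number of totally isotropic `m`-spaces. -/
theorem exists_dvd_pow {p : ℕ} [Fact p.Prime] [CharP F p] {r : ℕ} [Fact r.Prime] (hmd : m ≤ d)
    (hΩ : r ∣ Nat.card {W : Submodule F (Fin d ⊕ Fin d → F) // TIm m W}) :
    r ≠ p ∧ ∃ j, d - m < j ∧ j ≤ d ∧ r ∣ Fintype.card F ^ (2 * j) - 1 := by
  classical
  obtain ⟨b, rfl⟩ : ∃ b, d = b + m := ⟨d - m, by omega⟩
  let Ω := {W : Submodule F (Fin (b + m) ⊕ Fin (b + m) → F) // TIm m W}
  letI : MulAction (Symplectic.Sp (b + m) F) Ω :=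
    { smul := fun g W => ⟨W.1.map (SympInv.lin g), by
        have hinj : Function.Injective (SympInv.lin g) := fun a a' e => by
          simpa [SympInv.lin_apply] using congrArg (fun w => g⁻¹ • w) e
        refine (tim_iff _).2 ⟨?_, ?_⟩
        · rw [← LinearEquiv.finrank_eq (Submodule.equivMapOfInjective _ hinj W.1)]; exact W.2.1
        · rintro _ ⟨u, hu, rfl⟩ _ ⟨v, hv, rfl⟩
          rw [SympInv.lin_form]
          exact ((tim_iff _).1 W.2).2 u hu v hv⟩
      one_smul := fun W => Subtype.ext (by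
        show W.1.map (SympInv.lin 1) = W.1
        rw [show SympInv.lin (1 : Symplectic.Sp (b + m) F) = LinearMap.id from
          LinearMap.ext fun v => by rw [SympInv.lin_apply, one_smul]; rfl, Submodule.map_id])
      mul_smul := fun g g' W => Subtype.ext (by
        show W.1.map (SympInv.lin (g * g')) = (W.1.map (SympInv.lin g')).map (SympInv.lin g)
        rw [← Submodule.map_comp]
        congr 1
        exact LinearMap.ext fun v => by simp [SympInv.lin_apply, mul_smul]) }
  obtain ⟨W₁, -, hW1T, hW1d⟩ := exists_ti (F := F) Forms.sympBilin_isAlt (nd_top (d := b + m)) (a := m)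
    (by rw [finrank_top, SympJordan.finrank_vec]; omega)
  let W₀ : Ω := ⟨W₁, (tim_iff _).2 ⟨hW1d, hW1T⟩⟩
  have hbasis : ∀ W : Ω, ∃ e : Fin m → Symplectic.Vec (b + m) F, LinearIndependent F e ∧
      W.1 = Submodule.span F (Set.range e) ∧ ∀ i i', Cfsg.sympForm (b + m) F (e i) (e i') = 0 := by
    intro W
    let β := Module.finBasisOfFinrankEq F W.1 W.2.1
    refine ⟨fun l => (β l : Symplectic.Vec (b + m) F), β.linearIndependent.map' W.1.subtype W.1.ker_subtype, ?_,
      fun i i' => W.2.2 _ (β i).2 _ (β i').2⟩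
    refine (Submodule.eq_of_le_of_finrank_eq ?_ ?_).symm
    · rw [Submodule.span_le]; rintro _ ⟨l, rfl⟩; exact SetLike.coe_mem _
    · exact (finrank_span_eq_card (β.linearIndependent.map' W.1.subtype W.1.ker_subtype)).trans
        (by rw [Fintype.card_fin]; exact W.2.1.symm)
  have horb : MulAction.orbit (Symplectic.Sp (b + m) F) W₀ = Set.univ := by
    refine Set.eq_univ_of_forall fun W => ?_
    obtain ⟨e, hli, hsp, hee⟩ := hbasis W₀
    obtain ⟨e', hli', hsp', hee'⟩ := hbasis W
    obtain ⟨g, hg⟩ := Forms.exists_smul_tuple e e' hli hli' (fun i j => by rw [hee', hee])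
    refine ⟨g, Subtype.ext ?_⟩
    show W₀.1.map (SympInv.lin g) = W.1
    rw [hsp, hsp', Submodule.map_span, ← Set.range_comp]
    congr 2
    funext s
    rw [Function.comp_apply, SympInv.lin_apply]
    exact hg s
  have hcard : Nat.card Ω * Nat.card (MulAction.stabilizer (Symplectic.Sp (b + m) F) W₀) =
      Nat.card (Symplectic.Sp (b + m) F) := by
    rw [← Nat.card_univ (α := Ω), ← horb, ← Nat.card_prod]
    exact Nat.card_congr (MulAction.orbitProdStabilizerEquivGroup (Symplectic.Sp (b + m) F) W₀)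
  set q := Fintype.card F with hq
  have hstab : Nat.card (MulAction.stabilizer (Symplectic.Sp (b + m) F) W₀) =
      q ^ (m * (m + 1) / 2 + 2 * m * ((b + m) - m)) *
        (q ^ (((b + m) - m) ^ 2) * ∏ i ∈ Finset.range ((b + m) - m), (q ^ (2 * (i + 1)) - 1)) *
        ∏ i : Fin m, (q ^ m - q ^ (i : ℕ)) := by
    rw [← Cfsg.Agent.S0775.result hq.symm (b + m) m (by omega) W₁ hW1d W₀.2.2]
    refine Nat.card_congr (Equiv.subtypeEquivRight fun g => ?_)
    refine Iff.trans ?_ (Forms.mem_stab_submodule_iff W₁ g).symm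
    rw [MulAction.mem_stabilizer_iff, Subtype.ext_iff]
    show W₁.map (SympInv.lin g) = W₁ ↔ _
    constructor
    · intro h w hw
      rw [← h]
      exact ⟨w, hw, SympInv.lin_apply g w⟩
    · intro h
      refine Submodule.eq_of_le_of_finrank_eq ?_ (Submodule.equivMapOfInjective _ (fun a a' e => by
        simpa [SympInv.lin_apply] using congrArg (fun w => g⁻¹ • w) e) W₁).finrank_eq.symm
      rintro _ ⟨w, hw, rfl⟩
      rw [SympInv.lin_apply]
      exact h w hw
  rw [Nat.add_sub_cancel, gl_card] at hstab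
  have hexp : m * (m + 1) / 2 + m * (m - 1) / 2 = m * m := by
    obtain ⟨s, hs⟩ := (Nat.even_mul_succ_self m).two_dvd
    rcases m with _ | k
    · simp
    · obtain ⟨s', hs'⟩ := (Nat.even_mul_succ_self k).two_dvd
      rw [Nat.add_sub_cancel, hs, mul_comm (k + 1) k, hs', Nat.mul_div_cancel_left _ two_pos,
        Nat.mul_div_cancel_left _ two_pos]
      linarith
  have hpow : q ^ (m * (m + 1) / 2 + 2 * m * b) * q ^ (b ^ 2) * q ^ (m * (m - 1) / 2) = q ^ ((b + m) ^ 2) := by
    rw [← pow_add, ← pow_add]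
    congr 1
    rw [show (b + m) ^ 2 = m * m + 2 * m * b + b ^ 2 by ring, ← hexp]
    ring
  have hq1 : 1 < q := Fintype.one_lt_card
  have hd1 := Nat.mul_dvd_mul hΩ (dvd_refl (Nat.card (MulAction.stabilizer (Symplectic.Sp (b + m) F) W₀)))
  rw [hcard, hstab, Symplectic.card_Sp hq.symm, ← hpow, Finset.prod_range_add] at hd1
  set Pb := ∏ i ∈ Finset.range b, (q ^ (2 * (i + 1)) - 1) with hPb
  set R := ∏ i ∈ Finset.range m, (q ^ (2 * (b + i + 1)) - 1) with hR
  set G := ∏ i ∈ Finset.range m, (q ^ (m - i) - 1) with hG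
  have hPpos : 0 < Pb := Finset.prod_pos fun i _ => by
    have := Nat.one_lt_pow (show 2 * (i + 1) ≠ 0 by omega) hq1
    omega
  have hQpos : 0 < q ^ (m * (m + 1) / 2 + 2 * m * b) * q ^ (b ^ 2) * q ^ (m * (m - 1) / 2) * Pb :=
    Nat.mul_pos (Nat.mul_pos (Nat.mul_pos (pow_pos (by omega) _) (pow_pos (by omega) _)) (pow_pos (by omega) _)) hPpos
  have hd2 : r * G ∣ R := by
    refine Nat.dvd_of_mul_dvd_mul_right hQpos (dvd_trans (dvd_of_eq ?_) (dvd_trans hd1 (dvd_of_eq ?_))) <;> ring
  obtain ⟨j, hj, hj'⟩ := ((Fact.out : r.Prime).prime.dvd_finsetProd_iff _).1 (dvd_trans (dvd_mul_right r G) hd2)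
  have hjm := Finset.mem_range.1 hj
  refine ⟨?_, b + j + 1, by omega, by omega, hj'⟩
  rintro rfl
  obtain ⟨n₀, -, hn₀⟩ := FiniteField.card F r
  rw [← hq] at hn₀
  have h1 : r ∣ q ^ (2 * (b + j + 1)) := by
    rw [hn₀, ← pow_mul]
    exact dvd_pow_self r (Nat.mul_ne_zero n₀.2.ne' (by omega))
  have h2 := Nat.dvd_sub h1 hj'
  rw [Nat.sub_sub_self (Nat.one_le_pow _ _ (by omega))] at h2
  exact (Fact.out : r.Prime).one_lt.ne' (Nat.dvd_one.1 h2)

/-- Totally isotropic invariant subspaces for an isometry of square `-1`. -/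
theorem exists_ti_sq (h2 : (2 : F) ≠ 0) (T : Module.End F (Fin d ⊕ Fin d → F))
    (hT : ∀ u v, Forms.sympBilin d F (T u) (T v) = Forms.sympBilin d F u v) (hT2 : ∀ v, T (T v) = -v) :
    ∀ (l : ℕ) (X : Submodule F (Fin d ⊕ Fin d → F)), X.map T ≤ X → Nd (Forms.sympBilin d F) X →
      4 * l ≤ finrank F X → ∃ P ≤ X, P.map T ≤ P ∧ TI (Forms.sympBilin d F) P ∧ finrank F P = 2 * l := by
  classical
  set B : LinearMap.BilinForm F (Fin d ⊕ Fin d → F) := Forms.sympBilin d F with hB
  have hA : B.IsAlt := Forms.sympBilin_isAlt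
  have hinj : Function.Injective T := fun u v h => by
    have := congrArg T h
    rw [hT2, hT2, neg_inj] at this
    exact this
  have hflip : ∀ a b, B b (T a) = B a (T b) := fun a b => by
    rw [← hT b (T a), hT2, map_neg, ← LinearMap.IsAlt.neg hA a (T b), neg_neg]
  have plane : ∀ X : Submodule F (Fin d ⊕ Fin d → F), X.map T ≤ X → Nd B X → X ≠ ⊥ →
      ∃ v ∈ X, B v (T v) ≠ 0 ∧ ∃ P ≤ X, P.map T ≤ P ∧ Nd B P ∧ finrank F P = 2 ∧ v ∈ P := by
    intro X hXi hXn hne
    obtain ⟨v, hv, hvv⟩ : ∃ v ∈ X, B v (T v) ≠ 0 := by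
      by_contra hc
      push Not at hc
      obtain ⟨a, ha, ha0⟩ := X.exists_mem_ne_zero_of_ne_bot hne
      refine ha0 (hXn a ha fun b hb => ?_)
      have hTb : T b ∈ X := hXi ⟨b, hb, rfl⟩
      have e := hc (a + T b) (X.add_mem ha hTb)
      simp only [map_add, LinearMap.add_apply, hc a ha, hc _ hTb, hflip a (T b), zero_add, add_zero] at e
      rw [hT2, map_neg] at e
      exact (mul_eq_zero.1 (show (2 : F) * B a b = 0 by linear_combination -e)).resolve_left h2
    refine ⟨v, hv, hvv, Submodule.span F (Set.range ![v, T v]), ?_, ?_, ?_, ?_, Submodule.subset_span ⟨0, rfl⟩⟩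
    · rw [Submodule.span_le]
      rintro _ ⟨s, rfl⟩
      fin_cases s
      · exact hv
      · exact hXi ⟨v, hv, rfl⟩
    · rw [Submodule.map_span_le]
      rintro _ ⟨s, rfl⟩
      fin_cases s
      · exact Submodule.subset_span ⟨1, rfl⟩
      · show T (T v) ∈ _
        rw [hT2]
        exact Submodule.neg_mem _ (Submodule.subset_span ⟨0, rfl⟩)
    · intro u hu h0
      obtain ⟨c, rfl⟩ := (Submodule.mem_span_range_iff_exists_fun F).1 hu
      have e0 := h0 v (Submodule.subset_span ⟨0, rfl⟩)
      have e1 := h0 (T v) (Submodule.subset_span ⟨1, rfl⟩)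
      simp [Fin.sum_univ_two, hA.self_eq_zero, hvv, ← LinearMap.IsAlt.neg hA v (T v)] at e0 e1
      simp [Fin.sum_univ_two, e0, e1]
    · rw [finrank_span_eq_card, Fintype.card_fin]
      rw [Fintype.linearIndependent_iff]
      intro c hc
      simp only [Fin.sum_univ_two, Matrix.cons_val_zero, Matrix.cons_val_one] at hc
      have e0 := congrArg (B v) hc
      have e1 := congrArg (B (T v)) hc
      simp [hA.self_eq_zero, hvv, ← LinearMap.IsAlt.neg hA v (T v)] at e0 e1
      exact Fin.forall_fin_two.2 ⟨e1, e0⟩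
  intro l
  induction l with
  | zero => exact fun X _ _ _ => ⟨⊥, bot_le, by simp, fun u hu v _ => by rw [(Submodule.mem_bot F).1 hu]; simp, by simp⟩
  | succ l ih =>
    intro X hXi hXn hd
    obtain ⟨v, hv, hvv, P1, h1X, h1i, h1n, h1d, hvP⟩ := plane X hXi hXn (fun h => by rw [h, finrank_bot] at hd; omega)
    obtain ⟨-, -, hn1, hfr1⟩ := split hA h1X h1n hXn
    set X1 := X ⊓ perp B P1 with hX1
    have hX1i : X1.map T ≤ X1 := (Submodule.map_inf_le T).trans (inf_le_inf hXi (map_perp_le hT hinj h1i))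
    obtain ⟨v', hv', hvv', P2, h2X, h2i, h2n, h2d, hvP'⟩ := plane X1 hX1i hn1 (fun h => by rw [h, finrank_bot] at hfr1; omega)
    obtain ⟨-, -, hn2, hfr2⟩ := split hA h2X h2n hn1
    set X2 := X1 ⊓ perp B P2 with hX2
    have hX2i : X2.map T ≤ X2 := (Submodule.map_inf_le T).trans (inf_le_inf hX1i (map_perp_le hT hinj h2i))
    obtain ⟨α, β, hαβ⟩ := SympConj.exists_form_value (F := F) (z := -1) (d := -(B v (T v)) / B v' (T v'))
      (fun _ => neg_ne_zero.2 one_ne_zero)
    set w := α • v' + β • T v' with hw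
    have hwP : w ∈ P2 := P2.add_mem (P2.smul_mem _ hvP') (P2.smul_mem _ (h2i ⟨v', hvP', rfl⟩))
    set u := v + w with hu
    have horth : ∀ a ∈ P1, ∀ b ∈ X1, B a b = 0 := fun a ha b hb => mem_perp.1 hb.2 a ha
    have hTv : T v ∈ P1 := h1i ⟨v, hvP, rfl⟩
    have hTw : T w ∈ P2 := h2i ⟨w, hwP, rfl⟩
    have huu : B u (T u) = 0 := by
      have h1 := horth v hvP (T w) (h2X hTw)
      have h3 : B w (T v) = 0 := swap_zero hA (horth _ hTv w (h2X hwP))
      have h4 : B w (T w) = -(B v (T v)) := by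
        have : B w (T w) = (α ^ 2 - -1 * β ^ 2) * B v' (T v') := by
          simp only [hw, map_add, map_smul, LinearMap.add_apply, LinearMap.smul_apply, smul_eq_mul, hT2,
            map_neg, hA.self_eq_zero, hT, ← LinearMap.IsAlt.neg hA v' (T v')]
          ring
        rw [this, hαβ, div_mul_cancel₀ _ hvv']
      simp only [hu, map_add, LinearMap.add_apply, h1, h3, h4]
      ring
    obtain ⟨P, hPX, hPi, hPT, hPd⟩ := ih X2 hX2i hn2 (by omega)
    let S : Submodule F (Fin d ⊕ Fin d → F) := Submodule.span F (Set.range ![u, T u])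
    have huX : u ∈ X := X.add_mem hv (h2X hwP).1
    have hTu : T u ∈ X := hXi ⟨u, huX, rfl⟩
    have horth2 : ∀ b ∈ X2, B u b = 0 ∧ B (T u) b = 0 := fun b hb => by
      have e1 := horth v hvP b hb.1
      have e2 := horth _ hTv b hb.1
      have e3 := mem_perp.1 hb.2 w hwP
      have e4 := mem_perp.1 hb.2 _ hTw
      simp [hu, e1, e2, e3, e4]
    have hSP : ∀ a ∈ S, ∀ b ∈ P, B a b = 0 := fun a ha b hb => by
      refine (Submodule.span_le.2 ?_ ha : a ∈ LinearMap.ker (B.flip b))
      rintro _ ⟨s, rfl⟩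
      fin_cases s
      · exact (horth2 b (hPX hb)).1
      · exact (horth2 b (hPX hb)).2
    have hST : TI B S := by
      intro a ha b hb
      obtain ⟨c, rfl⟩ := (Submodule.mem_span_range_iff_exists_fun F).1 ha
      obtain ⟨c', rfl⟩ := (Submodule.mem_span_range_iff_exists_fun F).1 hb
      simp [Fin.sum_univ_two, hA.self_eq_zero, huu, swap_zero hA huu]
    have hSd : finrank F S = 2 ∧ Disjoint S P := by
      have key : ∀ (c : Fin 2 → F), ∀ b ∈ P, ∑ s, c s • ![u, T u] s = b → c = 0 := by
        intro c b hb hc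
        have e0 := congrArg (B (T v)) hc
        have e1 := congrArg (B v) hc
        have z1 : B v b = 0 := horth v hvP b (hPX hb).1
        have z2 : B (T v) b = 0 := horth _ hTv b (hPX hb).1
        have z3 : B v w = 0 := horth v hvP w (h2X hwP)
        have z4 : B v (T w) = 0 := horth v hvP _ (h2X hTw)
        have z5 : B (T v) w = 0 := horth _ hTv w (h2X hwP)
        have z6 : B (T v) (T w) = 0 := horth _ hTv _ (h2X hTw)
        simp [Fin.sum_univ_two, hu, z1, z2, z3, z4, z5, z6, hA.self_eq_zero, hvv,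
          ← LinearMap.IsAlt.neg hA v (T v)] at e0 e1
        exact funext (Fin.forall_fin_two.2 ⟨e0, e1⟩)
      refine ⟨?_, ?_⟩
      · rw [finrank_span_eq_card, Fintype.card_fin]
        exact Fintype.linearIndependent_iff.2 fun c hc => congrFun (key c 0 P.zero_mem hc)
      · rw [Submodule.disjoint_def]
        intro a ha hb
        obtain ⟨c, rfl⟩ := (Submodule.mem_span_range_iff_exists_fun F).1 ha
        rw [key c _ hb rfl]
        simp
    refine ⟨S ⊔ P, sup_le (Submodule.span_le.2 ?_) (hPX.trans (inf_le_left.trans inf_le_left)), ?_, ?_, ?_⟩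
    · rintro _ ⟨s, rfl⟩
      fin_cases s
      · exact huX
      · exact hTu
    · rw [Submodule.map_sup]
      refine sup_le_sup ?_ hPi
      rw [Submodule.map_span_le]
      rintro _ ⟨s, rfl⟩
      fin_cases s
      · exact Submodule.subset_span ⟨1, rfl⟩
      · show T (T u) ∈ _
        rw [hT2]
        exact Submodule.neg_mem _ (Submodule.subset_span ⟨0, rfl⟩)
    · intro x hx y hy
      obtain ⟨a, ha, b, hb, rfl⟩ := Submodule.mem_sup.1 hx
      obtain ⟨a', ha', b', hb', rfl⟩ := Submodule.mem_sup.1 hy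
      simp only [map_add, LinearMap.add_apply, hST a ha a' ha', hPT b hb b' hb', hSP a ha b' hb',
        swap_zero hA (hSP a' ha' b hb), add_zero]
    · have h := Submodule.finrank_sup_add_finrank_inf_eq S P
      rw [hSd.2.eq_bot, finrank_bot, hSd.1, hPd] at h
      omega

/-- Combining fixed and moved parts. -/
theorem ti_sup {B : LinearMap.BilinForm F (Fin d ⊕ Fin d → F)} (hA : B.IsAlt) {X Y : Submodule F (Fin d ⊕ Fin d → F)}
    (hX : TI B X) (hY : TI B Y) (h : ∀ a ∈ X, ∀ b ∈ Y, B a b = 0) : TI B (X ⊔ Y) := by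
  intro x hx y hy
  obtain ⟨a, ha, b, hb, rfl⟩ := Submodule.mem_sup.1 hx
  obtain ⟨a', ha', b', hb', rfl⟩ := Submodule.mem_sup.1 hy
  simp only [map_add, LinearMap.add_apply, hX a ha a' ha', hY b hb b' hb', h a ha b' hb',
    swap_zero hA (h a' ha' b hb), add_zero]

end

/-- Elements of prime order of PSp_n(q) with no fixed totally isotropic `m`-space. Here `T = PSp_n(q)` with `n = 2d ≥ 4`, `(n, q) ≠ (4, 2)`, realised through the symplectic matrices over the field `F` with `q` elements (preserving the standard alternating form); an element of `T` of prime order `r` is such a matrix `x` with `x^r` scalar and `x` not scalar. For `r ≠ p` let `i` be the multiplicative order of `q` modulo `r`, `c = i` for `i` even and `c = 2i` for `i` odd, and write `k = n mod c`, `ℓ = m mod i`, `ℓ' = m mod c`, `n' = ⌊n/i⌋`, `m' = ⌊m/i⌋`, `t = (r−1)/i`. Let `1 ≤ m ≤ n/2` and let `r` be a prime dividing the number of totally isotropic `m`-spaces. Then every element of `T` of order `r` fixes a totally isotropic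 `m`-space if and only if either (i) `r = 2 ≠ p` and (`m` is even or `q ≡ 1 (mod 4)`); or (ii) `r ≠ p`, `r > 2`, `i ≤ m`, `k ≥ 2ℓ`, and (`i` is odd or `n' − 2m' ≥ t`). -/
theorem result {F : Type*} [Field F] [Fintype F] {p : ℕ} [Fact p.Prime] [CharP F p] {q : ℕ} (hq : Fintype.card F = q)
    (d m : ℕ) (hd : 2 ≤ d) (hT : (d, q) ≠ (2, 2)) (hm : 1 ≤ m) (hmd : m ≤ d)
    (r : ℕ) [Fact r.Prime]
    (hrΩ : r ∣ Nat.card {W : Submodule F (Fin d ⊕ Fin d → F) // Module.finrank F ↥W = m ∧ (∀ u ∈ W, ∀ v ∈ W, Cfsg.sympForm d F u v = 0)})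
    (i c : ℕ) (hi : i = orderOf (q : ZMod r)) (hc : c = if Even i then i else 2 * i) :
    (∀ x : ↥(Matrix.symplecticGroup (Fin d) F),
      (∃ z : F, ((x ^ r : ↥(Matrix.symplecticGroup (Fin d) F)) : Matrix (Fin d ⊕ Fin d) (Fin d ⊕ Fin d) F) = z • (1 : Matrix (Fin d ⊕ Fin d) (Fin d ⊕ Fin d) F)) →
      (∀ z : F, (x : Matrix (Fin d ⊕ Fin d) (Fin d ⊕ Fin d) F) ≠ z • (1 : Matrix (Fin d ⊕ Fin d) (Fin d ⊕ Fin d) F)) →
      ∃ W : Submodule F (Fin d ⊕ Fin d → F), Module.finrank F ↥W = m ∧ (∀ u ∈ W, ∀ v ∈ W, Cfsg.sympForm d F u v = 0) ∧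
        W.map (Matrix.toLin' (x : Matrix (Fin d ⊕ Fin d) (Fin d ⊕ Fin d) F)) ≤ W) ↔
    ((r = 2 ∧ p ≠ 2 ∧ (Even m ∨ q % 4 = 1)) ∨
     (r ≠ p ∧ 2 < r ∧ i ≤ m ∧ 2 * (m % i) ≤ (2 * d) % c ∧ (Odd i ∨ (r - 1) / i + 2 * (m / i) ≤ (2 * d) / i))) := by
  subst hq
  classical
  obtain ⟨hrp, j, hjb, hjd, hj⟩ := exists_dvd_pow (F := F) (p := p) hmd hrΩ
  have hrpr : r.Prime := Fact.out
  have hA : (Forms.sympBilin d F).IsAlt := Forms.sympBilin_isAlt
  have hrF := Inv.cast_ne_zero_of_ne (F := F) hrp
  set B : LinearMap.BilinForm F (Fin d ⊕ Fin d → F) := Forms.sympBilin d F with hB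
  have hlin : ∀ (x : Symplectic.Sp d F) (z : F),
      ((x ^ r : Symplectic.Sp d F) : Matrix (Fin d ⊕ Fin d) (Fin d ⊕ Fin d) F) = z • 1 →
        SympInv.lin x ^ r = z • 1 ∧ z * z = 1 := fun x z hxz => by
    have h1 : SympInv.lin x ^ r = z • 1 := by
      rw [SympInv.lin, ← Matrix.toLin'_pow, ← SubmonoidClass.coe_pow, hxz, map_smul, Matrix.toLin'_one]; rfl
    refine ⟨h1, ?_⟩
    have h2 := SympInv.form_pow (SympInv.lin_form x) r (Symplectic.fI ⟨0, by omega⟩) (Symplectic.eI ⟨0, by omega⟩)
    simpa [h1, Forms.sympBilin_apply, Symplectic.sympForm_smul_left, Symplectic.sympForm_smul_right,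
      Symplectic.sympForm_fI_eI] using h2
  -- invariant totally isotropic subspaces from the fixed and the moved part
  have hcomb : ∀ (y : Module.End F (Fin d ⊕ Fin d → F)), y ^ r = 1 → (∀ u v, B (y u) (y v) = B u v) →
      ∀ (a : ℕ) (P : Submodule F (Fin d ⊕ Fin d → F)), P ≤ LinearMap.range (y - 1) → P.map y ≤ P → TI B P →
        2 * a ≤ finrank F (LinearMap.ker (y - 1)) → a + finrank F P = m →
        ∃ W : Submodule F (Fin d ⊕ Fin d → F), finrank F ↥W = m ∧
          (∀ u ∈ W, ∀ v ∈ W, Cfsg.sympForm d F u v = 0) ∧ W.map y ≤ W := by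
    intro y hy hform a P hPR hPi hPT ha hdim
    obtain ⟨-, hCn, horth⟩ := nd_parts hA hform hrF hy (W := ⊤) le_top nd_top
    obtain ⟨E, hE, hET, hEd⟩ := exists_ti hA hCn (a := a)
      (by rw [top_inf_eq]; exact ha)
    have hEC : E ≤ LinearMap.ker (y - 1) := hE.trans inf_le_right
    have hT : TI B (E ⊔ P) := ti_sup hA hET hPT fun u hu v hv => horth u (hEC hu) v (hPR hv)
    refine ⟨E ⊔ P, ?_, fun u hu v hv => by rw [← Forms.sympBilin_apply]; exact hT u hu v hv, ?_⟩
    · have h := Submodule.finrank_sup_add_finrank_inf_eq E P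
      rw [((Inv.disjoint_ker_range hrF hy).mono hEC hPR).eq_bot, finrank_bot, hEd] at h
      refine (show finrank F ↥(E ⊔ P) + 0 = a + finrank F ↥P from h).trans hdim
    · rw [Submodule.map_sup]
      refine sup_le_sup ?_ hPi
      rintro _ ⟨v, hv, rfl⟩
      have h1 := hEC hv
      rw [LinearMap.mem_ker, LinearMap.sub_apply, Module.End.one_apply, sub_eq_zero] at h1
      rwa [h1]
  by_cases hr2 : r = 2
  · subst hr2
    have hp2 : p ≠ 2 := Ne.symm hrp
    have h20 : (2 : F) ≠ 0 := by exact_mod_cast hrF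
    constructor
    · intro hall
      refine Or.inl ⟨rfl, hp2, ?_⟩
      by_contra hcon
      push Not at hcon
      obtain ⟨hmo, hq4⟩ := hcon
      have hmo' : Odd m := Nat.not_even_iff_odd.1 hmo
      have hqo : Fintype.card F % 2 = 1 := FiniteField.odd_card_of_char_ne_two (by rw [ringChar.eq F p]; exact hp2)
      have hJ2 : (Matrix.J (Fin d) F) * (Matrix.J (Fin d) F) = -1 := Matrix.J_squared (Fin d) F
      let x : Symplectic.Sp d F := ⟨Matrix.J (Fin d) F, SymplecticGroup.J_mem (l := Fin d) (R := F)⟩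
      obtain ⟨W, hWd, -, hWi⟩ := hall x
        ⟨-1, by rw [SubmonoidClass.coe_pow, pow_two, hJ2, neg_one_smul]⟩ (fun z hz => by
          have h1 := congrFun (congrFun hz (Sum.inr ⟨0, by omega⟩)) (Sum.inl ⟨0, by omega⟩)
          simp [x, Matrix.J] at h1)
      set T := Matrix.toLin' (x : Matrix (Fin d ⊕ Fin d) (Fin d ⊕ Fin d) F) with hTdef
      have hT2 : ∀ v, T (T v) = -v := fun v => by
        simp only [hTdef, x, Matrix.toLin'_apply, Matrix.mulVec_mulVec, hJ2, Matrix.neg_mulVec, Matrix.one_mulVec]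
      let f : Module.End F W := T.restrict fun v hv => hWi ⟨v, hv, rfl⟩
      have hf2 : f * f = (-1 : F) • 1 := LinearMap.ext fun v => Subtype.ext (by simp [f, hT2])
      have hdet := congrArg LinearMap.det hf2
      rw [map_mul, LinearMap.det_smul, map_one, mul_one, hWd, hmo'.neg_one_pow] at hdet
      have hsq : IsSquare (-1 : F) := ⟨_, hdet.symm⟩
      rw [FiniteField.isSquare_neg_one_iff] at hsq
      omega
    · rintro (⟨-, -, hcond⟩ | ⟨-, hc', -⟩) x ⟨z, hxz⟩ -
      swap
      · omega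
      obtain ⟨hlr, hz2⟩ := hlin x z hxz
      rcases mul_self_eq_one_iff.1 hz2 with rfl | rfl
      · rw [one_smul] at hlr
        have hform := SympInv.lin_form x
        obtain ⟨hRn, -, -⟩ := nd_parts hA hform hrF hlr (W := ⊤) le_top nd_top
        rw [Submodule.map_top] at hRn
        have hdim := LinearMap.finrank_range_add_finrank_ker (SympInv.lin x - 1)
        rw [SympJordan.finrank_vec] at hdim
        obtain ⟨sR, hsR⟩ := AltSim.even_finrank B hA _ hRn
        have hdim' : finrank F (LinearMap.range (SympInv.lin x - 1)) + finrank F (LinearMap.ker (SympInv.lin x - 1)) = 2 * d := hdim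
        have hsR' : finrank F (LinearMap.range (SympInv.lin x - 1)) = sR + sR := hsR
        set a := min m (finrank F (LinearMap.ker (SympInv.lin x - 1)) / 2) with ha
        obtain ⟨P, hPR, hPT, hPd⟩ := exists_ti hA hRn (a := m - a) (by omega)
        refine hcomb (SympInv.lin x) hlr hform a P hPR ?_ hPT (le_trans (by omega : 2 * a ≤ finrank F (LinearMap.ker (SympInv.lin x - 1))) (le_of_eq rfl)) ((congrArg (a + ·) hPd).trans (by omega : a + (m - a) = m))
        rintro _ ⟨v, hv, rfl⟩
        obtain ⟨u, rfl⟩ := hPR hv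
        have e : SympInv.lin x ((SympInv.lin x - 1) u) = -((SympInv.lin x - 1) u) := by
          rw [LinearMap.sub_apply, Module.End.one_apply, map_sub, ← Module.End.mul_apply, ← pow_two, hlr,
            Module.End.one_apply, neg_sub]
        show SympInv.lin x ((SympInv.lin x - 1) u) ∈ P
        rw [e]
        exact P.neg_mem hv
      · have hT2 : ∀ v, SympInv.lin x (SympInv.lin x v) = -v := fun v => by
          rw [← Module.End.mul_apply, ← pow_two, hlr]; simp
        by_cases hme : Even m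
        · obtain ⟨l, hl⟩ := hme
          obtain ⟨P, -, hPi, hPT, hPd⟩ := exists_ti_sq h20 (SympInv.lin x) (SympInv.lin_form x) hT2 l ⊤ le_top nd_top
            (by rw [finrank_top, SympJordan.finrank_vec]; omega)
          exact ⟨P, by omega, fun u hu v hv => by rw [← Forms.sympBilin_apply]; exact hPT u hu v hv, hPi⟩
        · obtain ⟨ι, hι⟩ : IsSquare (-1 : F) := by
            rw [FiniteField.isSquare_neg_one_iff]
            have := hcond.resolve_left hme
            omega
          set T := SympInv.lin x with hTdef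
          have hE : ∀ a : F, a * a = -1 → TI B (LinearMap.ker (T - a • 1)) := by
            intro a ha u hu v hv
            rw [LinearMap.mem_ker, LinearMap.sub_apply, LinearMap.smul_apply, Module.End.one_apply, sub_eq_zero] at hu hv
            have h := SympInv.lin_form x u v
            rw [← hTdef, ← hB, hu, hv, map_smul, map_smul, LinearMap.smul_apply, smul_smul, ha, smul_eq_mul] at h
            exact (mul_eq_zero.1 (show (2 : F) * B u v = 0 by linear_combination -h)).resolve_left h20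
          have hι' : (-ι) * (-ι) = -1 := by rw [neg_mul_neg]; exact hι.symm
          have htop : (⊤ : Submodule F (Fin d ⊕ Fin d → F)) ≤ LinearMap.ker (T - ι • 1) ⊔ LinearMap.ker (T - (-ι) • 1) := by
            intro v _
            refine Submodule.mem_sup.2 ⟨(2 : F)⁻¹ • (v - ι • T v), ?_, (2 : F)⁻¹ • (v + ι • T v), ?_, ?_⟩
            · rw [LinearMap.mem_ker]
              simp only [LinearMap.sub_apply, LinearMap.smul_apply, Module.End.one_apply, map_smul, map_sub, hT2,
                smul_sub, smul_smul, smul_neg]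
              linear_combination (norm := module) ((2 : F)⁻¹ • (congrArg (fun c : F => c • T v) hι.symm))
            · rw [LinearMap.mem_ker]
              simp only [LinearMap.sub_apply, LinearMap.smul_apply, Module.End.one_apply, map_smul, map_add, hT2,
                smul_add, smul_smul, smul_neg, neg_smul, sub_neg_eq_add]
              linear_combination (norm := module) ((2 : F)⁻¹ • (congrArg (fun c : F => c • T v) hι.symm))
            · rw [← smul_add, sub_add_add_cancel, ← two_smul F v, smul_smul, inv_mul_cancel₀ h20, one_smul]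
          have h1 := (Submodule.finrank_mono htop).trans (Submodule.finrank_add_le_finrank_add_finrank _ _)
          rw [finrank_top, SympJordan.finrank_vec] at h1
          have h3 := ti_le hA (le_top : LinearMap.ker (T - (-ι) • 1) ≤ ⊤) nd_top (hE _ hι')
          rw [finrank_top, SympJordan.finrank_vec] at h3
          have h1' : 2 * d ≤ finrank F (LinearMap.ker (T - ι • 1)) + finrank F (LinearMap.ker (T - (-ι) • 1)) := h1
          have h3' : 2 * finrank F (LinearMap.ker (T - (-ι) • 1)) ≤ 2 * d := h3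
          obtain ⟨W, hW, hWd⟩ := Inv.exists_sub_dim (LinearMap.ker (T - ι • 1)) m (by omega)
          refine ⟨W, hWd, fun u hu v hv => by rw [← Forms.sympBilin_apply]; exact hE ι hι.symm u (hW hu) v (hW hv), ?_⟩
          rintro _ ⟨v, hv, rfl⟩
          have h := hW hv
          rw [LinearMap.mem_ker, LinearMap.sub_apply, LinearMap.smul_apply, Module.End.one_apply, sub_eq_zero] at h
          show T v ∈ W
          rw [h]
          exact W.smul_mem _ hv
  have hr3 : 3 ≤ r := by have := hrpr.two_le; omega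
  obtain ⟨r', hr'⟩ := hrpr.odd_of_ne_two hr2
  have hipos : 0 < i := hi ▸ Inv.orderOf_pos_of_ne (F := F) hrp
  have hcpos : 0 < c := by rw [hc]; split_ifs <;> omega
  have hcdvd : ∀ n, i ∣ 2 * n → c ∣ 2 * n := by
    intro n hn
    rw [hc]
    split_ifs with hev
    · exact hn
    · exact Nat.mul_dvd_mul_left 2 ((Nat.coprime_two_right.2 (Nat.not_even_iff_odd.1 hev)).dvd_of_dvd_mul_left hn)
  have hir : i ∣ r - 1 := by
    have h0 : (Fintype.card F : ZMod r) ≠ 0 := by
      intro h0
      rw [hi, h0, orderOf_zero] at hipos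
      exact lt_irrefl 0 hipos
    exact hi ▸ orderOf_dvd_iff_pow_eq_one.2 (ZMod.pow_card_sub_one_eq_one h0)
  have hir' : i ≤ r := (Nat.le_of_dvd (by omega) hir).trans (Nat.sub_le _ _)
  rw [← Inv.orderOf_dvd_iff_dvd_pow, ← hi] at hj
  obtain ⟨lj, hlj⟩ := hcdvd j hj
  have hdm := Nat.div_add_mod (2 * d) c
  have hlt := Nat.mod_lt (2 * d) hcpos
  have hl1 : 1 ≤ lj := Nat.pos_of_ne_zero fun h0 => by rw [h0, mul_zero] at hlj; omega
  have hl2 : lj ≤ 2 * d / c := (Nat.le_div_iff_mul_le hcpos).2 (by rw [mul_comm, ← hlj]; omega)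
  have hl3 : c * lj ≤ c * (2 * d / c) := Nat.mul_le_mul_left _ hl2
  have hmdm := Nat.div_add_mod m i
  have hmlt := Nat.mod_lt m hipos
  constructor
  · intro hall
    -- a general test element
    have htest : ∀ (x : Symplectic.Sp d F) (e0 β : ℕ), x ^ r = 1 → finrank F (LinearMap.ker (SympInv.lin x - 1)) = e0 →
        e0 < 2 * d → Bound x β → ∃ a b, a + b * i = m ∧ 2 * a ≤ e0 ∧ 2 * (b * i) ≤ β := by
      intro x e0 β hx hk he hβ
      have hxr := SympInv.lin_pow_eq_one hx
      obtain ⟨W, hWd, hWT, hWi⟩ := hall x ⟨1, by rw [hx, one_smul]; rfl⟩ fun z hz => by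
        have hl : SympInv.lin x = z • 1 := by rw [SympInv.lin, hz, map_smul, Matrix.toLin'_one]; rfl
        have hzr : z ^ r = 1 := by
          rw [hl, smul_pow, one_pow] at hxr
          have := congrFun (LinearMap.congr_fun hxr (Symplectic.eI ⟨0, by omega⟩)) (Sum.inl ⟨0, by omega⟩)
          simpa [Symplectic.eI] using this
        have hz2 : z * z = 1 := by
          have h2 := SympInv.lin_form x (Symplectic.fI ⟨0, by omega⟩) (Symplectic.eI ⟨0, by omega⟩)
          simpa [hl, Forms.sympBilin_apply, Symplectic.sympForm_smul_left, Symplectic.sympForm_smul_right,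
            Symplectic.sympForm_fI_eI] using h2
        have hz1 : z = 1 := by
          rw [hr', pow_succ, pow_mul, pow_two, hz2, one_pow, one_mul] at hzr
          exact hzr
        rw [hl, hz1, one_smul, sub_self, LinearMap.ker_zero, finrank_top, SympJordan.finrank_vec] at hk
        omega
      have hWT' : TI B W := fun u hu v hv => by rw [hB, Forms.sympBilin_apply]; exact hWT u hu v hv
      have hWi' : W.map (SympInv.lin x) ≤ W := hWi
      obtain ⟨b, hb⟩ := Inv.dvd_finrank_moved hrF hxr hWi'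
      rw [← hi, mul_comm] at hb
      have hsplit := Inv.finrank_split (SympInv.lin x) W
      refine ⟨finrank F ↥(W ⊓ LinearMap.ker (SympInv.lin x - 1)), b, ?_, ?_, ?_⟩
      · rw [← hb, add_comm, hsplit, hWd]
      · obtain ⟨-, hCn, -⟩ := nd_parts hA (SympInv.lin_form x) hrF hxr (W := ⊤) le_top nd_top
        rw [top_inf_eq] at hCn
        have := ti_le hA (inf_le_right : W ⊓ LinearMap.ker (SympInv.lin x - 1) ≤ _) hCn
          (fun u hu v hv => hWT' u hu.1 v hv.1)
        exact this.trans hk.le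
      · rw [← hb]
        exact hβ W hWi' hWT'
    have hs0 : 0 < 2 * d / c := by omega
    obtain ⟨x, hx, hxk⟩ := SympInv.exists_elt hrF hi hc hipos (2 * d / c) (d := d) (Nat.div_mul_le_self _ _)
    have hk' : finrank F (LinearMap.ker (SympInv.lin x - 1)) = 2 * d % c := by
      rw [hxk, mul_comm (2 * d / c) c]; omega
    have hc2d : c ≤ 2 * d := le_trans (Nat.le_mul_of_pos_right c hl1) (by omega)
    obtain ⟨a, b, hab, ha, -⟩ := htest x _ (4 * d) hx hk' (by omega) fun P _ _ => by
      have := Submodule.finrank_le (P.map (SympInv.lin x - 1))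
      rw [SympJordan.finrank_vec] at this
      omega
    have hmod : m % i = a % i := by rw [← hab, Nat.add_mul_mod_self_right]
    have hk2 : 2 * (m % i) ≤ 2 * d % c := by
      have := Nat.mod_le a i
      omega
    have him : i ≤ m := by
      by_contra hlt'
      rw [Nat.mod_eq_of_lt (by omega : m < i)] at hk2
      omega
    refine Or.inr ⟨hrp, by omega, him, hk2, ?_⟩
    rcases Nat.even_or_odd i with hev | hodd
    swap
    · exact Or.inl hodd
    refine Or.inr ?_
    have hci : c = i := by rw [hc, if_pos hev]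
    rw [hci] at hdm hlt hk2
    obtain ⟨e, he⟩ := hev
    by_contra hcon
    push Not at hcon
    obtain ⟨t, ht⟩ := hir
    have hti : (r - 1) / i = t := by rw [ht, Nat.mul_div_cancel_left _ hipos]
    rw [hti] at hcon
    set n' := 2 * d / i with hn'
    set m' := m / i with hm'
    have hm1 : 1 ≤ m' := (Nat.one_le_div_iff hipos).2 him
    have hn1 : 1 ≤ n' := (Nat.one_le_div_iff hipos).2 (by omega)
    have ht1 : 1 ≤ t := Nat.pos_of_ne_zero fun h0 => by rw [h0, mul_zero] at ht; omega
    obtain ⟨t', s₀, htt, hsn, hcase⟩ : ∃ t' s₀, t' + 1 ≤ t ∧ s₀ + t' ≤ n' ∧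
        ((t' + 1 = n' ∧ s₀ = 1) ∨ (t' + 1 = t ∧ n' - 1 ≤ s₀ + t' ∧ t ≤ s₀ + t' ∧ Odd s₀)) := by
      by_cases hnt : n' ≤ t
      · exact ⟨n' - 1, 1, by omega, by omega, Or.inl ⟨by omega, rfl⟩⟩
      · by_cases hpar : Even (n' - t)
        · obtain ⟨w, hw⟩ := hpar
          exact ⟨t - 1, n' - t + 1, by omega, by omega, Or.inr ⟨by omega, by omega, by omega, ⟨w, by omega⟩⟩⟩
        · obtain ⟨w, hw⟩ := Nat.not_even_iff_odd.1 hpar
          exact ⟨t - 1, n' - t, by omega, by omega, Or.inr ⟨by omega, by omega, by omega, ⟨w, by omega⟩⟩⟩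
    have hs : (s₀ + t') * i ≤ n' * i := Nat.mul_le_mul_right _ hsn
    have hdm' : n' * i + 2 * d % i = 2 * d := by rw [mul_comm]; exact hdm
    have h2e : 2 * ((s₀ + t') * e) = (s₀ + t') * i := by rw [he]; ring
    have hu : (t' + 1) * i ≤ r - 1 := by
      rw [ht, mul_comm i t]
      exact Nat.mul_le_mul_right _ htt
    obtain ⟨x, hx, hxk, hxb⟩ := exists_bad (F := F) hrF hi (e := e) (by omega) (by omega) rfl hu (s₀ := s₀) (d := d)
      (by omega)
    have hspos : 0 < (s₀ + t') * i := Nat.mul_pos (by rcases hcase with ⟨-, h'⟩ | ⟨-, -, h', -⟩ <;> omega) hipos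
    obtain ⟨a, b, hab, ha, hb⟩ := htest x _ _ hx hxk (by omega) hxb
    have hmi : m = m' * i + m % i := by rw [mul_comm]; exact hmdm.symm
    have hb' : 2 * b ≤ s₀ := by
      refine Nat.le_of_mul_le_mul_right ?_ hipos
      rw [mul_assoc]; exact hb
    rcases hcase with ⟨htn, rfl⟩ | ⟨htt', hsn', hts, hodd⟩
    · -- no moved totally isotropic part
      have hb0 : b = 0 := by omega
      subst hb0
      rw [show (1 + t') = n' by omega] at ha
      have h4 : 2 * (m' * i) ≤ 2 * d % i := by omega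
      have := Nat.le_mul_of_pos_left i hm1
      omega
    · obtain ⟨w, hw⟩ := hodd
      -- `b ≥ m'`
      have hbm : m' ≤ b := by
        by_contra hlt'
        have hlt'' : b + 1 ≤ m' := by omega
        have h5 : (b + 1) * i ≤ m' * i := Nat.mul_le_mul_right _ hlt''
        rw [Nat.add_one_mul] at h5
        have h6 : n' * i ≤ (s₀ + t' + 1) * i := Nat.mul_le_mul_right _ (by omega)
        rw [Nat.add_one_mul] at h6
        omega
      omega
  · rintro (⟨hc', -⟩ | ⟨-, -, him, hk, hcond⟩) x ⟨z, hxz⟩ -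
    · exact absurd hc' hr2
    obtain ⟨hlr, hz2⟩ := hlin x z hxz
    set y : Module.End F (Fin d ⊕ Fin d → F) := z • SympInv.lin x with hy
    have hyr : y ^ r = 1 := by
      rw [hy, smul_pow, hlr, smul_smul, ← pow_succ, hr', show 2 * r' + 1 + 1 = 2 * (r' + 1) by ring, pow_mul,
        pow_two, hz2, one_pow, one_smul]
    have hform : ∀ u v, B (y u) (y v) = B u v := fun u v => by
      simp only [hy, hB, LinearMap.smul_apply, map_smul, smul_eq_mul, SympInv.lin_form, ← mul_assoc, hz2, one_mul]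
    have hback : ∀ W : Submodule F (Fin d ⊕ Fin d → F), W.map y ≤ W →
        W.map (Matrix.toLin' (x : Matrix (Fin d ⊕ Fin d) (Fin d ⊕ Fin d) F)) ≤ W := fun W hW => by
      rw [hy, Submodule.map_smul _ _ _ (left_ne_zero_of_mul_eq_one hz2)] at hW
      exact hW
    obtain ⟨hRn, -, -⟩ := nd_parts hA hform hrF hyr (W := ⊤) le_top nd_top
    rw [Submodule.map_top] at hRn
    obtain ⟨P, hPR, hPi, hPT, hPd⟩ := exists_max hA hform hrF hyr hi Inv.map_range_sub_le hRn le_rfl hir'
    obtain ⟨sR, hsR⟩ := dvd_moved hA hform hrF hyr hi hc (W := ⊤) le_top nd_top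
    rw [Submodule.map_top] at hsR
    have hdim := LinearMap.finrank_range_add_finrank_ker (y - 1)
    rw [SympJordan.finrank_vec, hsR] at hdim
    rw [hsR] at hPd
    have hsle : sR ≤ 2 * d / c := (Nat.le_div_iff_mul_le hcpos).2 (by rw [mul_comm]; omega)
    obtain ⟨β, hβ⟩ := dvd_of_le_range hrF hyr hi hPi hPR
    set b := min (m / i) β with hb
    have hb1 : i * b ≤ i * (m / i) := Nat.mul_le_mul_left _ (min_le_left _ _)
    obtain ⟨L, hL, hL0⟩ := Inv.exists_factor_list (Inv.geom_ne_zero hrF) y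
    obtain ⟨P', -, hP'P, hP'i, hP'd⟩ := Inv.exists_chain (f := y) L (fun g hg => (hL g hg).1) (d := i)
      (fun g hg => (Inv.natDegree_eq_orderOf hrF (hL g hg).1 (hL g hg).2).trans hi.symm)
      (W := (⊥ : Submodule F (Fin d ⊕ Fin d → F))) (R := P) (by simp) hPi bot_le (by
        intro v hv
        obtain ⟨w, rfl⟩ := hPR hv
        rw [hL0 _ (Inv.geom_apply_sub hyr w)]
        exact zero_mem _) b (by
        rw [finrank_bot, zero_add, hβ, mul_comm b i]; exact Nat.mul_le_mul_left _ (min_le_right _ _))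
    rw [finrank_bot, zero_add, mul_comm] at hP'd
    have hker : 2 * (m - i * b) ≤ finrank F (LinearMap.ker (y - 1)) := by
      have hfk : finrank F (LinearMap.ker (y - 1)) = 2 * d % c + c * (2 * d / c - sR) := by
        rw [Nat.mul_sub]
        have := Nat.mul_le_mul_left c hsle
        omega
      rcases le_total (m / i) β with h' | h'
      · rw [hb, min_eq_left h']; omega
      · rw [hb, min_eq_right h', hfk]
        rcases Nat.even_or_odd i with hev | hodd
        · have hci : c = i := by rw [hc, if_pos hev]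
          have ht := hcond.resolve_left (Nat.not_odd_iff_even.2 hev)
          rw [hci] at hPd hk hsle ⊢
          rw [if_pos hev, hβ] at hPd
          obtain ⟨t, htr⟩ := hir
          rw [htr, Nat.mul_div_cancel_left _ hipos] at ht
          rw [htr, show 2 * (i * β) + i * t = i * (2 * β + t) by ring] at hPd
          have h7 : sR ≤ 2 * β + t := Nat.le_of_mul_le_mul_left hPd hipos
          have h8 : i * (2 * (m / i - β)) ≤ i * (2 * d / i - sR) := Nat.mul_le_mul_left _ (by omega)
          have h9 : i * (2 * (m / i - β)) = 2 * (i * (m / i) - i * β) := by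
            rw [← Nat.mul_sub]; ring
          have h10 := Nat.mul_le_mul_left i h'
          omega
        · have hci : c = 2 * i := by rw [hc, if_neg (Nat.not_even_iff_odd.2 hodd)]
          rw [if_neg (Nat.not_even_iff_odd.2 hodd), hβ, add_zero] at hPd
          rw [hci] at hPd hk hdm hdim hsle ⊢
          have h7 : sR ≤ β := Nat.le_of_mul_le_mul_left (by rw [← mul_assoc] at hPd; exact hPd) (by omega : 0 < 2 * i)
          have h8 : i * sR ≤ i * β := Nat.mul_le_mul_left _ h7
          have h9 := Nat.mul_sub (2 * i) (2 * d / (2 * i)) sR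
          have h11 := Nat.mul_le_mul_left (2 * i) hsle
          rw [mul_assoc 2 i sR] at h9 h11
          omega
    obtain ⟨W, hW1, hW2, hW3⟩ := hcomb y hyr hform (m - i * b) P' (hP'P.trans hPR) hP'i
      (fun u hu v hv => hPT u (hP'P hu) v (hP'P hv)) hker (by omega)
    exact ⟨W, hW1, hW2, hback W hW3⟩

end Cfsg.Agent.S5955
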