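import Cfsg.Statements.S5956
import Cfsg.Agent.ClMax99.SympJordan
import Cfsg.Agent.ClMax99.SympOddElt
import Cfsg.Agent.ClMax99.SympPlanes

set_option autoImplicit false
open scoped MatrixGroups
open Cfsg

namespace Cfsg.Agent.S5956

open Cfsg.Agent Cfsg.Agent.ClMax99 Module

section

variable {F : Type*} [Field F] {d m : ℕ}

/-- The condition on `W` in the statement. -/
def Good (m : ℕ) (W : Submodule F (Fin d ⊕ Fin d → F)) : Prop :=
  finrank F ↥W = m ∧ (∀ u ∈ W, u ≠ 0 → ∃ v ∈ W, Cfsg.sympForm d F u v ≠ 0)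

theorem good_iff (W : Submodule F (Fin d ⊕ Fin d → F)) :
    Good m W ↔ finrank F ↥W = m ∧ SympInv.Nd (Forms.sympBilin d F) W := by
  refine and_congr_right fun _ => ⟨fun h u hu h0 => ?_, fun h u hu hu0 => ?_⟩
  · by_contra hne
    obtain ⟨v, hv, hv0⟩ := h u hu hne
    exact hv0 (by rw [← Forms.sympBilin_apply]; exact h0 v hv)
  · by_contra hc
    push Not at hc
    exact hu0 (h u hu fun v hv => by rw [Forms.sympBilin_apply]; exact hc v hv)

/-- A scalar power of a symplectic matrix. -/
theorem scalar_sq [Fintype F] (x : Symplectic.Sp d F) (hd : 0 < d) {k : ℕ} {z : F}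
    (h : SympInv.lin (F := F) x ^ k = z • 1) (hform : ∀ u v, Forms.sympBilin d F (SympInv.lin x u) (SympInv.lin x v) = Forms.sympBilin d F u v) :
    z * z = 1 := by
  have h1 := SympInv.form_pow hform k (Symplectic.fI ⟨0, hd⟩) (Symplectic.eI ⟨0, hd⟩)
  simpa [h, Forms.sympBilin_apply, Symplectic.sympForm_smul_left, Symplectic.sympForm_smul_right,
    Symplectic.sympForm_fI_eI] using h1

/-- Sub-sums of planes. -/
theorem exists_planes_sub [Fintype F] (x : Symplectic.Sp d F) (hd : 0 < d) {z : F}
    (hz : SympInv.lin x ^ 2 = z • 1) {h : ℕ} (hh : h ≤ d) (hcond : (2 : F) ≠ 0 ∨ Even h ∨ Odd d) :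
    ∃ W : Submodule F (Fin d ⊕ Fin d → F), finrank F W = 2 * h ∧ SympInv.Nd (Forms.sympBilin d F) W ∧
      W.map (SympInv.lin x) ≤ W := by
  classical
  set B := Forms.sympBilin d F with hBdef
  set T := SympInv.lin x with hTdef
  have hA : B.IsAlt := Forms.sympBilin_isAlt
  have hT2 : ∀ w, T (T w) = z • w := fun w => by
    rw [← Module.End.mul_apply, ← pow_two, hz]; rfl
  have hz1 : z = 1 ∨ z = -1 := mul_self_eq_one_iff.1 (scalar_sq x hd hz (SympInv.lin_form x))
  obtain ⟨ι, _, _, u, v, σ, ⟨hσ, -, huv, huu, hvv, hTm⟩, hspan, hfix⟩ :=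
    SympPlanes.exists_planes B hA T (SympInv.lin_form x) hz1 hT2 ⊤ (fun w _ => Submodule.mem_top)
      (fun w _ hw => Forms.sympBilin_nondegenerate.1 w fun y => hw y Submodule.mem_top)
  have hvu : ∀ i j, B (v i) (u j) = -if j = i then 1 else 0 := fun i j => by
    rw [← LinearMap.IsAlt.neg hA (u j) (v i), huv]
  set b : ι ⊕ ι → (Fin d ⊕ Fin d → F) := Sum.elim u v with hb
  have hli : LinearIndependent F b := by
    rw [Fintype.linearIndependent_iff]
    intro g hg
    simp only [hb, Fintype.sum_sum_type, Sum.elim_inl, Sum.elim_inr] at hg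
    rintro (i | i)
    · simpa [map_sum, huv, hvv, hvu] using congrArg (B (v i)) hg
    · simpa [map_sum, huv, huu] using congrArg (B (u i)) hg
  have hcard : Fintype.card ι = d := by
    have h1 := finrank_span_eq_card hli
    rw [top_le_iff.1 hspan, finrank_top, finrank_pi, Fintype.card_sum, Fintype.card_sum, Fintype.card_fin] at h1
    omega
  obtain ⟨A, -, hAc, hAi⟩ := SympPlanes.exists_invariant_subset σ hσ h Finset.univ (fun i _ => Finset.mem_univ _)
    (by rw [Finset.card_univ, hcard]; exact hh) (by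
      rcases hcond with h2 | h2 | h2
      · by_cases h0 : h = 0
        · exact Or.inl (h0 ▸ Even.zero)
        · haveI : Nonempty ι := Fintype.card_pos_iff.1 (by omega)
          exact Or.inr ⟨Classical.arbitrary ι, Finset.mem_univ _, hfix h2 _⟩
      · exact Or.inl h2
      · refine Or.inr ?_
        obtain ⟨k, hk⟩ := h2
        obtain ⟨A, hA', hAc, hAi⟩ := SympPlanes.exists_invariant_subset σ hσ (d - 1) Finset.univ
          (fun i _ => Finset.mem_univ _) (by rw [Finset.card_univ, hcard]; omega) (Or.inl ⟨k, by omega⟩)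
        obtain ⟨j, hj⟩ := Finset.card_eq_one.1 (show (Finset.univ \ A).card = 1 by
          rw [Finset.card_sdiff_of_subset hA', Finset.card_univ, hcard, hAc]; omega)
        have hjm : j ∈ Finset.univ \ A := by simp [hj]
        have hσj : σ j ∈ Finset.univ \ A := by
          rw [Finset.mem_sdiff] at hjm ⊢
          exact ⟨Finset.mem_univ _, fun h' => hjm.2 (by rw [← hσ j]; exact hAi _ h')⟩
        rw [hj, Finset.mem_singleton] at hσj
        exact ⟨j, Finset.mem_univ _, hσj⟩)
  let P : Finset (ι ⊕ ι) := A.disjSum A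
  refine ⟨Submodule.span F (b '' ↑P), ?_, ?_, ?_⟩
  · have h1 := finrank_span_eq_card (hli.comp (Subtype.val : ↥P → ι ⊕ ι) Subtype.val_injective)
    have e' : Set.range (b ∘ (Subtype.val : ↥P → ι ⊕ ι)) = b '' ↑P := by
      ext w; simp
    rw [e', Fintype.card_coe, Finset.card_disjSum, hAc] at h1
    omega
  · intro w hw h0
    obtain ⟨g, rfl⟩ : ∃ g : ↥P → F, ∑ s, g s • b s = w := by
      have e' : Set.range (b ∘ (Subtype.val : ↥P → ι ⊕ ι)) = b '' ↑P := by
        ext w; simp
      rw [← e'] at hw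
      exact (Submodule.mem_span_range_iff_exists_fun F).1 hw
    suffices hg : ∀ s, g s = 0 by simp [hg]
    rintro ⟨s, hs⟩
    rcases s with i | i
    · have hs' : Sum.inr i ∈ P := by simp [P] at hs ⊢; exact hs
      have h1 := h0 (b (Sum.inr i)) (Submodule.subset_span ⟨_, hs', rfl⟩)
      rw [map_sum, LinearMap.sum_apply, Finset.sum_eq_single (⟨Sum.inl i, hs⟩ : ↥P)] at h1
      · simpa [hb, huv] using h1
      · rintro ⟨s', hs''⟩ _ hne
        rcases s' with j | j
        · simp [hb, huv, show j ≠ i from fun e => hne (by subst e; rfl)]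
        · simp [hb, hvv]
      · simp
    · have hs' : Sum.inl i ∈ P := by simp [P] at hs ⊢; exact hs
      have h1 := h0 (b (Sum.inl i)) (Submodule.subset_span ⟨_, hs', rfl⟩)
      rw [map_sum, LinearMap.sum_apply, Finset.sum_eq_single (⟨Sum.inr i, hs⟩ : ↥P)] at h1
      · simpa [hb, hvu] using h1
      · rintro ⟨s', hs''⟩ _ hne
        rcases s' with j | j
        · simp [hb, huu]
        · simp [hb, hvu, show i ≠ j from fun e => hne (by subst e; rfl)]
      · simp
  · rw [Submodule.map_span_le]
    rintro _ ⟨s, hs, rfl⟩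
    have hmem : Sum.elim id id s ∈ A := by
      rcases s with i | i <;> simpa [P] using hs
    have hσm := hAi _ hmem
    have hsub : Submodule.span F ({u (σ (Sum.elim id id s)), v (σ (Sum.elim id id s))} : Set _) ≤
        Submodule.span F (b '' ↑P) := by
      refine Submodule.span_le.2 ?_
      rintro _ (rfl | rfl)
      · refine Submodule.subset_span ⟨Sum.inl (σ (Sum.elim id id s)), ?_, rfl⟩
        rw [Finset.mem_coe, Finset.inl_mem_disjSum]; exact hσm
      · refine Submodule.subset_span ⟨Sum.inr (σ (Sum.elim id id s)), ?_, rfl⟩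
        rw [Finset.mem_coe, Finset.inr_mem_disjSum]; exact hσm
    rcases s with i | i
    · exact hsub (hTm i).1
    · exact hsub (hTm i).2

/-- An involution in characteristic two without invariant nondegenerate `4k+2`-spaces. -/
theorem exists_bad_invol [Fintype F] (h2 : (2 : F) = 0) (hde : Even d) (hd : 0 < d) :
    ∃ x : Symplectic.Sp d F, x ^ 2 = 1 ∧
      (∀ z : F, (x : Matrix (Fin d ⊕ Fin d) (Fin d ⊕ Fin d) F) ≠ z • 1) ∧
      ∀ W : Submodule F (Fin d ⊕ Fin d → F), SympInv.Nd (Forms.sympBilin d F) W → W.map (SympInv.lin x) ≤ W →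
        4 ∣ finrank F W := by
  classical
  let τ : Fin d ⊕ Fin d → Fin d ⊕ Fin d := Sum.map Fin.rev Fin.rev
  have hττ : ∀ s, τ (τ s) = s := by rintro (i | i) <;> simp [τ]
  let g : Module.End F (Fin d ⊕ Fin d → F) := LinearMap.funLeft F F τ
  have hgg : ∀ v, g (g v) = v := fun v => funext fun s => by simp [g, LinearMap.funLeft_apply, hττ]
  have hform : ∀ u v, Cfsg.sympForm d F (g u) (g v) = Cfsg.sympForm d F u v := fun u v => by
    simp only [Symplectic.sympForm_eq_sum, g, LinearMap.funLeft_apply, τ, Sum.map_inl, Sum.map_inr]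
    exact Fintype.sum_equiv Fin.revPerm _ _ fun i => rfl
  set x := Forms.spOfLinearMap g hform with hx
  have hlin : SympInv.lin x = g := LinearMap.ext fun v => by
    rw [SympInv.lin_apply, hx]; exact Forms.spOfLinearMap_smul g hform v
  have hxx : x ^ 2 = 1 := Symplectic.eq_of_smul_eq fun v => by
    rw [pow_two, mul_smul, one_smul, ← SympInv.lin_apply, ← SympInv.lin_apply, hlin]; exact hgg v
  have halt : ∀ v, Forms.sympBilin d F v (g v) = 0 := fun v => by
    rw [Forms.sympBilin_apply, Symplectic.sympForm_eq_sum]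
    simp only [g, LinearMap.funLeft_apply, τ, Sum.map_inl, Sum.map_inr]
    rw [Finset.sum_sub_distrib, sub_eq_zero]
    exact Fintype.sum_equiv Fin.revPerm _ _ fun i => by simp [mul_comm]
  set e : Module.End F (Fin d ⊕ Fin d → F) := g - 1 with he
  have he2 : ∀ v, e (e v) = 0 := fun v => by
    simp only [he, LinearMap.sub_apply, Module.End.one_apply, map_sub, hgg]
    rw [show v - g v - (g v - v) = (2 : F) • (v - g v) by module, h2, zero_smul]
  obtain ⟨k, hk⟩ := hde
  have hker : LinearMap.ker e = LinearMap.range e := by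
    refine le_antisymm (fun v hv => ?_) (by rintro _ ⟨v, rfl⟩; exact he2 v)
    rw [LinearMap.mem_ker, he, LinearMap.sub_apply, Module.End.one_apply, sub_eq_zero] at hv
    have hv' : ∀ s, v (τ s) = v s := fun s => congrFun hv s
    let w : Fin d ⊕ Fin d → F := Sum.elim (fun i => if (i : ℕ) < k then v (Sum.inl i) else 0)
      (fun i => if (i : ℕ) < k then v (Sum.inr i) else 0)
    refine ⟨w, funext fun s => ?_⟩
    simp only [he, LinearMap.sub_apply, Module.End.one_apply, Pi.sub_apply, g, LinearMap.funLeft_apply]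
    have hneg : ∀ a : F, -a = a := fun a => by linear_combination (-a) * h2
    rcases s with i | i <;>
    · have h1 := hv' (Sum.inl i)
      have h1' := hv' (Sum.inr i)
      have h3 : ((Fin.rev i : Fin d) : ℕ) = d - ((i : ℕ) + 1) := Fin.val_rev i
      have h4 := i.2
      simp only [τ, Sum.map_inl, Sum.map_inr, w, Sum.elim_inl, Sum.elim_inr] at h1 h1' ⊢
      by_cases hi : (i : ℕ) < k
      · rw [if_pos hi, if_neg (by omega), zero_sub, hneg]
      · rw [if_neg hi, if_pos (by omega), sub_zero]
        first | exact h1 | exact h1'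
  refine ⟨x, hxx, fun z hz => ?_, fun W hWn hWi => ?_⟩
  · have hlz : g = z • 1 := by rw [← hlin, SympInv.lin, hz, map_smul, Matrix.toLin'_one]; rfl
    have h1 := congrFun (LinearMap.congr_fun hlz (Pi.single (Sum.inl (⟨0, hd⟩ : Fin d)) 1)) (Sum.inl (Fin.rev ⟨0, hd⟩))
    have hne : Fin.rev (⟨0, hd⟩ : Fin d) ≠ ⟨0, hd⟩ := fun h => by
      have := congrArg (fun i : Fin d => (i : ℕ)) h
      simp only [Fin.val_rev] at this
      omega
    simp [g, τ, LinearMap.funLeft_apply, Pi.single_apply, hne] at h1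
  · rw [hlin] at hWi
    have hA : (Forms.sympBilin d F).IsAlt := Forms.sympBilin_isAlt
    set B := Forms.sympBilin d F with hB
    have hinj : Function.Injective g := fun a b h => by rw [← hgg a, ← hgg b, h]
    have hWp : (SympInv.perp B W).map g ≤ SympInv.perp B W :=
      SympInv.map_perp_le (fun u v => by simp [hB, Forms.sympBilin_apply, hform]) hinj hWi
    obtain ⟨hdis, hsup, -, hfr⟩ := SympInv.split hA (le_top : W ≤ ⊤) hWn
      (fun u _ h => Forms.sympBilin_nondegenerate.1 u fun v => h v Submodule.mem_top)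
    rw [finrank_top, finrank_pi, Fintype.card_sum, Fintype.card_fin, top_inf_eq] at hfr
    rw [top_inf_eq] at hdis hsup
    have hrk : ∀ X : Submodule F (Fin d ⊕ Fin d → F), X.map g ≤ X → 2 * finrank F (X.map e) ≤ finrank F X := by
      intro X hX
      have h1 := SympJordan.finrank_map_add e X
      have h2' : finrank F (X.map e) ≤ finrank F ↥(X ⊓ LinearMap.ker e) := Submodule.finrank_mono (by
        rintro _ ⟨v, hv, rfl⟩
        exact ⟨X.sub_mem (hX ⟨v, hv, rfl⟩) hv, he2 v⟩)
      omega
    have hk1 := hrk W hWi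
    have hk2 := hrk _ hWp
    have hfr' : d + d = finrank F W + finrank F ↥(SympInv.perp B W) := hfr
    have hk2' : 2 * finrank F ((SympInv.perp B W).map e) ≤ finrank F ↥(SympInv.perp B W) := hk2
    have hall : finrank F (LinearMap.range e) ≤ finrank F (W.map e) + finrank F ((SympInv.perp B W).map e) := by
      rw [← Submodule.map_top, ← hsup, Submodule.map_sup]
      exact Submodule.finrank_add_le_finrank_add_finrank _ _
    have hall' : finrank F (LinearMap.range e) ≤ finrank F (W.map e) + finrank F ((SympInv.perp B W).map e) := hall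
    have htot := LinearMap.finrank_range_add_finrank_ker e
    rw [hker, finrank_pi, Fintype.card_sum, Fintype.card_fin] at htot
    have heven : Even (finrank F (W.map e)) := by
      obtain ⟨R, hRK⟩ := Submodule.exists_isCompl (LinearMap.ker e)
      let h' : LinearMap.BilinForm F (Fin d ⊕ Fin d → F) := B.compl₂ e
      have hh : ∀ a b, h' a b = B a (e b) := fun a b => rfl
      have hA' : h'.IsAlt := fun a => by
        rw [hh, he, LinearMap.sub_apply, Module.End.one_apply, map_sub, halt, hA.self_eq_zero, sub_zero]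
      obtain ⟨C, hC, hCd⟩ : ∃ C, C ≤ W ∧ Disjoint C (W ⊓ LinearMap.ker e) ∧ C ⊔ (W ⊓ LinearMap.ker e) = W := by
        obtain ⟨C, hC⟩ := Submodule.exists_isCompl (W ⊓ LinearMap.ker e)
        refine ⟨C ⊓ W, inf_le_right, (hC.disjoint.symm.mono_left inf_le_left), ?_⟩
        rw [sup_comm, ← sup_inf_assoc_of_le C (inf_le_left : W ⊓ LinearMap.ker e ≤ W), hC.sup_eq_top, top_inf_eq]
      have hnd : SympInv.Nd h' C := by
        intro a ha h0
        refine Submodule.disjoint_def.1 hCd.1 a ha ⟨hC ha, LinearMap.mem_ker.2 ?_⟩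
        refine hWn (e a) (W.sub_mem (hWi ⟨a, hC ha, rfl⟩) (hC ha)) fun b hb => ?_
        have h1 : B a (e b) = 0 := by
          rw [← hCd.2] at hb
          obtain ⟨c', hc', n', hn', rfl⟩ := Submodule.mem_sup.1 hb
          rw [map_add, LinearMap.mem_ker.1 hn'.2, add_zero]
          exact h0 c' hc'
        have h3 : B (g a) b = B a (g b) := by
          rw [hB, Forms.sympBilin_apply, Forms.sympBilin_apply, ← hform, hgg]
        simp only [he, LinearMap.sub_apply, Module.End.one_apply, map_sub] at h1 ⊢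
        rw [h3]
        exact h1
      have hCev := AltSim.even_finrank h' hA' C hnd
      have h1 := SympJordan.finrank_map_add e W
      have h3 := Submodule.finrank_sup_add_finrank_inf_eq C (W ⊓ LinearMap.ker e)
      rw [hCd.1.eq_bot, finrank_bot, hCd.2] at h3
      rw [show finrank F (W.map e) = finrank F C by omega]
      exact hCev
    obtain ⟨l, hl⟩ := heven
    exact ⟨l, by omega⟩

/-- A prime dividing the number of nondegenerate `2h`-spaces. -/
theorem exists_dvd_pow [Fintype F] {r h b : ℕ} [Fact r.Prime] (hhb : d = h + b) (hm : m = 2 * h)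
    (hΩ : r ∣ Nat.card {W : Submodule F (Fin d ⊕ Fin d → F) // Good m W}) :
    r ∣ Fintype.card F ∨ ∃ j, b < j ∧ j ≤ d ∧ r ∣ Fintype.card F ^ (2 * j) - 1 := by
  classical
  subst hhb hm
  let Ω := {W : Submodule F (Fin (h + b) ⊕ Fin (h + b) → F) // Good (2 * h) W}
  letI : MulAction (Symplectic.Sp (h + b) F) Ω :=
    { smul := fun g W => ⟨W.1.map (SympInv.lin g), by
        have hinj : Function.Injective (SympInv.lin g) := fun a a' e => by
          simpa [SympInv.lin_apply] using congrArg (fun w => g⁻¹ • w) e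
        refine (good_iff _).2 ⟨?_, ?_⟩
        · rw [← LinearEquiv.finrank_eq (Submodule.equivMapOfInjective _ hinj W.1)]; exact W.2.1
        · rintro _ ⟨u, hu, rfl⟩ h0
          rw [((good_iff _).1 W.2).2 u hu fun v hv => by rw [← SympInv.lin_form g]; exact h0 _ ⟨v, hv, rfl⟩,
            map_zero]⟩
      one_smul := fun W => Subtype.ext (by
        show W.1.map (SympInv.lin 1) = W.1
        rw [show SympInv.lin (1 : Symplectic.Sp (h + b) F) = LinearMap.id from
          LinearMap.ext fun v => by rw [SympInv.lin_apply, one_smul]; rfl, Submodule.map_id])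
      mul_smul := fun g g' W => Subtype.ext (by
        show W.1.map (SympInv.lin (g * g')) = (W.1.map (SympInv.lin g')).map (SympInv.lin g)
        rw [← Submodule.map_comp]
        congr 1
        exact LinearMap.ext fun v => by simp [SympInv.lin_apply, mul_smul]) }
  set π := KS58.SpEl.splitVec h b F with hπ
  set i₁ := π.symm.toLinearMap ∘ₗ LinearMap.inl F (Symplectic.Vec h F) (Symplectic.Vec b F) with hi₁
  have hi1 : Function.Injective i₁ := by
    rw [hi₁, LinearMap.coe_comp]
    exact π.symm.injective.comp (LinearMap.inl_injective (R := F) (M := Symplectic.Vec h F) (M₂ := Symplectic.Vec b F))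
  have hW₀ : Good (2 * h) (LinearMap.range i₁) := by
    refine (good_iff _).2 ⟨?_, ?_⟩
    · rw [LinearMap.finrank_range_of_inj hi1, finrank_pi, Fintype.card_sum, Fintype.card_fin, two_mul]
    · rintro _ ⟨u, rfl⟩ h0
      rw [Forms.sympBilin_nondegenerate.1 u fun v => ?_, map_zero]
      have := h0 _ ⟨v, rfl⟩
      simp only [hi₁, Forms.sympBilin_apply, KS58.SpEl.sympForm_split, ← hπ, LinearMap.comp_apply,
        LinearEquiv.coe_coe, LinearEquiv.apply_symm_apply, LinearMap.inl_apply, Symplectic.sympForm_zero_left,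
        add_zero] at this
      rw [Forms.sympBilin_apply]
      exact this
  let W₀ : Ω := ⟨_, hW₀⟩
  have hfam : ∀ W : Ω, ∃ e f : Fin h → Symplectic.Vec (h + b) F,
      (∀ i i', Cfsg.sympForm (h + b) F (e i) (f i') = if i = i' then 1 else 0) ∧
      (∀ i i', Cfsg.sympForm (h + b) F (e i) (e i') = 0) ∧ (∀ i i', Cfsg.sympForm (h + b) F (f i) (f i') = 0) ∧
      LinearIndependent F (Sum.elim e f) ∧ W.1 = Submodule.span F (Set.range (Sum.elim e f)) := by
    intro W
    obtain ⟨hWd, hWn⟩ := (good_iff _).1 W.2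
    obtain ⟨k, e, f, he, hf, hef, hee, hff, hspan⟩ := Forms.exists_symplectic_family (Forms.sympBilin (h + b) F)
      Forms.sympBilin_isAlt W.1 hWn
    have hk := Forms.finrank_eq_of_symplectic_family (Forms.sympBilin (h + b) F) Forms.sympBilin_isAlt _ e f he hf hef hee hff hspan
    rw [hWd] at hk
    obtain rfl : k = h := by omega
    refine ⟨e, f, ?_, ?_, ?_, Forms.linearIndependent_symplectic_family _ Forms.sympBilin_isAlt e f hef hee hff,
      le_antisymm hspan (Submodule.span_le.2 ?_)⟩
    · simpa [← Forms.sympBilin_apply] using hef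
    · simpa [← Forms.sympBilin_apply] using hee
    · simpa [← Forms.sympBilin_apply] using hff
    · rintro _ ⟨i | i, rfl⟩
      · exact he i
      · exact hf i
  have horb : MulAction.orbit (Symplectic.Sp (h + b) F) W₀ = Set.univ := by
    refine Set.eq_univ_of_forall fun W => ?_
    obtain ⟨e, f, hef, hee, hff, hli, hsp⟩ := hfam W₀
    obtain ⟨e', f', hef', hee', hff', hli', hsp'⟩ := hfam W
    obtain ⟨g, hg⟩ := Forms.exists_smul_tuple (Sum.elim e f) (Sum.elim e' f') hli hli' (by
      rintro (i | i) (j | j) <;>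
        simp only [Sum.elim_inl, Sum.elim_inr, hee, hee', hff, hff', hef, hef']
      rw [Symplectic.sympForm_swap (f' i), Symplectic.sympForm_swap (f i), hef, hef'])
    refine ⟨g, Subtype.ext ?_⟩
    show W₀.1.map (SympInv.lin g) = W.1
    rw [hsp, hsp', Submodule.map_span, ← Set.range_comp]
    congr 2
    funext s
    rw [Function.comp_apply, SympInv.lin_apply]
    exact hg s
  have hcard : Nat.card Ω * Nat.card (MulAction.stabilizer (Symplectic.Sp (h + b) F) W₀) =
      Nat.card (Symplectic.Sp (h + b) F) := by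
    rw [← Nat.card_univ (α := Ω), ← horb, ← Nat.card_prod]
    exact Nat.card_congr (MulAction.orbitProdStabilizerEquivGroup (Symplectic.Sp (h + b) F) W₀)
  have hstab : Nat.card (Symplectic.Sp h F × Symplectic.Sp b F) ∣
      Nat.card (MulAction.stabilizer (Symplectic.Sp (h + b) F) W₀) := by
    refine Subgroup.card_dvd_of_injective
      ((KS58.SpEl.blockSum (a := h) (b := b)).codRestrict (MulAction.stabilizer (Symplectic.Sp (h + b) F) W₀) fun P => ?_) ?_
    · refine Subtype.ext ?_
      show (LinearMap.range i₁).map (SympInv.lin (KS58.SpEl.blockSum P)) = LinearMap.range i₁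
      have hcomm : ∀ v, SympInv.lin (KS58.SpEl.blockSum P) (i₁ v) = i₁ (P.1 • v) := fun v => by
        rw [SympInv.lin_apply, ← π.injective.eq_iff]
        simp [hi₁, hπ, KS58.SpEl.split_blockSum]
      refine le_antisymm ?_ ?_
      · rintro _ ⟨_, ⟨v, rfl⟩, rfl⟩; exact ⟨_, (hcomm v).symm⟩
      · rintro _ ⟨v, rfl⟩
        exact ⟨i₁ (P.1⁻¹ • v), ⟨_, rfl⟩, by rw [hcomm, smul_inv_smul]⟩
    · intro P P' e
      exact KS58.SpEl.blockSum_injective (congrArg Subtype.val e)
  have hd1 : r * Nat.card (Symplectic.Sp b F) ∣ Nat.card (Symplectic.Sp (h + b) F) := by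
    rw [← hcard]
    refine Nat.mul_dvd_mul hΩ (dvd_trans ?_ hstab)
    rw [Nat.card_prod]
    exact dvd_mul_left _ _
  rw [Symplectic.card_Sp rfl, Symplectic.card_Sp rfl, add_comm h b, Finset.prod_range_add] at hd1
  set q := Fintype.card F
  have hq1 : 1 < q := Fintype.one_lt_card
  have hP : 0 < ∏ i ∈ Finset.range b, (q ^ (2 * (i + 1)) - 1) := Finset.prod_pos fun i _ => by
    have := Nat.one_lt_pow (show 2 * (i + 1) ≠ 0 by omega) hq1
    omega
  have hd2 : r ∣ q ^ ((b + h) ^ 2) * ∏ i ∈ Finset.range h, (q ^ (2 * (b + i + 1)) - 1) := by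
    refine dvd_trans (dvd_mul_right r (q ^ (b ^ 2))) ?_
    refine Nat.dvd_of_mul_dvd_mul_right hP (dvd_trans (dvd_of_eq ?_) (dvd_trans hd1 (dvd_of_eq ?_))) <;> ring
  rcases (Fact.out : r.Prime).dvd_mul.1 hd2 with hd2 | hd2
  · exact Or.inl ((Fact.out : r.Prime).dvd_of_dvd_pow hd2)
  · obtain ⟨j, hj, hj'⟩ := ((Fact.out : r.Prime).prime.dvd_finsetProd_iff _).1 hd2
    have := Finset.mem_range.1 hj
    exact Or.inr ⟨b + j + 1, by omega, by omega, hj'⟩

end

/-- Elements of prime order of PSp_n(q) with no fixed nondegenerate `m`-space. Here `T = PSp_n(q)` with `n = 2d ≥ 4`, `(n, q) ≠ (4, 2)`, realised through the symplectic matrices over the field `F` with `q` elements (preserving the standard alternating form); an element of `T` of prime order `r` is such a matrix `x` with `x^r` scalar and `x` not scalar. For `r ≠ p` let `i` be the multiplicative order of `q` modulo `r`, `c = i` for `i` even and `c = 2i` for `i` odd, and write `k = n mod c`, `ℓ = m mod i`, `ℓ' = m mod c`, `n' = ⌊n/i⌋`, `m' = ⌊m/i⌋`,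 `t = (r−1)/i`. Let `m` be even with `2 ≤ m < n/2` and let `r` be a prime dividing the number of nondegenerate `m`-spaces. Then every element of `T` of order `r` fixes a nondegenerate `m`-space if and only if one of: (i) `r = p > 2` and every partition of `n` into parts of size at most `p` in which every odd part has even multiplicity contains (as a sub-multiset) a partition of `m` in which every odd part has even multiplicity; (ii) `r = p = 2` and (`n ≡ 2 (mod 4)` or `m ≡ 0 (mod 4)`); (iii) `r = 2 ≠ p`; (iv) `r ≠ p`, `r > 2`, `c ≤ m` and `k ≥ ℓ'`. -/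
theorem result {F : Type*} [Field F] [Fintype F] {p : ℕ} [Fact p.Prime] [CharP F p] {q : ℕ} (hq : Fintype.card F = q)
    (d m : ℕ) (hd : 2 ≤ d) (hT : (d, q) ≠ (2, 2)) (hm : 2 ≤ m) (hme : Even m) (hmd : m < d)
    (r : ℕ) [Fact r.Prime]
    (hrΩ : r ∣ Nat.card {W : Submodule F (Fin d ⊕ Fin d → F) // Module.finrank F ↥W = m ∧ (∀ u ∈ W, u ≠ 0 → ∃ v ∈ W, Cfsg.sympForm d F u v ≠ 0)})
    (i c : ℕ) (hi : i = orderOf (q : ZMod r)) (hc : c = if Even i then i else 2 * i) :
    (∀ x : ↥(Matrix.symplecticGroup (Fin d) F),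
      (∃ z : F, ((x ^ r : ↥(Matrix.symplecticGroup (Fin d) F)) : Matrix (Fin d ⊕ Fin d) (Fin d ⊕ Fin d) F) = z • (1 : Matrix (Fin d ⊕ Fin d) (Fin d ⊕ Fin d) F)) →
      (∀ z : F, (x : Matrix (Fin d ⊕ Fin d) (Fin d ⊕ Fin d) F) ≠ z • (1 : Matrix (Fin d ⊕ Fin d) (Fin d ⊕ Fin d) F)) →
      ∃ W : Submodule F (Fin d ⊕ Fin d → F), Module.finrank F ↥W = m ∧ (∀ u ∈ W, u ≠ 0 → ∃ v ∈ W, Cfsg.sympForm d F u v ≠ 0) ∧
        W.map (Matrix.toLin' (x : Matrix (Fin d ⊕ Fin d) (Fin d ⊕ Fin d) F)) ≤ W) ↔
    ((r = p ∧ 2 < p ∧ (∀ μ : Multiset ℕ, (∀ a ∈ μ, 0 < a ∧ a ≤ p) → (∀ a : ℕ, Odd a → Even (μ.count a)) → μ.sum = 2 * d →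
        ∃ ν : Multiset ℕ, ν ≤ μ ∧ ν.sum = m ∧ ∀ a : ℕ, Odd a → Even (ν.count a))) ∨
     (r = p ∧ p = 2 ∧ ((2 * d) % 4 = 2 ∨ m % 4 = 0)) ∨
     (r = 2 ∧ p ≠ 2) ∨
     (r ≠ p ∧ 2 < r ∧ c ≤ m ∧ m % c ≤ (2 * d) % c)) := by
  subst hq
  classical
  have hp : p.Prime := Fact.out
  have hrpr : r.Prime := Fact.out
  obtain ⟨h, rfl⟩ : ∃ h, m = 2 * h := ⟨m / 2, by obtain ⟨k, hk⟩ := hme; omega⟩
  have hA : (Forms.sympBilin d F).IsAlt := Forms.sympBilin_isAlt
  have htop : SympInv.Nd (Forms.sympBilin d F) ⊤ := SympInv.nd_top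
  have hlin : ∀ (x : Symplectic.Sp d F) (z : F),
      ((x ^ r : Symplectic.Sp d F) : Matrix (Fin d ⊕ Fin d) (Fin d ⊕ Fin d) F) = z • 1 →
        SympInv.lin x ^ r = z • 1 := fun x z hxz => by
    rw [SympInv.lin, ← Matrix.toLin'_pow, ← SubmonoidClass.coe_pow, hxz, map_smul, Matrix.toLin'_one]; rfl
  by_cases hr2 : r = 2
  · subst hr2
    have hfix : ∀ (x : Symplectic.Sp d F) (z : F),
        ((x ^ 2 : Symplectic.Sp d F) : Matrix (Fin d ⊕ Fin d) (Fin d ⊕ Fin d) F) = z • 1 →
        ((2 : F) ≠ 0 ∨ Even h ∨ Odd d) → ∃ W : Submodule F (Fin d ⊕ Fin d → F), finrank F ↥W = 2 * h ∧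
          (∀ u ∈ W, u ≠ 0 → ∃ v ∈ W, Cfsg.sympForm d F u v ≠ 0) ∧
          W.map (Matrix.toLin' (x : Matrix (Fin d ⊕ Fin d) (Fin d ⊕ Fin d) F)) ≤ W := by
      intro x z hxz hcond
      obtain ⟨W, hW1, hW2, hW3⟩ := exists_planes_sub x (by omega) (hlin x z hxz) (by omega) hcond
      exact ⟨W, hW1, ((good_iff W).2 ⟨hW1, hW2⟩).2, hW3⟩
    by_cases hp2 : p = 2
    · subst hp2
      have h20 : (2 : F) = 0 := by exact_mod_cast CharP.cast_eq_zero F 2
      constructor
      · intro hall
        refine Or.inr (Or.inl ⟨rfl, rfl, ?_⟩)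
        by_contra hcon
        push Not at hcon
        obtain ⟨x, hx, hns, hW⟩ := exists_bad_invol (F := F) h20 (d := d) ⟨d / 2, by omega⟩ (by omega)
        obtain ⟨W, hW1, hW2, hW3⟩ := hall x ⟨1, by rw [hx, one_smul]; rfl⟩ hns
        have := hW W ((good_iff W).1 ⟨hW1, hW2⟩).2 hW3
        omega
      · rintro (⟨-, hc', -⟩ | ⟨-, -, hc'⟩ | ⟨-, hc'⟩ | ⟨hc', -⟩) x ⟨z, hxz⟩ -
        · omega
        · refine hfix x z hxz (Or.inr ?_)
          rcases hc' with h' | h'
          · exact Or.inr ⟨d / 2, by omega⟩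
          · exact Or.inl ⟨h / 2, by omega⟩
        · exact absurd rfl hc'
        · exact absurd rfl hc'
    · have h20 : (2 : F) ≠ 0 := by
        have := Inv.cast_ne_zero_of_ne (F := F) (r := 2) (p := p) (Ne.symm hp2)
        exact_mod_cast this
      refine iff_of_true (fun x ⟨z, hxz⟩ _ => hfix x z hxz (Or.inl h20)) ?_
      exact Or.inr (Or.inr (Or.inl ⟨rfl, hp2⟩))
  obtain ⟨r', hr'⟩ := hrpr.odd_of_ne_two hr2
  have hr3 : 3 ≤ r := by have := hrpr.two_le; omega
  have hy : ∀ (x : Symplectic.Sp d F) (z : F),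
      ((x ^ r : Symplectic.Sp d F) : Matrix (Fin d ⊕ Fin d) (Fin d ⊕ Fin d) F) = z • 1 →
      ∃ y : Module.End F (Fin d ⊕ Fin d → F), y ^ r = 1 ∧
        (∀ u v, Forms.sympBilin d F (y u) (y v) = Forms.sympBilin d F u v) ∧
        ∀ W : Submodule F (Fin d ⊕ Fin d → F), W.map y ≤ W →
          W.map (Matrix.toLin' (x : Matrix (Fin d ⊕ Fin d) (Fin d ⊕ Fin d) F)) ≤ W := by
    intro x z hxz
    have hz2 := scalar_sq x (by omega) (hlin x z hxz) (SympInv.lin_form x)
    refine ⟨z • SympInv.lin x, ?_, fun u v => ?_, fun W hW => ?_⟩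
    · rw [smul_pow, hlin x z hxz, smul_smul, ← pow_succ, hr', show 2 * r' + 1 + 1 = 2 * (r' + 1) by ring, pow_mul,
        pow_two, hz2, one_pow, one_smul]
    · simp only [LinearMap.smul_apply, map_smul, smul_eq_mul, SympInv.lin_form, ← mul_assoc, hz2, one_mul]
    · rwa [Submodule.map_smul _ _ _ (left_ne_zero_of_mul_eq_one hz2)] at hW
  by_cases hrp : r = p
  · subst hrp
    have h20 : (2 : F) ≠ 0 := by
      have := Inv.cast_ne_zero_of_ne (F := F) (r := 2) (p := r) (Ne.symm hr2)
      exact_mod_cast this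
    haveI : Nonempty (Fin d ⊕ Fin d) := ⟨Sum.inl ⟨0, by omega⟩⟩
    haveI : CharP (Matrix (Fin d ⊕ Fin d) (Fin d ⊕ Fin d) F) r := Matrix.charP _
    constructor
    · intro hall
      refine Or.inl ⟨rfl, by omega, fun μ hμ hμP hμs => ?_⟩
      by_cases hones : ∀ a ∈ μ, a = 1
      · refine ⟨Multiset.replicate (2 * h) 1, Multiset.le_count_iff_replicate_le.1 ?_, by simp, fun a _ => ?_⟩
        · have := Multiset.eq_replicate_card.2 hones
          have hc' : μ.count 1 = Multiset.card μ := Multiset.count_eq_card.2 fun a ha => (hones a ha).symm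
          have hs' : μ.sum = Multiset.card μ := by conv_lhs => rw [this]; simp
          omega
        · rw [Multiset.count_replicate]
          split_ifs
          · exact even_two_mul h
          · exact Even.zero
      obtain ⟨N, hN, -, hNk⟩ := SympJordan.real_all h20 μ (fun a ha => (hμ a ha).1) hμP d hμs
      have hNp : N ^ r = 0 := by
        rw [← LinearMap.ker_eq_top]
        refine Submodule.eq_top_of_finrank_eq ?_
        rw [hNk, SympJordan.finrank_vec, ← hμs]
        unfold JType.nul
        rw [Multiset.map_congr rfl (fun a ha => min_eq_left (hμ a ha).2), Multiset.map_id']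
      obtain ⟨w, hw⟩ : IsUnit (1 - N) := IsNilpotent.isUnit_one_sub (r := N) ⟨r, hNp⟩
      set W' : Module.End F (Fin d ⊕ Fin d → F) := ((w⁻¹ : (Module.End F (Fin d ⊕ Fin d → F))ˣ) : Module.End F (Fin d ⊕ Fin d → F)) with hW'
      have hW1 : (1 - N) * W' = 1 := by rw [← hw, hW', Units.mul_inv]
      have hW2 : W' * (1 - N) = 1 := by rw [← hw, hW', Units.inv_mul]
      have hc : Commute N W' := by
        have : Commute N (w : Module.End F _) := by
          rw [hw]; exact (Commute.one_right _).sub_right (Commute.refl _)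
        exact this.units_inv_right
      set f : Module.End F (Fin d ⊕ Fin d → F) := (1 + N) * W' with hf
      have hform : ∀ u v, Cfsg.sympForm d F (f u) (f v) = Cfsg.sympForm d F u v := by
        intro u v
        have key : ∀ a b, Forms.sympBilin d F ((1 + N) a) ((1 + N) b) = Forms.sympBilin d F ((1 - N) a) ((1 - N) b) := by
          intro a b
          simp only [LinearMap.add_apply, LinearMap.sub_apply, Module.End.one_apply, map_add, map_sub, hN]
          ring
        rw [← Forms.sympBilin_apply, ← Forms.sympBilin_apply, hf, Module.End.mul_apply, Module.End.mul_apply, key,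
          ← Module.End.mul_apply, ← Module.End.mul_apply, hW1, Module.End.one_apply, Module.End.one_apply]
      set x := Forms.spOfLinearMap f hform with hx
      have hxl : SympInv.lin x = f := LinearMap.ext fun v => by
        rw [SympInv.lin_apply, hx]; exact Forms.spOfLinearMap_smul f hform v
      have hfsub : f - 1 = (2 : F) • (N * W') := by
        calc f - 1 = (1 + N) * W' - (1 - N) * W' := by rw [hW1]
          _ = N * W' + N * W' := by rw [← sub_mul, ← add_mul]; congr 1; abel
          _ = _ := (two_smul F _).symm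
      have hfadd : f + 1 = (2 : F) • W' := by
        calc f + 1 = (1 + N) * W' + (1 - N) * W' := by rw [hW1]
          _ = W' + W' := by rw [← add_mul]; rw [show (1 : Module.End F (Fin d ⊕ Fin d → F)) + N + (1 - N) = 1 + 1 by abel, add_mul, one_mul]
          _ = _ := (two_smul F _).symm
      have hfr : f ^ r = 1 := by
        have hpoly : ((Polynomial.X : Polynomial F) - 1) ^ r = Polynomial.X ^ r - 1 := by
          rw [sub_pow_char, one_pow]
        have h1 := congrArg (Polynomial.aeval f) hpoly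
        simp only [map_pow, map_sub, map_one, Polynomial.aeval_X] at h1
        rw [hfsub, smul_pow, hc.mul_pow, hNp, zero_mul, smul_zero, eq_comm, sub_eq_zero] at h1
        exact h1
      have hxr : x ^ r = 1 := by
        refine Symplectic.eq_of_smul_eq fun v => ?_
        have h1 : SympInv.lin (x ^ r) = f ^ r := by
          rw [← hxl, SympInv.lin, SympInv.lin, SubmonoidClass.coe_pow, Matrix.toLin'_pow]
        rw [← SympInv.lin_apply, h1, hfr, one_smul, Module.End.one_apply]
      have hns : ∀ z : F, (x : Matrix (Fin d ⊕ Fin d) (Fin d ⊕ Fin d) F) ≠ z • 1 := by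
        intro z hz
        have hl : f = z • 1 := by rw [← hxl, SympInv.lin, hz, map_smul, Matrix.toLin'_one]; rfl
        have hzr : z ^ r = 1 := by
          rw [hl, smul_pow, one_pow] at hfr
          have := congrFun (LinearMap.congr_fun hfr (Symplectic.eI ⟨0, by omega⟩)) (Sum.inl ⟨0, by omega⟩)
          simpa [Symplectic.eI] using this
        have hz1 : z = 1 := by
          refine sub_eq_zero.1 (pow_eq_zero_iff hrpr.ne_zero |>.1 ?_)
          rw [sub_pow_char, hzr, one_pow, sub_self]
        rw [hz1, one_smul] at hl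
        rw [hl, sub_self, eq_comm, smul_eq_zero] at hfsub
        have hN0 : N = 0 := by
          have := congrArg (· * (1 - N)) (hfsub.resolve_left h20)
          simpa [mul_assoc, hW2] using this
        have h1 := hNk 1
        rw [pow_one, hN0, LinearMap.ker_zero, finrank_top, SympJordan.finrank_vec, ← hμs] at h1
        push Not at hones
        obtain ⟨a, ha, ha1⟩ := hones
        obtain ⟨μ', rfl⟩ := Multiset.exists_cons_of_mem ha
        simp only [JType.nul, Multiset.map_cons, Multiset.sum_cons] at h1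
        have : (μ'.map fun e => min e 1).sum ≤ μ'.sum := by
          refine le_trans (Multiset.sum_map_le_sum_map (fun e => min e 1) id fun e _ => min_le_left e 1) ?_
          rw [Multiset.map_id]
        have := (hμ a (Multiset.mem_cons_self _ _)).1
        omega
      obtain ⟨W, hW1', hW2', hW3'⟩ := hall x ⟨1, by rw [hxr, one_smul]; rfl⟩ hns
      obtain ⟨hWd, hWn⟩ := (good_iff W).1 ⟨hW1', hW2'⟩
      have hWf : W.map f ≤ W := hxl ▸ hW3'
      have hWN : W.map N ≤ W := by
        have hinj : Function.Injective (f + 1 : Module.End F (Fin d ⊕ Fin d → F)) := by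
          rw [hfadd]
          intro a b e
          rw [LinearMap.smul_apply, LinearMap.smul_apply] at e
          have e' : W' a = W' b := smul_right_injective _ h20 e
          have := congrArg (1 - N : Module.End F (Fin d ⊕ Fin d → F)) e'
          rwa [← Module.End.mul_apply, ← Module.End.mul_apply, hW1] at this
        have hle : W.map (f + 1) ≤ W := by
          rintro _ ⟨v, hv, rfl⟩
          exact W.add_mem (hWf ⟨v, hv, rfl⟩) hv
        have heq := Submodule.eq_of_le_of_finrank_eq hle (Submodule.equivMapOfInjective _ hinj W).finrank_eq.symm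
        rintro _ ⟨v, hv, rfl⟩
        rw [← heq] at hv
        obtain ⟨u, hu, rfl⟩ := hv
        have : N ((f + 1) u) = (f - 1) u := by
          rw [hfadd, hfsub, LinearMap.smul_apply, LinearMap.smul_apply, map_smul]
          rfl
        rw [this]
        exact W.sub_mem (hWf ⟨u, hu, rfl⟩) hu
      obtain ⟨hdis, hsup, hPn, -⟩ := SympInv.split hA (le_top : W ≤ ⊤) hWn htop
      have hPN : (⊤ ⊓ SympInv.perp (Forms.sympBilin d F) W).map N ≤ ⊤ ⊓ SympInv.perp (Forms.sympBilin d F) W :=
        le_inf le_top ((Submodule.map_mono inf_le_right).trans (SympJordan.map_perp_le' hA hN hWN))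
      obtain ⟨ν, hν, hνP, hνs, hνk, -⟩ := SympJordan.exists_type hA hN h20 hNp W hWN hWn
      obtain ⟨ν', hν', -, -, hνk', -⟩ := SympJordan.exists_type hA hN h20 hNp _ hPN hPn
      have hpow : ∀ (j : ℕ) (U : Submodule F (Fin d ⊕ Fin d → F)), U.map N ≤ U → U.map (N ^ j) ≤ U := fun j U hU => by
        rintro _ ⟨v, hv, rfl⟩; exact SympJordan.map_pow_le hU j v hv
      have key : ν + ν' = μ := by
        refine JType.eq_of_nul (fun a ha => ?_) (fun a ha => (hμ a ha).1) fun j => ?_
        · rcases Multiset.mem_add.1 ha with h' | h'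
          exacts [(hν a h').1, (hν' a h').1]
        · rw [JType.nul_add, ← hνk, ← hνk', ← SympJordan.finrank_inf_ker_add (N ^ j) hdis (hpow j _ hWN) (hpow j _ hPN),
            hsup, ← hNk]
          exact (LinearEquiv.ofEq _ _ (top_inf_eq _)).finrank_eq
      exact ⟨ν, key ▸ Multiset.le_add_right _ _, hνs.trans hWd, hνP⟩
    · rintro (⟨-, -, hcond⟩ | ⟨-, hc', -⟩ | ⟨hc', -⟩ | ⟨hc', -⟩) x ⟨z, hxz⟩ -
      rotate_left
      · exact absurd hc' hr2
      · exact absurd hc' hr2
      · exact absurd rfl hc'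
      obtain ⟨y, hyr, hform, hback⟩ := hy x z hxz
      have he : (y - 1) ^ r = 0 := by
        have hpoly : ((Polynomial.X : Polynomial F) - 1) ^ r = Polynomial.X ^ r - 1 := by
          rw [sub_pow_char, one_pow]
        have h1 := congrArg (Polynomial.aeval y) hpoly
        simp only [map_pow, map_sub, map_one, Polynomial.aeval_X] at h1
        rw [h1, hyr, sub_self]
      have hu : IsUnit (y + 1) := by
        rw [show y + 1 = (y - 1) + (2 : F) • 1 by rw [two_smul]; abel]
        exact IsNilpotent.isUnit_add_right_of_commute (r := y - 1) ⟨r, he⟩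
          (by rw [← Algebra.algebraMap_eq_smul_one]; exact (IsUnit.mk0 _ h20).map _)
          ((Commute.one_right _).smul_right _)
      obtain ⟨w, hw⟩ := hu
      set W' : Module.End F (Fin d ⊕ Fin d → F) := ((w⁻¹ : (Module.End F (Fin d ⊕ Fin d → F))ˣ) : Module.End F (Fin d ⊕ Fin d → F)) with hW'
      have hW1 : (y + 1) * W' = 1 := by rw [← hw, hW', Units.mul_inv]
      have hW2 : W' * (y + 1) = 1 := by rw [← hw, hW', Units.inv_mul]
      have hc' : Commute (y - 1) W' := by
        have : Commute (y - 1) (w : Module.End F _) := by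
          rw [hw]; exact ((Commute.refl y).add_right (Commute.one_right _)).sub_left (Commute.one_left _)
        exact this.units_inv_right
      set N : Module.End F (Fin d ⊕ Fin d → F) := (y - 1) * W' with hNdef
      have hNy : N * (y + 1) = y - 1 := by rw [hNdef, mul_assoc, hW2, mul_one]
      have hNp : N ^ r = 0 := by rw [hNdef, hc'.mul_pow, he, zero_mul]
      have hN : ∀ u v, Forms.sympBilin d F (N u) v = -Forms.sympBilin d F u (N v) := by
        intro u v
        obtain ⟨a, rfl⟩ : ∃ a, (y + 1) a = u := ⟨W' u, by rw [← Module.End.mul_apply, hW1]; rfl⟩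
        obtain ⟨b, rfl⟩ : ∃ b, (y + 1) b = v := ⟨W' v, by rw [← Module.End.mul_apply, hW1]; rfl⟩
        rw [← Module.End.mul_apply N, ← Module.End.mul_apply N, hNy]
        simp only [LinearMap.add_apply, LinearMap.sub_apply, Module.End.one_apply, map_add, map_sub, hform]
        ring
      obtain ⟨μ, hμ, hμP, hμs, -, hμU⟩ := SympJordan.exists_type hA hN h20 hNp ⊤ le_top htop
      rw [finrank_top, SympJordan.finrank_vec] at hμs
      obtain ⟨ν, hν, hνs, hνP⟩ := hcond μ hμ hμP hμs
      obtain ⟨U, -, hUi, hUn, hUd⟩ := hμU ν hν hνP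
      have hgood := (good_iff U).2 ⟨hUd.trans hνs, hUn⟩
      refine ⟨U, hgood.1, hgood.2, hback U ?_⟩
      have hinj : Function.Injective (1 - N : Module.End F (Fin d ⊕ Fin d → F)) := by
        obtain ⟨w', hw'⟩ : IsUnit (1 - N) := IsNilpotent.isUnit_one_sub (r := N) ⟨r, hNp⟩
        intro a b e
        have h1 := congrArg ((w'⁻¹ : (Module.End F (Fin d ⊕ Fin d → F))ˣ) : Module.End F (Fin d ⊕ Fin d → F)) e
        rwa [← hw', ← Module.End.mul_apply, ← Module.End.mul_apply, Units.inv_mul] at h1
      have hle : U.map (1 - N) ≤ U := by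
        rintro _ ⟨v, hv, rfl⟩
        exact U.sub_mem hv (hUi ⟨v, hv, rfl⟩)
      have heq := Submodule.eq_of_le_of_finrank_eq hle (Submodule.equivMapOfInjective _ hinj U).finrank_eq.symm
      rintro _ ⟨v, hv, rfl⟩
      rw [← heq] at hv
      obtain ⟨u, hu, rfl⟩ := hv
      have hcomm : y * N = N * y := by
        have h1 : Commute y W' := by
          have : Commute y (w : Module.End F _) := by
            rw [hw]; exact (Commute.refl y).add_right (Commute.one_right _)
          exact this.units_inv_right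
        exact ((Commute.refl y).sub_right (Commute.one_right _)).mul_right h1
      have h3 : y * (1 - N) = 1 + N := by
        rw [mul_sub, mul_one, hcomm]
        rw [mul_add, mul_one] at hNy
        rw [sub_eq_iff_eq_add, add_assoc, add_comm N, hNy, add_sub_cancel]
      rw [← Module.End.mul_apply, h3]
      exact U.add_mem hu (hUi ⟨u, hu, rfl⟩)
  · have hrF := Inv.cast_ne_zero_of_ne (F := F) hrp
    have hipos : 0 < i := hi ▸ Inv.orderOf_pos_of_ne (F := F) hrp
    have hcpos : 0 < c := by rw [hc]; split_ifs <;> omega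
    have hcdvd : ∀ n, i ∣ 2 * n → c ∣ 2 * n := by
      intro n hn
      rw [hc]
      split_ifs with hev
      · exact hn
      · exact Nat.mul_dvd_mul_left 2 ((Nat.coprime_two_right.2 (Nat.not_even_iff_odd.1 hev)).dvd_of_dvd_mul_left hn)
    obtain ⟨j, hjb, hjd, hj⟩ : ∃ j, d - h < j ∧ j ≤ d ∧ r ∣ Fintype.card F ^ (2 * j) - 1 := by
      refine (exists_dvd_pow (h := h) (b := d - h) (by omega) rfl hrΩ).resolve_left fun hdv => hrp ?_
      obtain ⟨n₀, -, hn₀⟩ := FiniteField.card F p
      rw [hn₀] at hdv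
      exact (Nat.prime_dvd_prime_iff_eq hrpr hp).1 (hrpr.dvd_of_dvd_pow hdv)
    rw [← Inv.orderOf_dvd_iff_dvd_pow, ← hi] at hj
    obtain ⟨l, hl⟩ := hcdvd j hj
    have hdm := Nat.div_add_mod (2 * d) c
    have hlt := Nat.mod_lt (2 * d) hcpos
    have hl1 : 1 ≤ l := Nat.pos_of_ne_zero fun h0 => by rw [h0, mul_zero] at hl; omega
    have hl2 : l ≤ 2 * d / c := (Nat.le_div_iff_mul_le hcpos).2 (by rw [mul_comm, ← hl]; omega)
    have hl3 : c * l ≤ c * (2 * d / c) := Nat.mul_le_mul_left _ hl2
    have hc2d : c ≤ 2 * d := le_trans (Nat.le_mul_of_pos_right c hl1) (by omega)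
    constructor
    · intro hall
      refine Or.inr (Or.inr (Or.inr ⟨hrp, by omega, ?_⟩))
      set s := 2 * d / c with hs
      have hspos : 0 < s := Nat.div_pos hc2d hcpos
      obtain ⟨x, hxr, hxk⟩ := SympInv.exists_elt hrF hi hc hipos s (d := d) (Nat.div_mul_le_self _ _)
      have hxk' : finrank F (LinearMap.ker (SympInv.lin x - 1)) = 2 * d % c := by
        rw [hxk, mul_comm s c]; omega
      have hns : ∀ z : F, (x : Matrix (Fin d ⊕ Fin d) (Fin d ⊕ Fin d) F) ≠ z • 1 := by
        intro z hz
        have hl' : SympInv.lin x = z • 1 := by rw [SympInv.lin, hz, map_smul, Matrix.toLin'_one]; rfl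
        have hzr : z ^ r = 1 := by
          have h1 := SympInv.lin_pow_eq_one hxr
          rw [hl', smul_pow, one_pow] at h1
          have := congrFun (LinearMap.congr_fun h1 (Symplectic.eI ⟨0, by omega⟩)) (Sum.inl ⟨0, by omega⟩)
          simpa [Symplectic.eI] using this
        have hz2 : z * z = 1 := scalar_sq x (by omega) (k := 1) (by rw [pow_one, hl']) (SympInv.lin_form x)
        have hz1 : z = 1 := by
          rw [hr', pow_succ, pow_mul, pow_two, hz2, one_pow, one_mul] at hzr
          exact hzr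
        rw [hl', hz1, one_smul, sub_self, LinearMap.ker_zero, finrank_top, finrank_pi, Fintype.card_sum,
          Fintype.card_fin] at hxk'
        omega
      obtain ⟨W, hW1, hW2, hW3⟩ := hall x ⟨1, by rw [hxr, one_smul]; rfl⟩ hns
      obtain ⟨hWd, hWn⟩ := (good_iff W).1 ⟨hW1, hW2⟩
      obtain ⟨k, hk⟩ := SympInv.dvd_moved hA (SympInv.lin_form x) hrF (SympInv.lin_pow_eq_one hxr) hi hc hW3 hWn
      have h1 := Inv.finrank_split (SympInv.lin x) W
      have h2 : finrank F ↥(W ⊓ LinearMap.ker (SympInv.lin x - 1)) ≤ 2 * d % c := hxk' ▸ Submodule.finrank_mono inf_le_right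
      have h1' : finrank F (W.map (SympInv.lin x - 1)) + finrank F ↥(W ⊓ LinearMap.ker (SympInv.lin x - 1)) = 2 * h := by
        rw [h1, hWd]
      have h3 : 2 * h % c ≤ 2 * d % c := by
        rw [← h1', hk, Nat.add_comm, Nat.add_mul_mod_self_left]
        exact (Nat.mod_le _ _).trans h2
      refine ⟨?_, h3⟩
      by_contra hcm
      rw [Nat.mod_eq_of_lt (by omega)] at h3
      omega
    · rintro (⟨hc', -⟩ | ⟨hc', -⟩ | ⟨hc', -⟩ | ⟨-, -, -, hcond⟩) x ⟨z, hxz⟩ -
      · exact absurd hc' hrp
      · exact absurd hc' hrp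
      · exact absurd hc' hr2
      obtain ⟨y, hyr, hform, hback⟩ := hy x z hxz
      obtain ⟨k, hk⟩ := SympInv.dvd_moved hA hform hrF hyr hi hc (W := ⊤) (by simp) htop
      have h1 := Inv.finrank_split y ⊤
      rw [hk, finrank_top, SympJordan.finrank_vec] at h1
      obtain ⟨U, -, hUi, hUn, hUd, -⟩ := SympInv.exists_sub hA hform hrF hyr hi hc hr2 hcpos
        (a := 2 * h) hme (X := ⊤) le_top htop (by rw [finrank_top, SympJordan.finrank_vec]; omega) (by
          refine hcond.trans ?_
          rw [← h1, Nat.add_comm, Nat.add_mul_mod_self_left]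
          exact Nat.mod_le _ _)
      have hgood := (good_iff U).2 ⟨hUd, hUn⟩
      exact ⟨U, hgood.1, hgood.2, hback U hUi⟩

end Cfsg.Agent.S5956
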