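import Cfsg.Statements.S5957
import Cfsg.Agent.ClMax99.BlockInvol

set_option autoImplicit false
open scoped MatrixGroups
open Cfsg

namespace Cfsg.Agent.S5957

open Cfsg.Agent.ClMax99 Module in
/-- A family of vectors and their images, independent. -/
theorem exists_pairs {F V : Type*} [Field F] [AddCommGroup V] [Module F V] [FiniteDimensional F V]
    (f : Module.End F V) {z : F} (hz : ∀ w : F, w ^ 2 ≠ z) (hf : f ^ 2 = z • 1) (k : ℕ)
    (hk : 2 * k ≤ finrank F V + 1) :
    ∃ v : Fin k → V, LinearIndependent F (Sum.elim v (fun j => f (v j))) := by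
  induction k with
  | zero => exact ⟨Fin.elim0, linearIndependent_empty_type⟩
  | succ k ih =>
    obtain ⟨v, hv⟩ := ih (by omega)
    have hff : ∀ x : V, f (f x) = z • x := fun x => by
      have := LinearMap.congr_fun hf x
      simpa [pow_two] using this
    set W := Submodule.span F (Set.range (Sum.elim v (fun j => f (v j)))) with hW
    have hinv : W.map f ≤ W := by
      rw [hW, Submodule.map_span_le]
      rintro _ ⟨j | j, rfl⟩
      · exact Submodule.subset_span ⟨Sum.inr j, rfl⟩
      · show f (f (v j)) ∈ W
        rw [hff]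
        exact W.smul_mem _ (Submodule.subset_span ⟨Sum.inl j, rfl⟩)
    have hlt : W ≠ ⊤ := by
      intro e
      have h1 := finrank_span_eq_card hv
      rw [← hW, e, finrank_top, Fintype.card_sum, Fintype.card_fin] at h1
      omega
    obtain ⟨x, -, hx⟩ := SetLike.exists_of_lt hlt.lt_top
    refine ⟨Fin.cons x v, ?_⟩
    have key : ∀ a b : F, a • x + b • f x ∈ W → a = 0 ∧ b = 0 := by
      intro a b hab
      have h2 : (a ^ 2 - z * b ^ 2) • x ∈ W := by
        have := W.sub_mem (W.smul_mem a hab) (W.smul_mem b (hinv ⟨_, hab, rfl⟩))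
        convert this using 1
        rw [map_add, map_smul, map_smul, hff]
        module
      by_cases h0 : a ^ 2 - z * b ^ 2 = 0
      · rcases eq_or_ne b 0 with rfl | hb
        · exact ⟨pow_eq_zero_iff two_ne_zero |>.mp (by simpa using h0), rfl⟩
        · exact absurd (show (a / b) ^ 2 = z by field_simp; linear_combination h0) (hz _)
      · exact absurd ((W.smul_mem_iff h0).mp h2) hx
    rw [Fintype.linearIndependent_iff]
    intro g hg
    simp only [Fintype.sum_sum_type, Sum.elim_inl, Sum.elim_inr, Fin.sum_univ_succ, Fin.cons_zero,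
      Fin.cons_succ] at hg
    have hsum : (∑ i, g (Sum.inl i.succ) • v i) + (∑ i, g (Sum.inr i.succ) • f (v i)) ∈ W :=
      W.add_mem (Submodule.sum_mem _ fun i _ => W.smul_mem _ (Submodule.subset_span ⟨Sum.inl i, rfl⟩))
        (Submodule.sum_mem _ fun i _ => W.smul_mem _ (Submodule.subset_span ⟨Sum.inr i, rfl⟩))
    obtain ⟨ha, hb⟩ := key (g (Sum.inl 0)) (g (Sum.inr 0)) (by
      have e : g (Sum.inl 0) • x + g (Sum.inr 0) • f x =
          -((∑ i, g (Sum.inl i.succ) • v i) + (∑ i, g (Sum.inr i.succ) • f (v i))) := by
        rw [eq_neg_iff_add_eq_zero, ← hg]; abel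
      rw [e]; exact W.neg_mem hsum)
    rw [ha, hb, zero_smul, zero_smul, zero_add, zero_add] at hg
    have hrest := Fintype.linearIndependent_iff.mp hv
      (Sum.elim (fun i => g (Sum.inl i.succ)) (fun i => g (Sum.inr i.succ)))
      (by simpa [Fintype.sum_sum_type] using hg)
    rintro (i | i)
    · refine Fin.cases ha (fun i => ?_) i
      exact hrest (Sum.inl i)
    · refine Fin.cases hb (fun i => ?_) i
      exact hrest (Sum.inr i)

open Cfsg.Agent.ClMax99 Module in
/-- An involution modulo scalars permutes, up to scalars, the members of a suitable basis. -/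
theorem exists_monomial {F : Type*} [Field F] {n : ℕ} (f : Module.End F (Fin n → F)) {z : F}
    (hz0 : z ≠ 0) (hf : f ^ 2 = z • 1) :
    ∃ (k l : ℕ) (B : BlockInvol.Pts k l → (Fin n → F)), LinearIndependent F B ∧
      Submodule.span F (Set.range B) = ⊤ ∧ 2 * k + l = n ∧
      ∀ y, ∃ c : F, c ≠ 0 ∧ f (B y) = c • B (BlockInvol.swp k l y) := by
  have hff : ∀ x, f (f x) = z • x := fun x => by
    have := LinearMap.congr_fun hf x
    simpa [pow_two] using this
  have hdone : ∀ (k l : ℕ) (B : BlockInvol.Pts k l → (Fin n → F)), LinearIndependent F B →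
      2 * k + l = n → (∀ j, f (B (.inl (.inl j))) = B (.inl (.inr j))) →
      (∀ j, ∃ c : F, c ≠ 0 ∧ f (B (.inr j)) = c • B (.inr j)) →
      ∃ (k l : ℕ) (B : BlockInvol.Pts k l → (Fin n → F)), LinearIndependent F B ∧
        Submodule.span F (Set.range B) = ⊤ ∧ 2 * k + l = n ∧
        ∀ y, ∃ c : F, c ≠ 0 ∧ f (B y) = c • B (BlockInvol.swp k l y) := by
    intro k l B hB hn h1 h2
    refine ⟨k, l, B, hB, hB.span_eq_top_of_card_eq_finrank' ?_, hn, ?_⟩
    · simp only [Fintype.card_sum, Fintype.card_fin, Module.finrank_fin_fun]; omega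
    · rintro ((j | j) | j)
      · exact ⟨1, one_ne_zero, by simp [BlockInvol.swp, h1]⟩
      · exact ⟨z, hz0, by simp [BlockInvol.swp, ← h1, hff]⟩
      · simpa [BlockInvol.swp] using h2 j
  by_cases hsq : ∃ w, w ^ 2 = z
  · obtain ⟨w, rfl⟩ := hsq
    have hw : w ≠ 0 := fun e => hz0 (by rw [e]; ring)
    set P := LinearMap.ker (f - w • 1) with hP
    have hPmem : ∀ x, x ∈ P ↔ f x = w • x := fun x => by
      simp [hP, sub_eq_zero]
    by_cases h2 : (2 : F) = 0
    · -- unipotent case
      let N : Module.End F (Fin n → F) := f - w • 1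
      have hNN : ∀ x, N (N x) = 0 := fun x => by
        simp only [N, LinearMap.sub_apply, LinearMap.smul_apply, Module.End.one_apply, map_sub,
          map_smul, hff]
        rw [show w ^ 2 • x - w • f x - w • (f x - w • x) =
          (2 : F) • (w ^ 2 • x - w • f x) by module, h2, zero_smul]
      have hker : LinearMap.ker N = P := rfl
      obtain ⟨R, hR⟩ := Submodule.exists_isCompl (LinearMap.ker N)
      let C : Submodule F (Fin n → F) := LinearMap.range N
      have hCle : C ≤ LinearMap.ker N := by rintro _ ⟨x, rfl⟩; exact hNN x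
      obtain ⟨S, hSd, hSs⟩ : ∃ S, Disjoint C S ∧ C ⊔ S = LinearMap.ker N := by
        obtain ⟨S, hS⟩ := Submodule.exists_isCompl C
        refine ⟨S ⊓ LinearMap.ker N, hS.disjoint.mono_right inf_le_left, ?_⟩
        rw [← sup_inf_assoc_of_le S hCle, hS.sup_eq_top, top_inf_eq]
      let bR := Module.finBasis F R
      let bS := Module.finBasis F S
      have hdimC : finrank F C = finrank F R := by
        have h1 := LinearMap.finrank_range_add_finrank_ker N
        have h2 := Submodule.finrank_add_eq_of_isCompl hR
        have h3 : finrank F C = finrank F (LinearMap.range N) := rfl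
        omega
      refine hdone (finrank F R) (finrank F S)
        (Sum.elim (Sum.elim (fun j => (bR j : Fin n → F)) (fun j => f (bR j))) (fun j => (bS j : Fin n → F)))
        ?_ ?_ (fun j => rfl) (fun j => ⟨w, hw, ?_⟩)
      · rw [Fintype.linearIndependent_iff]
        intro g hg
        simp only [Fintype.sum_sum_type, Sum.elim_inl, Sum.elim_inr] at hg
        set x : R := ∑ j, g (.inl (.inl j)) • bR j with hx
        set y : R := ∑ j, g (.inl (.inr j)) • bR j with hy
        set u : S := ∑ j, g (.inr j) • bS j with hu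
        have hg' : (x : Fin n → F) + f y + u = 0 := by
          rw [hx, hy, hu]; simpa using hg
        have huk : N (u : Fin n → F) = 0 := LinearMap.mem_ker.mp (hSs ▸ le_sup_right (a := C) u.2)
        have hsplit : ((x : Fin n → F) + w • y) + (N y + u) = 0 := by
          rw [← hg']; simp [N]; abel
        have hxy : (x : Fin n → F) + w • y = 0 := by
          refine Submodule.disjoint_def.mp hR.disjoint _ ?_ (R.add_mem x.2 (R.smul_mem _ y.2))
          rw [eq_neg_of_add_eq_zero_left hsplit]
          exact Submodule.neg_mem _ (Submodule.add_mem _ (hNN _) huk)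
        rw [hxy, zero_add] at hsplit
        have hNy : N (y : Fin n → F) = 0 := by
          refine Submodule.disjoint_def.mp hSd _ ⟨_, rfl⟩ ?_
          rw [eq_neg_of_add_eq_zero_left hsplit]
          exact S.neg_mem u.2
        have hy0 : y = 0 := Subtype.ext (Submodule.disjoint_def.mp hR.disjoint _ hNy y.2)
        have hu0 : u = 0 := by
          rw [hNy, zero_add] at hsplit
          exact Subtype.ext hsplit
        have hx0 : x = 0 := by
          rw [hy0] at hxy
          exact Subtype.ext (by simpa using hxy)
        rintro ((j | j) | j)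
        · exact Fintype.linearIndependent_iff.mp bR.linearIndependent _ (hx.symm.trans hx0) j
        · exact Fintype.linearIndependent_iff.mp bR.linearIndependent _ (hy.symm.trans hy0) j
        · exact Fintype.linearIndependent_iff.mp bS.linearIndependent _ (hu.symm.trans hu0) j
      · have h1 := Submodule.finrank_add_eq_of_isCompl hR
        have h3 := Submodule.finrank_sup_add_finrank_inf_eq C S
        rw [hSd.eq_bot, finrank_bot, hSs] at h3
        rw [Module.finrank_fin_fun] at h1
        omega
      · have := hSs ▸ le_sup_right (a := C) (bS j).2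
        exact (hPmem _).mp (hker ▸ this)
    · -- semisimple case
      set M := LinearMap.ker (f + w • 1) with hM
      have hMmem : ∀ x, x ∈ M ↔ f x = -(w • x) := fun x => by
        simp [hM, eq_neg_iff_add_eq_zero]
      have hc : IsCompl P M := by
        constructor
        · rw [Submodule.disjoint_def]
          intro x hx hx'
          rw [hPmem] at hx
          rw [hMmem, hx, eq_neg_iff_add_eq_zero, ← add_smul, ← two_mul] at hx'
          exact (smul_eq_zero.mp hx').resolve_left (mul_ne_zero h2 hw)
        · rw [codisjoint_iff, eq_top_iff]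
          intro x _
          have h2w : (2 * w) ≠ 0 := mul_ne_zero h2 hw
          have e : x = (2 * w)⁻¹ • (w • x + f x) + (2 * w)⁻¹ • (w • x - f x) := by
            rw [← smul_add, show w • x + f x + (w • x - f x) = (2 * w) • x by module,
              smul_smul, inv_mul_cancel₀ h2w, one_smul]
          rw [e]
          refine Submodule.add_mem_sup ?_ ?_
          · rw [hPmem, map_smul, map_add, map_smul, hff]; module
          · rw [hMmem, map_smul, map_sub, map_smul, hff]; module
      let bP := Module.finBasis F P
      let bM := Module.finBasis F M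
      refine hdone 0 (finrank F P + finrank F M)
        (Sum.elim (fun e => isEmptyElim e) (fun j => Sum.elim (fun i => (bP i : Fin n → F))
          (fun i => (bM i : Fin n → F)) (finSumFinEquiv.symm j))) ?_ ?_ (fun j => j.elim0) ?_
      · rw [← linearIndependent_equiv (Equiv.emptySum (Fin 0 ⊕ Fin 0) (Fin (finrank F P + finrank F M))).symm]
        show LinearIndependent F ((Sum.elim (fun i => (bP i : Fin n → F)) (fun i => (bM i : Fin n → F))) ∘
          finSumFinEquiv.symm)
        rw [linearIndependent_equiv]
        refine LinearIndependent.sum_type (bP.linearIndependent.map' P.subtype P.ker_subtype)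
          (bM.linearIndependent.map' M.subtype M.ker_subtype) ?_
        refine hc.disjoint.mono ?_ ?_ <;> rw [Submodule.span_le] <;> rintro _ ⟨i, rfl⟩ <;>
          exact SetLike.coe_mem _
      · have := Submodule.finrank_add_eq_of_isCompl hc
        rw [Module.finrank_fin_fun] at this
        omega
      · intro j
        obtain ⟨i, rfl⟩ := finSumFinEquiv.surjective j
        rcases i with i | i
        · exact ⟨w, hw, by simp [(hPmem _).mp (bP i).2]⟩
        · exact ⟨-w, neg_ne_zero.mpr hw, by simp [(hMmem _).mp (bM i).2]⟩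
  · push Not at hsq
    obtain ⟨v, hv⟩ := exists_pairs f hsq hf ((n + 1) / 2) (by rw [Module.finrank_fin_fun]; omega)
    have hcard := hv.fintype_card_le_finrank
    rw [Fintype.card_sum, Fintype.card_fin, Module.finrank_fin_fun] at hcard
    refine hdone ((n + 1) / 2) 0 (Sum.elim (Sum.elim v (fun j => f (v j))) (fun i => i.elim0)) ?_
      (by omega) (fun j => rfl) (fun j => j.elim0)
    rw [← linearIndependent_equiv (Equiv.sumEmpty (Fin ((n + 1) / 2) ⊕ Fin ((n + 1) / 2)) (Fin 0)).symm]
    exact hv

/-- Involutions of PSL_n(q) and imprimitive subgroups. Here `T = PSL_n(F)` for a field `F` with `q = p^f` elements (`n ≥ 2`, `(n, q) ≠ (2, 2), (2, 3)`), `n = a·t` with `t ≥ 2`, and Ω is the set of direct-sum decompositions of `F^n` into `t` subspaces of dimension `a` (unordered; their number is the number of ordered ones divided by `t!`), whose stabilizers are the imprimitive subgroups of type GL_a(q) ≀ S_t (maximal except in some small cases; maximality is not assumed); an element of `T` of prime order `r` (a matrix `x` of determinant 1 with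 `x^r` scalar, `x` not scalar) fixes a point of Ω when it permutes the summands of some such decomposition. If the number of such decompositions is even, then every involution of `T` stabilizes one of them (the action is 2-elusive). -/
theorem result {F : Type*} [Field F] [Fintype F] {p : ℕ} [Fact p.Prime] [CharP F p] {q : ℕ} (hq : Fintype.card F = q)
    (n a t : ℕ) (hn : 2 ≤ n) (hT : (n, q) ≠ (2, 2) ∧ (n, q) ≠ (2, 3)) (hat : n = a * t) (ha : 1 ≤ a) (ht : 2 ≤ t)
    (hΩ : 2 ∣ Nat.card {D : Fin t → Submodule F (Fin n → F) // Cfsg.Geo.IsMDecomposition a D} / Nat.factorial t)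
    (x : Matrix.SpecialLinearGroup (Fin n) F)
    (hx1 : ∃ z : F, ((x ^ 2 : Matrix.SpecialLinearGroup (Fin n) F) : Matrix (Fin n) (Fin n) F) = z • (1 : Matrix (Fin n) (Fin n) F))
    (hx2 : ∀ z : F, (x : Matrix (Fin n) (Fin n) F) ≠ z • (1 : Matrix (Fin n) (Fin n) F)) :
    ∃ D : Fin t → Submodule F (Fin n → F), Cfsg.Geo.IsMDecomposition a D ∧
        ∃ σ : Equiv.Perm (Fin t), ∀ j, (D j).map (Matrix.toLin' (x : Matrix (Fin n) (Fin n) F)) = D (σ j) := by
  obtain ⟨z, hz⟩ := hx1
  set f : Module.End F (Fin n → F) := Matrix.toLin' (x : Matrix (Fin n) (Fin n) F) with hfdef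
  rw [Matrix.SpecialLinearGroup.coe_pow] at hz
  have hf : f ^ 2 = z • 1 := by
    rw [hfdef, ← Matrix.toLin'_pow, hz, map_smul, Matrix.toLin'_one]; rfl
  have hz0 : z ≠ 0 := by
    rintro rfl
    have h := congrArg Matrix.det hz
    haveI : Nonempty (Fin n) := ⟨⟨0, by omega⟩⟩
    rw [Matrix.det_pow, x.2, one_pow, zero_smul, Matrix.det_zero] at h
    exact one_ne_zero h
  obtain ⟨k, l, B, hB, hspan, hn', hmon⟩ := exists_monomial f hz0 hf
  obtain ⟨β, σ, hσ, hc⟩ := Cfsg.Agent.ClMax99.BlockInvol.part_exists a t k l (by omega) (by rw [hn', hat])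
  refine ⟨fun j => Submodule.span F (B '' {y | β y = j}), ⟨ht, by omega, fun j => ?_, ?_, ?_⟩, σ, fun j => ?_⟩
  · classical
    rw [Set.image_eq_range]
    have hlin : LinearIndependent F (fun y : {y | β y = j} => B y) := hB.comp _ Subtype.val_injective
    rw [finrank_span_eq_card hlin, ← Nat.card_eq_fintype_card]
    exact hc j
  · intro i
    refine (hB.disjoint_span_image (s := {y | β y = i}) (t := {y | β y ≠ i})
      (Set.disjoint_left.mpr fun y h1 h2 => h2 h1)).mono_right ?_
    refine iSup₂_le fun j hj => Submodule.span_mono (Set.image_mono fun y hy => ?_)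
    simp only [Set.mem_setOf_eq] at hy ⊢
    rwa [hy]
  · rw [eq_top_iff, ← hspan, Submodule.span_le]
    rintro _ ⟨y, rfl⟩
    exact Submodule.mem_iSup_of_mem (β y) (Submodule.subset_span ⟨y, rfl, rfl⟩)
  · show (Submodule.span F (B '' {y | β y = j})).map f = Submodule.span F (B '' {y | β y = σ j})
    rw [Submodule.map_span]
    apply le_antisymm <;> rw [Submodule.span_le]
    · rintro _ ⟨_, ⟨y, hy, rfl⟩, rfl⟩
      obtain ⟨c, -, hcy⟩ := hmon y
      rw [hcy]
      refine Submodule.smul_mem _ _ (Submodule.subset_span ⟨_, ?_, rfl⟩)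
      show β _ = σ j
      rw [hσ, show β y = j from hy]
    · rintro _ ⟨y, hy, rfl⟩
      have hinv : ∀ y, Cfsg.Agent.ClMax99.BlockInvol.swp k l (Cfsg.Agent.ClMax99.BlockInvol.swp k l y) = y := by
        rintro ((i | i) | i) <;> rfl
      obtain ⟨c, hc0, hcy⟩ := hmon (Cfsg.Agent.ClMax99.BlockInvol.swp k l y)
      rw [hinv] at hcy
      rw [SetLike.mem_coe, ← (Submodule.smul_mem_iff _ hc0), ← hcy]
      refine Submodule.subset_span ⟨_, ⟨_, ?_, rfl⟩, rfl⟩
      show β _ = j
      have h1 := hσ (Cfsg.Agent.ClMax99.BlockInvol.swp k l y)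
      rw [hinv, show β y = σ j from hy] at h1
      exact σ.injective h1.symm

end Cfsg.Agent.S5957
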