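import Cfsg.Statements.S5958
import Cfsg.Agent.ClMax99.DecompElusive

set_option autoImplicit false
open scoped MatrixGroups
open Cfsg

namespace Cfsg.Agent.S5958

open Module in
/-- Dimensions of an independent family add up inside a common bound. -/
theorem sum_finrank_le {F V : Type*} [Field F] [AddCommGroup V] [Module F V] [FiniteDimensional F V]
    {t : ℕ} (P : Fin t → Submodule F V) (X : Submodule F V) (hind : iSupIndep P) (hle : ∀ j, P j ≤ X) :
    ∑ j, finrank F (P j) ≤ finrank F X := by
  have hv : LinearIndependent F (fun x : Σ j, Fin (finrank F (P j)) => (Module.finBasis F (P x.1) x.2 : V)) := by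
    refine linearIndependent_iUnion_finite (f := fun j i => (Module.finBasis F (P j) i : V))
      (fun j => (Module.finBasis F (P j)).linearIndependent.map' _ (Submodule.ker_subtype _))
      fun j T _ hj => ?_
    refine (hind j).mono ?_ ?_
    · rw [Submodule.span_le]; rintro _ ⟨i, rfl⟩; exact SetLike.coe_mem _
    · refine iSup₂_le fun k hk => ?_
      refine le_trans ?_ (le_iSup₂_of_le k (fun (e : k = j) => hj (e ▸ hk)) le_rfl)
      rw [Submodule.span_le]; rintro _ ⟨i, rfl⟩; exact SetLike.coe_mem _
  have h1 := finrank_span_eq_card hv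
  rw [Fintype.card_sigma] at h1
  simp only [Fintype.card_fin] at h1
  rw [← h1]
  exact Submodule.finrank_mono (Submodule.span_le.mpr (by rintro _ ⟨x, rfl⟩; exact hle _ (SetLike.coe_mem _)))

set_option maxHeartbeats 1000000

open Cfsg.Agent.ClMax99.Inv Module in

/-- Elements of odd prime order of PSL_n(q) and imprimitive subgroups. Here `T = PSL_n(F)` for a field `F` with `q = p^f` elements (`n ≥ 2`, `(n, q) ≠ (2, 2), (2, 3)`), `n = a·t` with `t ≥ 2`, and Ω is the set of direct-sum decompositions of `F^n` into `t` subspaces of dimension `a` (unordered; their number is the number of ordered ones divided by `t!`), whose stabilizers are the imprimitive subgroups of type GL_a(q) ≀ S_t (maximal except in some small cases; maximality is not assumed); an element of `T` of prime order `r` (a matrix `x` of determinant 1 with `x^r` scalar, `x` not scalar) fixes a point of Ω when it permutes the summands of some such decomposition. Let `r ≠ p` be an odd prime dividing the number of such decompositions, let `c` be the multiplicative order of `q`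 modulo `r`, and write `k = n mod c`, `ℓ = a mod c`. Then every element of `T` of order `r` stabilizes such a decomposition if and only if either `a = 1`, `c = r − 1 > 1` and `n ≤ k·r`, or `c ≤ a` and `k = t·ℓ`. -/
theorem result {F : Type*} [Field F] [Fintype F] {p : ℕ} [Fact p.Prime] [CharP F p] {q : ℕ} (hq : Fintype.card F = q)
    (n a t : ℕ) (hn : 2 ≤ n) (hT : (n, q) ≠ (2, 2) ∧ (n, q) ≠ (2, 3)) (hat : n = a * t) (ha : 1 ≤ a) (ht : 2 ≤ t)
    (r : ℕ) [Fact r.Prime] (hr2 : r ≠ 2) (hrp : r ≠ p) (hΩ : r ∣ Nat.card {D : Fin t → Submodule F (Fin n → F) // Cfsg.Geo.IsMDecomposition a D} / Nat.factorial t)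
    (c : ℕ) (hc : c = orderOf (q : ZMod r)) :
    (∀ x : Matrix.SpecialLinearGroup (Fin n) F,
      (∃ z : F, ((x ^ r : Matrix.SpecialLinearGroup (Fin n) F) : Matrix (Fin n) (Fin n) F) = z • (1 : Matrix (Fin n) (Fin n) F)) →
      (∀ z : F, (x : Matrix (Fin n) (Fin n) F) ≠ z • (1 : Matrix (Fin n) (Fin n) F)) →
      ∃ D : Fin t → Submodule F (Fin n → F), Cfsg.Geo.IsMDecomposition a D ∧
        ∃ σ : Equiv.Perm (Fin t), ∀ j, (D j).map (Matrix.toLin' (x : Matrix (Fin n) (Fin n) F)) = D (σ j)) ↔
    ((a = 1 ∧ 1 < c ∧ c = r - 1 ∧ n ≤ (n % c) * r) ∨ (c ≤ a ∧ n % c = t * (a % c))) := by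
  subst hq
  subst hc
  obtain ⟨k₀, hk1, hk2, hk3⟩ :=
    exists_dvd_of_dvd_decomp (Fact.out : r.Prime) hrp hat ht ha hΩ
  have hrF := cast_ne_zero_of_ne (F := F) hrp
  have hik : orderOf (Fintype.card F : ZMod r) ∣ k₀ := (orderOf_dvd_iff_dvd_pow k₀).mpr hk3
  have hipos := orderOf_pos_of_ne (F := F) hrp
  have hin : orderOf (Fintype.card F : ZMod r) ≤ n := (Nat.le_of_dvd hk1 hik).trans hk2
  have hr3 : 3 ≤ r := by have := (Fact.out : r.Prime).two_le; omega
  have hat0 : 0 < n := by omega
  constructor
  · intro hall
    by_cases hi1 : orderOf (Fintype.card F : ZMod r) = 1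
    · right
      rw [hi1]
      exact ⟨ha, by simp [Nat.mod_one]⟩
    set c := orderOf (Fintype.card F : ZMod r) with hc
    have hr1 : ¬ r ∣ Fintype.card F - 1 := fun h => hi1 (orderOf_eq_one_iff_dvd.mpr h)
    have helt : ∀ s, 0 < s → s * c ≤ n → ∃ (f : Module.End F (Fin n → F)) (D : Fin t → Submodule F (Fin n → F))
        (σ : Equiv.Perm (Fin t)), f ^ r = 1 ∧ finrank F (LinearMap.ker (f - 1)) = n - s * c ∧
          Cfsg.Geo.IsMDecomposition a D ∧ ∀ j, (D j).map f = D (σ j) := by
      intro s hs hsc
      obtain ⟨A, hA1, hAr, hAk⟩ := exists_elt_order hrF hr1 (n := n) (s := s) hsc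
      rw [← hc] at hAk
      obtain ⟨D, hD, σ, hσ⟩ := hall (mkSL A hA1)
        ⟨1, by rw [Matrix.SpecialLinearGroup.coe_pow, one_smul]; exact hAr⟩
        (fun z => not_scalar_of_ker hat0 hr1 hAr (by
          rw [hAk]
          have : 0 < s * c := Nat.mul_pos hs hipos
          omega) z)
      exact ⟨Matrix.toLin' A, D, σ,
        by simpa using toLin_pow A (z := (1 : F)) (k := r) (by rw [hAr, one_smul]), hAk, hD, hσ⟩
    have hblock : ∀ (f : Module.End F (Fin n → F)) (D : Fin t → Submodule F (Fin n → F)),
        f ^ r = 1 → Cfsg.Geo.IsMDecomposition a D → ∀ j, (D j).map f ≤ D j →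
        a % c ≤ finrank F ↥(D j ⊓ LinearMap.ker (f - 1)) := by
      intro f D hf hD j hj
      have h := finrank_mod hrF hf hj
      rw [hD.finrank_eq j, ← hc] at h
      rw [h]
      exact Nat.mod_le _ _
    by_cases hca : c ≤ a
    · right
      refine ⟨hca, ?_⟩
      have hdm := Nat.div_add_mod n c
      rw [mul_comm] at hdm
      obtain ⟨f, D, σ, hf, hk, hD, hσ⟩ := helt (n / c) (Nat.div_pos hin hipos) (Nat.div_mul_le_self n c)
      have hke : finrank F (LinearMap.ker (f - 1)) = n % c := by rw [hk]; omega
      have hσ1 : σ = 1 := by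
        by_contra hne
        have h1 := (moved_bounds hD hσ hf hne).1
        have := Nat.mod_lt n hipos
        omega
      have hfix : ∀ j, (D j).map f ≤ D j := fun j => by rw [hσ, hσ1]; rfl
      have hsum : ∑ j, finrank F ↥(D j ⊓ LinearMap.ker (f - 1)) ≤ n % c := by
        rw [← hke]
        exact sum_finrank_le _ _ (hD.indep.mono fun j => inf_le_left) fun j => inf_le_right
      have hle : t * (a % c) ≤ n % c := by
        refine le_trans ?_ hsum
        calc t * (a % c) = ∑ _j : Fin t, a % c := by simp
          _ ≤ _ := Finset.sum_le_sum fun j _ => hblock f D hf hD j (hfix j)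
      have hlt : t * (a % c) < c := lt_of_le_of_lt hle (Nat.mod_lt n hipos)
      conv_lhs => rw [hat, mul_comm a t, Nat.mul_mod]
      rw [Nat.mod_mul_mod, Nat.mod_eq_of_lt hlt]
    · left
      have hn1 : 1 * c ≤ n := by rw [one_mul]; exact hin
      obtain ⟨f, D, σ, hf, hk, hD, hσ⟩ := helt 1 one_pos hn1
      have hσ1 : σ ≠ 1 := by
        intro he
        have hDC : ∀ j, D j ≤ LinearMap.ker (f - 1) := fun j => by
          have h1 := hblock f D hf hD j (by rw [hσ, he]; rfl)
          rw [Nat.mod_eq_of_lt (by omega), ← hD.finrank_eq j] at h1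
          exact le_of_eq_of_le (Submodule.eq_of_le_of_finrank_le inf_le_left h1).symm inf_le_right
        have htop : LinearMap.ker (f - 1) = ⊤ := eq_top_iff.mpr (hD.iSup_eq_top ▸ iSup_le hDC)
        rw [htop, finrank_top, Module.finrank_fin_fun] at hk
        omega
      have hb := (moved_bounds hD hσ hf hσ1).2
      have hR := finrank_range_add_ker (Module.finrank_fin_fun F (n := n)) f
      rw [hk, one_mul] at hR
      have hcr : c ∣ r - 1 := by
        rw [hc, orderOf_dvd_iff_pow_eq_one]
        refine ZMod.pow_card_sub_one_eq_one ?_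
        intro h0
        have : orderOf (Fintype.card F : ZMod r) = 0 := by
          rw [h0, orderOf_eq_zero_iff']
          intro m hm e
          rw [zero_pow (by omega)] at e
          exact zero_ne_one e
        omega
      have hcle := Nat.le_of_dvd (by omega) hcr
      have ha1 : a = 1 := by
        by_contra hne
        have : (r - 1) * 2 ≤ (r - 1) * a := Nat.mul_le_mul_left _ (by omega)
        omega
      subst ha1
      refine ⟨rfl, by omega, by omega, ?_⟩
      obtain ⟨f, D, σ, hf, hk, hD, hσ⟩ := helt (n / c) (Nat.div_pos hin hipos) (Nat.div_mul_le_self n c)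
      have hdm := Nat.div_add_mod n c
      rw [mul_comm] at hdm
      have hke : finrank F (LinearMap.ker (f - 1)) = n % c := by rw [hk]; omega
      have hfixline : ∀ j, σ j = j → ∀ v ∈ D j, f v = v := by
        intro j hj v hv
        have h1 := hblock f D hf hD j (by rw [hσ, hj])
        rw [Nat.mod_eq_of_lt (by omega), ← hD.finrank_eq j] at h1
        have h2 : v ∈ LinearMap.ker (f - 1) :=
          (le_of_eq_of_le (Submodule.eq_of_le_of_finrank_le inf_le_left h1).symm inf_le_right) hv
        rwa [LinearMap.mem_ker, LinearMap.sub_apply, Module.End.one_apply, sub_eq_zero] at h2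
      have h3 := le_mul_ker hrF hD hσ hf hfixline
      rw [hke] at h3
      calc n = t := by rw [hat, one_mul]
        _ ≤ r * (n % c) := h3
        _ = _ := mul_comm _ _
  · intro hrhs x ⟨z, hxz⟩ _
    rw [Matrix.SpecialLinearGroup.coe_pow] at hxz
    have hfz := toLin_pow _ hxz
    have hz0 := scalar_ne_zero hat0 x.2 hxz
    by_cases hpow : ∃ w : F, w ^ r = z
    · obtain ⟨w, rfl⟩ := hpow
      have hw : w ≠ 0 := fun e => hz0 (by rw [e, zero_pow (Fact.out : r.Prime).ne_zero])
      set y : Module.End F (Fin n → F) := w⁻¹ • Matrix.toLin' (x : Matrix (Fin n) (Fin n) F) with hy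
      have hyr : y ^ r = 1 := smul_pow_eq_one hw hfz
      suffices hyD : ∃ D : Fin t → Submodule F (Fin n → F), Cfsg.Geo.IsMDecomposition a D ∧
          ∃ σ : Equiv.Perm (Fin t), ∀ j, (D j).map y = D (σ j) by
        obtain ⟨D, hD, σ, hσ⟩ := hyD
        refine ⟨D, hD, σ, fun j => ?_⟩
        rw [← hσ j, hy, Submodule.map_smul _ _ _ (inv_ne_zero hw)]
      have hR := dvd_finrank_moved hrF hyr (W := ⊤) (by simp)
      rw [Submodule.map_top] at hR
      have hdim := finrank_range_add_ker (Module.finrank_fin_fun F (n := n)) y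
      obtain ⟨s, hs⟩ := hR
      have hmod : finrank F (LinearMap.ker (y - 1)) % orderOf (Fintype.card F : ZMod r) =
          n % orderOf (Fintype.card F : ZMod r) := by
        conv_rhs => rw [← hdim, hs, add_comm, Nat.add_mul_mod_self_left]
      rcases hrhs with ⟨ha1, h2, h3, h4⟩ | ⟨-, h2⟩
      · subst ha1
        obtain rfl : n = t := by rw [hat, one_mul]
        refine exists_lines hrF h3 hyr hn ?_
        rw [hs, h3, Nat.mul_div_cancel_left _ (by omega)]
        rw [h3] at hs h4 hmod
        have h5 : n % (r - 1) ≤ finrank F (LinearMap.ker (y - 1)) := hmod ▸ Nat.mod_le _ _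
        refine le_trans ?_ h5
        by_contra hcon
        have h6 : (n % (r - 1) + 1) * (r - 1) ≤ s * (r - 1) := Nat.mul_le_mul_right _ (by omega)
        rw [hs, mul_comm (r - 1) s] at hdim
        rw [Nat.add_mul, one_mul] at h6
        obtain ⟨r', hr'⟩ : ∃ r', r = r' + 1 := ⟨r - 1, by omega⟩
        rw [hr', Nat.add_sub_cancel] at h4 h5 h6 hdim hcon
        rw [Nat.mul_add, mul_one] at h4
        omega
      · obtain ⟨D, hD, hDi⟩ := exists_fixed_blocks hrF hyr ht ha hat
          (h2 ▸ hmod ▸ Nat.mod_le _ _)
        refine ⟨D, hD, 1, fun j => ?_⟩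
        rw [Equiv.Perm.one_apply]
        refine Submodule.eq_of_le_of_finrank_le (hDi j) ?_
        have hinj : Function.Injective y := by
          intro u v huv
          have := congrArg (y ^ (r - 1)) huv
          rwa [← Module.End.mul_apply, ← Module.End.mul_apply, ← pow_succ, Nat.sub_add_cancel (by omega), hyr,
            Module.End.one_apply, Module.End.one_apply] at this
        rw [(Submodule.equivMapOfInjective y hinj (D j)).finrank_eq]
    · push Not at hpow
      have hr1 : r ∣ Fintype.card F - 1 := by
        by_contra h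
        obtain ⟨w, hw⟩ := exists_root_of_not_dvd (F := F) (r := r) (z := z) h
        exact hpow w hw
      set f : Module.End F (Fin n → F) := Matrix.toLin' (x : Matrix (Fin n) (Fin n) F) with hf
      by_cases hra : r ∣ a
      · obtain ⟨D, hD, hDs, hDp⟩ := blocks_of_step (a := a) f
          (fun k (W : Submodule F (Fin n → F)) => W.map f ≤ W ∧ finrank F W = k * a)
          (fun W h => Submodule.finrank_eq_zero.mp (by rw [h.2, zero_mul]))
          (fun k W hW => by
            obtain ⟨j, hj⟩ := hra
            obtain ⟨U, -, hUW, hU, hUd⟩ := exists_chain (f := f) [Polynomial.X ^ r - Polynomial.C z]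
              (by simpa using irreducible_of_nonpower hpow) (d := r) (by simp)
              (W := (⊥ : Submodule F (Fin n → F))) (R := W) (by simp) hW.1 bot_le
              (fun v _ => (aeval_nonpower hfz v).symm ▸ zero_mem _) j
              (by rw [finrank_bot, zero_add, hW.2, mul_comm j r, ← hj, Nat.add_mul, one_mul]; omega)
            rw [finrank_bot, zero_add, mul_comm, ← hj] at hUd
            obtain ⟨W', hd, hs, hW'⟩ := exists_invariant_compl_in hrF hz0 hfz hU hW.1 hUW
            refine ⟨U, W', hd, hs, hU, hUd, hW', ?_⟩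
            have h := Submodule.finrank_sup_add_finrank_inf_eq U W'
            rw [hd.eq_bot, finrank_bot, hs, hUd, hW.2, Nat.add_mul, one_mul] at h
            omega) t ⊤ ⟨by simp, by rw [finrank_top, Module.finrank_fin_fun, hat, mul_comm]⟩
        refine ⟨D, ⟨ht, ha, fun j => (hDp j).2, hD, hDs⟩, 1, fun j => ?_⟩
        rw [Equiv.Perm.one_apply]
        refine Submodule.eq_of_le_of_finrank_le (hDp j).1 ?_
        have hinj : Function.Injective f := by
          intro u v huv
          have h := congrArg (f ^ (r - 1)) huv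
          rw [← Module.End.mul_apply, ← Module.End.mul_apply, ← pow_succ, Nat.sub_add_cancel (by omega), hfz,
            LinearMap.smul_apply, LinearMap.smul_apply, Module.End.one_apply, Module.End.one_apply] at h
          exact smul_right_injective _ hz0 h
        rw [(Submodule.equivMapOfInjective f hinj (D j)).finrank_eq]
      · obtain ⟨k, hk, -⟩ := det_of_nonpower hpow hxz
        obtain ⟨u, hu⟩ : r ∣ t := by
          refine ((Fact.out : r.Prime).dvd_mul.mp ⟨k, ?_⟩).resolve_left hra
          rw [← hat]; exact hk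
        exact exists_cycles hpow hfz ht ha hat (u := u) (by rw [hu, mul_comm])

end Cfsg.Agent.S5958
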