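import Cfsg.Statements.S5959
import Cfsg.Agent.ClMax99.JordanSL

set_option autoImplicit false
open scoped MatrixGroups
open Cfsg

namespace Cfsg.Agent.S5959

open Module
open Cfsg.Agent.ClMax99 Module in
theorem count_range (μ : Multiset ℕ) (p : ℕ) (hp : 0 < p) (hμ : ∀ a ∈ μ, a ≤ p) :
    μ.count p + JType.nul μ (p - 1) = μ.sum := by
  induction μ using Multiset.induction_on with
  | empty => simp [JType.nul]
  | cons a μ ih =>
    simp only [Multiset.forall_mem_cons] at hμ
    have := ih hμ.2
    simp only [JType.nul, Multiset.map_cons, Multiset.sum_cons, Multiset.count_cons] at this ⊢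
    split_ifs with h <;> omega

/-- Elements of order `p` of PSL_n(q) and imprimitive subgroups: a necessary condition. Here `T = PSL_n(F)` for a field `F` with `q = p^f` elements (`n ≥ 2`, `(n, q) ≠ (2, 2), (2, 3)`), `n = a·t` with `t ≥ 2`, and Ω is the set of direct-sum decompositions of `F^n` into `t` subspaces of dimension `a` (unordered; their number is the number of ordered ones divided by `t!`), whose stabilizers are the imprimitive subgroups of type GL_a(q) ≀ S_t (maximal except in some small cases; maximality is not assumed); an element of `T` of prime order `r` (a matrix `x` of determinant 1 with `x^r` scalar, `x` not scalar) fixes a point of Ω when it permutes the summands of some such decomposition. Suppose `p > 2` divides the number of such decompositions. If every element of `T` of order `p` stabilizes such a decomposition, then every partition of `n` into parts of size at most `p` in which the part `p` occurs fewer than `a` times contains (as a sub-multiset) a partition of `a`. -/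
theorem result {F : Type*} [Field F] [Fintype F] {p : ℕ} [Fact p.Prime] [CharP F p] {q : ℕ} (hq : Fintype.card F = q)
    (n a t : ℕ) (hn : 2 ≤ n) (hT : (n, q) ≠ (2, 2) ∧ (n, q) ≠ (2, 3)) (hat : n = a * t) (ha : 1 ≤ a) (ht : 2 ≤ t)
    (hp : 2 < p) (hΩ : p ∣ Nat.card {D : Fin t → Submodule F (Fin n → F) // Cfsg.Geo.IsMDecomposition a D} / Nat.factorial t)
    (h : ∀ x : Matrix.SpecialLinearGroup (Fin n) F,
      (∃ z : F, ((x ^ p : Matrix.SpecialLinearGroup (Fin n) F) : Matrix (Fin n) (Fin n) F) = z • (1 : Matrix (Fin n) (Fin n) F)) →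
      (∀ z : F, (x : Matrix (Fin n) (Fin n) F) ≠ z • (1 : Matrix (Fin n) (Fin n) F)) →
      ∃ D : Fin t → Submodule F (Fin n → F), Cfsg.Geo.IsMDecomposition a D ∧
        ∃ σ : Equiv.Perm (Fin t), ∀ j, (D j).map (Matrix.toLin' (x : Matrix (Fin n) (Fin n) F)) = D (σ j)) :
    (∀ μ : Multiset ℕ, (∀ b ∈ μ, 0 < b ∧ b ≤ p) → μ.sum = n → μ.count p < a → ∃ ν : Multiset ℕ, ν ≤ μ ∧ ν.sum = a) := by
  subst hq
  intro μ hμ hsum hcnt
  classical
  by_cases hones : ∀ b ∈ μ, b = 1
  · refine ⟨Multiset.replicate a 1, ?_, by simp⟩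
    have hrep := Multiset.eq_replicate_card.mpr hones
    have hcard : μ.card = n := by
      rw [← hsum]
      conv_rhs => rw [hrep]
      simp
    rw [hrep]
    refine (Multiset.replicate_le_replicate 1).mpr ?_
    rw [hcard, hat]
    exact Nat.le_mul_of_pos_right a (by omega)
  push Not at hones
  obtain ⟨b₀, hb₀, hb1⟩ := hones
  have hn0 : 0 < n := by omega
  haveI : Nonempty (Fin n) := ⟨⟨0, hn0⟩⟩
  obtain ⟨M, hM, hMk⟩ := Cfsg.Agent.ClMax99.JType.exists_nilpotent (F := F) μ
    (fun b hb => (hμ b hb).2) hsum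
  have hp' : p.Prime := Fact.out
  have hA : (1 + M) ^ p = 1 := by
    rw [add_pow_char_of_commute p (Commute.one_left M), one_pow, hM, add_zero]
  have hdet : (1 + M).det = 1 := by
    have h1 : (1 + M).det ^ p = 1 := by rw [← Matrix.det_pow, hA, Matrix.det_one]
    refine sub_eq_zero.mp (pow_eq_zero_iff hp'.ne_zero |>.mp ?_)
    rw [sub_pow_char, h1, one_pow, sub_self]
  have hN0 : (Matrix.toLin' M) ^ p = 0 := by
    rw [← Matrix.toLin'_pow, hM, map_zero]
  have hns : ∀ c : F, (1 + M) ≠ c • (1 : Matrix (Fin n) (Fin n) F) := by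
    intro c hc
    have hc1 : c = 1 := by
      have h := hA
      rw [hc, smul_pow, one_pow] at h
      have h2 : c ^ p = 1 := by
        simpa using congrArg (fun B : Matrix (Fin n) (Fin n) F => B ⟨0, hn0⟩ ⟨0, hn0⟩) h
      refine sub_eq_zero.mp (pow_eq_zero_iff hp'.ne_zero |>.mp ?_)
      rw [sub_pow_char, h2, one_pow, sub_self]
    rw [hc1, one_smul, add_eq_left] at hc
    subst hc
    have h1 := hMk 1
    rw [pow_one, map_zero, LinearMap.ker_zero, finrank_top, Module.finrank_fin_fun, ← hsum] at h1
    obtain ⟨μ', rfl⟩ := Multiset.exists_cons_of_mem hb₀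
    have h2 : Cfsg.Agent.ClMax99.JType.nul μ' 1 ≤ μ'.sum := by
      clear h1 hsum hcnt hμ hb₀ hMk
      induction μ' using Multiset.induction_on with
      | empty => simp [Cfsg.Agent.ClMax99.JType.nul]
      | cons x s ih => simp only [Cfsg.Agent.ClMax99.JType.nul, Multiset.map_cons, Multiset.sum_cons] at ih ⊢; omega
    have hb2 := (hμ b₀ (Multiset.mem_cons_self _ _)).1
    simp only [Cfsg.Agent.ClMax99.JType.nul, Multiset.map_cons, Multiset.sum_cons] at h1 h2
    omega
  obtain ⟨D, hD, σ, hσ⟩ := h ⟨1 + M, hdet⟩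
    ⟨1, (Matrix.SpecialLinearGroup.coe_pow _ _).trans (hA.trans (one_smul F _).symm)⟩ hns
  set f : Module.End F (Fin n → F) := Matrix.toLin' (1 + M) with hf
  replace hσ : ∀ j, (D j).map f = D (σ j) := hσ
  have hfp : f ^ p = 1 := by
    rw [hf, ← Matrix.toLin'_pow, hA, Matrix.toLin'_one]; rfl
  have hNf : f = Matrix.toLin' M + 1 := by
    rw [hf, map_add, Matrix.toLin'_one, add_comm]; rfl
  have hiter : ∀ (k : ℕ) (j : Fin t) (v : Fin n → F), v ∈ D j → (f ^ k) v ∈ D ((σ ^ k) j) := by
    intro k j v hv
    induction k with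
    | zero => simpa using hv
    | succ k ih =>
      rw [pow_succ' f, Module.End.mul_apply, pow_succ' σ, Equiv.Perm.mul_apply, ← hσ]
      exact Submodule.mem_map_of_mem ih
  have hne : ∀ j, D j ≠ ⊥ := fun j e => by
    have := hD.finrank_eq j
    rw [e, finrank_bot] at this
    omega
  have hσp : σ ^ p = 1 := by
    ext j
    by_contra hj
    obtain ⟨v, hv, hv0⟩ := Submodule.exists_mem_ne_zero_of_ne_bot (hne j)
    have h1 := hiter p j v hv
    rw [hfp, Module.End.one_apply] at h1
    exact hv0 (Submodule.disjoint_def.mp (hD.indep.pairwiseDisjoint (fun e => hj (by rw [Equiv.Perm.one_apply, ← e]))) v hv h1)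
  by_cases hσ1 : σ = 1
  · -- all blocks fixed
    obtain ⟨j₀⟩ : Nonempty (Fin t) := ⟨⟨0, by omega⟩⟩
    set W := ⨆ j ∈ ({j₀}ᶜ : Set (Fin t)), D j with hW
    have hc : IsCompl (D j₀) W := by
      constructor
      · exact (hD.indep j₀)
      · rw [codisjoint_iff, eq_top_iff, ← hD.iSup_eq_top]
        refine iSup_le fun j => ?_
        by_cases hj : j = j₀
        · exact hj ▸ le_sup_left
        · exact le_sup_of_le_right (le_iSup₂_of_le j (by simpa using hj) le_rfl)
    have hfix : ∀ j, (D j).map f ≤ D j := fun j => by rw [hσ, hσ1]; rfl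
    have hWf : W.map f ≤ W := by
      simp only [hW, Submodule.map_iSup]
      exact iSup₂_mono fun j _ => hfix j
    have hinv : ∀ X : Submodule F (Fin n → F), X.map f ≤ X → X.map (Matrix.toLin' M) ≤ X := fun X hX => by
      rintro _ ⟨v, hv, rfl⟩
      have := X.sub_mem (hX ⟨v, hv, rfl⟩) hv
      rwa [hNf, LinearMap.add_apply, Module.End.one_apply, add_sub_cancel_right] at this
    obtain ⟨ν, hν, hνs⟩ := Cfsg.Agent.ClMax99.JType.type_of_isCompl (Matrix.toLin' M) hN0 hc
      (hinv _ (hfix j₀)) (hinv _ hWf) (fun b hb => (hμ b hb).1) hMk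
    exact ⟨ν, hν, hνs.trans (hD.finrank_eq j₀)⟩
  · -- a cycle of length `p`
    exfalso
    obtain ⟨j, hj⟩ : ∃ j, σ j ≠ j := by
      by_contra hcon
      push Not at hcon
      exact hσ1 (Equiv.ext hcon)
    have hord : ∀ i, 0 < i → i < p → (σ ^ i) j ≠ j := by
      intro i hi hip e
      apply hj
      have hco : Nat.Coprime i p := ((hp'.coprime_iff_not_dvd).mpr (Nat.not_dvd_of_pos_of_lt hi hip)).symm
      obtain ⟨c, hc⟩ := Nat.exists_mul_mod_eq_one_of_coprime hco hp'.one_lt
      have h1 : ((σ ^ i) ^ c) j = j := Equiv.Perm.pow_apply_eq_self_of_apply_eq_self e c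
      rw [← pow_mul, pow_eq_pow_mod _ hσp, hc.2, pow_one] at h1
      exact h1
    have hgeom : (Matrix.toLin' M) ^ (p - 1) = ∑ i ∈ Finset.range p, f ^ i := by
      have key : ((Polynomial.X : Polynomial F) - 1) ^ (p - 1) = ∑ i ∈ Finset.range p, Polynomial.X ^ i := by
        have hx : ((Polynomial.X : Polynomial F) - 1) ≠ 0 := Polynomial.X_sub_C_ne_zero 1
        apply mul_right_cancel₀ hx
        rw [← pow_succ, Nat.sub_add_cancel hp'.one_le, geom_sum_mul, sub_pow_char, one_pow]
      have := congrArg (Polynomial.aeval f) key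
      simp only [map_pow, map_sub, map_one, Polynomial.aeval_X, map_sum] at this
      rw [← this, hNf, add_sub_cancel_right]
    have hinj : Function.Injective ((Matrix.toLin' M ^ (p - 1)).domRestrict (D j)) := by
      rw [← LinearMap.ker_eq_bot, Submodule.eq_bot_iff]
      rintro ⟨v, hv⟩ hker
      rw [LinearMap.mem_ker, LinearMap.domRestrict_apply, hgeom, LinearMap.sum_apply,
        Finset.range_eq_Ico, Finset.sum_eq_sum_Ico_succ_bot hp'.pos, pow_zero, Module.End.one_apply] at hker
      apply Subtype.ext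
      dsimp only at hker ⊢
      refine Submodule.disjoint_def.mp (hD.indep j) v hv ?_
      rw [eq_neg_of_add_eq_zero_left hker]
      refine Submodule.neg_mem _ (Submodule.sum_mem _ fun i hi => ?_)
      rw [Finset.mem_Ico] at hi
      exact Submodule.mem_iSup_of_mem _ (Submodule.mem_iSup_of_mem (hord i (by omega) hi.2) (hiter i j v hv))
    have h1 := LinearMap.finrank_range_of_inj hinj
    have h2 : finrank F (LinearMap.range ((Matrix.toLin' M ^ (p - 1)).domRestrict (D j))) ≤
        finrank F (LinearMap.range (Matrix.toLin' M ^ (p - 1))) :=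
      Submodule.finrank_mono (by rintro _ ⟨x, rfl⟩; exact ⟨_, rfl⟩)
    have h3 := LinearMap.finrank_range_add_finrank_ker (Matrix.toLin' M ^ (p - 1))
    rw [hMk, Module.finrank_fin_fun] at h3
    have h4 := count_range μ p hp'.pos (fun b hb => (hμ b hb).2)
    rw [h1, hD.finrank_eq] at h2
    omega

end Cfsg.Agent.S5959
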