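import Cfsg.Statements.S5960
import Cfsg.Agent.ClMax99.SympPlanes
import Cfsg.Agent.Lib.Forms.Symp

set_option autoImplicit false
open scoped MatrixGroups
open Cfsg

namespace Cfsg.Agent.S5960

open Cfsg.Agent Cfsg.Agent.ClMax99 Module


/-- Involutions of PSp_n(q) and imprimitive subgroups. Here `T = PSp_n(q)`, `n = 2d ≥ 4`, `(n, q) ≠ (4, 2)`, realised through the symplectic matrices over the field `F` with `q` elements and the standard alternating form; `n = a·t` with `a` even and `t ≥ 2`, and Ω is the (nonempty) set of orthogonal decompositions of `F^n` into `t` nondegenerate subspaces of dimension `a` (unordered; counted as ordered ones divided by `t!`), whose stabilizers are the imprimitive subgroups of type Sp_a(q) ≀ S_t (maximality is not assumed); an element of `T` of prime order `r` (a symplectic matrix `x` with `x^r` scalar, `x` not scalar) fixes a point of Ω when it permutes the summands of some such decomposition. If the number of such decompositions is even, then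 every involution of `T` stabilizes one of them (the action is 2-elusive). -/
theorem result {F : Type*} [Field F] [Fintype F] {p : ℕ} [Fact p.Prime] [CharP F p] {q : ℕ} (hq : Fintype.card F = q)
    (d : ℕ) (hd : 2 ≤ d) (hT : (d, q) ≠ (2, 2))
    (a t : ℕ) (hat : 2 * d = a * t) (ha : 2 ≤ a) (hae : Even a) (ht : 2 ≤ t) (hΩ : 2 ∣ Nat.card {D : Fin t → Submodule F (Fin d ⊕ Fin d → F) // (Cfsg.Geo.IsMDecomposition a D ∧ (∀ j, ∀ u ∈ D j, u ≠ 0 → ∃ v ∈ D j, Cfsg.sympForm d F u v ≠ 0) ∧
          (∀ j j', j ≠ j' → ∀ u ∈ D j, ∀ v ∈ D j', Cfsg.sympForm d F u v = 0))} / Nat.factorial t)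
    (x : ↥(Matrix.symplecticGroup (Fin d) F))
    (hx1 : ∃ z : F, ((x ^ 2 : ↥(Matrix.symplecticGroup (Fin d) F)) : Matrix (Fin d ⊕ Fin d) (Fin d ⊕ Fin d) F) = z • (1 : Matrix (Fin d ⊕ Fin d) (Fin d ⊕ Fin d) F))
    (hx2 : ∀ z : F, (x : Matrix (Fin d ⊕ Fin d) (Fin d ⊕ Fin d) F) ≠ z • (1 : Matrix (Fin d ⊕ Fin d) (Fin d ⊕ Fin d) F)) :
    ∃ D : Fin t → Submodule F (Fin d ⊕ Fin d → F), (Cfsg.Geo.IsMDecomposition a D ∧ (∀ j, ∀ u ∈ D j, u ≠ 0 → ∃ v ∈ D j, Cfsg.sympForm d F u v ≠ 0) ∧
          (∀ j j', j ≠ j' → ∀ u ∈ D j, ∀ v ∈ D j', Cfsg.sympForm d F u v = 0)) ∧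
        ∃ σ : Equiv.Perm (Fin t), ∀ j, (D j).map (Matrix.toLin' (x : Matrix (Fin d ⊕ Fin d) (Fin d ⊕ Fin d) F)) = D (σ j) := by
  classical
  set B := Forms.sympBilin d F with hBdef
  set X : Matrix (Fin d ⊕ Fin d) (Fin d ⊕ Fin d) F := (x : Matrix (Fin d ⊕ Fin d) (Fin d ⊕ Fin d) F) with hX
  set T := Matrix.toLin' X with hTdef
  have hBT : ∀ u v, B (T u) (T v) = B u v := fun u v => by
    simp only [hBdef, Forms.sympBilin_apply, hTdef, Matrix.toLin'_apply]
    exact (Symplectic.mem_iff_form _).mp x.2 u v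
  obtain ⟨z, hz⟩ := hx1
  have hX2 : X * X = z • 1 := by rw [← hz, pow_two]; rfl
  have hT2 : ∀ w, T (T w) = z • w := fun w => by
    simp only [hTdef, Matrix.toLin'_apply, Matrix.mulVec_mulVec, hX2, Matrix.smul_mulVec, Matrix.one_mulVec]
  have hz1 : z = 1 ∨ z = -1 := by
    let i₀ : Fin d := ⟨0, by omega⟩
    have h := hBT (T (Symplectic.fI i₀)) (T (Symplectic.eI i₀))
    rw [hT2, hT2, hBT] at h
    have h1 : B (Symplectic.fI i₀) (Symplectic.eI i₀) = 1 := by
      rw [hBdef, Forms.sympBilin_apply, Symplectic.sympForm_fI_eI]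
    simp only [map_smul, LinearMap.smul_apply, smul_eq_mul, h1, mul_one] at h
    exact mul_self_eq_one_iff.1 h
  have hA : B.IsAlt := Forms.sympBilin_isAlt
  obtain ⟨ι, _, _, u, v, σ, ⟨hσ, -, huv, huu, hvv, hTm⟩, hspan, -⟩ :=
    SympPlanes.exists_planes B hA T hBT hz1 hT2 ⊤ (fun w _ => Submodule.mem_top)
      (fun w _ hw => Forms.sympBilin_nondegenerate.1 w fun y => hw y Submodule.mem_top)
  have hvu : ∀ i j, B (v i) (u j) = -if j = i then 1 else 0 := fun i j => by
    rw [← LinearMap.IsAlt.neg hA (u j) (v i), huv]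
  set b : ι ⊕ ι → (Fin d ⊕ Fin d → F) := Sum.elim u v with hb
  have hli : LinearIndependent F b := by
    rw [Fintype.linearIndependent_iff]
    intro g hg
    simp only [hb, Fintype.sum_sum_type, Sum.elim_inl, Sum.elim_inr] at hg
    rintro (i | i)
    · simpa [map_sum, huv, hvv, hvu] using congrArg (B (v i)) hg
    · simpa [map_sum, huv, huu] using congrArg (B (u i)) hg
  have hcard : Fintype.card ι = d := by
    have h1 := finrank_span_eq_card hli
    rw [top_le_iff.1 hspan, finrank_top, finrank_pi, Fintype.card_sum, Fintype.card_sum, Fintype.card_fin] at h1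
    omega
  obtain ⟨h, rfl⟩ := hae
  have hdh : d = t * h := by
    have e : 2 * d = 2 * (t * h) := by rw [hat]; ring
    omega
  obtain ⟨κ, _, Bl, τ, hκ, hBl, hdis, hmap⟩ := SympPlanes.exists_blocks σ hσ t Finset.univ
    (fun i _ => Finset.mem_univ _) (by rw [Finset.card_univ, hcard, hdh])
  let e : Fin t ≃ κ := (Fintype.equivFinOfCardEq hκ).symm
  let P : Fin t → Finset (ι ⊕ ι) := fun j => (Bl (e j)).disjSum (Bl (e j))
  let D : Fin t → Submodule F (Fin d ⊕ Fin d → F) := fun j => Submodule.span F (b '' ↑(P j))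
  have hP : ∀ j s, s ∈ P j ↔ Sum.elim id id s ∈ Bl (e j) := by
    rintro j (i | i) <;> simp [P]
  have hfr : ∀ j, Module.finrank F (D j) = h + h := fun j => by
    have h1 := finrank_span_eq_card (hli.comp (Subtype.val : ↥(P j) → ι ⊕ ι) Subtype.val_injective)
    have e' : Set.range (b ∘ (Subtype.val : ↥(P j) → ι ⊕ ι)) = b '' ↑(P j) := by
      ext w; simp
    rw [e', Fintype.card_coe, Finset.card_disjSum, (hBl (e j)).1] at h1
    exact h1
  have hcover : ∀ i, ∃ j, i ∈ Bl (e j) := by
    have hc : (Finset.univ.biUnion Bl).card = d := by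
      rw [Finset.card_biUnion (fun k _ k' _ hne => hdis k k' hne), Finset.sum_congr rfl fun k _ => (hBl k).1,
        Finset.sum_const, Finset.card_univ, hκ, smul_eq_mul, hdh]
    have hu : Finset.univ.biUnion Bl = Finset.univ := Finset.eq_univ_of_card _ (by rw [hc, hcard])
    intro i
    obtain ⟨k, -, hk⟩ := Finset.mem_biUnion.1 (hu ▸ Finset.mem_univ i)
    exact ⟨e.symm k, by rwa [e.apply_symm_apply]⟩
  have htop : iSup D = ⊤ := by
    rw [eq_top_iff, ← top_le_iff.1 hspan]
    refine Submodule.span_le.2 ?_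
    rintro _ ⟨s, rfl⟩
    obtain ⟨j, hj⟩ := hcover (Sum.elim id id s)
    exact Submodule.mem_iSup_of_mem j (Submodule.subset_span ⟨s, (hP j s).2 hj, rfl⟩)
  have horth : ∀ j j', j ≠ j' → ∀ w ∈ D j, ∀ y ∈ D j', B w y = 0 := by
    intro j j' hne w hw y hy
    have hbb : ∀ s ∈ P j, ∀ s' ∈ P j', B (b s) (b s') = 0 := by
      intro s hs s' hs'
      have hne' : Sum.elim id id s ≠ Sum.elim id id s' := fun e0 =>
        Finset.disjoint_left.1 (hdis _ _ (e.injective.ne hne)) ((hP j s).1 hs) (e0 ▸ (hP j' s').1 hs')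
      rcases s with i | i <;> rcases s' with i' | i' <;>
        simp_all [hb, huv, hvu, huu, hvv, Ne.symm]
    have h1 : ∀ s ∈ P j, B (b s) y = 0 := fun s hs => by
      refine (Submodule.span_le.2 ?_ hy : y ∈ LinearMap.ker (B (b s)))
      rintro _ ⟨s', hs', rfl⟩
      exact hbb s hs s' hs'
    refine (Submodule.span_le.2 ?_ hw : w ∈ LinearMap.ker (B.flip y))
    rintro _ ⟨s, hs, rfl⟩
    exact h1 s hs
  have hnd : ∀ j, ∀ w ∈ D j, (∀ y ∈ D j, B w y = 0) → w = 0 := by
    intro j w hw hwy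
    refine Forms.sympBilin_nondegenerate.1 w fun y => ?_
    have hle : iSup D ≤ LinearMap.ker (B w) := iSup_le fun j' y hy => by
      rcases eq_or_ne j j' with rfl | hne
      · exact hwy y hy
      · exact horth j j' hne w hw y hy
    exact hle (htop ▸ Submodule.mem_top)
  refine ⟨D, ⟨⟨ht, by omega, hfr, fun j => ?_, htop⟩, ?_, ?_⟩, (e.trans τ).trans e.symm, fun j => ?_⟩
  · rw [Submodule.disjoint_def]
    intro w hw hw'
    refine hnd j w hw fun y hy => ?_
    refine (?_ : (⨆ i, ⨆ (_ : i ≠ j), D i) ≤ LinearMap.ker (B.flip y)) hw'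
    exact iSup₂_le fun i hi z hz => horth i j hi z hz y hy
  · intro j w hw hw0
    by_contra hc
    push Not at hc
    exact hw0 (hnd j w hw fun y hy => by rw [Forms.sympBilin_apply]; exact hc y hy)
  · intro j j' hne w hw y hy
    rw [← Forms.sympBilin_apply]
    exact horth j j' hne w hw y hy
  · have hle : (D j).map T ≤ D (e.symm (τ (e j))) := by
      rw [Submodule.map_span_le]
      rintro _ ⟨s, hs, rfl⟩
      have hσm : σ (Sum.elim id id s) ∈ Bl (e (e.symm (τ (e j)))) := by
        rw [e.apply_symm_apply, ← hmap]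
        exact Finset.mem_image_of_mem _ ((hP j s).1 hs)
      have hsub : Submodule.span F ({u (σ (Sum.elim id id s)), v (σ (Sum.elim id id s))} : Set _) ≤
          D (e.symm (τ (e j))) := by
        refine Submodule.span_le.2 ?_
        rintro _ (rfl | rfl)
        · exact Submodule.subset_span ⟨Sum.inl _, (hP _ _).2 hσm, rfl⟩
        · exact Submodule.subset_span ⟨Sum.inr _, (hP _ _).2 hσm, rfl⟩
      rcases s with i | i
      · exact hsub (hTm i).1
      · exact hsub (hTm i).2
    have hinj : Function.Injective T := fun w w' hww => by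
      have := congrArg T hww
      rw [hT2, hT2] at this
      exact smul_right_injective _ (by rcases hz1 with h1 | h1 <;> simp [h1]) this
    refine Submodule.eq_of_le_of_finrank_eq hle ?_
    rw [← LinearEquiv.finrank_eq (Submodule.equivMapOfInjective T hinj (D j)), hfr]
    exact (hfr _).symm

end Cfsg.Agent.S5960
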