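import Cfsg.Statements.S5961
import Cfsg.Agent.ClMax99.SympOddElt
import Cfsg.Agent.S5958

set_option autoImplicit false
open scoped MatrixGroups
open Cfsg

namespace Cfsg.Agent.S5961

open Cfsg.Agent Cfsg.Agent.ClMax99 Module

/-- Moved blocks, in symplectic coordinates. -/
theorem moved_bounds' {F : Type*} [Field F] {d a t r : ℕ} [Fact r.Prime] {f : Module.End F (Fin d ⊕ Fin d → F)}
    {D : Fin t → Submodule F (Fin d ⊕ Fin d → F)} (hD : Cfsg.Geo.IsMDecomposition a D) {σ : Equiv.Perm (Fin t)}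
    (hσ : ∀ j, (D j).map f = D (σ j)) (hf : f ^ r = 1) (hne : σ ≠ 1) :
    a ≤ finrank F (LinearMap.ker (f - 1)) ∧ (r - 1) * a ≤ finrank F (LinearMap.range (f - 1)) := by
  let e : (Fin d ⊕ Fin d → F) ≃ₗ[F] (Fin (d + d) → F) := LinearEquiv.funCongrLeft F F finSumFinEquiv.symm
  let g : Module.End F (Fin (d + d) → F) := e.conjRingEquiv f
  have hg : ∀ v, g (e v) = e (f v) := fun v => by simp [g]
  have hgr : g ^ r = 1 := by rw [← map_pow, hf, map_one]
  have hD' : Cfsg.Geo.IsMDecomposition a (fun j => (D j).map e.toLinearMap) := by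
    refine ⟨hD.two_le, hD.pos, fun j => ?_, fun j => ?_, ?_⟩
    · rw [LinearEquiv.finrank_map_eq]; exact hD.finrank_eq j
    · have := Submodule.disjoint_map e.injective (hD.indep j)
      simpa only [Submodule.map_iSup] using this
    · show iSup (fun j => (D j).map e.toLinearMap) = ⊤
      rw [← Submodule.map_iSup, hD.iSup_eq_top, Submodule.map_top, LinearMap.range_eq_top.2 e.surjective]
  have hcomm : g.comp e.toLinearMap = e.toLinearMap.comp f := LinearMap.ext hg
  have h := Inv.moved_bounds hD' (σ := σ) (fun j => by rw [← Submodule.map_comp, hcomm, Submodule.map_comp, hσ]) hgr hne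
  have hk : LinearMap.ker (g - 1) = (LinearMap.ker (f - 1)).map e.toLinearMap := by
    ext v
    obtain ⟨w, rfl⟩ := e.surjective v
    simp [Submodule.mem_map, sub_eq_zero, hg]
  have hr' : LinearMap.range (g - 1) = (LinearMap.range (f - 1)).map e.toLinearMap := by
    apply le_antisymm
    · rintro _ ⟨v, rfl⟩
      obtain ⟨w, rfl⟩ := e.surjective v
      exact ⟨_, ⟨w, rfl⟩, by simp [hg]⟩
    · rintro _ ⟨_, ⟨w, rfl⟩, rfl⟩
      exact ⟨e w, by simp [hg]⟩
  rwa [hk, hr', LinearEquiv.finrank_map_eq, LinearEquiv.finrank_map_eq] at h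

/-- Elements of odd prime order of PSp_n(q) and imprimitive subgroups. Here `T = PSp_n(q)`, `n = 2d ≥ 4`, `(n, q) ≠ (4, 2)`, realised through the symplectic matrices over the field `F` with `q` elements and the standard alternating form; `n = a·t` with `a` even and `t ≥ 2`, and Ω is the (nonempty) set of orthogonal decompositions of `F^n` into `t` nondegenerate subspaces of dimension `a` (unordered; counted as ordered ones divided by `t!`), whose stabilizers are the imprimitive subgroups of type Sp_a(q) ≀ S_t (maximality is not assumed); an element of `T` of prime order `r` (a symplectic matrix `x` with `x^r` scalar, `x` not scalar) fixes a point of Ω when it permutes the summands of some such decomposition. Let `r ≠ p` be an odd prime dividing the number of such decompositions, let `i` be the multiplicative order of `q` modulo `r`, `c = i` if `i` is even and `c = 2i` if `i` is odd, and write `k = n mod c`, `ℓ = a mod c`. Then every element of `T` of order `r` stabilizes such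 a decomposition if and only if `c ≤ a` and `k = t·ℓ`. -/
theorem result {F : Type*} [Field F] [Fintype F] {p : ℕ} [Fact p.Prime] [CharP F p] {q : ℕ} (hq : Fintype.card F = q)
    (d : ℕ) (hd : 2 ≤ d) (hT : (d, q) ≠ (2, 2))
    (a t : ℕ) (hat : 2 * d = a * t) (ha : 2 ≤ a) (hae : Even a) (ht : 2 ≤ t)
    (r : ℕ) [Fact r.Prime] (hr2 : r ≠ 2) (hrp : r ≠ p) (hΩ : r ∣ Nat.card {D : Fin t → Submodule F (Fin d ⊕ Fin d → F) // (Cfsg.Geo.IsMDecomposition a D ∧ (∀ j, ∀ u ∈ D j, u ≠ 0 → ∃ v ∈ D j, Cfsg.sympForm d F u v ≠ 0) ∧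
          (∀ j j', j ≠ j' → ∀ u ∈ D j, ∀ v ∈ D j', Cfsg.sympForm d F u v = 0))} / Nat.factorial t)
    (i c : ℕ) (hi : i = orderOf (q : ZMod r)) (hc : c = if Even i then i else 2 * i) :
    (∀ x : ↥(Matrix.symplecticGroup (Fin d) F),
      (∃ z : F, ((x ^ r : ↥(Matrix.symplecticGroup (Fin d) F)) : Matrix (Fin d ⊕ Fin d) (Fin d ⊕ Fin d) F) = z • (1 : Matrix (Fin d ⊕ Fin d) (Fin d ⊕ Fin d) F)) →
      (∀ z : F, (x : Matrix (Fin d ⊕ Fin d) (Fin d ⊕ Fin d) F) ≠ z • (1 : Matrix (Fin d ⊕ Fin d) (Fin d ⊕ Fin d) F)) →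
      ∃ D : Fin t → Submodule F (Fin d ⊕ Fin d → F), (Cfsg.Geo.IsMDecomposition a D ∧ (∀ j, ∀ u ∈ D j, u ≠ 0 → ∃ v ∈ D j, Cfsg.sympForm d F u v ≠ 0) ∧
          (∀ j j', j ≠ j' → ∀ u ∈ D j, ∀ v ∈ D j', Cfsg.sympForm d F u v = 0)) ∧
        ∃ σ : Equiv.Perm (Fin t), ∀ j, (D j).map (Matrix.toLin' (x : Matrix (Fin d ⊕ Fin d) (Fin d ⊕ Fin d) F)) = D (σ j)) ↔
    (c ≤ a ∧ (2 * d) % c = t * (a % c)) := by
  subst hq
  classical
  have hA : (Forms.sympBilin d F).IsAlt := Forms.sympBilin_isAlt
  have hrF := Inv.cast_ne_zero_of_ne (F := F) hrp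
  have hr3 : 3 ≤ r := by have := (Fact.out : r.Prime).two_le; omega
  have hipos : 0 < i := hi ▸ Inv.orderOf_pos_of_ne (F := F) hrp
  obtain ⟨e, hce, hic⟩ := SympInv.c_facts (i := i) (c := c) hc
  have hcdvd : ∀ m, i ∣ 2 * m → c ∣ 2 * m := by
    intro m hm
    rw [hc]
    split_ifs with hev
    · exact hm
    · exact Nat.mul_dvd_mul_left 2 ((Nat.coprime_two_right.2 (Nat.not_even_iff_odd.1 hev)).dvd_of_dvd_mul_left hm)
  have hcpos : 0 < c := by rw [hc]; split_ifs <;> omega
  have hc2d : c ≤ 2 * d := by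
    have hne := SympInv.exists_isOrth (F := F) (d := d) ha hae ht hat
    have h := SympInv.dvd_card_Sp (F := F) hat hae hΩ hne
    rw [Symplectic.card_Sp rfl] at h
    obtain ⟨n₀, hn₀⟩ : ∃ n₀ : ℕ+, Fintype.card F = p ^ (n₀ : ℕ) :=
      let ⟨n₀, _, hn₀⟩ := FiniteField.card F p; ⟨n₀, hn₀⟩
    rcases (Fact.out : r.Prime).dvd_mul.1 h with h | h
    · rw [hn₀, ← pow_mul] at h
      exact absurd ((Nat.prime_dvd_prime_iff_eq Fact.out Fact.out).1 ((Fact.out : r.Prime).dvd_of_dvd_pow h)) hrp
    · obtain ⟨j, hj, hj'⟩ := ((Fact.out : r.Prime).prime.dvd_finsetProd_iff _).1 h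
      rw [← Inv.orderOf_dvd_iff_dvd_pow, ← hi] at hj'
      have := Nat.le_of_dvd (by omega) (hcdvd _ hj')
      have := Finset.mem_range.1 hj
      omega
  have hcr : c ≤ r - 1 := by
    have h0 : (Fintype.card F : ZMod r) ≠ 0 := by
      intro h0
      rw [hi, h0, orderOf_zero] at hipos
      exact lt_irrefl 0 hipos
    have hir : i ∣ r - 1 := hi ▸ orderOf_dvd_iff_pow_eq_one.2 (ZMod.pow_card_sub_one_eq_one h0)
    obtain ⟨m, hm⟩ := (Fact.out : r.Prime).odd_of_ne_two hr2
    exact Nat.le_of_dvd (by omega) (by rw [hm, Nat.add_sub_cancel] at hir ⊢; exact hcdvd _ hir)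
  constructor
  · intro hall
    have helt : ∀ s, 0 < s → s * c ≤ 2 * d → ∃ (f : Module.End F (Fin d ⊕ Fin d → F))
        (D : Fin t → Submodule F (Fin d ⊕ Fin d → F)) (σ : Equiv.Perm (Fin t)), f ^ r = 1 ∧
          (∀ u v, Forms.sympBilin d F (f u) (f v) = Forms.sympBilin d F u v) ∧
          finrank F (LinearMap.ker (f - 1)) = 2 * d - s * c ∧ SympInv.IsOrth a D ∧ ∀ j, (D j).map f = D (σ j) := by
      intro s hs hsc
      obtain ⟨x, hx, hxk⟩ := SympInv.exists_elt hrF hi hc hipos s hsc
      have hns : ∀ z : F, (x : Matrix (Fin d ⊕ Fin d) (Fin d ⊕ Fin d) F) ≠ z • 1 := by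
        intro z hz
        have hl : SympInv.lin x = z • 1 := by rw [SympInv.lin, hz, map_smul, Matrix.toLin'_one]; rfl
        have hzr : z ^ r = 1 := by
          have h1 := SympInv.lin_pow_eq_one hx
          rw [hl, smul_pow, one_pow] at h1
          have := congrArg (fun φ => φ (Symplectic.eI ⟨0, by omega⟩) (Sum.inl ⟨0, by omega⟩)) h1
          simpa [Symplectic.eI] using this
        have hz2 : z * z = 1 := by
          have h1 := SympInv.lin_form x (Symplectic.fI ⟨0, by omega⟩) (Symplectic.eI ⟨0, by omega⟩)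
          simpa [hl, Forms.sympBilin_apply, Symplectic.sympForm_smul_left, Symplectic.sympForm_smul_right,
            Symplectic.sympForm_fI_eI] using h1
        have hz1 : z = 1 := by
          obtain ⟨m, hm⟩ := (Fact.out : r.Prime).odd_of_ne_two hr2
          rw [hm, pow_succ, pow_mul, pow_two, hz2, one_pow, one_mul] at hzr
          exact hzr
        rw [hl, hz1, one_smul, sub_self, LinearMap.ker_zero, finrank_top, finrank_pi, Fintype.card_sum,
          Fintype.card_fin] at hxk
        have := Nat.mul_pos hs hcpos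
        omega
      obtain ⟨D, hD, σ, hσ⟩ := hall x ⟨1, by rw [hx, one_smul]; rfl⟩ hns
      exact ⟨SympInv.lin x, D, σ, SympInv.lin_pow_eq_one hx, SympInv.lin_form x, hxk, hD, hσ⟩
    have hblock : ∀ (f : Module.End F (Fin d ⊕ Fin d → F)) (D : Fin t → Submodule F (Fin d ⊕ Fin d → F)),
        f ^ r = 1 → (∀ u v, Forms.sympBilin d F (f u) (f v) = Forms.sympBilin d F u v) → SympInv.IsOrth a D →
        ∀ j, (D j).map f ≤ D j → a % c ≤ finrank F ↥(D j ⊓ LinearMap.ker (f - 1)) := by
      intro f D hf hform hD j hj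
      obtain ⟨k, hk⟩ := SympInv.dvd_moved hA hform hrF hf hi hc hj (SympInv.nd_of_isOrth hD j)
      have h := Inv.finrank_split f (D j)
      rw [hk, hD.1.finrank_eq j] at h
      rw [← h, Nat.add_comm, Nat.add_mul_mod_self_left]
      exact Nat.mod_le _ _
    have hca : c ≤ a := by
      by_contra hcon
      obtain ⟨f, D, σ, hf, hform, hk, hD, hσ⟩ := helt 1 one_pos (by omega)
      have hR := LinearMap.finrank_range_add_finrank_ker (f - 1)
      rw [hk, finrank_pi, Fintype.card_sum, Fintype.card_fin] at hR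
      have hσ1 : σ = 1 := by
        by_contra hne
        have h1 := (moved_bounds' hD.1 hσ hf hne).2
        have : (r - 1) * 2 ≤ (r - 1) * a := Nat.mul_le_mul_left _ ha
        omega
      have hDC : ∀ j, D j ≤ LinearMap.ker (f - 1) := fun j => by
        have h1 := hblock f D hf hform hD j (by rw [hσ, hσ1]; rfl)
        rw [Nat.mod_eq_of_lt (by omega), ← hD.1.finrank_eq j] at h1
        exact le_of_eq_of_le (Submodule.eq_of_le_of_finrank_le inf_le_left h1).symm inf_le_right
      have htop : LinearMap.ker (f - 1) = ⊤ := eq_top_iff.mpr (hD.1.iSup_eq_top ▸ iSup_le hDC)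
      rw [htop, finrank_top, finrank_pi, Fintype.card_sum, Fintype.card_fin] at hk
      omega
    refine ⟨hca, ?_⟩
    obtain ⟨f, D, σ, hf, hform, hk, hD, hσ⟩ := helt (2 * d / c) (Nat.div_pos hc2d hcpos) (Nat.div_mul_le_self _ c)
    have hdm := Nat.div_add_mod (2 * d) c
    rw [mul_comm] at hdm
    have hke : finrank F (LinearMap.ker (f - 1)) = 2 * d % c := by rw [hk]; omega
    have hlt0 := Nat.mod_lt (2 * d) hcpos
    have hσ1 : σ = 1 := by
      by_contra hne
      have h1 := (moved_bounds' hD.1 hσ hf hne).1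
      omega
    have hsum : ∑ j, finrank F ↥(D j ⊓ LinearMap.ker (f - 1)) ≤ 2 * d % c := by
      rw [← hke]
      exact Cfsg.Agent.S5958.sum_finrank_le _ _ (hD.1.indep.mono fun j => inf_le_left) fun j => inf_le_right
    have hle : t * (a % c) ≤ 2 * d % c := by
      refine le_trans ?_ hsum
      calc t * (a % c) = ∑ _j : Fin t, a % c := by simp
        _ ≤ _ := Finset.sum_le_sum fun j _ => hblock f D hf hform hD j (by rw [hσ, hσ1]; rfl)
    have hmod : 2 * d % c = (t * (a % c)) % c := by
      rw [hat, mul_comm a t]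
      exact (Nat.mul_mod_mod t a c).symm
    rw [hmod, Nat.mod_eq_of_lt (by omega)]
  · rintro ⟨-, hk⟩ x ⟨z, hxz⟩ -
    have hlr : SympInv.lin x ^ r = z • 1 := by
      rw [SympInv.lin, ← Matrix.toLin'_pow, ← SubmonoidClass.coe_pow, hxz, map_smul, Matrix.toLin'_one]; rfl
    have hz2 : z * z = 1 := by
      have h1 := SympInv.form_pow (SympInv.lin_form x) r (Symplectic.fI ⟨0, by omega⟩) (Symplectic.eI ⟨0, by omega⟩)
      simpa [hlr, Forms.sympBilin_apply, Symplectic.sympForm_smul_left, Symplectic.sympForm_smul_right,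
        Symplectic.sympForm_fI_eI] using h1
    set y : Module.End F (Fin d ⊕ Fin d → F) := z • SympInv.lin x with hy
    have hform : ∀ u v, Forms.sympBilin d F (y u) (y v) = Forms.sympBilin d F u v := fun u v => by
      simp only [hy, LinearMap.smul_apply, map_smul, smul_eq_mul, SympInv.lin_form, ← mul_assoc, hz2, one_mul]
    have hyr : y ^ r = 1 := by
      obtain ⟨m, hm⟩ := (Fact.out : r.Prime).odd_of_ne_two hr2
      rw [hy, smul_pow, hlr, smul_smul, ← pow_succ, hm, show 2 * m + 1 + 1 = 2 * (m + 1) by ring, pow_mul,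
        pow_two, hz2, one_pow, one_smul]
    obtain ⟨s, hs⟩ := SympInv.dvd_moved hA hform hrF hyr hi hc (W := ⊤) (by simp) SympInv.nd_top
    have h := Inv.finrank_split y ⊤
    rw [hs, top_inf_eq, finrank_top, finrank_pi, Fintype.card_sum, Fintype.card_fin, ← two_mul] at h
    have hle : t * (a % c) ≤ finrank F (LinearMap.ker (y - 1)) := by
      rw [← hk, ← h, Nat.add_comm, Nat.add_mul_mod_self_left]
      exact Nat.mod_le _ _
    obtain ⟨D, hD, hDo, hDs⟩ := SympInv.exists_blocks hA hform hrF hyr hi hc hr2 hcpos hae t (X := ⊤) (by simp)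
      SympInv.nd_top (by rw [finrank_top, finrank_pi, Fintype.card_sum, Fintype.card_fin, ← two_mul, hat, mul_comm])
      (by rwa [top_inf_eq])
    refine ⟨D, ⟨⟨ht, by omega, fun j => (hD j).2.2.2,
      SympInv.indep_of_orth hA D (fun j => (hD j).2.2.1) hDo, hDs⟩, ?_, ?_⟩, 1, fun j => ?_⟩
    · intro j u hu h0
      by_contra hcon
      push Not at hcon
      exact h0 ((hD j).2.2.1 u hu fun v hv => by rw [Forms.sympBilin_apply]; exact hcon v hv)
    · intro j j' hne u hu v hv
      rw [← Forms.sympBilin_apply]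
      exact hDo j j' hne u hu v hv
    · show (D j).map (SympInv.lin x) = D j
      have hle' := (hD j).2.1
      rw [hy, Submodule.map_smul _ _ _ (left_ne_zero_of_mul_eq_one hz2)] at hle'
      refine Submodule.eq_of_le_of_finrank_eq hle' (Submodule.equivMapOfInjective _ ?_ (D j)).finrank_eq.symm
      intro u v huv
      exact SympInv.injective hyr (by simp only [hy, LinearMap.smul_apply, huv])

end Cfsg.Agent.S5961
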