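import Cfsg.Statements.S5962
import Cfsg.Agent.Lib.Forms.Symp
import Cfsg.Agent.ClMax99.SympPair

set_option autoImplicit false
open scoped MatrixGroups
open Cfsg

namespace Cfsg.Agent.S5962


/-- Involutions of PSp_n(q), q odd, and the subgroups GL_{n/2}(q).2. Here `T = PSp_n(q)`, `n = 2d ≥ 4`, `q` odd, realised through the symplectic matrices over the field `F` with `q` elements; Ω is the set of unordered pairs `{U, W}` of complementary totally isotropic `d`-spaces (`F^n = U ⊕ W`), whose stabilizers are the subgroups of type GL_d(q).2 (maximal except in some small cases; maximality is not assumed); an element of `T` of prime order `r` (a symplectic matrix `x` with `x^r` scalar, `x` not scalar) fixes such a pair when it fixes or interchanges `U` and `W`. If the number of such pairs is even, every involution of `T` fixes one of them (the action is 2-elusive). -/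
theorem result {F : Type*} [Field F] [Fintype F] {p : ℕ} [Fact p.Prime] [CharP F p] {q : ℕ} (hq : Fintype.card F = q)
    (d : ℕ) (hd : 2 ≤ d) (hT : (d, q) ≠ (2, 2)) (hodd : Odd q)
    (hΩ : 2 ∣ Nat.card {P : Submodule F (Fin d ⊕ Fin d → F) × Submodule F (Fin d ⊕ Fin d → F) // IsCompl P.1 P.2 ∧ (∀ u ∈ P.1, ∀ v ∈ P.1, Cfsg.sympForm d F u v = 0) ∧ (∀ u ∈ P.2, ∀ v ∈ P.2, Cfsg.sympForm d F u v = 0)} / 2)
    (x : ↥(Matrix.symplecticGroup (Fin d) F))
    (hx1 : ∃ z : F, ((x ^ 2 : ↥(Matrix.symplecticGroup (Fin d) F)) : Matrix (Fin d ⊕ Fin d) (Fin d ⊕ Fin d) F) = z • (1 : Matrix (Fin d ⊕ Fin d) (Fin d ⊕ Fin d) F))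
    (hx2 : ∀ z : F, (x : Matrix (Fin d ⊕ Fin d) (Fin d ⊕ Fin d) F) ≠ z • (1 : Matrix (Fin d ⊕ Fin d) (Fin d ⊕ Fin d) F)) :
    ∃ U W : Submodule F (Fin d ⊕ Fin d → F), IsCompl U W ∧ (∀ u ∈ U, ∀ v ∈ U, Cfsg.sympForm d F u v = 0) ∧ (∀ u ∈ W, ∀ v ∈ W, Cfsg.sympForm d F u v = 0) ∧
        ((U.map (Matrix.toLin' (x : Matrix (Fin d ⊕ Fin d) (Fin d ⊕ Fin d) F)) = U ∧ W.map (Matrix.toLin' (x : Matrix (Fin d ⊕ Fin d) (Fin d ⊕ Fin d) F)) = W) ∨
         (U.map (Matrix.toLin' (x : Matrix (Fin d ⊕ Fin d) (Fin d ⊕ Fin d) F)) = W ∧ W.map (Matrix.toLin' (x : Matrix (Fin d ⊕ Fin d) (Fin d ⊕ Fin d) F)) = U)) := by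
  obtain ⟨z, hz⟩ := hx1
  have h2 : (2 : F) ≠ 0 := by
    intro h
    have : ringChar F ≠ 2 := by
      intro hc
      have h2q : Fintype.card F % 2 = 0 := FiniteField.even_card_iff_char_two.1 hc
      rw [hq] at h2q
      obtain ⟨k, hk⟩ := hodd
      omega
    exact Ring.two_ne_zero this h
  set A := (x : Matrix (Fin d ⊕ Fin d) (Fin d ⊕ Fin d) F) with hA
  have hform : ∀ u v, Cfsg.sympForm d F (A.mulVec u) (A.mulVec v) = Cfsg.sympForm d F u v :=
    (Cfsg.Agent.Symplectic.mem_iff_form A).1 x.2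
  have hsq : ∀ v, A.mulVec (A.mulVec v) = z • v := fun v => by
    rw [Matrix.mulVec_mulVec, ← pow_two, hA, ← SubmonoidClass.coe_pow, hz, Matrix.smul_mulVec,
      Matrix.one_mulVec]
  have hz1 : z = 1 ∨ z = -1 := by
    let i : Fin d := ⟨0, by omega⟩
    have e := hform (A.mulVec (Cfsg.Agent.Symplectic.fI i)) (A.mulVec (Cfsg.Agent.Symplectic.eI i))
    rw [hsq, hsq, hform, Cfsg.Agent.Symplectic.sympForm_smul_left,
      Cfsg.Agent.Symplectic.sympForm_smul_right, Cfsg.Agent.Symplectic.sympForm_fI_eI, mul_one] at e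
    exact mul_self_eq_one_iff.1 e
  obtain ⟨U, W, hc, hU, hW, hmap⟩ := Cfsg.Agent.ClMax99.SympPair.exists_pair_of_sq
    (Cfsg.Agent.Forms.sympBilin d F) h2 Cfsg.Agent.Forms.sympBilin_isAlt
    Cfsg.Agent.Forms.sympBilin_nondegenerate (Matrix.toLin' A)
    (fun u v => by simp [Cfsg.Agent.Forms.sympBilin_apply, Matrix.toLin'_apply, hform]) z hz1
    (fun v => by simp [Matrix.toLin'_apply, hsq])
  exact ⟨U, W, hc, fun u hu v hv => by simpa [Cfsg.Agent.Forms.sympBilin_apply] using hU u hu v hv,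
    fun u hu v hv => by simpa [Cfsg.Agent.Forms.sympBilin_apply] using hW u hu v hv, hmap⟩

end Cfsg.Agent.S5962
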