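import Cfsg.Statements.S5963
import Cfsg.Agent.ClMax99.SympElt
import Cfsg.Agent.ClMax99.SympPairCount

set_option autoImplicit false
open scoped MatrixGroups
open Cfsg

namespace Cfsg.Agent.S5963

open Cfsg.Agent.Symplectic Cfsg.Agent.ClMax99

/-- Derangements of odd prime order of PSp_n(q), q odd, on pairs of complementary totally isotropic subspaces. Here `T = PSp_n(q)`, `n = 2d ≥ 4`, `q` odd, realised through the symplectic matrices over the field `F` with `q` elements; Ω is the set of unordered pairs `{U, W}` of complementary totally isotropic `d`-spaces (`F^n = U ⊕ W`), whose stabilizers are the subgroups of type GL_d(q).2 (maximal except in some small cases; maximality is not assumed); an element of `T` of prime order `r` (a symplectic matrix `x` with `x^r` scalar, `x` not scalar) fixes such a pair when it fixes or interchanges `U` and `W`. For every odd prime `r ≠ p` dividing the number of such pairs, some element of `T` of order `r` fixes no such pair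 (the action is never `r`-elusive for odd `r ≠ p`). -/
theorem result {F : Type*} [Field F] [Fintype F] {p : ℕ} [Fact p.Prime] [CharP F p] {q : ℕ} (hq : Fintype.card F = q)
    (d : ℕ) (hd : 2 ≤ d) (hT : (d, q) ≠ (2, 2)) (hodd : Odd q)
    (r : ℕ) [Fact r.Prime] (hr2 : r ≠ 2) (hrp : r ≠ p) (hΩ : r ∣ Nat.card {P : Submodule F (Fin d ⊕ Fin d → F) × Submodule F (Fin d ⊕ Fin d → F) // IsCompl P.1 P.2 ∧ (∀ u ∈ P.1, ∀ v ∈ P.1, Cfsg.sympForm d F u v = 0) ∧ (∀ u ∈ P.2, ∀ v ∈ P.2, Cfsg.sympForm d F u v = 0)} / 2) :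
    ∃ x : ↥(Matrix.symplecticGroup (Fin d) F),
      (∃ z : F, ((x ^ r : ↥(Matrix.symplecticGroup (Fin d) F)) : Matrix (Fin d ⊕ Fin d) (Fin d ⊕ Fin d) F) = z • (1 : Matrix (Fin d ⊕ Fin d) (Fin d ⊕ Fin d) F)) ∧
      (∀ z : F, (x : Matrix (Fin d ⊕ Fin d) (Fin d ⊕ Fin d) F) ≠ z • (1 : Matrix (Fin d ⊕ Fin d) (Fin d ⊕ Fin d) F)) ∧
      ¬ (∃ U W : Submodule F (Fin d ⊕ Fin d → F), IsCompl U W ∧ (∀ u ∈ U, ∀ v ∈ U, Cfsg.sympForm d F u v = 0) ∧ (∀ u ∈ W, ∀ v ∈ W, Cfsg.sympForm d F u v = 0) ∧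
        ((U.map (Matrix.toLin' (x : Matrix (Fin d ⊕ Fin d) (Fin d ⊕ Fin d) F)) = U ∧ W.map (Matrix.toLin' (x : Matrix (Fin d ⊕ Fin d) (Fin d ⊕ Fin d) F)) = W) ∨
         (U.map (Matrix.toLin' (x : Matrix (Fin d ⊕ Fin d) (Fin d ⊕ Fin d) F)) = W ∧ W.map (Matrix.toLin' (x : Matrix (Fin d ⊕ Fin d) (Fin d ⊕ Fin d) F)) = U))) := by
  classical
  · have hrP : r.Prime := Fact.out
    have hr3 : 3 ≤ r := by have := hrP.two_le; omega
    have hqodd : q % 2 = 1 := Nat.odd_iff.1 hodd
    have hrF : (r : F) ≠ 0 := fun h => hrp ((Nat.prime_dvd_prime_iff_eq Fact.out hrP).1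
      ((CharP.cast_eq_zero_iff F p r).1 h)).symm
    have hrq : ¬ r ∣ q := fun h => by
      have := FiniteField.cast_card_eq_zero F
      rw [hq] at this
      obtain ⟨c, rfl⟩ := h
      obtain ⟨n, hn, hpn⟩ := FiniteField.card F p
      rw [hq] at hpn
      exact hrp ((Nat.prime_dvd_prime_iff_eq hrP Fact.out).1 (hrP.dvd_of_dvd_pow (hpn ▸ Dvd.intro c rfl)))
    -- the count
    set Ω := {P : Submodule F (Fin d ⊕ Fin d → F) × Submodule F (Fin d ⊕ Fin d → F) // SympPair.Polar P}
    change r ∣ Nat.card Ω / 2 at hΩ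
    have hcard : Nat.card Ω * q ^ (∑ i ∈ Finset.range d, i) =
        q ^ (d ^ 2) * ∏ i ∈ Finset.range d, (q ^ (i + 1) + 1) := SympPair.card_polar q hq
    have h2Ω : 2 ∣ Nat.card Ω := by
      have h2 : 2 ∣ Nat.card Ω * q ^ (∑ i ∈ Finset.range d, i) := by
        rw [hcard]
        refine Dvd.dvd.mul_left ?_ _
        refine Dvd.dvd.trans ?_ (Finset.dvd_prod_of_mem _ (Finset.mem_range.2 (show 0 < d by omega)))
        rw [zero_add, pow_one]
        omega
      rcases Nat.prime_two.dvd_mul.1 h2 with h | h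
      · exact h
      · exact absurd (Nat.prime_two.dvd_of_dvd_pow h) (by omega)
    have hrΩ : r ∣ Nat.card Ω := hΩ.trans (Nat.div_dvd_of_dvd h2Ω)
    obtain ⟨j, hj, hrj⟩ : ∃ j < d, r ∣ q ^ (j + 1) + 1 := by
      have h := (Dvd.dvd.mul_right hrΩ (q ^ (∑ i ∈ Finset.range d, i)))
      rw [hcard] at h
      rcases hrP.dvd_mul.1 h with h | h
      · exact absurd (hrP.dvd_of_dvd_pow h) hrq
      · obtain ⟨j, hj, hrj⟩ := (Prime.dvd_finsetProd_iff hrP.prime _).1 h
        exact ⟨j, Finset.mem_range.1 hj, hrj⟩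
    -- the order of `q` modulo `r`
    set i := orderOf (q : ZMod r) with hi
    have hj1 : (q : ZMod r) ^ (j + 1) = -1 := by
      rw [eq_neg_iff_add_eq_zero]
      have := (ZMod.natCast_eq_zero_iff (q ^ (j + 1) + 1) r).2 hrj
      simpa using this
    have hne : (-1 : ZMod r) ≠ 1 := by
      intro h
      have h2 : ((2 : ℕ) : ZMod r) = 0 := by push_cast; linear_combination -h
      have := Nat.le_of_dvd (by norm_num) ((ZMod.natCast_eq_zero_iff _ _).1 h2)
      omega
    have hi2 : i ∣ 2 * (j + 1) := orderOf_dvd_of_pow_eq_one (by rw [mul_comm, pow_mul, hj1]; simp)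
    have hnij : ¬ i ∣ j + 1 := fun h => hne (hj1.symm.trans (orderOf_dvd_iff_pow_eq_one.1 h))
    obtain ⟨e, hei⟩ : 2 ∣ i := by
      by_contra h
      exact hnij ((Nat.Coprime.dvd_of_dvd_mul_left ((Nat.Prime.coprime_iff_not_dvd Nat.prime_two).2 h).symm hi2))
    have hed : e ∣ j + 1 := Nat.dvd_of_mul_dvd_mul_left (by norm_num) (hei ▸ hi2)
    have he1 : 1 ≤ e := Nat.pos_of_dvd_of_pos hed (by omega)
    have hele : e ≤ d := (Nat.le_of_dvd (by omega) hed).trans hj
    have hqe : r ∣ q ^ e + 1 := by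
      have h1 : ((q : ZMod r) ^ e) ^ 2 = 1 := by rw [← pow_mul, mul_comm, ← hei, hi, pow_orderOf_eq_one]
      have h2 : (q : ZMod r) ^ e ≠ 1 := fun h => by
        have := Nat.le_of_dvd he1 (hi ▸ orderOf_dvd_of_pow_eq_one h)
        omega
      have h3 : (q : ZMod r) ^ e = -1 := (sq_eq_one_iff.1 h1).resolve_left h2
      rw [← ZMod.natCast_eq_zero_iff]
      push_cast
      rw [h3, neg_add_cancel]
    obtain ⟨x, hxr, hx1, hdim⟩ := SympElt.exists_moved (F := F) he1 hele (r := r) (hq.symm ▸ hqe)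
    set A := (x : Matrix (Fin d ⊕ Fin d) (Fin d ⊕ Fin d) F) with hA
    have hform : ∀ u v, Cfsg.sympForm d F (A.mulVec u) (A.mulVec v) = Cfsg.sympForm d F u v :=
      (mem_iff_form A).1 x.2
    have hfr : (Matrix.toLin' A) ^ r = 1 := by
      rw [← Matrix.toLin'_pow, hA, ← SubmonoidClass.coe_pow, hxr]
      exact Matrix.toLin'_one
    have hAne : A ≠ 1 := fun h => hx1 (Subtype.ext h)
    refine ⟨x, ⟨1, by rw [hxr]; simp⟩, fun z hz => ?_, ?_⟩
    · let k : Fin d := ⟨0, by omega⟩
      have e1 := hform (fI k) (eI k)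
      rw [hA, hz, Matrix.smul_mulVec, Matrix.smul_mulVec, Matrix.one_mulVec, Matrix.one_mulVec,
        sympForm_smul_left, sympForm_smul_right, sympForm_fI_eI, mul_one] at e1
      have e2 : z ^ r = 1 := by
        have h := congrArg (fun y : ↥(Matrix.symplecticGroup (Fin d) F) =>
          (y : Matrix (Fin d ⊕ Fin d) (Fin d ⊕ Fin d) F) (Sum.inl k) (Sum.inl k)) hxr
        simp only [SubmonoidClass.coe_pow, hA.symm, OneMemClass.coe_one, Matrix.one_apply_eq] at h
        rw [show A = z • (1 : Matrix (Fin d ⊕ Fin d) (Fin d ⊕ Fin d) F) from hz, smul_pow, one_pow] at h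
        simpa using h
      obtain ⟨s, hs⟩ := hrP.odd_of_ne_two hr2
      rw [hs, pow_succ, pow_mul, show z ^ 2 = 1 by rw [pow_two, e1], one_pow, one_mul] at e2
      exact hAne (by rw [show A = z • (1 : Matrix (Fin d ⊕ Fin d) (Fin d ⊕ Fin d) F) from hz, e2, one_smul])
    rintro ⟨U, W, hUW, hU, hW, hfix⟩
    set f := Matrix.toLin' A with hf
    have hdimU := (SympPair.finrank_polar (P := (U, W)) ⟨hUW, hU, hW⟩).1
    have hfix' : U.map f ≤ U ∧ W.map f ≤ W := by
      rcases hfix with ⟨h1, h2⟩ | ⟨h1, h2⟩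
      · exact ⟨h1.le, h2.le⟩
      · exfalso
        have heven : ∀ s, U.map (f ^ (2 * s)) = U := fun s => by
          induction s with
          | zero => simp [Module.End.one_eq_id]
          | succ s ih =>
            rw [show 2 * (s + 1) = 2 + 2 * s by ring, pow_add, Module.End.mul_eq_comp, Submodule.map_comp,
              ih, pow_two, Module.End.mul_eq_comp, Submodule.map_comp, h1, h2]
        obtain ⟨s, hs⟩ := hrP.odd_of_ne_two hr2
        have h3 : U.map (f ^ r) = W := by
          rw [hs, pow_succ', Module.End.mul_eq_comp, Submodule.map_comp, heven, h1]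
        rw [hfr, Module.End.one_eq_id, Submodule.map_id] at h3
        subst h3
        have h4 := hUW.disjoint.eq_bot_of_self
        rw [h4, finrank_bot] at hdimU
        omega
    set M := LinearMap.range (f - 1) with hM
    have hinjOr : ∀ Z : Submodule F (Fin d ⊕ Fin d → F),
        (∀ u ∈ Z, ∀ v ∈ Z, Cfsg.sympForm d F u v = 0) → Z.map f ≤ Z → ∀ u ∈ Z, f u = u := by
      intro Z hZ hZf u hu
      by_contra hne'
      have hmem : (f - 1) u ∈ Z.map (f - 1) := ⟨u, hu, rfl⟩
      have hdvd := Inv.dvd_finrank_moved hrF hfr hZf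
      rw [hq, ← hi, hei] at hdvd
      have hpos : 0 < Module.finrank F (Z.map (f - 1)) := by
        refine Nat.pos_of_ne_zero fun h0 => hne' ?_
        have : Z.map (f - 1) = ⊥ := Submodule.finrank_eq_zero.1 h0
        rw [this, Submodule.mem_bot, LinearMap.sub_apply, Module.End.one_apply, sub_eq_zero] at hmem
        exact hmem
      have hsub : Z.map (f - 1) ≤ M := LinearMap.map_le_range
      have hEq : Z.map (f - 1) = M := Submodule.eq_of_le_of_finrank_le hsub
        (le_trans hdim (Nat.le_of_dvd hpos hdvd))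
      have hMZ : M ≤ Z := hEq ▸ (by
        rintro _ ⟨v, hv, rfl⟩
        exact Z.sub_mem (hZf ⟨v, hv, rfl⟩) hv)
      have hker : ∀ m ∈ M, ∀ c ∈ LinearMap.ker (f - 1), Cfsg.sympForm d F m c = 0 := by
        rintro _ ⟨v, rfl⟩ c hc
        rw [LinearMap.mem_ker, LinearMap.sub_apply, Module.End.one_apply, sub_eq_zero] at hc
        have e := hform v c
        rw [← Matrix.toLin'_apply, ← Matrix.toLin'_apply, ← hf, hc] at e
        rw [LinearMap.sub_apply, Module.End.one_apply, sympForm_sub_left, e, sub_self]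
      have htop : LinearMap.ker (f - 1) ⊔ M = ⊤ := by
        refine Submodule.eq_top_of_disjoint _ _ ?_ (Inv.disjoint_ker_range hrF hfr)
        rw [add_comm, LinearMap.finrank_range_add_finrank_ker]
      refine hne' (sub_eq_zero.1 (Cfsg.Agent.Forms.sympForm_left_cancel fun v => ?_))
      obtain ⟨c, hc, m, hm, rfl⟩ := Submodule.mem_sup.1 (htop ▸ Submodule.mem_top :
        v ∈ LinearMap.ker (f - 1) ⊔ M)
      have hmemM : f u - u ∈ M := ⟨u, by simp⟩
      rw [sympForm_add_right, hker _ hmemM c hc, hZ _ (hMZ hmemM) _ (hMZ hm), add_zero]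
    refine hAne (Matrix.toLin'.injective ?_)
    rw [Matrix.toLin'_one]
    refine LinearMap.ext fun v => ?_
    obtain ⟨a, ha, b, hb, rfl⟩ := Submodule.mem_sup.1 (hUW.sup_eq_top ▸ Submodule.mem_top : v ∈ U ⊔ W)
    rw [← hf, map_add, hinjOr U hU hfix'.1 a ha, hinjOr W hW hfix'.2 b hb]
    rfl

end Cfsg.Agent.S5963
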