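import Cfsg.Statements.S5964
import Cfsg.Agent.ClMax99.JordanBasis
import Cfsg.Agent.ClMax99.JordanSL
import Cfsg.Agent.ClMax99.InvElt
import Cfsg.Agent.Lib.LinearGroup.Card

set_option autoImplicit false
set_option maxHeartbeats 800000
open scoped MatrixGroups
open Cfsg

namespace Cfsg.Agent.S5964

open Cfsg.Agent.ClMax99 Matrix Module

variable {F : Type*} [Field F] [Fintype F]

theorem scalars_normal (n : ℕ) : (Cfsg.Geo.scalars (Fin n) F).Normal := by
  refine ⟨fun s hs g => ?_⟩
  obtain ⟨c, hc⟩ := (Cfsg.Geo.mem_scalars_iff s).1 hs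
  suffices g * s * g⁻¹ = s by rw [this]; exact hs
  apply Units.ext
  rw [Units.val_mul, Units.val_mul, hc, Matrix.mul_smul, mul_one, Matrix.smul_mul, ← Units.val_mul,
    mul_inv_cancel, Units.val_one]

theorem mem_sub_iff {n : ℕ} (F₀ : Subfield F) (A : GL (Fin n) F) :
    A ∈ Cfsg.Geo.subfieldSubgroup F₀ 1 ↔ ∃ (g : GL (Fin n) F₀) (c : Fˣ),
      (A : Matrix (Fin n) (Fin n) F) = (c : F) • ((g : Matrix (Fin n) (Fin n) F₀).map (F₀.subtype)) := by
  haveI := scalars_normal (F := F) n
  have h1 : Cfsg.Geo.subfieldSubgroup F₀ (1 : GL (Fin n) F) =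
      (Matrix.GeneralLinearGroup.map (F₀.subtype : F₀ →+* F)).range ⊔ Cfsg.Geo.scalars (Fin n) F := by
    rw [Cfsg.Geo.subfieldSubgroup, show (MulAut.conj (1 : GL (Fin n) F)).toMonoidHom = MonoidHom.id _ from by
      ext; simp]
    exact Subgroup.map_id _
  rw [h1, Subgroup.mem_sup_of_normal_right]
  constructor
  · rintro ⟨y, ⟨g, rfl⟩, s, hs, rfl⟩
    obtain ⟨c, hc⟩ := (Cfsg.Geo.mem_scalars_iff s).1 hs
    exact ⟨g, c, by rw [Units.val_mul, hc, Matrix.mul_smul, mul_one]; rfl⟩
  · rintro ⟨g, c, hA⟩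
    refine ⟨Matrix.GeneralLinearGroup.map (F₀.subtype : F₀ →+* F) g, ⟨g, rfl⟩,
      Units.map (Matrix.scalar (Fin n) : F →+* Matrix (Fin n) (Fin n) F).toMonoidHom c, ⟨c, rfl⟩, Units.ext ?_⟩
    rw [Units.val_mul, hA]
    show (g : Matrix (Fin n) (Fin n) F₀).map F₀.subtype * Matrix.scalar (Fin n) (c : F) = _
    rw [Matrix.scalar_apply, ← Matrix.smul_one_eq_diagonal, Matrix.mul_smul, mul_one]

/-- An element similar to a scalar multiple of a subfield matrix with big centralizer is conjugate into `H`. -/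
theorem conj_sub {n : ℕ} (F₀ : Subfield F) (x : Matrix.SpecialLinearGroup (Fin n) F) {c : F} (hc : c ≠ 0)
    (P : GL (Fin n) F) (S0 : Matrix (Fin n) (Fin n) F₀) (hS0 : IsUnit S0)
    (hxP : (x : Matrix (Fin n) (Fin n) F) * (P : Matrix (Fin n) (Fin n) F) =
      (P : Matrix (Fin n) (Fin n) F) * (c • S0.map F₀.subtype))
    (hC : ∀ d : F, d ≠ 0 → ∃ C : Matrix (Fin n) (Fin n) F, C.det = d ∧
      C * S0.map F₀.subtype = S0.map F₀.subtype * C) :
    ∃ Q : Matrix.SpecialLinearGroup (Fin n) F, Q⁻¹ * x * Q ∈ ((Cfsg.Geo.subfieldSubgroup F₀ 1).comap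
      (Matrix.SpecialLinearGroup.toGL : Matrix.SpecialLinearGroup (Fin n) F →* GL (Fin n) F)) := by
  have hdP : (P : Matrix (Fin n) (Fin n) F).det ≠ 0 := ((Matrix.isUnit_iff_isUnit_det _).1 P.isUnit).ne_zero
  obtain ⟨C, hCd, hCS⟩ := hC _ (inv_ne_zero hdP)
  let Q : Matrix.SpecialLinearGroup (Fin n) F :=
    ⟨(P : Matrix (Fin n) (Fin n) F) * C, by rw [Matrix.det_mul, hCd, mul_inv_cancel₀ hdP]⟩
  obtain ⟨u, hu⟩ := hS0
  refine ⟨Q, ?_⟩
  change Matrix.SpecialLinearGroup.toGL (Q⁻¹ * x * Q) ∈ Cfsg.Geo.subfieldSubgroup F₀ 1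
  rw [mem_sub_iff]
  refine ⟨u, Units.mk0 c hc, ?_⟩
  rw [Matrix.SpecialLinearGroup.coe_GL_coe_matrix, Units.val_mk0, hu]
  have hxQ : (x : Matrix (Fin n) (Fin n) F) * (Q : Matrix (Fin n) (Fin n) F) =
      (Q : Matrix (Fin n) (Fin n) F) * (c • S0.map F₀.subtype) := by
    show _ * ((P : Matrix (Fin n) (Fin n) F) * C) = ((P : Matrix (Fin n) (Fin n) F) * C) * _
    rw [← mul_assoc, hxP, mul_assoc, mul_assoc, Matrix.mul_smul C, hCS, Matrix.smul_mul]
  show ((Q⁻¹ * x * Q : Matrix.SpecialLinearGroup (Fin n) F) : Matrix (Fin n) (Fin n) F) = _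
  rw [Matrix.SpecialLinearGroup.coe_mul, Matrix.SpecialLinearGroup.coe_mul, mul_assoc, hxQ, ← mul_assoc,
    ← Matrix.SpecialLinearGroup.coe_mul, inv_mul_cancel, Matrix.SpecialLinearGroup.coe_one, one_mul]

/-- The index is odd for odd `k` and odd `q₀`. -/
theorem index_odd {q q₀ k n : ℕ} (hn : 1 ≤ n) (hq : Fintype.card F = q) (F₀ : Subfield F)
    (hF₀ : Nat.card ↥F₀ = q₀) (hqk : q = q₀ ^ k) (hodd : Odd q₀) (hk : Odd k) :
    ¬ 2 ∣ ((Cfsg.Geo.subfieldSubgroup F₀ 1).comap
      (Matrix.SpecialLinearGroup.toGL : Matrix.SpecialLinearGroup (Fin n) F →* GL (Fin n) F)).index := by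
  classical
  set H := ((Cfsg.Geo.subfieldSubgroup F₀ 1).comap
      (Matrix.SpecialLinearGroup.toGL : Matrix.SpecialLinearGroup (Fin n) F →* GL (Fin n) F))
  haveI : Fintype F₀ := Fintype.ofFinite F₀
  let ι : Matrix.SpecialLinearGroup (Fin n) F₀ →* Matrix.SpecialLinearGroup (Fin n) F :=
    Matrix.SpecialLinearGroup.map (F₀.subtype : F₀ →+* F)
  have hι : ∀ g : Matrix.SpecialLinearGroup (Fin n) F₀, (ι g : Matrix (Fin n) (Fin n) F) =
      (g : Matrix (Fin n) (Fin n) F₀).map F₀.subtype := fun g => rfl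
  have hιi : Function.Injective ι := fun a b h => Subtype.ext
    (Matrix.map_injective (f := (F₀.subtype : F₀ → F)) F₀.subtype.injective (congrArg Subtype.val h))
  have hle : ι.range ≤ H := by
    rintro _ ⟨g, rfl⟩
    change Matrix.SpecialLinearGroup.toGL (ι g) ∈ Cfsg.Geo.subfieldSubgroup F₀ 1
    rw [mem_sub_iff]
    refine ⟨Matrix.SpecialLinearGroup.toGL g, 1, ?_⟩
    rw [Matrix.SpecialLinearGroup.coe_GL_coe_matrix, Matrix.SpecialLinearGroup.coe_GL_coe_matrix, Units.val_one,
      one_smul, hι]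
  obtain ⟨K, hK⟩ : Nat.card (Matrix.SpecialLinearGroup (Fin n) F₀) ∣ Nat.card H := by
    rw [Nat.card_congr (MonoidHom.ofInjective hιi).toEquiv]
    exact Subgroup.card_dvd_of_le hle
  obtain ⟨m, rfl⟩ : ∃ m, n = m + 1 := ⟨n - 1, by omega⟩
  have h := H.index_mul_card
  rw [hK, LinearGroup.card_SL_eq_pow_mul_prod (F := F) m, LinearGroup.card_SL_eq_pow_mul_prod (F := F₀) m,
    Nat.card_eq_fintype_card (α := F), hq, hF₀] at h
  set a := ∑ i : Fin (m + 1), (i : ℕ)
  have hgeom : ∀ j, q ^ j - 1 = (q₀ ^ j - 1) * ∑ l ∈ Finset.range k, (q₀ ^ j) ^ l := fun j => by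
    rw [hqk, ← pow_mul, mul_comm k j, pow_mul]
    have h1 : 1 ≤ q₀ ^ j := Nat.one_le_pow _ _ hodd.pos
    obtain ⟨b, hb⟩ : ∃ b, q₀ ^ j = b + 1 := ⟨q₀ ^ j - 1, by omega⟩
    rw [hb, Nat.add_sub_cancel, ← geom_sum_mul_add b k, Nat.add_sub_cancel, mul_comm]
  have hP : ∏ i ∈ Finset.range m, (q ^ (i + 2) - 1) = (∏ i ∈ Finset.range m, (q₀ ^ (i + 2) - 1)) *
      ∏ i ∈ Finset.range m, ∑ l ∈ Finset.range k, (q₀ ^ (i + 2)) ^ l := by
    rw [← Finset.prod_mul_distrib]; exact Finset.prod_congr rfl fun i _ => hgeom _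
  have hqa : q ^ a = q₀ ^ a * q₀ ^ ((k - 1) * a) := by
    rw [← pow_add, hqk, ← pow_mul]
    congr 1
    obtain ⟨k', rfl⟩ : ∃ k', k = k' + 1 := ⟨k - 1, by have := hk.pos; omega⟩
    simp; ring
  have hq01 : 1 < q₀ := by
    rw [← hF₀]; exact Finite.one_lt_card
  set P0 := ∏ i ∈ Finset.range m, (q₀ ^ (i + 2) - 1)
  have hP0 : 0 < q₀ ^ a * P0 := Nat.mul_pos (Nat.pow_pos (by omega))
    (Finset.prod_pos fun i _ => Nat.sub_pos_of_lt (Nat.one_lt_pow (by omega) hq01))
  have h2 : H.index * K = q₀ ^ ((k - 1) * a) * ∏ i ∈ Finset.range m, ∑ l ∈ Finset.range k, (q₀ ^ (i + 2)) ^ l := by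
    apply Nat.eq_of_mul_eq_mul_left hP0
    rw [hqa, hP] at h
    linarith
  intro h2d
  have hd : 2 ∣ q₀ ^ ((k - 1) * a) * ∏ i ∈ Finset.range m, ∑ l ∈ Finset.range k, (q₀ ^ (i + 2)) ^ l :=
    h2 ▸ h2d.mul_right K
  rcases Nat.prime_two.dvd_mul.1 hd with h3 | h3
  · exact absurd (Nat.prime_two.dvd_of_dvd_pow h3) (by rw [Nat.two_dvd_ne_zero]; exact Nat.odd_iff.1 hodd)
  · obtain ⟨i, -, hi⟩ := (Prime.dvd_finsetProd_iff Nat.prime_two.prime _).1 h3
    have hpar : ∀ k, (∑ l ∈ Finset.range k, (q₀ ^ (i + 2)) ^ l) % 2 = k % 2 := by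
      intro k
      induction k with
      | zero => simp
      | succ k ih =>
        rw [Finset.sum_range_succ, Nat.add_mod, ih, ← pow_mul, Nat.pow_mod, Nat.odd_iff.1 hodd]
        simp [Nat.add_mod]
    have := hpar k
    rw [Nat.odd_iff.1 hk] at this
    omega

/-- Involutions of PSL_n(q) and subfield subgroups. Here `T = PSL_n(F)` for a field `F` with `q = p^f` elements (`n ≥ 2`, `(n, q) ≠ (2, 2), (2, 3)`), `F₀` is the subfield with `q₀` elements where `q = q₀^k` for a prime `k`, and `H` is the subgroup of matrices of determinant 1 lying in the subfield group of `F₀` (invertible matrices over `F₀` times scalars) — a maximal subgroup of type GL_n(q₀) (the case `n = 2`, `q₀ = 2` is excluded); Ω is the set of `T`-conjugates of `H` (cosets of `H`), so an element of `T` of prime order `r` (a matrix `x` of determinant 1 with `x^r` scalar, `x` not scalar) fixes a point of Ω when some conjugate of `x` by a matrix of determinant 1 lies in `H`. Suppose the index of `H` is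 even. Then every involution of `T` is conjugate in `T` into `H` if and only if either `q` is even, or `k = 2` and `(n)_2 ≤ (q − 1)_2`. (For `q` odd and `k` odd the index of `H` is odd, so that case does not arise.) -/
theorem result {F : Type*} [Field F] [Fintype F] {p : ℕ} [Fact p.Prime] [CharP F p] {q : ℕ} (hq : Fintype.card F = q)
    (n : ℕ) (hn : 2 ≤ n) (hT : (n, q) ≠ (2, 2) ∧ (n, q) ≠ (2, 3))
    (F₀ : Subfield F) (k q₀ : ℕ) (hk : k.Prime) (hF₀ : Nat.card ↥F₀ = q₀) (hqk : q = q₀ ^ k) (hC5 : ¬ (n = 2 ∧ q₀ = 2)) (hΩ : 2 ∣ ((Cfsg.Geo.subfieldSubgroup F₀ 1).comap (Matrix.SpecialLinearGroup.toGL : Matrix.SpecialLinearGroup (Fin n) F →* GL (Fin n) F)).index) :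
    (∀ x : Matrix.SpecialLinearGroup (Fin n) F,
      (∃ z : F, ((x ^ 2 : Matrix.SpecialLinearGroup (Fin n) F) : Matrix (Fin n) (Fin n) F) = z • (1 : Matrix (Fin n) (Fin n) F)) →
      (∀ z : F, (x : Matrix (Fin n) (Fin n) F) ≠ z • (1 : Matrix (Fin n) (Fin n) F)) →
      ∃ P : Matrix.SpecialLinearGroup (Fin n) F, P⁻¹ * x * P ∈ ((Cfsg.Geo.subfieldSubgroup F₀ 1).comap (Matrix.SpecialLinearGroup.toGL : Matrix.SpecialLinearGroup (Fin n) F →* GL (Fin n) F))) ↔
    (Odd q → (k = 2 ∧ padicValNat 2 n ≤ padicValNat 2 (q - 1))) := by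
  classical
  haveI : Fact (Nat.Prime 2) := ⟨Nat.prime_two⟩
  have hn0 : 0 < n := by omega
  haveI : Nonempty (Fin n) := ⟨⟨0, hn0⟩⟩
  haveI : Fintype F₀ := Fintype.ofFinite F₀
  have hq0 : Fintype.card F₀ = q₀ := Nat.card_eq_fintype_card (α := F₀) ▸ hF₀
  have hz_ne : ∀ (x : Matrix.SpecialLinearGroup (Fin n) F) (z : F),
      ((x ^ 2 : Matrix.SpecialLinearGroup (Fin n) F) : Matrix (Fin n) (Fin n) F) = z • 1 → z ≠ 0 := by
    intro x z hz e
    have hd := (x ^ 2).2
    rw [hz, e, zero_smul, Matrix.det_zero] at hd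
    exact zero_ne_one hd
  constructor
  · intro hall hqodd
    have hq0odd : Odd q₀ := by
      rw [hqk] at hqodd
      exact (Nat.odd_pow_iff hk.ne_zero).1 hqodd
    have hrc : ringChar F ≠ 2 := fun h => by
      have h2 : Fintype.card F % 2 = 0 := FiniteField.even_card_iff_char_two.1 h
      rw [hq] at h2
      have := Nat.odd_iff.1 hqodd
      omega
    rcases hk.eq_two_or_odd with hk2 | hkodd
    swap
    · exact absurd hΩ (index_odd (by omega) hq F₀ hF₀ hqk hq0odd (Nat.odd_iff.2 hkodd))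
    refine ⟨hk2, ?_⟩
    by_contra hgap
    replace hgap : padicValNat 2 (q - 1) < padicValNat 2 n := not_le.1 hgap
    subst hk2
    set s := padicValNat 2 (q - 1)
    obtain ⟨o, ho⟩ : 2 ^ s ∣ q - 1 := pow_padicValNat_dvd
    have hq1 : 1 < q := hq ▸ Fintype.one_lt_card
    have hoodd : o % 2 = 1 := by
      by_contra hne
      have : 2 ^ (s + 1) ∣ q - 1 := by
        rw [pow_succ, ho]; exact mul_dvd_mul_left _ (by omega)
      have := (padicValNat_dvd_iff_le (by omega)).1 this
      omega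
    obtain ⟨g, hg⟩ := IsCyclic.exists_generator (α := Fˣ)
    have hgo : orderOf g = q - 1 := by
      rw [orderOf_eq_card_of_forall_mem_zpowers hg, Nat.card_units, Nat.card_eq_fintype_card, hq]
    set w : F := ((g ^ o : Fˣ) : F) with hw
    have hw0 : w ≠ 0 := Units.ne_zero _
    have hs1 : 1 ≤ s := by
      refine Nat.pos_of_ne_zero fun h0 => ?_
      have := Nat.odd_iff.1 hqodd
      rw [h0, pow_zero, one_mul] at ho
      omega
    obtain ⟨s', hs'⟩ : ∃ s', s = s' + 1 := ⟨s - 1, by omega⟩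
    have hwns : ¬ IsSquare w := by
      rw [FiniteField.isSquare_iff hrc hw0]
      intro h
      have h1 : g ^ (o * (Fintype.card F / 2)) = 1 := by
        refine Units.ext ?_
        rw [pow_mul, Units.val_pow_eq_pow_val, Units.val_one]
        exact h
      have h2 := orderOf_dvd_of_pow_eq_one h1
      rw [hgo, hq, show q / 2 = 2 ^ s' * o by
        rw [show q = 2 * (2 ^ s' * o) + 1 by rw [← mul_assoc, ← pow_succ', ← hs', ← ho]; omega]; omega,
        ho, hs', pow_succ] at h2
      have hpos : 0 < 2 ^ s' * o := Nat.mul_pos (Nat.pow_pos (by norm_num)) (by omega)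
      rw [show o * (2 ^ s' * o) = (2 ^ s' * o) * o by ring, show 2 ^ s' * 2 * o = (2 ^ s' * o) * 2 by ring] at h2
      have := Nat.dvd_of_mul_dvd_mul_left hpos h2
      omega
    have hm2 : 2 ^ (s + 1) ∣ n := (pow_dvd_pow 2 hgap).trans pow_padicValNat_dvd
    obtain ⟨m, hm⟩ : 2 ∣ n := (dvd_pow_self 2 (by omega)).trans hm2
    obtain ⟨t, ht⟩ : 2 ^ s ∣ m := by
      rw [pow_succ', hm] at hm2
      exact Nat.dvd_of_mul_dvd_mul_left (by norm_num) hm2
    have hwm : w ^ m = 1 := by
      rw [hw, ← Units.val_pow_eq_pow_val, ← pow_mul, ht,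
        show o * (2 ^ s * t) = (q - 1) * t by rw [ho]; ring, pow_mul, ← hgo, pow_orderOf_eq_one, one_pow,
        Units.val_one]
    have hm1 : IsSquare (-1 : F) := by
      rw [FiniteField.isSquare_neg_one_iff, hq, hqk, Nat.pow_mod]
      have := Nat.mod_lt q₀ (show 4 > 0 by norm_num)
      have := Nat.odd_iff.1 hq0odd
      interval_cases (q₀ % 4) <;> omega
    have hzns : ∀ u : F, u ^ 2 ≠ -w := fun u hu => hwns (by
      obtain ⟨e, he⟩ := hm1
      refine ⟨e * u, ?_⟩
      rw [show e * u * (e * u) = (e * e) * u ^ 2 by ring, ← he, hu]; ring)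
    obtain ⟨A, hAd, hA2⟩ := Inv.exists_elt_nonpower (r := 2) (z := -w) hm hzns (by
      rw [show ((-1 : F)) ^ (2 + 1) * -w = w by ring, hwm])
    let x : Matrix.SpecialLinearGroup (Fin n) F := ⟨A, hAd⟩
    obtain ⟨P, hP⟩ := hall x ⟨-w, by rw [Matrix.SpecialLinearGroup.coe_pow x 2]; exact hA2⟩ (fun z hz => by
      replace hz : A = z • 1 := hz
      refine hzns z ?_
      have h := congrFun (congrFun hA2 ⟨0, hn0⟩) ⟨0, hn0⟩
      rw [hz, smul_pow, one_pow] at h
      simpa using h)
    obtain ⟨g', c, hgc⟩ := (mem_sub_iff F₀ _).1 hP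
    rw [Matrix.SpecialLinearGroup.coe_GL_coe_matrix] at hgc
    have h2 : ((P⁻¹ * x * P : Matrix.SpecialLinearGroup (Fin n) F) : Matrix (Fin n) (Fin n) F) ^ 2 = (-w) • 1 := by
      rw [← Matrix.SpecialLinearGroup.coe_pow, show (P⁻¹ * x * P) ^ 2 = P⁻¹ * x ^ 2 * P by simp only [pow_two, mul_assoc, mul_inv_cancel_left],
        Matrix.SpecialLinearGroup.coe_mul, Matrix.SpecialLinearGroup.coe_mul,
        Matrix.SpecialLinearGroup.coe_pow x 2, show (x : Matrix (Fin n) (Fin n) F) ^ 2 = (-w) • 1 from hA2,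
        Matrix.mul_smul, mul_one, Matrix.smul_mul, ← Matrix.SpecialLinearGroup.coe_mul, inv_mul_cancel,
        Matrix.SpecialLinearGroup.coe_one]
    rw [hgc, smul_pow, show ((g' : Matrix (Fin n) (Fin n) F₀).map F₀.subtype) ^ 2 =
      ((g' : Matrix (Fin n) (Fin n) F₀) ^ 2).map F₀.subtype from
        (map_pow ((F₀.subtype : F₀ →+* F).mapMatrix) _ 2).symm] at h2
    have h00 := congrFun (congrFun h2 ⟨0, hn0⟩) ⟨0, hn0⟩
    simp only [Matrix.smul_apply, Matrix.map_apply, Matrix.one_apply_eq, smul_eq_mul, mul_one] at h00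
    set ν : F₀ := ((g' : Matrix (Fin n) (Fin n) F₀) ^ 2) ⟨0, hn0⟩ ⟨0, hn0⟩
    obtain ⟨b, hb⟩ : IsSquare (ν : F) := by
      by_cases hν : (ν : F) = 0
      · rw [hν]; exact IsSquare.zero
      rw [FiniteField.isSquare_iff hrc hν]
      obtain ⟨t', ht'⟩ := hq0odd
      have hfix : (ν : F) ^ (q₀ - 1) = 1 := by
        rw [← SubmonoidClass.coe_pow, ← hq0, FiniteField.pow_card_sub_one_eq_one ν (fun e => hν (by rw [e]; rfl))]
        rfl
      rw [hq, hqk, show q₀ ^ 2 / 2 = (q₀ - 1) * (t' + 1) by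
        rw [ht', show (2 * t' + 1) ^ 2 = 2 * (2 * t' * (t' + 1)) + 1 by ring, show 2 * t' + 1 - 1 = 2 * t' by omega]
        omega, pow_mul, hfix, one_pow]
    exact hzns ((c : F) * b) (by
      rw [← h00, show (F₀.subtype ν : F) = (ν : F) from rfl, hb]; ring)
  · intro hcond x hx1 hx2
    obtain ⟨z, hz⟩ := hx1
    have hz0 := hz_ne x z hz
    rw [Matrix.SpecialLinearGroup.coe_pow] at hz
    by_cases hrc : ringChar F = 2
    · haveI : CharP F 2 := hrc ▸ ringChar.charP F
      haveI : CharP (Matrix (Fin n) (Fin n) F) 2 := Matrix.charP _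
      obtain ⟨c, hc⟩ := JType.exists_root_char (F := F) (p := 2) z
      have hc0 : c ≠ 0 := fun e => hz0 (by rw [← hc, e]; ring)
      set N : Matrix (Fin n) (Fin n) F := c⁻¹ • (x : Matrix (Fin n) (Fin n) F) - 1 with hN
      have hN2 : N ^ 2 = 0 := by
        rw [hN, sub_pow_char_of_commute 2 (Commute.one_right _), one_pow, smul_pow, hz, smul_smul, ← hc,
          ← mul_pow, inv_mul_cancel₀ hc0, one_pow, one_smul, sub_self]
      have hxN : (x : Matrix (Fin n) (Fin n) F) = c • (1 + N) := by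
        rw [hN, add_sub_cancel, smul_smul, mul_inv_cancel₀ hc0, one_smul]
      obtain ⟨P, S, μ, hS01, hNP, hμ, hμs, hC⟩ := JBasis.exists_jordan N hN2
      let S0 : Matrix (Fin n) (Fin n) F₀ := Matrix.of fun a b => if S a b = 0 then 0 else 1
      have hS0 : S0.map F₀.subtype = S := by
        ext a b
        simp only [S0, Matrix.map_apply, Matrix.of_apply]
        rcases hS01 a b with h | h <;> simp [h]
      have hmap : (1 + S0).map F₀.subtype = 1 + S := by
        show (F₀.subtype : F₀ →+* F).mapMatrix (1 + S0) = _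
        rw [map_add, map_one]; exact congrArg (1 + ·) hS0
      have hS2 : (1 + S) ^ 2 = 1 := by
        rw [add_pow_char_of_commute 2 (Commute.one_left S), one_pow]
        have hP : IsUnit (P : Matrix (Fin n) (Fin n) F) := P.isUnit
        have h2 : (P : Matrix (Fin n) (Fin n) F) * S ^ 2 = 0 := by
          rw [pow_two, ← mul_assoc, ← hNP, mul_assoc, ← hNP, ← mul_assoc, ← pow_two, hN2, zero_mul]
        rw [hP.mul_right_eq_zero.1 h2, add_zero]
      refine conj_sub F₀ x hc0 P (1 + S0) ?_ ?_ ?_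
      · refine IsUnit.of_pow_eq_one (n := 2) ?_ (by norm_num)
        apply Matrix.map_injective (f := (F₀.subtype : F₀ → F)) F₀.subtype.injective
        show (F₀.subtype : F₀ →+* F).mapMatrix ((1 + S0) ^ 2) = (F₀.subtype : F₀ →+* F).mapMatrix 1
        rw [map_pow, map_one]
        show ((1 + S0).map F₀.subtype) ^ 2 = 1
        rw [hmap, hS2]
      · rw [hmap, hxN, Matrix.smul_mul, Matrix.mul_smul, add_mul, mul_add, one_mul, mul_one, hNP]
      · intro d hd
        by_cases h1 : (1 : ℕ) ∈ μ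
        · obtain ⟨C, hCS, hCd⟩ := hC 1 h1 d hd
          exact ⟨C, by rw [hCd, pow_one], by rw [hmap, mul_add, add_mul, one_mul, mul_one, hCS]⟩
        · have h2 : (2 : ℕ) ∈ μ := by
            obtain ⟨e, he⟩ := Multiset.exists_mem_of_ne_zero (s := μ) (fun e => by rw [e] at hμs; simp at hμs; omega)
            have := hμ e he
            have : e ≠ 1 := fun h => h1 (h ▸ he)
            rwa [show (2 : ℕ) = e by omega]
          obtain ⟨e, he⟩ := JType.exists_root_char (F := F) (p := 2) d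
          obtain ⟨C, hCS, hCd⟩ := hC 2 h2 e (fun e0 => hd (by rw [← he, e0]; ring))
          exact ⟨C, by rw [hCd, he], by rw [hmap, mul_add, add_mul, one_mul, mul_one, hCS]⟩
    · have hqodd : Odd q := Nat.odd_iff.2 (hq ▸ FiniteField.odd_card_of_char_ne_two hrc)
      obtain ⟨hk2, hle⟩ := hcond hqodd
      subst hk2
      have hq0odd : Odd q₀ := by rw [hqk] at hqodd; exact (Nat.odd_pow_iff (by norm_num)).1 hqodd
      have h2F : (2 : F) ≠ 0 := Ring.two_ne_zero hrc
      obtain ⟨c, hc⟩ : ∃ c : F, c ^ 2 = z := by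
        by_contra hcon
        push Not at hcon
        obtain ⟨m, hm, hdet⟩ := Inv.det_of_nonpower (r := 2) hcon hz
        have hdet1 : (-z) ^ m = 1 := by
          rw [x.2] at hdet; rw [hdet]; ring
        obtain ⟨e, he⟩ : IsSquare (-1 : F) := by
          rw [FiniteField.isSquare_neg_one_iff, hq, hqk, Nat.pow_mod]
          have := Nat.mod_lt q₀ (show 4 > 0 by norm_num)
          have := Nat.odd_iff.1 hq0odd
          interval_cases (q₀ % 4) <;> omega
        have hnz : ¬ IsSquare (-z) := by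
          rintro ⟨u, hu⟩
          exact hcon (e * u) (by rw [mul_pow, pow_two, pow_two, ← he, ← hu]; ring)
        rw [FiniteField.isSquare_iff hrc (neg_ne_zero.2 hz0), hq] at hnz
        apply hnz
        have hm0 : m ≠ 0 := fun e => by rw [e, mul_zero] at hm; omega
        have hqm : q - 1 ≠ 0 := by have := Fintype.one_lt_card (α := F); rw [hq] at this; omega
        rw [hm, padicValNat.mul (by norm_num) hm0, padicValNat.self (by norm_num)] at hle
        set s := padicValNat 2 (q - 1)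
        set t := padicValNat 2 m
        obtain ⟨o, ho⟩ : 2 ^ t ∣ m := pow_padicValNat_dvd
        have hoodd : o % 2 = 1 := by
          by_contra hne
          have : 2 ^ (t + 1) ∣ m := by
            rw [pow_succ, ho]; exact mul_dvd_mul_left _ (by omega)
          have := (padicValNat_dvd_iff_le hm0).1 this
          omega
        obtain ⟨o', ho'⟩ : 2 ^ (t + 1) ∣ q - 1 := (pow_dvd_pow 2 (by omega)).trans pow_padicValNat_dvd
        have hq2 : q / 2 = 2 ^ t * o' := by
          have : q = 2 * (2 ^ t * o') + 1 := by rw [← mul_assoc, ← pow_succ', ← ho']; omega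
          rw [this]; omega
        have hfl : (-z) ^ (q - 1) = 1 := by
          rw [← hq]; exact FiniteField.pow_card_sub_one_eq_one _ (neg_ne_zero.2 hz0)
        rw [hq2]
        have h1 : ((-z) ^ (2 ^ t * o')) ^ o = 1 := by
          rw [← pow_mul, show 2 ^ t * o' * o = m * o' by rw [ho]; ring, pow_mul, hdet1, one_pow]
        have h2 : ((-z) ^ (2 ^ t * o')) ^ 2 = 1 := by
          rw [← pow_mul, show 2 ^ t * o' * 2 = q - 1 by rw [ho', pow_succ]; ring, hfl]
        obtain ⟨o'', ho''⟩ : ∃ o'', o = 2 * o'' + 1 := ⟨o / 2, by omega⟩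
        rwa [ho'', pow_succ, pow_mul, h2, one_pow, one_mul] at h1
      have hc0 : c ≠ 0 := fun e => hz0 (by rw [← hc, e]; ring)
      set T := Matrix.toLin' (x : Matrix (Fin n) (Fin n) F) with hT
      have hTT : ∀ y, T (T y) = z • y := fun y => by
        rw [hT, Matrix.toLin'_apply, Matrix.toLin'_apply, Matrix.mulVec_mulVec, ← pow_two, hz, Matrix.smul_mulVec,
          Matrix.one_mulVec]
      set K := LinearMap.ker (T - c • 1) with hK
      set L := LinearMap.ker (T + c • 1) with hL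
      have hKap : ∀ y ∈ K, T y = c • y := fun y hy => by simpa [hK, sub_eq_zero] using hy
      have hLap : ∀ y ∈ L, T y = (-c) • y := fun y hy => by simpa [hL, add_eq_zero_iff_eq_neg] using hy
      have hcompl : IsCompl K L := by
        constructor
        · rw [Submodule.disjoint_def]
          intro y h1 h2
          have h3 : ((2 : F) * c) • y = 0 := by
            rw [mul_smul, two_smul]
            nth_rewrite 1 [← hKap y h1]
            rw [hLap y h2, neg_smul, neg_add_cancel]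
          exact (smul_eq_zero.1 h3).resolve_left (mul_ne_zero h2F hc0)
        · rw [codisjoint_iff_le_sup]
          intro y _
          have hy : y = (2 : F)⁻¹ • (y + c⁻¹ • T y) + (2 : F)⁻¹ • (y - c⁻¹ • T y) := by
            match_scalars
            · field_simp; norm_num
            · ring
          rw [hy]
          refine Submodule.add_mem_sup (Submodule.smul_mem _ _ ?_) (Submodule.smul_mem _ _ ?_)
          · simp only [hK, LinearMap.mem_ker, LinearMap.sub_apply, LinearMap.smul_apply, Module.End.one_apply,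
              map_add, map_smul, hTT, ← hc]
            match_scalars <;> field_simp <;> ring
          · simp only [hL, LinearMap.mem_ker, LinearMap.add_apply, LinearMap.smul_apply, Module.End.one_apply,
              map_sub, map_smul, hTT, ← hc]
            match_scalars <;> field_simp <;> ring
      let bs := ((Module.finBasis F K).prod (Module.finBasis F L)).map (Submodule.prodEquivOfIsCompl K L hcompl)
      let σ : Fin (finrank F K) ⊕ Fin (finrank F L) ≃ Fin n := Fintype.equivFinOfCardEq (by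
        rw [← Module.finrank_eq_card_basis bs, Module.finrank_fin_fun])
      let e0 : Fin n → F₀ := fun a => Sum.elim (fun _ => 1) (fun _ => -1) (σ.symm a)
      let B := bs.reindex σ
      have hev : ∀ a, T (B a) = (c * (e0 a : F)) • B a := by
        intro a
        obtain ⟨i | i, rfl⟩ := σ.surjective a
        · simp [B, bs, e0, hKap _ (Module.finBasis F K i).2]
        · simp [B, bs, e0, hLap _ (Module.finBasis F L i).2]
      haveI : Invertible ((Pi.basisFun F (Fin n)).toMatrix B) := (Pi.basisFun F (Fin n)).invertibleToMatrix B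
      have hmap : (Matrix.diagonal e0).map F₀.subtype = Matrix.diagonal fun a => (e0 a : F) := by
        rw [Matrix.diagonal_map (map_zero _)]; rfl
      refine conj_sub F₀ x hc0 (unitOfInvertible ((Pi.basisFun F (Fin n)).toMatrix B)) (Matrix.diagonal e0) ?_ ?_ ?_
      · rw [Matrix.isUnit_iff_isUnit_det, Matrix.det_diagonal, IsUnit.prod_iff]
        intro a _
        simp only [e0]
        rcases σ.symm a with i | i <;> simp
      · rw [hmap, val_unitOfInvertible]
        ext a b
        have h := congrFun (hev b) a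
        rw [hT, Matrix.toLin'_apply] at h
        simp only [Matrix.mul_apply, Basis.toMatrix_apply, Pi.basisFun_repr]
        simp only [Matrix.mulVec, dotProduct, Pi.smul_apply, smul_eq_mul] at h
        rw [h, Finset.sum_eq_single b (fun l _ hl => by rw [Matrix.smul_apply, Matrix.diagonal_apply_ne _ hl, smul_zero, mul_zero]) (by simp)]
        rw [Matrix.smul_apply, Matrix.diagonal_apply_eq, smul_eq_mul]
        ring
      · intro d hd
        refine ⟨Matrix.diagonal (Function.update (fun _ => (1 : F)) ⟨0, hn0⟩ d), ?_, ?_⟩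
        · rw [Matrix.det_diagonal, Finset.prod_update_of_mem (Finset.mem_univ _)]; simp
        · rw [hmap, Matrix.diagonal_mul_diagonal, Matrix.diagonal_mul_diagonal]
          congr 1; funext a; ring

end Cfsg.Agent.S5964
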