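import Cfsg.Statements.S5965
import Cfsg.Agent.Subfield77.Descent
import Cfsg.Agent.Subfield77.NotTwist
import Cfsg.Agent.Subfield77.BlockTwist
import Cfsg.Agent.Lib.LinearGroup.Card
-- import your own Cfsg.Agent.* helpers here

set_option autoImplicit false
open scoped MatrixGroups
open Cfsg

set_option linter.unusedSectionVars false
set_option maxHeartbeats 1000000

namespace Cfsg.Agent.S5965

open scoped MatrixGroups
open Matrix Module
open Cfsg.Agent Cfsg.Agent.ClMax99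

section

variable {F : Type*} [Field F] [Fintype F]

/-- A prime `r ≠ k` dividing the index. -/
theorem index_order {q q₀ k n r : ℕ} [hr : Fact r.Prime] (hn : 1 ≤ n) (hq : Fintype.card F = q) (F₀ : Subfield F)
    (hF₀ : Nat.card ↥F₀ = q₀) (hqk : q = q₀ ^ k) (hrq : ¬ r ∣ q₀) (hk : k.Prime) (hrk : r ≠ k)
    (hΩ : r ∣ ((Cfsg.Geo.subfieldSubgroup F₀ 1).comap
      (Matrix.SpecialLinearGroup.toGL : Matrix.SpecialLinearGroup (Fin n) F →* GL (Fin n) F)).index) :
    (∀ m : ℕ, (q : ZMod r) ^ m ≠ (q₀ : ZMod r)) ∧ orderOf (q : ZMod r) ≤ n ∧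
      (n = 2 → (q₀ : ZMod r) ^ 2 ≠ 1) := by
  classical
  set H := ((Cfsg.Geo.subfieldSubgroup F₀ 1).comap
      (Matrix.SpecialLinearGroup.toGL : Matrix.SpecialLinearGroup (Fin n) F →* GL (Fin n) F))
  haveI : Fintype F₀ := Fintype.ofFinite F₀
  let ι : Matrix.SpecialLinearGroup (Fin n) F₀ →* Matrix.SpecialLinearGroup (Fin n) F :=
    Matrix.SpecialLinearGroup.map (F₀.subtype : F₀ →+* F)
  have hι : ∀ g : Matrix.SpecialLinearGroup (Fin n) F₀, (ι g : Matrix (Fin n) (Fin n) F) =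
      (g : Matrix (Fin n) (Fin n) F₀).map F₀.subtype := fun g => rfl
  have hιi : Function.Injective ι := fun a b h => Subtype.ext
    (Matrix.map_injective (f := (F₀.subtype : F₀ → F)) F₀.subtype.injective (congrArg Subtype.val h))
  have hle : ι.range ≤ H := by
    rintro _ ⟨g, rfl⟩
    change Matrix.SpecialLinearGroup.toGL (ι g) ∈ Cfsg.Geo.subfieldSubgroup F₀ 1
    rw [Subfield77.mem_sub_iff]
    refine ⟨Matrix.SpecialLinearGroup.toGL g, 1, ?_⟩
    rw [Matrix.SpecialLinearGroup.coe_GL_coe_matrix, Matrix.SpecialLinearGroup.coe_GL_coe_matrix, Units.val_one,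
      one_smul, hι]
  obtain ⟨K, hK⟩ : Nat.card (Matrix.SpecialLinearGroup (Fin n) F₀) ∣ Nat.card H := by
    rw [Nat.card_congr (MonoidHom.ofInjective hιi).toEquiv]
    exact Subgroup.card_dvd_of_le hle
  obtain ⟨m, rfl⟩ : ∃ m, n = m + 1 := ⟨n - 1, by omega⟩
  have h := H.index_mul_card
  rw [hK, LinearGroup.card_SL_eq_pow_mul_prod (F := F) m, LinearGroup.card_SL_eq_pow_mul_prod (F := F₀) m,
    Nat.card_eq_fintype_card (α := F), hq, hF₀] at h
  set a := ∑ i : Fin (m + 1), (i : ℕ)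
  have hgeom : ∀ j, q ^ j - 1 = (q₀ ^ j - 1) * ∑ l ∈ Finset.range k, (q₀ ^ j) ^ l := fun j => by
    rw [hqk, ← pow_mul, mul_comm k j, pow_mul]
    have h1 : 1 ≤ q₀ ^ j := Nat.one_le_pow _ _ (Nat.pos_of_ne_zero fun e => hrq (e ▸ dvd_zero r))
    obtain ⟨b, hb⟩ : ∃ b, q₀ ^ j = b + 1 := ⟨q₀ ^ j - 1, by omega⟩
    rw [hb, Nat.add_sub_cancel, ← geom_sum_mul_add b k, Nat.add_sub_cancel, mul_comm]
  have hP : ∏ i ∈ Finset.range m, (q ^ (i + 2) - 1) = (∏ i ∈ Finset.range m, (q₀ ^ (i + 2) - 1)) *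
      ∏ i ∈ Finset.range m, ∑ l ∈ Finset.range k, (q₀ ^ (i + 2)) ^ l := by
    rw [← Finset.prod_mul_distrib]; exact Finset.prod_congr rfl fun i _ => hgeom _
  have hqa : q ^ a = q₀ ^ a * q₀ ^ ((k - 1) * a) := by
    rw [← pow_add, hqk, ← pow_mul]
    congr 1
    obtain ⟨k', rfl⟩ : ∃ k', k = k' + 1 := ⟨k - 1, by have := hk.pos; omega⟩
    simp; ring
  have hq01 : 1 < q₀ := by
    rw [← hF₀]; exact Finite.one_lt_card
  set P0 := ∏ i ∈ Finset.range m, (q₀ ^ (i + 2) - 1)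
  have hP0 : 0 < q₀ ^ a * P0 := Nat.mul_pos (Nat.pow_pos (by omega))
    (Finset.prod_pos fun i _ => Nat.sub_pos_of_lt (Nat.one_lt_pow (by omega) hq01))
  have h2 : H.index * K = q₀ ^ ((k - 1) * a) * ∏ i ∈ Finset.range m, ∑ l ∈ Finset.range k, (q₀ ^ (i + 2)) ^ l := by
    apply Nat.eq_of_mul_eq_mul_left hP0
    rw [hqa, hP] at h
    linarith
  have hd : r ∣ q₀ ^ ((k - 1) * a) * ∏ i ∈ Finset.range m, ∑ l ∈ Finset.range k, (q₀ ^ (i + 2)) ^ l :=
    h2 ▸ hΩ.mul_right K
  rcases hr.out.dvd_mul.1 hd with h3 | h3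
  · exact absurd (hr.out.dvd_of_dvd_pow h3) hrq
  · obtain ⟨i, him, hi⟩ := (Prime.dvd_finsetProd_iff hr.out.prime _).1 h3
    rw [Finset.mem_range] at him
    have hi0 := (ZMod.natCast_eq_zero_iff _ r).2 hi
    push_cast at hi0
    have hkey : (q : ZMod r) ^ (i + 2) = 1 := by
      have := geom_sum_mul ((q₀ : ZMod r) ^ (i + 2)) k
      rw [hi0, zero_mul] at this
      rw [hqk, Nat.cast_pow, ← pow_mul, mul_comm, pow_mul]
      exact (sub_eq_zero.1 this.symm)
    have hne : (q₀ : ZMod r) ^ (i + 2) ≠ 1 := fun h1 => by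
      simp only [h1, one_pow, Finset.sum_const, Finset.card_range, nsmul_eq_mul, mul_one] at hi0
      exact hrk ((Nat.prime_dvd_prime_iff_eq hr.out hk).1 ((ZMod.natCast_eq_zero_iff k r).1 hi0))
    refine ⟨fun l hl => hne ?_, ?_, fun h2 => ?_⟩
    · rw [← hl, ← pow_mul, mul_comm, pow_mul, hkey, one_pow]
    · exact (orderOf_le_of_pow_eq_one (by omega) hkey).trans (by omega)
    · obtain rfl : i = 0 := by omega
      exact hne

/-- The counterexample in dimension two. -/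
theorem plane_bad {r q₀ : ℕ} [hr : Fact r.Prime] (g : Fˣ) (hg : orderOf g = r) (hr2 : r ≠ 2) {σ : F →+* F}
    (hσ : ∀ a, σ a = a ^ q₀) (hσr : ∀ a : F, a ^ r = 1 → σ a = a → a = 1) (hno2 : (q₀ : ZMod r) ^ 2 ≠ 1) :
    ∃ A : Matrix (Fin 2) (Fin 2) F, A.det = 1 ∧ A ^ r = 1 ∧ (∀ c : F, A ≠ c • 1) ∧
      ∀ (B : Matrix (Fin 2) (Fin 2) F) (ε : F), B.det ≠ 0 → ε ≠ 0 → A.map σ * B ≠ ε • (B * A) := by
  set ζ : F := (g : F) with hζ
  have hζ0 : ζ ≠ 0 := Units.ne_zero g
  have hζr : ζ ^ r = 1 := by rw [hζ, ← Units.val_pow_eq_pow_val, ← hg, pow_orderOf_eq_one, Units.val_one]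
  have hζ1 : ζ ≠ 1 := fun e => hr.out.ne_one (by rw [← hg, orderOf_eq_one_iff]; exact Units.ext e)
  have hsq : ∀ u : F, u ^ r = 1 → u ^ 2 = 1 → u = 1 := fun u hu hu2 => by
    have := pow_gcd_eq_one.mpr ⟨hu, hu2⟩
    rwa [(Nat.coprime_primes hr.out Nat.prime_two).2 hr2 |>.gcd_eq_one, pow_one] at this
  refine ⟨Matrix.diagonal ![ζ, ζ⁻¹], by simp [hζ0], ?_, fun c hc => ?_, fun B ε hB hε he => ?_⟩
  · rw [Matrix.diagonal_pow, ← Matrix.diagonal_one]
    congr 1
    funext i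
    fin_cases i <;> simp [hζr]
  · have e0 := congrFun (congrFun hc 0) 0
    have e1 := congrFun (congrFun hc 1) 1
    simp at e0 e1
    refine hζ1 (hsq ζ hζr ?_)
    rw [pow_two]
    nth_rewrite 2 [e0]
    rw [← e1, mul_inv_cancel₀ hζ0]
  · have hrel : ∀ i j, B i j ≠ 0 → σ (![ζ, ζ⁻¹] i) = ε * ![ζ, ζ⁻¹] j := fun i j hij => by
      have := congrFun (congrFun he i) j
      rw [Matrix.diagonal_map (map_zero σ), Matrix.diagonal_mul, Matrix.smul_apply, Matrix.mul_diagonal,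
        smul_eq_mul] at this
      exact mul_right_cancel₀ hij (by linear_combination this)
    have hσζr : σ ζ ^ r = 1 := by rw [← map_pow, hζr, map_one]
    have hs0 : σ ζ ≠ 0 := (map_ne_zero σ).2 hζ0
    rw [Matrix.det_fin_two] at hB
    by_cases hd : B 0 0 * B 1 1 = 0
    · rw [hd, zero_sub, neg_ne_zero] at hB
      obtain ⟨h01, h10⟩ := mul_ne_zero_iff.1 hB
      have e1 := hrel 0 1 h01
      have e2 := hrel 1 0 h10
      simp at e1 e2
      have h1 : σ ζ * ζ = 1 := hsq _ (by rw [mul_pow, hσζr, hζr, one_mul]) (by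
        have e3 : σ ζ * ζ = ε := by rw [e1, mul_assoc, inv_mul_cancel₀ hζ0, mul_one]
        have e4 : (σ ζ)⁻¹ * ζ⁻¹ = ε := by rw [e2, mul_assoc, mul_inv_cancel₀ hζ0, mul_one]
        rw [pow_two]
        nth_rewrite 2 [e3]
        rw [← e4]
        field_simp)
      have h2 : σ (σ ζ) = ζ := by
        rw [show σ ζ = ζ⁻¹ from eq_inv_of_mul_eq_one_left h1, map_inv₀, show σ ζ = ζ⁻¹ from eq_inv_of_mul_eq_one_left h1,
          inv_inv]
      rw [hσ, hσ, ← pow_mul, ← pow_two] at h2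
      refine hno2 ?_
      have h3 : g ^ (q₀ ^ 2) = g ^ 1 := Units.ext (by rw [Units.val_pow_eq_pow_val, pow_one]; exact h2)
      rw [(isOfFinOrder_of_finite g).pow_eq_pow_iff_modEq, hg, ← ZMod.natCast_eq_natCast_iff] at h3
      simpa using h3
    · obtain ⟨h00, h11⟩ := mul_ne_zero_iff.1 hd
      have e1 := hrel 0 0 h00
      have e2 := hrel 1 1 h11
      simp at e1 e2
      have h1 : σ ζ * ζ⁻¹ = 1 := hsq _ (by rw [mul_pow, hσζr, inv_pow, hζr, inv_one, one_mul]) (by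
        have e3 : σ ζ * ζ⁻¹ = ε := by rw [e1, mul_assoc, mul_inv_cancel₀ hζ0, mul_one]
        have e4 : (σ ζ)⁻¹ * ζ = ε := by rw [e2, mul_assoc, inv_mul_cancel₀ hζ0, mul_one]
        rw [pow_two]
        nth_rewrite 2 [e3]
        rw [← e4]
        field_simp)
      exact hζ1 (hσr ζ hζr (mul_inv_eq_one₀ hζ0 |>.1 h1))

/-- The exceptional positive case. -/
theorem exceptional {n r q₀ : ℕ} [hr : Fact r.Prime] (F₀ : Subfield F) (hF₀ : Nat.card ↥F₀ = q₀)
    (hqk : Fintype.card F = q₀ ^ 2) {σ : F →+* F} (hσ : ∀ a, σ a = a ^ q₀) (hr35 : r = 3 ∨ r = 5) (hnr : n = r)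
    (hrF : (r : F) ≠ 0) (hv : padicValNat r (q₀ + 1) = 1) (x : Matrix.SpecialLinearGroup (Fin n) F) {z : F}
    (hx : (x : Matrix (Fin n) (Fin n) F) ^ r = z • 1) :
    ∃ Q : Matrix.SpecialLinearGroup (Fin n) F, Q⁻¹ * x * Q ∈ ((Cfsg.Geo.subfieldSubgroup F₀ 1).comap
      (Matrix.SpecialLinearGroup.toGL : Matrix.SpecialLinearGroup (Fin n) F →* GL (Fin n) F)) := by
  classical
  subst hnr
  have hq01 : 1 < q₀ := by rw [← hF₀]; exact Finite.one_lt_card
  have hodd : Odd n := by rcases hr35 with e | e <;> rw [e] <;> decide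
  have hq2 : Fintype.card F - 1 = (q₀ + 1) * (q₀ - 1) := by rw [hqk, ← Nat.sq_sub_sq, one_pow]
  have hr1 : n ∣ q₀ + 1 := dvd_of_one_le_padicValNat (by omega)
  have hnot : ¬ n ∣ q₀ - 1 := fun h => by
    have h2 : n ∣ 2 := by
      have h3 := Nat.dvd_sub hr1 h
      rwa [show q₀ + 1 - (q₀ - 1) = 2 by omega] at h3
    have h4 : n ≤ 2 := Nat.le_of_dvd (by decide) h2
    rcases hr35 with e | e <;> rw [e] at h4 <;> omega
  have hq : n ∣ Fintype.card F - 1 := hq2 ▸ hr1.mul_right _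
  have hsq : ¬ n ^ 2 ∣ Fintype.card F - 1 := fun h => by
    rw [hq2] at h
    have := (padicValNat_dvd_iff_le (by omega : q₀ + 1 ≠ 0)).1
      ((Nat.Coprime.pow_left 2 (hr.out.coprime_iff_not_dvd.2 hnot)).dvd_of_dvd_mul_right h)
    omega
  have hdet : (x : Matrix (Fin n) (Fin n) F).det = 1 := x.2
  have hn0 : 0 < n := hr.out.pos
  have hz : z = 1 := by
    by_cases hpow : ∃ y, y ^ n = z
    · obtain ⟨y, rfl⟩ := hpow
      have h1 := congrArg Matrix.det hx
      rw [Matrix.det_pow, hdet, one_pow, Matrix.det_smul, Fintype.card_fin, Matrix.det_one, mul_one] at h1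
      have hy0 : y ≠ 0 := fun e => by rw [e, zero_pow hr.out.ne_zero, zero_pow hr.out.ne_zero] at h1; exact one_ne_zero h1
      have hg : Nat.gcd (n ^ 2) (Fintype.card F - 1) = n := by
        obtain ⟨M, hM⟩ := hq
        have hMn : ¬ n ∣ M := fun h => hsq (by rw [hM, pow_two]; exact mul_dvd_mul_left n h)
        rw [hM, pow_two, Nat.gcd_mul_left, (hr.out.coprime_iff_not_dvd.2 hMn).gcd_eq_one, mul_one]
      have h2 := pow_gcd_eq_one.mpr
        ⟨show y ^ (n ^ 2) = 1 by rw [pow_two, pow_mul, ← h1], FiniteField.pow_card_sub_one_eq_one y hy0⟩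
      rwa [hg] at h2
    · push Not at hpow
      obtain ⟨k, hk, hdk⟩ := Inv.det_of_nonpower hpow hx
      have hk1 : k = 1 := Nat.eq_of_mul_eq_mul_left hr.out.pos (by omega)
      rw [hdet, hk1, pow_one, (hodd.add_one).neg_one_pow, one_mul] at hdk
      exact hdk.symm
  obtain ⟨ζ₀, hζ₀⟩ := exists_prime_orderOf_dvd_card' (G := Fˣ) n (by rwa [Nat.card_units, Nat.card_eq_fintype_card])
  have hζ : IsPrimitiveRoot ((ζ₀ : Fˣ) : F) n := by
    rw [← hζ₀]; exact (IsPrimitiveRoot.orderOf ζ₀).map_of_injective (f := Units.coeHom F) Units.val_injective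
  set ζ : F := ((ζ₀ : Fˣ) : F)
  have hζ0 : ζ ≠ 0 := Units.ne_zero _
  have hx' : (x : Matrix (Fin n) (Fin n) F) ^ n = 1 := by rw [hx, hz, one_smul]
  obtain ⟨P₁, a, hP₁, hPx⟩ := SimForm.exists_eigen hζ hn0 hrF _ hx'
  have hsum : ∑ i, (a i : ZMod n) = 0 := by
    have h1 := congrArg Matrix.det hPx
    rw [Matrix.det_mul, Matrix.det_mul, hdet, one_mul, Matrix.det_diagonal, Finset.prod_pow_eq_pow_sum] at h1
    have h2 := (mul_eq_left₀ hP₁).1 h1.symm
    rw [hζ.pow_eq_one_iff_dvd, ← ZMod.natCast_eq_zero_iff, Nat.cast_sum] at h2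
    exact h2
  obtain ⟨π, k₀, hπ2, hπk, hπ⟩ := SimForm.exists_perm hr35 (fun i => (a i : ZMod n)) hsum
  set c : F := ζ ^ a k₀ with hc
  have hc0 : c ≠ 0 := pow_ne_zero _ hζ0
  set w : Fin n → F := fun i => ζ ^ a i / c with hw
  have hσw : ∀ i, σ (w i) = w (π i) := fun i => by
    obtain ⟨t, ht⟩ := hr1
    have h1 : w i ^ (q₀ + 1) = 1 := by
      have e1 : ∀ j : ℕ, (ζ ^ j) ^ n = 1 := fun j => by
        rw [← pow_mul, mul_comm, pow_mul, hζ.pow_eq_one, one_pow]
      rw [ht, pow_mul, hw]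
      simp only [div_pow, hc, e1, div_one, one_pow]
    have h2 : ζ ^ (a i + a (π i)) = ζ ^ (2 * a k₀) := by
      refine (pow_eq_pow_mod _ hζ.pow_eq_one).trans ((congrArg (ζ ^ ·) ?_).trans (pow_eq_pow_mod _ hζ.pow_eq_one).symm)
      refine (ZMod.natCast_eq_natCast_iff' _ _ _).1 ?_
      push_cast
      exact hπ i
    have hwi : w i ≠ 0 := div_ne_zero (pow_ne_zero _ hζ0) hc0
    have h3 : w (π i) * w i = 1 := by
      simp only [hw]
      rw [div_mul_div_comm, ← pow_add, add_comm, h2, hc, ← pow_add, ← two_mul, div_self (pow_ne_zero _ hζ0)]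
    rw [hσ]
    rw [pow_succ] at h1
    exact mul_right_cancel₀ hwi (h1.trans h3.symm)
  have hσ2 : ∀ b : F, σ (σ b) = b := fun b => by
    rw [hσ, hσ, ← pow_mul, ← pow_two, ← hqk, FiniteField.pow_card]
  obtain ⟨θ, hθ⟩ : ∃ θ : F, σ θ ≠ θ := by
    by_contra hcon
    push Not at hcon
    have hinj : Function.Injective (fun b : F => (⟨b, Subfield77.mem_of_sigma_fix F₀ hF₀ hσ b (hcon b)⟩ : F₀)) :=
      fun b b' h => congrArg Subtype.val h
    have := Nat.card_le_card_of_injective _ hinj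
    rw [hF₀, Nat.card_eq_fintype_card, hqk] at this
    nlinarith
  obtain ⟨P₂, M0, hP₂, hM⟩ := Subfield77.descent_diag F₀ hF₀ hσ θ hθ hσ2 w π hπ2 hσw
  refine Subfield77.conj_sub F₀ hrF hn0 x one_ne_zero (by rw [hx', one_smul]) hc0
    (P := P₁ * P₂) (by rw [Matrix.det_mul]; exact mul_ne_zero hP₁ hP₂) M0 ?_
  have e : Matrix.diagonal (fun i => ζ ^ a i) = c • Matrix.diagonal w := by
    rw [← Matrix.diagonal_smul]
    congr 1
    funext i
    simp only [Pi.smul_apply, smul_eq_mul, hw]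
    rw [mul_div_cancel₀ _ hc0]
  rw [← mul_assoc, hPx, mul_assoc, e, Matrix.smul_mul, hM, Matrix.mul_smul, Matrix.mul_smul,
    ← mul_assoc]

end

/-- Elements of odd prime order r ≠ p of PSL_n(q) and subfield subgroups. Here `T = PSL_n(F)` for a field `F` with `q = p^f` elements (`n ≥ 2`, `(n, q) ≠ (2, 2), (2, 3)`), `F₀` is the subfield with `q₀` elements where `q = q₀^k` for a prime `k`, and `H` is the subgroup of matrices of determinant 1 lying in the subfield group of `F₀` (invertible matrices over `F₀` times scalars) — a maximal subgroup of type GL_n(q₀) (the case `n = 2`, `q₀ = 2` is excluded); Ω is the set of `T`-conjugates of `H` (cosets of `H`), so an element of `T` of prime order `r` (a matrix `x` of determinant 1 with `x^r` scalar, `x` not scalar) fixes a point of Ω when some conjugate of `x` by a matrix of determinant 1 lies in `H`. Let `r ≠ p` be an odd prime dividing the index of `H`, with `(n, r) ≠ (6, 3)` and, when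 `r = k` divides `q₀ − 1`, with `(n)_r ≤ (q − 1)_r`. Then every element of `T` of order `r` is conjugate in `T` into `H` if and only if `r = k`, or `k = 2`, `r = n ∈ {3, 5}` and `(q₀ + 1)_r = r`. The two excluded cases, `(n, r) = (6, 3)` and `r = k ∣ q₀ − 1` with `(n)_r > (q − 1)_r`, are ones where this criterion can fail, so they are left out. -/
theorem result {F : Type*} [Field F] [Fintype F] {p : ℕ} [Fact p.Prime] [CharP F p] {q : ℕ} (hq : Fintype.card F = q)
    (n : ℕ) (hn : 2 ≤ n) (hT : (n, q) ≠ (2, 2) ∧ (n, q) ≠ (2, 3))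
    (F₀ : Subfield F) (k q₀ : ℕ) (hk : k.Prime) (hF₀ : Nat.card ↥F₀ = q₀) (hqk : q = q₀ ^ k) (hC5 : ¬ (n = 2 ∧ q₀ = 2)) (r : ℕ) [Fact r.Prime] (hr2 : r ≠ 2) (hrp : r ≠ p) (hgap : ¬ (n = 6 ∧ r = 3)) (hgapk : r = k → r ∣ q₀ - 1 → padicValNat r n ≤ padicValNat r (q - 1)) (hΩ : r ∣ ((Cfsg.Geo.subfieldSubgroup F₀ 1).comap (Matrix.SpecialLinearGroup.toGL : Matrix.SpecialLinearGroup (Fin n) F →* GL (Fin n) F)).index) :
    (∀ x : Matrix.SpecialLinearGroup (Fin n) F,
      (∃ z : F, ((x ^ r : Matrix.SpecialLinearGroup (Fin n) F) : Matrix (Fin n) (Fin n) F) = z • (1 : Matrix (Fin n) (Fin n) F)) →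
      (∀ z : F, (x : Matrix (Fin n) (Fin n) F) ≠ z • (1 : Matrix (Fin n) (Fin n) F)) →
      ∃ P : Matrix.SpecialLinearGroup (Fin n) F, P⁻¹ * x * P ∈ ((Cfsg.Geo.subfieldSubgroup F₀ 1).comap (Matrix.SpecialLinearGroup.toGL : Matrix.SpecialLinearGroup (Fin n) F →* GL (Fin n) F))) ↔
    (r = k ∨ (k = 2 ∧ r = n ∧ (n = 3 ∨ n = 5) ∧ padicValNat r (q₀ + 1) = 1)) := by
  classical
  subst hq
  have hn0 : 0 < n := by omega
  have hr' : r.Prime := Fact.out
  haveI : Nonempty (Fin n) := ⟨⟨0, hn0⟩⟩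
  haveI : Fintype F₀ := Fintype.ofFinite F₀
  haveI : CharP F₀ p := (RingHom.charP_iff (F₀.subtype : F₀ →+* F) F₀.subtype.injective p).2 inferInstance
  obtain ⟨f₀, hp', hf₀⟩ := FiniteField.card F₀ p
  rw [Fintype.card_eq_nat_card, hF₀] at hf₀
  set σ : F →+* F := iterateFrobenius F p f₀ with hσdef
  have hσ : ∀ a, σ a = a ^ q₀ := fun a => by rw [hf₀]; exact iterateFrobenius_def p f₀ a
  have hq01 : 1 < q₀ := by rw [← hF₀]; exact Finite.one_lt_card
  have hrF : (r : F) ≠ 0 := fun e => hrp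
    ((Nat.prime_dvd_prime_iff_eq Fact.out hr').1 ((CharP.cast_eq_zero_iff F p r).1 e)).symm
  have hrq : ¬ r ∣ q₀ := fun h => hrp ((Nat.prime_dvd_prime_iff_eq hr' hp').1
    (hr'.dvd_of_dvd_pow (n := f₀) (hf₀ ▸ h)))
  constructor
  · intro hall
    by_contra hcon
    obtain ⟨hrk, hexc⟩ := not_or.1 hcon
    obtain ⟨hno, hord, hno2⟩ := index_order (by omega) rfl F₀ hF₀ hqk hrq hk hrk hΩ
    suffices hX : ∃ (A : Matrix (Fin n) (Fin n) F) (z : F), A.det = 1 ∧ A ^ r = z • 1 ∧ (∀ c : F, A ≠ c • 1) ∧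
        ∀ (B : Matrix (Fin n) (Fin n) F) (ε : F), B.det ≠ 0 → ε ≠ 0 → A.map σ * B ≠ ε • (B * A) by
      obtain ⟨A, z, hA, hAr, hAs, hbad⟩ := hX
      let x : Matrix.SpecialLinearGroup (Fin n) F := ⟨A, hA⟩
      obtain ⟨Q, hQ⟩ := hall x ⟨z, by rw [Matrix.SpecialLinearGroup.coe_pow]; exact hAr⟩ hAs
      obtain ⟨B, ε, hB, hε, he⟩ := Subfield77.exists_twist F₀ hF₀ hσ x Q hQ
      exact hbad B ε hB hε he
    by_cases h1 : r ∣ Fintype.card F - 1
    · have hq1 : ((Fintype.card F : ℕ) : ZMod r) = 1 := by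
        rw [← Nat.sub_add_cancel Fintype.card_pos, Nat.cast_add, (ZMod.natCast_eq_zero_iff _ r).2 h1, zero_add,
          Nat.cast_one]
      have hq0ne : (q₀ : ZMod r) ≠ 1 := fun e => hno 0 (by rw [pow_zero, e])
      have hn3 : 3 ≤ n ∨ n = 2 := by omega
      have hord0 : orderOf (q₀ : ZMod r) = k := by
        haveI := Fact.mk hk
        exact orderOf_eq_prime (by rw [← Nat.cast_pow, ← hqk, hq1]) hq0ne
      have hσr : ∀ a : F, a ^ r = 1 → σ a = a → a = 1 := by
        intro a ha hfix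
        have ha0 : a ≠ 0 := fun e => by rw [e, zero_pow hr'.ne_zero] at ha; exact zero_ne_one ha
        have h2 : a ^ (q₀ - 1) = 1 := by
          refine mul_right_cancel₀ ha0 ?_
          rw [← pow_succ, Nat.sub_add_cancel hq01.le, ← hσ, hfix, one_mul]
        have h3 := pow_gcd_eq_one.mpr ⟨ha, h2⟩
        rwa [show Nat.gcd r (q₀ - 1) = 1 from hr'.coprime_iff_not_dvd.2 fun hd => hq0ne (by
          rw [← Nat.sub_add_cancel hq01.le, Nat.cast_add, (ZMod.natCast_eq_zero_iff _ r).2 hd, zero_add, Nat.cast_one]),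
          pow_one] at h3
      rcases hn3 with hn3 | hn2
      · obtain ⟨w, z, hw, hwr, hws, hbad⟩ := Subfield77.exists_not_twist_diag (σ := σ) (r := r) hr2 h1 hn3 hgap
          (fun ⟨h35, hnr, hsq⟩ => hexc (by
            have hk2 : k = 2 := by
              have hd : k ∣ r - 1 := hord0 ▸ ZMod.orderOf_dvd_card_sub_one (fun e => hrq ((ZMod.natCast_eq_zero_iff _ r).1 e))
              rcases h35 with e | e <;> subst e
              · exact (Nat.prime_dvd_prime_iff_eq hk Nat.prime_two).1 hd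
              · exact (Nat.prime_dvd_prime_iff_eq hk Nat.prime_two).1 (hk.dvd_of_dvd_pow (n := 2) hd)
            refine ⟨hk2, hnr.symm, by omega, ?_⟩
            have hneg : (q₀ : ZMod r) = -1 := by
              have := pow_orderOf_eq_one (q₀ : ZMod r)
              rw [hord0, hk2] at this
              exact (sq_eq_one_iff.1 this).resolve_left hq0ne
            have hd1 : r ∣ q₀ + 1 := (ZMod.natCast_eq_zero_iff _ r).1 (by push_cast; rw [hneg, neg_add_cancel])
            refine le_antisymm (not_lt.1 fun h => hsq ?_) (one_le_padicValNat_of_dvd (by omega) hd1)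
            rw [hqk, hk2, show q₀ ^ 2 - 1 = (q₀ + 1) * (q₀ - 1) by rw [← Nat.sq_sub_sq, one_pow]]
            exact ((padicValNat_dvd_iff_le (by omega)).2 h).mul_right _)) hσr
        refine ⟨Matrix.diagonal w, z, by rw [Matrix.det_diagonal, hw], ?_, hws, hbad⟩
        rw [Matrix.diagonal_pow]
        ext i j
        by_cases h : i = j
        · subst h; simp [hwr i]
        · simp [h]
      · subst hn2
        obtain ⟨g, hg⟩ := exists_prime_orderOf_dvd_card' (G := Fˣ) r (by rwa [Nat.card_units, Nat.card_eq_fintype_card])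
        obtain ⟨A, hA, hAr, hAs, hbad⟩ := plane_bad g hg hr2 hσ hσr (hno2 rfl)
        exact ⟨A, 1, hA, by rw [hAr, one_smul], hAs, hbad⟩
    · obtain ⟨x, hx, hxr, hxs, hbad⟩ := Subfield77.exists_block_not_twist (σ := σ) (p := p) hrF h1 (n := n)
        hord (k₀ := f₀) (fun a => by rw [hσ, hf₀]) (fun m hm => by
          set o := orderOf (Fintype.card F : ZMod r)
          have hq0 : (Fintype.card F : ZMod r) ≠ 0 := fun e => by
            rw [ZMod.natCast_eq_zero_iff, hqk] at e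
            exact hrq (hr'.dvd_of_dvd_pow e)
          refine hno (m * (r - 2)) ?_
          have h2 : (Fintype.card F : ZMod r) ^ m * (Fintype.card F : ZMod r) ^ (m * (r - 2)) = 1 := by
            rw [← pow_add, show m + m * (r - 2) = (r - 1) * m by
              obtain ⟨r', rfl⟩ : ∃ r', r = r' + 2 := ⟨r - 2, by have := hr'.two_le; omega⟩
              simp; ring,
              pow_mul, ZMod.pow_card_sub_one_eq_one hq0, one_pow]
          have e : (q₀ : ZMod r) = (p : ZMod r) ^ (f₀ : ℕ) := by rw [hf₀, Nat.cast_pow]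
          rw [e]
          exact mul_left_cancel₀ (pow_ne_zero m hq0) (h2.trans hm.symm))
      exact ⟨x, 1, hx, by rw [hxr, one_smul], hxs, hbad⟩
  · intro hcase x hx _
    obtain ⟨z, hz⟩ := hx
    rw [Matrix.SpecialLinearGroup.coe_pow] at hz
    rcases hcase with hrk | ⟨hk2, hrn, h35, hv⟩
    · subst hrk
      have hqq : (q₀ : ZMod r) = (Fintype.card F : ZMod r) := by rw [hqk, Nat.cast_pow, ZMod.pow_card]
      have hz0 : z ≠ 0 := Inv.scalar_ne_zero hn0 x.2 hz
      obtain ⟨w, hw⟩ : ∃ w : F, w ^ r = z := by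
        by_cases h1 : r ∣ Fintype.card F - 1
        · by_contra hno
          push Not at hno
          obtain ⟨j, hj, hdet⟩ := Inv.det_of_nonpower (r := r) hno hz
          rw [x.2] at hdet
          have hd0 : r ∣ q₀ - 1 := by
            rw [← ZMod.natCast_eq_zero_iff, Nat.cast_sub Fintype.card_pos, Nat.cast_one, ← hqq] at h1
            rw [← ZMod.natCast_eq_zero_iff, Nat.cast_sub hq01.le, Nat.cast_one]
            exact h1
          exact Inv.no_bad_scalar h1 hj hn0 (hgapk rfl hd0) (fun e => absurd e hr2) hno hdet.symm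
        · exact Inv.exists_root_of_not_dvd h1
      have hw0 : w ≠ 0 := fun e => hz0 (by rw [← hw, e, zero_pow hr'.ne_zero])
      obtain ⟨P, M0, hP, hPM⟩ := Subfield77.descent_pow F₀ hF₀ hσ (p := p) hrF hqq
        (w⁻¹ • (x : Matrix (Fin n) (Fin n) F))
        (by rw [smul_pow, hz, smul_smul, inv_pow, hw, inv_mul_cancel₀ hz0, one_smul])
      refine Subfield77.conj_sub F₀ hrF hn0 x hz0 hz hw0 hP M0 ?_
      rw [Matrix.mul_smul, ← hPM, Matrix.smul_mul, smul_smul, mul_inv_cancel₀ hw0, one_smul]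
    · subst hk2
      exact exceptional F₀ hF₀ hqk hσ (by omega) hrn.symm hrF hv x hz

end Cfsg.Agent.S5965
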