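import Cfsg.Statements.S5966
import Cfsg.Agent.ClMax99.JordanBasis
import Cfsg.Agent.ClMax99.JordanSL

set_option autoImplicit false
open scoped MatrixGroups
open Cfsg

namespace Cfsg.Agent.S5966

open Cfsg.Agent.ClMax99 Matrix Module

variable {F : Type*} [Field F] [Fintype F]

theorem scalars_normal (n : ℕ) : (Cfsg.Geo.scalars (Fin n) F).Normal := by
  refine ⟨fun s hs g => ?_⟩
  obtain ⟨c, hc⟩ := (Cfsg.Geo.mem_scalars_iff s).1 hs
  suffices g * s * g⁻¹ = s by rw [this]; exact hs
  apply Units.ext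
  rw [Units.val_mul, Units.val_mul, hc, Matrix.mul_smul, mul_one, Matrix.smul_mul, ← Units.val_mul,
    mul_inv_cancel, Units.val_one]

theorem mem_sub_iff {n : ℕ} (F₀ : Subfield F) (A : GL (Fin n) F) :
    A ∈ Cfsg.Geo.subfieldSubgroup F₀ 1 ↔ ∃ (g : GL (Fin n) F₀) (c : Fˣ),
      (A : Matrix (Fin n) (Fin n) F) = (c : F) • ((g : Matrix (Fin n) (Fin n) F₀).map (F₀.subtype)) := by
  haveI := scalars_normal (F := F) n
  have h1 : Cfsg.Geo.subfieldSubgroup F₀ (1 : GL (Fin n) F) =
      (Matrix.GeneralLinearGroup.map (F₀.subtype : F₀ →+* F)).range ⊔ Cfsg.Geo.scalars (Fin n) F := by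
    rw [Cfsg.Geo.subfieldSubgroup, show (MulAut.conj (1 : GL (Fin n) F)).toMonoidHom = MonoidHom.id _ from by
      ext; simp]
    exact Subgroup.map_id _
  rw [h1, Subgroup.mem_sup_of_normal_right]
  constructor
  · rintro ⟨y, ⟨g, rfl⟩, s, hs, rfl⟩
    obtain ⟨c, hc⟩ := (Cfsg.Geo.mem_scalars_iff s).1 hs
    exact ⟨g, c, by rw [Units.val_mul, hc, Matrix.mul_smul, mul_one]; rfl⟩
  · rintro ⟨g, c, hA⟩
    refine ⟨Matrix.GeneralLinearGroup.map (F₀.subtype : F₀ →+* F) g, ⟨g, rfl⟩,
      Units.map (Matrix.scalar (Fin n) : F →+* Matrix (Fin n) (Fin n) F).toMonoidHom c, ⟨c, rfl⟩, Units.ext ?_⟩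
    rw [Units.val_mul, hA]
    show (g : Matrix (Fin n) (Fin n) F₀).map F₀.subtype * Matrix.scalar (Fin n) (c : F) = _
    rw [Matrix.scalar_apply, ← Matrix.smul_one_eq_diagonal, Matrix.mul_smul, mul_one]

/-- Elements of order 3 of PSL_n(q) in characteristic 3 and subfield subgroups. Here `T = PSL_n(F)` for a field `F` with `q` elements, `q` a power of 3 (`n ≥ 2`, `(n, q) ≠ (2, 2), (2, 3)`), `F₀` is the subfield with `q₀` elements where `q = q₀^k` for a prime `k`, and `H` is the subgroup of matrices of determinant 1 lying in the subfield group of `F₀` (invertible matrices over `F₀` times scalars) — a maximal subgroup of type GL_n(q₀) (the case `n = 2`, `q₀ = 2` is excluded); Ω is the set of `T`-conjugates of `H` (cosets of `H`), so an element of `T` of prime order `r` (a matrix `x` of determinant 1 with `x^r` scalar, `x` not scalar) fixes a point of Ω when some conjugate of `x` by a matrix of determinant 1 lies in `H`. Suppose 3 divides the index of `H`. Then every element of `T`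 of order 3 is conjugate in `T` into `H` if and only if `n` is odd, or `n` is even and `k > 2`. -/
theorem result {F : Type*} [Field F] [Fintype F] [CharP F 3] {q : ℕ} (hq : Fintype.card F = q)
    (n : ℕ) (hn : 2 ≤ n) (hT : (n, q) ≠ (2, 3))
    (F₀ : Subfield F) (k q₀ : ℕ) (hk : k.Prime) (hF₀ : Nat.card ↥F₀ = q₀) (hqk : q = q₀ ^ k) (hC5 : ¬ (n = 2 ∧ q₀ = 2)) (hΩ : 3 ∣ ((Cfsg.Geo.subfieldSubgroup F₀ 1).comap (Matrix.SpecialLinearGroup.toGL : Matrix.SpecialLinearGroup (Fin n) F →* GL (Fin n) F)).index) :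
    (∀ x : Matrix.SpecialLinearGroup (Fin n) F,
      (∃ z : F, ((x ^ 3 : Matrix.SpecialLinearGroup (Fin n) F) : Matrix (Fin n) (Fin n) F) = z • (1 : Matrix (Fin n) (Fin n) F)) →
      (∀ z : F, (x : Matrix (Fin n) (Fin n) F) ≠ z • (1 : Matrix (Fin n) (Fin n) F)) →
      ∃ P : Matrix.SpecialLinearGroup (Fin n) F, P⁻¹ * x * P ∈ ((Cfsg.Geo.subfieldSubgroup F₀ 1).comap (Matrix.SpecialLinearGroup.toGL : Matrix.SpecialLinearGroup (Fin n) F →* GL (Fin n) F))) ↔
    (Odd n ∨ (Even n ∧ 2 < k)) := by
  classical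
  haveI : Fact (Nat.Prime 3) := ⟨Nat.prime_three⟩
  have hn0 : 0 < n := by omega
  haveI : Nonempty (Fin n) := ⟨⟨0, hn0⟩⟩
  haveI : CharP (Matrix (Fin n) (Fin n) F) 3 := Matrix.charP _
  haveI : Fintype F₀ := Fintype.ofFinite F₀
  have hq0 : Fintype.card F₀ = q₀ := Nat.card_eq_fintype_card (α := F₀) ▸ hF₀
  haveI : CharP F₀ 3 := (RingHom.charP_iff (F₀.subtype : F₀ →+* F) F₀.subtype.injective 3).2 inferInstance
  have hrc : ringChar F ≠ 2 := by rw [ringChar.eq F 3]; norm_num
  have hrc0 : ringChar F₀ ≠ 2 := by rw [ringChar.eq F₀ 3]; norm_num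
  have hq0odd : q₀ % 2 = 1 := hq0 ▸ FiniteField.odd_card_of_char_ne_two hrc0
  have hqodd : Fintype.card F % 2 = 1 := FiniteField.odd_card_of_char_ne_two hrc
  have hfix : ∀ ν : F₀, (ν : F) ^ q₀ = ν := fun ν => by
    rw [← hq0, ← SubmonoidClass.coe_pow, FiniteField.pow_card]
  constructor
  · intro hall
    by_contra hcon
    push Not at hcon
    obtain ⟨hne, hk2⟩ := hcon
    have hev : Even n := Nat.not_odd_iff_even.1 hne
    have hk : k = 2 := by have := hk2 hev; have := hk.two_le; omega
    subst hk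
    obtain ⟨h, hh⟩ := hev
    -- every element of `F₀` is a square in `F`
    have hsq0 : ∀ ν : F₀, IsSquare (ν : F) := by
      intro ν
      by_cases hν : (ν : F) = 0
      · rw [hν]; exact IsSquare.zero
      rw [FiniteField.isSquare_iff hrc hν]
      obtain ⟨s, hs⟩ : ∃ s, q₀ = 2 * s + 1 := ⟨q₀ / 2, by omega⟩
      have h1 : (ν : F) ^ (q₀ - 1) = 1 := by
        have h0 : (ν : F) ^ (q₀ - 1) * ν = 1 * ν := by
          rw [← pow_succ, Nat.sub_add_cancel (by omega), hfix, one_mul]
        exact mul_right_cancel₀ hν h0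
      rw [hq, hqk, show q₀ ^ 2 / 2 = (q₀ - 1) * (s + 1) by rw [hs, show (2 * s + 1) ^ 2 = 2 * (2 * s * (s + 1)) + 1 by ring, show 2 * s + 1 - 1 = 2 * s by omega]; omega, pow_mul, h1, one_pow]
    obtain ⟨d, hd⟩ := FiniteField.exists_nonsquare hrc
    have hd0 : d ≠ 0 := fun e => hd (e ▸ IsSquare.zero)
    let σ : Fin h ⊕ Fin h ≃ Fin n := Fintype.equivFinOfCardEq (by simp; omega)
    let N0 : Matrix (Fin n) (Fin n) F := Matrix.reindex σ σ (Matrix.fromBlocks 0 0 1 0)
    have hN0sq : N0 * N0 = 0 := by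
      simp [N0, Matrix.fromBlocks_multiply]
    let D : GL (Fin n) F := GeneralLinearGroup.mkOfDetNeZero
      (Matrix.diagonal (Function.update (fun _ => (1 : F)) ⟨0, hn0⟩ d)) (by
        rw [Matrix.det_diagonal, Finset.prod_update_of_mem (Finset.mem_univ _)]
        simpa using hd0)
    have hDdet : (D : Matrix (Fin n) (Fin n) F).det = d := by
      show (Matrix.diagonal _).det = d
      rw [Matrix.det_diagonal, Finset.prod_update_of_mem (Finset.mem_univ _)]
      simp
    obtain ⟨N', hN'def⟩ : ∃ N' : Matrix (Fin n) (Fin n) F, N' = (D : Matrix (Fin n) (Fin n) F) * N0 *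
        ((D⁻¹ : GL (Fin n) F) : Matrix (Fin n) (Fin n) F) := ⟨_, rfl⟩
    have hN'sq : N' * N' = 0 := by
      simp only [hN'def, mul_assoc]
      rw [← mul_assoc ((D⁻¹ : GL (Fin n) F) : Matrix (Fin n) (Fin n) F), ← Units.val_mul, inv_mul_cancel,
        Units.val_one, one_mul, ← mul_assoc N0, hN0sq, zero_mul, mul_zero]
    have hA : (1 + N') ^ 3 = 1 := by
      rw [add_pow_char_of_commute 3 (Commute.one_left N'), one_pow, pow_succ, pow_two, hN'sq, zero_mul, add_zero]
    have hdet : (1 + N').det = 1 := by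
      have h1 : (1 + N').det ^ 3 = 1 := by rw [← Matrix.det_pow, hA, Matrix.det_one]
      refine sub_eq_zero.mp (pow_eq_zero_iff (n := 3) (by norm_num) |>.mp ?_)
      rw [sub_pow_char, h1, one_pow, sub_self]
    have hN'0 : N' ≠ 0 := by
      intro e
      have e2 : N0 = ((D⁻¹ : GL (Fin n) F) : Matrix (Fin n) (Fin n) F) * N' * (D : Matrix (Fin n) (Fin n) F) := by
        simp only [hN'def, ← mul_assoc, ← Units.val_mul, inv_mul_cancel, Units.val_one, one_mul]
        rw [mul_assoc, ← Units.val_mul, inv_mul_cancel, Units.val_one, mul_one]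
      rw [e, mul_zero, zero_mul] at e2
      have e3 := congrFun (congrFun e2 (σ (Sum.inr ⟨0, by omega⟩))) (σ (Sum.inl ⟨0, by omega⟩))
      simp [N0] at e3
    let x : Matrix.SpecialLinearGroup (Fin n) F := ⟨1 + N', hdet⟩
    have hxv : (x : Matrix (Fin n) (Fin n) F) = 1 + N' := rfl
    obtain ⟨P, hP⟩ := hall x ⟨1, by rw [Matrix.SpecialLinearGroup.coe_pow x 3, hxv, hA, one_smul]⟩ (fun z hz => by
      rw [hxv] at hz
      have hNz : N' = (z - 1) • 1 := by rw [sub_smul, one_smul, ← hz, add_sub_cancel_left]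
      have := hN'sq
      rw [hNz, smul_mul_smul_comm, one_mul, smul_eq_zero] at this
      have hz1 : z - 1 = 0 := mul_self_eq_zero.1 (this.resolve_right one_ne_zero)
      exact hN'0 (by rw [hNz, hz1, zero_smul]))
    obtain ⟨g, c, hgc⟩ := (mem_sub_iff F₀ _).1 hP
    rw [Matrix.SpecialLinearGroup.coe_GL_coe_matrix] at hgc
    set Pi' := ((P⁻¹ : Matrix.SpecialLinearGroup (Fin n) F) : Matrix (Fin n) (Fin n) F)
    set Pm := (P : Matrix (Fin n) (Fin n) F)
    have hPP : Pi' * Pm = 1 := by
      rw [← Matrix.SpecialLinearGroup.coe_mul, inv_mul_cancel, Matrix.SpecialLinearGroup.coe_one]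
    have hPP' : Pm * Pi' = 1 := by
      rw [← Matrix.SpecialLinearGroup.coe_mul, mul_inv_cancel, Matrix.SpecialLinearGroup.coe_one]
    have hgc' : 1 + Pi' * N' * Pm = (c : F) • (g : Matrix (Fin n) (Fin n) F₀).map F₀.subtype := by
      rw [← hgc, Matrix.SpecialLinearGroup.coe_mul, Matrix.SpecialLinearGroup.coe_mul, hxv, mul_add, mul_one,
        add_mul, hPP]
    have hsq' : Pi' * N' * Pm * (Pi' * N' * Pm) = 0 := by
      calc _ = Pi' * (N' * (Pm * Pi') * N') * Pm := by simp only [mul_assoc]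
        _ = 0 := by rw [hPP', mul_one, hN'sq, mul_zero, zero_mul]
    set G : Matrix (Fin n) (Fin n) F := (g : Matrix (Fin n) (Fin n) F₀).map F₀.subtype with hG
    -- the scalar lies in `F₀`
    obtain ⟨c0, hc0⟩ : ∃ c0 : F₀, (c0 : F) = c := by
      have hGdet : G.det = ((g : Matrix (Fin n) (Fin n) F₀).det : F) :=
        (RingHom.map_det (F₀.subtype : F₀ →+* F) _).symm
      have h3 : ((c : F) ^ 3) • (G ^ 3) = 1 := by
        rw [← smul_pow, ← hgc']
        rw [add_pow_char_of_commute 3 (Commute.one_left _), one_pow, pow_succ, pow_two, hsq', zero_mul, add_zero]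
      let A0 : Matrix (Fin n) (Fin n) F₀ := (g : Matrix (Fin n) (Fin n) F₀) ^ 3
      have hA0 : G ^ 3 = A0.map F₀.subtype := by
        show ((F₀.subtype : F₀ →+* F).mapMatrix _) ^ 3 = _
        rw [← map_pow]; rfl
      rw [hA0] at h3
      have h00 := congrFun (congrFun h3 ⟨0, hn0⟩) ⟨0, hn0⟩
      simp only [Matrix.smul_apply, Matrix.map_apply, Matrix.one_apply_eq, smul_eq_mul] at h00
      have hc3 : (c : F) ^ 3 = (((A0 ⟨0, hn0⟩ ⟨0, hn0⟩)⁻¹ : F₀) : F) := by
        push_cast
        exact eq_inv_of_mul_eq_one_left h00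
      obtain ⟨w, hw⟩ := JType.exists_root_char (F := F₀) (p := 3) (A0 ⟨0, hn0⟩ ⟨0, hn0⟩)⁻¹
      refine ⟨w, ?_⟩
      have h5 : ((w : F) - c) ^ 3 = 0 := by
        rw [sub_pow_char, hc3, ← hw]; push_cast; ring
      exact sub_eq_zero.1 (pow_eq_zero_iff (n := 3) (by norm_num) |>.1 h5)
    let M0 : Matrix (Fin n) (Fin n) F₀ := c0 • (g : Matrix (Fin n) (Fin n) F₀) - 1
    have hM0 : M0.map F₀.subtype = Pi' * N' * Pm := by
      have e : M0.map F₀.subtype = (c : F) • G - 1 := by
        ext a b
        simp only [M0, G, Matrix.map_apply, Matrix.sub_apply, Matrix.smul_apply, smul_eq_mul, map_sub, map_mul,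
          Matrix.one_apply, apply_ite (F₀.subtype : F₀ →+* F), map_one, map_zero]
        rw [← hc0]; rfl
      rw [e, ← hgc', add_sub_cancel_left]
    have hM0sq : M0 * M0 = 0 := by
      apply Matrix.map_injective (f := (F₀.subtype : F₀ → F)) F₀.subtype.injective
      show (F₀.subtype : F₀ →+* F).mapMatrix (M0 * M0) = (F₀.subtype : F₀ →+* F).mapMatrix 0
      rw [map_mul, map_zero]
      show M0.map F₀.subtype * M0.map F₀.subtype = 0
      rw [hM0, hsq']
    -- the kernel of `M0` is its image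
    set L := Matrix.toLin' M0 with hL
    have hRK : LinearMap.range L ≤ LinearMap.ker L := by
      rintro _ ⟨y, rfl⟩
      rw [LinearMap.mem_ker, hL, Matrix.toLin'_apply, Matrix.toLin'_apply, Matrix.mulVec_mulVec, hM0sq,
        Matrix.zero_mulVec]
    obtain ⟨W, hW⟩ := Submodule.exists_isCompl (LinearMap.ker L)
    have hinjW : ∀ w ∈ W, L w = 0 → w = 0 := fun w hw h0 =>
      Submodule.disjoint_def.1 hW.disjoint w h0 hw
    have hrk : finrank F₀ (LinearMap.range L) = h := by
      have hdim : finrank F₀ (LinearMap.range L) + finrank F₀ (LinearMap.ker L) = n :=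
        (LinearMap.finrank_range_add_finrank_ker L).trans (Module.finrank_fin_fun F₀)
      have hrank : finrank F₀ (LinearMap.range L) = M0.rank := rfl
      have hrk2 : (M0.map F₀.subtype).rank = h := by
        have hPu : IsUnit Pm.det := by
          show IsUnit (P : Matrix (Fin n) (Fin n) F).det
          rw [P.2]; exact isUnit_one
        have hPiu : IsUnit Pi'.det := by
          show IsUnit ((P⁻¹ : Matrix.SpecialLinearGroup (Fin n) F) : Matrix (Fin n) (Fin n) F).det
          rw [(P⁻¹).2]; exact isUnit_one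
        rw [hM0, Matrix.rank_mul_eq_left_of_isUnit_det Pm _ hPu, Matrix.rank_mul_eq_right_of_isUnit_det Pi' _ hPiu]
        rw [hN'def]
        rw [Matrix.rank_mul_eq_left_of_isUnit_det _ _ ((Matrix.isUnit_iff_isUnit_det _).1 (D⁻¹).isUnit),
          Matrix.rank_mul_eq_right_of_isUnit_det _ _ ((Matrix.isUnit_iff_isUnit_det _).1 D.isUnit)]
        show (Matrix.reindex σ σ (Matrix.fromBlocks 0 0 (1 : Matrix (Fin h) (Fin h) F) 0)).rank = h
        rw [Matrix.rank_reindex]
        let f : (Fin h ⊕ Fin h → F) →ₗ[F] Fin h ⊕ Fin h → F :=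
          Matrix.mulVecLin (Matrix.fromBlocks 0 0 (1 : Matrix (Fin h) (Fin h) F) 0)
        show finrank F (LinearMap.range f) = h
        have hf : ∀ v, f v = Sum.elim (0 : Fin h → F) (v ∘ Sum.inl) := fun v => by
          funext i; rcases i with i | i <;> simp [f, Matrix.fromBlocks_mulVec]
        let e : (Fin h → F) →ₗ[F] Fin h ⊕ Fin h → F :=
          { toFun := fun w => Sum.elim (0 : Fin h → F) w
            map_add' := fun a b => by funext i; rcases i with i | i <;> simp
            map_smul' := fun a b => by funext i; rcases i with i | i <;> simp }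
        have he : LinearMap.range f = LinearMap.range e := by
          refine le_antisymm ?_ ?_
          · rintro _ ⟨v, rfl⟩; exact ⟨v ∘ Sum.inl, (hf v).symm⟩
          · rintro _ ⟨w, rfl⟩; exact ⟨Sum.elim w (0 : Fin h → F), by rw [hf]; rfl⟩
        rw [he, LinearMap.finrank_range_of_inj (fun a b hab => funext fun i => congrFun hab (Sum.inr i)),
          Module.finrank_fin_fun]
      have hmap : (M0.map F₀.subtype).rank ≤ M0.rank := by
        rw [Matrix.rank_eq_finrank_span_cols, Matrix.rank_eq_finrank_span_cols]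
        let bR := Module.finBasis F₀ (Submodule.span F₀ (Set.range M0.col))
        refine le_trans (Submodule.finrank_mono (t := Submodule.span F
          (Set.range fun i => fun a => ((bR i : Fin n → F₀) a : F))) (Submodule.span_le.2 ?_)) ?_
        · rintro _ ⟨j, rfl⟩
          have hx := congrArg Subtype.val (bR.sum_repr ⟨M0.col j, Submodule.subset_span ⟨j, rfl⟩⟩)
          rw [Submodule.coe_sum] at hx
          refine (Submodule.mem_span_range_iff_exists_fun F).2
            ⟨fun i => ((bR.repr ⟨M0.col j, Submodule.subset_span ⟨j, rfl⟩⟩ i : F₀) : F), ?_⟩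
          funext a
          have hxa := congrArg (fun v : Fin n → F₀ => (v a : F)) hx
          simp only [Finset.sum_apply, Pi.smul_apply, smul_eq_mul, Submodule.coe_smul] at hxa ⊢
          push_cast at hxa
          rw [hxa]; rfl
        · exact (finrank_range_le_card _).trans (by rw [Fintype.card_fin])
      have hle2 := Submodule.finrank_mono hRK
      omega
    have hWd : finrank F₀ W = h := by
      have h1 : finrank F₀ (LinearMap.ker L) + finrank F₀ W = n :=
        (Submodule.finrank_add_eq_of_isCompl hW).trans (Module.finrank_fin_fun F₀)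
      have h2 : finrank F₀ (LinearMap.range L) + finrank F₀ (LinearMap.ker L) = n :=
        (LinearMap.finrank_range_add_finrank_ker L).trans (Module.finrank_fin_fun F₀)
      omega
    let bW := Module.finBasisOfFinrankEq F₀ W hWd
    let vec : Fin h ⊕ Fin h → Fin n → F₀ :=
      Sum.elim (fun i => (bW i : Fin n → F₀)) fun i => L (bW i : Fin n → F₀)
    let g1 : Matrix (Fin n) (Fin n) F₀ := Matrix.of fun r c => vec (σ.symm c) r
    have hg1u : IsUnit g1 := by
      rw [← Matrix.linearIndependent_cols_iff_isUnit]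
      suffices hv : LinearIndependent F₀ vec from hv.comp σ.symm σ.symm.injective
      rw [Fintype.linearIndependent_iff]
      intro a ha
      simp only [Fintype.sum_sum_type, vec, Sum.elim_inl, Sum.elim_inr] at ha
      set u := ∑ i, a (Sum.inl i) • (bW i : Fin n → F₀) with hu
      set w := ∑ i, a (Sum.inr i) • (bW i : Fin n → F₀) with hw
      have hLw : ∑ i, a (Sum.inr i) • L (bW i : Fin n → F₀) = L w := by simp [hw, map_sum]
      rw [hLw] at ha
      have hu0 : u = 0 := by
        refine hinjW u (Submodule.sum_mem _ fun i _ => W.smul_mem _ (bW i).2) ?_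
        have h0 := congrArg L ha
        rwa [map_add, map_zero, LinearMap.mem_ker.1 (hRK ⟨w, rfl⟩), add_zero] at h0
      rw [hu0, zero_add] at ha
      have hw0 : w = 0 := hinjW w (Submodule.sum_mem _ fun i _ => W.smul_mem _ (bW i).2) ha
      have hz : ∀ b : Fin h → F₀, ∑ i, b i • (bW i : Fin n → F₀) = 0 → ∀ i, b i = 0 := fun b hb i =>
        Fintype.linearIndependent_iff.1 bW.linearIndependent b (Subtype.ext (by
          rw [Submodule.coe_sum]; simpa using hb)) i
      rintro (i | i)
      · exact hz _ hu0 i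
      · exact hz _ hw0 i
    have hMg : M0 * g1 = g1 * Matrix.reindex σ σ (Matrix.fromBlocks 0 0 1 0) := by
      ext r c
      obtain ⟨s, rfl⟩ := σ.surjective c
      have h1 : (M0 * g1) r (σ s) = L (vec s) r := by
        simp [Matrix.mul_apply, hL, Matrix.toLin'_apply, Matrix.mulVec, dotProduct, g1]
      rw [h1, Matrix.mul_apply, ← σ.sum_comp, Fintype.sum_sum_type]
      rcases s with i | i
      · simp [g1, vec, Matrix.one_apply]
      · simp [g1, vec]
        exact congrFun (LinearMap.mem_ker.1 (hRK ⟨(bW i : Fin n → F₀), rfl⟩)) r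
    set Gm : Matrix (Fin n) (Fin n) F := g1.map F₀.subtype with hGm
    have hGdet : Gm.det = ((g1.det : F₀) : F) := (RingHom.map_det (F₀.subtype : F₀ →+* F) g1).symm
    have hNG : Pi' * N' * Pm * Gm = Gm * N0 := by
      rw [← hM0, hGm]
      show (F₀.subtype : F₀ →+* F).mapMatrix M0 * (F₀.subtype : F₀ →+* F).mapMatrix g1 = _
      rw [← map_mul, hMg, map_mul]
      congr 1
      ext a b
      simp only [N0, RingHom.mapMatrix_apply, Matrix.map_apply, Matrix.reindex_apply, Matrix.submatrix_apply]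
      rcases σ.symm a with i | i <;> rcases σ.symm b with j | j <;> simp [Matrix.one_apply, apply_ite]
    set M := ((D⁻¹ : GL (Fin n) F) : Matrix (Fin n) (Fin n) F) * Pm * Gm with hM
    have hMN : M * N0 = N0 * M := by
      have e : ((D⁻¹ : GL (Fin n) F) : Matrix (Fin n) (Fin n) F) * Pm * (Pi' * N' * Pm * Gm) = N0 * M := by
        have hDD : ((D⁻¹ : GL (Fin n) F) : Matrix (Fin n) (Fin n) F) * (D : Matrix (Fin n) (Fin n) F) = 1 := by
          rw [← Units.val_mul, inv_mul_cancel, Units.val_one]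
        calc _ = ((D⁻¹ : GL (Fin n) F) : Matrix (Fin n) (Fin n) F) * (Pm * Pi') * N' * Pm * Gm := by
              simp only [mul_assoc]
          _ = (((D⁻¹ : GL (Fin n) F) : Matrix (Fin n) (Fin n) F) * (D : Matrix (Fin n) (Fin n) F)) * N0 *
              (((D⁻¹ : GL (Fin n) F) : Matrix (Fin n) (Fin n) F) * Pm * Gm) := by
              rw [hPP']; simp only [hN'def, mul_assoc, mul_one, one_mul]
          _ = N0 * M := by rw [hDD, one_mul]
      rw [hNG] at e
      rw [← e, hM]
      simp only [mul_assoc]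
    obtain ⟨B, hB⟩ : ∃ B : Matrix (Fin h ⊕ Fin h) (Fin h ⊕ Fin h) F, Matrix.reindex σ σ B = M :=
      ⟨(Matrix.reindex σ σ).symm M, (Matrix.reindex σ σ).apply_symm_apply M⟩
    have hsqM : IsSquare M.det := by
      rw [← hB] at hMN ⊢
      simp only [N0, Matrix.reindex_apply, Matrix.submatrix_mul_equiv] at hMN
      have hcomm : B * Matrix.fromBlocks 0 0 1 0 = Matrix.fromBlocks 0 0 1 0 * B :=
        (Matrix.reindex σ σ).injective hMN
      rw [← Matrix.fromBlocks_toBlocks B, Matrix.fromBlocks_multiply, Matrix.fromBlocks_multiply,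
        Matrix.fromBlocks_inj] at hcomm
      obtain ⟨e1, -, e3, -⟩ := hcomm
      simp at e1 e3
      refine ⟨B.toBlocks₁₁.det, ?_⟩
      rw [Matrix.det_reindex_self, ← Matrix.fromBlocks_toBlocks B, e1, Matrix.det_fromBlocks_zero₁₂,
        Matrix.toBlocks_fromBlocks₁₁, e3]
    have hMdet : M.det = d⁻¹ * ((g1.det : F₀) : F) := by
      rw [hM, Matrix.det_mul, Matrix.det_mul, hGdet]
      show _ * (P : Matrix (Fin n) (Fin n) F).det * _ = _
      rw [P.2, mul_one, Matrix.coe_units_inv, Matrix.det_nonsing_inv, hDdet, Ring.inverse_eq_inv']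
    have hg0 : ((g1.det : F₀) : F) ≠ 0 := fun e =>
      ((Matrix.isUnit_iff_isUnit_det _).1 hg1u).ne_zero (Subtype.ext e)
    obtain ⟨a, ha⟩ := hsqM
    obtain ⟨b, hb⟩ := hsq0 g1.det
    rw [hMdet, hb] at ha
    have hb0 : b ≠ 0 := fun e => hg0 (by rw [hb, e, mul_zero])
    have ha0 : a ≠ 0 := fun e => by
      rw [e, mul_zero, mul_eq_zero, inv_eq_zero] at ha
      exact ha.elim hd0 (mul_ne_zero hb0 hb0)
    refine hd ⟨b / a, ?_⟩
    field_simp at ha ⊢
    linear_combination -ha
  · intro hcond x hx1 _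
    obtain ⟨z, hz⟩ := hx1
    obtain ⟨c, hc⟩ := JType.exists_root_char (F := F) (p := 3) z
    have hc0 : c ≠ 0 := by
      rintro rfl
      rw [← hc, zero_pow (by norm_num), zero_smul] at hz
      have hd := (x ^ 3).2
      rw [hz, Matrix.det_zero] at hd
      exact zero_ne_one hd
    set N : Matrix (Fin n) (Fin n) F := c⁻¹ • (x : Matrix (Fin n) (Fin n) F) - 1 with hN
    have hN3 : N ^ 3 = 0 := by
      rw [hN, sub_pow_char_of_commute 3 (Commute.one_right _), one_pow, smul_pow,
        ← Matrix.SpecialLinearGroup.coe_pow, hz, smul_smul, ← hc, ← mul_pow, inv_mul_cancel₀ hc0, one_pow,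
        one_smul, sub_self]
    have hxN : (x : Matrix (Fin n) (Fin n) F) = c • (1 + N) := by
      rw [hN, add_sub_cancel, smul_smul, mul_inv_cancel₀ hc0, one_smul]
    obtain ⟨P, S, μ, hS01, hNP, hμ, hμs, hC⟩ := JBasis.exists_jordan N hN3
    set dP := (P : Matrix (Fin n) (Fin n) F).det
    have hdP : dP ≠ 0 := ((Matrix.isUnit_iff_isUnit_det _).1 P.isUnit).ne_zero
    obtain ⟨C, ν, hCS, hdet⟩ : ∃ (C : GL (Fin n) F) (ν : F₀),
        (C : Matrix (Fin n) (Fin n) F) * S = S * (C : Matrix (Fin n) (Fin n) F) ∧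
          dP * (C : Matrix (Fin n) (Fin n) F).det * (ν : F) = 1 := by
      have hcases : ∀ d : F, d ≠ 0 → ∃ C : GL (Fin n) F, ∃ ν : F₀,
          (C : Matrix (Fin n) (Fin n) F) * S = S * (C : Matrix (Fin n) (Fin n) F) ∧
            (C : Matrix (Fin n) (Fin n) F).det * (ν : F) = d := by
        intro d hd
        by_cases h1 : (1 : ℕ) ∈ μ
        · obtain ⟨C, hCS, hCd⟩ := hC 1 h1 d hd
          exact ⟨C, 1, hCS, by rw [hCd, pow_one, OneMemClass.coe_one, mul_one]⟩
        by_cases h3 : (3 : ℕ) ∈ μ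
        · obtain ⟨e, he⟩ := JType.exists_root_char (F := F) (p := 3) d
          obtain ⟨C, hCS, hCd⟩ := hC 3 h3 e (fun e0 => hd (by rw [← he, e0, zero_pow (by norm_num)]))
          exact ⟨C, 1, hCS, by rw [hCd, he, OneMemClass.coe_one, mul_one]⟩
        have hall2 : ∀ e ∈ μ, e = 2 := fun e he => by
          have := hμ e he
          have : e ≠ 1 := fun h => h1 (h ▸ he)
          have : e ≠ 3 := fun h => h3 (h ▸ he)
          omega
        have hrep := Multiset.eq_replicate_of_mem hall2
        have hnev : Even n := by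
          rw [← hμs, hrep, Multiset.sum_replicate, smul_eq_mul]
          exact ⟨Multiset.card μ, by ring⟩
        have hk2 : 2 < k := by
          rcases hcond with h | ⟨-, h⟩
          · exact absurd hnev (Nat.not_even_iff_odd.2 h)
          · exact h
        have h2mem : (2 : ℕ) ∈ μ := by
          rw [hrep]
          refine Multiset.mem_replicate.2 ⟨fun h0 => ?_, rfl⟩
          rw [hrep, h0] at hμs
          simp at hμs
          omega
        by_cases hsq : IsSquare d
        · obtain ⟨e, he⟩ := hsq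
          obtain ⟨C, hCS, hCd⟩ := hC 2 h2mem e (fun e0 => hd (by rw [he, e0, mul_zero]))
          exact ⟨C, 1, hCS, by rw [hCd, he, OneMemClass.coe_one, mul_one, pow_two]⟩
        -- a non-square of `F₀`
        obtain ⟨ν, hν⟩ := FiniteField.exists_nonsquare hrc0
        have hν0 : ν ≠ 0 := fun e => hν (e ▸ IsSquare.zero)
        have hν1 : ν ^ (q₀ / 2) = -1 := by
          rcases FiniteField.pow_dichotomy hrc0 hν0 with h | h
          · exact absurd ((FiniteField.isSquare_iff hrc0 hν0).2 h) hν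
          · rwa [hq0] at h
        have hνF : ¬ IsSquare (ν : F) := by
          rw [FiniteField.isSquare_iff hrc (fun e => hν0 (Subtype.ext e))]
          intro h
          have hkodd : Odd k := hk.odd_of_ne_two (by omega)
          obtain ⟨s, hs⟩ : ∃ s, q₀ = 2 * s + 1 := ⟨q₀ / 2, by omega⟩
          have hdecomp : ∀ j, ∃ o, q₀ ^ j / 2 = s * o ∧ (Odd o ↔ Odd j) := by
            intro j
            induction j with
            | zero => exact ⟨0, by simp, by simp⟩
            | succ j ih =>
              obtain ⟨o, ho, hpar⟩ := ih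
              refine ⟨q₀ * o + 1, ?_, ?_⟩
              · have hpodd : q₀ ^ j % 2 = 1 := by rw [Nat.pow_mod, hq0odd]; simp
                have e1 : q₀ ^ j = 2 * (s * o) + 1 := by omega
                rw [pow_succ, e1, hs]
                ring_nf
                omega
              · rw [Nat.odd_add_one, Nat.odd_mul, Nat.odd_add_one]
                simp [hpar, Nat.odd_iff.2 hq0odd]
          obtain ⟨o, ho, hpar⟩ := hdecomp k
          rw [hq, hqk, ho, pow_mul] at h
          have h1 : (ν : F) ^ s = -1 := by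
            have hs2 : s = q₀ / 2 := by omega
            rw [hs2, ← SubmonoidClass.coe_pow, hν1]; simp
          rw [h1, (hpar.2 hkodd).neg_one_pow] at h
          exact Ring.neg_one_ne_one_of_char_ne_two hrc h
        have hsq2 : IsSquare (d * (ν : F)⁻¹) := by
          have hν' : ¬ IsSquare ((ν : F)⁻¹) := by rwa [isSquare_inv]
          rw [FiniteField.isSquare_iff hrc (mul_ne_zero hd (inv_ne_zero fun e => hν0 (Subtype.ext e))), mul_pow]
          rcases FiniteField.pow_dichotomy hrc hd with a1 | a1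
          · exact absurd ((FiniteField.isSquare_iff hrc hd).2 a1) hsq
          have hi0 : (ν : F)⁻¹ ≠ 0 := inv_ne_zero fun e => hν0 (Subtype.ext e)
          rcases FiniteField.pow_dichotomy hrc hi0 with a2 | a2
          · exact absurd ((FiniteField.isSquare_iff hrc hi0).2 a2) hν'
          rw [a1, a2, neg_mul_neg, one_mul]
        obtain ⟨e, he⟩ := hsq2
        obtain ⟨C, hCS, hCd⟩ := hC 2 h2mem e (fun e0 => by
          rw [e0, mul_zero, mul_eq_zero, inv_eq_zero] at he
          exact he.elim hd fun h0 => hν0 (Subtype.ext h0))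
        refine ⟨C, ν, hCS, ?_⟩
        have hνF0 : (ν : F) ≠ 0 := fun e => hν0 (Subtype.ext e)
        rw [hCd, pow_two, ← he, mul_assoc, inv_mul_cancel₀ hνF0, mul_one]
      obtain ⟨C, ν, hCS, hd⟩ := hcases dP⁻¹ (inv_ne_zero hdP)
      exact ⟨C, ν, hCS, by rw [mul_assoc, hd, mul_inv_cancel₀ hdP]⟩
    have hνne : ν ≠ 0 := fun e => by rw [e] at hdet; simp at hdet
    let g0 : Matrix (Fin n) (Fin n) F₀ := Matrix.diagonal (Function.update (fun _ => 1) ⟨0, hn0⟩ ν)
    have hg0det : g0.det = ν := by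
      rw [Matrix.det_diagonal, Finset.prod_update_of_mem (Finset.mem_univ _)]; simp
    set Gm : Matrix (Fin n) (Fin n) F := g0.map F₀.subtype with hGm
    have hGmdet : Gm.det = (ν : F) := by
      rw [← hg0det]; exact (RingHom.map_det (F₀.subtype : F₀ →+* F) g0).symm
    let Q : Matrix.SpecialLinearGroup (Fin n) F :=
      ⟨(P : Matrix (Fin n) (Fin n) F) * (C : Matrix (Fin n) (Fin n) F) * Gm, by
        rw [Matrix.det_mul, Matrix.det_mul, hGmdet]; exact hdet⟩
    refine ⟨Q, ?_⟩
    let S0 : Matrix (Fin n) (Fin n) F₀ := Matrix.of fun a b => if S a b = 0 then 0 else 1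
    have hS0 : S0.map F₀.subtype = S := by
      ext a b
      simp only [S0, Matrix.map_apply, Matrix.of_apply]
      rcases hS01 a b with h | h <;> simp [h]
    have hnil : S0 ^ 3 = 0 := by
      apply Matrix.map_injective (f := (F₀.subtype : F₀ → F)) F₀.subtype.injective
      show (F₀.subtype : F₀ →+* F).mapMatrix (S0 ^ 3) = (F₀.subtype : F₀ →+* F).mapMatrix 0
      rw [map_pow, map_zero]
      show (S0.map F₀.subtype) ^ 3 = 0
      rw [hS0]
      have h := congrArg (fun A => ((P⁻¹ : GL (Fin n) F) : Matrix (Fin n) (Fin n) F) * A) hNP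
      simp only [← mul_assoc, ← Units.val_mul, inv_mul_cancel, Units.val_one, one_mul] at h
      rw [← h, pow_succ, pow_two]
      have hPPi : (P : Matrix (Fin n) (Fin n) F) * ((P⁻¹ : GL (Fin n) F) : Matrix (Fin n) (Fin n) F) = 1 := by
        rw [← Units.val_mul, mul_inv_cancel, Units.val_one]
      simp only [← mul_assoc]
      rw [show ((P⁻¹ : GL (Fin n) F) : Matrix (Fin n) (Fin n) F) * N * (P : Matrix (Fin n) (Fin n) F) *
          ((P⁻¹ : GL (Fin n) F) : Matrix (Fin n) (Fin n) F) * N * (P : Matrix (Fin n) (Fin n) F) *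
          ((P⁻¹ : GL (Fin n) F) : Matrix (Fin n) (Fin n) F) * N * (P : Matrix (Fin n) (Fin n) F) =
          ((P⁻¹ : GL (Fin n) F) : Matrix (Fin n) (Fin n) F) * (N * N * N) * (P : Matrix (Fin n) (Fin n) F) by
        simp only [mul_assoc, ← mul_assoc (P : Matrix (Fin n) (Fin n) F) ((P⁻¹ : GL (Fin n) F) : Matrix (Fin n) (Fin n) F), hPPi, one_mul]]
      rw [show N * N * N = N ^ 3 by rw [pow_succ, pow_two], hN3, mul_zero, zero_mul]
    haveI : CharP (Matrix (Fin n) (Fin n) F₀) 3 := Matrix.charP _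
    have hu0 : IsUnit (1 + S0) := by
      refine IsUnit.of_pow_eq_one (n := 3) ?_ (by norm_num)
      rw [add_pow_char_of_commute 3 (Commute.one_left S0), one_pow, hnil, add_zero]
    have hg0u : IsUnit g0 := by
      rw [Matrix.isUnit_iff_isUnit_det, hg0det]; exact isUnit_iff_ne_zero.2 hνne
    obtain ⟨u0, hu0⟩ := hu0
    obtain ⟨v0, hv0⟩ := hg0u
    change Matrix.SpecialLinearGroup.toGL (Q⁻¹ * x * Q) ∈ Cfsg.Geo.subfieldSubgroup F₀ 1
    rw [mem_sub_iff]
    refine ⟨v0⁻¹ * u0 * v0, Units.mk0 c hc0, ?_⟩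
    rw [Matrix.SpecialLinearGroup.coe_GL_coe_matrix, Units.val_mk0, Units.val_mul, Units.val_mul, hu0]
    set Q' := ((Q⁻¹ : Matrix.SpecialLinearGroup (Fin n) F) : Matrix (Fin n) (Fin n) F)
    set R := (((v0⁻¹ : (Matrix (Fin n) (Fin n) F₀)ˣ) : Matrix (Fin n) (Fin n) F₀) * (1 + S0) *
      (v0 : Matrix (Fin n) (Fin n) F₀)).map F₀.subtype
    have hGR : Gm * R = (1 + S) * Gm := by
      show (F₀.subtype : F₀ →+* F).mapMatrix g0 * (F₀.subtype : F₀ →+* F).mapMatrix _ = _
      rw [← map_mul, ← hv0, ← mul_assoc, ← mul_assoc, ← Units.val_mul, mul_inv_cancel, Units.val_one, one_mul,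
        map_mul, map_add, map_one, hv0]
      show (1 + S0.map F₀.subtype) * Gm = _
      rw [hS0]
    have hxQ : (x : Matrix (Fin n) (Fin n) F) * (Q : Matrix (Fin n) (Fin n) F) =
        (Q : Matrix (Fin n) (Fin n) F) * (c • R) := by
      show _ * ((P : Matrix (Fin n) (Fin n) F) * (C : Matrix (Fin n) (Fin n) F) * Gm) =
        ((P : Matrix (Fin n) (Fin n) F) * (C : Matrix (Fin n) (Fin n) F) * Gm) * (c • R)
      rw [hxN, Matrix.smul_mul, Matrix.mul_smul]
      congr 1
      rw [mul_assoc _ Gm R, hGR, ← mul_assoc _ (1 + S) Gm, ← mul_assoc (1 + N)]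
      congr 1
      rw [mul_assoc _ _ (1 + S), mul_add _ 1 S, mul_one, hCS, mul_add, ← mul_assoc _ S, ← hNP, add_mul, one_mul,
        mul_assoc N]
    show ((Q⁻¹ * x * Q : Matrix.SpecialLinearGroup (Fin n) F) : Matrix (Fin n) (Fin n) F) = c • R
    rw [Matrix.SpecialLinearGroup.coe_mul, Matrix.SpecialLinearGroup.coe_mul, mul_assoc, hxQ, ← mul_assoc,
      ← Matrix.SpecialLinearGroup.coe_mul, inv_mul_cancel, Matrix.SpecialLinearGroup.coe_one, one_mul]

end Cfsg.Agent.S5966
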