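import Cfsg.Statements.S5967
import Cfsg.Agent.ClMax99.SympConj
import Cfsg.Agent.ClMax99.AltSim

set_option autoImplicit false
open scoped MatrixGroups
open Cfsg

namespace Cfsg.Agent.S5967

open Cfsg.Agent.ClMax99 Module Matrix

variable {F : Type*} [Field F] [Fintype F]

theorem no_conj {n : ℕ} (f : (Fin n → F) → (Fin n → F) → F) (hf : Cfsg.Geo.IsSymplecticForm f)
    (a : Fin n → F) (hdet : (Matrix.diagonal a).det = 1)
    (h : ∀ (B : LinearMap.BilinForm F (Fin n → F)) (c : F), B.IsAlt → B.Nondegenerate → c ≠ 0 →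
      ¬ ∀ u v, B (fun i => a i * u i) (fun i => a i * v i) = c * B u v)
    (P : Matrix.SpecialLinearGroup (Fin n) F) :
    P⁻¹ * ⟨Matrix.diagonal a, hdet⟩ * P ∉ ((Cfsg.Geo.similarityGroup f).comap
      (Matrix.SpecialLinearGroup.toGL : Matrix.SpecialLinearGroup (Fin n) F →* GL (Fin n) F)) := by
  rintro ⟨c, hc⟩
  set x : Matrix.SpecialLinearGroup (Fin n) F := ⟨Matrix.diagonal a, hdet⟩
  let B0 : LinearMap.BilinForm F (Fin n → F) := LinearMap.mk₂ F f hf.bilinear.add_left
    hf.bilinear.smul_left (fun m a b => hf.bilinear.add_right m a b) fun k m a => hf.bilinear.smul_right k m a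
  let Pi' : Matrix (Fin n) (Fin n) F := ((P⁻¹ : Matrix.SpecialLinearGroup (Fin n) F) : Matrix (Fin n) (Fin n) F)
  let B : LinearMap.BilinForm F (Fin n → F) := B0.compl₁₂ (Matrix.toLin' Pi') (Matrix.toLin' Pi')
  have hB : ∀ u v, B u v = f (Pi' *ᵥ u) (Pi' *ᵥ v) := fun u v => rfl
  have hPP : ∀ u, Pi' *ᵥ ((P : Matrix (Fin n) (Fin n) F) *ᵥ u) = u := fun u => by
    rw [Matrix.mulVec_mulVec, ← Matrix.SpecialLinearGroup.coe_mul, inv_mul_cancel,
      Matrix.SpecialLinearGroup.coe_one, Matrix.one_mulVec]
  have hPP' : ∀ u, (P : Matrix (Fin n) (Fin n) F) *ᵥ (Pi' *ᵥ u) = u := fun u => by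
    rw [Matrix.mulVec_mulVec, ← Matrix.SpecialLinearGroup.coe_mul, mul_inv_cancel,
      Matrix.SpecialLinearGroup.coe_one, Matrix.one_mulVec]
  have hsim : ∀ u v, B ((x : Matrix (Fin n) (Fin n) F) *ᵥ u) ((x : Matrix (Fin n) (Fin n) F) *ᵥ v) =
      (c : F) * B u v := by
    intro u v
    rw [hB, hB, ← hc, Matrix.SpecialLinearGroup.coe_GL_coe_matrix]
    simp only [Matrix.SpecialLinearGroup.coe_mul, ← Matrix.mulVec_mulVec, hPP']
    rfl
  refine h B c (fun u => by rw [hB]; exact hf.alternating _) ?_ c.ne_zero fun u v => ?_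
  · constructor
    · intro u hu
      have h0 : Pi' *ᵥ u = 0 := by
        by_contra hne
        obtain ⟨w, hw⟩ := (hf.nondegenerate _ hne).2
        have := hu ((P : Matrix (Fin n) (Fin n) F) *ᵥ w)
        rw [hB, hPP] at this
        exact hw this
      rw [← hPP' u, h0, Matrix.mulVec_zero]
    · intro u hu
      have h0 : Pi' *ᵥ u = 0 := by
        by_contra hne
        obtain ⟨w, hw⟩ := (hf.nondegenerate _ hne).1
        have := hu ((P : Matrix (Fin n) (Fin n) F) *ᵥ w)
        rw [hB, hPP] at this
        exact hw this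
      rw [← hPP' u, h0, Matrix.mulVec_zero]
  · have := hsim u v
    simpa [x, funext fun l => Matrix.mulVec_diagonal a u l, funext fun l => Matrix.mulVec_diagonal a v l] using this

/-- Involutions of PSL_n(q) and the symplectic-type subgroups. Here `T = PSL_n(F)` for a field `F` with `q` elements, `n ≥ 4` even, `f` is a nondegenerate alternating form on `F^n`, and `H` is the subgroup of matrices of determinant 1 preserving `f` up to a scalar — a maximal subgroup of type Sp_n(q); Ω is the set of `T`-conjugates of `H` (cosets of `H`), so an element of `T` of prime order `r` (a matrix `x` of determinant 1 with `x^r` scalar, `x` not scalar) fixes a point of Ω when some conjugate of `x` by a matrix of determinant 1 preserves `f` up to a scalar. Suppose the index of `H` is even. Then every involution of `T` is conjugate in `T` into `H` if and only if `(q − 1)_2 ≤ (n)_2`. -/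
theorem result {F : Type*} [Field F] [Fintype F] {p : ℕ} [Fact p.Prime] [CharP F p] {q : ℕ} (hq : Fintype.card F = q)
    (n : ℕ) (hn : 4 ≤ n) (he : Even n) (f : (Fin n → F) → (Fin n → F) → F) (hf : Cfsg.Geo.IsSymplecticForm f)
    (hΩ : 2 ∣ ((Cfsg.Geo.similarityGroup f).comap (Matrix.SpecialLinearGroup.toGL : Matrix.SpecialLinearGroup (Fin n) F →* GL (Fin n) F)).index) :
    (∀ x : Matrix.SpecialLinearGroup (Fin n) F,
      (∃ z : F, ((x ^ 2 : Matrix.SpecialLinearGroup (Fin n) F) : Matrix (Fin n) (Fin n) F) = z • (1 : Matrix (Fin n) (Fin n) F)) →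
      (∀ z : F, (x : Matrix (Fin n) (Fin n) F) ≠ z • (1 : Matrix (Fin n) (Fin n) F)) →
      ∃ P : Matrix.SpecialLinearGroup (Fin n) F, P⁻¹ * x * P ∈ ((Cfsg.Geo.similarityGroup f).comap (Matrix.SpecialLinearGroup.toGL : Matrix.SpecialLinearGroup (Fin n) F →* GL (Fin n) F))) ↔
    padicValNat 2 (q - 1) ≤ padicValNat 2 n := by
  classical
  have hn0 : 1 ≤ n := by omega
  have hq1 : 1 < q := hq ▸ Fintype.one_lt_card
  constructor
  · intro hall
    by_contra hgap
    replace hgap : padicValNat 2 n < padicValNat 2 (q - 1) := not_le.1 hgap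
    -- an element `c` with `c ^ n = -1`
    obtain ⟨g, hg⟩ := IsCyclic.exists_generator (α := Fˣ)
    have hgo : orderOf g = q - 1 := by
      rw [orderOf_eq_card_of_forall_mem_zpowers hg, Nat.card_units, Nat.card_eq_fintype_card, hq]
    have hq10 : q - 1 ≠ 0 := by omega
    set d := Nat.gcd n (q - 1) with hd
    have hd0 : d ≠ 0 := fun e => hq10 (Nat.eq_zero_of_gcd_eq_zero_right e)
    obtain ⟨e, he'⟩ : d ∣ q - 1 := Nat.gcd_dvd_right _ _
    have he0 : e ≠ 0 := by rintro rfl; rw [mul_zero] at he'; exact hq10 he'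
    have he2 : 2 ∣ e := by
      by_contra he2
      have h1 : padicValNat 2 (q - 1) = padicValNat 2 d := by
        rw [he', padicValNat.mul hd0 he0, padicValNat.eq_zero_of_not_dvd he2, add_zero]
      have h2 : padicValNat 2 d ≤ padicValNat 2 n :=
        (padicValNat_dvd_iff_le (by omega)).1 (pow_padicValNat_dvd.trans (Nat.gcd_dvd_left n (q - 1)))
      omega
    obtain ⟨t, rfl⟩ := he2
    have hneg : g ^ (d * t) = -1 := by
      have h1 : (g ^ (d * t)) ^ 2 = 1 := by
        rw [← pow_mul, show d * t * 2 = q - 1 by rw [he']; ring, ← hgo, pow_orderOf_eq_one]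
      have h2 : g ^ (d * t) ≠ 1 := fun h => by
        have h3 := Nat.le_of_dvd (by
          rcases Nat.eq_zero_or_pos (d * t) with h0 | h0
          · rw [show q - 1 = d * t * 2 by rw [he']; ring, h0] at hq10; simp at hq10
          · exact h0) (hgo ▸ orderOf_dvd_of_pow_eq_one h)
        rw [show q - 1 = d * t * 2 by rw [he']; ring] at h3
        have : d * t ≠ 0 := fun h0 => by rw [he', ← mul_assoc, mul_comm d 2, mul_assoc, h0] at hq10; simp at hq10
        omega
      refine Units.ext ((sq_eq_one_iff.1 (by rw [← Units.val_pow_eq_pow_val, h1, Units.val_one] :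
        ((g ^ (d * t) : Fˣ) : F) ^ 2 = 1)).resolve_left fun h => h2 (Units.ext h))
    obtain ⟨c, hc⟩ : ∃ c : Fˣ, c ^ n = -1 := by
      refine ⟨g ^ (Nat.gcdA n (q - 1) * (t : ℤ)), ?_⟩
      have hbez := Nat.gcd_eq_gcd_ab n (q - 1)
      rw [← zpow_natCast _ n, ← _root_.zpow_mul, ← hneg, ← zpow_natCast g (d * t), zpow_eq_zpow_iff_modEq, hgo]
      rw [Int.modEq_iff_dvd]
      exact ⟨Nat.gcdB n (q - 1) * t, by push_cast; rw [hd]; linear_combination (t : ℤ) * hbez⟩
    have h2F : (2 : F) ≠ 0 := by
      intro h
      have h2q : Fintype.card F % 2 = 0 := FiniteField.even_card_iff_char_two.1 (by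
        by_contra hne
        exact Ring.two_ne_zero hne h)
      rw [hq] at h2q
      have : padicValNat 2 (q - 1) = 0 := padicValNat.eq_zero_of_not_dvd (by omega)
      omega
    have hcF : (c : F) ^ n = -1 := by rw [← Units.val_pow_eq_pow_val, hc]; simp
    let a : Fin n → F := fun i => if (i : ℕ) = 0 then -(c : F) else c
    have hne : -(c : F) ≠ c := fun h => by
      have : (2 : F) * c = 0 := by linear_combination -h
      exact (mul_eq_zero.1 this).elim h2F c.ne_zero
    have hz : (Finset.univ.filter fun i : Fin n => (i : ℕ) = 0) = {⟨0, by omega⟩} := by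
      ext i; simp [Fin.ext_iff]
    have hnz : (Finset.univ.filter fun i : Fin n => ¬ (i : ℕ) = 0).card = n - 1 := by
      have h := Finset.card_filter_add_card_filter_not (s := (Finset.univ : Finset (Fin n))) fun i => (i : ℕ) = 0
      rw [Finset.card_univ, Fintype.card_fin, hz, Finset.card_singleton] at h
      omega
    have hdet : (Matrix.diagonal a).det = 1 := by
      rw [Matrix.det_diagonal, Finset.prod_ite, Finset.prod_const, Finset.prod_const, hz,
        Finset.card_singleton, hnz, pow_one, neg_mul, ← pow_succ', Nat.sub_add_cancel hn0, hcF, neg_neg]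
    let x0 : Matrix.SpecialLinearGroup (Fin n) F := ⟨Matrix.diagonal a, hdet⟩
    obtain ⟨P, hP⟩ := hall x0 ⟨(c : F) ^ 2, by
        rw [Matrix.SpecialLinearGroup.coe_pow x0 2]
        show (Matrix.diagonal a) ^ 2 = _
        rw [Matrix.diagonal_pow, ← Matrix.diagonal_one, ← Matrix.diagonal_smul]
        congr 1
        funext i
        by_cases hi : (i : ℕ) = 0 <;> simp [a, hi]⟩ (fun z hz' => hne (by
          replace hz' : Matrix.diagonal a = z • 1 := hz'
          have h1 := congrArg (fun M : Matrix (Fin n) (Fin n) F => M ⟨0, by omega⟩ ⟨0, by omega⟩) hz'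
          have h2 := congrArg (fun M : Matrix (Fin n) (Fin n) F => M ⟨1, by omega⟩ ⟨1, by omega⟩) hz'
          simp [a] at h1 h2
          rw [h1, h2]))
    refine no_conj f hf a hdet (fun B μ hA hB hμ h => ?_) P hP
    have hS1 : (Finset.univ.filter fun i => a i = -(c : F)) = {⟨0, by omega⟩} := by
      rw [← hz]; ext i; by_cases hi : (i : ℕ) = 0 <;> simp [a, hi, Ne.symm hne]
    have hS2 : (Finset.univ.filter fun i => a i = (c : F)).card = n - 1 := by
      rw [← hnz]; congr 1; ext i; by_cases hi : (i : ℕ) = 0 <;> simp [a, hi, hne]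
    have hc0 : -(c : F) ≠ 0 := neg_ne_zero.2 c.ne_zero
    have h1 := AltSim.diag_pairing B hA hB a μ h (-(c : F)) (μ / -(c : F)) hc0 (mul_div_cancel₀ μ hc0)
    rw [hS1, Finset.card_singleton] at h1
    have ht1 : μ / -(c : F) ≠ -(c : F) := fun e => by simpa using h1.2 e.symm
    by_cases ht : μ / -(c : F) = c
    · have h2 := (AltSim.diag_pairing B hA hB a μ h c (-(c : F)) c.ne_zero (by
        rw [div_eq_iff hc0] at ht; rw [ht])).1
      rw [hS1, Finset.card_singleton, hS2] at h2
      omega
    · have h3 : (Finset.univ.filter fun i => a i = μ / -(c : F)) = ∅ :=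
        Finset.filter_eq_empty_iff.2 fun i _ => by
          by_cases hi : (i : ℕ) = 0 <;> simp only [a, hi, if_true, if_false] <;> exact Ne.symm (by assumption)
      rw [h3] at h1
      simp at h1
  · intro hle x hx1 _
    obtain ⟨z, hz⟩ := hx1
    have hT : ∀ y, (x : Matrix (Fin n) (Fin n) F) *ᵥ ((x : Matrix (Fin n) (Fin n) F) *ᵥ y) = z • y := fun y => by
      rw [Matrix.mulVec_mulVec, ← pow_two, ← Matrix.SpecialLinearGroup.coe_pow, hz, Matrix.smul_mulVec,
        Matrix.one_mulVec]
    have hz0 : z ≠ 0 := by
      rintro rfl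
      rw [zero_smul] at hz
      have hd2 := (x ^ 2).2
      haveI : Nonempty (Fin n) := ⟨⟨0, by omega⟩⟩
      rw [hz, Matrix.det_zero] at hd2
      exact zero_ne_one hd2
    obtain ⟨m, hm⟩ := he
    set T := Matrix.toLin' (x : Matrix (Fin n) (Fin n) F) with hTdef
    have hTT : ∀ y, T (T y) = z • y := fun y => by simp [hTdef, hT]
    by_cases hsq : ∀ a : F, a ^ 2 ≠ z
    · -- non-square
      obtain ⟨v, hv⟩ := SympConj.exists_cyclic_planes T hsq hTT m (by rw [Module.finrank_fin_fun]; omega)
      haveI : Nonempty (Fin m) := ⟨⟨0, by omega⟩⟩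
      refine SympConj.conj_of_planes f hf x (ι := Fin m) (by rw [Fintype.card_fin]; omega) v (fun i => T (v i))
        ?_ (-z) z (neg_ne_zero.2 hz0) fun i => Or.inr ⟨rfl, hTT (v i), rfl⟩
      refine le_of_eq (Submodule.eq_top_of_finrank_eq ?_).symm
      rw [finrank_span_eq_card hv, Fintype.card_sum, Fintype.card_fin, Module.finrank_fin_fun]
      omega
    push Not at hsq
    obtain ⟨c, hc⟩ := hsq
    have hc0 : c ≠ 0 := by rintro rfl; exact hz0 (by simpa using hc.symm)
    by_cases h2F : (2 : F) = 0
    · -- characteristic two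
      set N : Module.End F (Fin n → F) := T - c • 1 with hN
      have hNap : ∀ y, N y = T y - c • y := fun y => by simp [hN]
      have hNN : ∀ y, N (N y) = 0 := fun y => by
        simp only [hNap, map_sub, map_smul, hTT, ← hc, pow_two]
        match_scalars
        · linear_combination c * c * h2F
        · linear_combination -c * h2F
      set R := LinearMap.range N with hR
      have hRK : R ≤ LinearMap.ker N := by rintro _ ⟨y, rfl⟩; exact LinearMap.mem_ker.2 (hNN y)
      obtain ⟨W, hW⟩ := Submodule.exists_isCompl (LinearMap.ker N)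
      obtain ⟨U, hU⟩ := Submodule.exists_isCompl (R.comap (LinearMap.ker N).subtype)
      set j := finrank F W
      have hjR : finrank F R = j := by
        have h : finrank F R + finrank F (LinearMap.ker N) = finrank F (Fin n → F) :=
          LinearMap.finrank_range_add_finrank_ker N
        have h' : finrank F (LinearMap.ker N) + finrank F W = finrank F (Fin n → F) :=
          Submodule.finrank_add_eq_of_isCompl hW
        linarith
      have hUd : j + finrank F U = finrank F (LinearMap.ker N) := by
        rw [← hjR, ← (Submodule.comapSubtypeEquivOfLe hRK).finrank_eq]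
        exact Submodule.finrank_add_eq_of_isCompl hU
      have hdims : j + j + finrank F U = n := by
        have h := Submodule.finrank_add_eq_of_isCompl hW
        rw [Module.finrank_fin_fun] at h
        omega
      obtain ⟨l, hl⟩ : ∃ l, finrank F U = l + l := ⟨m - j, by omega⟩
      obtain ⟨u1, u2, hu1, hu2, hUspan⟩ := SympConj.exists_two_families U hl
      let b := finBasis F W
      have hker : ∀ y ∈ LinearMap.ker N, T y = c • y := fun y hy => by
        rw [LinearMap.mem_ker, hNap, sub_eq_zero] at hy; exact hy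
      haveI : Nonempty (Fin j ⊕ Fin l) := by
        by_cases hj : j = 0
        · exact ⟨Sum.inr ⟨0, by omega⟩⟩
        · exact ⟨Sum.inl ⟨0, by omega⟩⟩
      refine SympConj.conj_of_planes f hf x (ι := Fin j ⊕ Fin l)
        (by rw [Fintype.card_sum, Fintype.card_fin, Fintype.card_fin]; omega)
        (Sum.elim (fun i => (b i : Fin n → F)) fun i => ((u1 i : LinearMap.ker N) : Fin n → F))
        (Sum.elim (fun i => T (b i : Fin n → F)) fun i => ((u2 i : LinearMap.ker N) : Fin n → F)) ?_ z z hz0 ?_
      · set S := Submodule.span F (Set.range (Sum.elim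
          (Sum.elim (fun i => (b i : Fin n → F)) fun i => ((u1 i : LinearMap.ker N) : Fin n → F))
          (Sum.elim (fun i => T (b i : Fin n → F)) fun i => ((u2 i : LinearMap.ker N) : Fin n → F))))
        have hbS : ∀ i, (b i : Fin n → F) ∈ S := fun i => Submodule.subset_span ⟨Sum.inl (Sum.inl i), rfl⟩
        have hTS : ∀ i, T (b i : Fin n → F) ∈ S := fun i => Submodule.subset_span ⟨Sum.inr (Sum.inl i), rfl⟩
        have hWexp : ∀ w ∈ W, ∃ g : Fin j → F, w = ∑ i, g i • (b i : Fin n → F) := fun w hw => by
          refine ⟨b.repr ⟨w, hw⟩, ?_⟩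
          have h := congrArg Subtype.val (b.sum_repr ⟨w, hw⟩).symm
          rwa [Submodule.coe_sum] at h
        have hWS : W ≤ S := fun w hw => by
          obtain ⟨g, rfl⟩ := hWexp w hw
          exact Submodule.sum_mem _ fun i _ => S.smul_mem _ (hbS i)
        have hRS : R ≤ S := by
          rintro _ ⟨y, rfl⟩
          obtain ⟨k, hk, w, hw, rfl⟩ := Submodule.mem_sup.1 (hW.sup_eq_top ▸ Submodule.mem_top : y ∈ LinearMap.ker N ⊔ W)
          rw [map_add, LinearMap.mem_ker.1 hk, zero_add]
          obtain ⟨g, rfl⟩ := hWexp w hw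
          rw [map_sum]
          refine Submodule.sum_mem _ fun i _ => ?_
          rw [map_smul, hNap]
          exact S.smul_mem _ (S.sub_mem (hTS i) (S.smul_mem _ (hbS i)))
        have hkS : LinearMap.ker N ≤ S := by
          intro y hy
          obtain ⟨r, hr, u, hu, hsum⟩ := Submodule.mem_sup.1 (hU.sup_eq_top ▸ Submodule.mem_top :
            (⟨y, hy⟩ : LinearMap.ker N) ∈ R.comap (LinearMap.ker N).subtype ⊔ U)
          rw [show y = (r : Fin n → F) + (u : Fin n → F) from (congrArg Subtype.val hsum).symm]
          refine S.add_mem (hRS hr) ?_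
          refine (Submodule.span_le.2 ?_ : Submodule.span F (Set.range (Sum.elim u1 u2)) ≤ S.comap (LinearMap.ker N).subtype)
            (hUspan hu)
          rintro _ ⟨i | i, rfl⟩
          · exact Submodule.subset_span ⟨Sum.inl (Sum.inr i), rfl⟩
          · exact Submodule.subset_span ⟨Sum.inr (Sum.inr i), rfl⟩
        exact hW.sup_eq_top ▸ sup_le hkS hWS
      · rintro (i | i)
        · exact Or.inr ⟨rfl, hTT _, by linear_combination z * h2F⟩
        · exact Or.inl ⟨c, hc, hker _ (u1 i).2, hker _ (u2 i).2⟩
    · -- odd characteristic, eigenvalues `± c`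
      set K := LinearMap.ker (T - c • 1) with hK
      set L := LinearMap.ker (T + c • 1) with hL
      have hKap : ∀ y ∈ K, T y = c • y := fun y hy => by
        simpa [hK, sub_eq_zero] using hy
      have hLap : ∀ y ∈ L, T y = (-c) • y := fun y hy => by
        simpa [hL, add_eq_zero_iff_eq_neg] using hy
      have hcompl : IsCompl K L := by
        constructor
        · rw [Submodule.disjoint_def]
          intro y h1 h2
          have h3 : ((2 : F) * c) • y = 0 := by
            rw [mul_smul, two_smul]
            nth_rewrite 1 [← hKap y h1]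
            rw [hLap y h2, neg_smul, neg_add_cancel]
          exact (smul_eq_zero.1 h3).resolve_left (mul_ne_zero h2F hc0)
        · rw [codisjoint_iff_le_sup]
          intro y _
          have hy : y = (2 : F)⁻¹ • (y + c⁻¹ • T y) + (2 : F)⁻¹ • (y - c⁻¹ • T y) := by
            match_scalars
            · field_simp; norm_num
            · ring
          rw [hy]
          refine Submodule.add_mem_sup (Submodule.smul_mem _ _ ?_) (Submodule.smul_mem _ _ ?_)
          · simp only [hK, LinearMap.mem_ker, LinearMap.sub_apply, LinearMap.smul_apply, Module.End.one_apply,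
              map_add, map_smul, hTT, ← hc]
            match_scalars <;> field_simp <;> ring
          · simp only [hL, LinearMap.mem_ker, LinearMap.add_apply, LinearMap.smul_apply, Module.End.one_apply,
              map_sub, map_smul, hTT, ← hc]
            match_scalars <;> field_simp <;> ring
      have hdim := Submodule.finrank_add_eq_of_isCompl hcompl
      rw [Module.finrank_fin_fun] at hdim
      let bs := ((finBasis F K).prod (finBasis F L)).map (Submodule.prodEquivOfIsCompl K L hcompl)
      let ev : Fin (finrank F K) ⊕ Fin (finrank F L) → F := Sum.elim (fun _ => c) fun _ => -c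
      have hev : ∀ i, T (bs i) = ev i • bs i := by
        rintro (i | i)
        · simp [bs, ev, hKap _ (finBasis F K i).2]
        · simp [bs, ev, hLap _ (finBasis F L i).2]
      have hdetx : c ^ n * (-1) ^ finrank F L = 1 := by
        have h1 : LinearMap.toMatrix bs bs T = Matrix.diagonal ev := by
          ext i k
          rw [LinearMap.toMatrix_apply, hev, map_smul, Basis.repr_self]
          by_cases h : i = k
          · subst h; simp
          · simp [Finsupp.single_eq_of_ne h, h]
        have h2 : (Matrix.diagonal ev).det = 1 := by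
          rw [← h1, LinearMap.det_toMatrix, hTdef, LinearMap.det_toLin']
          exact x.2
        rw [Matrix.det_diagonal, Fintype.prod_sum_type] at h2
        simp only [ev, Sum.elim_inl, Sum.elim_inr, Finset.prod_const, Finset.card_univ, Fintype.card_fin] at h2
        rw [show c ^ n = c ^ (finrank F K + finrank F L) by rw [hdim], pow_add, mul_assoc, ← mul_pow, mul_neg_one]
        exact h2
      have hL2 : Even (finrank F L) := by
        rcases Nat.even_or_odd (finrank F L) with h | h
        · exact h
        exfalso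
        rw [h.neg_one_pow, mul_neg_one, neg_eq_iff_eq_neg] at hdetx
        set s := padicValNat 2 (q - 1)
        obtain ⟨o, ho⟩ : 2 ^ s ∣ q - 1 := pow_padicValNat_dvd
        have hodd : Odd o := Nat.odd_iff.2 (by
          by_contra hne
          have : 2 ^ (s + 1) ∣ q - 1 := by
            rw [pow_succ, ho]; exact mul_dvd_mul_left _ (by omega)
          have := (padicValNat_dvd_iff_le (by omega)).1 this
          omega)
        obtain ⟨k, hk⟩ : 2 ^ s ∣ n := (pow_dvd_pow 2 hle).trans pow_padicValNat_dvd
        have h1 : (c ^ n) ^ o = 1 := by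
          rw [← pow_mul, hk, show 2 ^ s * k * o = (q - 1) * k by rw [ho]; ring, pow_mul, ← hq,
            FiniteField.pow_card_sub_one_eq_one c hc0, one_pow]
        rw [hdetx, hodd.neg_one_pow] at h1
        exact h2F (by linear_combination -h1)
      obtain ⟨l2, hl2⟩ := hL2
      obtain ⟨l1, hl1⟩ : ∃ l1, finrank F K = l1 + l1 := ⟨m - l2, by omega⟩
      obtain ⟨v1, w1, hv1, hw1, hs1⟩ := SympConj.exists_two_families K hl1
      obtain ⟨v2, w2, hv2, hw2, hs2⟩ := SympConj.exists_two_families L hl2
      haveI : Nonempty (Fin l1 ⊕ Fin l2) := by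
        by_cases hj : l1 = 0
        · exact ⟨Sum.inr ⟨0, by omega⟩⟩
        · exact ⟨Sum.inl ⟨0, by omega⟩⟩
      refine SympConj.conj_of_planes f hf x (ι := Fin l1 ⊕ Fin l2)
        (by rw [Fintype.card_sum, Fintype.card_fin, Fintype.card_fin]; omega)
        (Sum.elim v1 v2) (Sum.elim w1 w2) ?_ z z hz0 ?_
      · rw [← hcompl.sup_eq_top]
        refine sup_le (hs1.trans (Submodule.span_mono ?_)) (hs2.trans (Submodule.span_mono ?_))
        · rintro _ ⟨i | i, rfl⟩
          · exact ⟨Sum.inl (Sum.inl i), rfl⟩
          · exact ⟨Sum.inr (Sum.inl i), rfl⟩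
        · rintro _ ⟨i | i, rfl⟩
          · exact ⟨Sum.inl (Sum.inr i), rfl⟩
          · exact ⟨Sum.inr (Sum.inr i), rfl⟩
      · rintro (i | i)
        · exact Or.inl ⟨c, hc, hKap _ (hv1 i), hKap _ (hw1 i)⟩
        · exact Or.inl ⟨-c, by rw [neg_sq, hc], hLap _ (hv2 i), hLap _ (hw2 i)⟩

end Cfsg.Agent.S5967
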