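import Cfsg.Statements.S5968
import Cfsg.Agent.ClMax99.AltSim
import Cfsg.Agent.ClMax99.InvElt
import Cfsg.Agent.Lib.LinearGroup.Card
import Cfsg.Agent.Lib.Symplectic.Card

set_option autoImplicit false
open scoped MatrixGroups
open Cfsg

namespace Cfsg.Agent.S5968

open Cfsg.Agent.ClMax99 Module

variable {F : Type*} [Field F] [Fintype F]

/-- No conjugate in the similarity group, given no similitude structure. -/
theorem of_no_structure {n : ℕ} (f : (Fin n → F) → (Fin n → F) → F) (hf : Cfsg.Geo.IsSymplecticForm f)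
    {r : ℕ} (x : Matrix.SpecialLinearGroup (Fin n) F) (hxr : x ^ r = 1) (hn : 1 ≤ n)
    (h : ∀ (B : LinearMap.BilinForm F (Fin n → F)) (c : F), B.IsAlt → B.Nondegenerate → c ^ r = 1 → c ≠ 0 →
      ¬ ∀ u v, B ((x : Matrix (Fin n) (Fin n) F).mulVec u) ((x : Matrix (Fin n) (Fin n) F).mulVec v) = c * B u v)
    (P : Matrix.SpecialLinearGroup (Fin n) F) :
    P⁻¹ * x * P ∉ ((Cfsg.Geo.similarityGroup f).comap
      (Matrix.SpecialLinearGroup.toGL : Matrix.SpecialLinearGroup (Fin n) F →* GL (Fin n) F)) := by
  intro hmem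
  obtain ⟨c, hc⟩ := hmem
  let B0 : LinearMap.BilinForm F (Fin n → F) := LinearMap.mk₂ F f hf.bilinear.add_left
    hf.bilinear.smul_left (fun m a b => hf.bilinear.add_right m a b) fun k m a => hf.bilinear.smul_right k m a
  let Q := Matrix.toLin' ((P⁻¹ : Matrix.SpecialLinearGroup (Fin n) F) : Matrix (Fin n) (Fin n) F)
  let B : LinearMap.BilinForm F (Fin n → F) := B0.compl₁₂ Q Q
  have hB : ∀ u v, B u v = f (((P⁻¹ : Matrix.SpecialLinearGroup (Fin n) F) : Matrix (Fin n) (Fin n) F).mulVec u)
      (((P⁻¹ : Matrix.SpecialLinearGroup (Fin n) F) : Matrix (Fin n) (Fin n) F).mulVec v) := fun u v => rfl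
  have hPP : ∀ u, ((P⁻¹ : Matrix.SpecialLinearGroup (Fin n) F) : Matrix (Fin n) (Fin n) F).mulVec
      ((P : Matrix (Fin n) (Fin n) F).mulVec u) = u := fun u => by
    rw [Matrix.mulVec_mulVec, ← Matrix.SpecialLinearGroup.coe_mul, inv_mul_cancel,
      Matrix.SpecialLinearGroup.coe_one, Matrix.one_mulVec]
  have hPP' : ∀ u, (P : Matrix (Fin n) (Fin n) F).mulVec
      (((P⁻¹ : Matrix.SpecialLinearGroup (Fin n) F) : Matrix (Fin n) (Fin n) F).mulVec u) = u := fun u => by
    rw [Matrix.mulVec_mulVec, ← Matrix.SpecialLinearGroup.coe_mul, mul_inv_cancel,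
      Matrix.SpecialLinearGroup.coe_one, Matrix.one_mulVec]
  have hsim : ∀ u v, B ((x : Matrix (Fin n) (Fin n) F).mulVec u) ((x : Matrix (Fin n) (Fin n) F).mulVec v) =
      (c : F) * B u v := by
    intro u v
    rw [hB, hB, ← hc, Matrix.SpecialLinearGroup.coe_GL_coe_matrix]
    simp only [Matrix.SpecialLinearGroup.coe_mul, ← Matrix.mulVec_mulVec, hPP']
  have hA : B.IsAlt := fun u => by rw [hB]; exact hf.alternating _
  have hnd : B.Nondegenerate := by
    constructor
    · intro u hu
      have h0 : ((P⁻¹ : Matrix.SpecialLinearGroup (Fin n) F) : Matrix (Fin n) (Fin n) F).mulVec u = 0 := by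
        by_contra hne
        obtain ⟨w, hw⟩ := (hf.nondegenerate _ hne).2
        have := hu ((P : Matrix (Fin n) (Fin n) F).mulVec w)
        rw [hB, hPP] at this
        exact hw this
      rw [← hPP' u, h0, Matrix.mulVec_zero]
    · intro u hu
      have h0 : ((P⁻¹ : Matrix.SpecialLinearGroup (Fin n) F) : Matrix (Fin n) (Fin n) F).mulVec u = 0 := by
        by_contra hne
        obtain ⟨w, hw⟩ := (hf.nondegenerate _ hne).1
        have := hu ((P : Matrix (Fin n) (Fin n) F).mulVec w)
        rw [hB, hPP] at this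
        exact hw this
      rw [← hPP' u, h0, Matrix.mulVec_zero]
  have hiter : ∀ k : ℕ, ∀ u v, B (((x : Matrix (Fin n) (Fin n) F) ^ k).mulVec u)
      (((x : Matrix (Fin n) (Fin n) F) ^ k).mulVec v) = (c : F) ^ k * B u v := by
    intro k
    induction k with
    | zero => simp
    | succ k ih => intro u v; rw [pow_succ', ← Matrix.mulVec_mulVec, ← Matrix.mulVec_mulVec, hsim, ih]; ring
  have hcr : (c : F) ^ r = 1 := by
    by_contra hne
    have h0 : ∀ u v, B u v = 0 := fun u v => by
      have e := hiter r u v
      rw [← Matrix.SpecialLinearGroup.coe_pow, hxr, Matrix.SpecialLinearGroup.coe_one, Matrix.one_mulVec,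
        Matrix.one_mulVec] at e
      by_contra h0
      exact hne ((mul_eq_right₀ h0).1 e.symm)
    have := hnd.1 (Pi.single (⟨0, hn⟩ : Fin n) 1) (h0 _)
    simp at this
  exact h B c hA hnd hcr c.ne_zero hsim

/-- The index of the similitude subgroup divides a power of `q` times the odd product. -/
theorem index_dvd {q : ℕ} (hq : Fintype.card F = q) {n m : ℕ} (hm : n = m + m) (hm1 : 1 ≤ m)
    (f : (Fin n → F) → (Fin n → F) → F) (hf : Cfsg.Geo.IsSymplecticForm f) :
    ∃ a, ((Cfsg.Geo.similarityGroup f).comap
      (Matrix.SpecialLinearGroup.toGL : Matrix.SpecialLinearGroup (Fin n) F →* GL (Fin n) F)).index ∣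
        q ^ a * ∏ i ∈ Finset.range m, (q ^ (2 * i + 1) - 1) := by
  classical
  set H := ((Cfsg.Geo.similarityGroup f).comap
    (Matrix.SpecialLinearGroup.toGL : Matrix.SpecialLinearGroup (Fin n) F →* GL (Fin n) F))
  let B : LinearMap.BilinForm F (Fin n → F) := LinearMap.mk₂ F f hf.bilinear.add_left
    hf.bilinear.smul_left (fun m a b => hf.bilinear.add_right m a b) fun k m a => hf.bilinear.smul_right k m a
  have hA : B.IsAlt := fun u => hf.alternating u
  obtain ⟨m', e, e', he, he', hee', hee, he'e', hspan⟩ := Forms.exists_symplectic_family B hA ⊤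
    fun u _ h => by
      by_contra hne
      obtain ⟨v, hv⟩ := (hf.nondegenerate u hne).2
      exact hv (h v Submodule.mem_top)
  have hdim := Forms.finrank_eq_of_symplectic_family B hA ⊤ e e' he he' hee' hee he'e' hspan
  rw [finrank_top, Module.finrank_fin_fun] at hdim
  obtain rfl : m' = m := by omega
  let Φ : Symplectic.Vec m' F →ₗ[F] (Fin n → F) := Fintype.linearCombination F (Sum.elim e' e)
  have hΦi : Function.Injective Φ := by
    have hsw : LinearIndependent F (Sum.elim e' e) := by
      rw [show Sum.elim e' e = Sum.elim e e' ∘ Sum.swap by funext i; cases i <;> rfl]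
      exact (Forms.linearIndependent_symplectic_family B hA e e' hee' hee he'e').comp _
        (Equiv.sumComm (Fin m') (Fin m')).injective
    exact linearIndependent_iff_injective_fintypeLinearCombination.1 hsw
  let Ψ : Symplectic.Vec m' F ≃ₗ[F] (Fin n → F) :=
    LinearMap.linearEquivOfInjective Φ hΦi (by
      rw [Module.finrank_fin_fun, Module.finrank_pi, Fintype.card_sum, Fintype.card_fin, hm])
  have hΦf : ∀ u v, B (Φ u) (Φ v) = Cfsg.sympForm m' F u v := by
    intro u v
    have hfe : ∀ i j, B (e' i) (e j) = if i = j then -1 else 0 := fun i j => by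
      rw [← LinearMap.IsAlt.neg hA (e j) (e' i), hee']
      by_cases h : i = j
      · subst h; simp
      · rw [if_neg h, if_neg (Ne.symm h), neg_zero]
    simp only [Φ, Fintype.linearCombination_apply, Fintype.sum_sum_type, Sum.elim_inl, Sum.elim_inr,
      map_add, map_sum, map_smul, LinearMap.add_apply, LinearMap.sum_apply, LinearMap.smul_apply,
      hee', hee, he'e', hfe, smul_eq_mul, mul_ite, mul_zero, mul_one, mul_neg, Finset.sum_ite_eq,
      Finset.sum_ite_eq', Finset.mem_univ, if_true, Finset.sum_const_zero, add_zero, zero_add,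
      Symplectic.sympForm_eq_sum, Finset.sum_sub_distrib, Finset.sum_neg_distrib]
    simp only [mul_comm]
    ring
  let E : Module.End F (Symplectic.Vec m' F) ≃ₐ[F] Matrix (Fin n) (Fin n) F :=
    (Ψ.conjAlgEquiv F).trans LinearMap.toMatrixAlgEquiv'
  let σ : Symplectic.Sp m' F → Matrix (Fin n) (Fin n) F := fun g =>
    E (Matrix.toLin' (g : Matrix (Fin m' ⊕ Fin m') (Fin m' ⊕ Fin m') F))
  have hσ : ∀ g w, (σ g).mulVec (Φ w) = Φ (g • w) := fun g w => by
    show (LinearMap.toMatrix' (Ψ.conjAlgEquiv F (Matrix.toLin' (g : Matrix (Fin m' ⊕ Fin m') (Fin m' ⊕ Fin m') F)))).mulVec (Φ w) = _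
    rw [LinearMap.toMatrix'_mulVec]
    simp only [LinearEquiv.conjAlgEquiv_apply, LinearMap.comp_apply, LinearEquiv.coe_coe]
    rw [show Ψ.symm (Φ w) = w from Ψ.symm_apply_apply w]
    rfl
  have hσdet : ∀ g, (σ g).det = 1 := fun g => by
    have h1 : LinearMap.det ((Ψ.toLinearMap ∘ₗ Matrix.toLin' (g : Matrix (Fin m' ⊕ Fin m') (Fin m' ⊕ Fin m') F)) ∘ₗ
        Ψ.symm.toLinearMap) = 1 := by
      rw [LinearMap.comp_assoc, LinearMap.det_conj, LinearMap.det_toLin', SymplecticGroup.det_eq_one g.2]
    have h2 : (σ g).det = (LinearMap.toMatrix' ((Ψ.toLinearMap ∘ₗ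
        Matrix.toLin' (g : Matrix (Fin m' ⊕ Fin m') (Fin m' ⊕ Fin m') F)) ∘ₗ Ψ.symm.toLinearMap)).det := rfl
    rw [h2, LinearMap.det_toMatrix', h1]
  let τ : Symplectic.Sp m' F →* Matrix.SpecialLinearGroup (Fin n) F := MonoidHom.mk' (fun g => ⟨σ g, hσdet g⟩)
    fun g g' => Subtype.ext (by
      show σ (g * g') = σ g * σ g'
      simp only [σ, ← map_mul]
      congr 1
      rw [Submonoid.coe_mul, Matrix.toLin'_mul]
      rfl)
  have hτi : Function.Injective τ := fun g g' h => by
    have h' : σ g = σ g' := congrArg Subtype.val h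
    exact Subtype.ext (Matrix.toLin'.injective (E.injective h'))
  have hτH : τ.range ≤ H := by
    rintro _ ⟨g, rfl⟩
    refine ⟨1, fun u v => ?_⟩
    obtain ⟨a, rfl⟩ := Ψ.surjective u
    obtain ⟨b, rfl⟩ := Ψ.surjective v
    show f ((σ g).mulVec (Φ a)) ((σ g).mulVec (Φ b)) = _
    rw [Units.val_one, one_mul, hσ, hσ]
    show B (Φ (g • a)) (Φ (g • b)) = B (Φ a) (Φ b)
    rw [hΦf, hΦf, Symplectic.sympForm_smul_smul]
  have hcardSp : Nat.card (Symplectic.Sp m' F) ∣ Nat.card H := by
    rw [Nat.card_congr (MonoidHom.ofInjective hτi).toEquiv]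
    exact Subgroup.card_dvd_of_le hτH
  obtain ⟨k, hk⟩ := hcardSp
  have hidx := H.index_mul_card
  rw [hk, Symplectic.card_Sp hq] at hidx
  have hsplit : ∀ s, ∏ i ∈ Finset.range (s + s), (q ^ (i + 1) - 1) =
      (∏ i ∈ Finset.range s, (q ^ (2 * (i + 1)) - 1)) * ∏ i ∈ Finset.range s, (q ^ (2 * i + 1) - 1) := by
    intro s
    induction s with
    | zero => simp
    | succ s ih =>
      rw [show s + 1 + (s + 1) = s + s + 1 + 1 by ring, Finset.prod_range_succ, Finset.prod_range_succ, ih,
        Finset.prod_range_succ _ s, Finset.prod_range_succ _ s]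
      rw [show s + s + 1 = 2 * s + 1 by ring, show 2 * s + 1 + 1 = 2 * (s + 1) by ring]
      ring
  obtain ⟨n', rfl⟩ : ∃ n', n = n' + 1 := ⟨n - 1, by omega⟩
  have hSL := LinearGroup.card_SL_eq_pow_mul_prod (F := F) n'
  rw [show Nat.card F = q from (Nat.card_eq_fintype_card).trans hq] at hSL
  rw [hSL] at hidx
  refine ⟨∑ i : Fin (n' + 1), (i : ℕ), ?_⟩
  have h2 : ∏ i ∈ Finset.range (n' + 1), (q ^ (i + 1) - 1) =
      (q - 1) * ∏ i ∈ Finset.range n', (q ^ (i + 2) - 1) := by
    rw [Finset.prod_range_succ', mul_comm]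
    simp
  rw [hm, hsplit] at h2
  set E := ∏ i ∈ Finset.range m', (q ^ (2 * (i + 1)) - 1) with hE
  set O := ∏ i ∈ Finset.range m', (q ^ (2 * i + 1) - 1) with hO
  set P := ∏ i ∈ Finset.range n', (q ^ (i + 2) - 1)
  set a := ∑ i : Fin (n' + 1), (i : ℕ)
  have hq1 : 1 < q := hq ▸ Fintype.one_lt_card
  have hEpos : 0 < E := Finset.prod_pos fun i _ => Nat.sub_pos_of_lt (Nat.one_lt_pow (by omega) hq1)
  refine ⟨k * q ^ (m' ^ 2) * (q - 1), Nat.eq_of_mul_eq_mul_left hEpos ?_⟩
  calc E * (q ^ a * O) = q ^ a * (E * O) := by ring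
    _ = q ^ a * ((q - 1) * P) := by rw [h2]
    _ = (q - 1) * (q ^ a * P) := by ring
    _ = E * (H.index * (k * q ^ (m' ^ 2) * (q - 1))) := by rw [← hidx]; ring

/-- Diagonal elements. -/
theorem card_filter_lt {n k : ℕ} (hk : k ≤ n) :
    (Finset.univ.filter fun i : Fin n => (i : ℕ) < k).card = k := by
  have : (Finset.univ.filter fun i : Fin n => (i : ℕ) < k) = Finset.univ.map (Fin.castLEEmb hk) := by
    ext i
    simp only [Finset.mem_filter, Finset.mem_univ, true_and, Finset.mem_map]
    exact ⟨fun h => ⟨⟨i, h⟩, Fin.ext rfl⟩, by rintro ⟨j, rfl⟩; exact j.2⟩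
  rw [this, Finset.card_map, Finset.card_univ, Fintype.card_fin]

/-- Derangements of odd prime order of PSL_n(q) on the cosets of a symplectic-type subgroup. Here `T = PSL_n(F)` for a field `F` with `q` elements, `n ≥ 4` even, `f` is a nondegenerate alternating form on `F^n`, and `H` is the subgroup of matrices of determinant 1 preserving `f` up to a scalar — a maximal subgroup of type Sp_n(q); Ω is the set of `T`-conjugates of `H` (cosets of `H`), so an element of `T` of prime order `r` (a matrix `x` of determinant 1 with `x^r` scalar, `x` not scalar) fixes a point of Ω when some conjugate of `x` by a matrix of determinant 1 preserves `f` up to a scalar. For every odd prime `r` dividing the index of `H`, with `(n, r) ≠ (6, 3)`, there is an element of `T` of order `r` with no conjugate in `H`. (For `n = 6`, `r = 3` this can fail: when `(q − 1)_3 = 3` every element of order 3 is conjugate into `H`.) -/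
theorem result {F : Type*} [Field F] [Fintype F] {p : ℕ} [Fact p.Prime] [CharP F p] {q : ℕ} (hq : Fintype.card F = q)
    (n : ℕ) (hn : 4 ≤ n) (he : Even n) (f : (Fin n → F) → (Fin n → F) → F) (hf : Cfsg.Geo.IsSymplecticForm f)
    (r : ℕ) [Fact r.Prime] (hr2 : r ≠ 2) (hgap : ¬ (n = 6 ∧ r = 3)) (hΩ : r ∣ ((Cfsg.Geo.similarityGroup f).comap (Matrix.SpecialLinearGroup.toGL : Matrix.SpecialLinearGroup (Fin n) F →* GL (Fin n) F)).index) :
    ∃ x : Matrix.SpecialLinearGroup (Fin n) F,
      (∃ z : F, ((x ^ r : Matrix.SpecialLinearGroup (Fin n) F) : Matrix (Fin n) (Fin n) F) = z • (1 : Matrix (Fin n) (Fin n) F)) ∧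
      (∀ z : F, (x : Matrix (Fin n) (Fin n) F) ≠ z • (1 : Matrix (Fin n) (Fin n) F)) ∧
      ∀ P : Matrix.SpecialLinearGroup (Fin n) F, P⁻¹ * x * P ∉ ((Cfsg.Geo.similarityGroup f).comap (Matrix.SpecialLinearGroup.toGL : Matrix.SpecialLinearGroup (Fin n) F →* GL (Fin n) F)) := by
  classical
  have hrP : r.Prime := Fact.out
  have hr3 : 3 ≤ r := by have := hrP.two_le; omega
  obtain ⟨m, hm⟩ := he
  by_cases hrp : r = p
  · -- characteristic
    subst hrp
    let i0 : Fin n := ⟨0, by omega⟩
    let i1 : Fin n := ⟨1, by omega⟩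
    let i2 : Fin n := ⟨2, by omega⟩
    have h01 : i0 ≠ i1 := by simp [i0, i1, Fin.ext_iff]
    have h02 : i0 ≠ i2 := by simp [i0, i2, Fin.ext_iff]
    have h12 : i1 ≠ i2 := by simp [i1, i2, Fin.ext_iff]
    let N : Matrix (Fin n) (Fin n) F := Matrix.single i0 i1 1 + Matrix.single i1 i2 1
    have hN2 : N * N = Matrix.single i0 i2 1 := by
      simp [N, add_mul, mul_add, h01.symm, h02.symm, h12.symm, h12]
    have hN3 : N * N * N = 0 := by
      rw [hN2]; simp [N, mul_add, h02.symm, h12.symm]
    have hNr : N ^ r = 0 := by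
      obtain ⟨s, hs⟩ := Nat.exists_eq_add_of_le hr3
      rw [hs, pow_add, pow_succ, pow_two, hN3, zero_mul]
    haveI : Nonempty (Fin n) := ⟨i0⟩
    haveI : CharP (Matrix (Fin n) (Fin n) F) r := Matrix.charP _
    have hAr : (1 + N) ^ r = 1 := by
      rw [add_pow_char_of_commute r (Commute.one_left N), hNr, one_pow, add_zero]
    have hdet : (1 + N).det = 1 := by
      have h := congrArg Matrix.det hAr
      rw [Matrix.det_pow, Matrix.det_one] at h
      have h2 : ((1 + N).det - 1) ^ r = 0 := by rw [sub_pow_char, one_pow, h, sub_self]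
      exact sub_eq_zero.1 (pow_eq_zero_iff hrP.ne_zero |>.1 h2)
    let x : Matrix.SpecialLinearGroup (Fin n) F := ⟨1 + N, hdet⟩
    have hxr : x ^ r = 1 := Subtype.ext ((Matrix.SpecialLinearGroup.coe_pow x r).trans hAr)
    refine ⟨x, ⟨1, by rw [hxr, Matrix.SpecialLinearGroup.coe_one, one_smul]⟩, fun z hz => ?_, ?_⟩
    · have h := congrArg (fun M : Matrix (Fin n) (Fin n) F => M i0 i1) (show 1 + N = z • 1 from hz)
      simp [N, h01, h01.symm, h12, h12.symm, Matrix.single_apply] at h
    refine of_no_structure f hf (r := r) x hxr (by omega) fun B c hA hB hcr _ hsim => ?_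
    change ∀ u v, B ((1 + N).mulVec u) ((1 + N).mulVec v) = c * B u v at hsim
    have hc1 : c = 1 := by
      have h2 : (c - 1) ^ r = 0 := by rw [sub_pow_char, one_pow, hcr, sub_self]
      exact sub_eq_zero.1 (pow_eq_zero_iff hrP.ne_zero |>.1 h2)
    subst hc1
    simp only [Matrix.add_mulVec, Matrix.one_mulVec, one_mul] at hsim
    set T := N.mulVec with hT
    have hT3 : ∀ u, T (T (T u)) = 0 := fun u => by
      simp only [hT, Matrix.mulVec_mulVec, ← mul_assoc, hN3, Matrix.zero_mulVec]
    have h1 : ∀ u v, B (T u) v + B u (T v) + B (T u) (T v) = 0 := fun u v => by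
      have e := hsim u v
      simp only [map_add, LinearMap.add_apply] at e
      linear_combination e
    have h2 : ∀ u v, B (T (T u)) (T v) = 0 := fun u v => by
      have e := h1 (T (T u)) v
      rw [hT3] at e
      simpa using e
    have h3 : ∀ u v, B (T (T u)) v = B u (T (T v)) := by
      intro u v
      have e1 := h1 (T u) v
      have e2 := h1 u (T v)
      have e3 := h2 u v
      have e4 : B (T u) (T (T v)) = 0 := by
        rw [← LinearMap.IsAlt.neg hA]; simp [h2]
      linear_combination e1 - e2 - e3 + e4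
    have h4 : ∀ u, B (T (T u)) u = 0 := fun u => by
      have e := h3 u u
      rw [← LinearMap.IsAlt.neg hA (T (T u)) u] at e
      have h20 : (2 : F) ≠ 0 := by
        have : ((2 : ℕ) : F) ≠ 0 := fun h0 => by
          have := (CharP.cast_eq_zero_iff F r 2).1 h0
          have := Nat.le_of_dvd (by norm_num) this
          omega
        exact_mod_cast this
      exact (mul_eq_zero.1 (show (2 : F) * B (T (T u)) u = 0 by linear_combination e)).resolve_left h20
    have hTT : ∀ u, T (T u) = u i2 • Pi.single i0 1 := fun u => by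
      rw [hT, Matrix.mulVec_mulVec, hN2]
      funext l
      by_cases hl : l = i0
      · subst hl; simp [Matrix.mulVec, dotProduct, Matrix.single_apply]
      · simp [Matrix.mulVec, dotProduct, Matrix.single_apply, hl, Ne.symm hl]
    have h5 : ∀ u : Fin n → F, u i2 * B (Pi.single i0 1) u = 0 := fun u => by
      have := h4 u
      rw [hTT] at this
      simpa using this
    have h6 : B (Pi.single i0 1) (Pi.single i2 1) = 0 := by simpa using h5 (Pi.single i2 1)
    have h7 : Pi.single i0 (1 : F) = 0 := hB.1 _ fun v => by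
      have := h5 (v - v i2 • Pi.single i2 1 + Pi.single i2 1)
      simpa [map_sub, map_add, map_smul, h6] using this
    simp at h7
  · -- cross characteristic
    have hrF : (r : F) ≠ 0 := fun h => hrp ((Nat.prime_dvd_prime_iff_eq Fact.out hrP).1
      ((CharP.cast_eq_zero_iff F p r).1 h)).symm
    by_cases hq1 : r ∣ q - 1
    · obtain ⟨g, hg⟩ := IsCyclic.exists_generator (α := Fˣ)
      have hgo : orderOf g = q - 1 := by
        rw [orderOf_eq_card_of_forall_mem_zpowers hg, Nat.card_units, Nat.card_eq_fintype_card, hq]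
      obtain ⟨w, hw⟩ : ∃ w : F, orderOf w = r := by
        refine ⟨((g ^ ((q - 1) / r) : Fˣ) : F), ?_⟩
        have hpos : 0 < q - 1 := by
          have := Fintype.one_lt_card (α := F)
          omega
        rw [orderOf_units, orderOf_pow_of_dvd (Nat.div_pos (Nat.le_of_dvd hpos hq1) hrP.pos).ne'
          (hgo.symm ▸ Nat.div_dvd_of_dvd hq1), hgo, Nat.div_div_self hq1 hpos.ne']
      have hwr : w ^ r = 1 := hw ▸ pow_orderOf_eq_one w
      have hw0 : w ≠ 0 := fun h => by rw [h, zero_pow hrP.ne_zero] at hwr; exact zero_ne_one hwr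
      have hwk : ∀ k, k < r → w ^ k = 1 → k = 0 := fun k hk h => by
        by_contra h0
        have := Nat.le_of_dvd (Nat.pos_of_ne_zero h0) (hw ▸ orderOf_dvd_of_pow_eq_one h)
        omega
      have hw1 : w ≠ 1 := fun h => by have := hwk 1 (by omega) (by rw [pow_one]; exact h); omega
      have mk : ∀ a : Fin n → F, (∀ i, a i ^ r = 1) → (∏ i, a i = 1) →
          ∀ i j, a i ≠ a j →
          (∀ (B : LinearMap.BilinForm F (Fin n → F)) (c : F), B.IsAlt → B.Nondegenerate → c ≠ 0 →
            ¬ ∀ u v, B (fun l => a l * u l) (fun l => a l * v l) = c * B u v) →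
          ∃ x : Matrix.SpecialLinearGroup (Fin n) F,
            (∃ z : F, ((x ^ r : Matrix.SpecialLinearGroup (Fin n) F) : Matrix (Fin n) (Fin n) F) = z • (1 : Matrix (Fin n) (Fin n) F)) ∧
            (∀ z : F, (x : Matrix (Fin n) (Fin n) F) ≠ z • (1 : Matrix (Fin n) (Fin n) F)) ∧
            ∀ P : Matrix.SpecialLinearGroup (Fin n) F, P⁻¹ * x * P ∉ ((Cfsg.Geo.similarityGroup f).comap (Matrix.SpecialLinearGroup.toGL : Matrix.SpecialLinearGroup (Fin n) F →* GL (Fin n) F)) := by
        intro a har hadet i j hij hno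
        have hAr : (Matrix.diagonal a) ^ r = 1 := by
          rw [Matrix.diagonal_pow]; simp [Pi.pow_def, har]
        let x : Matrix.SpecialLinearGroup (Fin n) F := ⟨Matrix.diagonal a, by rw [Matrix.det_diagonal, hadet]⟩
        have hxr : x ^ r = 1 := Subtype.ext ((Matrix.SpecialLinearGroup.coe_pow x r).trans hAr)
        refine ⟨x, ⟨1, by rw [hxr, Matrix.SpecialLinearGroup.coe_one, one_smul]⟩, fun z hz => hij ?_, ?_⟩
        · replace hz : Matrix.diagonal a = z • 1 := hz
          have h1 := congrArg (fun M : Matrix (Fin n) (Fin n) F => M i i) hz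
          have h2 := congrArg (fun M : Matrix (Fin n) (Fin n) F => M j j) hz
          simp at h1 h2
          rw [h1, h2]
        refine of_no_structure f hf (r := r) x hxr (by omega)
          fun B c hA hB _ hc0 hsim => hno B c hA hB hc0 fun u v => ?_
        have : B ((Matrix.diagonal a).mulVec u) ((Matrix.diagonal a).mulVec v) = c * B u v := hsim u v
        simpa [funext fun l => Matrix.mulVec_diagonal a u l, funext fun l => Matrix.mulVec_diagonal a v l] using this
      have hcard3 := card_filter_lt (n := n) (k := 3) (by omega)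
      have hcard2 := card_filter_lt (n := n) (k := 2) (by omega)
      have hge : (Finset.univ.filter fun i : Fin n => ¬ (i : ℕ) < 3).card = n - 3 := by
        have h := Finset.card_filter_add_card_filter_not (s := (Finset.univ : Finset (Fin n))) fun i => (i : ℕ) < 3
        rw [Finset.card_univ, Fintype.card_fin, hcard3] at h
        omega
      by_cases hr : r = 3
      · subst hr
        have hn6 : n ≠ 6 := fun h => hgap ⟨h, rfl⟩
        refine mk (fun i => if (i : ℕ) < 3 then w else 1) (fun i => by split_ifs <;> simp [hwr]) ?_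
          ⟨0, by omega⟩ ⟨3, by omega⟩ (by simp [hw1]) fun B c hA hB hc0 h => ?_
        · rw [Finset.prod_ite, Finset.prod_const, hcard3, Finset.prod_const_one, mul_one, hwr]
        set a : Fin n → F := fun i => if (i : ℕ) < 3 then w else 1
        have hS1 : (Finset.univ.filter fun i => a i = 1) = Finset.univ.filter fun i : Fin n => ¬ (i : ℕ) < 3 := by
          ext i; by_cases hi : (i : ℕ) < 3 <;> simp [a, hi, hw1]
        have hSw : (Finset.univ.filter fun i => a i = w) = Finset.univ.filter fun i : Fin n => (i : ℕ) < 3 := by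
          ext i; by_cases hi : (i : ℕ) < 3 <;> simp [a, hi, Ne.symm hw1]
        have h1 := AltSim.diag_pairing B hA hB a c h 1 c one_ne_zero (one_mul c)
        have h2 := AltSim.diag_pairing B hA hB a c h c 1 hc0 (mul_one c)
        have hc1 : c ≠ 1 := fun e => by
          have := h1.2 e.symm
          rw [hS1, hge, Nat.even_iff] at this
          omega
        by_cases hcw : c = w
        · subst hcw
          have a1 := h1.1
          have a2 := h2.1
          rw [hS1, hge, hSw, hcard3] at a1 a2
          omega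
        · have hSc : (Finset.univ.filter fun i => a i = c) = ∅ := Finset.filter_eq_empty_iff.2 fun i _ => by
            by_cases hi : (i : ℕ) < 3 <;> simp [a, hi, Ne.symm hc1, Ne.symm hcw]
          have a1 := h1.1
          rw [hS1, hge, hSc, Finset.card_empty] at a1
          omega
      · have hr5 : 5 ≤ r := by
          rcases hrP.odd_of_ne_two hr2 with ⟨s, hs⟩
          omega
        set t := w ^ (r - 2) with ht
        have htw : t * w * w = 1 := by
          rw [ht, mul_assoc, ← pow_two, ← pow_add, Nat.sub_add_cancel (by omega), hwr]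
        have ht1 : t ≠ 1 := fun h => by have := hwk (r - 2) (by omega) h; omega
        have htr : t ^ r = 1 := by rw [ht, ← pow_mul, mul_comm, pow_mul, hwr, one_pow]
        have ht0 : t ≠ 0 := fun h => by rw [h, zero_mul, zero_mul] at htw; exact zero_ne_one htw
        have htw' : t ≠ w := fun h => by
          rw [h] at htw
          have := hwk 3 (by omega) (by linear_combination htw)
          omega
        refine mk (fun i => if (i : ℕ) < 2 then w else if (i : ℕ) < 3 then t else 1)
          (fun i => by split_ifs <;> simp [hwr, htr]) ?_ ⟨0, by omega⟩ ⟨3, by omega⟩ (by simp [hw1])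
          fun B c hA hB hc0 h => ?_
        · rw [Finset.prod_ite, Finset.prod_ite, Finset.prod_const, Finset.prod_const, Finset.prod_const_one,
            mul_one, hcard2]
          have : ((Finset.univ.filter fun i : Fin n => ¬ (i : ℕ) < 2).filter fun i : Fin n => (i : ℕ) < 3) =
              {⟨2, by omega⟩} := by
            ext i; simp [Fin.ext_iff]; omega
          rw [this, Finset.card_singleton, pow_one]
          linear_combination htw
        set a : Fin n → F := fun i => if (i : ℕ) < 2 then w else if (i : ℕ) < 3 then t else 1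
        have hrange : ∀ i, a i = w ∨ a i = t ∨ a i = 1 := fun i => by
          simp only [a]; split_ifs <;> simp
        have hS1 : (Finset.univ.filter fun i => a i = 1) = Finset.univ.filter fun i : Fin n => ¬ (i : ℕ) < 3 := by
          ext i
          simp only [Finset.mem_filter, Finset.mem_univ, true_and, a]
          by_cases hi : (i : ℕ) < 2
          · rw [if_pos hi]; simp only [hw1, false_iff]; omega
          · rw [if_neg hi]; by_cases hi' : (i : ℕ) < 3 <;> simp [hi', ht1]
        have hSw : (Finset.univ.filter fun i => a i = w) = Finset.univ.filter fun i : Fin n => (i : ℕ) < 2 := by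
          ext i
          simp only [Finset.mem_filter, Finset.mem_univ, true_and, a]
          by_cases hi : (i : ℕ) < 2
          · rw [if_pos hi]; simp [hi]
          · rw [if_neg hi]; by_cases hi' : (i : ℕ) < 3
            · rw [if_pos hi']; simp only [htw', false_iff]; exact hi
            · rw [if_neg hi']; simp only [Ne.symm hw1, false_iff]; exact hi
        have hSt : (Finset.univ.filter fun i => a i = t) = {⟨2, by omega⟩} := by
          ext i
          simp only [Finset.mem_filter, Finset.mem_univ, true_and, a, Finset.mem_singleton, Fin.ext_iff]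
          by_cases hi : (i : ℕ) < 2
          · rw [if_pos hi]; simp only [Ne.symm htw', false_iff]; omega
          · rw [if_neg hi]; by_cases hi' : (i : ℕ) < 3
            · rw [if_pos hi']; simp only [true_iff]; omega
            · rw [if_neg hi']; simp only [Ne.symm ht1, false_iff]; omega
        have hSnone : ∀ b, b ≠ w → b ≠ t → b ≠ 1 → (Finset.univ.filter fun i => a i = b) = ∅ :=
          fun b b1 b2 b3 => Finset.filter_eq_empty_iff.2 fun i _ e => by
            rcases hrange i with h | h | h <;> rw [h] at e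
            · exact b1 e.symm
            · exact b2 e.symm
            · exact b3 e.symm
        have h1 := AltSim.diag_pairing B hA hB a c h 1 c one_ne_zero (one_mul c)
        have h2 := AltSim.diag_pairing B hA hB a c h c 1 hc0 (mul_one c)
        have hc1 : c ≠ 1 := fun e => by
          have := h1.2 e.symm
          rw [hS1, hge, Nat.even_iff] at this
          omega
        have a1 := h1.1
        have a2 := h2.1
        rw [hS1, hge] at a1 a2
        by_cases hcw : c = w
        · rw [hcw, hSw, hcard2] at a1 a2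
          omega
        by_cases hct : c = t
        · rw [hct, hSt, Finset.card_singleton] at a1
          have h3 := (AltSim.diag_pairing B hA hB a c h w (t / w) hw0
            (by rw [hct]; field_simp)).1
          rw [hSw, hcard2, hSnone (t / w)] at h3
          · simp at h3
          · intro e
            rw [div_eq_iff hw0] at e
            rw [e] at htw
            have := hwk 4 (by omega) (by linear_combination htw)
            omega
          · intro e
            rw [div_eq_iff hw0] at e
            exact hw1 (mul_left_cancel₀ ht0 (e.symm.trans (mul_one t).symm))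
          · intro e
            rw [div_eq_iff hw0, one_mul] at e
            exact htw' e
        · rw [hSnone c hcw hct hc1, Finset.card_empty] at a1
          omega
    · obtain ⟨a, ha⟩ := index_dvd hq hm (by omega) f hf
      have hrq : ¬ r ∣ q := fun h => by
        obtain ⟨s, hs, hps⟩ := FiniteField.card F p
        rw [hq] at hps
        exact hrp ((Nat.prime_dvd_prime_iff_eq hrP Fact.out).1 (hrP.dvd_of_dvd_pow (hps ▸ h)))
      have hd := hΩ.trans ha
      obtain ⟨j, hj, hrj⟩ : ∃ j < m, r ∣ q ^ (2 * j + 1) - 1 := by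
        rcases hrP.dvd_mul.1 hd with h | h
        · exact absurd (hrP.dvd_of_dvd_pow h) hrq
        · obtain ⟨j, hj, hrj⟩ := (Prime.dvd_finsetProd_iff hrP.prime _).1 h
          exact ⟨j, Finset.mem_range.1 hj, hrj⟩
      set i := orderOf (q : ZMod r) with hi
      have hij : i ∣ 2 * j + 1 := by
        apply orderOf_dvd_of_pow_eq_one
        have h1 : 1 ≤ q ^ (2 * j + 1) := Nat.one_le_pow _ _ (hq ▸ Fintype.card_pos)
        have h0 : (((q ^ (2 * j + 1) - 1 : ℕ)) : ZMod r) = 0 := (ZMod.natCast_eq_zero_iff _ _).2 hrj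
        rw [Nat.cast_sub h1, Nat.cast_pow, Nat.cast_one, sub_eq_zero] at h0
        exact h0
      have hipos : 0 < i := Nat.pos_of_dvd_of_pos hij (by omega)
      have hile : i ≤ n := (Nat.le_of_dvd (by omega) hij).trans (by omega)
      have hiodd : Odd i := Odd.of_dvd_nat (by simp) hij
      obtain ⟨A, hAdet, hAr, hAker⟩ := Inv.exists_elt_order (F := F) (r := r) hrF (hq.symm ▸ hq1)
        (n := n) (s := 1) (by rw [one_mul, hq]; exact hile)
      rw [one_mul, hq, ← hi] at hAker
      have hrank : Module.finrank F (LinearMap.range (Matrix.toLin' A - 1)) = i := by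
        have h := LinearMap.finrank_range_add_finrank_ker (Matrix.toLin' A - 1)
        rw [hAker, Module.finrank_fin_fun] at h
        omega
      have hfr : (Matrix.toLin' A) ^ r = 1 := by rw [← Matrix.toLin'_pow, hAr]; exact Matrix.toLin'_one
      let x : Matrix.SpecialLinearGroup (Fin n) F := ⟨A, hAdet⟩
      have hxr : x ^ r = 1 := Subtype.ext ((Matrix.SpecialLinearGroup.coe_pow x r).trans hAr)
      refine ⟨x, ⟨1, by rw [hxr, Matrix.SpecialLinearGroup.coe_one, one_smul]⟩, fun z hz => ?_, ?_⟩
      · have hzr : z ^ r = 1 := by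
          have := congrArg (fun M : Matrix (Fin n) (Fin n) F => M ⟨0, by omega⟩ ⟨0, by omega⟩) hAr
          rw [show A = z • (1 : Matrix (Fin n) (Fin n) F) from hz] at this
          simpa [smul_pow] using this
        have hz1 : z = 1 := by
          have h0 : z ≠ 0 := fun e => by rw [e, zero_pow hrP.ne_zero] at hzr; exact zero_ne_one hzr
          have hcop : Nat.gcd r (Fintype.card F - 1) = 1 := (hrP.coprime_iff_not_dvd).mpr (hq.symm ▸ hq1)
          have h2 := pow_gcd_eq_one.mpr ⟨hzr, FiniteField.pow_card_sub_one_eq_one _ h0⟩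
          rwa [hcop, pow_one] at h2
        rw [show A = z • (1 : Matrix (Fin n) (Fin n) F) from hz, hz1, one_smul, Matrix.toLin'_one,
          ← Module.End.one_eq_id, sub_self, LinearMap.range_zero, finrank_bot] at hrank
        omega
      refine of_no_structure f hf (r := r) x hxr (by omega)
        fun B c hA hB hcr hc0 hsim => ?_
      have hc1 : c = 1 := by
        have hcop : Nat.gcd r (Fintype.card F - 1) = 1 := (hrP.coprime_iff_not_dvd).mpr (hq.symm ▸ hq1)
        have h2 := pow_gcd_eq_one.mpr ⟨hcr, FiniteField.pow_card_sub_one_eq_one _ hc0⟩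
        rwa [hcop, pow_one] at h2
      have hev := AltSim.even_moved B hA hB (Matrix.toLin' A)
        (fun u v => by simpa [hc1, x, Matrix.toLin'_apply] using hsim u v) (Inv.disjoint_ker_range hrF hfr)
      rw [hrank] at hev
      exact (Nat.not_even_iff_odd.2 hiodd) hev

end Cfsg.Agent.S5968
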