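import Cfsg.Statements.S5969
import Cfsg.Agent.ClMax99.ExtField2

set_option autoImplicit false
open scoped MatrixGroups
open Cfsg

namespace Cfsg.Agent.S5969

open Cfsg.Agent.ClMax99 Module Matrix

variable {F : Type*} [Field F] [Fintype F]

theorem no_conj {n : ℕ} (hn : 3 ≤ n) {K : Subalgebra F (Matrix (Fin n) (Fin n) F)}
    (hK : Cfsg.Geo.IsFieldSubalgebra 2 K) {c : F} (hc : c ≠ 0)
    (x : Matrix.SpecialLinearGroup (Fin n) F) (u w : Fin n → F) (hu : u ≠ 0) (hw : w ≠ 0)
    (hx : (x : Matrix (Fin n) (Fin n) F) = c • 1 + Matrix.vecMulVec u w)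
    (P : Matrix.SpecialLinearGroup (Fin n) F) :
    P⁻¹ * x * P ∉ ((Cfsg.Geo.subalgebraNormalizer K).comap
      (Matrix.SpecialLinearGroup.toGL : Matrix.SpecialLinearGroup (Fin n) F →* GL (Fin n) F)) := by
  intro hmem
  obtain ⟨j, α, β, hjK, hjj, hspan, hroot, hdisc, h2⟩ := Ext2.exists_gen (by omega) K hK
  have hrel := Ext2.relation_of_mem_normalizer hK hjK hjj _ hmem
  rw [Matrix.SpecialLinearGroup.coe_GL_coe_matrix] at hrel
  set y := ((P⁻¹ * x * P : Matrix.SpecialLinearGroup (Fin n) F) : Matrix (Fin n) (Fin n) F) with hy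
  set Pm := (P : Matrix (Fin n) (Fin n) F)
  set Pi' := ((P⁻¹ : Matrix.SpecialLinearGroup (Fin n) F) : Matrix (Fin n) (Fin n) F)
  have hPP : Pi' * Pm = 1 := by
    rw [← Matrix.SpecialLinearGroup.coe_mul, inv_mul_cancel, Matrix.SpecialLinearGroup.coe_one]
  have hPP' : Pm * Pi' = 1 := by
    rw [← Matrix.SpecialLinearGroup.coe_mul, mul_inv_cancel, Matrix.SpecialLinearGroup.coe_one]
  set a := Pi' *ᵥ u
  set b := w ᵥ* Pm
  have hyab : y = c • 1 + Matrix.vecMulVec a b := by
    rw [hy, Matrix.SpecialLinearGroup.coe_mul, Matrix.SpecialLinearGroup.coe_mul, hx, mul_add, add_mul,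
      Matrix.mul_smul, mul_one, Matrix.smul_mul, hPP, Matrix.mul_vecMulVec, Matrix.vecMulVec_mul]
  have ha : a ≠ 0 := fun h => hu (by
    rw [← Matrix.one_mulVec u, ← hPP', ← Matrix.mulVec_mulVec]
    show Pm *ᵥ a = 0
    rw [h, Matrix.mulVec_zero])
  have hb : b ≠ 0 := fun h => hw (by
    rw [← Matrix.vecMul_one w, ← hPP', ← Matrix.vecMul_vecMul]
    show b ᵥ* Pi' = 0
    rw [h, Matrix.zero_vecMul])
  have hjjv : ∀ v, j *ᵥ (j *ᵥ v) = β • v + α • (j *ᵥ v) := fun v => by
    rw [Matrix.mulVec_mulVec, hjj, Matrix.add_mulVec, Matrix.smul_mulVec, Matrix.smul_mulVec, Matrix.one_mulVec]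
  have hyv : ∀ v, y *ᵥ v = c • v + (b ⬝ᵥ v) • a := fun v => by
    rw [hyab, Matrix.add_mulVec, Matrix.smul_mulVec, Matrix.one_mulVec, Matrix.vecMulVec_mulVec, op_smul_eq_smul]
  rcases hrel with h | h
  · -- commuting
    obtain ⟨i, hi⟩ : ∃ i, b i ≠ 0 := Function.ne_iff.1 hb
    set v : Fin n → F := Pi.single i (b i)⁻¹
    have hbv : b ⬝ᵥ v = 1 := by simp [v, hi]
    have e := congrArg (fun A : Matrix (Fin n) (Fin n) F => A *ᵥ v) h
    simp only [← Matrix.mulVec_mulVec, hyv, hbv, Matrix.mulVec_add, Matrix.mulVec_smul, one_smul] at e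
    have e2 : j *ᵥ a = (b ⬝ᵥ (j *ᵥ v)) • a := (add_left_cancel e).symm
    have e3 := hjjv a
    rw [e2, Matrix.mulVec_smul, e2, smul_smul, smul_smul, ← add_smul] at e3
    exact hroot _ (by rw [pow_two, smul_left_injective F ha e3])
  · -- semilinear
    let φ : (Fin n → F) →ₗ[F] F × F :=
      { toFun := fun v => (b ⬝ᵥ v, b ⬝ᵥ (j *ᵥ v))
        map_add' := fun v v' => by simp [Matrix.mulVec_add, dotProduct_add]
        map_smul' := fun k v => by simp [Matrix.mulVec_smul, dotProduct_smul] }
    obtain ⟨v, hv, hv0⟩ : ∃ v ∈ LinearMap.ker φ, v ≠ 0 := by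
      refine Submodule.exists_mem_ne_zero_of_ne_bot fun hbot => ?_
      have hdim := LinearMap.finrank_range_add_finrank_ker φ
      rw [hbot, finrank_bot, Module.finrank_fin_fun] at hdim
      have hle := Submodule.finrank_le (LinearMap.range φ)
      rw [Module.finrank_prod, Module.finrank_self] at hle
      omega
    obtain ⟨hv1, hv2⟩ : b ⬝ᵥ v = 0 ∧ b ⬝ᵥ (j *ᵥ v) = 0 := by
      simpa [φ] using hv
    have e := congrArg (fun A : Matrix (Fin n) (Fin n) F => A *ᵥ v) h
    simp only [← Matrix.mulVec_mulVec, hyv, hv1, hv2, zero_smul, add_zero, Matrix.sub_mulVec,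
      Matrix.smul_mulVec, Matrix.one_mulVec, Matrix.mulVec_smul, smul_smul] at e
    -- `(α - 2 j) v = 0`
    have e1 : (2 : F) • (j *ᵥ v) = α • v := by
      have e0 : c • ((2 : F) • (j *ᵥ v) - α • v) = 0 := by
        linear_combination (norm := module) e
      exact sub_eq_zero.1 ((smul_eq_zero.1 e0).resolve_left hc)
    have e2 : (α ^ 2 + 4 * β) • v = 0 := by
      have e3 := congrArg (fun z => j *ᵥ z) e1
      simp only [Matrix.mulVec_smul, hjjv] at e3
      linear_combination (norm := module) (2 : F) • e3 - α • e1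
    exact hv0 ((smul_eq_zero.1 e2).resolve_left hdisc)

/-- Involutions of PSL_n(q) and extension-field subgroups of degree 2. Here `T = PSL_n(F)` for a field `F` with `q = p^f` elements (`n ≥ 2`, `(n, q) ≠ (2, 2), (2, 3)`), `k` is a prime dividing `n`, `K` is a subalgebra of the `n × n` matrices that is a field of degree `k` over `F` (an extension-field structure F_{q^k} on `F^n`), and `H` is the subgroup of matrices of determinant 1 normalizing `K` — a subgroup of type GL_{n/k}(q^k) (maximal except in some small cases; maximality is not assumed); Ω is the set of cosets of `H` in `T`, so an element of `T` of prime order `r` (a matrix `x` of determinant 1 with `x^r` scalar, `x` not scalar) fixes a point of Ω when some conjugate of `x` by a matrix of determinant 1 normalizes `K`. Take `k = 2` and suppose the index of `H` is even. Then every involution of `T` is conjugate in `T` into `H` if and only if `n = 2`, or `q` is odd and `(q − 1)_2 ≤ (n)_2`. -/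
theorem result {F : Type*} [Field F] [Fintype F] {p : ℕ} [Fact p.Prime] [CharP F p] {q : ℕ} (hq : Fintype.card F = q)
    (n : ℕ) (hn : 2 ≤ n) (hT : (n, q) ≠ (2, 2) ∧ (n, q) ≠ (2, 3))
    (k : ℕ) (hk : k.Prime) (hkn : k ∣ n) (K : Subalgebra F (Matrix (Fin n) (Fin n) F)) (hK : Cfsg.Geo.IsFieldSubalgebra k K) (hk2 : k = 2) (hΩ : 2 ∣ ((Cfsg.Geo.subalgebraNormalizer K).comap (Matrix.SpecialLinearGroup.toGL : Matrix.SpecialLinearGroup (Fin n) F →* GL (Fin n) F)).index) :
    (∀ x : Matrix.SpecialLinearGroup (Fin n) F,
      (∃ z : F, ((x ^ 2 : Matrix.SpecialLinearGroup (Fin n) F) : Matrix (Fin n) (Fin n) F) = z • (1 : Matrix (Fin n) (Fin n) F)) →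
      (∀ z : F, (x : Matrix (Fin n) (Fin n) F) ≠ z • (1 : Matrix (Fin n) (Fin n) F)) →
      ∃ P : Matrix.SpecialLinearGroup (Fin n) F, P⁻¹ * x * P ∈ ((Cfsg.Geo.subalgebraNormalizer K).comap (Matrix.SpecialLinearGroup.toGL : Matrix.SpecialLinearGroup (Fin n) F →* GL (Fin n) F))) ↔
    (n = 2 ∨ (Odd q ∧ padicValNat 2 (q - 1) ≤ padicValNat 2 n)) := by
  classical
  subst hk2
  haveI : Fact (Nat.Prime 2) := ⟨Nat.prime_two⟩
  have hn0 : 0 < n := by omega
  haveI : Nonempty (Fin n) := ⟨⟨0, hn0⟩⟩
  have hq1 : 1 < q := hq ▸ Fintype.one_lt_card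
  obtain ⟨m, hm⟩ := hkn
  haveI : Nonempty (Fin m) := ⟨⟨0, by omega⟩⟩
  constructor
  · intro hall
    by_contra hcon
    push Not at hcon
    obtain ⟨hn2, hgap⟩ := hcon
    by_cases hodd : Odd q
    · have hgap' : padicValNat 2 n < padicValNat 2 (q - 1) := hgap hodd
      obtain ⟨g, hg⟩ := IsCyclic.exists_generator (α := Fˣ)
      have hgo : orderOf g = q - 1 := by
        rw [orderOf_eq_card_of_forall_mem_zpowers hg, Nat.card_units, Nat.card_eq_fintype_card, hq]
      have hq10 : q - 1 ≠ 0 := by omega
      set d := Nat.gcd n (q - 1) with hd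
      have hd0 : d ≠ 0 := fun e => hq10 (Nat.eq_zero_of_gcd_eq_zero_right e)
      obtain ⟨e, he'⟩ : d ∣ q - 1 := Nat.gcd_dvd_right _ _
      have he0 : e ≠ 0 := by rintro rfl; rw [mul_zero] at he'; exact hq10 he'
      have he2 : 2 ∣ e := by
        by_contra he2
        have h1 : padicValNat 2 (q - 1) = padicValNat 2 d := by
          rw [he', padicValNat.mul hd0 he0, padicValNat.eq_zero_of_not_dvd he2, add_zero]
        have h2 : padicValNat 2 d ≤ padicValNat 2 n :=
          (padicValNat_dvd_iff_le (by omega)).1 (pow_padicValNat_dvd.trans (Nat.gcd_dvd_left n (q - 1)))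
        omega
      obtain ⟨t, rfl⟩ := he2
      have hqdt : q - 1 = 2 * (d * t) := by rw [he']; ring
      have hneg : g ^ (d * t) = -1 := by
        have h1 : (g ^ (d * t)) ^ 2 = 1 := by
          rw [← pow_mul, show d * t * 2 = q - 1 by rw [hqdt]; ring, ← hgo, pow_orderOf_eq_one]
        have h2 : g ^ (d * t) ≠ 1 := fun h => by
          have h3 := Nat.le_of_dvd (by omega) (hgo ▸ orderOf_dvd_of_pow_eq_one h)
          omega
        refine Units.ext ((sq_eq_one_iff.1 (by rw [← Units.val_pow_eq_pow_val, h1, Units.val_one] :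
          ((g ^ (d * t) : Fˣ) : F) ^ 2 = 1)).resolve_left fun h => h2 (Units.ext h))
      obtain ⟨c, hc⟩ : ∃ c : Fˣ, c ^ n = -1 := by
        refine ⟨g ^ (Nat.gcdA n (q - 1) * (t : ℤ)), ?_⟩
        have hbez := Nat.gcd_eq_gcd_ab n (q - 1)
        rw [← zpow_natCast _ n, ← _root_.zpow_mul, ← hneg, ← zpow_natCast g (d * t), zpow_eq_zpow_iff_modEq, hgo]
        rw [Int.modEq_iff_dvd]
        exact ⟨Nat.gcdB n (q - 1) * t, by push_cast; rw [hd]; linear_combination (t : ℤ) * hbez⟩
      have hcF : (c : F) ^ n = -1 := by rw [← Units.val_pow_eq_pow_val, hc]; simp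
      have h2F : (2 : F) ≠ 0 := by
        refine Ring.two_ne_zero fun hc2 => ?_
        have h := FiniteField.even_card_iff_char_two.1 hc2
        rw [hq] at h
        have := Nat.odd_iff.1 hodd
        omega
      set i0 : Fin n := ⟨0, hn0⟩
      set a : Fin n → F := Function.update (fun _ => (c : F)) i0 (-(c : F))
      have hdet : (Matrix.diagonal a).det = 1 := by
        rw [Matrix.det_diagonal, Finset.prod_update_of_mem (Finset.mem_univ _), Finset.prod_const,
          show (Finset.univ \ {i0}).card = n - 1 by simp [Finset.card_sdiff], neg_mul, ← pow_succ',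
          Nat.sub_add_cancel (by omega : 1 ≤ n), hcF, neg_neg]
      let x : Matrix.SpecialLinearGroup (Fin n) F := ⟨Matrix.diagonal a, hdet⟩
      have hform : Matrix.diagonal a = (c : F) • 1 +
          Matrix.vecMulVec (Pi.single i0 (-2 * (c : F))) (Pi.single i0 1) := by
        ext r s
        by_cases hrs : r = s
        · subst hrs
          by_cases hr : r = i0
          · subst hr; simp [a, Matrix.vecMulVec_apply]; ring
          · simp [a, Matrix.vecMulVec_apply, hr]
        · by_cases hr : r = i0
          · subst hr; simp [Matrix.vecMulVec_apply, hrs, Ne.symm hrs]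
          · simp [Matrix.vecMulVec_apply, hrs, hr]
      obtain ⟨P, hP⟩ := hall x ⟨(c : F) ^ 2, by
          rw [Matrix.SpecialLinearGroup.coe_pow x 2]
          show (Matrix.diagonal a) ^ 2 = _
          rw [Matrix.diagonal_pow, ← Matrix.diagonal_one, ← Matrix.diagonal_smul]
          congr 1
          funext i
          by_cases hi : i = i0 <;> simp [a, hi]⟩ (fun z hz => by
          replace hz : Matrix.diagonal a = z • 1 := hz
          have h1 := congrArg (fun M : Matrix (Fin n) (Fin n) F => M i0 i0) hz
          have h2 := congrArg (fun M : Matrix (Fin n) (Fin n) F => M ⟨1, by omega⟩ ⟨1, by omega⟩) hz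
          simp [a, i0] at h1 h2
          have : (2 : F) * c = 0 := by linear_combination h2 - h1
          exact (mul_eq_zero.1 this).elim h2F c.ne_zero)
      exact no_conj (by omega) hK c.ne_zero x _ _
        (by simp [h2F]) (by simp) hform P hP
    · -- even characteristic
      have hc2 : ringChar F = 2 := by
        by_contra h
        exact hodd (Nat.odd_iff.2 (hq ▸ FiniteField.odd_card_of_char_ne_two h))
      haveI : CharP F 2 := hc2 ▸ ringChar.charP F
      set i0 : Fin n := ⟨0, hn0⟩
      set i1 : Fin n := ⟨1, by omega⟩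
      have h01 : i0 ≠ i1 := by simp [i0, i1, Fin.ext_iff]
      let x : Matrix.SpecialLinearGroup (Fin n) F :=
        ⟨Matrix.transvection i0 i1 1, Matrix.det_transvection_of_ne i0 i1 h01 1⟩
      have hform : Matrix.transvection i0 i1 (1 : F) = (1 : F) • 1 +
          Matrix.vecMulVec (Pi.single i0 (1 : F)) (Pi.single i1 1) := by
        rw [Matrix.transvection, one_smul]
        congr 1
        ext r s
        by_cases hr : r = i0 <;> by_cases hs : s = i1 <;> simp [Matrix.single_apply, Matrix.vecMulVec_apply, hr, hs, Ne.symm] <;> tauto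
      obtain ⟨P, hP⟩ := hall x ⟨1, by
          rw [Matrix.SpecialLinearGroup.coe_pow x 2, pow_two]
          show Matrix.transvection i0 i1 (1 : F) * Matrix.transvection i0 i1 1 = _
          rw [Matrix.transvection_mul_transvection_same _ _ h01, CharTwo.add_self_eq_zero, Matrix.transvection_zero,
            one_smul]⟩ (fun z hz => by
          replace hz : Matrix.transvection i0 i1 (1 : F) = z • 1 := hz
          have h := congrArg (fun M : Matrix (Fin n) (Fin n) F => M i0 i1) hz
          simp [Matrix.transvection, h01] at h)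
      exact no_conj (by omega) hK one_ne_zero x _ _ (by simp) (by simp) hform P hP
  · intro hcond x hx1 hx2
    obtain ⟨z, hz⟩ := hx1
    rw [Matrix.SpecialLinearGroup.coe_pow] at hz
    have hz0 : z ≠ 0 := by
      intro e
      have hd := congrArg Matrix.det hz
      rw [Matrix.det_pow, x.2, one_pow, e, zero_smul, Matrix.det_zero] at hd
      exact one_ne_zero hd
    obtain ⟨j, α, β, hjK, hjj, hspan, hroot, -, hα⟩ := Ext2.exists_gen hn0 K hK
    obtain ⟨v, hv⟩ := Ext2.exists_quad_planes (Matrix.toLin' j) hroot (fun y => by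
      rw [Matrix.toLin'_apply, Matrix.toLin'_apply, Matrix.mulVec_mulVec, hjj, Matrix.add_mulVec, Matrix.smul_mulVec,
        Matrix.smul_mulVec, Matrix.one_mulVec]) m (by rw [Module.finrank_fin_fun]; omega)
    let σ : Fin 2 × Fin m ≃ Fin n := finProdFinEquiv.trans (finCongr hm.symm)
    have htop : ∀ f : Fin m ⊕ Fin m → Fin n → F, LinearIndependent F f →
        (⊤ : Submodule F (Fin n → F)) ≤ Submodule.span F (Set.range f) := fun f hf => by
      refine le_of_eq (Submodule.eq_top_of_finrank_eq ?_).symm
      rw [finrank_span_eq_card hf, Fintype.card_sum, Fintype.card_fin, Module.finrank_fin_fun]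
      omega
    obtain ⟨W, hW⟩ := Ext2.exists_block_form σ j v (fun i => Matrix.toLin' j (v i)) (htop _ hv)
      (fun _ => (!![0, β; 1, α] : Matrix (Fin 2) (Fin 2) F))
      (fun i => by simp [Matrix.toLin'_apply]) (fun i => by
        simp [Matrix.toLin'_apply, Matrix.mulVec_mulVec, hjj, Matrix.add_mulVec, Matrix.smul_mulVec])
    set T := Matrix.toLin' (x : Matrix (Fin n) (Fin n) F) with hT
    have hTT : ∀ y, T (T y) = z • y := fun y => by
      rw [hT, Matrix.toLin'_apply, Matrix.toLin'_apply, Matrix.mulVec_mulVec, ← pow_two, hz, Matrix.smul_mulVec,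
        Matrix.one_mulVec]
    by_cases hsq : ∀ t : F, t ^ 2 ≠ z
    · -- non-square
      have hrc : ringChar F ≠ 2 := fun h => by
        obtain ⟨t, ht⟩ := FiniteField.isSquare_of_char_two h z
        exact hsq t (by rw [ht, pow_two])
      have hα0 : α = 0 := hα (Ring.two_ne_zero hrc)
      have hβ0 : β ≠ 0 := fun e => hroot 0 (by rw [e]; ring)
      obtain ⟨e, he⟩ : IsSquare (z / β) := by
        rw [FiniteField.isSquare_iff hrc (div_ne_zero hz0 hβ0), div_pow]
        rcases FiniteField.pow_dichotomy hrc hz0 with a1 | a1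
        · obtain ⟨t, ht⟩ := (FiniteField.isSquare_iff hrc hz0).2 a1
          exact absurd (by rw [ht, pow_two]) (hsq t)
        rcases FiniteField.pow_dichotomy hrc hβ0 with a2 | a2
        · obtain ⟨t, ht⟩ := (FiniteField.isSquare_iff hrc hβ0).2 a2
          exact absurd (by rw [ht, hα0]; ring) (hroot t)
        rw [a1, a2, div_self (neg_ne_zero.2 one_ne_zero)]
      have he0 : e ≠ 0 := fun e' => by
        rw [e', mul_zero, div_eq_zero_iff] at he
        exact he.elim hz0 hβ0
      have hze : z = e * e * β := by field_simp at he; linear_combination he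
      obtain ⟨u, hu⟩ := Ext2.exists_quad_planes T (α := 0) (β := z)
        (fun t ht => hsq t (by rw [ht]; ring)) (fun y => by rw [hTT, zero_smul, add_zero]) m
        (by rw [Module.finrank_fin_fun]; omega)
      obtain ⟨V, hV⟩ := Ext2.exists_block_form σ (x : Matrix (Fin n) (Fin n) F) u (fun i => e⁻¹ • T (u i))
        ((htop _ hu).trans (Submodule.span_le.2 (by
          rintro _ ⟨i | i, rfl⟩
          · exact Submodule.subset_span ⟨Sum.inl i, rfl⟩
          · rw [SetLike.mem_coe, Sum.elim_inr, ← smul_inv_smul₀ he0 (T (u i))]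
            exact Submodule.smul_mem _ _ (Submodule.subset_span ⟨Sum.inr i, rfl⟩))))
        (fun _ => !![0, e * β; e, 0])
        (fun i => by
          rw [← Matrix.toLin'_apply, ← hT]
          simp [smul_smul, he0])
        (fun i => by
          rw [← Matrix.toLin'_apply, ← hT, map_smul, hTT]
          simp [smul_smul]
          congr 1
          rw [hze]; field_simp)
      exact Ext2.conj_of_form hroot hα hjK hspan σ x _ V W hV hW (Or.inl fun i => by
        subst hα0
        ext k l; fin_cases k <;> fin_cases l <;> simp [Matrix.mul_apply, Fin.sum_univ_two] <;> ring)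
    push Not at hsq
    obtain ⟨c, hc⟩ := hsq
    have hc0 : c ≠ 0 := by rintro rfl; exact hz0 (by rw [← hc]; ring)
    by_cases hn2 : n = 2
    · obtain rfl : m = 1 := by omega
      obtain ⟨u, hu⟩ : ∃ u, ∀ a : F, T u ≠ a • u := by
        by_contra hcon
        push Not at hcon
        choose f hf using hcon
        let e0 : Fin n → F := Pi.single ⟨0, hn0⟩ 1
        let e1 : Fin n → F := Pi.single ⟨1, by omega⟩ 1
        have hne : (⟨0, hn0⟩ : Fin n) ≠ ⟨1, by omega⟩ := by simp [Fin.ext_iff]
        have hsum := hf (e0 + e1)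
        rw [map_add, hf e0, hf e1] at hsum
        have h0 := congrFun hsum ⟨0, hn0⟩
        have h1 := congrFun hsum ⟨1, by omega⟩
        simp [e0, e1] at h0 h1
        refine hx2 (f e0) (Matrix.toLin'.injective ((Pi.basisFun F (Fin n)).ext fun i => ?_))
        rw [← hT, map_smul, Matrix.toLin'_one, Pi.basisFun_apply, LinearMap.smul_apply, LinearMap.id_apply]
        rcases i with ⟨i, hi⟩
        have hi2 : i < 2 := by omega
        interval_cases i
        · first
            | exact hf e0
            | (rw [hf]; rfl)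
        · first
            | (rw [h0, ← h1]; exact hf e1)
            | (rw [hf]; congr 1; exact h1.trans h0.symm)
      have hli : ∀ a b : F, a • u + b • T u = 0 → a = 0 ∧ b = 0 := by
        intro a b hab
        by_cases hb : b = 0
        · subst hb
          rw [zero_smul, add_zero, smul_eq_zero] at hab
          refine ⟨hab.resolve_right fun e => hu 0 (by rw [e, map_zero, smul_zero]), rfl⟩
        · exact absurd (by
            rw [← inv_smul_smul₀ hb (T u), eq_neg_of_add_eq_zero_right hab, smul_neg, smul_smul, ← neg_smul])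
            (hu (-(b⁻¹ * a)))
      set p : Fin n → F := c • u + T u with hp
      set q' : Fin n → F := (c * α - c) • u + T u with hq'
      have hα2 : c * α - c ≠ c := by
        intro e
        have e' : α = 2 := mul_left_cancel₀ hc0 (by linear_combination e)
        by_cases h2 : (2 : F) = 0
        · exact hroot 0 (by
            exfalso
            have hα0 : α = 0 := e'.trans h2
            have hc' : ringChar F = 2 := by
              by_contra hne
              exact Ring.two_ne_zero hne h2
            obtain ⟨t, ht⟩ := FiniteField.isSquare_of_char_two hc' β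
            exact hroot t (by rw [ht, hα0]; ring))
        · exact h2 (e'.symm.trans (hα h2))
      have hpq : LinearIndependent F (Sum.elim (fun _ : Fin 1 => p) (fun _ : Fin 1 => q')) := by
        rw [Fintype.linearIndependent_iff]
        intro g hg
        simp only [Fintype.sum_sum_type, Fin.sum_univ_one, Sum.elim_inl, Sum.elim_inr] at hg
        obtain ⟨e1, e2⟩ := hli (g (Sum.inl 0) * c + g (Sum.inr 0) * (c * α - c)) (g (Sum.inl 0) + g (Sum.inr 0))
          (by rw [← hg, hp, hq']; module)
        have e3 : g (Sum.inr 0) * ((c * α - c) - c) = 0 := by linear_combination e1 - c * e2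
        have e4 : g (Sum.inr 0) = 0 := (mul_eq_zero.1 e3).resolve_right (sub_ne_zero.2 hα2)
        rw [e4, add_zero] at e2
        rintro (i | i) <;> rw [Subsingleton.elim i 0]
        · exact e2
        · exact e4
      obtain ⟨V, hV⟩ := Ext2.exists_block_form σ (x : Matrix (Fin n) (Fin n) F) (fun _ => p) (fun _ => q')
        (htop _ hpq) (fun _ => c • (!![1, α; 0, -1] : Matrix (Fin 2) (Fin 2) F))
        (fun i => by
          rw [← Matrix.toLin'_apply, ← hT, hp, map_add, map_smul, hTT, ← hc]
          simp
          module)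
        (fun i => by
          rw [← Matrix.toLin'_apply, ← hT, hq', map_add, map_smul, hTT, ← hc, hp]
          simp
          module)
      exact Ext2.conj_of_form hroot hα hjK hspan σ x _ V W hV hW (Or.inr fun i => by
        ext k l; fin_cases k <;> fin_cases l <;> simp [Matrix.mul_apply, Fin.sum_univ_two] <;> ring)
    · -- odd, all multiplicities even
      obtain ⟨hodd, hle⟩ := hcond.resolve_left hn2
      have hrc : ringChar F ≠ 2 := fun h => by
        have h2 := FiniteField.even_card_iff_char_two.1 h
        rw [hq] at h2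
        have := Nat.odd_iff.1 hodd
        omega
      have h2F : (2 : F) ≠ 0 := Ring.two_ne_zero hrc
      have hα0 := hα h2F
      set K' := LinearMap.ker (T - c • 1) with hK'
      set L := LinearMap.ker (T + c • 1) with hL
      have hKap : ∀ y ∈ K', T y = c • y := fun y hy => by
        simpa [hK', sub_eq_zero] using hy
      have hLap : ∀ y ∈ L, T y = (-c) • y := fun y hy => by
        simpa [hL, add_eq_zero_iff_eq_neg] using hy
      have hcompl : IsCompl K' L := by
        constructor
        · rw [Submodule.disjoint_def]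
          intro y h1 h2
          have h3 : ((2 : F) * c) • y = 0 := by
            rw [mul_smul, two_smul]
            nth_rewrite 1 [← hKap y h1]
            rw [hLap y h2, neg_smul, neg_add_cancel]
          exact (smul_eq_zero.1 h3).resolve_left (mul_ne_zero h2F hc0)
        · rw [codisjoint_iff_le_sup]
          intro y _
          have hy : y = (2 : F)⁻¹ • (y + c⁻¹ • T y) + (2 : F)⁻¹ • (y - c⁻¹ • T y) := by
            match_scalars
            · field_simp; norm_num
            · ring
          rw [hy]
          refine Submodule.add_mem_sup (Submodule.smul_mem _ _ ?_) (Submodule.smul_mem _ _ ?_)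
          · simp only [hK', LinearMap.mem_ker, LinearMap.sub_apply, LinearMap.smul_apply, Module.End.one_apply,
              map_add, map_smul, hTT, ← hc]
            match_scalars <;> field_simp <;> ring
          · simp only [hL, LinearMap.mem_ker, LinearMap.add_apply, LinearMap.smul_apply, Module.End.one_apply,
              map_sub, map_smul, hTT, ← hc]
            match_scalars <;> field_simp <;> ring
      have hdim := Submodule.finrank_add_eq_of_isCompl hcompl
      rw [Module.finrank_fin_fun] at hdim
      let bs := ((finBasis F K').prod (finBasis F L)).map (Submodule.prodEquivOfIsCompl K' L hcompl)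
      let ev : Fin (finrank F K') ⊕ Fin (finrank F L) → F := Sum.elim (fun _ => c) fun _ => -c
      have hev : ∀ i, T (bs i) = ev i • bs i := by
        rintro (i | i)
        · simp [bs, ev, hKap _ (finBasis F K' i).2]
        · simp [bs, ev, hLap _ (finBasis F L i).2]
      have hdetx : c ^ n * (-1) ^ finrank F L = 1 := by
        have h1 : LinearMap.toMatrix bs bs T = Matrix.diagonal ev := by
          ext i k
          rw [LinearMap.toMatrix_apply, hev, map_smul, Basis.repr_self]
          by_cases h : i = k
          · subst h; simp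
          · simp [Finsupp.single_eq_of_ne h, h]
        have h2 : (Matrix.diagonal ev).det = 1 := by
          rw [← h1, LinearMap.det_toMatrix, hT, LinearMap.det_toLin']
          exact x.2
        rw [Matrix.det_diagonal, Fintype.prod_sum_type] at h2
        simp only [ev, Sum.elim_inl, Sum.elim_inr, Finset.prod_const, Finset.card_univ, Fintype.card_fin] at h2
        rw [show c ^ n = c ^ (finrank F K' + finrank F L) by rw [hdim], pow_add, mul_assoc, ← mul_pow, mul_neg_one]
        exact h2
      have hL2 : Even (finrank F L) := by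
        rcases Nat.even_or_odd (finrank F L) with h | h
        · exact h
        exfalso
        rw [h.neg_one_pow, mul_neg_one, neg_eq_iff_eq_neg] at hdetx
        set s := padicValNat 2 (q - 1)
        obtain ⟨o, ho⟩ : 2 ^ s ∣ q - 1 := pow_padicValNat_dvd
        have hoo : Odd o := Nat.odd_iff.2 (by
          by_contra hne
          have : 2 ^ (s + 1) ∣ q - 1 := by
            rw [pow_succ, ho]; exact mul_dvd_mul_left _ (by omega)
          have := (padicValNat_dvd_iff_le (by omega)).1 this
          omega)
        obtain ⟨k, hk'⟩ : 2 ^ s ∣ n := (pow_dvd_pow 2 hle).trans pow_padicValNat_dvd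
        have h1 : (c ^ n) ^ o = 1 := by
          rw [← pow_mul, hk', show 2 ^ s * k * o = (q - 1) * k by rw [ho]; ring, pow_mul, ← hq,
            FiniteField.pow_card_sub_one_eq_one c hc0, one_pow]
        rw [hdetx, hoo.neg_one_pow] at h1
        exact h2F (by linear_combination -h1)
      obtain ⟨l2, hl2⟩ := hL2
      obtain ⟨l1, hl1⟩ : ∃ l1, finrank F K' = l1 + l1 := ⟨m - l2, by omega⟩
      obtain ⟨v1, w1, hv1, hw1, hs1⟩ := SympConj.exists_two_families K' hl1
      obtain ⟨v2, w2, hv2, hw2, hs2⟩ := SympConj.exists_two_families L hl2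
      let τ : Fin m ≃ Fin l1 ⊕ Fin l2 := (finCongr (by omega)).trans finSumFinEquiv.symm
      let M : Fin m → Matrix (Fin 2) (Fin 2) F := fun i =>
        Sum.elim (fun _ => c • (1 : Matrix (Fin 2) (Fin 2) F)) (fun _ => (-c) • 1) (τ i)
      obtain ⟨V, hV⟩ := Ext2.exists_block_form σ (x : Matrix (Fin n) (Fin n) F)
        (fun i => Sum.elim v1 v2 (τ i)) (fun i => Sum.elim w1 w2 (τ i)) (by
          rw [← hcompl.sup_eq_top]
          refine sup_le (hs1.trans (Submodule.span_mono ?_)) (hs2.trans (Submodule.span_mono ?_))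
          · rintro _ ⟨i | i, rfl⟩
            · exact ⟨Sum.inl (τ.symm (Sum.inl i)), by simp⟩
            · exact ⟨Sum.inr (τ.symm (Sum.inl i)), by simp⟩
          · rintro _ ⟨i | i, rfl⟩
            · exact ⟨Sum.inl (τ.symm (Sum.inr i)), by simp⟩
            · exact ⟨Sum.inr (τ.symm (Sum.inr i)), by simp⟩) M
        (fun i => by
          rw [← Matrix.toLin'_apply, ← hT]
          rcases h : τ i with l | l
          · simp [M, h, hKap _ (hv1 l)]
          · simp [M, h, hLap _ (hv2 l)])
        (fun i => by
          rw [← Matrix.toLin'_apply, ← hT]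
          rcases h : τ i with l | l
          · simp [M, h, hKap _ (hw1 l)]
          · simp [M, h, hLap _ (hw2 l)])
      exact Ext2.conj_of_form hroot hα hjK hspan σ x M V W hV hW (Or.inl fun i => by
        rcases h : τ i with l | l <;> simp [M, h])

end Cfsg.Agent.S5969
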