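import Cfsg.Statements.S5970
import Cfsg.Agent.Lib.LinearGroup.SingerElusive

set_option autoImplicit false
open scoped MatrixGroups
open Cfsg

namespace Cfsg.Agent.S5970

open Matrix Cfsg.Agent.SingerElusive

/-- A block element with many fixed points. -/
theorem exists_witness {F : Type*} [Field F] [Fintype F] {n m : ℕ} [hn : Fact n.Prime]
    (hm : m + 2 ≤ n) (hdvd : n ∣ Nat.card (Matrix.SpecialLinearGroup (Fin m) F)) :
    ∃ x : Matrix.SpecialLinearGroup (Fin n) F, (x : Matrix (Fin n) (Fin n) F) ^ n = 1 ∧
      (∀ z : F, (x : Matrix (Fin n) (Fin n) F) ≠ z • 1) ∧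
      ∃ v w : Fin n → F, v ≠ 0 ∧ (∀ a : F, w ≠ a • v) ∧
        (x : Matrix (Fin n) (Fin n) F) *ᵥ v = v ∧ (x : Matrix (Fin n) (Fin n) F) *ᵥ w = w := by
  obtain ⟨k, rfl⟩ : ∃ k, n = m + (k + 2) := ⟨n - m - 2, by omega⟩
  obtain ⟨y, hy⟩ := exists_prime_orderOf_dvd_card' (m + (k + 2)) hdvd
  let e : Fin m ⊕ Fin (k + 2) ≃ Fin (m + (k + 2)) := finSumFinEquiv
  let φ := Matrix.reindexAlgEquiv F F e
  let X := φ (fromBlocks (y : Matrix (Fin m) (Fin m) F) 0 0 1)
  have hdet : X.det = 1 := by
    show (φ _).det = 1
    rw [Matrix.det_reindexAlgEquiv, det_fromBlocks_zero₂₁, y.2, det_one, one_mul]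
  have hpow : ∀ j : ℕ, X ^ j =
      φ (fromBlocks (((y ^ j : Matrix.SpecialLinearGroup (Fin m) F) : Matrix (Fin m) (Fin m) F))
        0 0 1) := fun j => by
    induction j with
    | zero => simp [fromBlocks_one]
    | succ j ih =>
      rw [pow_succ, ih, ← map_mul, fromBlocks_multiply, pow_succ]
      simp
  have hcol : ∀ j : Fin (k + 2), X *ᵥ Pi.single (e (Sum.inr j)) 1 = Pi.single (e (Sum.inr j)) 1 := by
    intro j
    rw [mulVec_single_one]
    ext i
    obtain ⟨i, rfl⟩ := e.surjective i
    rcases i with i | i <;>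
      simp [X, φ, Matrix.reindexAlgEquiv_apply, Matrix.one_apply, Pi.single_apply]
  refine ⟨⟨X, hdet⟩, ?_, fun z hz => ?_, Pi.single (e (Sum.inr 0)) 1, Pi.single (e (Sum.inr 1)) 1,
    by simp, fun a h => ?_, hcol 0, hcol 1⟩
  · show X ^ _ = 1
    have hy1 := pow_orderOf_eq_one y
    rw [hy] at hy1
    rw [hpow, hy1]
    simp [fromBlocks_one]
  · have hz' : X = z • 1 := hz
    have h0 := congrArg (fun M : Matrix _ _ F => M (e (Sum.inr 0)) (e (Sum.inr 0))) hz'
    simp [X, φ, Matrix.reindexAlgEquiv_apply] at h0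
    have h1 : y = 1 := by
      refine Subtype.ext (Matrix.ext fun a b => ?_)
      have h2 := congrArg (fun M : Matrix _ _ F => M (e (Sum.inl a)) (e (Sum.inl b))) hz'
      simp [X, φ, Matrix.reindexAlgEquiv_apply, ← h0, Matrix.one_apply] at h2
      simpa [Matrix.one_apply] using h2
    rw [h1, orderOf_one] at hy
    exact hn.out.ne_one hy.symm
  · have := congrArg (fun v : Fin (m + (k + 2)) → F => v (e (Sum.inr 1))) h
    simp [Pi.single_apply] at this

/-- Elements of order `n` of PSL_n(q), `n` prime, and the normalizer of a Singer cycle. Here `T = PSL_n(F)` for a field `F` with `q = p^f` elements (`n ≥ 2`, `(n, q) ≠ (2, 2), (2, 3)`), `k` is a prime dividing `n`, `K` is a subalgebra of the `n × n` matrices that is a field of degree `k` over `F` (an extension-field structure F_{q^k} on `F^n`), and `H` is the subgroup of matrices of determinant 1 normalizing `K` — a subgroup of type GL_{n/k}(q^k) (maximal except in some small cases; maximality is not assumed); Ω is the set of cosets of `H` in `T`, so an element of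 `T` of prime order `r` (a matrix `x` of determinant 1 with `x^r` scalar, `x` not scalar) fixes a point of Ω when some conjugate of `x` by a matrix of determinant 1 normalizes `K`. Take `k = n > 3` prime with `n ≠ p` (so `H` is the normalizer of a Singer cycle), and suppose `n` divides the index of `H`. Then every element of `T` of order `n` is conjugate in `T` into `H` if and only if the multiplicative order of `q` modulo `n` is `n − 1`. -/
theorem result {F : Type*} [Field F] [Fintype F] {p : ℕ} [Fact p.Prime] [CharP F p] {q : ℕ} (hq : Fintype.card F = q)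
    (n : ℕ) (hn : 2 ≤ n) (hT : (n, q) ≠ (2, 2) ∧ (n, q) ≠ (2, 3))
    (k : ℕ) (hk : k.Prime) (hkn : k ∣ n) (K : Subalgebra F (Matrix (Fin n) (Fin n) F)) (hK : Cfsg.Geo.IsFieldSubalgebra k K) (hkn' : k = n) (hn3 : 3 < n) (hnp : n ≠ p) (hΩ : n ∣ ((Cfsg.Geo.subalgebraNormalizer K).comap (Matrix.SpecialLinearGroup.toGL : Matrix.SpecialLinearGroup (Fin n) F →* GL (Fin n) F)).index) :
    (∀ x : Matrix.SpecialLinearGroup (Fin n) F,
      (∃ z : F, ((x ^ n : Matrix.SpecialLinearGroup (Fin n) F) : Matrix (Fin n) (Fin n) F) = z • (1 : Matrix (Fin n) (Fin n) F)) →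
      (∀ z : F, (x : Matrix (Fin n) (Fin n) F) ≠ z • (1 : Matrix (Fin n) (Fin n) F)) →
      ∃ P : Matrix.SpecialLinearGroup (Fin n) F, P⁻¹ * x * P ∈ ((Cfsg.Geo.subalgebraNormalizer K).comap (Matrix.SpecialLinearGroup.toGL : Matrix.SpecialLinearGroup (Fin n) F →* GL (Fin n) F))) ↔
    orderOf (q : ZMod n) = n - 1 := by
  classical
  subst hkn'
  haveI : Fact k.Prime := ⟨hk⟩
  subst hq
  have hkF : (k : F) ≠ 0 := fun h => hnp
    ((Nat.prime_dvd_prime_iff_eq (Fact.out : p.Prime) hk).1 ((CharP.cast_eq_zero_iff F p k).1 h)).symm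
  set q := Fintype.card F with hq
  have hq0 := card_mod_ne_zero (F := F) (n := k) hkF
  have hq1 : 1 < q := Fintype.one_lt_card
  have hdvd1 : orderOf (q : ZMod k) ∣ k - 1 :=
    orderOf_dvd_of_pow_eq_one (ZMod.pow_card_sub_one_eq_one hq0)
  have hkq : k ∣ q - 1 → orderOf (q : ZMod k) = 1 := fun h => by
    rw [orderOf_eq_one_iff, ← sub_eq_zero]
    rw [← ZMod.natCast_eq_zero_iff, Nat.cast_sub hq1.le, Nat.cast_one] at h
    exact h
  constructor
  · intro hall
    by_contra hne
    set i := orderOf (q : ZMod k) with hi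
    have hi0 : 0 < i := Nat.pos_of_ne_zero fun h => by rw [h, zero_dvd_iff] at hdvd1; omega
    have hik : i + 2 ≤ k ∧ max i 2 + 2 ≤ k := by
      obtain ⟨c, hc⟩ := hdvd1
      have : 2 ≤ c := by
        rcases c with _ | _ | c
        · omega
        · omega
        · omega
      have : i * 2 ≤ k - 1 := hc ▸ Nat.mul_le_mul_left i this
      omega
    have hqi : k ∣ q ^ i - 1 := by
      rw [← ZMod.natCast_eq_zero_iff, Nat.cast_sub (Nat.one_le_pow _ _ (by omega)), Nat.cast_pow,
        pow_orderOf_eq_one, Nat.cast_one, sub_self]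
    have hdiv : k ∣ Nat.card (Matrix.SpecialLinearGroup (Fin (max i 2)) F) := by
      have hg : k ∣ Nat.card (GL (Fin (max i 2)) F) := by
        rw [Matrix.card_GL_field]
        refine (?_ : k ∣ q ^ max i 2 - q ^ (max i 2 - i)).trans
          (Finset.dvd_prod_of_mem _ (Finset.mem_univ
            (⟨max i 2 - i, by omega⟩ : Fin (max i 2))))
        have : q ^ max i 2 - q ^ (max i 2 - i) = q ^ (max i 2 - i) * (q ^ i - 1) := by
          rw [Nat.mul_sub, mul_one, ← pow_add, Nat.sub_add_cancel (le_max_left i 2)]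
        rw [this]
        exact Dvd.dvd.mul_left hqi _
      by_cases h1 : k ∣ q - 1
      · have hi1 : i = 1 := hkq h1
        obtain ⟨ζ, hζ⟩ := exists_prime_orderOf_dvd_card (G := Fˣ) k (by rwa [Fintype.card_units])
        rw [hi1, show max 1 2 = 2 from rfl]
        let D : Matrix.SpecialLinearGroup (Fin 2) F :=
          ⟨Matrix.diagonal ![(ζ : F), ((ζ⁻¹ : Fˣ) : F)], by
            rw [det_diagonal, Fin.prod_univ_two]; simp⟩
        have hD : ∀ j : ℕ, ((D ^ j : Matrix.SpecialLinearGroup (Fin 2) F) : Matrix (Fin 2) (Fin 2) F) =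
            Matrix.diagonal (![(ζ : F), ((ζ⁻¹ : Fˣ) : F)] ^ j) := fun j => by
          rw [Matrix.SpecialLinearGroup.coe_pow]; exact Matrix.diagonal_pow _ _
        have : orderOf D = k := by
          refine orderOf_eq_prime (Subtype.ext ?_) fun h => ?_
          · rw [hD, ← hζ]
            ext a b
            fin_cases a <;> fin_cases b <;>
              simp [← Units.val_pow_eq_pow_val, pow_orderOf_eq_one]
          · have h00 : (ζ : F) = 1 := by
              simpa [D] using congrArg (fun M : Matrix.SpecialLinearGroup (Fin 2) F =>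
                (M : Matrix (Fin 2) (Fin 2) F) 0 0) h
            rw [Units.val_eq_one.1 h00, orderOf_one] at hζ
            exact hk.ne_one hζ.symm
        rw [← this]
        exact orderOf_dvd_natCard _
      · have hco : Nat.Coprime k (q - 1) := (Nat.Prime.coprime_iff_not_dvd hk).2 h1
        refine hco.dvd_of_dvd_mul_right ?_
        have hsurj : Function.Surjective
            (Matrix.GeneralLinearGroup.det : GL (Fin (max i 2)) F →* Fˣ) := fun u =>
          ⟨Matrix.GeneralLinearGroup.mkOfDetNeZero
            (Matrix.diagonal (Function.update 1 (⟨0, by omega⟩ : Fin (max i 2)) (u : F))) (by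
              rw [det_diagonal, Finset.prod_update_of_mem (Finset.mem_univ _)]; simp),
            Units.ext (by
              show Matrix.det (Matrix.diagonal (Function.update (1 : Fin (max i 2) → F)
                (⟨0, by omega⟩ : Fin (max i 2)) (u : F))) = (u : F)
              rw [det_diagonal, Finset.prod_update_of_mem (Finset.mem_univ _)]; simp)⟩
        have hker : Nat.card (Matrix.SpecialLinearGroup (Fin (max i 2)) F) =
            Nat.card (Matrix.GeneralLinearGroup.det : GL (Fin (max i 2)) F →* Fˣ).ker := by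
          refine Nat.card_congr
            { toFun := fun A => ⟨Matrix.SpecialLinearGroup.toGL A, Units.ext A.2⟩
              invFun := fun g => ⟨((g.1 : GL (Fin (max i 2)) F) : Matrix (Fin (max i 2)) (Fin (max i 2)) F),
                congrArg Units.val g.2⟩
              left_inv := fun A => Subtype.ext rfl
              right_inv := fun g => Subtype.ext (Units.ext rfl) }
        have := (Matrix.GeneralLinearGroup.det : GL (Fin (max i 2)) F →* Fˣ).ker.card_mul_index
        rw [Subgroup.index_ker, MonoidHom.range_eq_top.2 hsurj, Subgroup.card_top,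
          Nat.card_units, ← hker, Nat.card_eq_fintype_card (α := F), ← hq] at this
        rwa [this]
    obtain ⟨x, hx, hns, v, w, hv, hvw, hxv, hxw⟩ := exists_witness hik.2 hdiv
    exact not_conj hK x hns 1 hv (by rw [one_smul, hxv]) (by rw [one_smul, hxw]) hvw
      (hall x ⟨1, by rw [Matrix.SpecialLinearGroup.coe_pow, hx, one_smul]⟩ hns)
  · intro hord x hz hns
    obtain ⟨z, hz⟩ := hz
    obtain ⟨s, hs, hsn, hs1, -⟩ := exists_frob hK
    have hnd : ¬ k ∣ q - 1 := fun h => by have := hkq h; omega
    have hz1 : z = 1 := by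
      refine eq_one_of_pow_eq_one (n := k) ?_ hnd
      have h := congrArg Matrix.det hz
      rw [Matrix.det_smul, det_one, mul_one, Fintype.card_fin] at h
      rw [← h]
      exact (x ^ k).2
    rw [Matrix.SpecialLinearGroup.coe_pow, hz1, one_smul] at hz
    refine conj_into hkF hs hsn x hz (cyclic_of_primitive hkF hord (by omega) hz ?_)
      (cyclic_of_primitive hkF hord (by omega) (by rw [← Units.val_pow_eq_pow_val, hsn]; rfl) ?_)
    · exact fun h => hns 1 (by rw [h, one_smul])
    · exact fun h => hs1 (Units.ext h)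

end Cfsg.Agent.S5970
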