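import Cfsg.Statements.S5971
import Cfsg.Agent.Lib.LinearGroup.SingerElusive

set_option autoImplicit false
open scoped MatrixGroups
open Cfsg

namespace Cfsg.Agent.S5971

open Matrix Cfsg.Agent.SingerElusive Module

variable {F : Type*} [Field F] [Fintype F]

theorem order_two_mod_three : orderOf ((2 : ℕ) : ZMod 3) = 3 - 1 :=
  orderOf_eq_prime (p := 2) (by decide) (by decide)

theorem pow_three_mulVec {X : Matrix (Fin 3) (Fin 3) F} {c : F} {v : Fin 3 → F}
    (h : X *ᵥ v = c • v) : (X ^ 3) *ᵥ v = c ^ 3 • v := by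
  rw [pow_three, ← mulVec_mulVec, ← mulVec_mulVec, h, mulVec_smul, h, mulVec_smul, mulVec_smul, h,
    smul_smul, smul_smul, pow_three, mul_assoc]

theorem scalar_eq_one {X : Matrix (Fin 3) (Fin 3) F} (hdet : X.det = 1) {z : F}
    (hX : X ^ 3 = z • 1) (hcube : ∀ c : F, c ^ 3 = z → z = 1) : z = 1 := by
  classical
  by_contra hz1
  have hne : ∀ c : F, c ^ 3 ≠ z := fun c hc => hz1 (hcube c hc)
  set v : Fin 3 → F := Pi.single 0 1 with hv
  have hv0 : v ≠ 0 := by simp [hv]
  have heig : ∀ c : F, X *ᵥ v ≠ c • v := fun c hc => by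
    have h := pow_three_mulVec hc
    rw [hX, smul_mulVec, one_mulVec] at h
    exact hne c (smul_left_injective F hv0 h).symm
  have h3 : X *ᵥ (X *ᵥ (X *ᵥ v)) = z • v := by
    rw [mulVec_mulVec, mulVec_mulVec, mul_assoc, ← pow_three, hX, smul_mulVec, one_mulVec]
  have hind : ∀ t u : F, t • v + u • (X *ᵥ v) = 0 → t = 0 ∧ u = 0 := by
    intro t u h
    by_cases hu : u = 0
    · subst hu
      rw [zero_smul, add_zero] at h
      exact ⟨(smul_eq_zero.1 h).resolve_right hv0, rfl⟩
    · refine absurd ?_ (heig (-(u⁻¹ * t)))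
      rw [← inv_smul_smul₀ hu (X *ᵥ v), eq_neg_of_add_eq_zero_right h]
      rw [smul_neg, smul_smul, neg_smul]
  by_cases hP : (krylov X v).det = 0
  · obtain ⟨f, hf0, hf⟩ := Matrix.exists_mulVec_eq_zero_iff.2 hP
    have hf' : f 0 • v + f 1 • (X *ᵥ v) + f 2 • (X *ᵥ (X *ᵥ v)) = 0 := by
      ext i
      have hi := congrFun hf i
      rw [mulVec, dotProduct, Fin.sum_univ_three] at hi
      simp only [Pi.add_apply, Pi.smul_apply, Pi.zero_apply, smul_eq_mul] at hi ⊢
      have e0 : krylov X v i 0 = v i := by simp [krylov]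
      have e1 : krylov X v i 1 = (X *ᵥ v) i := by simp [krylov]
      have e2 : krylov X v i 2 = (X *ᵥ (X *ᵥ v)) i := by
        rw [mulVec_mulVec, ← pow_two]; rfl
      rw [e0, e1, e2] at hi
      linear_combination hi
    by_cases hf2 : f 2 = 0
    · rw [hf2, zero_smul, add_zero] at hf'
      obtain ⟨a, b⟩ := hind _ _ hf'
      exact hf0 (funext fun i => by fin_cases i <;> assumption)
    · set α := -((f 2)⁻¹ * f 0) with hα
      set β := -((f 2)⁻¹ * f 1) with hβ
      have hw : X *ᵥ (X *ᵥ v) = α • v + β • (X *ᵥ v) := by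
        rw [← inv_smul_smul₀ hf2 (X *ᵥ (X *ᵥ v)), eq_neg_of_add_eq_zero_right hf', hα, hβ]
        simp only [smul_neg, smul_add, smul_smul, neg_smul]
        abel
      rw [hw, mulVec_add, mulVec_smul, mulVec_smul, hw] at h3
      obtain ⟨e1, e2⟩ := hind (β * α - z) (α + β * β) (by
        rw [← sub_eq_zero] at h3
        rw [← h3]
        module)
      exact hne (-β) (by linear_combination e1 - β * e2)
  · set C : Matrix (Fin 3) (Fin 3) F := !![0, 0, z; 1, 0, 0; 0, 1, 0] with hC
    have hXP : X * krylov X v = krylov X v * C := by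
      ext i j
      have hl : (X * krylov X v) i j = (X *ᵥ (X ^ (j : ℕ) *ᵥ v)) i := rfl
      rw [hl, mulVec_mulVec, ← pow_succ', mul_apply, Fin.sum_univ_three]
      fin_cases j <;> simp [hC, krylov, hX, smul_mulVec, mul_comm z]
    have h := congrArg Matrix.det hXP
    rw [det_mul, det_mul, hdet, one_mul] at h
    have hCd : C.det = z := by rw [hC, det_fin_three]; simp
    rw [hCd] at h
    exact hz1 (mul_left_cancel₀ hP (h.symm.trans (mul_one _).symm))

theorem eigen_dim {X : Matrix (Fin 3) (Fin 3) F} (hdet : X.det = 1) (hX : X ^ 3 = 1)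
    (h3 : (3 : F) ≠ 0) (hns : ∀ z : F, X ≠ z • 1) (c : F) (v w : Fin 3 → F) (hv : v ≠ 0)
    (hcv : X *ᵥ v = c • v) (hcw : X *ᵥ w = c • w) : ∃ a : F, w = a • v := by
  by_contra hne
  push_neg at hne
  have hc : c ^ 3 = 1 := by
    have h := pow_three_mulVec hcv
    rw [hX, one_mulVec] at h
    exact smul_left_injective F hv (h.symm.trans (one_smul F v).symm)
  have hc0 : c ≠ 0 := fun h => by rw [h] at hc; simp at hc
  set A := X - c • (1 : Matrix (Fin 3) (Fin 3) F) with hA
  let L := Matrix.mulVecLin A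
  have hmem : ∀ u, X *ᵥ u = c • u → u ∈ LinearMap.ker L := fun u hu => by
    show A *ᵥ u = 0
    rw [hA, sub_mulVec, smul_mulVec, one_mulVec, hu, sub_self]
  have hli : LinearIndependent F
      (![⟨v, hmem v hcv⟩, ⟨w, hmem w hcw⟩] : Fin 2 → LinearMap.ker L) := by
    refine (LinearIndependent.pair_iff' (fun h => hv (congrArg Subtype.val h))).2 fun a ha => ?_
    exact hne a (congrArg Subtype.val ha).symm
  have hker := hli.fintype_card_le_finrank
  rw [Fintype.card_fin] at hker
  have hrn := LinearMap.finrank_range_add_finrank_ker L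
  rw [Module.finrank_pi, Fintype.card_fin] at hrn
  obtain ⟨r, hr⟩ := finrank_le_one_iff.1 (by omega : finrank F (LinearMap.range L) ≤ 1)
  choose b hb using fun j => hr ⟨L (Pi.single j 1), LinearMap.mem_range_self L _⟩
  have hAeq : A = vecMulVec (r : Fin 3 → F) b := by
    ext i j
    have h := congrFun (congrArg Subtype.val (hb j)) i
    rw [vecMulVec_apply, mul_comm]
    simpa [L] using h.symm
  have hXeq : X = c • ((1 : Matrix (Fin 3) (Fin 3) F) +
      vecMulVec (c⁻¹ • (r : Fin 3 → F)) b) := by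
    rw [smul_add, smul_vecMulVec, smul_smul, mul_inv_cancel₀ hc0, one_smul, ← hAeq, hA]
    abel
  have hdot : b ⬝ᵥ (r : Fin 3 → F) = 0 := by
    rw [hXeq, det_smul, Fintype.card_fin, hc, one_mul, vecMulVec_eq Unit,
      det_one_add_replicateCol_mul_replicateRow, dotProduct_smul, smul_eq_mul,
      add_eq_left, mul_eq_zero] at hdet
    exact hdet.resolve_left (inv_ne_zero hc0)
  have hA2 : A * A = 0 := by rw [hAeq, vecMulVec_mul_vecMulVec, hdot, zero_smul, vecMulVec_zero]
  have hA0 : (3 * c ^ 2) • A = 0 := by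
    have h : X = c • 1 + A := by rw [hA]; abel
    rw [h, pow_three] at hX
    simp only [add_mul, mul_add, Matrix.smul_mul, Matrix.mul_smul, one_mul, mul_one, hA2, smul_add,
      smul_smul, smul_zero, add_zero, mul_zero] at hX
    have hc3 : (c ^ 3) • (1 : Matrix (Fin 3) (Fin 3) F) = 1 := by rw [hc, one_smul]
    linear_combination (norm := module) hX - hc3
  rcases smul_eq_zero.1 hA0 with h | h
  · exact mul_ne_zero h3 (pow_ne_zero 2 hc0) h
  · exact hns c (sub_eq_zero.1 h)

theorem not_nine_dvd (q : ℕ) (h : q % 9 = 2 ∨ q % 9 = 5) :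
    ¬ 9 ∣ (q ^ 3 - 1) * (q ^ 3 - q) * (q ^ 3 - q ^ 2) := by
  intro hd
  have h2 : q % 9 ≤ q := Nat.mod_le _ _
  have hq : 1 ≤ q := by omega
  rw [← ZMod.natCast_eq_zero_iff, Nat.cast_mul, Nat.cast_mul, Nat.cast_sub (Nat.one_le_pow _ _ hq),
    Nat.cast_sub (Nat.le_self_pow (by norm_num) q),
    Nat.cast_sub (Nat.pow_le_pow_right hq (by norm_num)), Nat.cast_pow, Nat.cast_pow,
    Nat.cast_one, ← ZMod.natCast_mod q 9] at hd
  rcases h with h | h <;> rw [h] at hd <;> revert hd <;> decide

/-- Elements of order 3 of PSL_3(q) and the normalizer of a Singer cycle. Here `T = PSL_n(F)` for a field `F` with `q = p^f` elements (`n ≥ 2`, `(n, q) ≠ (2, 2), (2, 3)`), `k` is a prime dividing `n`, `K` is a subalgebra of the `n × n` matrices that is a field of degree `k` over `F` (an extension-field structure F_{q^k} on `F^n`), and `H` is the subgroup of matrices of determinant 1 normalizing `K` — a subgroup of type GL_{n/k}(q^k) (maximal except in some small cases; maximality is not assumed); Ω is the set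 of cosets of `H` in `T`, so an element of `T` of prime order `r` (a matrix `x` of determinant 1 with `x^r` scalar, `x` not scalar) fixes a point of Ω when some conjugate of `x` by a matrix of determinant 1 normalizes `K`. Take `n = k = 3` and suppose 3 divides the index of `H`. Then every element of `T` of order 3 is conjugate in `T` into `H` if and only if `q ≡ 4, 7` or `8 (mod 9)`. -/
theorem result {F : Type*} [Field F] [Fintype F] {p : ℕ} [Fact p.Prime] [CharP F p] {q : ℕ} (hq : Fintype.card F = q)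
    (n : ℕ) (hn : n = 3) (k : ℕ) (hk : k.Prime) (hkn : k ∣ n) (K : Subalgebra F (Matrix (Fin n) (Fin n) F)) (hK : Cfsg.Geo.IsFieldSubalgebra k K) (hk3 : k = 3) (hΩ : 3 ∣ ((Cfsg.Geo.subalgebraNormalizer K).comap (Matrix.SpecialLinearGroup.toGL : Matrix.SpecialLinearGroup (Fin n) F →* GL (Fin n) F)).index) :
    (∀ x : Matrix.SpecialLinearGroup (Fin n) F,
      (∃ z : F, ((x ^ 3 : Matrix.SpecialLinearGroup (Fin n) F) : Matrix (Fin n) (Fin n) F) = z • (1 : Matrix (Fin n) (Fin n) F)) →
      (∀ z : F, (x : Matrix (Fin n) (Fin n) F) ≠ z • (1 : Matrix (Fin n) (Fin n) F)) →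
      ∃ P : Matrix.SpecialLinearGroup (Fin n) F, P⁻¹ * x * P ∈ ((Cfsg.Geo.subalgebraNormalizer K).comap (Matrix.SpecialLinearGroup.toGL : Matrix.SpecialLinearGroup (Fin n) F →* GL (Fin n) F))) ↔
    (q % 9 = 4 ∨ q % 9 = 7 ∨ q % 9 = 8) := by
  classical
  subst hn
  subst hk3
  subst hq
  set q := Fintype.card F with hq
  haveI : Fact (Nat.Prime 3) := ⟨Nat.prime_three⟩
  have hq1 : 1 < q := Fintype.one_lt_card
  have hn9 : q % 9 % 3 = q % 3 := Nat.mod_mod_of_dvd q (by norm_num)
  obtain ⟨m, hpp, hqp⟩ := FiniteField.card F p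
  have h3F : q % 3 ≠ 0 → (3 : F) ≠ 0 := fun h h0 => by
    have h0' : ((3 : ℕ) : F) = 0 := by exact_mod_cast h0
    have hp3 := (Nat.prime_dvd_prime_iff_eq hpp Nat.prime_three).1 ((CharP.cast_eq_zero_iff F p 3).1 h0')
    apply h
    rw [hq, hqp, hp3]
    exact Nat.mod_eq_zero_of_dvd (dvd_pow_self 3 m.ne_zero) |>.trans rfl
  constructor
  · intro hall
    by_contra hcase
    have hw : ∀ x : Matrix.SpecialLinearGroup (Fin 3) F, ∀ z c : F,
        (x : Matrix (Fin 3) (Fin 3) F) ^ 3 = z • 1 →
        (∀ z : F, (x : Matrix (Fin 3) (Fin 3) F) ≠ z • 1) →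
        ∀ v w : Fin 3 → F, v ≠ 0 → (∀ a : F, w ≠ a • v) →
        (x : Matrix (Fin 3) (Fin 3) F) *ᵥ v = c • v →
        (x : Matrix (Fin 3) (Fin 3) F) *ᵥ w = c • w → False := by
      intro x z c hz hns v w hv hvw hxv hxw
      exact not_conj hK x hns c hv hxv hxw hvw
        (hall x ⟨z, by rw [Matrix.SpecialLinearGroup.coe_pow, hz]⟩ hns)
    rcases (show q % 3 = 0 ∨ q % 9 = 1 ∨ (q % 9 = 2 ∨ q % 9 = 5) by omega) with h | h | h
    · have h3 : (3 : F) = 0 := by
        have hd : 3 ∣ p ^ (m : ℕ) := by rw [← hqp]; exact Nat.dvd_of_mod_eq_zero h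
        have hp3 := (Nat.prime_dvd_prime_iff_eq Nat.prime_three hpp).1
          (Nat.prime_three.dvd_of_dvd_pow hd)
        have := CharP.cast_eq_zero F p
        rw [← hp3] at this
        exact_mod_cast this
      refine hw ⟨transvection 0 1 1, det_transvection_of_ne _ _ (by decide) _⟩ 1 1 ?_ ?_
        (Pi.single 0 1) (Pi.single 2 1) (by simp) ?_ ?_ ?_
      · show transvection (0 : Fin 3) 1 (1 : F) ^ 3 = _
        ext i j
        fin_cases i <;> fin_cases j <;>
          simp [transvection, pow_three, Matrix.mul_apply, Fin.sum_univ_three, Matrix.single_apply]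
        linear_combination h3
      · intro z hz
        have h01 := congrArg (fun M : Matrix (Fin 3) (Fin 3) F => M 0 1) hz
        simp [transvection] at h01
      · intro a ha
        have := congrFun ha 2
        simp at this
      · show transvection (0 : Fin 3) 1 (1 : F) *ᵥ _ = _
        ext i
        fin_cases i <;> simp [transvection, mulVec, dotProduct, Fin.sum_univ_three, Matrix.single_apply]
      · show transvection (0 : Fin 3) 1 (1 : F) *ᵥ _ = _
        ext i
        fin_cases i <;> simp [transvection, mulVec, dotProduct, Fin.sum_univ_three, Matrix.single_apply]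
    · obtain ⟨g, hg⟩ := IsCyclic.exists_ofOrder_eq_natCard (α := Fˣ)
      have hg' : orderOf g = q - 1 := by rw [hg, Nat.card_eq_fintype_card, Fintype.card_units]
      have h9 : 9 ∣ q - 1 := by omega
      set η := g ^ ((q - 1) / 9) with hη
      have hη9 : orderOf η = 9 := by
        rw [hη, orderOf_pow_of_dvd (Nat.div_pos (Nat.le_of_dvd (by omega) h9) (by norm_num)).ne'
          (hg'.symm ▸ Nat.div_dvd_of_dvd h9), hg']
        exact Nat.div_div_self h9 (by omega)
      set a : F := (η : F) with ha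
      have ha9 : a ^ 9 = 1 := by
        rw [ha, ← Units.val_pow_eq_pow_val, ← hη9, pow_orderOf_eq_one, Units.val_one]
      have ha3 : a ^ 3 ≠ 1 := fun h' => by
        have : η ^ 3 = 1 := Units.ext (by rw [Units.val_pow_eq_pow_val]; exact h')
        have := Nat.le_of_dvd (by norm_num) (orderOf_dvd_of_pow_eq_one this)
        omega
      let D : Fin 3 → F := ![a, a, a ^ 7]
      refine hw ⟨Matrix.diagonal D, by
          rw [det_diagonal, Fin.prod_univ_three]; simp [D]; linear_combination ha9⟩ (a ^ 3) a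
        ?_ ?_ (Pi.single 0 1) (Pi.single 1 1) (by simp) ?_ ?_ ?_
      · show Matrix.diagonal D ^ 3 = _
        rw [Matrix.diagonal_pow, smul_one_eq_diagonal]
        congr 1
        funext i
        fin_cases i <;> simp [D]
        linear_combination (a ^ 3 + a ^ 12) * ha9
      · intro z hz
        have h00 := congrArg (fun M : Matrix (Fin 3) (Fin 3) F => M 0 0) hz
        have h22 := congrArg (fun M : Matrix (Fin 3) (Fin 3) F => M 2 2) hz
        simp [D] at h00 h22
        exact ha3 (by linear_combination ha9 - a ^ 2 * h22 + a ^ 2 * h00)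
      · intro b hb
        have := congrFun hb 1
        simp at this
      · show Matrix.diagonal D *ᵥ _ = _
        ext i
        fin_cases i <;> simp [D, mulVec_diagonal]
      · show Matrix.diagonal D *ᵥ _ = _
        ext i
        fin_cases i <;> simp [D, mulVec_diagonal]
    · obtain ⟨s, hs, hsn, hs1, -⟩ := exists_frob hK
      have hsd : (s : Matrix (Fin 3) (Fin 3) F).det = 1 := eq_one_of_pow_eq_one (n := 3) (by
        rw [← det_pow, ← Units.val_pow_eq_pow_val, hsn, Units.val_one, det_one]) (by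
          rw [← hq]; omega)
      set H := (Cfsg.Geo.subalgebraNormalizer K).comap (Matrix.SpecialLinearGroup.toGL :
        Matrix.SpecialLinearGroup (Fin 3) F →* GL (Fin 3) F) with hH
      obtain ⟨S, hS⟩ : ∃ S : Matrix.SpecialLinearGroup (Fin 3) F,
          Matrix.SpecialLinearGroup.toGL S = s :=
        ⟨⟨(s : Matrix (Fin 3) (Fin 3) F), hsd⟩, Units.ext rfl⟩
      have hSH : S ∈ H := by rw [hH, Subgroup.mem_comap, hS]; exact hs
      have hord : orderOf (⟨S, hSH⟩ : H) = 3 := by
        rw [Subgroup.orderOf_mk, ← orderOf_injective Matrix.SpecialLinearGroup.toGL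
          Matrix.SpecialLinearGroup.toGL_injective, hS]
        exact orderOf_eq_prime hsn hs1
      have h9 : 3 * 3 ∣ Nat.card (Matrix.SpecialLinearGroup (Fin 3) F) := by
        rw [← H.card_mul_index]
        exact mul_dvd_mul (hord.symm.dvd.trans (orderOf_dvd_natCard (⟨S, hSH⟩ : H))) hΩ
      have hGL := h9.trans (Subgroup.card_dvd_of_injective (Matrix.SpecialLinearGroup.toGL :
        Matrix.SpecialLinearGroup (Fin 3) F →* GL (Fin 3) F)
          Matrix.SpecialLinearGroup.toGL_injective)
      rw [Matrix.card_GL_field, Fin.prod_univ_three] at hGL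
      refine not_nine_dvd q h ?_
      simpa using hGL
  · intro hcase x hz hns
    obtain ⟨z, hz⟩ := hz
    rw [Matrix.SpecialLinearGroup.coe_pow] at hz
    obtain ⟨s, hs, hsn, hs1, hsns⟩ := exists_frob hK
    have h3 : (3 : F) ≠ 0 := h3F (by omega)
    have h3' : ((3 : ℕ) : F) ≠ 0 := by exact_mod_cast h3
    have hzc : z ^ 3 = 1 := by
      have h := congrArg Matrix.det hz
      rw [det_smul, det_one, mul_one, Fintype.card_fin, det_pow, x.2, one_pow] at h
      exact h.symm
    have hs3 : (s : Matrix (Fin 3) (Fin 3) F) ^ 3 = 1 := by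
      rw [← Units.val_pow_eq_pow_val, hsn]; rfl
    by_cases h8 : q % 9 = 8
    · have hz1 : z = 1 := eq_one_of_pow_eq_one (n := 3) hzc (by rw [← hq]; omega)
      rw [hz1, one_smul] at hz
      have hord : orderOf (Fintype.card F : ZMod 3) = 3 - 1 := by
        rw [← hq, ← ZMod.natCast_mod, show q % 3 = 2 by omega]
        exact order_two_mod_three
      exact conj_into h3' hs hsn x hz
        (cyclic_of_primitive h3' hord le_rfl hz fun h => hns 1 (by rw [h, one_smul]))
        (cyclic_of_primitive h3' hord le_rfl hs3 fun h => hs1 (Units.ext h))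
    · have hgcd : Nat.gcd 9 (q - 1) = 3 := by
        have e : (q - 1) % 9 = 3 ∨ (q - 1) % 9 = 6 := by omega
        rw [Nat.gcd_rec]
        rcases e with e | e <;> rw [e] <;> rfl
      have hz1 : z = 1 := scalar_eq_one x.2 hz fun c hc => by
        have hc9 : c ^ 9 = 1 := by rw [show (9 : ℕ) = 3 * 3 by rfl, pow_mul, hc, hzc]
        have hc0 : c ≠ 0 := fun h0 => by rw [h0] at hc9; simp at hc9
        have := pow_gcd_eq_one.2 ⟨hc9, FiniteField.pow_card_sub_one_eq_one c hc0⟩
        rw [← hq, hgcd] at this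
        rw [← hc, this]
      rw [hz1, one_smul] at hz
      obtain ⟨ζ, hζ⟩ := exists_prime_orderOf_dvd_card' (G := Fˣ) 3 (by
        rw [Nat.card_eq_fintype_card, Fintype.card_units]; omega)
      have hζ3 : (ζ : F) ^ 3 = 1 := by
        rw [← Units.val_pow_eq_pow_val, ← hζ, pow_orderOf_eq_one, Units.val_one]
      have hζ1 : (ζ : F) ≠ 1 := fun h => by
        rw [Units.val_eq_one.1 h, orderOf_one] at hζ; omega
      exact conj_into h3' hs hsn x hz (cyclic_of_split hζ3 hζ1 h3 hz (eigen_dim x.2 hz h3 hns))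
        (cyclic_of_split hζ3 hζ1 h3 hs3 fun c v w hv hcv hcw =>
          eigen_dep hK Nat.prime_three hs hsns c hv hcv hcw)

end Cfsg.Agent.S5971
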