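import Cfsg.Statements.S5972
import Cfsg.Agent.OrthFix.TS.Rows

set_option autoImplicit false
open scoped MatrixGroups
open Cfsg

namespace Cfsg.Agent.S5972

/-- Elements of prime order of Ω_n(q), n = 2d+1 ≥ 7, q odd, with no fixed totally singular `m`-space. Here `T = Ω_n(q)` is realised as the commutator subgroup of the isometry group of the quadratic form `x₀² + Σ xᵢyᵢ` over the field `F` with `q` elements (it has trivial centre, so its elements of prime order `r` are used directly); let `1 ≤ m ≤ d` and let `r` be a prime dividing the number of totally singular `m`-spaces. For `r ≠ p` let `i` be the multiplicative order of `q` modulo `r`, `c = i` for `i` even and `c = 2i` for `i` odd, and write `k = n mod c`, `ℓ = m mod i`, `n' = ⌊n/i⌋`, `m' = ⌊m/i⌋`, `t = (r−1)/i`. Then every element of `T` of order `r` fixes some totally singular `m`-space if and only if either (i) `r = 2` and (`m < (n−1)/2` or `q ≡ 1 (mod 4)`); or (ii) `r ≠ p` is odd, `i ≤ m`, `k >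 2ℓ`, and (`i` is odd or `n' − 2m' ≥ t`). -/
theorem result {F : Type*} [Field F] [Fintype F] {p : ℕ} [Fact p.Prime] [CharP F p] {q : ℕ} (hq : Fintype.card F = q) (hqodd : Odd q)
    (d m : ℕ) (hd : 3 ≤ d) (hm : 1 ≤ m) (hmd : m ≤ d)
    (r : ℕ) [Fact r.Prime]
    (hrΩ : r ∣ Nat.card {W : Submodule F (Unit ⊕ (Fin d ⊕ Fin d) → F) // Module.finrank F ↥W = m ∧ (∀ w ∈ W, Cfsg.quadFormOdd d F w = 0)})
    (i c : ℕ) (hi : i = orderOf (q : ZMod r)) (hc : c = if Even i then i else 2 * i) :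
    (∀ x : GL (Unit ⊕ (Fin d ⊕ Fin d)) F, x ∈ Cfsg.Geo.omegaGL (Cfsg.quadFormOdd d F) → orderOf x = r →
      ∃ W : Submodule F (Unit ⊕ (Fin d ⊕ Fin d) → F), Module.finrank F ↥W = m ∧ (∀ w ∈ W, Cfsg.quadFormOdd d F w = 0) ∧
        W.map (Matrix.toLin' (x : Matrix (Unit ⊕ (Fin d ⊕ Fin d)) (Unit ⊕ (Fin d ⊕ Fin d)) F)) ≤ W) ↔
    ((r = 2 ∧ (m < d ∨ q % 4 = 1)) ∨
     (r ≠ p ∧ 2 < r ∧ i ≤ m ∧ 2 * (m % i) < (2 * d + 1) % c ∧ (Odd i ∨ (r - 1) / i + 2 * (m / i) ≤ (2 * d + 1) / i))) := by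
  obtain rfl : Fintype.card F = q := hq
  have h2 : (2 : F) ≠ 0 := UnitaryOrthogonal.two_ne_zero_of_card_odd hqodd
  have hQ := OrthFix.polarND_qOdd h2 d
  have hs := OrthFix.sig_qOdd h2 d
  have hf := OrthFix.coe_qOdd (F := F) d
  have hn := OrthFix.finrank_fun_odd (F := F) d
  have hcard : Fintype.card (Unit ⊕ (Fin d ⊕ Fin d)) = 2 * d + 1 := by simp; omega
  have hrp' : r.Prime := Fact.out
  rw [OrthFix.TS.card_form hf] at hrΩ
  have hrp : r ≠ p := by
    rintro rfl
    exact OrthFix.TS.not_dvd_char (p := r) hQ hs hn (by omega) hrΩ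
  rcases eq_or_lt_of_le hrp'.two_le with h | h
  · subst h
    rw [OrthFix.TS.forall_two_odd_iff hf hQ h2 hn (by omega) hs hmd]
    simp
  have hr2 : Odd r := hrp'.odd_of_ne_two (by omega)
  simp only [OrthFix.TS.exists_and_assoc]
  rw [OrthFix.forall_orderOf_iff hf hQ (by omega) hr2, OrthFix.TS.congr_form hf]
  have S := OrthFix.setup_of (p := p) rfl hrp' h hrp hi hc
  rw [OrthFix.TS.criterion S hQ hs hn m]
  have hc0 := S.c_pos
  have hodd := OrthFix.mod_mod_two S.c_even (2 * d + 1)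
  have hlt := Nat.mod_lt (2 * d + 1) hc0
  have hdm := Nat.div_add_mod' (2 * d + 1) c
  have hT : OrthFix.TopC c (if Even i then -1 else 1) ((2 * d + 1) % c)
      ((if Even i then -1 else 1 : ℤ) ^ ((2 * d + 1) / c)) :=
    ⟨hlt.le, OrthFix.pow_unit S _, fun e => by omega, fun e => by omega⟩
  have hV : (1 : ℤ) = (if Even i then -1 else 1 : ℤ) ^ ((2 * d + 1) / c) *
      (if Even i then -1 else 1 : ℤ) ^ ((2 * d + 1) / c) := by rw [← mul_pow, S.mul_self, one_pow]
  rw [OrthFix.TS.forall_ok_iff S hT hdm.symm hV (Or.inl (by omega))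
    (OrthFix.TS.small_excluded S hQ hs hn hT hdm.symm hV hrΩ)]
  have hr : r ≠ 2 := by omega
  simp only [OrthFix.TS.cap, OrthFix.TS.TSok, hrp, hr, h, false_and, false_or, true_and, ne_eq,
    not_false_eq_true]
  have hm' := Nat.div_add_mod' m i
  have hml := Nat.mod_lt m S.i_pos
  have him : i ≤ m ↔ 1 ≤ m / i := (Nat.one_le_div_iff S.i_pos).symm
  have ht : 0 < (r - 1) / i :=
    Nat.div_pos (Nat.le_of_dvd (by omega) S.i_dvd_pred) S.i_pos
  rcases Nat.even_or_odd i with hev | hod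
  · have hci : c = i := by rw [hc, if_pos hev]
    subst hci
    simp only [hev, if_true, Nat.not_odd_iff_even.2 hev, false_or, forall_const]
    omega
  · have hne : ¬ Even i := Nat.not_even_iff_odd.2 hod
    have hci : c = 2 * i := by rw [hc, if_neg hne]
    simp only [hne, if_false, hod, true_or, and_true, false_implies]
    constructor
    · rintro ⟨h1, -, h3⟩
      exact ⟨h1, by omega⟩
    · rintro ⟨h1, h3⟩
      refine ⟨h1, ?_, Or.inl h3⟩
      have h4 : 2 * i * ((2 * d + 1) / c) = (2 * d + 1) / c * c := by rw [hci]; ring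
      by_contra hcon
      have h5 : ((2 * d + 1) / c + 1) * i ≤ m / i * i := Nat.mul_le_mul_right i (by omega)
      rw [Nat.succ_mul] at h5
      have h6 : (2 * d + 1) / c * c = 2 * ((2 * d + 1) / c * i) := by rw [hci]; ring
      omega

end Cfsg.Agent.S5972
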