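import Cfsg.Statements.S5973
import Cfsg.Agent.OrthFix.TS.Rows

set_option autoImplicit false
open scoped MatrixGroups
open Cfsg

namespace Cfsg.Agent.S5973

/-- Elements of prime order of PΩ⁺_n(q), n = 2d ≥ 8, with no fixed totally singular `m`-space, `m < n/2`. Here `T = PΩ⁺_n(q)` is realised through `Ω⁺_n(q)`, the commutator subgroup of the isometry group of the quadratic form `Σ xᵢyᵢ` over the field `F` with `q` elements; an element of `T` of prime order `r` is an element `x` of `Ω⁺_n(q)` with `x^r` scalar and `x` not scalar. Let `1 ≤ m < d` and let `r` be a prime dividing the number of totally singular `m`-spaces. For `r ≠ p` let `i` be the multiplicative order of `q` modulo `r`, `c = i` for `i` even and `c = 2i` for `i` odd, and write `k = n mod c`, `ℓ = m mod i`, `n' = ⌊n/i⌋`, `m' = ⌊m/i⌋`, `t = (r−1)/i`. Then every element of `T` of order `r` fixes some totally singular `m`-space if and only if one of: (i) `r = 2 ≠ p` and either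 `q ≡ 1 (mod 4)`, or `q ≡ 3 (mod 4)`, `m ≤ n/2 − 2` and (`m` even or `n ≡ 2 (mod 4)`); (ii) `r ≠ p` odd, `i` odd, `i ≤ m` and `k ≥ 2ℓ`; (iii) `r ≠ p` odd, `i` even, `i ≤ m`, `n' − 2m' ≥ t`, and one of: `i ≥ 2ℓ`, `k = 0`, `n/i` odd and `n' − 2m' > t`; or `k ≥ 2ℓ` and `n'` even; or `k > 2ℓ` and `n'` odd. -/
theorem result {F : Type*} [Field F] [Fintype F] {p : ℕ} [Fact p.Prime] [CharP F p] {q : ℕ} (hq : Fintype.card F = q)
    (d m : ℕ) (hd : 4 ≤ d) (hm : 1 ≤ m) (hmd : m < d)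
    (r : ℕ) [Fact r.Prime]
    (hrΩ : r ∣ Nat.card {W : Submodule F (Fin d ⊕ Fin d → F) // Module.finrank F ↥W = m ∧ (∀ w ∈ W, Cfsg.quadFormPlus d F w = 0)})
    (i c : ℕ) (hi : i = orderOf (q : ZMod r)) (hc : c = if Even i then i else 2 * i) :
    (∀ x : GL (Fin d ⊕ Fin d) F, x ∈ Cfsg.Geo.omegaGL (Cfsg.quadFormPlus d F) →
      (∃ z : F, ((x ^ r : GL (Fin d ⊕ Fin d) F) : Matrix (Fin d ⊕ Fin d) (Fin d ⊕ Fin d) F) = z • (1 : Matrix (Fin d ⊕ Fin d) (Fin d ⊕ Fin d) F)) →
      (∀ z : F, (x : Matrix (Fin d ⊕ Fin d) (Fin d ⊕ Fin d) F) ≠ z • (1 : Matrix (Fin d ⊕ Fin d) (Fin d ⊕ Fin d) F)) →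
      ∃ W : Submodule F (Fin d ⊕ Fin d → F), Module.finrank F ↥W = m ∧ (∀ w ∈ W, Cfsg.quadFormPlus d F w = 0) ∧
        W.map (Matrix.toLin' (x : Matrix (Fin d ⊕ Fin d) (Fin d ⊕ Fin d) F)) ≤ W) ↔
    ((r = 2 ∧ p ≠ 2 ∧ (q % 4 = 1 ∨ (q % 4 = 3 ∧ m + 2 ≤ d ∧ (Even m ∨ (2 * d) % 4 = 2)))) ∨
     (r ≠ p ∧ 2 < r ∧ Odd i ∧ i ≤ m ∧ 2 * (m % i) ≤ (2 * d) % c) ∨
     (r ≠ p ∧ 2 < r ∧ Even i ∧ i ≤ m ∧ (r - 1) / i + 2 * (m / i) ≤ (2 * d) / i ∧
       ((2 * (m % i) ≤ i ∧ (2 * d) % c = 0 ∧ Odd ((2 * d) / i) ∧ (r - 1) / i + 2 * (m / i) < (2 * d) / i) ∨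
        (2 * (m % i) ≤ (2 * d) % c ∧ Even ((2 * d) / i)) ∨
        (2 * (m % i) < (2 * d) % c ∧ Odd ((2 * d) / i))))) := by
  obtain rfl : Fintype.card F = q := hq
  have hQ := OrthFix.polarND_qPlus (F := F) d
  have hs := OrthFix.sig_qPlus (F := F) d
  have hf := OrthFix.coe_qPlus (F := F) d
  have hn := OrthFix.finrank_fun_plus (F := F) d
  have hcard : Fintype.card (Fin d ⊕ Fin d) = 2 * d := by simp; omega
  have hrp' : r.Prime := Fact.out
  rw [OrthFix.TS.card_form hf] at hrΩ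
  have hrp : r ≠ p := by
    rintro rfl
    exact OrthFix.TS.not_dvd_char (p := r) hQ hs hn (by omega) hrΩ
  rcases eq_or_lt_of_le hrp'.two_le with h | h
  · subst h
    have h2 : (2 : F) ≠ 0 := fun e => hrp ((Nat.prime_dvd_prime_iff_eq (Fact.out : p.Prime) Nat.prime_two).1
      ((CharP.cast_eq_zero_iff F p 2).1 (by exact_mod_cast e))).symm
    rw [OrthFix.TS.forall_two_plus_iff hf hQ h2 hn (by omega) hs (by omega) hmd]
    have hp2 : p ≠ 2 := fun e => hrp e.symm
    have key : ∀ k : ℕ, Even k → OrthFix.chi (2 : F) ^ k = 1 := fun k ⟨e, he⟩ => by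
      rw [he, pow_add, ← mul_pow, OrthFix.chi_mul_self h2, one_pow]
    have hd4 : (2 * d) % 4 = 2 ↔ Odd d := by rw [Nat.odd_iff]; omega
    simp only [hp2, ne_eq, not_false_eq_true, true_and, Nat.lt_irrefl, false_and, and_false, or_false, hd4]
    rcases Nat.even_or_odd d with hde | hdo
    · simp only [key d hde, Nat.not_odd_iff_even.2 hde, not_true_eq_false, or_false]
    · simp only [hdo, true_or, or_true]
  have hr2 : Odd r := hrp'.odd_of_ne_two (by omega)
  simp only [OrthFix.TS.exists_and_assoc]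
  rw [OrthFix.forall_scalar_iff hf hQ (by omega) (Fintype.card_pos_iff.1 (by omega)) hr2,
    OrthFix.TS.congr_form hf]
  have S := OrthFix.setup_of (p := p) rfl hrp' h hrp hi hc
  rw [OrthFix.TS.criterion S hQ hs hn m]
  have hc0 := S.c_pos
  have hlt := Nat.mod_lt (2 * d) hc0
  have hdm := Nat.div_add_mod' (2 * d) c
  have hr : r ≠ 2 := by omega
  have hm' := Nat.div_add_mod' m i
  have hml := Nat.mod_lt m S.i_pos
  have him : i ≤ m ↔ 1 ≤ m / i := (Nat.one_le_div_iff S.i_pos).symm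
  have ht : 0 < (r - 1) / i :=
    Nat.div_pos (Nat.le_of_dvd (by omega) S.i_dvd_pred) S.i_pos
  have hwitt : OrthFix.TS.TSok (2 * d) 1 m := Or.inl (by omega)
  rcases Nat.even_or_odd i with hev | hod
  · have hci : c = i := by rw [hc, if_pos hev]
    subst hci
    have hb : (if Even c then (-1 : ℤ) else 1) = -1 := if_pos hev
    rw [hb] at S ⊢
    by_cases hk : (2 * d) % c = 0 ∧ Odd (2 * d / c)
    · obtain ⟨hk0, hko⟩ := hk
      have hT : OrthFix.TopC c (-1) c 1 := ⟨le_rfl, Or.inl rfl, fun e => by omega, fun _ => rfl⟩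
      have hT1 : 1 ≤ 2 * d / c := hko.pos
      have hnT : 2 * d = (2 * d / c - 1) * c + c := by
        rw [Nat.sub_one_mul]
        have := Nat.le_mul_of_pos_left c hT1
        omega
      have hV : (1 : ℤ) = 1 * (-1) ^ (2 * d / c - 1) := by
        obtain ⟨e, he⟩ := hko
        rw [one_mul, show 2 * d / c - 1 = 2 * e by omega, pow_mul, neg_one_sq, one_pow]
      rw [OrthFix.TS.forall_ok_iff S hT hnT hV hwitt (OrthFix.TS.small_excluded S hQ hs hn hT hnT hV hrΩ)]
      simp only [OrthFix.TS.cap, OrthFix.TS.TSok, hrp, hr, h, false_and, false_or, true_and, ne_eq,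
        not_false_eq_true, hev, if_true, forall_const, Nat.not_odd_iff_even.2 hev, hk0, hko,
        Nat.not_even_iff_odd.2 hko, or_false, and_false, and_true, show ¬ ((-1 : ℤ) = 1) by decide,
        Nat.not_lt_zero]
      rw [Nat.odd_iff] at hko
      omega
    · have hV : (1 : ℤ) = (-1) ^ (2 * d / c) * (-1) ^ (2 * d / c) := by
        rw [← mul_pow, neg_one_mul, neg_neg, one_pow]
      have hT : OrthFix.TopC c (-1) ((2 * d) % c) ((-1) ^ (2 * d / c)) :=
        ⟨hlt.le, neg_one_pow_eq_or ℤ _, fun e => Even.neg_one_pow (Nat.not_odd_iff_even.1 fun ho => hk ⟨e, ho⟩),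
          fun e => by omega⟩
      rw [OrthFix.TS.forall_ok_iff S hT hdm.symm hV hwitt
        (OrthFix.TS.small_excluded S hQ hs hn hT hdm.symm hV hrΩ)]
      simp only [OrthFix.TS.cap, OrthFix.TS.TSok, hrp, hr, h, false_and, false_or, true_and, ne_eq,
        not_false_eq_true, hev, if_true, forall_const, Nat.not_odd_iff_even.2 hev, OrthFix.neg_pow_eq_one,
        OrthFix.neg_neg_pow_eq_one, Nat.odd_iff, Nat.even_iff]
      rw [Nat.odd_iff] at hk
      omega
  · have hne : ¬ Even i := Nat.not_even_iff_odd.2 hod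
    have hci : c = 2 * i := by rw [hc, if_neg hne]
    have hb : (if Even i then (-1 : ℤ) else 1) = 1 := if_neg hne
    rw [hb] at S ⊢
    have hT : OrthFix.TopC c 1 ((2 * d) % c) 1 := ⟨hlt.le, Or.inl rfl, fun _ => rfl, fun e => by omega⟩
    have hV : (1 : ℤ) = 1 * 1 ^ (2 * d / c) := by rw [one_pow, one_mul]
    rw [OrthFix.TS.forall_ok_iff S hT hdm.symm hV hwitt
      (OrthFix.TS.small_excluded S hQ hs hn hT hdm.symm hV hrΩ)]
    simp only [OrthFix.TS.cap, OrthFix.TS.TSok, hrp, hr, h, false_and, false_or, or_false, true_and, ne_eq,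
      not_false_eq_true, hne, if_false, hod, false_implies, and_true]
    constructor
    · rintro ⟨h1, -, h3⟩
      exact ⟨h1, by omega⟩
    · rintro ⟨h1, h3⟩
      refine ⟨h1, ?_, by omega⟩
      by_contra hcon
      have h5 : (2 * d / c + 1) * i ≤ m / i * i := Nat.mul_le_mul_right i (by omega)
      rw [Nat.succ_mul] at h5
      have h6 : 2 * d / c * c = 2 * (2 * d / c * i) := by rw [hci]; ring
      omega

end Cfsg.Agent.S5973
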