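import Cfsg.Statements.S5974
import Cfsg.Agent.OrthFix.CharTwoRows

set_option autoImplicit false
open scoped MatrixGroups
open Cfsg

namespace Cfsg.Agent.S5974

/-- Elements of prime order of PΩ⁺_n(q), n = 2d ≥ 8, with no fixed nondegenerate hyperbolic `m`-space. Here `T = PΩ⁺_n(q)` is realised through `Ω⁺_n(q)`, the commutator subgroup of the isometry group of `Q = Σ xᵢyᵢ` over the field `F` with `q` elements; an element of `T` of prime order `r` is an element `x` of `Ω⁺_n(q)` with `x^r` scalar and `x` not scalar. A hyperbolic `m`-space is a subspace `W` of even dimension `m` on which the polar form of `Q` is nondegenerate and which contains a totally singular subspace of dimension `m/2`. Let `m` be even with `2 ≤ m < n/2`, and let `r` be a prime dividing the number of hyperbolic `m`-spaces, with `r = 2` or `r ≠ p`. For `r ≠ p` let `i` be the multiplicative order of `q` modulo `r`, `c = i` for `i` even and `c = 2i` for `i` odd, and write `k =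 n mod c`, `ℓ' = m mod c`. Then every element of `T` of order `r` fixes some hyperbolic `m`-space if and only if one of: (i) `r = 2` and (`n ≡ 2 (mod 4)`, or `m ≡ 0 (mod 4)`, or `q ≡ 1 (mod 4)`); (ii) `r ≠ p` odd, `i` odd, `c ≤ m` and `k ≥ ℓ'`; (iii) `r ≠ p` odd, `i` even, and either `k = 0` and (`n/i` odd, or `ℓ' = 0` and `m/i` even), or `i ≤ m` and (`k > ℓ' > 0`, or `k = ℓ' > 0` and `(n + m − 2k)/i` even, or `k > ℓ' = 0` and `m/i` even). -/
theorem result {F : Type*} [Field F] [Fintype F] {p : ℕ} [Fact p.Prime] [CharP F p] {q : ℕ} (hq : Fintype.card F = q)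
    (d m : ℕ) (hd : 4 ≤ d) (hm : 2 ≤ m) (hme : Even m) (hmd : m < d)
    (r : ℕ) [Fact r.Prime] (hr : r = 2 ∨ r ≠ p)
    (hrΩ : r ∣ Nat.card {W : Submodule F (Fin d ⊕ Fin d → F) // (Module.finrank F ↥W = m ∧ (∀ u ∈ W, u ≠ 0 → ∃ v ∈ W, QuadraticMap.polar (Cfsg.quadFormPlus d F) u v ≠ 0) ∧
          ∃ U : Submodule F (Fin d ⊕ Fin d → F), U ≤ W ∧ 2 * Module.finrank F ↥U = m ∧ ∀ u ∈ U, Cfsg.quadFormPlus d F u = 0)})
    (i c : ℕ) (hi : i = orderOf (q : ZMod r)) (hc : c = if Even i then i else 2 * i) :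
    (∀ x : GL (Fin d ⊕ Fin d) F, x ∈ Cfsg.Geo.omegaGL (Cfsg.quadFormPlus d F) →
      (∃ z : F, ((x ^ r : GL (Fin d ⊕ Fin d) F) : Matrix (Fin d ⊕ Fin d) (Fin d ⊕ Fin d) F) = z • (1 : Matrix (Fin d ⊕ Fin d) (Fin d ⊕ Fin d) F)) →
      (∀ z : F, (x : Matrix (Fin d ⊕ Fin d) (Fin d ⊕ Fin d) F) ≠ z • (1 : Matrix (Fin d ⊕ Fin d) (Fin d ⊕ Fin d) F)) →
      ∃ W : Submodule F (Fin d ⊕ Fin d → F), (Module.finrank F ↥W = m ∧ (∀ u ∈ W, u ≠ 0 → ∃ v ∈ W, QuadraticMap.polar (Cfsg.quadFormPlus d F) u v ≠ 0) ∧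
          ∃ U : Submodule F (Fin d ⊕ Fin d → F), U ≤ W ∧ 2 * Module.finrank F ↥U = m ∧ ∀ u ∈ U, Cfsg.quadFormPlus d F u = 0) ∧
        W.map (Matrix.toLin' (x : Matrix (Fin d ⊕ Fin d) (Fin d ⊕ Fin d) F)) ≤ W) ↔
    ((r = 2 ∧ ((2 * d) % 4 = 2 ∨ m % 4 = 0 ∨ q % 4 = 1)) ∨
     (r ≠ p ∧ 2 < r ∧ Odd i ∧ c ≤ m ∧ m % c ≤ (2 * d) % c) ∨
     (r ≠ p ∧ 2 < r ∧ Even i ∧
       (((2 * d) % c = 0 ∧ (Odd ((2 * d) / i) ∨ (m % c = 0 ∧ Even (m / i)))) ∨
        (i ≤ m ∧ ((m % c < (2 * d) % c ∧ 0 < m % c) ∨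
                  ((2 * d) % c = m % c ∧ 0 < m % c ∧ Even ((2 * d + m - 2 * ((2 * d) % c)) / i)) ∨
                  (0 < (2 * d) % c ∧ m % c = 0 ∧ Even (m / i))))))) := by
  obtain rfl : Fintype.card F = q := hq
  have hQ := OrthFix.polarND_qPlus (F := F) d
  have hs := OrthFix.sig_qPlus (F := F) d
  have hf := OrthFix.coe_qPlus (F := F) d
  have hk := OrthFix.isKind_singular (Q := UnitaryOrthogonal.qPlus d F) hf hme
  have hn := OrthFix.finrank_fun_plus (F := F) d
  have hcard : Fintype.card (Fin d ⊕ Fin d) = 2 * d := by simp; omega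
  have hm0 : 0 < m := by omega
  have hrp' : r.Prime := Fact.out
  rcases eq_or_lt_of_le hrp'.two_le with h | h
  · subst h
    by_cases h2 : (2 : F) = 0
    · obtain rfl : p = 2 := by
        haveI : CharP F 2 := (CharP.charP_iff_prime_eq_zero Nat.prime_two).2 (by exact_mod_cast h2)
        exact CharP.eq F ‹_› ‹_›
      obtain ⟨t, ht⟩ := hme
      have hq4 : Fintype.card F % 2 = 0 := FiniteField.even_card_of_char_two (ringChar.eq F 2)
      rcases Nat.even_or_odd d with hde | hdo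
      · by_cases h4 : m % 4 = 0
        · refine iff_of_true ?_ (Or.inl ⟨rfl, Or.inr (Or.inl h4)⟩)
          refine OrthFix.forall_of_char_two hf hQ (Fintype.card_pos_iff.1 (by omega)) h2 fun g hg _ => ?_
          obtain ⟨W, ⟨hWd, hW⟩, hinv⟩ := OrthFix.exists_fixed_char_two (d := d) (h := t) hQ h2 hg hs hn
            (by omega) (by omega) (Or.inl ⟨rfl, Or.inr ⟨t / 2, by omega⟩⟩)
          exact ⟨W, (hk W).2 ⟨by omega, hW⟩, hinv⟩
        · obtain ⟨u, hu⟩ := hde
          refine iff_of_false ?_ (by rintro (⟨-, e | e | e⟩ | ⟨-, e, -⟩ | ⟨-, e, -⟩) <;> omega)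
          obtain ⟨g, hge, hgp, hg1, hno⟩ := OrthFix.exists_no_hyperbolic (p := 2) (CharP.cast_eq_zero F 2)
            hQ hs hn (by omega) ⟨u, hu⟩
          exact OrthFix.not_forall_scalar_of_witness hf hQ (by omega) hge hgp hg1 hk
            fun W hWd hW _ hinv => by have := hno W hW hinv; omega
      · obtain ⟨u, hu⟩ := hdo
        refine iff_of_true ?_ (Or.inl ⟨rfl, Or.inl (by omega)⟩)
        refine OrthFix.forall_of_char_two hf hQ (Fintype.card_pos_iff.1 (by omega)) h2 fun g hg _ => ?_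
        obtain ⟨W, ⟨hWd, hW⟩, hinv⟩ := OrthFix.exists_fixed_char_two (d := d) (h := t) hQ h2 hg hs hn
          (by omega) (by omega) (Or.inl ⟨rfl, Or.inl ⟨u, hu⟩⟩)
        exact ⟨W, (hk W).2 ⟨by omega, hW⟩, hinv⟩
    have hp2 : p ≠ 2 := fun e => h2 (by subst e; exact_mod_cast CharP.cast_eq_zero F 2)
    rw [OrthFix.forall_two_iff hf hQ h2 hn (by omega) hs hm0 (by omega) (Or.inl rfl) hk,
      OrthFix.chi_neg_one_eq h2, OrthFix.chi_two_eq h2]
    have hodd : Fintype.card F % 2 = 1 := FiniteField.odd_card_of_char_ne_two (fun e => h2 (by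
      haveI := ringChar.of_eq e; exact CharTwo.two_eq_zero))
    have hme' : Even m := hme
    obtain ⟨t, ht⟩ := hme
    have hd2 : m / 2 = t := by omega
    simp only [hme', hd2, hp2, ne_eq, not_false_eq_true, true_and, and_true, Nat.lt_irrefl, false_and,
      and_false, or_false, false_or, OrthFix.neg_pow_eq_neg_one]
    by_cases h4 : Fintype.card F % 4 = 3 <;>
      by_cases h8 : (Fintype.card F % 8 = 3 ∨ Fintype.card F % 8 = 5) <;>
      simp only [h4, h8, if_true, if_false, one_pow, OrthFix.one_eq_neg_pow, OrthFix.neg_one_eq_neg_pow,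
        OrthFix.neg_pow_eq_one, OrthFix.one_eq_neg_one_iff, OrthFix.neg_one_eq_one_iff,
        Nat.odd_iff, Nat.even_iff, eq_self_iff_true, and_true, true_and] <;>
      grind
  have hrp : r ≠ p := hr.resolve_left (by omega)
  have hr2 : Odd r := hrp'.odd_of_ne_two (by omega)
  rw [OrthFix.forall_scalar_iff hf hQ (by omega) (Fintype.card_pos_iff.1 (by omega)) hr2,
    OrthFix.forall_kind_congr hk]
  rw [OrthFix.IsKind.card hk] at hrΩ
  have S := OrthFix.setup_of (p := p) rfl hrp' h hrp hi hc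
  rw [OrthFix.criterion_cond S hQ hs hn hm0 (by omega) (Or.inl rfl) (fun _ => hme) hrΩ]
  have hc0 := S.c_pos
  have hr : r ≠ 2 := by omega
  rcases Nat.even_or_odd i with hev | hod
  · have hci : c = i := by rw [hc, if_pos hev]
    subst hci
    have hsum := OrthFix.div_sum c (2 * d) m hc0
    rw [show (if Even c then (-1 : ℤ) else 1) = -1 from if_pos hev]
    simp only [OrthFix.Cond, neg_one_mul, one_mul, OrthFix.one_eq_neg_neg_pow, OrthFix.neg_neg_pow_eq_one,
      OrthFix.neg_neg_pow_eq_pow, OrthFix.neg_neg_pow_eq_neg_pow, OrthFix.neg_one_eq_neg_neg_pow,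
      OrthFix.neg_pow_eq_one, OrthFix.neg_pow_eq_iff, Nat.not_odd_iff_even.2 hev, hev, h, hrp, hr,
      false_and, and_false, true_and, false_or, not_false_eq_true, ne_eq]
    rcases Nat.eq_zero_or_pos ((2 * d) % c) with hk0 | hk0
    · grind
    · grind
  · have hle : m % c = 0 → c ≤ m := fun e => Nat.le_of_dvd hm0 (Nat.dvd_of_mod_eq_zero e)
    have hne2 : ¬ Even i := Nat.not_even_iff_odd.2 hod
    rw [show (if Even i then (-1 : ℤ) else 1) = 1 from if_neg hne2]
    simp only [OrthFix.Cond, one_pow, mul_one, one_mul, hne2, hod, h, hrp, hr, false_and, and_false,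
      true_and, false_or, or_false, not_false_eq_true, ne_eq,
      show ¬ ((-1 : ℤ) = 1) by decide, show ¬ ((1 : ℤ) = -1) by decide, imp_false, not_true_eq_false, implies_true, and_true]
    omega

end Cfsg.Agent.S5974
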