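import Cfsg.Statements.S5975
import Cfsg.Agent.SpExt.Chart
import Cfsg.Agent.SpExt.Elem
import Cfsg.Agent.SpExt.Arith
import Cfsg.Agent.SpExt.Invol
import Cfsg.Agent.ClMax99.SympOddElt
import Cfsg.Agent.ClMax99.SelfAdjCrit
import Cfsg.Agent.ClMax99.SkewField
import Cfsg.Agent.Aschbacher.Symp.Fields

set_option autoImplicit false
open scoped MatrixGroups
open scoped Matrix
open Cfsg

namespace Cfsg.Agent.S5975

open Cfsg.Agent Cfsg.Agent.ClMax99 Cfsg.Agent.SpExt Module
open Cfsg.Agent.Symplectic (Vec Sp)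

variable {F : Type*} [Field F] [Fintype F] {d k r : ℕ}
variable {K : Subalgebra F (Matrix (Fin d ⊕ Fin d) (Fin d ⊕ Fin d) F)}

/-- The rank of `g⁻¹ x g - 1`. -/
theorem rank_conj (x g : GL (Fin d ⊕ Fin d) F) :
    (((g⁻¹ * x * g : GL (Fin d ⊕ Fin d) F) : Matrix (Fin d ⊕ Fin d) (Fin d ⊕ Fin d) F) - 1).rank =
      ((x : Matrix (Fin d ⊕ Fin d) (Fin d ⊕ Fin d) F) - 1).rank := by
  rw [Units.val_mul, Units.val_mul]
  have h : ((g⁻¹ : GL (Fin d ⊕ Fin d) F) : Matrix (Fin d ⊕ Fin d) (Fin d ⊕ Fin d) F) * x * g - 1 =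
      ((g⁻¹ : GL (Fin d ⊕ Fin d) F) : Matrix (Fin d ⊕ Fin d) (Fin d ⊕ Fin d) F) * (((x : Matrix (Fin d ⊕ Fin d) (Fin d ⊕ Fin d) F) - 1) * g) := by
    rw [sub_mul, mul_sub, one_mul, ← mul_assoc, ← Units.val_mul, ← Units.val_mul, ← Units.val_mul, inv_mul_cancel,
      Units.val_one]
  rw [h, Matrix.rank_mul_eq_right_of_isUnit_det _ _ (Matrix.isUnits_det_units _),
    Matrix.rank_mul_eq_left_of_isUnit_det _ _ (Matrix.isUnits_det_units _)]

/-- A transvection normalises no field. -/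
theorem no_transvection (hd : 2 ≤ d) (hk : k.Prime) (hK : Cfsg.Geo.IsFieldSubalgebra k K)
    {y : GL (Fin d ⊕ Fin d) F} (hy : y ∈ Cfsg.Geo.subalgebraNormalizer K)
    (h1 : ((y : Matrix (Fin d ⊕ Fin d) (Fin d ⊕ Fin d) F) - 1).rank = 1) : False := by
  by_cases hc : ∀ a ∈ K, (y : Matrix (Fin d ⊕ Fin d) (Fin d ⊕ Fin d) F) * a = a * y
  · have := Aschbacher.field_degree_dvd_finrank hK fun a ha v hv => range_stable (hc a ha) hv
    change k ∣ ((y : Matrix (Fin d ⊕ Fin d) (Fin d ⊕ Fin d) F) - 1).rank at this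
    rw [h1, Nat.dvd_one] at this
    exact hk.one_lt.ne' this
  · push Not at hc
    obtain ⟨a, ha, hne⟩ := hc
    have := semilinear_rank hK hy ha hne
    rw [Fintype.card_sum, Fintype.card_fin] at this
    omega

/-- An element of prime order moving `2e` dimensions, with `k ∤ e`, normalises no field but for `r = k = d = 2`. -/
theorem no_semisimple [hr : Fact r.Prime] (hd : 2 ≤ d) (hk : k.Prime) (hK : Cfsg.Geo.IsFieldSubalgebra k K)
    (hhalf : ∀ W : Submodule F (Vec d F), SympInv.Nd (Forms.sympBilin d F) W →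
      (∀ a ∈ K, ∀ v ∈ W, a *ᵥ v ∈ W) → ∃ j, finrank F W = 2 * (k * j))
    (hkd : k ∣ d) (hrF : (r : F) ≠ 0)
    {y : GL (Fin d ⊕ Fin d) F} (hy : y ∈ Cfsg.Geo.subalgebraNormalizer K) (hys : y ∈ Cfsg.spGL d F) (hyr : y ^ r = 1)
    {e i : ℕ} (hi : i = orderOf (Fintype.card F : ZMod r)) (he : (if Even i then i else 2 * i) = 2 * e)
    (hrank : ((y : Matrix (Fin d ⊕ Fin d) (Fin d ⊕ Fin d) F) - 1).rank = 2 * e) (hke : ¬ k ∣ e) :
    r = 2 ∧ d = 2 ∧ k = 2 := by
  set Y := (y : Matrix (Fin d ⊕ Fin d) (Fin d ⊕ Fin d) F) with hY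
  by_cases hc : ∀ a ∈ K, Y * a = a * Y
  · have hT : ∀ u v, Forms.sympBilin d F (Matrix.toLin' Y u) (Matrix.toLin' Y v) = Forms.sympBilin d F u v :=
      fun u v => by rw [Forms.sympBilin_apply, Forms.sympBilin_apply]; exact SpGL.mem_iff.1 hys u v
    have hTr : Matrix.toLin' Y ^ r = 1 := by
      rw [← Matrix.toLin'_pow, hY, ← Units.val_pow_eq_pow_val, hyr, Units.val_one, Matrix.toLin'_one]
      rfl
    have hnd := (SympInv.nd_parts Forms.sympBilin_isAlt hT hrF hTr (W := ⊤) (by simp) SympInv.nd_top).1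
    rw [Submodule.map_top, show Matrix.toLin' Y - 1 = Matrix.toLin' (Y - 1) by rw [map_sub, Matrix.toLin'_one]; rfl] at hnd
    obtain ⟨j, hj⟩ := hhalf _ hnd fun a ha v hv => range_stable (hc a ha) hv
    change (Y - 1).rank = 2 * (k * j) at hj
    exact absurd ⟨j, by omega⟩ hke
  push Not at hc
  obtain ⟨a, ha, hne⟩ := hc
  have h2 := semilinear_rank hK hy ha hne
  rw [Fintype.card_sum, Fintype.card_fin, hrank] at h2
  have hrk := order_eq_degree hk hr.out hK hy hyr ha hne
  subst hrk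
  have hq0 : (Fintype.card F : ZMod r) ≠ 0 := by
    intro h0
    obtain ⟨p, hp⟩ := CharP.exists F
    haveI : Fact p.Prime := ⟨CharP.char_is_prime F p⟩
    obtain ⟨n, -, hn⟩ := FiniteField.card F p
    rw [ZMod.natCast_eq_zero_iff, hn] at h0
    have := (Nat.prime_dvd_prime_iff_eq hr.out (Fact.out : p.Prime)).1 (hr.out.dvd_of_dvd_pow h0)
    exact hrF (by rw [this]; exact CharP.cast_eq_zero F p)
  have hidvd : i ∣ r - 1 := hi ▸ orderOf_dvd_of_pow_eq_one (ZMod.pow_card_sub_one_eq_one hq0)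
  have hled : r ≤ d := Nat.le_of_dvd (by omega) hkd
  rcases hr.out.eq_two_or_odd' with h | hodd
  · subst h
    have : i ≤ 1 := Nat.le_of_dvd one_pos hidvd
    refine ⟨rfl, ?_, rfl⟩
    split_ifs at he <;> omega
  · exfalso
    have hr1 : 0 < r - 1 := by have := hr.out.two_le; omega
    have : 2 * e ≤ r - 1 := by
      rw [← he]
      split_ifs with hev
      · exact Nat.le_of_dvd hr1 hidvd
      · refine Nat.le_of_dvd hr1 (Nat.Coprime.mul_dvd_of_dvd_of_dvd
          (Nat.coprime_two_left.2 (Nat.not_even_iff_odd.1 hev)) ?_ hidvd)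
        obtain ⟨l, hl⟩ := hodd
        exact ⟨l, by omega⟩
    omega

theorem exists_root (hd : 0 < d) (h2 : (2 : F) ≠ 0) (hK : Cfsg.Geo.IsFieldSubalgebra 2 K) :
    ∃ (J : Matrix (Fin d ⊕ Fin d) (Fin d ⊕ Fin d) F) (δ : F), J ∈ K ∧
      (∀ y ∈ K, ∃ a b : F, y = a • 1 + b • J) ∧ J * J = δ • 1 ∧ ∀ t : F, t * t ≠ δ := by
  classical
  haveI : Nonempty (Fin d ⊕ Fin d) := ⟨Sum.inl ⟨0, hd⟩⟩
  obtain ⟨J₀, hJ₀, hns⟩ : ∃ J₀ ∈ K, ∀ c : F, J₀ ≠ c • 1 := by
    by_contra hc
    push Not at hc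
    have hle : Subalgebra.toSubmodule K ≤ Submodule.span F {(1 : Matrix (Fin d ⊕ Fin d) (Fin d ⊕ Fin d) F)} := fun y hy => by
      obtain ⟨c, rfl⟩ := hc y hy
      exact Submodule.smul_mem _ _ (Submodule.mem_span_singleton_self _)
    have := Submodule.finrank_mono hle
    rw [finrank_span_singleton one_ne_zero, Subalgebra.finrank_toSubmodule, hK.finrank_eq] at this
    omega
  have span_of : ∀ J ∈ K, (∀ c : F, J ≠ c • 1) → ∀ y ∈ K, ∃ a b : F, y = a • 1 + b • J := by
    intro J hJK hJns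
    have hli : LinearIndependent F ![(1 : Matrix (Fin d ⊕ Fin d) (Fin d ⊕ Fin d) F), J] :=
      (LinearIndependent.pair_iff' one_ne_zero).mpr fun c h => hJns c h.symm
    have heq : Submodule.span F (Set.range ![(1 : Matrix (Fin d ⊕ Fin d) (Fin d ⊕ Fin d) F), J]) = Subalgebra.toSubmodule K := by
      refine Submodule.eq_of_le_of_finrank_eq (Submodule.span_le.mpr ?_) ?_
      · rintro _ ⟨i, rfl⟩
        fin_cases i
        · exact one_mem K
        · exact hJK
      · rw [finrank_span_eq_card hli, Subalgebra.finrank_toSubmodule, hK.finrank_eq]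
        simp
    intro y hy
    have hy' : y ∈ Subalgebra.toSubmodule K := hy
    rw [← heq, Submodule.mem_span_range_iff_exists_fun] at hy'
    obtain ⟨c, rfl⟩ := hy'
    exact ⟨c 0, c 1, by simp [Fin.sum_univ_two]⟩
  obtain ⟨a, b, hab⟩ := span_of J₀ hJ₀ hns _ (mul_mem hJ₀ hJ₀)
  set J := J₀ - (b / 2) • (1 : Matrix (Fin d ⊕ Fin d) (Fin d ⊕ Fin d) F) with hJ
  have hJK : J ∈ K := K.sub_mem hJ₀ (K.smul_mem K.one_mem _)
  have hJns : ∀ c : F, J ≠ c • 1 := fun c h => hns (c + b / 2) (by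
    rw [add_smul, ← h, hJ, sub_add_cancel])
  have hJJ : J * J = (a + b / 2 * (b / 2)) • 1 := by
    rw [hJ]
    simp only [sub_mul, mul_sub, Matrix.smul_mul, Matrix.mul_smul, one_mul, mul_one, hab, smul_smul]
    match_scalars <;> field_simp <;> ring
  refine ⟨J, _, hJK, span_of J hJK hJns, hJJ, fun t ht => ?_⟩
  obtain ⟨y, -, hy⟩ := hK.inv (J - t • 1) (K.sub_mem hJK (K.smul_mem K.one_mem t)) (sub_ne_zero.2 (hJns t))
  have h0 : (J + t • 1) * (J - t • (1 : Matrix (Fin d ⊕ Fin d) (Fin d ⊕ Fin d) F)) = 0 := by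
    simp only [add_mul, mul_sub, Matrix.smul_mul, Matrix.mul_smul, one_mul, mul_one, hJJ, smul_smul, ← ht]
    abel
  have := congrArg (· * y) h0
  simp only [mul_assoc, hy, mul_one, zero_mul] at this
  exact hJns (-t) (by rw [neg_smul]; exact eq_neg_of_add_eq_zero_left this)

theorem rank_scalar (z : F) :
    (z • (1 : Matrix (Fin d ⊕ Fin d) (Fin d ⊕ Fin d) F) - 1).rank = 0 ∨
      (z • (1 : Matrix (Fin d ⊕ Fin d) (Fin d ⊕ Fin d) F) - 1).rank = 2 * d ∧ z ≠ 1 := by
  by_cases h : z = 1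
  · exact Or.inl (by rw [h, one_smul, sub_self, Matrix.rank_zero])
  · refine Or.inr ⟨?_, h⟩
    rw [show z • (1 : Matrix (Fin d ⊕ Fin d) (Fin d ⊕ Fin d) F) - 1 = (z - 1) • 1 by rw [sub_smul, one_smul],
      Matrix.rank_of_isUnit, Fintype.card_sum, Fintype.card_fin, two_mul]
    rw [← Algebra.algebraMap_eq_smul_one]
    exact (isUnit_iff_ne_zero.2 (sub_ne_zero.2 h)).map _

theorem exists_gl (g : Vec d F ≃ₗ[F] Vec d F) (hg : ∀ u v, (Forms.sympBilin d F) (g u) (g v) = (Forms.sympBilin d F) u v) :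
    ∃ G ∈ Cfsg.spGL d F, ∀ v, Matrix.toLin' (G : Matrix (Fin d ⊕ Fin d) (Fin d ⊕ Fin d) F) v = g v := by
  let G : GL (Fin d ⊕ Fin d) F := Matrix.GeneralLinearGroup.toLin.symm
    ((LinearMap.GeneralLinearGroup.generalLinearEquiv F _).symm g)
  have hG : ∀ v, Matrix.toLin' (G : Matrix (Fin d ⊕ Fin d) (Fin d ⊕ Fin d) F) v = g v := fun v => by
    have h1 : (Matrix.GeneralLinearGroup.toLin G) = (LinearMap.GeneralLinearGroup.generalLinearEquiv F _).symm g :=
      MulEquiv.apply_symm_apply _ _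
    exact LinearMap.congr_fun (congrArg Units.val h1) v
  refine ⟨G, SpGL.mem_iff.2 fun u v => ?_, hG⟩
  rw [← Matrix.toLin'_apply, ← Matrix.toLin'_apply, hG, hG, ← Forms.sympBilin_apply, hg, Forms.sympBilin_apply]

/-- Elements of prime order of PSp_n(q) and the field-extension subgroups of type Sp_{n/k}(q^k). Here `T = PSp_{2d}(F)` for a field `F` with `q` elements (`d ≥ 2`, `(d, q) ≠ (2, 2)`), realised through the matrices preserving the standard alternating form `f`; `k` is a prime and `K` is a subalgebra of the `2d × 2d` matrices that is a field of degree `k` over `F` whose elements are self-adjoint for `f` and satisfy `f(a v, v) = 0` (so `F^{2d}` becomes a vector space over `K ≅ F_{q^k}` on which `f` is the trace of a `K`-bilinear alternating form); `H` is the subgroup of `T` normalizing `K` — the symplectic maps that are `K`-linear or `K`-semilinear, a subgroup of type Sp_{2d/k}(q^k) (maximality is not assumed). Ω is the set of cosets of `H` in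 `T`, so an element of `T` of prime order `r` (`x ∈ T` with `x^r` scalar, `x` not scalar) fixes a point of Ω exactly when some `T`-conjugate of `x` normalizes `K`. Let `r` be a prime dividing the index of `H`. Then every element of `T` of order `r` fixes a point of Ω if and only if `r = 2`, `d = 2`, `k = 2` and `q` is odd. -/
theorem result {F : Type*} [Field F] [Fintype F] {p : ℕ} [Fact p.Prime] [CharP F p] {q : ℕ} (hq : Fintype.card F = q)
    (d : ℕ) (hd : 2 ≤ d) (hT : (d, q) ≠ (2, 2)) (k : ℕ) (hk : k.Prime)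
    (K : Subalgebra F (Matrix (Fin d ⊕ Fin d) (Fin d ⊕ Fin d) F)) (hK : Cfsg.Geo.IsFieldSubalgebra k K)
    (hKf : Cfsg.Geo.IsSelfAdjointFor (Cfsg.sympForm d F) K) (hKalt : ∀ a ∈ K, ∀ v : Fin d ⊕ Fin d → F, Cfsg.sympForm d F (a *ᵥ v) v = 0)
    (r : ℕ) [Fact r.Prime]
    (hΩ : r ∣ (Cfsg.Geo.subalgebraNormalizer K).relIndex (Cfsg.spGL d F)) :
    (∀ x ∈ Cfsg.spGL d F, (∃ z : F, ((x ^ r : GL (Fin d ⊕ Fin d) F) : Matrix (Fin d ⊕ Fin d) (Fin d ⊕ Fin d) F) = z • (1 : Matrix (Fin d ⊕ Fin d) (Fin d ⊕ Fin d) F)) →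
      (∀ z : F, (x : Matrix (Fin d ⊕ Fin d) (Fin d ⊕ Fin d) F) ≠ z • (1 : Matrix (Fin d ⊕ Fin d) (Fin d ⊕ Fin d) F)) →
      ∃ g ∈ Cfsg.spGL d F, g⁻¹ * x * g ∈ Cfsg.Geo.subalgebraNormalizer K) ↔
    (r = 2 ∧ d = 2 ∧ k = 2 ∧ Odd q) := by
  classical
  obtain rfl : Fintype.card F = q := hq
  have hd0 : 0 < d := by omega
  have hr : r.Prime := Fact.out
  obtain ⟨hhalf, m, hdm, hN⟩ := chart_facts hk hK hKf hKalt
  constructor
  · intro H
    by_cases hrF : (r : F) = 0
    · exfalso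
      set a : Vec d F := Symplectic.eI ⟨0, hd0⟩
      let N : Module.End F (Vec d F) := (Forms.sympBilin d F a).smulRight a
      have hN : ∀ v, N v = Forms.sympBilin d F a v • a := fun v => rfl
      have ha0 : a ≠ 0 := fun h => by
        have := Symplectic.sympForm_fI_eI (F := F) (⟨0, hd0⟩ : Fin d)
        rw [show Symplectic.eI (F := F) (⟨0, hd0⟩ : Fin d) = a from rfl, h] at this
        simp at this
      have haa : Forms.sympBilin d F a a = 0 := Forms.sympBilin_isAlt a
      have hpow : ∀ n : ℕ, (1 + N) ^ n = 1 + (n : F) • N := by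
        intro n
        have hNN : N * N = 0 := LinearMap.ext fun v => by simp [hN, haa]
        induction n with
        | zero => simp
        | succ n ih =>
          rw [pow_succ, ih, add_mul, one_mul, smul_mul_assoc, mul_add, mul_one, hNN, add_zero, Nat.cast_succ,
            add_smul, one_smul]
          abel
      have hTr : (1 + N) ^ r = 1 := by rw [hpow, hrF, zero_smul, add_zero]
      have hTiso : ∀ u v, Forms.sympBilin d F ((1 + N) u) ((1 + N) v) = Forms.sympBilin d F u v := fun u v => by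
        simp only [LinearMap.add_apply, Module.End.one_apply, hN, map_add, map_smul, LinearMap.smul_apply,
          smul_eq_mul, haa, ← LinearMap.IsAlt.neg (B := Forms.sympBilin d F) Forms.sympBilin_isAlt a u]
        ring
      obtain ⟨x, hx, hxT⟩ := exists_gl (LinearEquiv.ofInjectiveEndo _ (SympInv.injective hTr)) hTiso
      have hxT' : Matrix.toLin' (x : Matrix (Fin d ⊕ Fin d) (Fin d ⊕ Fin d) F) = 1 + N := LinearMap.ext hxT
      have hxN : Matrix.toLin' ((x : Matrix (Fin d ⊕ Fin d) (Fin d ⊕ Fin d) F) - 1) = N := by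
        rw [map_sub, hxT', Matrix.toLin'_one]
        exact add_sub_cancel_left _ _
      have hrank : ((x : Matrix (Fin d ⊕ Fin d) (Fin d ⊕ Fin d) F) - 1).rank = 1 := by
        rw [show ((x : Matrix (Fin d ⊕ Fin d) (Fin d ⊕ Fin d) F) - 1).rank = finrank F (LinearMap.range
          (Matrix.toLin' ((x : Matrix (Fin d ⊕ Fin d) (Fin d ⊕ Fin d) F) - 1))) from rfl, hxN]
        obtain ⟨w, hw⟩ : ∃ w, Forms.sympBilin d F a w ≠ 0 := by
          by_contra hn; push Not at hn; exact ha0 (Forms.sympBilin_nondegenerate.1 a hn)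
        have : LinearMap.range N = F ∙ a := by
          refine le_antisymm ?_ ?_
          · rintro _ ⟨v, rfl⟩; exact Submodule.mem_span_singleton.2 ⟨_, (hN v).symm⟩
          · rw [Submodule.span_singleton_le_iff_mem]
            exact ⟨(Forms.sympBilin d F a w)⁻¹ • w, by rw [hN, map_smul, smul_eq_mul, inv_mul_cancel₀ hw, one_smul]⟩
        rw [this, finrank_span_singleton ha0]
      have hxr : x ^ r = 1 := Units.ext (Matrix.toLin'.injective (by
        rw [Units.val_pow_eq_pow_val, Units.val_one, Matrix.toLin'_pow, hxT', hTr, Matrix.toLin'_one]; rfl))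
      obtain ⟨g, -, hg⟩ := H x hx ⟨1, by rw [hxr, one_smul, Units.val_one]⟩ fun z hz => by
        rw [hz] at hrank
        rcases rank_scalar (d := d) z with h | ⟨h, -⟩ <;> omega
      exact no_transvection hd hk hK hg (by rw [rank_conj, hrank])
    · set i := orderOf (Fintype.card F : ZMod r) with hi
      have hrq : ¬ r ∣ Fintype.card F := fun h => hrF (by
        obtain ⟨n, -, hn⟩ := FiniteField.card F p
        have := (Nat.prime_dvd_prime_iff_eq hr (Fact.out : p.Prime)).1 (hr.dvd_of_dvd_pow (n := n) (by rw [← hn]; exact h))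
        rw [this]; exact CharP.cast_eq_zero F p)
      have hidx := SpGL.card_mul_relIndex (F := F) (d := d) (Cfsg.Geo.subalgebraNormalizer K)
      rw [SpGL.card_spGL (q := Fintype.card F) rfl] at hidx
      obtain ⟨hipos, e, he, he1, hed, hke⟩ := arith Fintype.one_lt_card hk hr hdm hi hrq hN
        (hidx ▸ mul_dvd_mul_left _ hΩ)
      obtain ⟨x₀, hx₀r, hx₀k⟩ := SympInv.exists_elt hrF hi he.symm hipos 1 (d := d) (by omega)
      set x := SpGL.equivSp.symm x₀ with hx
      have hxcoe : ((x.1 : GL (Fin d ⊕ Fin d) F) : Matrix (Fin d ⊕ Fin d) (Fin d ⊕ Fin d) F) = x₀.1 := rfl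
      have hxr : x.1 ^ r = 1 := Units.ext (by
        rw [Units.val_pow_eq_pow_val, hxcoe, ← SubmonoidClass.coe_pow, hx₀r]; rfl)
      have hrank : ((x.1 : Matrix (Fin d ⊕ Fin d) (Fin d ⊕ Fin d) F) - 1).rank = 2 * e := by
        have e' : Matrix.toLin' ((x.1 : Matrix (Fin d ⊕ Fin d) (Fin d ⊕ Fin d) F) - 1) = SympInv.lin x₀ - 1 := by
          rw [map_sub, Matrix.toLin'_one, hxcoe]; rfl
        rw [show ((x.1 : Matrix (Fin d ⊕ Fin d) (Fin d ⊕ Fin d) F) - 1).rank = finrank F (LinearMap.range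
          (Matrix.toLin' ((x.1 : Matrix (Fin d ⊕ Fin d) (Fin d ⊕ Fin d) F) - 1))) from rfl, e']
        have h := LinearMap.finrank_range_add_finrank_ker (SympInv.lin x₀ - 1)
        rw [hx₀k, Module.finrank_pi, Fintype.card_sum, Fintype.card_fin] at h
        have : finrank F (LinearMap.range (SympInv.lin x₀ - 1)) = 2 * e := by omega
        exact this
      obtain ⟨g, hg, hgx⟩ := H x.1 x.2 ⟨1, by rw [hxr, one_smul, Units.val_one]⟩ fun z hz => by
        rw [hz] at hrank
        have hzz : z * z = 1 := by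
          obtain ⟨w, hw⟩ : ∃ w, Cfsg.sympForm d F (Pi.single (Sum.inl ⟨0, hd0⟩) 1) w ≠ 0 := by
            by_contra hn; push Not at hn
            have := Forms.sympForm_left_cancel hn
            simp at this
          have h3 := SpGL.mem_iff.1 x.2 (Pi.single (Sum.inl ⟨0, hd0⟩) 1) w
          rw [hz, Matrix.smul_mulVec, Matrix.one_mulVec, Matrix.smul_mulVec, Matrix.one_mulVec,
            Symplectic.sympForm_smul_left, Symplectic.sympForm_smul_right, ← mul_assoc] at h3
          exact (mul_eq_right₀ hw).1 h3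
        rcases hr.eq_two_or_odd' with h | hodd
        · subst h
          have h1 : i = 1 := Nat.dvd_one.1 (orderOf_dvd_of_pow_eq_one
            (ZMod.pow_card_sub_one_eq_one fun e => hrq ((ZMod.natCast_eq_zero_iff _ _).1 e)))
          rw [h1, if_neg (by decide)] at he
          rcases rank_scalar (d := d) z with h | ⟨h, -⟩ <;> omega
        · have hzr : z ^ r = 1 := by
            have := congrArg Units.val hxr
            rw [Units.val_pow_eq_pow_val, hz, smul_pow, one_pow, Units.val_one] at this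
            have h0 := congrFun (congrFun this (Sum.inl ⟨0, hd0⟩)) (Sum.inl ⟨0, hd0⟩)
            simpa using h0
          obtain ⟨l, hl⟩ := hodd
          rw [hl, pow_succ, pow_mul, pow_two, hzz, one_pow, one_mul] at hzr
          rw [hzr, one_smul, sub_self, Matrix.rank_zero] at hrank
          omega
      have hgr : (g⁻¹ * x.1 * g) ^ r = 1 := by
        have := conj_pow (i := r) (a := g⁻¹) (b := x.1)
        rw [inv_inv] at this
        rw [this, hxr, mul_one, inv_mul_cancel]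
      obtain ⟨h1, h2, h3⟩ := no_semisimple hd hk hK hhalf ⟨m, hdm⟩ hrF hgx
        (mul_mem (mul_mem (inv_mem hg) x.2) hg) hgr hi he (by rw [rank_conj, hrank]) hke
      refine ⟨h1, h2, h3, Nat.not_even_iff_odd.1 fun hev => hrq ?_⟩
      rw [h1]; exact hev.two_dvd
  · rintro ⟨rfl, rfl, rfl, hodd⟩ x hx ⟨z, hz⟩ hns
    have h2 : (2 : F) ≠ 0 := Cfsg.Agent.UnitaryOrthogonal.two_ne_zero_of_card_odd hodd
    obtain ⟨J, δ, hJK, hspan, hJJ, hnsq⟩ := exists_root hd0 h2 hK
    have hzz : z * z = 1 := by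
      obtain ⟨w, hw⟩ : ∃ w, Cfsg.sympForm 2 F (Pi.single (Sum.inl 0) 1) w ≠ 0 := by
        by_contra hn; push Not at hn
        have := Forms.sympForm_left_cancel hn
        simp at this
      have h3 := SpGL.mem_iff.1 (pow_mem hx 2) (Pi.single (Sum.inl 0) 1) w
      rw [hz, Matrix.smul_mulVec, Matrix.one_mulVec, Matrix.smul_mulVec, Matrix.one_mulVec,
        Symplectic.sympForm_smul_left, Symplectic.sympForm_smul_right, ← mul_assoc] at h3
      exact (mul_eq_right₀ hw).1 h3
    obtain ⟨j', s, hs, hjj', hsa', hcomm⟩ := exists_commutant (δ := δ) (fun e => hnsq 0 (by rw [e, mul_zero])) h2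
      (T := Matrix.toLin' (x : Matrix (Fin 2 ⊕ Fin 2) (Fin 2 ⊕ Fin 2) F))
      (fun u v => by rw [Forms.sympBilin_apply, Forms.sympBilin_apply]; exact SpGL.mem_iff.1 hx u v)
      (mul_self_eq_one_iff.1 hzz) (fun v => by
        rw [← Matrix.toLin'_mul_apply, ← Units.val_mul, ← pow_two, hz, map_smul, Matrix.toLin'_one]; rfl)
      (fun t ht => hns t (Matrix.toLin'.injective (by rw [ht, map_smul, Matrix.toLin'_one]; rfl)))
    obtain ⟨g, hgiso, hgj⟩ := exists_intertwine₂ hnsq h2 (j := Matrix.toLin' J) (fun v => by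
        rw [← Matrix.toLin'_mul_apply, hJJ, map_smul, Matrix.toLin'_one]; rfl)
      (fun u v => by
        rw [Forms.sympBilin_apply, Forms.sympBilin_apply, Matrix.toLin'_apply, Matrix.toLin'_apply]
        exact hKf J hJK u v) hjj' hsa'
    obtain ⟨G, hG, hGg⟩ := exists_gl g hgiso
    refine ⟨G, hG, SelfAdjCrit.mem_normalizer hJK hspan hs (Matrix.toLin'.injective (LinearMap.ext fun v => ?_))⟩
    have hG' : ∀ v, Matrix.toLin' ((G⁻¹ : GL (Fin 2 ⊕ Fin 2) F) : Matrix (Fin 2 ⊕ Fin 2) (Fin 2 ⊕ Fin 2) F) v = g.symm v := fun v => by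
      rw [LinearEquiv.eq_symm_apply, ← hGg, ← Matrix.toLin'_mul_apply, ← Units.val_mul, mul_inv_cancel,
        Units.val_one, Matrix.toLin'_one]
      rfl
    simp only [Units.val_mul, map_smul, LinearMap.smul_apply, Matrix.toLin'_mul_apply, hG', hGg, hgj, hcomm]
    congr 1
    refine (LinearEquiv.symm_apply_eq g).2 ?_
    rw [hgj, LinearEquiv.apply_symm_apply]

end Cfsg.Agent.S5975
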