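import Cfsg.Statements.S5976
import Cfsg.Agent.ClMax99.SkewField
import Cfsg.Agent.ClMax99.SympPlanes
import Cfsg.Agent.Lib.UnitaryOrthogonal.Basic

set_option autoImplicit false
open scoped MatrixGroups
open Cfsg

namespace Cfsg.Agent.S5976

open Cfsg.Agent Cfsg.Agent.ClMax99 SkewField
open scoped Matrix
open Cfsg.Agent.Symplectic (Vec)

variable {F : Type*} [Field F] [Fintype F] {d : ℕ}

local notation "B₀" => Forms.sympBilin d F

theorem bad_transvection (hd : 0 < d) {r : ℕ} (hrF : (r : F) = 0) :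
    ∃ T : Module.End F (Vec d F), (∀ u v, B₀ (T u) (T v) = B₀ u v) ∧ T ^ r = 1 ∧ (∀ z : F, T ≠ z • 1) ∧
      ∀ j δ, Skew B₀ j δ → ¬ ∀ v, T (j v) = j (T v) := by
  classical
  set e : Vec d F := Symplectic.eI ⟨0, hd⟩
  set w : Vec d F := Symplectic.fI ⟨0, hd⟩
  let N : Module.End F (Vec d F) := (B₀ e).smulRight e
  have hN : ∀ v, N v = B₀ e v • e := fun v => rfl
  have hee : B₀ e e = 0 := Forms.sympBilin_isAlt e
  have hew : B₀ e w = -1 := by
    rw [← LinearMap.IsAlt.neg (B := B₀) Forms.sympBilin_isAlt, Forms.sympBilin_apply, Symplectic.sympForm_fI_eI]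
    all_goals (try simp)
  have hNN : N * N = 0 := LinearMap.ext fun v => by
    simp [hN, hee]
  have he0 : e ≠ 0 := fun h => by simp [h] at hew
  refine ⟨1 + N, fun u v => ?_, ?_, fun z hz => ?_, fun j δ hj hc => ?_⟩
  · simp only [LinearMap.add_apply, Module.End.one_apply, hN, map_add, map_smul, LinearMap.smul_apply,
      smul_eq_mul, hee, ← LinearMap.IsAlt.neg (B := B₀) Forms.sympBilin_isAlt e u]
    ring
  · have hk : ∀ k : ℕ, (1 + N) ^ k = 1 + (k : F) • N := by
      intro k
      induction k with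
      | zero => simp
      | succ k ih =>
        rw [pow_succ, ih, add_mul, one_mul, smul_mul_assoc, mul_add, mul_one, hNN, add_zero, Nat.cast_succ,
          add_smul, one_smul]
        abel
    rw [hk, hrF, zero_smul, add_zero]
  · have h1 := LinearMap.congr_fun hz e
    simp only [LinearMap.add_apply, Module.End.one_apply, hN, hee, zero_smul, add_zero, LinearMap.smul_apply] at h1
    have hz1 : z = 1 := smul_left_injective F he0 (by simpa using h1.symm)
    have h2 := LinearMap.congr_fun hz w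
    simp only [LinearMap.add_apply, Module.End.one_apply, hN, hew, hz1, one_smul, LinearMap.smul_apply] at h2
    simp [he0] at h2
  · have h1 := hc w
    simp only [LinearMap.add_apply, Module.End.one_apply, hN, hew, map_add, map_smul, neg_smul, one_smul,
      add_right_inj] at h1
    exact he0 (hj.no_eigen (t := -(B₀ e (j w))) (by rw [neg_smul, h1, map_neg, neg_neg]))

section Odd

variable {r : ℕ} [hr : Fact r.Prime] (hrF : (r : F) ≠ 0) (hr2 : r ≠ 2)

include hr2 in
/-- A scalar isometry of odd order is trivial. -/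
theorem eq_one_of_scalar {T : Module.End F (Vec d F)} (hT : ∀ u v, B₀ (T u) (T v) = B₀ u v) (hTr : T ^ r = 1)
    {z : F} (hz : T = z • 1) : T = 1 := by
  refine LinearMap.ext fun y => ?_
  by_cases hy : y = 0
  · simp [hy]
  obtain ⟨a, ha⟩ : ∃ a, B₀ y a ≠ 0 := by
    by_contra hn
    push Not at hn
    exact hy (Forms.sympBilin_nondegenerate.1 y hn)
  have h2 := LinearMap.congr_fun hTr y
  rw [hz, smul_pow, one_pow, LinearMap.smul_apply, Module.End.one_apply] at h2
  have hzr : z ^ r = 1 := smul_left_injective F hy (by show z ^ r • y = (1 : F) • y; rw [h2, one_smul])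
  have h3 := hT y a
  rw [hz, LinearMap.smul_apply, LinearMap.smul_apply, map_smul, map_smul, LinearMap.smul_apply, smul_smul,
    Module.End.one_apply, Module.End.one_apply, smul_eq_mul] at h3
  obtain ⟨l, hl⟩ := hr.out.odd_of_ne_two hr2
  rw [hl, pow_succ, pow_mul, pow_two, (mul_eq_right₀ ha).1 h3, one_pow, one_mul] at hzr
  rw [hz, hzr, one_smul]

theorem exists_glElt (hrF : (r : F) ≠ 0) (hed : orderOf (Fintype.card F : ZMod r) ≤ d) :
    ∃ A : Matrix (Fin d) (Fin d) F, A ^ r = 1 ∧
      Module.finrank F (LinearMap.range (Matrix.toLin' A - 1)) = orderOf (Fintype.card F : ZMod r) := by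
  classical
  have hq1 : 1 < Fintype.card F := Fintype.one_lt_card
  by_cases h1 : r ∣ Fintype.card F - 1
  · have he : orderOf (Fintype.card F : ZMod r) = 1 := by
      rw [orderOf_eq_one_iff]
      have := (ZMod.natCast_eq_zero_iff _ _).2 h1
      rw [Nat.cast_sub (by omega), sub_eq_zero, Nat.cast_one] at this
      exact this
    rw [he] at hed ⊢
    obtain ⟨ζ, hζ⟩ := exists_prime_orderOf_dvd_card' (G := Fˣ) r (by rwa [Nat.card_units, Nat.card_eq_fintype_card])
    have hζr : (ζ : F) ^ r = 1 := by rw [← Units.val_pow_eq_pow_val, ← hζ, pow_orderOf_eq_one, Units.val_one]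
    have hζ1 : (ζ : F) - 1 ≠ 0 := sub_ne_zero.2 fun e => by
      rw [Units.val_eq_one] at e
      rw [e, orderOf_one] at hζ
      exact hr.out.one_lt.ne hζ
    let i0 : Fin d := ⟨0, by omega⟩
    refine ⟨Matrix.diagonal (Function.update (fun _ => (1 : F)) i0 ζ), ?_, ?_⟩
    · rw [Matrix.diagonal_pow, ← Matrix.diagonal_one]
      congr 1
      funext i
      by_cases hi : i = i0
      · subst hi; simp [hζr]
      · simp [hi]
    · have hr' : LinearMap.range (Matrix.toLin' (Matrix.diagonal (Function.update (fun _ => (1 : F)) i0 ζ)) - 1) =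
          Submodule.span F {(Pi.single i0 1 : Fin d → F)} := by
        have hv : ∀ v : Fin d → F, (Matrix.toLin' (Matrix.diagonal (Function.update (fun _ => (1 : F)) i0 ζ)) - 1) v =
            (((ζ : F) - 1) * v i0) • (Pi.single i0 1 : Fin d → F) := fun v => by
          funext i
          by_cases hi : i = i0
          · subst hi; simp [Matrix.mulVec_diagonal, sub_mul]
          · simp [Matrix.mulVec_diagonal, hi]
        refine le_antisymm ?_ ?_
        · rintro _ ⟨v, rfl⟩
          rw [hv]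
          exact Submodule.smul_mem _ _ (Submodule.mem_span_singleton_self _)
        · rw [Submodule.span_singleton_le_iff_mem]
          refine ⟨Pi.single i0 ((ζ : F) - 1)⁻¹, ?_⟩
          rw [hv, Pi.single_eq_same, mul_inv_cancel₀ hζ1, one_smul]
      rw [hr', finrank_span_singleton (by simp)]
  · obtain ⟨A, -, hA, hk⟩ := Inv.exists_elt_order hrF h1 (n := d) (s := 1) (by rw [one_mul]; exact hed)
    refine ⟨A, hA, ?_⟩
    have := (Matrix.toLin' A - 1).finrank_range_add_finrank_ker
    rw [Module.finrank_fin_fun, hk] at this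
    omega

include hrF hr2 in
theorem bad_odd (hed : orderOf (Fintype.card F : ZMod r) ≤ d) (he : Odd (orderOf (Fintype.card F : ZMod r))) :
    ∃ T : Module.End F (Vec d F), (∀ u v, B₀ (T u) (T v) = B₀ u v) ∧ T ^ r = 1 ∧ (∀ z : F, T ≠ z • 1) ∧
      ∀ j δ, Skew B₀ j δ → ¬ ∀ v, T (j v) = j (T v) := by
  classical
  set i := orderOf (Fintype.card F : ZMod r) with hi
  obtain ⟨A, hAr, hAk⟩ := exists_glElt (d := d) hrF hed
  rw [← hi] at hAk
  have hipos : 0 < i := he.pos
  set A' := A ^ (r - 1) with hA'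
  have hAA : A' * A = 1 := by rw [hA', ← pow_succ, Nat.sub_add_cancel hr.out.one_le, hAr]
  let T : Module.End F (Vec d F) :=
    LinearMap.pi (Sum.elim (fun k : Fin d => (LinearMap.proj k).comp ((Matrix.toLin' A).comp (LinearMap.funLeft F F Sum.inl)))
      fun k : Fin d => (LinearMap.proj k).comp ((Matrix.toLin' A'ᵀ).comp (LinearMap.funLeft F F Sum.inr)))
  have hTl : ∀ v k, T v (Sum.inl k) = (A *ᵥ (v ∘ Sum.inl)) k := fun v k => rfl
  have hTr : ∀ v k, T v (Sum.inr k) = (A'ᵀ *ᵥ (v ∘ Sum.inr)) k := fun v k => rfl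
  have hTiso : ∀ u v, B₀ (T u) (T v) = B₀ u v := fun u v => by
    have key : ∀ a c : Fin d → F, (A'ᵀ *ᵥ a) ⬝ᵥ (A *ᵥ c) = a ⬝ᵥ c := fun a c => by
      rw [Matrix.dotProduct_mulVec, Matrix.mulVec_transpose, Matrix.vecMul_vecMul, hAA, Matrix.vecMul_one]
    rw [Forms.sympBilin_apply, Forms.sympBilin_apply, Symplectic.sympForm_eq_sum, Symplectic.sympForm_eq_sum,
      Finset.sum_sub_distrib, Finset.sum_sub_distrib]
    simp only [hTl, hTr]
    have k1 := key (u ∘ Sum.inr) (v ∘ Sum.inl)
    have k2 := key (v ∘ Sum.inr) (u ∘ Sum.inl)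
    rw [dotProduct_comm, dotProduct_comm (v ∘ Sum.inr)] at k2
    simp only [dotProduct, Function.comp_apply] at k1 k2
    rw [k1, k2]
  have hTpow : ∀ (n : ℕ) v, ((T ^ n) v) ∘ Sum.inl = (A ^ n) *ᵥ (v ∘ Sum.inl) ∧
      ((T ^ n) v) ∘ Sum.inr = (A'ᵀ ^ n) *ᵥ (v ∘ Sum.inr) := by
    intro n
    induction n with
    | zero => intro v; simp
    | succ n ih =>
      intro v
      rw [pow_succ', Module.End.mul_apply]
      constructor
      · funext k; rw [Function.comp_apply, hTl, (ih v).1, Matrix.mulVec_mulVec, ← pow_succ']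
      · funext k; rw [Function.comp_apply, hTr, (ih v).2, Matrix.mulVec_mulVec, ← pow_succ']
  have hA'r : A'ᵀ ^ r = 1 := by
    rw [← Matrix.transpose_pow, hA', ← pow_mul, mul_comm, pow_mul, hAr, one_pow, Matrix.transpose_one]
  have hTr' : T ^ r = 1 := LinearMap.ext fun v => by
    funext k
    rcases k with k | k
    · have := congrFun (hTpow r v).1 k
      rw [hAr, Matrix.one_mulVec] at this
      exact this
    · have := congrFun (hTpow r v).2 k
      rw [hA'r, Matrix.one_mulVec] at this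
      exact this
  let ι₁ : (Fin d → F) →ₗ[F] Vec d F := LinearMap.pi (Sum.elim (fun k : Fin d => (LinearMap.proj k : (Fin d → F) →ₗ[F] F)) fun _ : Fin d => 0)
  let ι₂ : (Fin d → F) →ₗ[F] Vec d F := LinearMap.pi (Sum.elim (fun _ : Fin d => 0) fun k : Fin d => (LinearMap.proj k : (Fin d → F) →ₗ[F] F))
  have h1l : ∀ x k, ι₁ x (Sum.inl k) = x k := fun x k => rfl
  have h1r : ∀ x k, ι₁ x (Sum.inr k) = 0 := fun x k => rfl
  set P := (LinearMap.range (Matrix.toLin' A - 1)).map ι₁
  set P' := (LinearMap.range (Matrix.toLin' A'ᵀ - 1)).map ι₂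
  set W := LinearMap.range (T - 1)
  have hWP : W ≤ P ⊔ P' := by
    rintro _ ⟨v, rfl⟩
    refine Submodule.mem_sup.2 ⟨_, ⟨_, ⟨v ∘ Sum.inl, rfl⟩, rfl⟩, _, ⟨_, ⟨v ∘ Sum.inr, rfl⟩, rfl⟩, ?_⟩
    funext k
    rcases k with k | k <;> simp [ι₁, ι₂, hTl, hTr, Matrix.toLin'_apply]
  have hT1 : ∀ x, (T - 1) (ι₁ x) = ι₁ ((Matrix.toLin' A - 1) x) := fun x => by
    funext k
    rcases k with k | k
    · simp [hTl, h1l, Function.comp_def, Matrix.toLin'_apply]
    · simp [hTr, h1r, Function.comp_def, ← Pi.zero_def, Matrix.mulVec_zero]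
  have hPW : P ≤ W := by
    rintro _ ⟨_, ⟨x, rfl⟩, rfl⟩
    exact ⟨ι₁ x, hT1 x⟩
  have hPinv : P.map T ≤ P := by
    rintro _ ⟨_, ⟨_, ⟨x, rfl⟩, rfl⟩, rfl⟩
    refine ⟨_, ⟨A *ᵥ x, rfl⟩, ?_⟩
    have := hT1 ((Matrix.toLin' A - 1) x)
    rw [LinearMap.sub_apply, Module.End.one_apply, sub_eq_iff_eq_add] at this
    rw [this, ← map_add]
    congr 1
    simp [Matrix.toLin'_apply, Matrix.mulVec_sub]
  have hPd : Module.finrank F P = i := by
    rw [(Submodule.equivMapOfInjective ι₁ (fun x y h => funext fun k => congrFun h (Sum.inl k)) _).finrank_eq.symm, hAk]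
  have hP'd : Module.finrank F P' ≤ i := by
    refine (Submodule.finrank_map_le _ _).trans ?_
    rw [show Matrix.toLin' A'ᵀ - 1 = Matrix.toLin' ((-A') * (A - 1))ᵀ by
      rw [neg_mul, mul_sub, hAA, mul_one, neg_sub, Matrix.transpose_sub, Matrix.transpose_one, map_sub, Matrix.toLin'_one]
      rfl]
    change ((-A') * (A - 1))ᵀ.rank ≤ i
    rw [Matrix.rank_transpose]
    refine (Matrix.rank_mul_le_right _ _).trans (le_of_eq ?_)
    rw [← hAk, show Matrix.toLin' A - 1 = Matrix.toLin' (A - 1) by rw [map_sub, Matrix.toLin'_one]; rfl]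
    rfl
  have hWd : Module.finrank F W ≤ 2 * i := by
    refine (Submodule.finrank_mono hWP).trans ?_
    have := Submodule.finrank_sup_add_finrank_inf_eq P P'
    omega
  refine ⟨T, hTiso, hTr', fun z hz => ?_, fun j δ hj hc => ?_⟩
  · have h1 := eq_one_of_scalar hr2 hTiso hTr' hz
    have hPz : P = ⊥ := by
      rw [eq_bot_iff]
      intro v hv
      obtain ⟨y, rfl⟩ := hPW hv
      rw [h1, sub_self, LinearMap.zero_apply]
      exact Submodule.zero_mem _
    rw [hPz, finrank_bot] at hPd
    omega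
  · have hTinj : Function.Injective T := SympInv.injective hTr'
    have hjW : ∀ v ∈ W, j v ∈ W := by
      rintro _ ⟨v, rfl⟩
      exact ⟨j v, by simp [map_sub, hc]⟩
    have hjinv : ∀ {S : Submodule F (Vec d F)}, S.map T ≤ S → (S.map j).map T ≤ S.map j := by
      rintro S hS _ ⟨_, ⟨v, hv, rfl⟩, rfl⟩
      exact ⟨T v, hS ⟨v, hv, rfl⟩, (hc v).symm⟩
    set C := P ⊓ P.map j with hC
    have hCinv : C.map T ≤ C := (Submodule.map_inf_le T).trans (inf_le_inf hPinv (hjinv hPinv))
    have hC0 : C = ⊥ := by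
      by_contra hC0
      have hdvd := SympInv.dvd_of_le_range hrF hTr' hi hCinv (inf_le_left.trans hPW)
      have hpos : 0 < Module.finrank F C := Nat.pos_of_ne_zero (fun h => hC0 (Submodule.finrank_eq_zero.1 h))
      have hCP : C = P := Submodule.eq_of_le_of_finrank_le inf_le_left (by
        rw [hPd]; exact Nat.le_of_dvd hpos hdvd)
      have hjP : ∀ v ∈ P, j v ∈ P := fun v hv => by
        have : v ∈ P.map j := (hCP.ge hv).2
        obtain ⟨w, hw, rfl⟩ := this
        rw [hj.sq]
        exact P.smul_mem _ hw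
      have hsq : (j.restrict hjP) * (j.restrict hjP) = δ • 1 := LinearMap.ext fun v => Subtype.ext (hj.sq v.1)
      have hdet := congrArg LinearMap.det hsq
      rw [map_mul, LinearMap.det_smul, map_one, mul_one, hPd] at hdet
      obtain ⟨l, hl⟩ := he
      rw [hl, pow_succ] at hdet
      have hl0 : δ ^ l ≠ 0 := pow_ne_zero _ hj.ne_zero
      refine hj.nsq (LinearMap.det (j.restrict hjP) / δ ^ l) ?_
      field_simp
      linear_combination hdet
    have hjPd : Module.finrank F (P.map j) = i := by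
      rw [(Submodule.equivMapOfInjective j hj.injective P).finrank_eq.symm, hPd]
    have hWeq : P ⊔ P.map j = W := by
      refine Submodule.eq_of_le_of_finrank_le (sup_le hPW ?_) ?_
      · rintro _ ⟨v, hv, rfl⟩; exact hjW v (hPW hv)
      · have := Submodule.finrank_sup_add_finrank_inf_eq P (P.map j)
        rw [← hC, hC0, finrank_bot] at this
        omega
    have hTI : ∀ u ∈ P, ∀ v ∈ P, B₀ u v = 0 := by
      rintro _ ⟨x, -, rfl⟩ _ ⟨y, -, rfl⟩
      simp [Forms.sympBilin_apply, Symplectic.sympForm_eq_sum, ι₁]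
    have hWnd : SympInv.Nd B₀ W := by
      have := (SympInv.nd_parts Forms.sympBilin_isAlt hTiso hrF hTr' (W := ⊤) (by simp) SympInv.nd_top).1
      rwa [Submodule.map_top] at this
    set β : LinearMap.BilinForm F P := (LinearMap.compl₂ B₀ j).compl₁₂ P.subtype P.subtype with hβ
    have hβa : ∀ u v : P, β u v = B₀ u.1 (j v.1) := fun u v => rfl
    let R : Submodule F (Vec d F) := P ⊓ ⨅ w : P, LinearMap.ker ((LinearMap.flip B₀) (j w.1))
    have hR : ∀ u, u ∈ R ↔ u ∈ P ∧ ∀ w : P, B₀ u (j w.1) = 0 := fun u => by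
      simp [R, Submodule.mem_iInf]
    have hRinv : R.map T ≤ R := by
      rintro _ ⟨u, hu, rfl⟩
      obtain ⟨huP, hu0⟩ := (hR u).1 hu
      refine (hR _).2 ⟨hPinv ⟨u, huP, rfl⟩, fun w => ?_⟩
      have hsurj : P.map T = P := Submodule.eq_of_le_of_finrank_eq hPinv
        (Submodule.equivMapOfInjective T hTinj P).finrank_eq.symm
      obtain ⟨w', hw', e⟩ := hsurj.ge w.2
      rw [← e, ← hc, hTiso]
      exact hu0 ⟨w', hw'⟩
    have hR0 : R = ⊥ := by
      by_contra hR0
      have hdvd := SympInv.dvd_of_le_range hrF hTr' hi hRinv (inf_le_left.trans hPW)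
      have hpos : 0 < Module.finrank F R := Nat.pos_of_ne_zero (fun h => hR0 (Submodule.finrank_eq_zero.1 h))
      have hRP : R = P := Submodule.eq_of_le_of_finrank_le inf_le_left (by
        rw [hPd]; exact Nat.le_of_dvd hpos hdvd)
      have hP0 : P = ⊥ := by
        rw [Submodule.eq_bot_iff]
        intro u hu
        refine hWnd u (hPW hu) fun v hv => ?_
        rw [← hWeq] at hv
        obtain ⟨a, ha, _, ⟨b, hb, rfl⟩, rfl⟩ := Submodule.mem_sup.1 hv
        rw [map_add, hTI u hu a ha, ((hR u).1 (hRP.ge hu)).2 ⟨b, hb⟩, add_zero]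
      rw [hP0, finrank_bot] at hPd
      omega
    have hβnd : β.SeparatingLeft := fun u hu => Subtype.ext ((Submodule.eq_bot_iff R).1 hR0 u.1
      ((hR _).2 ⟨u.2, fun w => hu w⟩))
    let T' : Module.End F P := T.restrict fun v hv => hPinv ⟨v, hv, rfl⟩
    have hT'iso : β.compl₁₂ T' T' = β := LinearMap.ext₂ fun u v => by
      show B₀ (T u.1) (j (T v.1)) = B₀ u.1 (j v.1)
      rw [← hc, hTiso]
    let bP := Module.finBasisOfFinrankEq F P hPd
    set M := LinearMap.toMatrix₂ bP bP β with hM
    set X := LinearMap.toMatrix bP bP T' with hX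
    have hMX : Xᵀ * M * X = M := by
      rw [hX, hM, ← LinearMap.toMatrix₂_compl₁₂, hT'iso]
    have hMd : M.det ≠ 0 := by
      rw [hM, ← LinearMap.separatingLeft_iff_det_ne_zero]; exact hβnd
    have hXr : X ^ r = 1 := by
      rw [hX, LinearMap.toMatrix_pow, show T' ^ r = 1 from ?_, LinearMap.toMatrix_one]
      refine LinearMap.ext fun v => Subtype.ext ?_
      show ((T' ^ r) v).1 = v.1
      rw [Module.End.pow_restrict r, LinearMap.restrict_apply]
      show (T ^ r) v.1 = v.1
      rw [hTr', Module.End.one_apply]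
    have hd1 : X.det = 1 := by
      have h1 : X.det * X.det = 1 := by
        have := congrArg Matrix.det hMX
        rw [Matrix.det_mul, Matrix.det_mul, Matrix.det_transpose] at this
        exact mul_right_cancel₀ hMd (by linear_combination this)
      have h2 : X.det ^ r = 1 := by rw [← Matrix.det_pow, hXr, Matrix.det_one]
      obtain ⟨l, hl⟩ := hr.out.odd_of_ne_two hr2
      rwa [hl, pow_succ, pow_mul, pow_two, h1, one_pow, one_mul] at h2
    have hX0 : (X - 1).det = 0 := by
      have h1 : (X - 1)ᵀ * M * X = M * -(X - 1) := by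
        rw [Matrix.transpose_sub, Matrix.transpose_one, sub_mul, sub_mul, one_mul, hMX, neg_sub, mul_sub, mul_one]
      have h2 := congrArg Matrix.det h1
      rw [Matrix.det_mul, Matrix.det_mul, Matrix.det_mul, Matrix.det_transpose, Matrix.det_neg, Fintype.card_fin,
        hd1, he.neg_one_pow] at h2
      have : (2 : F) * ((X - 1).det * M.det) = 0 := by linear_combination h2
      exact (mul_eq_zero.1 ((mul_eq_zero.1 this).resolve_left hj.two)).resolve_right hMd
    rw [show X - 1 = LinearMap.toMatrix bP bP (T' - 1) from (by rw [hX, ← LinearMap.toMatrix_one bP]; exact (map_sub _ T' 1).symm),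
      LinearMap.det_toMatrix] at hX0
    obtain ⟨v, hv, hv0⟩ := Submodule.exists_mem_ne_zero_of_ne_bot (LinearMap.bot_lt_ker_of_det_eq_zero hX0).ne'
    refine hv0 (Subtype.ext (Submodule.disjoint_def.1 (Inv.disjoint_ker_range hrF hTr') v.1 ?_ (hPW v.2)))
    rw [LinearMap.mem_ker] at hv ⊢
    exact congrArg Subtype.val hv

include hrF hr2 in
theorem bad_four (hed : orderOf (Fintype.card F : ZMod r) ≤ 2 * d) (he : 4 ∣ orderOf (Fintype.card F : ZMod r))
    (hpos : 0 < orderOf (Fintype.card F : ZMod r)) :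
    ∃ T : Module.End F (Vec d F), (∀ u v, B₀ (T u) (T v) = B₀ u v) ∧ T ^ r = 1 ∧ (∀ z : F, T ≠ z • 1) ∧
      ∀ j δ, Skew B₀ j δ → ¬ ∀ v, T (j v) = j (T v) := by
  classical
  set i := orderOf (Fintype.card F : ZMod r) with hi
  have hev : Even i := even_iff_two_dvd.2 (dvd_trans (by norm_num) he)
  obtain ⟨x, hxr, hxk⟩ := SympInv.exists_elt (c := i) hrF hi (by rw [if_pos hev]) hpos 1 (d := d) (by omega)
  set T := SympInv.lin x
  have hTr : T ^ r = 1 := SympInv.lin_pow_eq_one hxr
  have hTiso : ∀ u v, B₀ (T u) (T v) = B₀ u v := SympInv.lin_form x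
  set W := LinearMap.range (T - 1)
  have hWd : Module.finrank F W = i := by
    have := (T - 1).finrank_range_add_finrank_ker
    rw [Module.finrank_fintype_fun_eq_card, Fintype.card_sum, Fintype.card_fin, hxk] at this
    have h' : Module.finrank F W + (2 * d - 1 * i) = d + d := this
    omega
  have hWnd : SympInv.Nd B₀ W := by
    have := (SympInv.nd_parts Forms.sympBilin_isAlt hTiso hrF hTr (W := ⊤) (by simp) SympInv.nd_top).1
    rwa [Submodule.map_top] at this
  have hWne : W ≠ ⊥ := fun h => by rw [h, finrank_bot] at hWd; omega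
  refine ⟨T, hTiso, hTr, fun z hz => ?_, fun j δ hj hc => ?_⟩
  · refine hWne ?_
    show LinearMap.range (T - 1) = ⊥
    rw [eq_one_of_scalar hr2 hTiso hTr hz, sub_self, LinearMap.range_zero]
  · obtain ⟨u, hu, hu0⟩ := Submodule.exists_mem_ne_zero_of_ne_bot hWne
    have hWinv : W.map T ≤ W := Inv.map_range_sub_le
    let L : Polynomial F →ₗ[F] Vec d F :=
      (LinearMap.applyₗ u : Module.End F (Vec d F) →ₗ[F] Vec d F).comp (Polynomial.aeval T).toLinearMap
    have hL : ∀ Q, L Q = Polynomial.aeval T Q u := fun Q => rfl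
    have hLW : LinearMap.range L ≤ W := by
      rintro _ ⟨Q, rfl⟩; exact Inv.aeval_mem hWinv Q hu
    have hLinv : (LinearMap.range L).map T ≤ LinearMap.range L := by
      rintro _ ⟨_, ⟨Q, rfl⟩, rfl⟩
      exact ⟨Polynomial.X * Q, by simp [hL]⟩
    have hLeq : LinearMap.range L = W := by
      refine Submodule.eq_of_le_of_finrank_le hLW ?_
      rw [hWd]
      refine Nat.le_of_dvd (Nat.pos_of_ne_zero fun h => hu0 ?_) (SympInv.dvd_of_le_range hrF hTr hi hLinv hLW)
      exact (Submodule.eq_bot_iff _).1 (Submodule.finrank_eq_zero.1 h) u ⟨1, by simp [hL]⟩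
    have hjW : ∀ v ∈ W, j v ∈ W := by
      rintro _ ⟨v, rfl⟩
      exact ⟨j v, by simp [map_sub, hc]⟩
    obtain ⟨P, hP⟩ := hLeq.ge (hjW u hu)
    rw [hL] at hP
    have hcomm : ∀ Q : Polynomial F, Commute j (Polynomial.aeval T Q) := by
      intro Q
      induction Q using Polynomial.induction_on' with
      | add a b ha hb => rw [map_add]; exact ha.add_right hb
      | monomial n a =>
        rw [Polynomial.aeval_monomial]
        exact (show Commute j (algebraMap F (Module.End F (Vec d F)) a) from (Algebra.commutes a j).symm).mul_right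
          ((show Commute j T from LinearMap.ext fun v => (hc v).symm).pow_right n)
    have hjP : ∀ w ∈ W, j w = Polynomial.aeval T P w := by
      intro w hw
      obtain ⟨Q, rfl⟩ := hLeq.ge hw
      rw [hL, ← Module.End.mul_apply, (hcomm Q).eq, Module.End.mul_apply, ← hP, ← Module.End.mul_apply,
        ← Module.End.mul_apply, ← map_mul, ← map_mul, mul_comm]
    have hjn : ∀ n, ∀ w ∈ W, (Polynomial.aeval T P ^ n) w = (j ^ n) w ∧ (j ^ n) w ∈ W := by
      intro n
      induction n with
      | zero => intro w hw; exact ⟨rfl, hw⟩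
      | succ n ih =>
        intro w hw
        rw [pow_succ, pow_succ, Module.End.mul_apply, Module.End.mul_apply, ← hjP w hw]
        exact ih _ (hjW w hw)
    set q := Fintype.card F
    obtain ⟨m, hm⟩ := he
    have hjj : j * j = δ • 1 := LinearMap.ext hj.sq
    have hodd : Odd q := Nat.odd_iff.2 (FiniteField.odd_card_of_char_ne_two fun e => hj.two (by
      have := CharP.cast_eq_zero F (ringChar F); rw [e] at this; exact_mod_cast this))
    have hjq2 : j ^ (q ^ 2) = j := by
      obtain ⟨l, hl⟩ := hodd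
      have hq2 : q ^ 2 = 2 * ((q - 1) * (l + 1)) + 1 := by rw [hl, Nat.add_sub_cancel]; ring
      rw [hq2, pow_succ, pow_mul, pow_two, hjj, smul_pow, one_pow, pow_mul, FiniteField.pow_card_sub_one_eq_one δ hj.ne_zero,
        one_pow, one_smul, one_mul]
    have hjqm : ∀ k, j ^ ((q ^ 2) ^ k) = j := by
      intro k
      induction k with
      | zero => rw [pow_zero, pow_one]
      | succ k ih => rw [pow_succ, pow_mul, ih, hjq2]
    have hexp : ∀ k, P.comp (Polynomial.X ^ (q ^ k)) = P ^ (q ^ k) := by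
      intro k
      rw [← Polynomial.expand_eq_comp_X_pow]
      induction k with
      | zero => simp
      | succ k ih =>
        rw [pow_succ', Polynomial.expand_mul, ih, FiniteField.expand_card, ← pow_mul, mul_comm]
    have hneg : ((q : ZMod r)) ^ (i / 2) = -1 := by
      have h1 : (q : ZMod r) ^ (i / 2) * (q : ZMod r) ^ (i / 2) = 1 := by
        rw [← pow_add, show i / 2 + i / 2 = i by omega, hi, pow_orderOf_eq_one]
      refine (mul_self_eq_one_iff.1 h1).resolve_left fun h => ?_
      have h' := orderOf_le_of_pow_eq_one (show 0 < i / 2 by omega) h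
      rw [← hi] at h'
      omega
    have hmod : q ^ (i / 2) % r = r - 1 := by
      have h1 : ((q ^ (i / 2) : ℕ) : ZMod r) = ((r - 1 : ℕ) : ZMod r) := by
        rw [Nat.cast_pow, hneg, Nat.cast_sub hr.out.one_le, ZMod.natCast_self, Nat.cast_one, zero_sub]
      have h2 := (ZMod.natCast_eq_natCast_iff' _ _ _).1 h1
      rwa [Nat.mod_eq_of_lt (show r - 1 < r by have := hr.out.pos; omega)] at h2
    have hself : ∀ w ∈ W, Polynomial.aeval T (P.comp (Polynomial.X ^ (r - 1))) w = j w := fun w hw => by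
      have e : Polynomial.aeval T (P.comp (Polynomial.X ^ (r - 1))) =
          Polynomial.aeval T (P.comp (Polynomial.X ^ (q ^ (i / 2)))) := by
        simp only [Polynomial.aeval_comp, map_pow, Polynomial.aeval_X]
        rw [pow_eq_pow_mod (q ^ (i / 2)) hTr, hmod]
      rw [e, hexp, map_pow, (hjn _ w hw).1, show q ^ (i / 2) = (q ^ 2) ^ m by
        rw [← pow_mul]; congr 1; omega, hjqm]
    have hju : j u = 0 := by
      refine hWnd _ (hjW u hu) fun v hv => ?_
      have h1 := SympInv.adjoint hTiso hTr P u v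
      rw [hself u hu, ← hjP v hv] at h1
      have h2 := hj.skew u v
      have : (2 : F) * B₀ (j u) v = 0 := by linear_combination h2 - h1
      exact (mul_eq_zero.1 this).resolve_left hj.two
    exact hu0 (hj.injective (hju.trans (map_zero j).symm))

end Odd

theorem exists_root (hd : 0 < d) (h2 : (2 : F) ≠ 0)
    {K : Subalgebra F (Matrix (Fin d ⊕ Fin d) (Fin d ⊕ Fin d) F)} (hK : Cfsg.Geo.IsFieldSubalgebra 2 K)
    (hKf : Cfsg.Geo.IsAdjointClosedFor (Cfsg.sympForm d F) K) (hKns : ¬ Cfsg.Geo.IsSelfAdjointFor (Cfsg.sympForm d F) K) :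
    ∃ (J : Matrix (Fin d ⊕ Fin d) (Fin d ⊕ Fin d) F) (δ : F), J ∈ K ∧
      (∀ k ∈ K, ∃ a b : F, k = a • 1 + b • J) ∧ J * J = δ • 1 ∧ Skew B₀ (Matrix.toLin' J) δ := by
  classical
  haveI : Nonempty (Fin d ⊕ Fin d) := ⟨Sum.inl ⟨0, hd⟩⟩
  obtain ⟨k, hk, hkn⟩ : ∃ k ∈ K, ¬ ∀ u v, Cfsg.sympForm d F (k *ᵥ u) v = Cfsg.sympForm d F u (k *ᵥ v) := by
    simpa [Cfsg.Geo.IsSelfAdjointFor] using hKns
  obtain ⟨k', hk', hadj⟩ := hKf k hk
  set J := k - k'
  have hJK : J ∈ K := sub_mem hk hk'
  have hskew : ∀ u v, Cfsg.sympForm d F (J *ᵥ u) v = -Cfsg.sympForm d F u (J *ᵥ v) := by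
    intro u v
    have h' : Cfsg.sympForm d F (k' *ᵥ u) v = Cfsg.sympForm d F u (k *ᵥ v) := by
      rw [Symplectic.sympForm_swap, ← hadj, ← Symplectic.sympForm_swap]
    rw [Matrix.sub_mulVec, Matrix.sub_mulVec, Symplectic.sympForm_sub_left, Symplectic.sympForm_sub_right, h', hadj]
    ring
  have hJ0 : J ≠ 0 := fun h => hkn fun u v => by rw [hadj, ← sub_eq_zero.mp h]
  obtain ⟨v0, hv0⟩ : ∃ v : Vec d F, v ≠ 0 := ⟨Pi.single (Classical.arbitrary _) 1, by simp⟩
  obtain ⟨w0, hw0⟩ : ∃ w, Cfsg.sympForm d F v0 w ≠ 0 := by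
    by_contra hn; push Not at hn; exact hv0 (Forms.sympForm_left_cancel hn)
  have hJns : ∀ c : F, J ≠ c • 1 := fun c h => hJ0 (by
    have := hskew v0 w0
    simp only [h, Matrix.smul_mulVec, Matrix.one_mulVec, Symplectic.sympForm_smul_left,
      Symplectic.sympForm_smul_right] at this
    have h3 : (2 : F) * (c * Cfsg.sympForm d F v0 w0) = 0 := by linear_combination this
    rw [h, (mul_eq_zero.1 ((mul_eq_zero.1 h3).resolve_left h2)).resolve_right hw0, zero_smul])
  have hspan : ∀ y ∈ K, ∃ a b : F, y = a • 1 + b • J := by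
    have hli : LinearIndependent F ![(1 : Matrix (Fin d ⊕ Fin d) (Fin d ⊕ Fin d) F), J] :=
      (LinearIndependent.pair_iff' one_ne_zero).mpr fun c h => hJns c h.symm
    have heq : Submodule.span F (Set.range ![(1 : Matrix (Fin d ⊕ Fin d) (Fin d ⊕ Fin d) F), J]) =
        Subalgebra.toSubmodule K := by
      refine Submodule.eq_of_le_of_finrank_eq (Submodule.span_le.mpr ?_) ?_
      · rintro _ ⟨i, rfl⟩
        fin_cases i
        · exact one_mem K
        · exact hJK
      · rw [finrank_span_eq_card hli, Subalgebra.finrank_toSubmodule, hK.finrank_eq]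
        simp
    intro y hy
    have hy' : y ∈ Subalgebra.toSubmodule K := hy
    rw [← heq, Submodule.mem_span_range_iff_exists_fun] at hy'
    obtain ⟨c, rfl⟩ := hy'
    exact ⟨c 0, c 1, by simp [Fin.sum_univ_two]⟩
  obtain ⟨δ, b, hJJ⟩ := hspan _ (mul_mem hJK hJK)
  have hb : b = 0 := by
    have hs : ∀ u v, Cfsg.sympForm d F ((J * J) *ᵥ u) v = Cfsg.sympForm d F u ((J * J) *ᵥ v) := fun u v => by
      rw [← Matrix.mulVec_mulVec, ← Matrix.mulVec_mulVec, hskew, hskew, neg_neg]
    by_contra hb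
    refine hJ0 (Matrix.ext_of_mulVec_single fun i => (Forms.sympForm_left_cancel fun v => ?_).trans (Matrix.zero_mulVec _).symm)
    have := hs (Pi.single i 1) v
    simp only [hJJ, Matrix.add_mulVec, Matrix.smul_mulVec, Matrix.one_mulVec, Symplectic.sympForm_add_left,
      Symplectic.sympForm_add_right, Symplectic.sympForm_smul_left, Symplectic.sympForm_smul_right] at this
    have hs' := hskew (Pi.single i 1) v
    have : (2 : F) * (b * Cfsg.sympForm d F (J *ᵥ Pi.single i 1) v) = 0 := by linear_combination this + b * hs'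
    exact (mul_eq_zero.1 ((mul_eq_zero.1 this).resolve_left h2)).resolve_left hb
  rw [hb, zero_smul, add_zero] at hJJ
  refine ⟨J, δ, hJK, hspan, hJJ, Forms.sympBilin_isAlt, fun v => ?_, fun u v => ?_, fun t ht => ?_, h2⟩
  · rw [← Matrix.toLin'_mul_apply, hJJ, map_smul, Matrix.toLin'_one]; rfl
  · simp only [Forms.sympBilin_apply, Matrix.toLin'_apply]; exact hskew u v
  · obtain ⟨y, -, hy⟩ := hK.inv (J - t • 1) (K.sub_mem hJK (K.smul_mem K.one_mem t)) (sub_ne_zero.2 (hJns t))
    have h0 : (J + t • 1) * (J - t • (1 : Matrix (Fin d ⊕ Fin d) (Fin d ⊕ Fin d) F)) = 0 := by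
      simp only [add_mul, mul_sub, Matrix.smul_mul, Matrix.mul_smul, one_mul, mul_one, hJJ, smul_smul, ← ht]
      abel
    have h1 : J + t • (1 : Matrix (Fin d ⊕ Fin d) (Fin d ⊕ Fin d) F) = 0 := by
      have := congrArg (· * y) h0
      simp only [mul_assoc, hy, mul_one, zero_mul] at this
      exact this
    exact hJns (-t) (by rw [neg_smul]; exact eq_neg_of_add_eq_zero_left h1)

theorem mem_normalizer {K : Subalgebra F (Matrix (Fin d ⊕ Fin d) (Fin d ⊕ Fin d) F)}
    {J : Matrix (Fin d ⊕ Fin d) (Fin d ⊕ Fin d) F} (hJK : J ∈ K)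
    (hspan : ∀ k ∈ K, ∃ a b : F, k = a • 1 + b • J) {g : GL (Fin d ⊕ Fin d) F} {s : F} (hs : s * s = 1)
    (h : (g : Matrix (Fin d ⊕ Fin d) (Fin d ⊕ Fin d) F) * J = s • (J * (g : Matrix (Fin d ⊕ Fin d) (Fin d ⊕ Fin d) F))) :
    g ∈ Cfsg.Geo.subalgebraNormalizer K := by
  set G := (g : Matrix (Fin d ⊕ Fin d) (Fin d ⊕ Fin d) F)
  set G' := ((g⁻¹ : GL (Fin d ⊕ Fin d) F) : Matrix (Fin d ⊕ Fin d) (Fin d ⊕ Fin d) F)
  have hgg : G' * G = 1 := by rw [← Units.val_mul, inv_mul_cancel, Units.val_one]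
  have hgg' : G * G' = 1 := by rw [← Units.val_mul, mul_inv_cancel, Units.val_one]
  have h' : G' * J = s • (J * G') := by
    have e := congrArg (fun A => s • (G' * A * G')) h
    simp only [Matrix.mul_smul, Matrix.smul_mul, smul_smul, hs, one_smul] at e
    rw [← mul_assoc, hgg, one_mul, mul_assoc, mul_assoc, hgg', mul_one] at e
    exact e.symm
  have key : ∀ (G G' : Matrix (Fin d ⊕ Fin d) (Fin d ⊕ Fin d) F), G * G' = 1 → G * J = s • (J * G) →
      ∀ k ∈ K, G * k * G' ∈ K := by
    intro G G' hgg' h k hk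
    obtain ⟨a, b, rfl⟩ := hspan k hk
    rw [mul_add, Matrix.mul_smul, Matrix.mul_smul, mul_one, add_mul, Matrix.smul_mul, Matrix.smul_mul, hgg', h,
      Matrix.smul_mul, mul_assoc, hgg', mul_one]
    exact K.add_mem (K.smul_mem K.one_mem a) (K.smul_mem (K.smul_mem hJK s) b)
  intro k
  refine ⟨fun hk => key G G' hgg' h k hk, fun hk => ?_⟩
  have := key G' G hgg h' _ hk
  have e : G' * (G * k * G') * G = k := by
    rw [← mul_assoc, ← mul_assoc, hgg, one_mul, mul_assoc, hgg, mul_one]
  exact e ▸ this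

theorem relation_of_normalizer (h2 : (2 : F) ≠ 0) {K : Subalgebra F (Matrix (Fin d ⊕ Fin d) (Fin d ⊕ Fin d) F)}
    {J : Matrix (Fin d ⊕ Fin d) (Fin d ⊕ Fin d) F} {δ : F} (hJK : J ∈ K)
    (hspan : ∀ k ∈ K, ∃ a b : F, k = a • 1 + b • J) (hJJ : J * J = δ • 1)
    (hj : Skew B₀ (Matrix.toLin' J) δ) {g : GL (Fin d ⊕ Fin d) F} (hg : g ∈ Cfsg.Geo.subalgebraNormalizer K) :
    ∃ b : F, b * b = 1 ∧
      (g : Matrix (Fin d ⊕ Fin d) (Fin d ⊕ Fin d) F) * J = b • (J * (g : Matrix (Fin d ⊕ Fin d) (Fin d ⊕ Fin d) F)) := by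
  set G := (g : Matrix (Fin d ⊕ Fin d) (Fin d ⊕ Fin d) F)
  set G' := ((g⁻¹ : GL (Fin d ⊕ Fin d) F) : Matrix (Fin d ⊕ Fin d) (Fin d ⊕ Fin d) F)
  have hgg : G' * G = 1 := by rw [← Units.val_mul, inv_mul_cancel, Units.val_one]
  have hgg' : G * G' = 1 := by rw [← Units.val_mul, mul_inv_cancel, Units.val_one]
  obtain ⟨a, b, hab⟩ := hspan _ ((hg J).1 hJK)
  change G * J * G' = a • 1 + b • J at hab
  have hsq : (a • (1 : Matrix (Fin d ⊕ Fin d) (Fin d ⊕ Fin d) F) + b • J) * (a • 1 + b • J) = δ • 1 := by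
    rw [← hab, mul_assoc, ← mul_assoc G', ← mul_assoc G', hgg, one_mul, ← mul_assoc, mul_assoc G, hJJ,
      Matrix.mul_smul, mul_one, Matrix.smul_mul, hgg']
  simp only [add_mul, mul_add, Matrix.smul_mul, Matrix.mul_smul, one_mul, mul_one, hJJ, smul_smul] at hsq
  by_cases hne : Nonempty (Fin d ⊕ Fin d)
  swap
  · exact ⟨1, one_mul 1, by ext s; exact absurd ⟨s⟩ hne⟩
  obtain ⟨i⟩ := hne
  have h1 : (a * a + b * b * δ - δ) • (Pi.single i 1 : Vec d F) + (a * b + a * b) • Matrix.toLin' J (Pi.single i 1) = 0 := by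
    have e := congrArg (fun A => Matrix.toLin' A (Pi.single i 1)) hsq
    simp only [map_add, map_smul, Matrix.toLin'_one, LinearMap.add_apply, LinearMap.smul_apply, LinearMap.id_coe, id_eq] at e
    linear_combination (norm := module) e
  have hab0 : a * b = 0 := by
    by_contra hne
    have hne' : a * b + a * b ≠ 0 := by rw [← two_mul]; exact mul_ne_zero h2 hne
    have := hj.no_eigen (v := Pi.single i 1) (t := -((a * a + b * b * δ - δ) / (a * b + a * b))) (by
      rw [← inv_smul_smul₀ hne' (Matrix.toLin' J (Pi.single i 1)), eq_neg_of_add_eq_zero_right h1, smul_neg,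
        smul_smul, neg_smul, div_eq_inv_mul])
    simp at this
  rw [← two_mul, hab0, mul_zero, zero_smul, add_zero, smul_eq_zero] at h1
  have h0 : a * a + b * b * δ = δ := sub_eq_zero.1 (h1.resolve_right (by simp))
  have ha : a = 0 := by
    refine (mul_eq_zero.1 hab0).resolve_right fun hb => hj.nsq a ?_
    rw [hb] at h0; linear_combination h0
  refine ⟨b, mul_right_cancel₀ hj.ne_zero (by rw [ha] at h0; linear_combination h0), ?_⟩
  rw [ha, zero_smul, zero_add] at hab
  rw [← Matrix.smul_mul, ← hab, mul_assoc (G * J), hgg, mul_one]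

/-- An isometry as an element of `spGL`. -/
theorem exists_gl (g : Vec d F ≃ₗ[F] Vec d F) (hg : ∀ u v, B₀ (g u) (g v) = B₀ u v) :
    ∃ G ∈ Cfsg.spGL d F, ∀ v, Matrix.toLin' (G : Matrix (Fin d ⊕ Fin d) (Fin d ⊕ Fin d) F) v = g v := by
  let G : GL (Fin d ⊕ Fin d) F := Matrix.GeneralLinearGroup.toLin.symm
    ((LinearMap.GeneralLinearGroup.generalLinearEquiv F _).symm g)
  have hG : ∀ v, Matrix.toLin' (G : Matrix (Fin d ⊕ Fin d) (Fin d ⊕ Fin d) F) v = g v := fun v => by
    have h1 : (Matrix.GeneralLinearGroup.toLin G) = (LinearMap.GeneralLinearGroup.generalLinearEquiv F _).symm g :=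
      MulEquiv.apply_symm_apply _ _
    exact LinearMap.congr_fun (congrArg Units.val h1) v
  refine ⟨G, SpGL.mem_iff.2 fun u v => ?_, hG⟩
  rw [← Matrix.toLin'_apply, ← Matrix.toLin'_apply, hG, hG, ← Forms.sympBilin_apply, hg, Forms.sympBilin_apply]

theorem exists_skew_invol {δ : F} (h2 : (2 : F) ≠ 0) (hns : ∀ t : F, t * t ≠ δ) {T : Module.End F (Vec d F)}
    (hT : ∀ u v, B₀ (T u) (T v) = B₀ u v) {z : F} (hz : z = 1 ∨ z = -1) (hT2 : ∀ v, T (T v) = z • v) :
    ∃ (j : Module.End F (Vec d F)) (s : F), s * s = 1 ∧ Skew B₀ j δ ∧ ∀ v, T (j v) = s • j (T v) := by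
  classical
  obtain ⟨ι, _, _, u, v, σ, ⟨-, -, huv, huu, hvv, hTm⟩, hspan, hfix⟩ :=
    SympPlanes.exists_planes B₀ Forms.sympBilin_isAlt T hT hz hT2 ⊤ (fun _ _ => Submodule.mem_top) SympInv.nd_top
  have hσ : ∀ i, σ i = i := hfix h2
  have hvu : ∀ i j, B₀ (v i) (u j) = -if j = i then 1 else 0 := fun i j => by
    rw [← LinearMap.IsAlt.neg (B := B₀) Forms.sympBilin_isAlt (u j) (v i), huv]
  have hli : LinearIndependent F (Sum.elim u v) := by
    rw [Fintype.linearIndependent_iff]
    intro g hg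
    simp only [Fintype.sum_sum_type, Sum.elim_inl, Sum.elim_inr] at hg
    rintro (i | i)
    · simpa [map_sum, huv, hvv, hvu] using congrArg (B₀ (v i)) hg
    · simpa [map_sum, huv, huu] using congrArg (B₀ (u i)) hg
  let b := Module.Basis.mk hli hspan
  have hbu : ∀ i, b (Sum.inl i) = u i := fun i => by simp [b]
  have hbv : ∀ i, b (Sum.inr i) = v i := fun i => by simp [b]
  obtain ⟨sgn, hsgn, hall⟩ : ∃ sgn : F, sgn * sgn = 1 ∧ ∀ i, ∃ a bb c g p qq s : F,
      T (u i) = a • u i + c • v i ∧ T (v i) = bb • u i + g • v i ∧ p * p + qq * s = δ ∧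
      (a * p + bb * s = sgn * (a * p + c * qq)) ∧ (c * p + g * s = sgn * (a * s - c * p)) ∧
      (a * qq - bb * p = sgn * (bb * p + g * qq)) ∧ (c * qq - g * p = sgn * (bb * s - g * p)) := by
    refine ⟨z, by rcases hz with rfl | rfl <;> ring, fun i => ?_⟩
    have h1 := (hTm i).1
    have h2' := (hTm i).2
    rw [hσ] at h1 h2'
    obtain ⟨a, c, hTu⟩ := Submodule.mem_span_pair.1 h1
    obtain ⟨bb, g, hTv⟩ := Submodule.mem_span_pair.1 h2'
    have hdet : a * g - c * bb = 1 := by
      have := hT (u i) (v i)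
      rw [← hTu, ← hTv] at this
      simp only [map_add, map_smul, LinearMap.add_apply, LinearMap.smul_apply, smul_eq_mul, huu, hvv, huv, hvu,
        if_true] at this
      linear_combination this
    have hind : ∀ x y : F, x • u i + y • v i = 0 → x = 0 ∧ y = 0 := fun x y h => by
      constructor
      · simpa [huv, hvu, hvv] using congrArg (B₀ (v i)) h
      · simpa [huv, huu] using congrArg (B₀ (u i)) h
    have hu2 : (a * a + c * bb - z) • u i + (c * (a + g)) • v i = 0 := by
      have := hT2 (u i)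
      rw [← hTu, map_add, map_smul, map_smul, ← hTu, ← hTv] at this
      linear_combination (norm := module) this
    obtain ⟨e1, e2⟩ := hind _ _ hu2
    have hv2 : (bb * (a + g)) • u i + (g * g + c * bb - z) • v i = 0 := by
      have := hT2 (v i)
      rw [← hTv, map_add, map_smul, map_smul, ← hTu, ← hTv] at this
      linear_combination (norm := module) this
    obtain ⟨e3, -⟩ := hind _ _ hv2
    rcases hz with rfl | rfl
    · have hag : a + g ≠ 0 := fun h => h2 (by linear_combination -hdet - e1 + a * h)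
      have hc : c = 0 := (mul_eq_zero.1 e2).resolve_right hag
      have hb : bb = 0 := (mul_eq_zero.1 e3).resolve_right hag
      subst hc; subst hb
      have hga : g = a := by linear_combination a * hdet - g * e1
      subst hga
      refine ⟨g, 0, 0, g, 0, 1, δ, hTu.symm, hTv.symm, by ring, ?_, ?_, ?_, ?_⟩ <;> ring
    · have hg : g = -a := by
        have ha : a * (a + g) = 0 := by linear_combination e1 + hdet
        rcases mul_eq_zero.1 ha with ha | ha
        · rcases mul_eq_zero.1 e2 with hc | hc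
          · rw [hc, ha] at hdet; simp at hdet
          · linear_combination hc
        · linear_combination ha
      subst hg
      have main : ∀ p qq s : F, p * p + qq * s = δ → 2 * a * p + bb * s + c * qq = 0 →
          ∃ a' bb' c' g' p qq s : F, T (u i) = a' • u i + c' • v i ∧ T (v i) = bb' • u i + g' • v i ∧ p * p + qq * s = δ ∧
            (a' * p + bb' * s = -1 * (a' * p + c' * qq)) ∧ (c' * p + g' * s = -1 * (a' * s - c' * p)) ∧
            (a' * qq - bb' * p = -1 * (bb' * p + g' * qq)) ∧ (c' * qq - g' * p = -1 * (bb' * s - g' * p)) := by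
        intro p qq s hp hzero
        refine ⟨a, bb, c, -a, p, qq, s, hTu.symm, hTv.symm, hp, ?_, ?_, ?_, ?_⟩
        · linear_combination hzero
        · ring
        · ring
        · linear_combination hzero
      by_cases hb : bb = 0
      · subst hb
        have ha : a ≠ 0 := fun h => by rw [h] at hdet; simp at hdet
        refine main (-c / (2 * a)) 1 (δ - (-c / (2 * a)) * (-c / (2 * a))) (by ring) ?_
        field_simp
        ring
      · obtain ⟨X, Y, hXY⟩ := SympConj.exists_form_value (z := (-1 : F)) (d := δ) (fun _ => neg_ne_zero.2 one_ne_zero)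
        refine main (X + a * Y) (Y * bb) (-(2 * a * (X + a * Y) + c * (Y * bb)) / bb) ?_ ?_
        · field_simp
          linear_combination hXY + Y ^ 2 * hdet
        · field_simp
          ring
  choose a bb c g p qq s hTu hTv hpq e1 e2 e3 e4 using hall
  let j : Module.End F (Vec d F) := b.constr F
    (Sum.elim (fun i => p i • u i + s i • v i) fun i => qq i • u i - p i • v i)
  have hju : ∀ i, j (u i) = p i • u i + s i • v i := fun i =>
    (congrArg j (hbu i)).symm.trans (b.constr_basis F _ _)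
  have hjv : ∀ i, j (v i) = qq i • u i - p i • v i := fun i =>
    (congrArg j (hbv i)).symm.trans (b.constr_basis F _ _)
  refine ⟨j, sgn, hsgn, ⟨Forms.sympBilin_isAlt, ?_, ?_, hns, h2⟩, ?_⟩
  · have : j ∘ₗ j = δ • LinearMap.id := b.ext fun k => by
      rcases k with i | i
      · simp only [LinearMap.comp_apply, LinearMap.smul_apply, LinearMap.id_coe, id_eq, hbu, hju, map_add, map_smul, hjv]
        rw [← hpq i]; module
      · simp only [LinearMap.comp_apply, LinearMap.smul_apply, LinearMap.id_coe, id_eq, hbv, hju, map_sub, map_smul, hjv]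
        rw [← hpq i]; module
    exact fun w => LinearMap.congr_fun this w
  · have : (LinearMap.compl₁₂ B₀ j LinearMap.id) = -(LinearMap.compl₂ B₀ j) := by
      refine LinearMap.ext_basis b b fun k l => ?_
      rcases k with i | i <;> rcases l with i' | i' <;>
        simp only [LinearMap.compl₁₂_apply, LinearMap.id_coe, id_eq, LinearMap.neg_apply, LinearMap.compl₂_apply,
          hbu, hbv, hju, hjv, map_add, map_sub, map_smul, LinearMap.add_apply, LinearMap.sub_apply,
          LinearMap.smul_apply, smul_eq_mul, huu, hvv, huv, hvu] <;>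
        split_ifs <;> (try subst_vars) <;> (try ring) <;> simp_all
    exact fun x y => LinearMap.congr_fun₂ this x y
  · have : T ∘ₗ j = sgn • (j ∘ₗ T) := b.ext fun k => by
      rcases k with i | i
      · simp only [LinearMap.comp_apply, LinearMap.smul_apply, hbu, hju, map_add, map_smul, hTu, hTv, hjv]
        match_scalars
        · linear_combination e1 i
        · linear_combination e2 i
      · simp only [LinearMap.comp_apply, LinearMap.smul_apply, hbv, hju, map_add, map_sub, map_smul, hTu, hTv, hjv]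
        match_scalars
        · linear_combination e3 i
        · linear_combination e4 i
    exact fun w => LinearMap.congr_fun this w


/-- Elements of prime order of PSp_n(q), q odd, and the subgroups of type GU_{n/2}(q). Here `T = PSp_{2d}(F)` for a field `F` with `q` elements, `q` odd, `d ≥ 2`, realised through the matrices preserving the standard alternating form `f`; `K` is a subalgebra of the `2d × 2d` matrices that is a field of degree 2 over `F`, closed under taking adjoints for `f` but not consisting of self-adjoint elements (so `F^{2d}` becomes a `d`-dimensional space over `K ≅ F_{q²}` on which `f` is the trace of a multiple of a non-degenerate hermitian form); `H` is the subgroup of `T` normalizing `K` — the symplectic maps that are `K`-linear or `K`-semilinear, a subgroup of type GU_d(q) (maximality is not assumed). Ω is the set of cosets of `H` in `T`, so an element of `T` of prime order `r` (`x ∈ T` with `x^r` scalar, `x` not scalar) fixes a point of Ω exactly when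 some `T`-conjugate of `x` normalizes `K`. Let `r` be a prime dividing the index of `H`. Then every element of `T` of order `r` fixes a point of Ω if and only if `r = 2`. -/
theorem result {F : Type*} [Field F] [Fintype F] {p : ℕ} [Fact p.Prime] [CharP F p] {q : ℕ} (hq : Fintype.card F = q)
    (hodd : Odd q) (d : ℕ) (hd : 2 ≤ d)
    (K : Subalgebra F (Matrix (Fin d ⊕ Fin d) (Fin d ⊕ Fin d) F)) (hK : Cfsg.Geo.IsFieldSubalgebra 2 K)
    (hKf : Cfsg.Geo.IsAdjointClosedFor (Cfsg.sympForm d F) K) (hKns : ¬ Cfsg.Geo.IsSelfAdjointFor (Cfsg.sympForm d F) K)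
    (r : ℕ) [Fact r.Prime]
    (hΩ : r ∣ (Cfsg.Geo.subalgebraNormalizer K).relIndex (Cfsg.spGL d F)) :
    (∀ x ∈ Cfsg.spGL d F, (∃ z : F, ((x ^ r : GL (Fin d ⊕ Fin d) F) : Matrix (Fin d ⊕ Fin d) (Fin d ⊕ Fin d) F) = z • (1 : Matrix (Fin d ⊕ Fin d) (Fin d ⊕ Fin d) F)) →
      (∀ z : F, (x : Matrix (Fin d ⊕ Fin d) (Fin d ⊕ Fin d) F) ≠ z • (1 : Matrix (Fin d ⊕ Fin d) (Fin d ⊕ Fin d) F)) →
      ∃ g ∈ Cfsg.spGL d F, g⁻¹ * x * g ∈ Cfsg.Geo.subalgebraNormalizer K) ↔ r = 2 := by
  classical
  obtain rfl : Fintype.card F = q := hq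
  have h2 : (2 : F) ≠ 0 := Cfsg.Agent.UnitaryOrthogonal.two_ne_zero_of_card_odd hodd
  have hd0 : 0 < d := by omega
  obtain ⟨J, δ, hJK, hspan, hJJ, hj⟩ := exists_root hd0 h2 hK hKf hKns
  have hr' : r.Prime := Fact.out
  constructor
  · intro H
    by_contra hr2
    obtain ⟨T, hTiso, hTr, hTns, hbad⟩ : ∃ T : Module.End F (Vec d F), (∀ u v, Forms.sympBilin d F (T u) (T v) = Forms.sympBilin d F u v) ∧
        T ^ r = 1 ∧ (∀ z : F, T ≠ z • 1) ∧ ∀ j δ, Skew (Forms.sympBilin d F) j δ → ¬ ∀ v, T (j v) = j (T v) := by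
      by_cases hrF : (r : F) = 0
      · exact bad_transvection hd0 hrF
      set q := Fintype.card F
      set i := orderOf (q : ZMod r) with hi
      obtain ⟨N, hN, hNdvd⟩ := exists_unitary_hom hj (q := q) rfl
      have hNH := hNdvd (Cfsg.Geo.subalgebraNormalizer K ⊓ Cfsg.spGL d F) fun g hg hcomm =>
        ⟨mem_normalizer hJK hspan (one_mul 1) (Matrix.toLin'.injective (LinearMap.ext fun v => by
          rw [one_smul, Matrix.toLin'_mul_apply, Matrix.toLin'_mul_apply, hcomm])), hg⟩
      have hidx := SpGL.card_mul_relIndex (F := F) (d := d) (Cfsg.Geo.subalgebraNormalizer K)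
      rw [SpGL.card_spGL (q := q) rfl] at hidx
      have hdvd : N * r ∣ q ^ (d ^ 2) * ∏ k ∈ Finset.range d, (q ^ (2 * (k + 1)) - 1) := hidx ▸ mul_dvd_mul hNH hΩ
      set Aprod := ∏ k ∈ Finset.range d, (if Even k then q ^ (k + 1) + 1 else q ^ (k + 1) - 1)
      have hsplit : ∏ k ∈ Finset.range d, (q ^ (2 * (k + 1)) - 1) =
          Aprod * ∏ k ∈ Finset.range d, (if Even k then q ^ (k + 1) - 1 else q ^ (k + 1) + 1) := by
        rw [← Finset.prod_mul_distrib]
        refine Finset.prod_congr rfl fun k _ => ?_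
        have : q ^ (2 * (k + 1)) - 1 = (q ^ (k + 1) + 1) * (q ^ (k + 1) - 1) := by
          rw [← Nat.sq_sub_sq, one_pow, pow_two, two_mul, pow_add]
        rw [this]
        split_ifs
        · rfl
        · exact mul_comm _ _
      have hq1 : 1 < q := Fintype.one_lt_card
      have hApos : 0 < Aprod := Finset.prod_pos fun k _ => by
        split_ifs
        · omega
        · exact Nat.sub_pos_of_lt (Nat.one_lt_pow (by omega) hq1)
      rw [hsplit, hN] at hdvd
      have hr1 : r ∣ q ^ (d ^ 2) * ∏ k ∈ Finset.range d, (if Even k then q ^ (k + 1) - 1 else q ^ (k + 1) + 1) := by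
        refine Nat.dvd_of_mul_dvd_mul_left hApos ?_
        rw [mul_left_comm Aprod]
        exact dvd_trans (Dvd.intro_left (q ^ (d * (d - 1) / 2)) (by ring)) hdvd
      have hrq : ¬ r ∣ q := fun h => hrF (by
        obtain ⟨n, -, hn⟩ := FiniteField.card F p
        have := (Nat.prime_dvd_prime_iff_eq hr' (Fact.out : p.Prime)).1 (hr'.dvd_of_dvd_pow (n := n) (by rw [← hn]; exact h))
        rw [this]; exact CharP.cast_eq_zero F p)
      have hipos : 0 < i := by
        have hne : (q : ZMod r) ≠ 0 := fun e => hrq ((ZMod.natCast_eq_zero_iff _ _).1 e)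
        exact orderOf_pos_iff.2 (isOfFinOrder_iff_pow_eq_one.2
          ⟨r - 1, by have := hr'.two_le; omega, ZMod.pow_card_sub_one_eq_one hne⟩)
      rcases hr'.dvd_mul.1 hr1 with h | h
      · exact absurd (hr'.dvd_of_dvd_pow h) hrq
      obtain ⟨k, hk, hkd⟩ := (Prime.dvd_finsetProd_iff hr'.prime _).1 h
      rw [Finset.mem_range] at hk
      have hcase : (Odd i ∧ i ≤ d) ∨ (4 ∣ i ∧ i ≤ 2 * d) := by
        have h0 := (ZMod.natCast_eq_zero_iff _ r).2 hkd
        by_cases hev : Even k
        · rw [if_pos hev, Nat.cast_sub (Nat.one_le_pow _ _ (by omega)), sub_eq_zero, Nat.cast_pow, Nat.cast_one] at h0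
          have hdv : i ∣ k + 1 := orderOf_dvd_of_pow_eq_one h0
          exact Or.inl ⟨(Nat.even_add_one.not.2 (not_not.2 hev) |> Nat.not_even_iff_odd.1).of_dvd_nat hdv,
            (Nat.le_of_dvd (by omega) hdv).trans (by omega)⟩
        · rw [if_neg hev, Nat.cast_add, Nat.cast_pow, Nat.cast_one] at h0
          have hm1 : (q : ZMod r) ^ (k + 1) = -1 := eq_neg_of_add_eq_zero_left h0
          have hdv : i ∣ 2 * (k + 1) := orderOf_dvd_of_pow_eq_one (by rw [mul_comm, pow_mul, hm1, neg_one_sq])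
          have hnd : ¬ i ∣ k + 1 := fun hd' => by
            rw [orderOf_dvd_iff_pow_eq_one.1 hd'] at hm1
            have h20 : ((2 : ℕ) : ZMod r) = 0 := by push_cast; linear_combination hm1
            have := Nat.le_of_dvd two_pos ((ZMod.natCast_eq_zero_iff _ _).1 h20)
            have := hr'.two_le
            omega
          refine Or.inr ⟨?_, (Nat.le_of_dvd (by omega) hdv).trans (by omega)⟩
          obtain ⟨l, hl⟩ := Nat.not_even_iff_odd.1 hev
          by_contra h4
          refine hnd ?_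
          rcases Nat.even_or_odd i with he | ho
          · obtain ⟨f, hf⟩ := he
            have hfo : Odd f := by
              rcases Nat.even_or_odd f with ⟨f', hf'⟩ | ho
              · exact absurd ⟨f', by omega⟩ h4
              · exact ho
            have hfd : f ∣ k + 1 := by
              rw [hf, ← two_mul] at hdv
              exact (Nat.mul_dvd_mul_iff_left two_pos).1 hdv
            rw [hf, ← two_mul]
            exact Nat.Coprime.mul_dvd_of_dvd_of_dvd (Nat.coprime_two_left.2 hfo) ⟨l + 1, by omega⟩ hfd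
          · exact (Nat.coprime_two_right.2 ho).dvd_of_dvd_mul_left hdv
      rcases hcase with ⟨ho, hle⟩ | ⟨h4, hle⟩
      · exact bad_odd hrF hr2 hle ho
      · exact bad_four hrF hr2 hle h4 hipos
    have hTinj : Function.Injective T := by
      haveI : Fact r.Prime := ⟨hr'⟩
      exact SympInv.injective hTr
    obtain ⟨X, hX, hXT⟩ := exists_gl (LinearEquiv.ofInjectiveEndo T hTinj) hTiso
    have hXT' : Matrix.toLin' (X : Matrix (Fin d ⊕ Fin d) (Fin d ⊕ Fin d) F) = T := LinearMap.ext hXT
    have hXr : X ^ r = 1 := Units.ext (Matrix.toLin'.injective (by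
      rw [Units.val_pow_eq_pow_val, Units.val_one, Matrix.toLin'_pow, hXT', hTr, Matrix.toLin'_one]; rfl))
    obtain ⟨g, hg, hgX⟩ := H X hX ⟨1, by rw [hXr, one_smul, Units.val_one]⟩ fun z hz => hTns z (by
      rw [← hXT', hz, map_smul, Matrix.toLin'_one]; rfl)
    obtain ⟨b, hb, hrel⟩ := relation_of_normalizer h2 hJK hspan hJJ hj hgX
    have hb1 : b = 1 := by
      have hYr : (g⁻¹ * X * g) ^ r = 1 := by
        have := conj_pow (i := r) (a := g⁻¹) (b := X)
        rw [inv_inv] at this
        rw [this, hXr, mul_one, inv_mul_cancel]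
      set Y := ((g⁻¹ * X * g : GL (Fin d ⊕ Fin d) F) : Matrix (Fin d ⊕ Fin d) (Fin d ⊕ Fin d) F) with hY
      have hpow : ∀ k : ℕ, Y ^ k * J = b ^ k • (J * Y ^ k) := by
        intro k
        induction k with
        | zero => simp
        | succ k ih =>
          rw [pow_succ, mul_assoc, hrel, Matrix.mul_smul, ← mul_assoc, ih, Matrix.smul_mul, smul_smul, mul_assoc,
            pow_succ, mul_comm]
      have h1 := hpow r
      rw [hY, ← Units.val_pow_eq_pow_val, hYr, Units.val_one, one_mul, mul_one] at h1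
      obtain ⟨i⟩ : Nonempty (Fin d ⊕ Fin d) := ⟨Sum.inl ⟨0, hd0⟩⟩
      have h3 : (b ^ r - 1) • Matrix.toLin' J (Pi.single i 1) = 0 := by
        rw [sub_smul, one_smul, ← LinearMap.smul_apply, ← map_smul, ← h1, sub_self]
      have hbr : b ^ r = 1 := sub_eq_zero.1 ((smul_eq_zero.1 h3).resolve_right fun e => by
        have := hj.injective (e.trans (map_zero (Matrix.toLin' J)).symm)
        simp at this)
      obtain ⟨l, hl⟩ := hr'.odd_of_ne_two hr2
      rwa [hl, pow_succ, pow_mul, pow_two, hb, one_pow, one_mul] at hbr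
    rw [hb1, one_smul] at hrel
    set G := Matrix.toLin' (g : Matrix (Fin d ⊕ Fin d) (Fin d ⊕ Fin d) F) with hG
    set G' := Matrix.toLin' ((g⁻¹ : GL (Fin d ⊕ Fin d) F) : Matrix (Fin d ⊕ Fin d) (Fin d ⊕ Fin d) F) with hG'
    have hGG : ∀ v, G (G' v) = v := fun v => by
      rw [hG, hG', ← Matrix.toLin'_mul_apply, ← Units.val_mul, mul_inv_cancel, Units.val_one, Matrix.toLin'_one]; rfl
    have hGG' : ∀ v, G' (G v) = v := fun v => by
      rw [hG, hG', ← Matrix.toLin'_mul_apply, ← Units.val_mul, inv_mul_cancel, Units.val_one, Matrix.toLin'_one]; rfl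
    have hGiso : ∀ u v, Forms.sympBilin d F (G u) (G v) = Forms.sympBilin d F u v := fun u v => by
      rw [Forms.sympBilin_apply, Forms.sympBilin_apply]; exact SpGL.mem_iff.1 hg u v
    refine hbad (G ∘ₗ Matrix.toLin' J ∘ₗ G') δ ⟨Forms.sympBilin_isAlt, fun v => ?_, fun u v => ?_, hj.nsq, h2⟩ fun v => ?_
    · simp only [LinearMap.comp_apply, hGG', hj.sq, map_smul, hGG]
    · obtain ⟨u', rfl⟩ : ∃ u', G u' = u := ⟨G' u, hGG u⟩
      obtain ⟨v', rfl⟩ : ∃ v', G v' = v := ⟨G' v, hGG v⟩
      simp only [LinearMap.comp_apply, hGG', hGiso, hj.skew]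
    · have hrel' := congrArg (fun A => G (Matrix.toLin' A (G' v))) hrel
      simp only [Units.val_mul, Matrix.toLin'_mul_apply, ← hG, ← hG', hXT', hGG] at hrel'
      exact hrel'
  · rintro rfl x hx ⟨z, hz⟩ -
    obtain ⟨i⟩ : Nonempty (Fin d ⊕ Fin d) := ⟨Sum.inl ⟨0, hd0⟩⟩
    have hzz : z * z = 1 := by
      obtain ⟨w, hw⟩ : ∃ w, Cfsg.sympForm d F (Pi.single i 1) w ≠ 0 := by
        by_contra hn; push Not at hn
        have := Forms.sympForm_left_cancel hn
        simp at this
      have h3 := SpGL.mem_iff.1 (pow_mem hx 2) (Pi.single i 1) w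
      rw [hz, Matrix.smul_mulVec, Matrix.one_mulVec, Matrix.smul_mulVec, Matrix.one_mulVec,
        Symplectic.sympForm_smul_left, Symplectic.sympForm_smul_right, ← mul_assoc] at h3
      exact (mul_eq_right₀ hw).1 h3
    obtain ⟨j', s, hs, hj', hcomm⟩ := exists_skew_invol (d := d) h2 hj.nsq
      (T := Matrix.toLin' (x : Matrix (Fin d ⊕ Fin d) (Fin d ⊕ Fin d) F))
      (fun u v => by rw [Forms.sympBilin_apply, Forms.sympBilin_apply]; exact SpGL.mem_iff.1 hx u v)
      (mul_self_eq_one_iff.1 hzz) (fun v => by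
        rw [← Matrix.toLin'_mul_apply, ← Units.val_mul, ← pow_two, hz, map_smul, Matrix.toLin'_one]; rfl)
    obtain ⟨g, hgiso, hgj⟩ := exists_intertwine Forms.sympBilin_nondegenerate (d := d)
      (by rw [Module.finrank_fintype_fun_eq_card, Fintype.card_sum, Fintype.card_fin]; ring) hj hj'
    obtain ⟨G, hG, hGg⟩ := exists_gl g hgiso
    refine ⟨G, hG, mem_normalizer hJK hspan hs (Matrix.toLin'.injective (LinearMap.ext fun v => ?_))⟩
    have hG' : ∀ v, Matrix.toLin' ((G⁻¹ : GL (Fin d ⊕ Fin d) F) : Matrix (Fin d ⊕ Fin d) (Fin d ⊕ Fin d) F) v = g.symm v := fun v => by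
      rw [LinearEquiv.eq_symm_apply, ← hGg, ← Matrix.toLin'_mul_apply, ← Units.val_mul, mul_inv_cancel,
        Units.val_one, Matrix.toLin'_one]
      rfl
    simp only [Units.val_mul, map_smul, LinearMap.smul_apply, Matrix.toLin'_mul_apply, hG', hGg, hgj, hcomm]
    congr 1
    refine (LinearEquiv.symm_apply_eq g).2 ?_
    rw [hgj, LinearEquiv.apply_symm_apply]

end Cfsg.Agent.S5976
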