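import Cfsg.Statements.S5980
import Cfsg.Agent.SpTensor.Basic
import Cfsg.Agent.Lib.UnitaryOrthogonal.Basic
import Cfsg.Agent.MaxSub.Alt

set_option autoImplicit false
open scoped MatrixGroups
open Cfsg

namespace Cfsg.Agent.S5980

open Cfsg.Agent Cfsg.Agent.ClMax99 Cfsg.Agent.SpTensor Module
open Cfsg.Agent.Symplectic (Vec Sp)
open scoped Matrix Kronecker

set_option linter.unusedSectionVars false

variable {F : Type*} [Field F] [Fintype F] {d a b : ℕ} {e : (Fin d ⊕ Fin d) ≃ Fin a × Fin b}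
variable {P : GL (Fin d ⊕ Fin d) F}
variable {f₁ : (Fin a → F) → (Fin a → F) → F} {f₂ : (Fin b → F) → (Fin b → F) → F}

local notation "B₀" => Forms.sympBilin d F

/-- The value of the symplectic form on pure tensors. -/
def IsTens (e : (Fin d ⊕ Fin d) ≃ Fin a × Fin b) (P : GL (Fin d ⊕ Fin d) F)
    (f₁ : (Fin a → F) → (Fin a → F) → F) (f₂ : (Fin b → F) → (Fin b → F) → F) (c : F) : Prop :=
  ∀ u v u' v', B₀ (NotMax.ten e P u v) (NotMax.ten e P u' v') = c * f₁ u u' * f₂ v v'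

theorem exists_isTens (hf₁ : Cfsg.Geo.IsBilinearForm f₁) (hf₂ : Cfsg.Geo.IsBilinearForm f₂)
    (hS : Cfsg.Geo.IsTensorFormStructure id (Cfsg.sympForm d F) f₁ f₂ e P) :
    ∃ c, c ≠ 0 ∧ IsTens e P f₁ f₂ c := by
  obtain ⟨c, hc, hT⟩ := hS
  refine ⟨c, hc, fun u v u' v' => ?_⟩
  rw [Forms.sympBilin_apply]
  exact NotMax.form_ten (σ := RingHom.id F) hT
    (NotMax.eq_formOfGram _ hf₁.add_left hf₁.smul_left hf₁.add_right hf₁.smul_right)
    (NotMax.eq_formOfGram _ hf₂.add_left hf₂.smul_left hf₂.add_right hf₂.smul_right) u u' v v'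

/-- The tensor coordinates. -/
def coord (e : (Fin d ⊕ Fin d) ≃ Fin a × Fin b) (P : GL (Fin d ⊕ Fin d) F) :
    (Fin a × Fin b → F) →ₗ[F] Vec d F :=
  (Matrix.toLin' (P : Matrix (Fin d ⊕ Fin d) (Fin d ⊕ Fin d) F)) ∘ₗ LinearMap.funLeft F F e

theorem coord_surjective (z : Vec d F) : ∃ w, coord e P w = z := by
  refine ⟨(((P⁻¹ : GL (Fin d ⊕ Fin d) F) : Matrix (Fin d ⊕ Fin d) (Fin d ⊕ Fin d) F) *ᵥ z) ∘ e.symm, ?_⟩
  have h1 : LinearMap.funLeft F F e ((((P⁻¹ : GL (Fin d ⊕ Fin d) F) : Matrix (Fin d ⊕ Fin d) (Fin d ⊕ Fin d) F) *ᵥ z) ∘ e.symm) =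
      ((P⁻¹ : GL (Fin d ⊕ Fin d) F) : Matrix (Fin d ⊕ Fin d) (Fin d ⊕ Fin d) F) *ᵥ z :=
    funext fun i => by simp [LinearMap.funLeft_apply]
  rw [coord, LinearMap.comp_apply, h1, Matrix.toLin'_apply, Matrix.mulVec_mulVec, ← Units.val_mul, mul_inv_cancel,
    Units.val_one, Matrix.one_mulVec]

theorem coord_single (p : Fin a × Fin b) :
    coord e P (Pi.single p 1) = NotMax.ten e P (Pi.single p.1 1) (Pi.single p.2 1) := by
  rw [coord, LinearMap.comp_apply, Matrix.toLin'_apply, NotMax.ten_apply]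
  congr 1
  funext i
  simp only [LinearMap.funLeft_apply, Function.comp_apply, Pi.single_apply]
  by_cases h1 : (e i).1 = p.1 <;> by_cases h2 : (e i).2 = p.2 <;> simp [Prod.ext_iff, h1, h2]

/-- Membership of a Kronecker product preserving both forms up to inverse factors. -/
theorem exists_mem {c : F} (hT : IsTens e P f₁ f₂ c) (g : GL (Fin a) F) (h : GL (Fin b) F)
    (hiso : ∀ u u' v v', f₁ ((g : Matrix (Fin a) (Fin a) F) *ᵥ u) ((g : Matrix (Fin a) (Fin a) F) *ᵥ u') *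
      f₂ ((h : Matrix (Fin b) (Fin b) F) *ᵥ v) ((h : Matrix (Fin b) (Fin b) F) *ᵥ v') = f₁ u u' * f₂ v v') :
    ∃ x ∈ Cfsg.spGL d F, x ∈ Cfsg.Geo.tensorProductSubgroup a b e P ∧ ∀ u v,
      (x : Matrix (Fin d ⊕ Fin d) (Fin d ⊕ Fin d) F) *ᵥ NotMax.ten e P u v =
        NotMax.ten e P ((g : Matrix (Fin a) (Fin a) F) *ᵥ u) ((h : Matrix (Fin b) (Fin b) F) *ᵥ v) := by
  let k : GL (Fin a × Fin b) F := ⟨(g : Matrix (Fin a) (Fin a) F) ⊗ₖ (h : Matrix (Fin b) (Fin b) F),
    ((g⁻¹ : GL (Fin a) F) : Matrix (Fin a) (Fin a) F) ⊗ₖ ((h⁻¹ : GL (Fin b) F) : Matrix (Fin b) (Fin b) F),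
    by rw [← Matrix.mul_kronecker_mul, ← Units.val_mul, ← Units.val_mul, mul_inv_cancel, mul_inv_cancel,
      Units.val_one, Units.val_one, Matrix.one_kronecker_one],
    by rw [← Matrix.mul_kronecker_mul, ← Units.val_mul, ← Units.val_mul, inv_mul_cancel, inv_mul_cancel,
      Units.val_one, Units.val_one, Matrix.one_kronecker_one]⟩
  have hact := fun u v => action (e := e) (P := P) (k := k) rfl u v
  refine ⟨P * Cfsg.Geo.glReindex e.symm k * P⁻¹, SpGL.mem_iff.2 fun z z' => ?_,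
    ⟨_, ⟨k, ⟨g, h, rfl⟩, rfl⟩, rfl⟩, hact⟩
  generalize P * Cfsg.Geo.glReindex e.symm k * P⁻¹ = x at hact
  set T := Matrix.toLin' (x : Matrix (Fin d ⊕ Fin d) (Fin d ⊕ Fin d) F)
  have key : LinearMap.compl₁₂ B₀ (T ∘ₗ coord e P) (T ∘ₗ coord e P) =
      LinearMap.compl₁₂ B₀ (coord e P) (coord e P) := by
    refine LinearMap.ext_basis (Pi.basisFun F _) (Pi.basisFun F _) fun p p' => ?_
    simp only [Pi.basisFun_apply, LinearMap.compl₁₂_apply, LinearMap.comp_apply, coord_single, T,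
      Matrix.toLin'_apply, hact, hT _ _ _ _, mul_assoc, hiso]
  obtain ⟨w, rfl⟩ := coord_surjective (e := e) (P := P) z
  obtain ⟨w', rfl⟩ := coord_surjective (e := e) (P := P) z'
  rw [← Forms.sympBilin_apply, ← Forms.sympBilin_apply]
  exact LinearMap.congr_fun₂ key w w'

/-- The bilinear map of a bilinear form. -/
def bil {n : ℕ} {f : (Fin n → F) → (Fin n → F) → F} (hf : Cfsg.Geo.IsBilinearForm f) :
    LinearMap.BilinForm F (Fin n → F) :=
  LinearMap.mk₂ F f hf.add_left hf.smul_left (fun m p q => hf.add_right m p q) fun k m p => hf.smul_right k m p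

theorem exists_pair {n : ℕ} (hn : 0 < n) {f : (Fin n → F) → (Fin n → F) → F} (hf : Cfsg.Geo.IsBilinearForm f)
    (hnd : Cfsg.Geo.IsNondegenerateForm f) : ∃ u v, f u v = 1 := by
  obtain ⟨v, hv⟩ := (hnd (Pi.single ⟨0, hn⟩ 1) (by simp)).2
  exact ⟨_, (f (Pi.single ⟨0, hn⟩ 1) v)⁻¹ • v, by rw [hf.smul_right, inv_mul_cancel₀ hv]⟩

theorem pow_isometry {n : ℕ} {f : (Fin n → F) → (Fin n → F) → F} {g : Matrix (Fin n) (Fin n) F} {μ : F}
    (hg : ∀ u u', f (g *ᵥ u) (g *ᵥ u') = μ * f u u') (k : ℕ) :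
    ∀ u u', f ((g ^ k) *ᵥ u) ((g ^ k) *ᵥ u') = μ ^ k * f u u' := by
  induction k with
  | zero => simp
  | succ k ih =>
    intro u u'
    rw [pow_succ, ← Matrix.mulVec_mulVec, ← Matrix.mulVec_mulVec, ih, hg, pow_succ, mul_assoc]

/-- Normalised factors are isometries. -/
theorem both_isometries {r : ℕ} [hr : Fact r.Prime] (ha : 0 < a) (hb : 0 < b) (hf₁ : Cfsg.Geo.IsSymplecticForm f₁)
    (hf₂ : Cfsg.Geo.IsSymmetricForm f₂) (hr1 : ¬ r ∣ Fintype.card F - 1)
    {g : Matrix (Fin a) (Fin a) F} {h : Matrix (Fin b) (Fin b) F} (hg : g ^ r = 1)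
    (hiso : ∀ u u' v v', f₁ (g *ᵥ u) (g *ᵥ u') * f₂ (h *ᵥ v) (h *ᵥ v') = f₁ u u' * f₂ v v') :
    (∀ u u', f₁ (g *ᵥ u) (g *ᵥ u') = f₁ u u') ∧ ∀ v v', f₂ (h *ᵥ v) (h *ᵥ v') = f₂ v v' := by
  obtain ⟨u, u', hu⟩ := exists_pair ha hf₁.bilinear hf₁.nondegenerate
  obtain ⟨v, v', hv⟩ := exists_pair hb hf₂.bilinear hf₂.nondegenerate
  have h1 := hiso u u' v v'
  rw [hu, hv, one_mul] at h1
  have hne : f₂ (h *ᵥ v) (h *ᵥ v') ≠ 0 := fun e => by rw [e, mul_zero] at h1; exact one_ne_zero h1.symm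
  set μ := f₁ (g *ᵥ u) (g *ᵥ u')
  have hμ : ∀ x x', f₁ (g *ᵥ x) (g *ᵥ x') = μ * f₁ x x' := fun x x' => by
    have := hiso x x' v v'
    rw [hv, mul_one] at this
    apply mul_right_cancel₀ hne
    linear_combination this - f₁ x x' * h1
  have hμr : μ ^ r = 1 := by
    have := pow_isometry hμ r u u'
    rw [hg, Matrix.one_mulVec, Matrix.one_mulVec, hu, mul_one] at this
    exact this.symm
  have hμ1 : μ = 1 := by
    have hμ0 : μ ≠ 0 := fun e => by rw [e, zero_pow hr.out.ne_zero] at hμr; exact zero_ne_one hμr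
    have hdvd := Nat.dvd_gcd (orderOf_dvd_of_pow_eq_one hμr)
      (orderOf_dvd_of_pow_eq_one (FiniteField.pow_card_sub_one_eq_one μ hμ0))
    rw [(hr.out.coprime_iff_not_dvd.2 hr1).gcd_eq_one, Nat.dvd_one] at hdvd
    exact orderOf_eq_one_iff.1 hdvd
  refine ⟨fun x x' => by rw [hμ, hμ1, one_mul], fun x x' => ?_⟩
  have := hiso u u' x x'
  rw [show f₁ (g *ᵥ u) (g *ᵥ u') = μ from rfl, hμ1, one_mul, hu, one_mul] at this
  exact this

theorem toLin_pow_one {n : ℕ} {A : Matrix (Fin n) (Fin n) F} {r : ℕ} (h : A ^ r = 1) : Matrix.toLin' A ^ r = 1 := by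
  rw [← Matrix.toLin'_pow, h, Matrix.toLin'_one]
  rfl

theorem dvd_rank_symp {r : ℕ} [Fact r.Prime] (hrF : (r : F) ≠ 0) (hf₁ : Cfsg.Geo.IsSymplecticForm f₁)
    {g : Matrix (Fin a) (Fin a) F} (hg : g ^ r = 1) (hiso : ∀ u u', f₁ (g *ᵥ u) (g *ᵥ u') = f₁ u u') {i c : ℕ}
    (hi : i = orderOf (Fintype.card F : ZMod r)) (hc : c = if Even i then i else 2 * i) :
    c ∣ (g - (1 : F) • 1).rank := by
  have := SympInv.dvd_moved (B := bil hf₁.bilinear) (T := Matrix.toLin' g) (fun u => hf₁.alternating u)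
    (fun u v => by simp only [Matrix.toLin'_apply]; exact hiso u v) hrF (toLin_pow_one hg) hi hc (W := ⊤) (by simp)
    fun u _ h => by
      by_contra hne
      obtain ⟨v, hv⟩ := (hf₁.nondegenerate u hne).2
      exact hv (h v Submodule.mem_top)
  rwa [Submodule.map_top, ← rank_sub_one] at this

theorem dvd_rank_orth {r : ℕ} [Fact r.Prime] (hrF : (r : F) ≠ 0) (hodd : Odd r) (hf₂ : Cfsg.Geo.IsSymmetricForm f₂)
    {h : Matrix (Fin b) (Fin b) F} (hh : h ^ r = 1) (hiso : ∀ u u', f₂ (h *ᵥ u) (h *ᵥ u') = f₂ u u') {i c : ℕ}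
    (hi : i = orderOf (Fintype.card F : ZMod r)) (hc : c = if Even i then i else 2 * i) :
    c ∣ (h - (1 : F) • 1).rank := by
  have := dvd_moved_orth hrF hodd (bil hf₂.bilinear) (fun u v => hf₂.symm u v) (fun u hu => by
      by_contra hne
      obtain ⟨v, hv⟩ := (hf₂.nondegenerate u hne).2
      exact hv (hu v)) (T := Matrix.toLin' h)
    (fun u v => by simp only [Matrix.toLin'_apply]; exact hiso u v) (toLin_pow_one hh) hi hc
  rwa [← rank_sub_one] at this

theorem eq_one_of_rank {n : ℕ} {A : Matrix (Fin n) (Fin n) F} (h : (A - (1 : F) • 1).rank = 0) : A = 1 := by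
  rw [rank_sub_one, Submodule.finrank_eq_zero, LinearMap.range_eq_bot, sub_eq_zero] at h
  exact Matrix.toLin'.injective (h.trans Matrix.toLin'_one.symm)

/-- An element moving the least possible number of dimensions is outside the stabiliser. -/
theorem not_mem_small {r : ℕ} [hr : Fact r.Prime] (hodd : Odd r) (hrF : (r : F) ≠ 0) (ha2 : 2 ≤ a) (hb : 3 ≤ b)
    (hf₁ : Cfsg.Geo.IsSymplecticForm f₁) (hf₂ : Cfsg.Geo.IsSymmetricForm f₂) {c₀ : F} (hc₀ : c₀ ≠ 0)
    (hT : IsTens e P f₁ f₂ c₀) {i c : ℕ} (hi : i = orderOf (Fintype.card F : ZMod r))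
    (hc : c = if Even i then i else 2 * i) (hc0 : 0 < c)
    {y : GL (Fin d ⊕ Fin d) F} (hy : y ∈ Cfsg.spGL d F) (hyr : y ^ r = 1)
    (hrank : ((y : Matrix (Fin d ⊕ Fin d) (Fin d ⊕ Fin d) F) - (1 : F) • 1).rank = c) :
    y ∉ Cfsg.Geo.tensorProductSubgroup a b e P := by
  intro hm
  obtain ⟨g, h, hr1, hr2, hr3⟩ := data hm
  have hiso : ∀ u u' v v', f₁ ((g : Matrix (Fin a) (Fin a) F) *ᵥ u) ((g : Matrix (Fin a) (Fin a) F) *ᵥ u') *
      f₂ ((h : Matrix (Fin b) (Fin b) F) *ᵥ v) ((h : Matrix (Fin b) (Fin b) F) *ᵥ v') = f₁ u u' * f₂ v v' := by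
    intro u u' v v'
    have e1 := SpGL.mem_iff.1 hy (NotMax.ten e P u v) (NotMax.ten e P u' v')
    rw [hr3, hr3, ← Forms.sympBilin_apply, ← Forms.sympBilin_apply, hT, hT, mul_assoc, mul_assoc] at e1
    exact mul_left_cancel₀ hc₀ e1
  have hgh := hr2 r hyr
  have hrk := hr1 1
  rw [hrank] at hrk
  by_cases hg : ∃ s : F, (g : Matrix (Fin a) (Fin a) F) = s • 1
  · obtain ⟨s, hs⟩ := hg
    set N := s • (h : Matrix (Fin b) (Fin b) F) with hN
    have hNr : N ^ r = 1 := by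
      rw [hs, smul_pow, one_pow, Matrix.smul_kronecker, ← Matrix.kronecker_smul, ← smul_pow, ← hN] at hgh
      ext l l'
      have := congrFun (congrFun hgh (⟨0, by omega⟩, l)) (⟨0, by omega⟩, l')
      simpa [Matrix.kroneckerMap_apply, Matrix.one_apply] using this
    have hNiso : ∀ v v', f₂ (N *ᵥ v) (N *ᵥ v') = f₂ v v' := by
      obtain ⟨u, u', hu⟩ := exists_pair (by omega) hf₁.bilinear hf₁.nondegenerate
      intro v v'
      have := hiso u u' v v'
      rw [hs, Matrix.smul_mulVec, Matrix.one_mulVec, Matrix.smul_mulVec, Matrix.one_mulVec,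
        hf₁.bilinear.smul_left, hf₁.bilinear.smul_right, hu] at this
      rw [hN, Matrix.smul_mulVec, Matrix.smul_mulVec, hf₂.bilinear.smul_left, hf₂.bilinear.smul_right]
      linear_combination this
    obtain ⟨k, hk⟩ := dvd_rank_orth hrF hodd hf₂ hNr hNiso hi hc
    rw [hs, rank_smul_kronecker, ← hN, hk] at hrk
    rcases Nat.eq_zero_or_pos k with rfl | hk0
    · simp at hrk; omega
    · have : 2 * c ≤ a * (c * k) := Nat.mul_le_mul ha2 (Nat.le_mul_of_pos_right c hk0)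
      omega
  push Not at hg
  have hbc : b ≤ c := hrk ▸ TensorRank.le_rank_of_nonscalar hg h 1
  have hq1 : ¬ r ∣ Fintype.card F - 1 := fun hd => by
    have : i = 1 := by
      rw [hi, orderOf_eq_one_iff, ← Nat.cast_one]
      exact ((ZMod.natCast_eq_natCast_iff' 1 _ r).2
        ((Nat.modEq_iff_dvd' (Fintype.card_pos (α := F))).2 hd)).symm
    rw [this, if_neg (by decide)] at hc
    omega
  obtain ⟨s, hs⟩ : ∃ s : F, (g : Matrix (Fin a) (Fin a) F) ^ r = s • 1 := by
    refine ⟨(((h : Matrix (Fin b) (Fin b) F) ^ r) ⟨0, by omega⟩ ⟨0, by omega⟩)⁻¹, Matrix.ext fun p p' => ?_⟩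
    have h1 := congrFun (congrFun hgh (p, ⟨0, by omega⟩)) (p', ⟨0, by omega⟩)
    have h0 := congrFun (congrFun hgh (p, ⟨0, by omega⟩)) (p, ⟨0, by omega⟩)
    simp only [Matrix.kroneckerMap_apply, Matrix.one_apply_eq] at h0
    simp only [Matrix.kroneckerMap_apply, Matrix.one_apply, Prod.mk.injEq, and_true] at h1
    rw [Matrix.smul_apply, Matrix.one_apply, smul_eq_mul]
    have hne := right_ne_zero_of_mul_eq_one h0
    split_ifs at h1 ⊢
    · rw [mul_one]; exact eq_inv_of_mul_eq_one_left h1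
    · rw [mul_zero]; exact (mul_eq_zero.1 h1).resolve_right hne
  obtain ⟨w, hw⟩ := Inv.exists_root_of_not_dvd hq1 (z := s)
  have hw0 : w ≠ 0 := fun e => by
    rw [e, zero_pow hr.out.ne_zero] at hw
    rw [← hw, zero_smul, ← Units.val_pow_eq_pow_val] at hs
    haveI : Nonempty (Fin a) := ⟨⟨0, by omega⟩⟩
    exact Units.ne_zero _ hs
  set g' := w⁻¹ • (g : Matrix (Fin a) (Fin a) F) with hg'
  set h' := w • (h : Matrix (Fin b) (Fin b) F) with hh'
  have hg'r : g' ^ r = 1 := by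
    rw [hg', smul_pow, hs, smul_smul, ← hw, ← mul_pow, inv_mul_cancel₀ hw0, one_pow, one_smul]
  have hh'r : h' ^ r = 1 := by
    have e1 : (g' ^ r) ⊗ₖ (h' ^ r) = 1 := by
      rw [hg', hh', smul_pow, smul_pow, Matrix.smul_kronecker, Matrix.kronecker_smul, smul_smul, ← mul_pow,
        inv_mul_cancel₀ hw0, one_pow, one_smul, hgh]
    rw [hg'r] at e1
    ext l l'
    have := congrFun (congrFun e1 (⟨0, by omega⟩, l)) (⟨0, by omega⟩, l')
    simpa [Matrix.kroneckerMap_apply, Matrix.one_apply] using this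
  obtain ⟨hi1, hi2⟩ := both_isometries (by omega) (by omega) hf₁ hf₂ hq1 (g := g') (h := h') hg'r
    fun u u' v v' => by
      rw [hg', hh', Matrix.smul_mulVec, Matrix.smul_mulVec, Matrix.smul_mulVec, Matrix.smul_mulVec,
        hf₁.bilinear.smul_left, hf₁.bilinear.smul_right, hf₂.bilinear.smul_left, hf₂.bilinear.smul_right, ← hiso]
      field_simp
  obtain ⟨k, hk⟩ := dvd_rank_symp hrF hf₁ hg'r hi1 hi hc
  have hk0 : 0 < k := Nat.pos_of_ne_zero fun e => by
    rw [e, mul_zero] at hk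
    refine hg w ?_
    have := eq_one_of_rank hk
    rw [hg', inv_smul_eq_iff₀ hw0] at this
    exact this
  have hca : c ≤ a := by
    have h1 := Matrix.rank_le_card_height (g' - (1 : F) • 1)
    rw [Fintype.card_fin, hk] at h1
    exact le_trans (Nat.le_mul_of_pos_right c hk0) h1
  obtain ⟨l, hl⟩ := dvd_rank_orth hrF hodd hf₂ hh'r hi2 hi hc
  rcases Nat.eq_zero_or_pos l with rfl | hl0
  · rw [mul_zero] at hl
    have hh1 : (h : Matrix (Fin b) (Fin b) F) = w⁻¹ • 1 := by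
      rw [← eq_one_of_rank hl, hh', inv_smul_smul₀ hw0]
    rw [hh1, rank_kronecker_smul, ← hg', hk] at hrk
    have : 3 * c ≤ b * (c * k) := Nat.mul_le_mul hb (Nat.le_mul_of_pos_right c hk0)
    omega
  have hcb : c ≤ b := by
    have h1 := Matrix.rank_le_card_height (h' - (1 : F) • 1)
    rw [Fintype.card_fin, hl] at h1
    exact le_trans (Nat.le_mul_of_pos_right c hl0) h1
  have := lt_rank_of_nonscalar (by omega) hg h (fun t ht => ?_) (one_ne_zero (α := F))
  · omega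
  · have e1 : ∀ t : F, t ^ r = 1 → t = 1 := fun t ht => by
      have ht0 : t ≠ 0 := fun e => by rw [e, zero_pow hr.out.ne_zero] at ht; exact zero_ne_one ht
      have hdvd := Nat.dvd_gcd (orderOf_dvd_of_pow_eq_one ht)
        (orderOf_dvd_of_pow_eq_one (FiniteField.pow_card_sub_one_eq_one t ht0))
      rw [(hr.out.coprime_iff_not_dvd.2 hq1).gcd_eq_one, Nat.dvd_one] at hdvd
      exact orderOf_eq_one_iff.1 hdvd
    have hwt : h' = (w * t) • 1 := by rw [hh', ht, smul_smul]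
    have hwt1 : (w * t) ^ r = 1 := by
      have := congrFun (congrFun (show ((w * t) • (1 : Matrix (Fin b) (Fin b) F)) ^ r = 1 from hwt ▸ hh'r)
        ⟨0, by omega⟩) ⟨0, by omega⟩
      simpa [smul_pow] using this
    rw [hwt, e1 _ hwt1, one_smul, sub_self, Matrix.rank_zero] at hl
    have : 0 < c * l := Nat.mul_pos hc0 hl0
    omega

theorem c_le {r : ℕ} [hr : Fact r.Prime] (hrq : ¬ r ∣ Fintype.card F) (hdvd : r ∣ Nat.card ↥(Cfsg.spGL d F))
    {i c : ℕ} (hi : i = orderOf (Fintype.card F : ZMod r)) (hc : c = if Even i then i else 2 * i) :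
    0 < i ∧ c ≤ 2 * d := by
  have hne : (Fintype.card F : ZMod r) ≠ 0 := fun e => hrq ((ZMod.natCast_eq_zero_iff _ _).1 e)
  have hipos : 0 < i := hi ▸ orderOf_pos_iff.2 (isOfFinOrder_iff_pow_eq_one.2
    ⟨r - 1, by have := hr.out.two_le; omega, ZMod.pow_card_sub_one_eq_one hne⟩)
  refine ⟨hipos, ?_⟩
  rw [SpGL.card_spGL (q := Fintype.card F) rfl] at hdvd
  rcases hr.out.dvd_mul.1 hdvd with h | h
  · exact absurd (hr.out.dvd_of_dvd_pow h) hrq
  obtain ⟨j, hj, hjd⟩ := (Prime.dvd_finsetProd_iff hr.out.prime _).1 h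
  rw [Finset.mem_range] at hj
  have h0 := (ZMod.natCast_eq_zero_iff _ r).2 hjd
  rw [Nat.cast_sub (Nat.one_le_pow _ _ Fintype.card_pos), sub_eq_zero, Nat.cast_pow, Nat.cast_one] at h0
  have hdv : i ∣ 2 * (j + 1) := hi ▸ orderOf_dvd_of_pow_eq_one h0
  rw [hc]
  split_ifs with he
  · have := Nat.le_of_dvd (by omega) hdv; omega
  · have := Nat.le_of_dvd (by omega)
      ((Nat.coprime_two_right.2 (Nat.not_even_iff_odd.1 he)).dvd_of_dvd_mul_left hdv)
    omega

theorem rank_conj_inv (x g : GL (Fin d ⊕ Fin d) F) :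
    (((g⁻¹ * x * g : GL (Fin d ⊕ Fin d) F) : Matrix (Fin d ⊕ Fin d) (Fin d ⊕ Fin d) F) - (1 : F) • 1).rank =
      ((x : Matrix (Fin d ⊕ Fin d) (Fin d ⊕ Fin d) F) - (1 : F) • 1).rank := by
  rw [Units.val_mul, Units.val_mul]
  have := TensorRank.rank_conj g⁻¹ (x : Matrix (Fin d ⊕ Fin d) (Fin d ⊕ Fin d) F) 1
  rwa [inv_inv] at this

/-- A symplectic transvection. -/
theorem exists_transvection (hd : 0 < d) {r : ℕ} [Fact r.Prime] (hrF : (r : F) = 0) :
    ∃ x ∈ Cfsg.spGL d F, x ^ r = 1 ∧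
      ((x : Matrix (Fin d ⊕ Fin d) (Fin d ⊕ Fin d) F) - (1 : F) • 1).rank = 1 := by
  set a₀ : Vec d F := Symplectic.eI ⟨0, hd⟩
  let N : Module.End F (Vec d F) := (B₀ a₀).smulRight a₀
  have hN : ∀ v, N v = B₀ a₀ v • a₀ := fun v => rfl
  have ha0 : a₀ ≠ 0 := fun h => by
    have := Symplectic.sympForm_fI_eI (F := F) (⟨0, hd⟩ : Fin d)
    rw [show Symplectic.eI (F := F) (⟨0, hd⟩ : Fin d) = a₀ from rfl, h] at this
    simp at this
  have haa : B₀ a₀ a₀ = 0 := Forms.sympBilin_isAlt a₀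
  have hpow : ∀ n : ℕ, (1 + N) ^ n = 1 + (n : F) • N := by
    intro n
    have hNN : N * N = 0 := LinearMap.ext fun v => by simp [hN, haa]
    induction n with
    | zero => simp
    | succ n ih =>
      rw [pow_succ, ih, add_mul, one_mul, smul_mul_assoc, mul_add, mul_one, hNN, add_zero, Nat.cast_succ,
        add_smul, one_smul]
      abel
  have hTr : (1 + N) ^ r = 1 := by rw [hpow, hrF, zero_smul, add_zero]
  have hTiso : ∀ u v, Cfsg.sympForm d F ((1 + N) u) ((1 + N) v) = Cfsg.sympForm d F u v := fun u v => by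
    simp only [← Forms.sympBilin_apply, LinearMap.add_apply, Module.End.one_apply, hN, map_add, map_smul,
      LinearMap.smul_apply, smul_eq_mul, haa, ← LinearMap.IsAlt.neg (B := B₀) Forms.sympBilin_isAlt a₀ u]
    ring
  set x := SpGL.equivSp.symm (Forms.spOfLinearMap (1 + N) hTiso)
  have hxT : Matrix.toLin' (x.1 : Matrix (Fin d ⊕ Fin d) (Fin d ⊕ Fin d) F) = 1 + N :=
    Matrix.toLin'_toMatrix' _
  refine ⟨x.1, x.2, Units.ext (Matrix.toLin'.injective ?_), ?_⟩
  · rw [Units.val_pow_eq_pow_val, Units.val_one, Matrix.toLin'_pow, hxT, hTr, Matrix.toLin'_one]; rfl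
  · rw [rank_sub_one, hxT, add_sub_cancel_left]
    obtain ⟨w, hw⟩ : ∃ w, B₀ a₀ w ≠ 0 := by
      by_contra hn; push Not at hn; exact ha0 (Forms.sympBilin_nondegenerate.1 a₀ hn)
    have : LinearMap.range N = F ∙ a₀ := by
      refine le_antisymm ?_ ?_
      · rintro _ ⟨v, rfl⟩; exact Submodule.mem_span_singleton.2 ⟨_, (hN v).symm⟩
      · rw [Submodule.span_singleton_le_iff_mem]
        exact ⟨(B₀ a₀ w)⁻¹ • w, by rw [hN, map_smul, smul_eq_mul, inv_mul_cancel₀ hw, one_smul]⟩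
    rw [this, finrank_span_singleton ha0]

theorem exists_small {r : ℕ} [Fact r.Prime] (hrF : (r : F) ≠ 0) {i c : ℕ}
    (hi : i = orderOf (Fintype.card F : ZMod r)) (hc : c = if Even i then i else 2 * i) (hipos : 0 < i)
    (hcd : c ≤ 2 * d) : ∃ x ∈ Cfsg.spGL d F, x ^ r = 1 ∧
      ((x : Matrix (Fin d ⊕ Fin d) (Fin d ⊕ Fin d) F) - (1 : F) • 1).rank = c := by
  obtain ⟨x₀, hx₀r, hx₀k⟩ := SympInv.exists_elt hrF hi hc hipos 1 (d := d) (by omega)
  set x := SpGL.equivSp.symm x₀ with hx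
  have hxcoe : ((x.1 : GL (Fin d ⊕ Fin d) F) : Matrix (Fin d ⊕ Fin d) (Fin d ⊕ Fin d) F) = x₀.1 := rfl
  refine ⟨x.1, x.2, Units.ext (by rw [Units.val_pow_eq_pow_val, hxcoe, ← SubmonoidClass.coe_pow, hx₀r]; rfl), ?_⟩
  rw [rank_sub_one, hxcoe, show Matrix.toLin' (x₀ : Matrix (Fin d ⊕ Fin d) (Fin d ⊕ Fin d) F) - 1 = SympInv.lin x₀ - 1 from rfl]
  have h := LinearMap.finrank_range_add_finrank_ker (SympInv.lin x₀ - 1)
  rw [hx₀k, Module.finrank_pi, Fintype.card_sum, Fintype.card_fin, one_mul] at h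
  have : finrank F (LinearMap.range (SympInv.lin x₀ - 1)) = c := by omega
  exact this

theorem alt_two {f : (Fin 2 → F) → (Fin 2 → F) → F} (hf : Cfsg.Geo.IsSymplecticForm f) (u v : Fin 2 → F) :
    f u v = (u 0 * v 1 - u 1 * v 0) * f (Pi.single 0 1) (Pi.single 1 1) := by
  have hu : ∀ u : Fin 2 → F, u = u 0 • (Pi.single 0 1 : Fin 2 → F) + u 1 • (Pi.single 1 1 : Fin 2 → F) := fun u => by
    funext k; fin_cases k <;> simp
  conv_lhs => rw [hu u, hu v]
  simp only [hf.bilinear.add_left, hf.bilinear.add_right, hf.bilinear.smul_left, hf.bilinear.smul_right,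
    hf.alternating, hf.skew (Pi.single 1 1) (Pi.single 0 1)]
  ring

/-- Involutions modulo scalars are conjugate into the stabiliser for `a = 2`. -/
theorem invol_two (hab : 2 * d = 2 * b) (h2 : (2 : F) ≠ 0) {e : (Fin d ⊕ Fin d) ≃ Fin 2 × Fin b}
    {f₁ : (Fin 2 → F) → (Fin 2 → F) → F} (hf₁ : Cfsg.Geo.IsSymplecticForm f₁) (hf₂ : Cfsg.Geo.IsSymmetricForm f₂)
    {c₀ : F} (hc₀ : c₀ ≠ 0) (hT : IsTens e P f₁ f₂ c₀) {x : GL (Fin d ⊕ Fin d) F} (hx : x ∈ Cfsg.spGL d F) {z : F}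
    (hz : z = 1 ∨ z = -1) (hxz : (x : Matrix (Fin d ⊕ Fin d) (Fin d ⊕ Fin d) F) * x = z • 1) :
    ∃ g ∈ Cfsg.spGL d F, g⁻¹ * x * g ∈ Cfsg.Geo.tensorProductSubgroup 2 b e P := by
  obtain rfl : d = b := by omega
  have hiso : ∀ (y : GL (Fin d ⊕ Fin d) F), y ∈ Cfsg.spGL d F → ∀ u v,
      B₀ (Matrix.toLin' (y : Matrix (Fin d ⊕ Fin d) (Fin d ⊕ Fin d) F) u)
        (Matrix.toLin' (y : Matrix (Fin d ⊕ Fin d) (Fin d ⊕ Fin d) F) v) = B₀ u v := fun y hy u v => by
    rw [Forms.sympBilin_apply, Forms.sympBilin_apply]; exact SpGL.mem_iff.1 hy u v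
  have hsq : ∀ {y : GL (Fin d ⊕ Fin d) F}, (y : Matrix (Fin d ⊕ Fin d) (Fin d ⊕ Fin d) F) * y = z • 1 → ∀ v,
      Matrix.toLin' (y : Matrix (Fin d ⊕ Fin d) (Fin d ⊕ Fin d) F)
        (Matrix.toLin' (y : Matrix (Fin d ⊕ Fin d) (Fin d ⊕ Fin d) F) v) = z • v := fun hy v => by
    rw [← Matrix.toLin'_mul_apply, hy, map_smul, Matrix.toLin'_one]; rfl
  obtain ⟨u₀, u₁, hu⟩ := exists_pair two_pos hf₁.bilinear hf₁.nondegenerate
  rcases hz with rfl | rfl
  · obtain ⟨ε, p, p', hp, hε, hxp⟩ := exists_fam_one h2 (hiso x hx) fun v => by rw [hsq hxz, one_smul]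
    haveI := invertibleOfNonzero h2
    obtain ⟨v₀, hv₀⟩ := LinearMap.BilinForm.exists_orthogonal_basis (B := bil hf₂.bilinear)
      ⟨fun u v => hf₂.symm u v⟩
    set v := v₀.reindex (finCongr (Module.finrank_fin_fun F)) with hv
    have horth : ∀ i j, i ≠ j → f₂ (v i) (v j) = 0 := fun i j hij => by
      rw [hv, Basis.reindex_apply, Basis.reindex_apply]
      exact hv₀ fun h => hij ((finCongr (Module.finrank_fin_fun F)).symm.injective h)
    have hne : ∀ i, f₂ (v i) (v i) ≠ 0 := fun i h0 => by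
      obtain ⟨y, hy⟩ := (hf₂.nondegenerate (v i) (v.ne_zero i)).2
      refine hy ?_
      have : bil hf₂.bilinear (v i) = 0 := v.ext fun j => by
        rcases eq_or_ne i j with rfl | hij
        · exact h0
        · exact horth i j hij
      exact LinearMap.congr_fun this y
    set R := v.constr F fun j => ε j • v j with hR
    have hRv : ∀ j, R (v j) = ε j • v j := fun j => v.constr_basis F _ j
    have hRR : R * R = 1 := v.ext fun j => by
      rw [Module.End.mul_apply, hRv, map_smul, hRv, smul_smul, hε, one_smul, Module.End.one_apply]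
    have hRiso : ∀ y y', f₂ (R y) (R y') = f₂ y y' := by
      have : LinearMap.compl₁₂ (bil hf₂.bilinear) R R = bil hf₂.bilinear := LinearMap.ext_basis v v fun i j => by
        rw [LinearMap.compl₁₂_apply, hRv, hRv, map_smul, map_smul, LinearMap.smul_apply, smul_eq_mul, smul_eq_mul]
        rcases eq_or_ne i j with rfl | hij
        · rw [← mul_assoc, hε, one_mul]
        · show ε j * (ε i * f₂ (v i) (v j)) = f₂ (v i) (v j)
          rw [horth i j hij, mul_zero, mul_zero]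
      exact fun y y' => LinearMap.congr_fun₂ this y y'
    have hM : LinearMap.toMatrix' R * LinearMap.toMatrix' R = 1 := by
      rw [← LinearMap.toMatrix'_mul, hRR, LinearMap.toMatrix'_one]
    obtain ⟨y, hy, hyH, hyt⟩ := exists_mem hT 1 (⟨_, _, hM, hM⟩ : GL (Fin d) F) fun u u' w w' => by
      simp only [Units.val_one, Matrix.one_mulVec, LinearMap.toMatrix'_mulVec, hRiso]
    set s : Fin d → F := fun j => (c₀ * f₂ (v j) (v j))⁻¹
    have hfam : Fam (fun j => NotMax.ten e P u₀ (v j)) (fun j => NotMax.ten e P u₁ (s j • v j)) := by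
      refine ⟨fun i j => ?_, fun i j => ?_, fun i j => ?_⟩
      · rw [hT, hu, hf₂.bilinear.smul_right, mul_one]
        split_ifs with h
        · subst h
          rw [mul_left_comm, inv_mul_cancel₀ (mul_ne_zero hc₀ (hne i))]
        · rw [horth i j h, mul_zero, mul_zero]
      · rw [hT, hf₁.alternating, mul_zero, zero_mul]
      · rw [hT, hf₁.alternating, mul_zero, zero_mul]
    obtain ⟨g, hg, hgx⟩ := conj_of_fam hp hfam (x := x) (x' := y) id (Sum.elim ε ε) (by
        rintro (i | i) <;> simp only [Sum.elim_inl, Sum.elim_inr, id]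
        · exact (hxp i).1
        · exact (hxp i).2) (by
        rintro (i | i) <;>
          simp only [Sum.elim_inl, Sum.elim_inr, id, hyt, Units.val_one, Matrix.one_mulVec, Units.val_mk,
            LinearMap.toMatrix'_mulVec, Matrix.mulVec_smul, map_smul, hRv, smul_comm (s i)])
    exact ⟨g, hg, hgx ▸ hyH⟩
  · set J : Matrix (Fin 2) (Fin 2) F := !![0, 1; -1, 0]
    have hJJ : J * J = -1 := by
      ext k l; fin_cases k <;> fin_cases l <;> simp [J, Matrix.mul_apply, Fin.sum_univ_two, Matrix.one_apply]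
    obtain ⟨y, hy, hyH, hyt⟩ := exists_mem hT (⟨J, -J, by rw [mul_neg, hJJ, neg_neg], by rw [neg_mul, hJJ, neg_neg]⟩ :
        GL (Fin 2) F) 1 fun u u' w w' => by
      simp only [Units.val_one, Matrix.one_mulVec, Units.val_mk]
      congr 1
      rw [alt_two hf₁, alt_two hf₁ u]
      congr 1
      simp [J, Matrix.mulVec, dotProduct, Fin.sum_univ_two]
      ring
    have hyy : (y : Matrix (Fin d ⊕ Fin d) (Fin d ⊕ Fin d) F) * y = (-1 : F) • 1 := by
      refine Matrix.toLin'.injective (LinearMap.ext fun v => ?_)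
      suffices hall : ∀ u' w', (y : Matrix (Fin d ⊕ Fin d) (Fin d ⊕ Fin d) F) *ᵥ ((y : Matrix (Fin d ⊕ Fin d) (Fin d ⊕ Fin d) F) *ᵥ
          NotMax.ten e P u' w') = -NotMax.ten e P u' w' by
        obtain ⟨t, rfl⟩ := coord_surjective (e := e) (P := P) v
        refine LinearMap.congr_fun (?_ : Matrix.toLin' ((y : Matrix (Fin d ⊕ Fin d) (Fin d ⊕ Fin d) F) * (y : Matrix (Fin d ⊕ Fin d) (Fin d ⊕ Fin d) F)) ∘ₗ coord e P =
          Matrix.toLin' ((-1 : F) • (1 : Matrix (Fin d ⊕ Fin d) (Fin d ⊕ Fin d) F)) ∘ₗ coord e P) t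
        refine (Pi.basisFun F _).ext fun q => ?_
        rw [Pi.basisFun_apply, LinearMap.comp_apply, LinearMap.comp_apply, coord_single, Matrix.toLin'_mul_apply,
          Matrix.toLin'_apply, Matrix.toLin'_apply, hall]
        simp
      intro u' w'
      rw [hyt, hyt]
      simp only [Units.val_mk, Units.val_one, Matrix.one_mulVec, Matrix.mulVec_mulVec, hJJ, Matrix.neg_mulVec,
        map_neg, LinearMap.neg_apply]
    obtain ⟨p, hp⟩ := exists_fam_neg h2 (hiso x hx) fun v => by rw [hsq hxz, neg_one_smul]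
    obtain ⟨p₂, hp₂⟩ := exists_fam_neg h2 (hiso y hy) fun v => by rw [hsq hyy, neg_one_smul]
    obtain ⟨g, hg, hgx⟩ := conj_of_fam hp hp₂ (x := x) (x' := y) Sum.swap (Sum.elim (fun _ => 1) fun _ => -1)
      (by
        rintro (i | i)
        · simp [Matrix.toLin'_apply]
        · simp only [Sum.elim_inr, Sum.swap_inr, Sum.elim_inl, neg_one_smul]
          rw [← Matrix.toLin'_apply, hsq hxz, neg_one_smul])
      (by
        rintro (i | i)
        · simp [Matrix.toLin'_apply]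
        · simp only [Sum.elim_inr, Sum.swap_inr, Sum.elim_inl, neg_one_smul]
          rw [← Matrix.toLin'_apply, hsq hyy, neg_one_smul])
    exact ⟨g, hg, hgx ▸ hyH⟩


/-- The two rank obstructions. -/
theorem not_mem_of_rank {k : ℕ} (hkb : k < b) (hka : ¬ a ∣ k) {y : GL (Fin d ⊕ Fin d) F}
    (hk : ((y : Matrix (Fin d ⊕ Fin d) (Fin d ⊕ Fin d) F) - (1 : F) • 1).rank = k) :
    y ∉ Cfsg.Geo.tensorProductSubgroup a b e P := fun hm => by
  obtain ⟨g, h, hr1, -, -⟩ := data hm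
  have hrk := hr1 1
  rw [hk] at hrk
  by_cases hg : ∃ s : F, (g : Matrix (Fin a) (Fin a) F) = s • 1
  · obtain ⟨s, hs⟩ := hg
    rw [hs, rank_smul_kronecker] at hrk
    exact hka ⟨_, hrk⟩
  · push Not at hg
    have := TensorRank.le_rank_of_nonscalar hg h 1
    omega


/-- Elements of prime order of PSp_n(q), q odd, and the stabilizers of tensor decompositions Sp_a(q) ⊗ O_b(q). Here `T = PSp_{2d}(F)` for a field `F` with `q` elements, `q` odd, `d ≥ 2`, realised through the matrices preserving the standard alternating form `f`; `2d = a·b` with `a` even, `b ≥ 3`, and the bijection `e` and change of basis `P` exhibit `f` as a non-zero scalar multiple of the tensor product of a non-degenerate alternating form `f₁` on `F^a` and a non-degenerate symmetric bilinear form `f₂` on `F^b`; `H` is the subgroup of `T` stabilizing this tensor decomposition (the elements of `T` in the conjugate by `P` of the group of Kronecker products) — a subgroup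 of type Sp_a(q) ⊗ O^ε_b(q) (maximality is not assumed). Ω is the set of cosets of `H` in `T`, so an element of `T` of prime order `r` (`x ∈ T` with `x^r` scalar, `x` not scalar) fixes a point of Ω exactly when some `T`-conjugate of `x` lies in `H`. Let `r` be a prime dividing the index of `H`. Then every element of `T` of order `r` fixes a point of Ω if and only if `r = 2` and `a = 2`. -/
theorem result {F : Type*} [Field F] [Fintype F] {p : ℕ} [Fact p.Prime] [CharP F p] {q : ℕ} (hq : Fintype.card F = q)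
    (hodd : Odd q) (d : ℕ) (hd : 2 ≤ d) (a b : ℕ) (hab : 2 * d = a * b) (ha : Even a) (ha2 : 2 ≤ a) (hb : 3 ≤ b)
    (e : (Fin d ⊕ Fin d) ≃ Fin a × Fin b) (P : GL (Fin d ⊕ Fin d) F)
    (f₁ : (Fin a → F) → (Fin a → F) → F) (f₂ : (Fin b → F) → (Fin b → F) → F)
    (hf₁ : Cfsg.Geo.IsSymplecticForm f₁) (hf₂ : Cfsg.Geo.IsSymmetricForm f₂)
    (hS : Cfsg.Geo.IsTensorFormStructure id (Cfsg.sympForm d F) f₁ f₂ e P)
    (r : ℕ) [Fact r.Prime]
    (hΩ : r ∣ (Cfsg.Geo.tensorProductSubgroup a b e P).relIndex (Cfsg.spGL d F)) :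
    (∀ x ∈ Cfsg.spGL d F, (∃ z : F, ((x ^ r : GL (Fin d ⊕ Fin d) F) : Matrix (Fin d ⊕ Fin d) (Fin d ⊕ Fin d) F) = z • (1 : Matrix (Fin d ⊕ Fin d) (Fin d ⊕ Fin d) F)) →
      (∀ z : F, (x : Matrix (Fin d ⊕ Fin d) (Fin d ⊕ Fin d) F) ≠ z • (1 : Matrix (Fin d ⊕ Fin d) (Fin d ⊕ Fin d) F)) →
      ∃ g ∈ Cfsg.spGL d F, g⁻¹ * x * g ∈ Cfsg.Geo.tensorProductSubgroup a b e P) ↔ (r = 2 ∧ a = 2) := by
  classical
  obtain rfl : Fintype.card F = q := hq
  obtain ⟨c₀, hc₀, hT⟩ := exists_isTens hf₁.bilinear hf₂.bilinear hS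
  have h2 : (2 : F) ≠ 0 := Cfsg.Agent.UnitaryOrthogonal.two_ne_zero_of_card_odd hodd
  have hr : r.Prime := Fact.out
  have hzz : ∀ y ∈ Cfsg.spGL d F, ∀ z : F,
      (y : Matrix (Fin d ⊕ Fin d) (Fin d ⊕ Fin d) F) = z • 1 → z * z = 1 := by
    intro y hy z hz
    obtain ⟨w, hw⟩ : ∃ w, Cfsg.sympForm d F (Pi.single (Sum.inl ⟨0, by omega⟩) 1) w ≠ 0 := by
      by_contra hn; push Not at hn
      have := Forms.sympForm_left_cancel hn
      simp at this
    have h3 := SpGL.mem_iff.1 hy (Pi.single (Sum.inl ⟨0, by omega⟩) 1) w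
    rw [hz, Matrix.smul_mulVec, Matrix.one_mulVec, Matrix.smul_mulVec, Matrix.one_mulVec,
      Symplectic.sympForm_smul_left, Symplectic.sympForm_smul_right, ← mul_assoc] at h3
    exact (mul_eq_right₀ hw).1 h3
  constructor
  · intro H
    by_contra hcon
    have key : ∀ x ∈ Cfsg.spGL d F, x ^ r = 1 → ∀ k,
        ((x : Matrix (Fin d ⊕ Fin d) (Fin d ⊕ Fin d) F) - (1 : F) • 1).rank = k → 0 < k → (r = 2 → k < 2 * d) →
        ∃ g ∈ Cfsg.spGL d F, g⁻¹ * x * g ∈ Cfsg.Geo.tensorProductSubgroup a b e P := by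
      intro x hx hxr k hk hk0 hk2
      refine H x hx ⟨1, by rw [hxr, one_smul, Units.val_one]⟩ fun z hz => ?_
      rw [hz, ← sub_smul] at hk
      by_cases hz1 : z = 1
      · rw [hz1, sub_self, zero_smul, Matrix.rank_zero] at hk; omega
      have hfull : ((z - 1) • (1 : Matrix (Fin d ⊕ Fin d) (Fin d ⊕ Fin d) F)).rank = 2 * d := by
        rw [Matrix.rank_of_isUnit _ (by
          rw [← Algebra.algebraMap_eq_smul_one]
          exact (isUnit_iff_ne_zero.2 (sub_ne_zero.2 hz1)).map _), Fintype.card_sum, Fintype.card_fin, two_mul]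
      rcases hr.eq_two_or_odd' with h | ⟨l, hl⟩
      · have := hk2 h; omega
      · refine hz1 ?_
        have := congrArg Units.val hxr
        rw [Units.val_pow_eq_pow_val, hz, smul_pow, one_pow, Units.val_one] at this
        have h0 := congrFun (congrFun this (Sum.inl ⟨0, by omega⟩)) (Sum.inl ⟨0, by omega⟩)
        have hzr : z ^ r = 1 := by simpa using h0
        rw [hl, pow_succ, pow_mul, pow_two, hzz x hx z hz, one_pow, one_mul] at hzr
        exact hzr
    by_cases hrF : (r : F) = 0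
    · obtain ⟨x, hx, hxr, hk⟩ := exists_transvection (F := F) (show 0 < d by omega) hrF
      obtain ⟨g, -, hgm⟩ := key x hx hxr 1 hk one_pos (fun _ => by omega)
      exact not_mem_of_rank (a := a) (b := b) (by omega) (fun h => by have := Nat.le_of_dvd one_pos h; omega)
        ((rank_conj_inv x g).trans hk) hgm
    · set i := orderOf (Fintype.card F : ZMod r) with hi
      set c := if Even i then i else 2 * i with hc
      have hrq : ¬ r ∣ Fintype.card F := fun h => hrF (by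
        obtain ⟨n, -, hn⟩ := FiniteField.card F p
        have := (Nat.prime_dvd_prime_iff_eq hr (Fact.out : p.Prime)).1 (hr.dvd_of_dvd_pow (n := n) (by rw [← hn]; exact h))
        rw [this]; exact CharP.cast_eq_zero F p)
      obtain ⟨hipos, hcd⟩ := c_le hrq (hΩ.trans ⟨_, ((mul_comm _ _).trans (SpGL.card_mul_relIndex _)).symm⟩) hi hc
      obtain ⟨x, hx, hxr, hk⟩ := exists_small hrF hi hc hipos hcd
      have hcpos : 0 < c := by rw [hc]; split_ifs <;> omega
      rcases hr.eq_two_or_odd' with h | hro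
      · subst h
        have hi1 : i = 1 := Nat.dvd_one.1 (orderOf_dvd_of_pow_eq_one
          (ZMod.pow_card_sub_one_eq_one fun e => hrq ((ZMod.natCast_eq_zero_iff _ _).1 e)))
        have hc2 : c = 2 := by rw [hc, hi1, if_neg (by decide)]
        obtain ⟨g, -, hgm⟩ := key x hx hxr c hk hcpos (fun _ => by omega)
        refine not_mem_of_rank (a := a) (b := b) (by omega) (fun hdv => ?_) ((rank_conj_inv x g).trans hk) hgm
        rw [hc2] at hdv
        have := Nat.le_of_dvd two_pos hdv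
        exact hcon ⟨rfl, by omega⟩
      · obtain ⟨g, hg, hgm⟩ := key x hx hxr c hk hcpos (fun h => by subst h; exact absurd hro (by decide))
        refine not_mem_small hro hrF ha2 hb hf₁ hf₂ hc₀ hT hi hc hcpos (mul_mem (mul_mem (inv_mem hg) hx) hg) ?_
          ((rank_conj_inv x g).trans hk) hgm
        have := conj_pow (i := r) (a := g⁻¹) (b := x)
        rw [inv_inv] at this
        rw [this, hxr, mul_one, inv_mul_cancel]
  · rintro ⟨rfl, rfl⟩ x hx ⟨z, hz⟩ _
    refine invol_two hab h2 hf₁ hf₂ hc₀ hT hx (z := z) (mul_self_eq_one_iff.1 (hzz _ (pow_mem hx 2) z hz)) ?_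
    rw [← Units.val_mul, ← pow_two, hz]

end Cfsg.Agent.S5980
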