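import Cfsg.Statements.S5981
import Cfsg.Agent.ClMax99.SimIndex
import Cfsg.Agent.ClMax99.SelfAdjCrit
import Cfsg.Agent.GraphAut.Classify
import Cfsg.Agent.MaxSub.OrthVectorGL
import Cfsg.Agent.Aschbacher.Descent

set_option autoImplicit false
open scoped MatrixGroups
open Cfsg

namespace Cfsg.Agent.S5981

set_option linter.unusedSectionVars false

open Cfsg.Agent Cfsg.Agent.ClMax99 Cfsg.Agent.ClMax99.SimForm QuadraticMap
open Cfsg.Agent.UnitaryOrthogonal (PolarND orth)
open scoped Matrix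

universe u

variable {F : Type u} [Field F] [Fintype F] {n : ℕ} {Q : QuadraticForm F (Fin n → F)}

/-- The matrix of the polar form. -/
def gram (Q : QuadraticForm F (Fin n → F)) : Matrix (Fin n) (Fin n) F := Cfsg.Geo.gramMatrix (QuadraticMap.polar ⇑Q)

theorem isGram : Aschbacher.IsGram (RingHom.id F) (QuadraticMap.polar ⇑Q) (gram Q) :=
  Aschbacher.exists_gram (RingHom.id F) _ (fun x y v => polar_add_left Q x y v)
    (fun c x v => by rw [polar_smul_left, smul_eq_mul]) (fun v x y => polar_add_right Q v x y)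
    (fun c v x => by rw [polar_smul_right, smul_eq_mul]; rfl)

theorem gram_transpose : (gram Q)ᵀ = (gram Q).map (RingHom.id F) := by
  ext i j
  exact polar_comm Q _ _

theorem gram_det (hQ : PolarND Q) : (gram Q).det ≠ 0 := by
  refine ((Matrix.isUnit_iff_isUnit_det _).1 (Aschbacher.gram_isUnit isGram fun v hv => ?_)).ne_zero
  obtain ⟨x, hx⟩ : ∃ x, polar Q v x ≠ 0 := by
    by_contra h; push Not at h; exact hv (hQ v h)
  exact ⟨⟨x, by rwa [polar_comm]⟩, x, hx⟩

theorem mem_iff (h2 : (2 : F) ≠ 0) (g : GL (Fin n) F) :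
    g ∈ Cfsg.Geo.quadSimilarityGroup ⇑Q ↔ Sim (RingHom.id F) (gram Q) (g : Matrix (Fin n) (Fin n) F) := by
  constructor
  · rintro ⟨c, hc⟩
    refine ⟨c, c.ne_zero, (isGram.comp _).inj fun u v => ?_⟩
    have := (isGram (Q := Q)).smul (c : F) u v
    rw [← this]
    simp only [polar, ← Matrix.mulVec_add, hc]
    ring
  · rintro ⟨c, hc, h⟩
    refine ⟨Units.mk0 c hc, fun v => ?_⟩
    have h1 := (isGram (Q := Q)).comp (g : Matrix (Fin n) (Fin n) F) v v
    rw [h] at h1
    have h3 := (isGram (Q := Q)).smul c v v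
    have h4 : polar Q ((g : Matrix (Fin n) (Fin n) F) *ᵥ v) ((g : Matrix (Fin n) (Fin n) F) *ᵥ v) = c * polar Q v v :=
      h1.trans h3.symm
    simp only [QuadraticMap.polar_self, two_nsmul] at h4
    show _ = c * Q v
    exact mul_left_cancel₀ h2 (by linear_combination h4)

theorem normal_form (h2 : (2 : F) ≠ 0) (hn : 0 < n) (hQ : PolarND Q) :
    ∃ δ : Fin n → F, (∀ i, δ i ≠ 0) ∧ ∀ A : Matrix (Fin n) (Fin n) F, Aᵀ = A.map (RingHom.id F) →
      A.det = (gram Q).det → ∃ P : Matrix (Fin n) (Fin n) F, Pᵀ * A * P.map (RingHom.id F) = Matrix.diagonal δ := by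
  classical
  obtain ⟨k, rfl⟩ : ∃ k, n = k + 1 := ⟨n - 1, by omega⟩
  obtain ⟨α, hα⟩ := FiniteField.exists_nonsquare (F := F) fun h => h2 (by
    haveI := ringChar.of_eq h
    exact CharP.cast_eq_zero F 2)
  have hα0 : α ≠ 0 := fun e => hα (e ▸ IsSquare.zero)
  have hd0 := gram_det hQ
  obtain ⟨P₀, d, hd, hP₀⟩ := GraphAut.exists_diag h2 α hα hd0 (gram_transpose.trans (by ext; rfl))
  refine ⟨Function.update (fun _ => 1) (Fin.last k) d, fun i => ?_, fun A hA hAd => ?_⟩
  · by_cases h : i = Fin.last k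
    · subst h; rcases hd with rfl | rfl <;> simp [hα0]
    · simp [h]
  obtain ⟨P, d', hd', hP⟩ := GraphAut.exists_diag h2 α hα (A := A) (by rw [hAd]; exact hd0) (hA.trans (by ext; rfl))
  refine ⟨P, ?_⟩
  have e1 := congrArg Matrix.det hP₀
  have e2 := congrArg Matrix.det hP
  rw [Matrix.det_mul, Matrix.det_mul, Matrix.det_transpose, GraphAut.det_diag_last] at e1 e2
  rw [hAd] at e2
  have hdd : d = d' := by
    have hsq : IsSquare (d * d') := ⟨P₀.1.det * P.1.det * (gram Q).det, by rw [← e1, ← e2]; ring⟩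
    rcases hd with rfl | rfl <;> rcases hd' with rfl | rfl
    · rfl
    · exact absurd (by simpa using hsq) hα
    · exact absurd (by simpa using hsq) hα
    · rfl
  rw [hdd, ← hP]
  congr 1

theorem conj_mem_iff (h2 : (2 : F) ≠ 0) (hn : 0 < n) (hQ : PolarND Q) (x : GL (Fin n) F) :
    (∃ g ∈ Cfsg.Geo.specialLinear (Fin n) F, g⁻¹ * x * g ∈ Cfsg.Geo.quadSimilarityGroup ⇑Q) ↔
      Good (RingHom.id F) (gram Q).det (x : Matrix (Fin n) (Fin n) F) := by
  obtain ⟨δ, hδ, hN⟩ := normal_form h2 hn hQ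
  rw [← conj_iff hn (fun _ => rfl) gram_transpose (gram_det hQ) δ hN hδ x]
  exact exists_congr fun g => and_congr_right fun _ => mem_iff h2 _

/-- A transvection is no similitude. -/
theorem not_sim_transvection (h2 : (2 : F) ≠ 0) (hn : 3 ≤ n) (A : Matrix (Fin n) (Fin n) F) (hA : A.det ≠ 0)
    (hs : Aᵀ = A.map (RingHom.id F)) :
    ¬ Sim (RingHom.id F) A (Matrix.transvection (⟨0, by omega⟩ : Fin n) ⟨1, by omega⟩ (1 : F)) := by
  classical
  rintro ⟨c, hc, h⟩
  set i0 : Fin n := ⟨0, by omega⟩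
  set i1 : Fin n := ⟨1, by omega⟩
  have hne : i0 ≠ i1 := by simp [i0, i1, Fin.ext_iff]
  have hsym : ∀ i j, A j i = A i j := fun i j => congrFun (congrFun hs i) j
  set T := Matrix.transvection i0 i1 (1 : F)
  have hval : ∀ i j, (Tᵀ * A * T) i j = A i j + (if i = i1 then A i0 j else 0) + (if j = i1 then A i i0 else 0) +
      (if i = i1 ∧ j = i1 then A i0 i0 else 0) := fun i j => by
    have e1 : Tᵀ = 1 + Matrix.single i1 i0 1 := by
      simp [T, Matrix.transvection, Matrix.transpose_add, Matrix.transpose_single]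
    have e2 : T = 1 + Matrix.single i0 i1 1 := rfl
    rw [e1, e2, add_mul, one_mul, mul_add, mul_one]
    simp only [Matrix.add_apply]
    by_cases hi : i = i1 <;> by_cases hj : j = i1
    · subst hi; subst hj; simp; ring
    · subst hi; simp [hj]
    · subst hj; simp [hi]
    · simp [hi, hj]
  have hT : T.map (RingHom.id F) = T := by ext; rfl
  rw [hT] at h
  have he : ∀ i j, A i j + (if i = i1 then A i0 j else 0) + (if j = i1 then A i i0 else 0) +
      (if i = i1 ∧ j = i1 then A i0 i0 else 0) = c * A i j := fun i j => by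
    rw [← hval, h]; rfl
  by_cases hc1 : c = 1
  · subst hc1
    have hcol : ∀ i, i ≠ i1 → A i i0 = 0 := fun i hi => by simpa [hi] using he i i1
    have h11 := he i1 i1
    simp only [if_true, and_self, one_mul, hcol i0 hne, hsym i0 i1, add_zero] at h11
    have h01 : A i0 i1 = 0 := (mul_eq_zero.1 (show (2 : F) * A i0 i1 = 0 by linear_combination h11)).resolve_left h2
    refine hA (Matrix.det_eq_zero_of_column_eq_zero i0 fun i => ?_)
    by_cases hi : i = i1
    · subst hi; rw [hsym, h01]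
    · exact hcol i hi
  · have h0 : ∀ i j, i ≠ i1 → j ≠ i1 → A i j = 0 := fun i j hi hj => by
      have := he i j
      simp only [if_neg hi, if_neg hj, add_zero, hi, false_and, if_false] at this
      exact (mul_eq_zero.1 (show (c - 1) * A i j = 0 by linear_combination -this)).resolve_left (sub_ne_zero.2 hc1)
    refine hA (det_eq_zero_of_support (Finset.univ.erase i1) {i1} ?_ fun k hk l hl => ?_)
    · rw [Finset.card_singleton, Finset.card_erase_of_mem (Finset.mem_univ _), Finset.card_univ, Fintype.card_fin]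
      omega
    · exact h0 k l (Finset.mem_erase.1 hk).1 (by simpa using hl)

/-- For an even order, the divisibility of the index fixes the type of a fixed-point-free element. -/
theorem index_even {p : ℕ} [Fact p.Prime] [CharP F p] (h2 : (2 : F) ≠ 0) (hn : 3 ≤ n) (hQ : PolarND Q) {r : ℕ}
    [hr : Fact r.Prime] (hrF : (r : F) ≠ 0) {ε : ℤ} (hs : OrthFix.Sig Q ε)
    (hie : Even (orderOf (Fintype.card F : ZMod r)))
    (hΩ : r ∣ (Cfsg.Geo.quadSimilarityGroup ⇑Q).relIndex (Cfsg.Geo.specialLinear (Fin n) F)) :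
    ∃ s, n = s * orderOf (Fintype.card F : ZMod r) ∧ ε ≠ (-1 : ℤ) ^ s := by
  classical
  set q := Fintype.card F with hq
  set i := orderOf (q : ZMod r) with hi
  have hq1 : 1 < q := Fintype.one_lt_card
  have hr2 : r ≠ 2 := fun e => by
    subst e
    have : (q : ZMod 2) ≠ 0 → orderOf (q : ZMod 2) = 1 := fun h => by
      rw [orderOf_eq_one_iff]
      exact (ZMod.pow_card_sub_one_eq_one h).symm.trans (pow_one _) |>.symm
    have hq0 : (q : ZMod 2) ≠ 0 := fun e => by
      rw [ZMod.natCast_eq_zero_iff] at e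
      have := FiniteField.odd_card_of_char_ne_two (F := F) fun h => h2 (by
        haveI := ringChar.of_eq h
        exact CharP.cast_eq_zero F 2)
      rw [← hq] at this
      omega
    rw [hi, this hq0] at hie
    exact absurd hie (by norm_num)
  set Iso := Cfsg.isometryGroup F ⇑Q
  have hcard : Nat.card (orth Q) * r ∣ 2 * Nat.card (Cfsg.Geo.specialLinear (Fin n) F) := by
    set f : Iso →* Fˣ := (Matrix.GeneralLinearGroup.det).comp Iso.subtype with hf
    have h1 : Nat.card Iso ∣ 2 * Nat.card f.ker := by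
      rw [← f.ker.card_mul_index, Subgroup.index_ker, mul_comm 2]
      refine mul_dvd_mul_left _ (dvd_trans (Subgroup.card_dvd_of_le (K := (powMonoidHom 2 : Fˣ →* Fˣ).ker) ?_) ?_)
      · rintro _ ⟨g, rfl⟩
        obtain ⟨c, hc, hg⟩ := (mem_iff h2 g.1).1 ⟨1, fun v => by rw [Units.val_one, one_mul]; exact g.2 v 0⟩
        have hc1 : (g.1 : Matrix (Fin n) (Fin n) F)ᵀ * gram Q * (g.1 : Matrix (Fin n) (Fin n) F).map (RingHom.id F) = gram Q :=
          ((isGram (Q := Q)).comp _).inj fun u v => by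
            rw [← isGram (Q := Q) u v]
            simp only [polar, ← Matrix.mulVec_add]
            have hg' : ∀ w, Q ((g.1 : Matrix (Fin n) (Fin n) F) *ᵥ w) = Q w := fun w => g.2 w 0
            rw [hg', hg', hg']
        have h := congrArg Matrix.det hc1
        rw [det_congr, RingHom.id_apply] at h
        refine Units.ext ?_
        simp only [powMonoidHom_apply, Units.val_pow_eq_pow_val, Units.val_one, hf, MonoidHom.comp_apply,
          Matrix.GeneralLinearGroup.val_det_apply, Subgroup.coe_subtype, pow_two]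
        exact (mul_eq_right₀ (gram_det hQ)).1 h
      · rw [IsCyclic.card_powMonoidHom_ker]; exact Nat.gcd_dvd_right _ _
    have h3 := card_mul_dvd (r := r) (f.ker.map Iso.subtype) (Cfsg.Geo.quadSimilarityGroup ⇑Q)
      (by rintro _ ⟨g, -, rfl⟩; exact ⟨1, fun v => by rw [Units.val_one, one_mul]; exact g.2 v 0⟩)
      (by rintro _ ⟨g, hg, rfl⟩; exact hg) hΩ
    rw [← Nat.card_congr (Subgroup.equivMapOfInjective f.ker Iso.subtype Iso.subtype_injective).toEquiv] at h3
    rw [← Nat.card_congr (UnitaryOrthogonal.isometryGroupEquiv Q (fun _ => rfl)).toEquiv]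
    exact (mul_dvd_mul_right h1 r).trans (by rw [mul_assoc]; exact mul_dvd_mul_left 2 h3)
  have hGL := LinearGroup.card_GL_eq_pow_mul_prod (F := F) n
  rw [← card_special_mul (by omega), Nat.card_eq_fintype_card (α := F), ← hq] at hGL
  have hdvd : Nat.card (orth Q) * r ∣ 2 * (q ^ (∑ j : Fin n, (j : ℕ)) * ∏ j ∈ Finset.range n, (q ^ (j + 1) - 1)) := by
    rw [← hGL]; exact hcard.trans (mul_dvd_mul_left 2 (dvd_mul_left _ _))
  have hrq : ¬ r ∣ q := fun h => by
    obtain ⟨f, -, hf⟩ := FiniteField.card F p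
    have := (Nat.prime_dvd_prime_iff_eq hr.out (Fact.out : p.Prime)).1 (hr.out.dvd_of_dvd_pow (n := f) (by rw [← hf]; exact h))
    exact hrF (by rw [this]; exact CharP.cast_eq_zero F p)
  have hr2' : ¬ r ∣ 2 := fun h => hr2 ((Nat.prime_dvd_prime_iff_eq hr.out Nat.prime_two).1 h)
  have hpw : ∀ k, ¬ r ∣ q ^ k := fun k h => hrq (hr.out.dvd_of_dvd_pow h)
  have hcancel : ∀ a z w : ℕ, 0 < z → a * z * r ∣ w * z → r ∣ w := fun a z w hz h => by
    have : a * r * z ∣ w * z := by rwa [mul_right_comm]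
    exact dvd_trans (Dvd.intro_left a rfl) (Nat.dvd_of_mul_dvd_mul_right hz this)
  have hBpos : ∀ m, 0 < ∏ k ∈ Finset.range m, (q ^ (2 * (k + 1)) - 1) := fun m =>
    Finset.prod_pos fun k _ => Nat.sub_pos_of_lt (Nat.one_lt_pow (by omega) hq1)
  have hB : ∀ m, ∏ k ∈ Finset.range m, (q ^ (2 * k + 1 + 1) - 1) = ∏ k ∈ Finset.range m, (q ^ (2 * (k + 1)) - 1) :=
    fun m => Finset.prod_congr rfl fun k _ => by ring_nf
  have hodd : ∀ m, ¬ r ∣ ∏ k ∈ Finset.range m, (q ^ (2 * k + 1) - 1) := fun m h => by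
    obtain ⟨k, -, hk⟩ := (Prime.dvd_finsetProd_iff hr.out.prime _).1 h
    have := (Inv.orderOf_dvd_iff_dvd_pow (F := F) (r := r) (2 * k + 1)).2 hk
    exact Nat.not_even_iff_odd.2 ((odd_two_mul_add_one k).of_dvd_nat this) hie
  rcases SelfAdj.card_orth_sig hQ hs with ⟨m, hm, hc⟩ | ⟨m, hm, he, hc⟩ | ⟨m, hm, he, hc⟩ | hm <;>
    rw [Module.finrank_fin_fun] at hm
  · exfalso
    subst hm
    rw [hc, ← hq, Finset.prod_range_succ, SelfAdjCrit.prod_split (fun j => q ^ (j + 1) - 1), hB] at hdvd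
    have h1 : r ∣ 2 * q ^ (∑ j : Fin (2 * m + 1), (j : ℕ)) *
        ((∏ k ∈ Finset.range m, (q ^ (2 * k + 1) - 1)) * (q ^ (2 * m + 1) - 1)) :=
      hcancel _ _ _ (hBpos m) (hdvd.trans (dvd_of_eq (by ring)))
    rcases hr.out.dvd_mul.1 h1 with h | h
    · rcases hr.out.dvd_mul.1 h with h | h
      · exact hr2' h
      · exact hpw _ h
    · refine hodd (m + 1) ?_
      rwa [Finset.prod_range_succ]
  iterate 2
    subst hm
    rw [hc, ← hq, show 2 * (m + 1) = 2 * m + 1 + 1 by ring, Finset.prod_range_succ, Finset.prod_range_succ,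
      SelfAdjCrit.prod_split (fun j => q ^ (j + 1) - 1), hB] at hdvd
    have hX : 1 < q ^ (m + 1) := Nat.one_lt_pow (by omega) hq1
    rw [show q ^ (2 * m + 1 + 1) - 1 = (q ^ (m + 1) + 1) * (q ^ (m + 1) - 1) by
      rw [← Nat.sq_sub_sq, one_pow, ← pow_mul]; ring_nf] at hdvd
    have hie2 : ∀ (k : ℕ), (q : ZMod r) ^ k = -1 → i ∣ 2 * k ∧ ¬ i ∣ k := fun k hk => by
      refine ⟨orderOf_dvd_of_pow_eq_one (by rw [mul_comm, pow_mul, hk, neg_one_sq]), fun hd' => ?_⟩
      rw [orderOf_dvd_iff_pow_eq_one.1 hd'] at hk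
      have h20 : ((2 : ℕ) : ZMod r) = 0 := by push_cast; linear_combination hk
      exact hr2' ((ZMod.natCast_eq_zero_iff _ _).1 h20)
    have key : r ∣ if ε = 1 then q ^ (m + 1) + 1 else q ^ (m + 1) - 1 := by
      have h1 : r ∣ 2 * q ^ (∑ j : Fin (2 * m + 1 + 1), (j : ℕ)) *
          ((∏ k ∈ Finset.range m, (q ^ (2 * k + 1) - 1)) * (q ^ (2 * m + 1) - 1)) *
          (if ε = 1 then q ^ (m + 1) + 1 else q ^ (m + 1) - 1) := by
        subst he
        first
          | (rw [if_pos rfl]
             exact hcancel (2 * q ^ ((m + 1) * m)) _ _ (Nat.mul_pos (Nat.sub_pos_of_lt hX) (hBpos m)) ((dvd_of_eq (by ring)).trans (hdvd.trans (dvd_of_eq (by ring)))))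
          | (rw [if_neg (by decide)]
             exact hcancel (2 * q ^ ((m + 1) * m)) _ _ (Nat.mul_pos (show 0 < q ^ (m + 1) + 1 by omega) (hBpos m)) ((dvd_of_eq (by ring)).trans (hdvd.trans (dvd_of_eq (by ring)))))
      rcases hr.out.dvd_mul.1 h1 with h | h
      · exfalso
        rcases hr.out.dvd_mul.1 h with h | h
        · rcases hr.out.dvd_mul.1 h with h | h
          · exact hr2' h
          · exact hpw _ h
        · refine hodd (m + 1) ?_
          rwa [Finset.prod_range_succ]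
      · exact h
    subst he
    first
      | (rw [if_pos rfl] at key
         have h0 := (ZMod.natCast_eq_zero_iff _ r).2 key
         rw [Nat.cast_add, Nat.cast_pow, Nat.cast_one] at h0
         obtain ⟨hd2, hnd⟩ := hie2 _ (eq_neg_of_add_eq_zero_left h0)
         obtain ⟨s, hs'⟩ := hd2
         refine ⟨s, by rw [hs', mul_comm], ?_⟩
         have hso : Odd s := Nat.not_even_iff_odd.1 fun ⟨t, ht⟩ => hnd ⟨t, by rw [ht] at hs'; linarith⟩
         rw [hso.neg_one_pow]; decide)
      | (rw [if_neg (by decide)] at key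
         have h0 := (ZMod.natCast_eq_zero_iff _ r).2 key
         rw [Nat.cast_sub (Nat.one_le_pow _ _ (by omega)), sub_eq_zero, Nat.cast_pow, Nat.cast_one] at h0
         obtain ⟨t, ht⟩ := orderOf_dvd_of_pow_eq_one h0
         rw [← hi] at ht
         refine ⟨2 * t, by rw [ht]; ring, ?_⟩
         rw [pow_mul, neg_one_sq, one_pow]; decide)
  omega


/-- Elements of prime order of PSL_n(q), q odd, and the subgroups of orthogonal type. Here `T = PSL_n(F)` for a field `F` with `q` elements, `q` odd, `n ≥ 3`; `Q` is a non-degenerate quadratic form on `F^n` (of either type when `n` is even) and `H` is the subgroup of matrices of determinant 1 that preserve `Q` up to a scalar — a subgroup of type O^ε_n(q) (maximality is not assumed); Ω is the set of cosets of `H` in `T`, so an element of `T` of prime order `r` (a matrix `x` of determinant 1 with `x^r` scalar, `x` not scalar) fixes a point of Ω exactly when some conjugate of `x` by a matrix of determinant 1 preserves `Q` up to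 a scalar. Let `r` be a prime dividing the index of `H`, with `(n, r) ≠ (6, 3)`. Then every element of `T` of order `r` fixes a point of Ω if and only if `r = 2`, or `r ∈ {3, 5}`, `n = r` and `(q − 1)_r = r` (the `r`-part of `q − 1` is exactly `r`). The case `(n, r) = (6, 3)` is not covered by this statement. -/
theorem result {F : Type*} [Field F] [Fintype F] {p : ℕ} [Fact p.Prime] [CharP F p] {q : ℕ} (hq : Fintype.card F = q)
    (hodd : Odd q) (n : ℕ) (hn : 3 ≤ n) (Q : (Fin n → F) → F) (hQ : Cfsg.Geo.IsNondegenerateQuadraticForm Q)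
    (r : ℕ) [Fact r.Prime] (hgap : ¬ (n = 6 ∧ r = 3))
    (hΩ : r ∣ (Cfsg.Geo.quadSimilarityGroup Q).relIndex (Cfsg.Geo.specialLinear (Fin n) F)) :
    (∀ x ∈ Cfsg.Geo.specialLinear (Fin n) F, (∃ z : F, ((x ^ r : GL (Fin n) F) : Matrix (Fin n) (Fin n) F) = z • (1 : Matrix (Fin n) (Fin n) F)) →
      (∀ z : F, (x : Matrix (Fin n) (Fin n) F) ≠ z • (1 : Matrix (Fin n) (Fin n) F)) →
      ∃ g ∈ Cfsg.Geo.specialLinear (Fin n) F, g⁻¹ * x * g ∈ Cfsg.Geo.quadSimilarityGroup Q) ↔
    (r = 2 ∨ ((r = 3 ∨ r = 5) ∧ n = r ∧ padicValNat r (q - 1) = 1)) := by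
  classical
  subst hq
  have h2 : (2 : F) ≠ 0 := Cfsg.Agent.UnitaryOrthogonal.two_ne_zero_of_card_odd hodd
  obtain ⟨Qf, rfl, hQf⟩ := OrthStab.exists_form hQ
  have hn0 : 0 < n := by omega
  have hd0 := gram_det hQf
  have hr' : r.Prime := Fact.out
  constructor
  · intro H
    by_contra hc
    push Not at hc
    obtain ⟨hr2, hexc⟩ := hc
    suffices hX : ∃ (A : Matrix (Fin n) (Fin n) F) (z : F), A.det = 1 ∧ A ^ r = z • 1 ∧ (∀ c : F, A ≠ c • 1) ∧
        ∀ X : GL (Fin n) F, (X : Matrix (Fin n) (Fin n) F) = A →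
          ∀ g ∈ Cfsg.Geo.specialLinear (Fin n) F, g⁻¹ * X * g ∉ Cfsg.Geo.quadSimilarityGroup ⇑Qf by
      obtain ⟨A, z, hA, hAr, hAs, hbad⟩ := hX
      obtain ⟨X, hX, hXS⟩ := S5979.exists_sl A hA
      obtain ⟨g, hg, hgX⟩ := H X hXS ⟨z, by rw [Units.val_pow_eq_pow_val, hX, hAr]⟩ fun c => by rw [hX]; exact hAs c
      exact hbad X hX g hg hgX
    have bad : ∀ A : Matrix (Fin n) (Fin n) F, (∀ B : Matrix (Fin n) (Fin n) F, B.det ≠ 0 → Bᵀ = B.map (RingHom.id F) →
        ¬ Sim (RingHom.id F) B A) → ∀ X : GL (Fin n) F, (X : Matrix (Fin n) (Fin n) F) = A →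
          ∀ g ∈ Cfsg.Geo.specialLinear (Fin n) F, g⁻¹ * X * g ∉ Cfsg.Geo.quadSimilarityGroup ⇑Qf := by
      intro A hbad X hX g hg hgX
      obtain ⟨B, hB, hBs, hs⟩ := (conj_mem_iff h2 hn0 hQf X).1 ⟨g, hg, hgX⟩
      exact hbad B (by rw [hB]; exact hd0) hBs (hX ▸ hs)
    by_cases hrF : (r : F) = 0
    · have h01 : (⟨0, by omega⟩ : Fin n) ≠ ⟨1, by omega⟩ := by simp
      refine ⟨_, 1, Matrix.det_transvection_of_ne _ _ h01 (1 : F), ?_, fun c hc => ?_, bad _ (not_sim_transvection h2 hn)⟩
      · have hk : ∀ k : ℕ, Matrix.transvection (⟨0, by omega⟩ : Fin n) ⟨1, by omega⟩ (1 : F) ^ k =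
            Matrix.transvection ⟨0, by omega⟩ ⟨1, by omega⟩ (k : F) := by
          intro k
          induction k with
          | zero => simp
          | succ k ih => rw [pow_succ, ih, Matrix.transvection_mul_transvection_same _ _ h01, Nat.cast_succ]
        rw [hk, hrF, Matrix.transvection_zero, one_smul]
      · have := congrFun (congrFun hc ⟨0, by omega⟩) ⟨1, by omega⟩
        simp [Matrix.transvection] at this
    have hrp : r ≠ p := fun h => hrF (by rw [h]; exact CharP.cast_eq_zero F p)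
    by_cases h1 : r ∣ Fintype.card F - 1
    · obtain ⟨w, z, hw, hwr, hws, hbad⟩ := exists_not_good_diag (σ := RingHom.id F) (r := r) hr2 h1 hn hgap (fun ⟨h35, hnr, hsq⟩ => by
        refine hexc h35 hnr ?_
        have hq1 : 1 < Fintype.card F := Fintype.one_lt_card
        have hge : 1 ≤ padicValNat r (Fintype.card F - 1) := one_le_padicValNat_of_dvd (by omega) h1
        by_contra hne
        exact hsq ((padicValNat_dvd_iff_le (by omega)).2 (by omega))) fun a _ => rfl
      refine ⟨Matrix.diagonal w, z, by rw [Matrix.det_diagonal, hw], ?_, hws, bad _ fun B hB _ => hbad B hB⟩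
      rw [Matrix.diagonal_pow]
      ext i j
      by_cases h : i = j
      · subst h; simp [hwr i]
      · simp [h]
    set i := orderOf (Fintype.card F : ZMod r) with hi
    have hipos : 0 < i := Inv.orderOf_pos_of_ne hrp
    have hile : i ≤ n := order_le hrF (hΩ.trans (Subgroup.relIndex_dvd_card _ _))
    by_cases hie : Even i
    · obtain ⟨ε, hs⟩ := OrthFix.exists_sig hQf
      obtain ⟨s, hns, hne⟩ := index_even (p := p) h2 hn hQf hrF hs hie hΩ
      rw [← hi] at hns
      obtain ⟨A, hAd, hAr, hAk⟩ := Inv.exists_elt_order hrF h1 (n := n) (s := s) (by rw [← hi, ← hns])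
      rw [← hi, ← hns, Nat.sub_self] at hAk
      refine ⟨A, 1, hAd, by rw [hAr, one_smul], fun c => Inv.not_scalar_of_ker hn0 h1 hAr (by rw [hAk]; exact hn0) c,
        fun X hX g hg hgX => ?_⟩
      obtain ⟨c, hc⟩ := hgX
      set Y := g⁻¹ * X * g with hY
      have hXr : X ^ r = 1 := Units.ext (by rw [Units.val_pow_eq_pow_val, hX, hAr, Units.val_one])
      have hYr : Y ^ r = 1 := by
        have h := conj_pow (i := r) (a := g⁻¹) (b := X)
        rw [inv_inv] at h
        rw [hY, h, hXr, mul_one, inv_mul_cancel]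
      have hc1 : (c : F) = 1 := by
        obtain ⟨c', hc', hsim⟩ := (mem_iff h2 Y).1 ⟨c, hc⟩
        have hpow : ∀ (k : ℕ) v, Qf ((Y : Matrix (Fin n) (Fin n) F) ^ k *ᵥ v) = (c : F) ^ k * Qf v := by
          intro k
          induction k with
          | zero => simp
          | succ k ih => intro v; rw [pow_succ, ← Matrix.mulVec_mulVec, ih, hc, pow_succ, mul_assoc]
        obtain ⟨v, hv⟩ := OrthFix.exists_form_ne_zero hQf (x := (Pi.single ⟨0, hn0⟩ 1 : Fin n → F)) (by simp)
        have h := hpow r v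
        rw [← Units.val_pow_eq_pow_val, hYr, Units.val_one, Matrix.one_mulVec] at h
        have h' := pow_gcd_eq_one.mpr ⟨(mul_eq_right₀ hv).1 h.symm, FiniteField.pow_card_sub_one_eq_one _ c.ne_zero⟩
        rwa [show Nat.gcd r (Fintype.card F - 1) = 1 from hr'.coprime_iff_not_dvd.mpr h1, pow_one] at h'
      have hYiso : Y ∈ Cfsg.isometryGroup F ⇑Qf := fun v _ => by
        show Qf ((Y : Matrix (Fin n) (Fin n) F) *ᵥ v) = Qf v
        rw [hc, hc1, one_mul]
      set T := UnitaryOrthogonal.isometryGroupEquiv Qf (fun _ => rfl) ⟨Y, hYiso⟩ with hT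
      have hTr : T ^ r = 1 := by
        rw [hT, ← map_pow, show (⟨Y, hYiso⟩ : Cfsg.isometryGroup F ⇑Qf) ^ r = 1 from Subtype.ext hYr, map_one]
      have hr3 : 2 < r := lt_of_le_of_ne hr'.two_le (Ne.symm hr2)
      have S := OrthFix.setup_of (F := F) (p := p) (q := Fintype.card F) rfl hr' hr3 hrp (i := i) hi (c := i)
        (by rw [if_pos hie])
      have hfix : ∀ v, (T : orth Qf).1 v = v → v = 0 := fun v hv => by
        have hv' : (Y : Matrix (Fin n) (Fin n) F) *ᵥ v = v := by
          rw [← Matrix.toLin'_apply]; exact hv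
        set G := (g : Matrix (Fin n) (Fin n) F)
        have h3 : A *ᵥ (G *ᵥ v) = G *ᵥ v := by
          conv_rhs => rw [← hv']
          rw [Matrix.mulVec_mulVec, Matrix.mulVec_mulVec, ← hX, ← Units.val_mul, ← Units.val_mul]
          congr 2
          rw [hY]; group
        have h4 : G *ᵥ v ∈ LinearMap.ker (Matrix.toLin' A - 1) := by
          rw [LinearMap.mem_ker, LinearMap.sub_apply, Module.End.one_apply, Matrix.toLin'_apply, h3, sub_self]
        rw [Submodule.finrank_eq_zero.1 hAk, Submodule.mem_bot] at h4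
        have := congrArg (fun w => ((g⁻¹ : GL (Fin n) F) : Matrix (Fin n) (Fin n) F) *ᵥ w) h4
        simpa [G, Matrix.mulVec_mulVec, ← Units.val_mul] using this
      obtain ⟨s', hs', hsig⟩ := OrthFix.fpf_sign S hQf hTr hfix
      rw [Module.finrank_fin_fun, hns] at hs'
      rw [← Nat.eq_of_mul_eq_mul_right hipos hs', if_pos hie] at hsig
      exact hne (hs.unique hsig)
    · obtain ⟨x, hx, hxr, hxs, hbad⟩ := exists_not_good (σ := RingHom.id F) (p := p) hrF h1 (n := n) hile (k₀ := 0)
        (fun a => by rw [pow_zero, pow_one]; rfl) fun k hk => by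
        rw [pow_zero, mul_one] at hk
        have hd : i ∣ 2 * k := orderOf_dvd_of_pow_eq_one (by rw [mul_comm, pow_mul, hk, neg_one_sq])
        have hd' := (Nat.coprime_two_right.2 (Nat.not_even_iff_odd.1 hie)).dvd_of_dvd_mul_left hd
        rw [orderOf_dvd_iff_pow_eq_one.1 hd'] at hk
        have h20 : ((2 : ℕ) : ZMod r) = 0 := by push_cast; linear_combination hk
        exact hr2 ((Nat.prime_dvd_prime_iff_eq hr' Nat.prime_two).1 ((ZMod.natCast_eq_zero_iff _ _).1 h20))
      exact ⟨x, 1, hx, by rw [hxr, one_smul], hxs, bad _ fun B hB _ => hbad B hB⟩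
  · intro hcase x hx hz _
    obtain ⟨z, hz⟩ := hz
    rw [Units.val_pow_eq_pow_val] at hz
    rw [conj_mem_iff h2 hn0 hQf]
    have hdet : (x : Matrix (Fin n) (Fin n) F).det = 1 := mem_special.1 hx
    have hz0 : z ≠ 0 := Inv.scalar_ne_zero hn0 hdet hz
    rcases hcase with rfl | ⟨h35, hnr, hv⟩
    · by_cases hsq : ∃ c : F, c * c = z
      · obtain ⟨c, rfl⟩ := hsq
        exact good_sq h2 (fun _ => rfl) hn0 (fun e => hz0 (by rw [e, zero_mul])) hz rfl hd0
      · push Not at hsq
        exact good_nonsq hn0 hsq hz hd0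
    · have hq1 : 1 < Fintype.card F := Fintype.one_lt_card
      have h1 : r ∣ Fintype.card F - 1 := dvd_of_one_le_padicValNat (by omega)
      have hrF : (r : F) ≠ 0 := fun e => by
        have hrp : r = p := ((Nat.prime_dvd_prime_iff_eq Fact.out hr').1 ((CharP.cast_eq_zero_iff F p r).1 e)).symm
        subst hrp
        exact Inv.not_dvd_pow_sub_one (F := F) (p := r) (k := 1) le_rfl (by rwa [pow_one])
      refine good_exceptional (r := r) (fun _ => rfl) h35 hnr hrF h1 (fun h => ?_) (fun a _ => rfl) hdet hz rfl hd0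
      have := (padicValNat_dvd_iff_le (p := r) (by omega)).1 h
      omega

end Cfsg.Agent.S5981
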