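import Cfsg.Statements.S5982
import Cfsg.Agent.ClMax99.SimIndex
import Cfsg.Agent.ClMax99.SimFormTwo
import Cfsg.Agent.MaxSub.Asch.UnitaryPower
import Cfsg.Agent.Lib.Unitary.Count
import Cfsg.Agent.Lib.LinearGroup.Card

set_option autoImplicit false
open scoped MatrixGroups
open Cfsg

namespace Cfsg.Agent.S5982

set_option linter.unusedSectionVars false
set_option maxHeartbeats 800000

open Cfsg.Agent Cfsg.Agent.ClMax99 Cfsg.Agent.ClMax99.SimForm
open Cfsg.Agent.MaxSub.Asch (UField)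
open scoped Matrix

universe u

variable {F : Type u} [Field F] [Fintype F] {n q₀ : ℕ} {f : (Fin n → F) → (Fin n → F) → F}

theorem isGram (S : UField F q₀) (hf : Cfsg.Geo.IsUnitaryFormPow q₀ f) :
    Aschbacher.IsGram S.σ f (Cfsg.Geo.gramMatrix f) := by
  refine Aschbacher.exists_gram S.σ f hf.add_left hf.smul_left (fun v x y => ?_) (fun c v x => ?_)
  · rw [hf.herm, hf.add_left, ← S.pow, map_add, S.pow, S.pow, ← hf.herm, ← hf.herm]
  · rw [hf.herm, hf.smul_left, ← S.pow, map_mul, S.pow (f x v), ← hf.herm]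

theorem gram_herm (S : UField F q₀) (hf : Cfsg.Geo.IsUnitaryFormPow q₀ f) :
    (Cfsg.Geo.gramMatrix f)ᵀ = (Cfsg.Geo.gramMatrix f).map S.σ := by
  ext i j
  show f _ _ = S.σ (f _ _)
  rw [S.pow]
  exact hf.herm _ _

theorem gram_det (S : UField F q₀) (hf : Cfsg.Geo.IsUnitaryFormPow q₀ f) : (Cfsg.Geo.gramMatrix f).det ≠ 0 :=
  ((Matrix.isUnit_iff_isUnit_det _).1 (Aschbacher.gram_isUnit (isGram S hf) hf.nondegenerate)).ne_zero

theorem det_fixed (S : UField F q₀) (hf : Cfsg.Geo.IsUnitaryFormPow q₀ f) :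
    S.σ (Cfsg.Geo.gramMatrix f).det = (Cfsg.Geo.gramMatrix f).det := by
  rw [RingHom.map_det, RingHom.mapMatrix_apply, ← gram_herm S hf, Matrix.det_transpose]

theorem mem_iff (S : UField F q₀) (hf : Cfsg.Geo.IsUnitaryFormPow q₀ f) (g : GL (Fin n) F) :
    g ∈ Cfsg.Geo.similarityGroup f ↔ Sim S.σ (Cfsg.Geo.gramMatrix f) (g : Matrix (Fin n) (Fin n) F) := by
  have hG := isGram S hf
  constructor
  · rintro ⟨c, hc⟩
    refine ⟨c, c.ne_zero, (hG.comp _).inj fun u v => ?_⟩
    have := hG.smul (c : F) u v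
    rw [← this]
    exact hc u v
  · rintro ⟨c, hc, h⟩
    refine ⟨Units.mk0 c hc, fun u v => ?_⟩
    have h1 := hG.comp (g : Matrix (Fin n) (Fin n) F) u v
    rw [h] at h1
    exact h1.trans (hG.smul c u v).symm

theorem congr_one (S : UField F q₀) (A : Matrix (Fin n) (Fin n) F) (hA : Aᵀ = A.map S.σ) (hd : A.det ≠ 0) :
    ∃ X : GL (Fin n) F, (X : Matrix (Fin n) (Fin n) F)ᵀ * A * (X : Matrix (Fin n) (Fin n) F).map S.σ = 1 := by
  obtain ⟨X, hX⟩ := S.exists_congr_one (Matrix.GeneralLinearGroup.mkOfDetNeZero A hd) (by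
    show Aᵀ.map S.σ = A
    rw [hA]; exact Matrix.ext fun i j => S.invol _)
  exact ⟨X, hX⟩

theorem conj_mem_iff (S : UField F q₀) (hf : Cfsg.Geo.IsUnitaryFormPow q₀ f) (hn : 0 < n) (x : GL (Fin n) F) :
    (∃ g ∈ Cfsg.Geo.specialLinear (Fin n) F, g⁻¹ * x * g ∈ Cfsg.Geo.similarityGroup f) ↔
      Good S.σ (Cfsg.Geo.gramMatrix f).det (x : Matrix (Fin n) (Fin n) F) := by
  rw [← conj_iff hn S.invol (gram_herm S hf) (gram_det S hf) (fun _ => 1) (fun A hA hd => ?_) (fun _ => one_ne_zero) x]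
  · exact exists_congr fun g => and_congr_right fun _ => mem_iff S hf _
  · obtain ⟨X, hX⟩ := congr_one S A hA (by rw [hd]; exact gram_det S hf)
    exact ⟨X, by rw [hX, Matrix.diagonal_one]⟩

theorem similitude_scalar (S : UField F q₀) {x : Matrix (Fin n) (Fin n) F} {A : Matrix (Fin n) (Fin n) F}
    (hA : A ≠ 0) (hAh : Aᵀ = A.map S.σ) {c : F} (h : xᵀ * A * x.map S.σ = c • A) : S.σ c = c := by
  have hT := congrArg Matrix.transpose h
  rw [Matrix.transpose_mul, Matrix.transpose_mul, Matrix.transpose_transpose, Matrix.transpose_smul, hAh] at hT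
  have hM := congrArg (fun M : Matrix (Fin n) (Fin n) F => M.map S.σ) h
  simp only [Matrix.map_mul, Matrix.map_smul' _ _ _ (map_mul S.σ)] at hM
  rw [show (x.map S.σ).map S.σ = x from Matrix.ext fun i j => S.invol _] at hM
  rw [show (x.map S.σ)ᵀ = xᵀ.map S.σ from rfl, ← mul_assoc, hM] at hT
  refine smul_left_injective F (show A.map S.σ ≠ 0 from fun e => hA ?_) hT
  ext i j
  have := congrFun (congrFun e i) j
  simpa using this

/-- The index excludes orders congruent to two modulo four. -/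
theorem order_mod (hF : Fintype.card F = q₀ ^ 2) (S : UField F q₀) (hf : Cfsg.Geo.IsUnitaryFormPow q₀ f) (hn : 0 < n)
    {r : ℕ} [hr : Fact r.Prime] (hr2 : r ≠ 2) (hrF : (r : F) ≠ 0)
    (hΩ : r ∣ (Cfsg.Geo.similarityGroup f).relIndex (Cfsg.Geo.specialLinear (Fin n) F)) :
    ∀ m : ℕ, Odd m → (q₀ : ZMod r) ^ m ≠ -1 := by
  classical
  set SL := Cfsg.Geo.specialLinear (Fin n) F
  obtain ⟨X, hX⟩ := congr_one S _ (gram_herm S hf) (gram_det S hf)
  set L := (Cfsg.GU n F q₀ ⊓ SL).map (MulAut.conj X).toMonoidHom with hL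
  have hL1 : L ≤ Cfsg.Geo.similarityGroup f := by
    rintro _ ⟨g, hg, rfl⟩
    have hg1 : (g : Matrix (Fin n) (Fin n) F)ᵀ * 1 * (g : Matrix (Fin n) (Fin n) F).map S.σ = 1 :=
      (Aschbacher.preserves_iff_gram S.isGram _).1 hg.1
    rw [mem_iff S hf]
    have hs : Sim S.σ (1 : Matrix (Fin n) (Fin n) F) (g : Matrix (Fin n) (Fin n) F) := ⟨1, one_ne_zero, by rw [hg1, one_smul]⟩
    convert hs.transfer (R := ((X⁻¹ : GL (Fin n) F) : Matrix (Fin n) (Fin n) F))
      (x := ((X * g * X⁻¹ : GL (Fin n) F) : Matrix (Fin n) (Fin n) F))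
      (by rw [← Units.val_mul, ← Units.val_mul]; congr 1; group) using 1
    · conv_lhs => rw [← one_mul (Cfsg.Geo.gramMatrix f)]
      rw [mul_one]
      have hXX : ((X⁻¹ : GL (Fin n) F) : Matrix (Fin n) (Fin n) F)ᵀ * (X : Matrix (Fin n) (Fin n) F)ᵀ = 1 := by
        rw [← Matrix.transpose_mul, ← Units.val_mul, mul_inv_cancel, Units.val_one, Matrix.transpose_one]
      have hXσ : (X : Matrix (Fin n) (Fin n) F).map S.σ * ((X⁻¹ : GL (Fin n) F) : Matrix (Fin n) (Fin n) F).map S.σ = 1 := by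
        rw [← Matrix.map_mul, ← Units.val_mul, mul_inv_cancel, Units.val_one]
        exact Matrix.map_one _ (map_zero _) (map_one _)
      calc _ = (((X⁻¹ : GL (Fin n) F) : Matrix (Fin n) (Fin n) F)ᵀ * (X : Matrix (Fin n) (Fin n) F)ᵀ) *
            Cfsg.Geo.gramMatrix f * ((X : Matrix (Fin n) (Fin n) F).map S.σ *
              ((X⁻¹ : GL (Fin n) F) : Matrix (Fin n) (Fin n) F).map S.σ) := by rw [hXX, hXσ, mul_one]
        _ = ((X⁻¹ : GL (Fin n) F) : Matrix (Fin n) (Fin n) F)ᵀ * ((X : Matrix (Fin n) (Fin n) F)ᵀ *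
            Cfsg.Geo.gramMatrix f * (X : Matrix (Fin n) (Fin n) F).map S.σ) *
              ((X⁻¹ : GL (Fin n) F) : Matrix (Fin n) (Fin n) F).map S.σ := by simp only [mul_assoc]
        _ = _ := by rw [hX, mul_one]
    · rfl
  have hL2 : L ≤ SL := by
    rintro _ ⟨g, hg, rfl⟩
    exact Subgroup.Normal.conj_mem (inferInstanceAs (Matrix.GeneralLinearGroup.det : GL (Fin n) F →* Fˣ).ker.Normal) g hg.2 X
  have h1 := card_mul_dvd (r := r) L _ hL1 hL2 hΩ
  rw [hL, ← Nat.card_congr (Subgroup.equivMapOfInjective _ _ (MulAut.conj X).injective).toEquiv] at h1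
  have h2 : Nat.card (Cfsg.GU n F q₀) * r ∣ Nat.card (GL (Fin n) F) := by
    haveI : SL.Normal := inferInstanceAs (Matrix.GeneralLinearGroup.det : GL (Fin n) F →* Fˣ).ker.Normal
    rw [← Subgroup.card_mul_index (SL.subgroupOf (Cfsg.GU n F q₀)),
      show Nat.card (SL.subgroupOf (Cfsg.GU n F q₀)) = Nat.card (Cfsg.GU n F q₀ ⊓ SL : Subgroup (GL (Fin n) F)) by
        rw [← Subgroup.inf_subgroupOf_left, Nat.card_congr (Subgroup.subgroupOfEquivOfLe inf_le_left).toEquiv],
      mul_right_comm, ← SL.card_mul_index]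
    exact mul_dvd_mul h1 (Subgroup.relIndex_dvd_index_of_normal _ _)
  rw [Unitary.card_GU hF, LinearGroup.card_GL_eq_pow_mul_prod, Nat.card_eq_fintype_card (α := F), hF] at h2
  have hq0 : 1 < q₀ := by
    have := Fintype.one_lt_card (α := F)
    rw [hF] at this
    by_contra h
    interval_cases q₀ <;> simp at this
  have hrq : ¬ r ∣ q₀ := fun h => hrF (by
    obtain ⟨p, hp⟩ := CharP.exists F
    obtain ⟨k, hp', hk⟩ := FiniteField.card F p
    have := (Nat.prime_dvd_prime_iff_eq hr.out hp').1 (hr.out.dvd_of_dvd_pow (n := k) (by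
      rw [← hk, hF]; exact dvd_pow h two_ne_zero))
    rw [this]; exact CharP.cast_eq_zero F p)
  set a : ℕ → ℕ := fun i => if Even i then q₀ ^ (i + 1) + 1 else q₀ ^ (i + 1) - 1
  set b : ℕ → ℕ := fun i => if Even i then q₀ ^ (i + 1) - 1 else q₀ ^ (i + 1) + 1
  have hab : ∀ i, (q₀ ^ 2) ^ (i + 1) - 1 = a i * b i := fun i => by
    have : (q₀ ^ 2) ^ (i + 1) - 1 = (q₀ ^ (i + 1) + 1) * (q₀ ^ (i + 1) - 1) := by
      rw [← Nat.sq_sub_sq, one_pow, ← pow_mul, ← pow_mul, mul_comm]
    dsimp only [a, b]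
    split_ifs <;> rw [this]
    rw [mul_comm]
  rw [Finset.prod_congr rfl (g := fun i => a i * b i) (fun i _ => hab i), Finset.prod_mul_distrib] at h2
  have hapos : 0 < ∏ i ∈ Finset.range n, a i := Finset.prod_pos fun i _ => by
    have := Nat.one_lt_pow (n := i + 1) (by omega) hq0
    dsimp only [a]; split_ifs <;> omega
  have h3 : q₀ ^ (n * (n - 1) / 2) * r * ∏ i ∈ Finset.range n, a i ∣
      (q₀ ^ 2) ^ (∑ j : Fin n, (j : ℕ)) * (∏ i ∈ Finset.range n, b i) * ∏ i ∈ Finset.range n, a i :=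
    (dvd_of_eq (by ring)).trans (h2.trans (dvd_of_eq (by ring)))
  have h4 : r ∣ ∏ i ∈ Finset.range n, b i := by
    rcases hr.out.dvd_mul.1 (dvd_trans (Dvd.intro_left _ rfl) (Nat.dvd_of_mul_dvd_mul_right hapos h3)) with h | h
    · exact absurd (hr.out.dvd_of_dvd_pow (hr.out.dvd_of_dvd_pow h)) hrq
    · exact h
  obtain ⟨i, -, hi⟩ := (Prime.dvd_finsetProd_iff hr.out.prime _).1 h4
  have h20 : (2 : ZMod r) ≠ 0 := fun h => hr2 ((Nat.prime_dvd_prime_iff_eq hr.out Nat.prime_two).1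
    ((ZMod.natCast_eq_zero_iff _ _).1 (by exact_mod_cast h)))
  have hneg : (1 : ZMod r) ≠ -1 := fun h => h20 (by linear_combination h)
  intro m hm e
  have hi0 := (ZMod.natCast_eq_zero_iff _ r).2 hi
  dsimp only [b] at hi0
  split_ifs at hi0 with hev
  · rw [Nat.cast_sub (Nat.one_le_pow _ _ (by omega)), sub_eq_zero, Nat.cast_pow, Nat.cast_one] at hi0
    have h5 := congrArg (fun t : ZMod r => t ^ (i + 1)) e
    simp only [← pow_mul] at h5
    rw [mul_comm, pow_mul, hi0, one_pow, (Even.add_one hev).neg_one_pow] at h5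
    exact hneg h5
  · rw [Nat.cast_add, Nat.cast_pow, Nat.cast_one] at hi0
    have h5 := congrArg (fun t : ZMod r => t ^ (i + 1)) e
    simp only [← pow_mul] at h5
    rw [mul_comm, pow_mul, eq_neg_of_add_eq_zero_left hi0, hm.neg_one_pow, (Nat.even_add_one.2 hev).neg_one_pow] at h5
    exact hneg h5.symm


/-- Elements of prime order of PSL_n(q), q = q₀², and the subgroups of unitary type. Here `T = PSL_n(F)` for a field `F` with `q = q₀²` elements (`n ≥ 3`), `f` is a non-degenerate unitary form on `F^n` for the involutory automorphism `x ↦ x^{q₀}`, and `H` is the subgroup of matrices of determinant 1 that preserve `f` up to a scalar — a subgroup of type GU_n(q₀) (maximality is not assumed); Ω is the set of cosets of `H` in `T`, so an element of `T` of prime order `r` (a matrix `x` of determinant 1 with `x^r` scalar, `x` not scalar) fixes a point of Ω exactly when some conjugate of `x` by a matrix of determinant 1 preserves `f` up to a scalar. Let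 `r` be a prime dividing the index of `H`, with `r = 2` or `r` different from the characteristic `p`, and with `(n, r) ≠ (6, 3)`. Then every element of `T` of order `r` fixes a point of Ω if and only if either `r = 2` and (`p = 2` or `(n)_2 ≤ (q − 1)_2`), or `r ∈ {3, 5}`, `n = r` and `(q₀ − 1)_r = r`. (Odd `r = p` and the case `(n, r) = (6, 3)` are not covered by this statement.) -/
theorem result {F : Type*} [Field F] [Fintype F] {p : ℕ} [Fact p.Prime] [CharP F p] {q : ℕ} (hq : Fintype.card F = q)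
    (q₀ : ℕ) (hq₀ : q = q₀ ^ 2) (n : ℕ) (hn : 3 ≤ n) (f : (Fin n → F) → (Fin n → F) → F) (hf : Cfsg.Geo.IsUnitaryFormPow q₀ f)
    (r : ℕ) [Fact r.Prime] (hr : r = 2 ∨ r ≠ p) (hgap : ¬ (n = 6 ∧ r = 3))
    (hΩ : r ∣ (Cfsg.Geo.similarityGroup f).relIndex (Cfsg.Geo.specialLinear (Fin n) F)) :
    (∀ x ∈ Cfsg.Geo.specialLinear (Fin n) F, (∃ z : F, ((x ^ r : GL (Fin n) F) : Matrix (Fin n) (Fin n) F) = z • (1 : Matrix (Fin n) (Fin n) F)) →
      (∀ z : F, (x : Matrix (Fin n) (Fin n) F) ≠ z • (1 : Matrix (Fin n) (Fin n) F)) →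
      ∃ g ∈ Cfsg.Geo.specialLinear (Fin n) F, g⁻¹ * x * g ∈ Cfsg.Geo.similarityGroup f) ↔
    ((r = 2 ∧ (p = 2 ∨ padicValNat 2 n ≤ padicValNat 2 (q - 1))) ∨ ((r = 3 ∨ r = 5) ∧ n = r ∧ padicValNat r (q₀ - 1) = 1)) := by
  classical
  subst hq
  obtain ⟨S⟩ := MaxSub.Asch.nonempty_ufield (hq₀ : Fintype.card F = q₀ ^ 2)
  have hn0 : 0 < n := by omega
  have hr' : r.Prime := Fact.out
  have hd0 := gram_det S hf
  have hd := det_fixed S hf
  have hq1 : 1 < q₀ := by
    have := Fintype.one_lt_card (α := F)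
    rw [hq₀] at this
    by_contra h
    interval_cases q₀ <;> simp at this
  have hq2 : Fintype.card F - 1 = (q₀ + 1) * (q₀ - 1) := by rw [hq₀, ← Nat.sq_sub_sq, one_pow]
  obtain ⟨f₀, -, hf₀⟩ := FiniteField.card F p
  obtain ⟨k₀, -, hk₀⟩ := (Nat.dvd_prime_pow (Fact.out : p.Prime)).1
    (show q₀ ∣ p ^ (f₀ : ℕ) by rw [← hf₀, hq₀]; exact dvd_pow_self _ two_ne_zero)
  constructor
  · intro H
    by_contra hc
    suffices hX : ∃ (A : Matrix (Fin n) (Fin n) F) (z : F), A.det = 1 ∧ A ^ r = z • 1 ∧ (∀ c : F, A ≠ c • 1) ∧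
        ∀ B : Matrix (Fin n) (Fin n) F, B.det ≠ 0 → Bᵀ = B.map S.σ → ¬ Sim S.σ B A by
      obtain ⟨A, z, hA, hAr, hAs, hbad⟩ := hX
      obtain ⟨X, hX, hXS⟩ := S5979.exists_sl A hA
      obtain ⟨B, hB, hBs, hs⟩ := (conj_mem_iff S hf hn0 X).1 (H X hXS ⟨z, by rw [Units.val_pow_eq_pow_val, hX, hAr]⟩
        fun c => by rw [hX]; exact hAs c)
      exact hbad B (by rw [hB]; exact hd0) hBs (hX ▸ hs)
    by_cases hr2 : r = 2
    · subst hr2
      have hp2 : p ≠ 2 := fun h => hc (Or.inl ⟨rfl, Or.inl h⟩)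
      have hv : padicValNat 2 (Fintype.card F - 1) < padicValNat 2 n :=
        not_le.1 fun h => hc (Or.inl ⟨rfl, Or.inr h⟩)
      have hqo : Odd q₀ := by rw [hk₀]; exact ((Fact.out : p.Prime).odd_of_ne_two hp2).pow
      have h2d : 2 ∣ Fintype.card F - 1 := by
        rw [hq2]; exact (even_iff_two_dvd.1 hqo.add_one).mul_right _
      obtain ⟨k, z, hk, hz, hdet⟩ := Inv.exists_bad_scalar (F := F) (r := 2) h2d hn0 (Or.inl hv)
      obtain ⟨A, hA, hA2⟩ := Inv.exists_elt_nonpower hk hz hdet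
      haveI : Nonempty (Fin n) := ⟨⟨0, hn0⟩⟩
      refine ⟨A, z, hA, hA2, fun c hc' => ?_, fun B hB hBh hs => ?_⟩
      · rw [hc', smul_pow, one_pow] at hA2
        exact hz c (smul_left_injective F one_ne_zero hA2)
      · obtain ⟨c, hc0, hx⟩ := hs
        have hB0 : B ≠ 0 := fun e => hB (by rw [e, Matrix.det_zero])
        have h1 := scalar_sim hB0 hA2 hx
        have hcσ := similitude_scalar S hB0 hBh hx
        have hz0 : z ≠ 0 := fun e => hz 0 (by rw [e, zero_pow two_ne_zero])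
        have hc1 : c ^ (q₀ - 1) = 1 := by
          have : c ^ (q₀ - 1) * c = 1 * c := by
            rw [← pow_succ, one_mul, Nat.sub_add_cancel hq1.le, ← S.pow, hcσ]
          exact mul_right_cancel₀ hc0 this
        have hF2 : ringChar F ≠ 2 := fun e => hp2 (by rw [← e]; exact (ringChar.eq F p).symm)
        obtain ⟨t, ht⟩ := hqo
        have hsq : IsSquare z := (FiniteField.isSquare_iff hF2 hz0).2 (by
          rw [show Fintype.card F / 2 = (q₀ + 1) * t by
              rw [hq₀, ht, show (2 * t + 1) ^ 2 = 2 * ((2 * t + 1 + 1) * t) + 1 by ring]; omega,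
            pow_mul, pow_succ, ← S.pow, mul_comm (S.σ z), ← h1, ← pow_mul,
            show 2 * t = q₀ - 1 by omega, hc1])
        obtain ⟨w, hw⟩ := hsq
        exact hz w (by rw [pow_two, ← hw])
    · have hrp : r ≠ p := hr.resolve_left hr2
      have hrF : (r : F) ≠ 0 := fun e => hrp
        ((Nat.prime_dvd_prime_iff_eq Fact.out hr').1 ((CharP.cast_eq_zero_iff F p r).1 e)).symm
      have hord := order_mod hq₀ S hf hn0 hr2 hrF hΩ
      by_cases h1 : r ∣ Fintype.card F - 1
      · have hr1 : r ∣ q₀ - 1 := by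
          rw [hq2] at h1
          refine (hr'.dvd_mul.1 h1).resolve_left fun h => hord 1 odd_one ?_
          rw [pow_one]
          exact eq_neg_of_add_eq_zero_left (by exact_mod_cast (ZMod.natCast_eq_zero_iff _ r).2 h)
        obtain ⟨w, z, hw, hwr, hws, hbad⟩ := exists_not_good_diag (σ := S.σ) (r := r) hr2 h1 hn hgap
          (fun ⟨h35, hnr, hsq⟩ => hc (Or.inr ⟨h35, hnr, le_antisymm (not_lt.1 fun h => hsq (by
            rw [hq2]; exact ((padicValNat_dvd_iff_le (by omega)).2 h).mul_left _))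
            (one_le_padicValNat_of_dvd (by omega) hr1)⟩))
          (fun a ha => by
            obtain ⟨t, ht⟩ := hr1
            rw [S.pow, show q₀ = r * t + 1 by omega, pow_succ, pow_mul, ha, one_pow, one_mul])
        refine ⟨Matrix.diagonal w, z, by rw [Matrix.det_diagonal, hw], ?_, hws, fun B hB _ => hbad B hB⟩
        rw [Matrix.diagonal_pow]
        ext i j
        by_cases h : i = j
        · subst h; simp [hwr i]
        · simp [h]
      · obtain ⟨x, hx, hxr, hxs, hbad⟩ := exists_not_good (σ := S.σ) (p := p) hrF h1 (n := n)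
          (order_le hrF (hΩ.trans (Subgroup.relIndex_dvd_card _ _))) (k₀ := k₀)
          (fun a => by rw [S.pow, hk₀]) fun k hk => by
          refine hord (2 * k + 1) (odd_two_mul_add_one k) ?_
          rw [← hk, hq₀, hk₀]
          push_cast
          ring
        exact ⟨x, 1, hx, by rw [hxr, one_smul], hxs, fun B hB _ => hbad B hB⟩
  · intro hcase x hx hz _
    obtain ⟨z, hz⟩ := hz
    rw [Units.val_pow_eq_pow_val] at hz
    rw [conj_mem_iff S hf hn0]
    have hdet : (x : Matrix (Fin n) (Fin n) F).det = 1 := mem_special.1 hx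
    have hz0 : z ≠ 0 := Inv.scalar_ne_zero hn0 hdet hz
    rcases hcase with ⟨rfl, hcase⟩ | ⟨h35, hnr, hv⟩
    · by_cases hp2 : p = 2
      · subst hp2
        exact good_two S.invol hn0 hz0 hz hd hd0
      have hv := hcase.resolve_left hp2
      have h2 : (2 : F) ≠ 0 := fun e => hp2 ((Nat.prime_dvd_prime_iff_eq Fact.out Nat.prime_two).1
        ((CharP.cast_eq_zero_iff F p 2).1 (by exact_mod_cast e)))
      by_cases hsq : ∃ c : F, c * c = z
      · obtain ⟨c, rfl⟩ := hsq
        exact good_sq h2 S.invol hn0 (fun e => hz0 (by rw [e, zero_mul])) hz hd hd0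
      · exfalso
        push Not at hsq
        have hzn : ∀ w : F, w ^ 2 ≠ z := fun w => by rw [pow_two]; exact hsq w
        obtain ⟨k, hk, hdk⟩ := Inv.det_of_nonpower (r := 2) hzn hz
        rw [hdet] at hdk
        obtain ⟨t, ht⟩ : Odd q₀ := by rw [hk₀]; exact ((Fact.out : p.Prime).odd_of_ne_two hp2).pow
        refine Inv.no_bad_scalar (F := F) (r := 2) ?_ hk hn0 hv (fun _ => ?_) hzn hdk.symm
        · rw [hq2, ht]; exact (Dvd.intro (t + 1) (by ring)).mul_right _
        · rw [hq₀, ht, show (2 * t + 1) ^ 2 = 4 * (t * t + t) + 1 by ring]; omega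
    · have hr2 : r ≠ 2 := by omega
      have hr1 : r ∣ q₀ - 1 := dvd_of_one_le_padicValNat (by omega)
      have hrF : (r : F) ≠ 0 := fun e => hr.resolve_left hr2
        ((Nat.prime_dvd_prime_iff_eq Fact.out hr').1 ((CharP.cast_eq_zero_iff F p r).1 e)).symm
      have hnot : ¬ r ∣ q₀ + 1 := fun h => hr2 ((Nat.prime_dvd_prime_iff_eq hr' Nat.prime_two).1 (by
        have := Nat.dvd_sub h hr1
        rwa [show q₀ + 1 - (q₀ - 1) = 2 by omega] at this))
      refine good_exceptional (r := r) S.invol h35 hnr hrF (by rw [hq2]; exact hr1.mul_left _) (fun h => ?_)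
        (fun a ha => by
          obtain ⟨t, ht⟩ := hr1
          rw [S.pow, show q₀ = r * t + 1 by omega, pow_succ, pow_mul, ha, one_pow, one_mul]) hdet hz hd hd0
      rw [hq2] at h
      have := (padicValNat_dvd_iff_le (p := r) (by omega : q₀ - 1 ≠ 0)).1
        ((Nat.Coprime.pow_left 2 (hr'.coprime_iff_not_dvd.2 hnot)).dvd_of_dvd_mul_left h)
      omega

end Cfsg.Agent.S5982
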