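import Cfsg.Statements.S5983
import Cfsg.Agent.ClMax99.SympQuad

set_option autoImplicit false
open scoped MatrixGroups
open Cfsg

namespace Cfsg.Agent.S5983

open Cfsg.Agent Cfsg.Agent.ClMax99 SympQuad QuadraticMap
open scoped Matrix
open Cfsg.Agent.UnitaryOrthogonal (orth)
open Cfsg.Agent.Symplectic (Vec)

variable {F : Type*} [Field F] [Fintype F] {d : ℕ} {Q : QuadraticForm F (Vec d F)}

/-- The inner subgroup is the isometry group. -/
theorem inf_eq_isometry (h2 : (2 : F) = 0) (hQ : HasPolar Q) :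
    Cfsg.Geo.quadSimilarityGroup ⇑Q ⊓ Cfsg.spGL d F = Cfsg.isometryGroup F ⇑Q := by
  ext g
  constructor
  · rintro ⟨⟨c, hc⟩, hg⟩ u -
    show Q ((g : Matrix (Fin d ⊕ Fin d) (Fin d ⊕ Fin d) F) *ᵥ u) = Q u
    by_cases hd : ∀ v : Vec d F, ∀ w, Cfsg.sympForm d F v w = 0
    · have := Forms.sympForm_left_cancel (hd u)
      rw [this, Matrix.mulVec_zero]
    push Not at hd
    obtain ⟨v, w, hvw⟩ := hd
    have h1 := hg v w
    have e : ∀ z : Vec d F, (Units.coeHom (Matrix (Fin d ⊕ Fin d) (Fin d ⊕ Fin d) F)) g *ᵥ z =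
      (g : Matrix (Fin d ⊕ Fin d) (Fin d ⊕ Fin d) F) *ᵥ z := fun z => rfl
    simp only [e, ← hQ _] at h1
    simp only [polar, ← Matrix.mulVec_add, hc] at h1
    have hc1 : (c : F) = 1 := by
      have h3 : ((c : F) - 1) * polar Q v w = 0 := by
        simp only [polar]; linear_combination h1
      rw [hQ] at h3
      exact sub_eq_zero.1 ((mul_eq_zero.1 h3).resolve_right hvw)
    rw [hc, hc1, one_mul]
  · intro hg
    have h : ∀ v, Q ((g : Matrix (Fin d ⊕ Fin d) (Fin d ⊕ Fin d) F) *ᵥ v) = Q v := fun v => hg v 0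
    refine ⟨⟨1, fun v => by rw [h, Units.val_one, one_mul]⟩, SpGL.mem_iff.2 fun u v => ?_⟩
    simp only [← hQ _, polar, ← Matrix.mulVec_add, h]

theorem card_orth_eq (hd : 1 ≤ d) (hQ : HasPolar Q) {ε : ℤ} (hs : OrthFix.Sig Q ε) :
    (ε = 1 ∧ Nat.card (orth Q) = 2 * Fintype.card F ^ (d * (d - 1)) * (Fintype.card F ^ d - 1) *
      ∏ i ∈ Finset.range (d - 1), (Fintype.card F ^ (2 * (i + 1)) - 1)) ∨
    (ε = -1 ∧ Nat.card (orth Q) = 2 * Fintype.card F ^ (d * (d - 1)) * (Fintype.card F ^ d + 1) *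
      ∏ i ∈ Finset.range (d - 1), (Fintype.card F ^ (2 * (i + 1)) - 1)) := by
  obtain ⟨m, rfl⟩ : ∃ m, d = m + 1 := ⟨d - 1, by omega⟩
  have hdim : ∀ k : ℕ, Module.finrank F ((Fin k → F) × (Fin k → F)) = 2 * k := fun k => by
    rw [Module.finrank_prod, Module.finrank_fintype_fun_eq_card, Fintype.card_fin, two_mul]
  simp only [← Nat.card_eq_fintype_card, Nat.add_sub_cancel]
  rcases hs.unit with rfl | rfl
  · refine Or.inl ⟨rfl, ?_⟩
    obtain ⟨e⟩ := OrthFix.Sig.isometric hQ.polarND (UnitaryOrthogonal.polarND_zeroForm.hypSum (m + 1)) hs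
      (OrthFix.sig_zeroForm.hypSum (m + 1)) (by
        rw [OrthFix.finrank_fun_plus, Module.finrank_prod, hdim, Module.finrank_fintype_fun_eq_card,
          Fintype.card_fin, add_zero])
    rw [UnitaryOrthogonal.card_orth_congr e, UnitaryOrthogonal.card_orth_plus]
  · refine Or.inr ⟨rfl, ?_⟩
    obtain ⟨ζ, hζ⟩ := OrthFix.exists_binAniso (F := F)
    obtain ⟨e⟩ := OrthFix.Sig.isometric hQ.polarND (hζ.polarND.hypSum m) hs
      ((OrthFix.sig_binForm hζ).hypSum m) (by
        rw [OrthFix.finrank_fun_plus, Module.finrank_prod, hdim, Module.finrank_prod, Module.finrank_self]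
        ring)
    rw [UnitaryOrthogonal.card_orth_congr e, UnitaryOrthogonal.card_orth_minus hζ]

/-- An odd prime dividing the index divides `q ^ d + ε`. -/
theorem dvd_of_index (h2 : (2 : F) = 0) (hd : 1 ≤ d) (hQ : HasPolar Q) {ε : ℤ}
    (hs : OrthFix.Sig Q ε) {r : ℕ} (hr : r.Prime) (hq : ¬ r ∣ Fintype.card F)
    (h : r ∣ (Cfsg.Geo.quadSimilarityGroup ⇑Q).relIndex (Cfsg.spGL d F)) :
    ((Fintype.card F : ZMod r) ^ d = -(ε : ZMod r)) := by
  haveI := Fact.mk hr
  set q := Fintype.card F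
  set X := (Cfsg.Geo.quadSimilarityGroup ⇑Q).relIndex (Cfsg.spGL d F)
  have hq1 : 1 < q := Fintype.one_lt_card
  have hidx := SpGL.card_mul_relIndex (Cfsg.Geo.quadSimilarityGroup ⇑Q)
  rw [inf_eq_isometry h2 hQ, Nat.card_congr (UnitaryOrthogonal.isometryGroupEquiv Q fun v => rfl).toEquiv,
    SpGL.card_spGL (q := q) rfl] at hidx
  obtain ⟨m, rfl⟩ : ∃ m, d = m + 1 := ⟨d - 1, by omega⟩
  set P := ∏ i ∈ Finset.range m, (q ^ (2 * (i + 1)) - 1) with hP
  have hP0 : 0 < P := Finset.prod_pos fun i _ => Nat.sub_pos_of_lt (Nat.one_lt_pow (by omega) hq1)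
  have hR : q ^ (m + 1) ^ 2 * ∏ i ∈ Finset.range (m + 1), (q ^ (2 * (i + 1)) - 1) =
      q ^ ((m + 1) * m) * P * (q ^ (m + 1) * (q ^ (2 * (m + 1)) - 1)) := by
    rw [Finset.prod_range_succ, ← hP, show (m + 1) ^ 2 = (m + 1) * m + (m + 1) by ring, pow_add]
    ring
  rw [hR] at hidx
  have hqd : 1 ≤ q ^ (m + 1) := Nat.one_le_pow _ _ (by omega)
  have hsq : 1 ≤ q ^ (2 * (m + 1)) := Nat.one_le_pow _ _ (by omega)
  have hX : (X : ZMod r) = 0 := (ZMod.natCast_eq_zero_iff _ _).2 h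
  have hqne : (q : ZMod r) ≠ 0 := fun e => hq ((ZMod.natCast_eq_zero_iff _ _).1 e)
  have hA : (0 : ℕ) < q ^ ((m + 1) * m) * P := Nat.mul_pos (pow_pos (by omega) _) hP0
  have hfin : ∀ N : ℕ, Nat.card (orth Q) = 2 * q ^ ((m + 1) * m) * N * P →
      2 * N * X = q ^ (m + 1) * (q ^ (2 * (m + 1)) - 1) := fun N hN => by
    rw [hN] at hidx
    exact Nat.eq_of_mul_eq_mul_left hA (Eq.trans (by simp only [X]; ring) hidx)
  rcases card_orth_eq hd hQ hs with ⟨rfl, hN⟩ | ⟨rfl, hN⟩ <;> rw [Nat.add_sub_cancel, ← hP] at hN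
  · have e : 2 * X = q ^ (m + 1) * (q ^ (m + 1) + 1) := by
      refine Nat.eq_of_mul_eq_mul_left (Nat.sub_pos_of_lt (Nat.one_lt_pow (by omega : m + 1 ≠ 0) hq1)) ?_
      rw [show (q ^ (m + 1) - 1) * (2 * X) = 2 * (q ^ (m + 1) - 1) * X by ring, hfin _ hN,
        show q ^ (2 * (m + 1)) - 1 = (q ^ (m + 1) + 1) * (q ^ (m + 1) - 1) by
          rw [← Nat.sq_sub_sq, one_pow, pow_two, two_mul, pow_add]]
      ring
    have e' := congrArg (Nat.cast : ℕ → ZMod r) e
    push_cast at e' ⊢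
    rw [hX, mul_zero] at e'

    exact eq_neg_of_add_eq_zero_left ((mul_eq_zero.1 e'.symm).resolve_left (pow_ne_zero _ hqne))
  · have e : 2 * X = q ^ (m + 1) * (q ^ (m + 1) - 1) := by
      refine Nat.eq_of_mul_eq_mul_left (by omega : 0 < q ^ (m + 1) + 1) ?_
      rw [show (q ^ (m + 1) + 1) * (2 * X) = 2 * (q ^ (m + 1) + 1) * X by ring, hfin _ hN,
        show q ^ (2 * (m + 1)) - 1 = (q ^ (m + 1) + 1) * (q ^ (m + 1) - 1) by
          rw [← Nat.sq_sub_sq, one_pow, pow_two, two_mul, pow_add]]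
      ring
    have e' := congrArg (Nat.cast : ℕ → ZMod r) e
    rw [Nat.cast_mul, Nat.cast_mul, hX, mul_zero, Nat.cast_sub hqd] at e'
    push_cast at e' ⊢
    rw [neg_neg]
    exact sub_eq_zero.1 ((mul_eq_zero.1 e'.symm).resolve_left (pow_ne_zero _ hqne))

/-- An involution preserving only forms of sign `+1`. -/
theorem exists_plus_only (h2 : (2 : F) = 0) (hd : Even d) (hd1 : 1 ≤ d) :
    ∃ x ∈ Cfsg.spGL d F, (∀ v, (x : Matrix (Fin d ⊕ Fin d) (Fin d ⊕ Fin d) F) *ᵥ ((x : Matrix (Fin d ⊕ Fin d) (Fin d ⊕ Fin d) F) *ᵥ v) = v) ∧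
      (∀ z : F, (x : Matrix (Fin d ⊕ Fin d) (Fin d ⊕ Fin d) F) ≠ z • 1) ∧
      ∀ Q' : QuadraticForm F (Vec d F), HasPolar Q' → (∀ v, Q' ((x : Matrix (Fin d ⊕ Fin d) (Fin d ⊕ Fin d) F) *ᵥ v) = Q' v) →
        OrthFix.Sig Q' 1 := by
  have hσ : ∀ i : Fin d, i.rev ≠ i := fun i h => by
    obtain ⟨k, hk⟩ := hd
    have := congrArg Fin.val h
    rw [Fin.val_rev] at this
    omega
  let L : Vec d F →ₗ[F] Vec d F :=
    LinearMap.pi (Sum.elim (fun i : Fin d => (LinearMap.proj (Sum.inl i) : Vec d F →ₗ[F] F) +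
      LinearMap.proj (Sum.inr i.rev)) fun i : Fin d => (LinearMap.proj (Sum.inr i) : Vec d F →ₗ[F] F))
  have hL1 : ∀ v i, L v (Sum.inl i) = v (Sum.inl i) + v (Sum.inr i.rev) := fun v i => rfl
  have hL2 : ∀ v i, L v (Sum.inr i) = v (Sum.inr i) := fun v i => rfl
  have hinv : Function.Involutive L := fun v => by
    funext k
    rcases k with i | i
    · rw [hL1, hL1, hL2]; linear_combination (v (Sum.inr i.rev)) * h2
    · rw [hL2, hL2]
  let x : GL (Fin d ⊕ Fin d) F := Matrix.GeneralLinearGroup.toLin.symm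
    ((LinearMap.GeneralLinearGroup.generalLinearEquiv F _).symm (LinearEquiv.ofInvolutive L hinv))
  have hx : ∀ v, (x : Matrix (Fin d ⊕ Fin d) (Fin d ⊕ Fin d) F) *ᵥ v = L v := fun v => by
    have h1 : (Matrix.GeneralLinearGroup.toLin x) = (LinearMap.GeneralLinearGroup.generalLinearEquiv F _).symm
        (LinearEquiv.ofInvolutive L hinv) := MulEquiv.apply_symm_apply _ _
    exact LinearMap.congr_fun (congrArg Units.val h1) v
  have hsw : ∀ u v : Fin d → F, ∑ i, u i * v i.rev = ∑ i, u i.rev * v i := fun u v =>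
    Fintype.sum_equiv Fin.revPerm _ _ fun i => by simp
  refine ⟨x, SpGL.mem_iff.2 fun u v => ?_, fun v => by rw [hx, hx, hinv], fun z hz => ?_, fun Q' hQ' hQ'x => ?_⟩
  · rw [hx, hx, Symplectic.sympForm_eq_sum, Symplectic.sympForm_eq_sum]
    simp only [hL1, hL2, mul_add, add_mul, Finset.sum_sub_distrib, Finset.sum_add_distrib]
    rw [hsw (fun i => u (Sum.inr i)) fun i => v (Sum.inr i)]
    ring
  · let j : Fin d := ⟨0, by omega⟩
    have := congrFun (hx (Pi.single (Sum.inr j.rev) 1)) (Sum.inl j)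
    rw [hL1, hz, Matrix.smul_mulVec, Matrix.one_mulVec] at this
    simp at this
  · set U := LinearMap.ker (LinearMap.funLeft F F (Sum.inr : Fin d → Fin d ⊕ Fin d)) with hU
    have hU' : ∀ v, v ∈ U ↔ ∀ i, v (Sum.inr i) = 0 := fun v => by
      rw [hU, LinearMap.mem_ker, funext_iff]; rfl
    refine sig_one_of_le hQ' (W := U) (fun u hu => ?_) ?_
    · let v : Vec d F := Sum.elim (fun _ => 0) fun i => u (Sum.inl i.rev)
      have hLv : L v = v + u := by
        funext k
        rcases k with i | i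
        · rw [hL1, Pi.add_apply]; simp [v]
        · rw [hL2, Pi.add_apply, (hU' u).1 hu i, add_zero]
      have := hQ'x v
      rw [hx, hLv, hQ'.add_eq, Symplectic.sympForm_eq_sum] at this
      have h0 : ∑ i : Fin d, u (Sum.inl i.rev) * u (Sum.inl i) = 0 := by
        refine Finset.sum_involution (fun i _ => i.rev) (fun i _ => ?_) (fun i _ _ => hσ i)
          (fun i _ => Finset.mem_univ _) fun i _ => Fin.rev_rev i
        rw [Fin.rev_rev]
        linear_combination (u (Sum.inl i.rev) * u (Sum.inl i)) * h2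
      simp only [v, Sum.elim_inr, Sum.elim_inl, zero_mul, sub_zero, h0, add_zero] at this
      linear_combination this
    · have h := (LinearMap.funLeft F F (Sum.inr : Fin d → Fin d ⊕ Fin d)).finrank_range_add_finrank_ker
      have hle := Submodule.finrank_le (LinearMap.range (LinearMap.funLeft F F (Sum.inr : Fin d → Fin d ⊕ Fin d)))
      rw [OrthFix.finrank_fun_plus, ← hU] at h
      rw [Module.finrank_fintype_fun_eq_card, Fintype.card_fin] at hle
      have hK : d ≤ Module.finrank F ↥U := by linarith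
      exact hK


/-- Elements of prime order of PSp_n(q), q even, and the subgroups of orthogonal type. Here `T = Sp_{2d}(F)` for a field `F` of characteristic 2 with `q` elements (`d ≥ 2`, `(d, q) ≠ (2, 2)`), realised as the invertible matrices preserving the standard alternating form; `Q` is a non-degenerate quadratic form on `F^{2d}` whose polar form is that alternating form, and `H` is the subgroup of `T` preserving `Q` up to a scalar (equivalently preserving `Q`) — a subgroup of type O^±_{2d}(q) (maximality is not assumed); `Q` is of plus type when `F^{2d}` contains a `d`-dimensional subspace on which `Q` vanishes, of minus type otherwise. Ω is the set of cosets of `H` in `T`, so an element of `T` of prime order `r` (`x ∈ T` with `x^r` scalar, `x` not scalar) fixes a point of Ω exactly when some `T`-conjugate of `x` preserves `Q`. Let `r` be a prime dividing the index of `H`. Then every element of `T` of order `r` fixes a point of Ω if and only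 if `r = 2` and either `Q` is of plus type or `d` is odd. -/
theorem result {F : Type*} [Field F] [Fintype F] {p : ℕ} [Fact p.Prime] [CharP F p] {q : ℕ} (hq : Fintype.card F = q)
    (hp : p = 2) (d : ℕ) (hd : 2 ≤ d) (hT : (d, q) ≠ (2, 2)) (Q : (Fin d ⊕ Fin d → F) → F) (hQ : Cfsg.Geo.IsNondegenerateQuadraticForm Q)
    (hQf : ∀ u v, QuadraticMap.polar Q u v = Cfsg.sympForm d F u v)
    (r : ℕ) [Fact r.Prime]
    (hΩ : r ∣ (Cfsg.Geo.quadSimilarityGroup Q).relIndex (Cfsg.spGL d F)) :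
    (∀ x ∈ Cfsg.spGL d F, (∃ z : F, ((x ^ r : GL (Fin d ⊕ Fin d) F) : Matrix (Fin d ⊕ Fin d) (Fin d ⊕ Fin d) F) = z • (1 : Matrix (Fin d ⊕ Fin d) (Fin d ⊕ Fin d) F)) →
      (∀ z : F, (x : Matrix (Fin d ⊕ Fin d) (Fin d ⊕ Fin d) F) ≠ z • (1 : Matrix (Fin d ⊕ Fin d) (Fin d ⊕ Fin d) F)) →
      ∃ g ∈ Cfsg.spGL d F, g⁻¹ * x * g ∈ Cfsg.Geo.quadSimilarityGroup Q) ↔
    (r = 2 ∧ (Cfsg.Geo.IsPlusTypeOn Q ⊤ ∨ Odd d)) := by
  subst hp
  obtain rfl : Fintype.card F = q := hq
  have h2 : (2 : F) = 0 := by exact_mod_cast CharP.cast_eq_zero F 2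
  have hr' : r.Prime := Fact.out
  obtain ⟨Qf, hQfun⟩ : ∃ Qf : QuadraticForm F (Vec d F), ⇑Qf = Q :=
    ⟨SympQuad.ofFun hQ.smul hQf, rfl⟩
  subst hQfun
  have hP : HasPolar Qf := hQf
  obtain ⟨ε, hε⟩ := OrthFix.exists_sig hP.polarND
  have htyp : Cfsg.Geo.IsPlusTypeOn ⇑Qf ⊤ ↔ ε = 1 := by
    constructor
    · rintro ⟨U, -, hU, hUd⟩
      rw [finrank_top, OrthFix.finrank_fun_plus] at hUd
      exact hε.unique ((sig_one_iff hP).2 ⟨U, hU, Nat.eq_of_mul_eq_mul_left two_pos hUd⟩)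
    · rintro rfl
      obtain ⟨T, hT, hTd⟩ := (sig_one_iff hP).1 hε
      exact ⟨T, le_top, hT, by rw [hTd, finrank_top, OrthFix.finrank_fun_plus]⟩
  have hne : Nonempty (Fin d ⊕ Fin d) := ⟨Sum.inl ⟨0, by omega⟩⟩
  constructor
  · intro H
    by_cases hr2 : r = 2
    · subst hr2
      refine ⟨rfl, ?_⟩
      by_contra hcon
      rw [not_or, Nat.not_odd_iff_even, htyp] at hcon
      obtain ⟨hε1, hde⟩ := hcon
      obtain ⟨x, hxS, hxx, hxne, hxplus⟩ := exists_plus_only h2 hde (by omega : 1 ≤ d)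
      obtain ⟨g, hg, hgx⟩ := H x hxS ⟨1, by
        rw [one_smul, Units.val_pow_eq_pow_val, pow_two]
        exact Matrix.ext_of_mulVec_single fun i => by rw [← Matrix.mulVec_mulVec, hxx, Matrix.one_mulVec]⟩ hxne
      have hgi : g⁻¹ * x * g ∈ Cfsg.isometryGroup F ⇑Qf := by
        rw [← inf_eq_isometry h2 hP]
        exact ⟨hgx, Subgroup.mul_mem _ (Subgroup.mul_mem _ (Subgroup.inv_mem _ hg) hxS) hg⟩
      let Q' : QuadraticForm F (Vec d F) :=
        Qf.comp (Matrix.toLin' ((g⁻¹ : GL (Fin d ⊕ Fin d) F) : Matrix (Fin d ⊕ Fin d) (Fin d ⊕ Fin d) F))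
      have hQ'a : ∀ v, Q' v = Qf (((g⁻¹ : GL (Fin d ⊕ Fin d) F) : Matrix (Fin d ⊕ Fin d) (Fin d ⊕ Fin d) F) *ᵥ v) := fun v => rfl
      have hQ'P : HasPolar Q' := fun u v => by
        simp only [polar, hQ'a, Matrix.mulVec_add]
        exact (hP _ _).trans (SpGL.mem_iff.1 (inv_mem hg) u v)
      have hQ'x : ∀ v, Q' ((x : Matrix (Fin d ⊕ Fin d) (Fin d ⊕ Fin d) F) *ᵥ v) = Q' v := fun v => by
        have h := hgi (((g⁻¹ : GL (Fin d ⊕ Fin d) F) : Matrix (Fin d ⊕ Fin d) (Fin d ⊕ Fin d) F) *ᵥ v) 0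
        simp only [Units.coeHom_apply] at h
        rw [hQ'a, hQ'a]
        rw [Units.val_mul, Units.val_mul, Matrix.mulVec_mulVec, mul_assoc, ← Units.val_mul g, mul_inv_cancel,
          Units.val_one, mul_one, ← Matrix.mulVec_mulVec] at h
        exact h
      obtain ⟨T, hT, hTd⟩ := (sig_one_iff hQ'P).1 (hxplus Q' hQ'P hQ'x)
      refine hε1 (hε.unique ((sig_one_iff hP).2
        ⟨T.map (Matrix.toLin' ((g⁻¹ : GL (Fin d ⊕ Fin d) F) : Matrix (Fin d ⊕ Fin d) (Fin d ⊕ Fin d) F)), ?_, ?_⟩))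
      · rintro _ ⟨t, ht, rfl⟩; exact hT t ht
      · refine (Submodule.equivMapOfInjective _ (fun a b hab => ?_) T).finrank_eq.symm.trans hTd
        have := congrArg (Matrix.toLin' ((g : GL (Fin d ⊕ Fin d) F) : Matrix (Fin d ⊕ Fin d) (Fin d ⊕ Fin d) F)) hab
        rwa [← Matrix.toLin'_mul_apply, ← Matrix.toLin'_mul_apply, ← Units.val_mul, mul_inv_cancel,
          Units.val_one, Matrix.toLin'_one] at this
    · exfalso
      have hr2' : 2 < r := lt_of_le_of_ne hr'.two_le (Ne.symm hr2)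
      set i := orderOf (Fintype.card F : ZMod r) with hi
      set c := if Even i then i else 2 * i with hc
      set b : ℤ := if Even i then -1 else 1 with hb
      have S : OrthFix.Setup F r i c b := OrthFix.setup_of (p := 2) rfl hr' hr2' hr2 hi hc
      have hqd := dvd_of_index h2 (by omega) hP hε hr' S.not_dvd_card hΩ
      obtain ⟨k, hk⟩ := OrthFix.exists_form_ne_zero hP.polarND (x := Pi.single hne.some 1) (by simp)
      have hnu : -ε = 1 ∨ -ε = -1 := by rcases hε.unit with rfl | rfl <;> simp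
      obtain ⟨μ, hμ⟩ := exists_shift h2 hP hk (-ε) hnu
      set Q₂ := shift Qf (μ • k)
      have hP₂ : HasPolar Q₂ := hP.shift h2 _
      have h2d : i ∣ 2 * d := S.pow_eq_one_iff.1 (by
        rw [two_mul, pow_add, hqd, neg_mul_neg, ← Int.cast_mul, hε.mul_self, Int.cast_one])
      obtain ⟨s, hs⟩ : c / 2 ∣ d := by
        rw [hc]
        split_ifs with hie
        · obtain ⟨e, he⟩ := hie
          rw [show i / 2 = e by omega]
          exact (Nat.mul_dvd_mul_iff_left two_pos).1 (by rwa [show 2 * e = i by omega])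
        · rw [show 2 * i / 2 = i by omega]
          exact (Nat.coprime_two_right.2 (Nat.not_even_iff_odd.1 hie)).dvd_of_dvd_mul_left h2d
      have hsc : s * c = 2 * d := by
        obtain ⟨e, he⟩ := S.c_even
        rw [hs, show c / 2 = e by omega, he]; ring
      have hbs : -ε = b ^ s := by
        refine S.eq_of_cast hnu ?_ ?_
        · rcases S.unit with e | e <;> rw [e]
          · exact Or.inl (one_pow s)
          · exact neg_one_pow_eq_or ℤ s
        · rw [Int.cast_neg, ← hqd, hs, pow_mul, S.pow_half, Int.cast_pow]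
      obtain ⟨g, M, hg, -, -, hMd, -, hMfix, -⟩ := OrthFix.exists_elem S s
        (OrthFix.ndOn_top hP₂.polarND) (OrthFix.sigOn_top hμ)
        (by rw [finrank_top, OrthFix.finrank_fun_plus, hsc]) (fun _ => hbs)
      have hM : M = ⊤ := Submodule.eq_top_of_finrank_eq (by rw [hMd, hsc, OrthFix.finrank_fun_plus])
      subst hM
      let X := (UnitaryOrthogonal.isometryGroupEquiv Q₂ (fun v => rfl)).symm g
      have hXS : (X : GL (Fin d ⊕ Fin d) F) ∈ Cfsg.spGL d F := ((inf_eq_isometry h2 hP₂).ge X.2).2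
      have hXr : X ^ r = 1 := by rw [← map_pow, hg, map_one]
      have hXg : ∀ v, ((X : GL (Fin d ⊕ Fin d) F) : Matrix (Fin d ⊕ Fin d) (Fin d ⊕ Fin d) F) *ᵥ v = g.1 v := fun v => by
        have : UnitaryOrthogonal.isometryGroupEquiv Q₂ (fun v => rfl) X = g := MulEquiv.apply_symm_apply _ _
        conv_rhs => rw [← this]
        rfl
      obtain ⟨h, hh, hhX⟩ := H X hXS ⟨1, by rw [← Subgroup.coe_pow, hXr, one_smul]; rfl⟩ fun z hz => by
        have h1 := g.2 k
        have h1' := hXg k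
        rw [hz, Matrix.smul_mulVec, Matrix.one_mulVec] at h1'
        have hz1 : z = 1 := by
          have hk0 : k ≠ 0 := fun e => hk (by rw [e, QuadraticMap.map_zero])
          obtain ⟨w, hw⟩ : ∃ w, Cfsg.sympForm d F k w ≠ 0 := by
            by_contra hn; push Not at hn; exact hk0 (Forms.sympForm_left_cancel hn)
          have h3 := SpGL.mem_iff.1 hXS k w
          rw [hz, Matrix.smul_mulVec, Matrix.one_mulVec, Matrix.smul_mulVec, Matrix.one_mulVec,
            Symplectic.sympForm_smul_left, Symplectic.sympForm_smul_right, ← mul_assoc] at h3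
          have hzz := (mul_eq_right₀ hw).1 h3
          have : (z - 1) * (z - 1) = 0 := by linear_combination hzz + (1 - z) * h2
          exact sub_eq_zero.1 (mul_self_eq_zero.1 this)
        rw [hz1, one_smul] at h1'
        exact hk (by rw [hMfix k trivial h1'.symm, QuadraticMap.map_zero])
      have hY : h⁻¹ * X * h ∈ Cfsg.isometryGroup F ⇑Qf := by
        rw [← inf_eq_isometry h2 hP]
        exact ⟨hhX, Subgroup.mul_mem _ (Subgroup.mul_mem _ (Subgroup.inv_mem _ hh) hXS) hh⟩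
      let Y := UnitaryOrthogonal.isometryGroupEquiv Qf (fun v => rfl) ⟨_, hY⟩
      have hYr : Y ^ r = 1 := by
        rw [← map_pow, ← map_one (UnitaryOrthogonal.isometryGroupEquiv Qf (fun v => rfl))]
        congr 1
        refine Subtype.ext ?_
        show (h⁻¹ * (X : GL (Fin d ⊕ Fin d) F) * h) ^ r = 1
        have hXr' : ((X : GL (Fin d ⊕ Fin d) F)) ^ r = 1 := by rw [← Subgroup.coe_pow, hXr]; rfl
        have := conj_pow (i := r) (a := h⁻¹) (b := (X : GL (Fin d ⊕ Fin d) F))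
        rw [inv_inv] at this
        rw [this, hXr', mul_one, inv_mul_cancel]
      have hYfix : ∀ v, Y.1 v = v → v = 0 := fun v hv => by
        have hv' : ((h⁻¹ * (X : GL (Fin d ⊕ Fin d) F) * h : GL (Fin d ⊕ Fin d) F) : Matrix (Fin d ⊕ Fin d) (Fin d ⊕ Fin d) F) *ᵥ v = v := hv
        rw [Units.val_mul, Units.val_mul, ← Matrix.mulVec_mulVec, ← Matrix.mulVec_mulVec] at hv'
        have h3 := congrArg ((h : Matrix (Fin d ⊕ Fin d) (Fin d ⊕ Fin d) F) *ᵥ ·) hv'
        simp only [Matrix.mulVec_mulVec, ← Units.val_mul, mul_inv_cancel, ← mul_assoc, one_mul] at h3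
        rw [Units.val_mul, ← Matrix.mulVec_mulVec, hXg] at h3
        have h4 := congrArg (((h⁻¹ : GL (Fin d ⊕ Fin d) F) : Matrix (Fin d ⊕ Fin d) (Fin d ⊕ Fin d) F) *ᵥ ·)
          (hMfix _ trivial h3)
        simp only [Matrix.mulVec_mulVec, ← Units.val_mul, inv_mul_cancel, Units.val_one, Matrix.one_mulVec,
          Matrix.mulVec_zero] at h4
        exact h4
      obtain ⟨s', hs', hsig⟩ := OrthFix.fpf_sign S hP.polarND hYr hYfix
      rw [OrthFix.finrank_fun_plus, ← hsc] at hs'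
      obtain rfl : s = s' := Nat.eq_of_mul_eq_mul_right S.c_pos hs'
      have := hε.unique hsig
      rcases hε.unit with e | e <;> omega
  · rintro ⟨rfl, htype⟩ x hx ⟨z, hz⟩ -
    rw [htyp] at htype
    have hz1 : z = 1 := by
      obtain ⟨i⟩ := hne
      obtain ⟨w, hw⟩ : ∃ w, Cfsg.sympForm d F (Pi.single i 1) w ≠ 0 := by
        by_contra hn; push Not at hn
        have := Forms.sympForm_left_cancel hn
        simp at this
      have h3 := SpGL.mem_iff.1 (pow_mem hx 2) (Pi.single i 1) w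
      rw [hz, Matrix.smul_mulVec, Matrix.one_mulVec, Matrix.smul_mulVec, Matrix.one_mulVec,
        Symplectic.sympForm_smul_left, Symplectic.sympForm_smul_right, ← mul_assoc] at h3
      have hzz := (mul_eq_right₀ hw).1 h3
      have : (z - 1) * (z - 1) = 0 := by linear_combination hzz + (1 - z) * h2
      exact sub_eq_zero.1 (mul_self_eq_zero.1 this)
    obtain ⟨Q', hQ', hs', hinv⟩ := exists_invariant_sig h2 hP
      (T := Matrix.toLin' (x : Matrix (Fin d ⊕ Fin d) (Fin d ⊕ Fin d) F)) (fun u v => SpGL.mem_iff.1 hx u v) (fun v => by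
        rw [← Matrix.toLin'_mul_apply, ← Units.val_mul, ← pow_two, hz, hz1, one_smul, Matrix.toLin'_one]; rfl)
      (δ := ε) (by
        rcases htype with h | h
        · exact Or.inl h
        · exact hε.unit.imp_right fun e => ⟨e, h⟩)
    obtain ⟨g, hg, hgQ⟩ := exists_conj hP hQ' hε hs'
    refine ⟨g, hg, 1, fun v => ?_⟩
    rw [Units.val_one, one_mul, ← hgQ, Units.val_mul, Units.val_mul, ← Matrix.mulVec_mulVec, ← Matrix.mulVec_mulVec,
      Matrix.toLin'_apply, Matrix.mulVec_mulVec, ← Units.val_mul, mul_inv_cancel, Units.val_one, Matrix.one_mulVec]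
    exact (hinv _).trans (hgQ v)

end Cfsg.Agent.S5983
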