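import Cfsg.Statements.S5984
import Cfsg.Agent.PairU.Move
import Cfsg.Agent.PairU.Elts
import Cfsg.Agent.Lib.UnitaryOrthogonal.Basic
import Cfsg.Agent.ClMax99.InvSub

set_option autoImplicit false
open scoped MatrixGroups
open Cfsg

namespace Cfsg.Agent.S5984

open Cfsg.Agent Module
open scoped Matrix

section Lemmas

variable {F : Type*} [Field F] [Fintype F] {n m q : ℕ} (hF : Fintype.card F = q ^ 2)

local notation "h₀" => Cfsg.hermForm n F q

include hF

/-- An element swapping the members of a pair moves at least half the space. -/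
theorem rank_of_swap {U W : Submodule F (Fin n → F)} (hp : LagPair.IsPair h₀ m U W) {f : Module.End F (Fin n → F)}
    (h : ∀ v ∈ U, f v ∈ W) : m ≤ finrank F (LinearMap.range (f - 1)) := by
  rw [← hp.fin₁]
  refine LinearMap.finrank_le_finrank_of_injective (f := ((f - 1).rangeRestrict).comp U.subtype) ?_
  rw [injective_iff_map_eq_zero]
  intro u hu
  have h1 : f u.1 = u.1 := sub_eq_zero.1 (congrArg Subtype.val hu)
  exact Subtype.ext (hp.eq_zero u.2 (h1 ▸ h _ u.2))

/-- An element with non-degenerate moved space of odd dimension fixes no pair of complementary singular subspaces. -/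
theorem not_fix {U W : Submodule F (Fin n → F)} (hp : LagPair.IsPair h₀ m U W) {f : Module.End F (Fin n → F)}
    (hf : ∀ x y, h₀ (f x) (f y) = h₀ x y) (hd : Disjoint (LinearMap.ker (f - 1)) (LinearMap.range (f - 1)))
    (hodd : Odd (finrank F (LinearMap.range (f - 1)))) (hU : ∀ v ∈ U, f v ∈ U) (hW : ∀ v ∈ W, f v ∈ W) : False := by
  have hsub : ∀ {Z : Submodule F (Fin n → F)}, (∀ v ∈ Z, f v ∈ Z) → Z.map (f - 1) ≤ Z := by
    rintro Z hZ _ ⟨v, hv, rfl⟩
    exact Z.sub_mem (hZ v hv) hv
  have horth : ∀ u ∈ LinearMap.ker (f - 1), ∀ a ∈ LinearMap.range (f - 1), h₀ u a = 0 := by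
    rintro u hu _ ⟨w, rfl⟩
    rw [LinearMap.mem_ker, LinearMap.sub_apply, Module.End.one_apply, sub_eq_zero] at hu
    show Unitary.herm q u ((f - 1) w) = 0
    rw [LinearMap.sub_apply, Module.End.one_apply, Unitary.herm_sub_right hF, sub_eq_zero]
    conv_lhs => rw [← hu]
    exact hf u w
  have htop : LinearMap.ker (f - 1) ⊔ LinearMap.range (f - 1) = ⊤ :=
    Submodule.eq_top_of_disjoint _ _ (by rw [add_comm, LinearMap.finrank_range_add_finrank_ker]) hd
  have hsum : U.map (f - 1) ⊔ W.map (f - 1) = LinearMap.range (f - 1) := by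
    rw [← Submodule.map_sup, hp.compl.sup_eq_top, Submodule.map_top]
  have key : ∀ U W : Submodule F (Fin n → F), U.map (f - 1) ≤ U → (∀ x ∈ U, ∀ y ∈ U, h₀ x y = 0) →
      U.map (f - 1) ⊔ W.map (f - 1) = LinearMap.range (f - 1) →
      finrank F ↥(U.map (f - 1)) ≤ finrank F ↥(W.map (f - 1)) := by
    intro U W hUle hiso hs
    refine PairU.dual_le hF fun a ha hb => PairU.eq_zero_of_left hF fun x => ?_
    obtain ⟨c, hc, r, hr, rfl⟩ := Submodule.mem_sup.1 (htop ▸ Submodule.mem_top :
      x ∈ LinearMap.ker (f - 1) ⊔ LinearMap.range (f - 1))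
    obtain ⟨s, hs', t, ht, rfl⟩ := Submodule.mem_sup.1 (hs.symm ▸ hr : r ∈ U.map (f - 1) ⊔ W.map (f - 1))
    show Unitary.herm q (c + (s + t)) a = 0
    rw [Unitary.herm_add_left, Unitary.herm_add_left]
    show h₀ c a + (h₀ s a + h₀ t a) = 0
    rw [horth c hc a (LinearMap.map_le_range ha), hiso s (hUle hs') a (hUle ha), hb t ht, add_zero, add_zero]
  have h1 := key U W (hsub hU) hp.iso₁ hsum
  have h2 := key W U (hsub hW) hp.iso₂ (sup_comm (W.map (f - 1)) _ ▸ hsum)
  have h3 := Submodule.finrank_sup_add_finrank_inf_eq (U.map (f - 1)) (W.map (f - 1))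
  rw [hsum, (hp.compl.disjoint.mono (hsub hU) (hsub hW)).eq_bot, finrank_bot] at h3
  obtain ⟨l, hl⟩ := hodd
  omega

omit hF in
theorem diag_sub_one (t : Fin n → F) : Matrix.toLin' (Matrix.diagonal t) - 1 = Matrix.toLin' (Matrix.diagonal fun i => t i - 1) :=
  LinearMap.ext fun v => funext fun i => by simp [Matrix.mulVec_diagonal, sub_mul]

omit hF in
theorem finrank_range_diag [DecidableEq F] (t : Fin n → F) :
    finrank F (LinearMap.range (Matrix.toLin' (Matrix.diagonal t) - 1)) = (Finset.univ.filter fun i => t i ≠ 1).card := by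
  rw [diag_sub_one]
  change (Matrix.diagonal fun i => t i - 1).rank = _
  rw [Matrix.rank_diagonal, Fintype.card_subtype]
  simp only [sub_ne_zero]

omit hF in
theorem disjoint_diag (t : Fin n → F) :
    Disjoint (LinearMap.ker (Matrix.toLin' (Matrix.diagonal t) - 1)) (LinearMap.range (Matrix.toLin' (Matrix.diagonal t) - 1)) := by
  rw [diag_sub_one, Submodule.disjoint_def]
  rintro v hv ⟨w, rfl⟩
  rw [LinearMap.mem_ker] at hv
  funext i
  have h := congrFun hv i
  simp only [Matrix.toLin'_apply, Matrix.mulVec_diagonal, Pi.zero_apply] at h ⊢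
  rcases mul_eq_zero.1 h with h | h
  · rw [h, zero_mul]
  · exact h

/-- A diagonal element of `GU`. -/
theorem exists_diag (t : Fin n → F) (ht : ∀ i, t i ^ (q + 1) = 1) :
    ∃ X : GL (Fin n) F, (X : Matrix (Fin n) (Fin n) F) = Matrix.diagonal t ∧ X ∈ Cfsg.GU n F q := by
  have hform : ∀ x y : Fin n → F, Unitary.herm q (Matrix.diagonal t *ᵥ x) (Matrix.diagonal t *ᵥ y) = Unitary.herm q x y := by
    intro x y
    refine Finset.sum_congr rfl fun k _ => ?_
    rw [Matrix.mulVec_diagonal, Matrix.mulVec_diagonal, mul_pow, mul_mul_mul_comm, ← pow_succ', ht, one_mul]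
  exact ⟨(Unitary.mkGU hF _ hform).1, rfl, (Unitary.mkGU hF _ hform).2⟩

omit hF in
theorem not_scalar {a : F} {X : Matrix (Fin n) (Fin n) F} {Y : Module.End F (Fin n → F)} (hXY : Matrix.toLin' X = a • Y)
    (ha : a ≠ 0) {e : ℕ} (he : finrank F (LinearMap.range (Y - 1)) = e) (he0 : 0 < e) (hen : e < n) (z : F) :
    X ≠ z • 1 := by
  rintro rfl
  have hY : Y = (z / a) • 1 := by
    rw [map_smul, Matrix.toLin'_one] at hXY
    have := congrArg (fun T => a⁻¹ • T) hXY
    simp only [smul_smul, inv_mul_cancel₀ ha, one_smul] at this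
    rw [← this, div_eq_inv_mul]
    rfl
  have h : Y - 1 = (z / a - 1) • (1 : Module.End F (Fin n → F)) := by
    refine hY ▸ LinearMap.ext fun v => ?_
    simp [sub_smul]
  rw [h] at he
  by_cases h0 : z / a - 1 = 0
  · rw [h0, zero_smul, LinearMap.range_zero, finrank_bot] at he
    omega
  · rw [LinearMap.range_smul _ _ h0, LinearMap.range_eq_top.2 fun v => ⟨v, rfl⟩, finrank_top, finrank_pi, Fintype.card_fin] at he
    omega

end Lemmas

/-- Elements of prime order of PSU_n(q) and the stabilizers of pairs of complementary totally singular subspaces. Here `T = PSU_n(q)` is realised through `SU_n(q)`, the matrices of determinant 1 over the field `F` with `q²` elements preserving the hermitian form `Σ uᵢ vᵢ^q`, with `n ≥ 4` even; `D` is a pair of complementary subspaces of dimension `n/2` on each of which the form vanishes identically, and `H` is the subgroup of `SU_n(q)` fixing or interchanging the two members — a subgroup of type GL_{n/2}(q²).2 (maximality is not assumed). Ω is the set of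 cosets of `H`, so an element of `T` of prime order `r` (`x ∈ SU_n(q)` with `x^r` scalar, `x` not scalar) fixes a point of Ω exactly when some `SU_n(q)`-conjugate of `x` lies in `H`. Let `r` be a prime dividing the index of `H`. Then every element of `T` of order `r` fixes a point of Ω if and only if `r = 2`, `q` is odd and `(q + 1)_2 ≤ (n)_2` (2-parts). -/
theorem result {F : Type*} [Field F] [Fintype F] {p : ℕ} [Fact p.Prime] [CharP F p] {q : ℕ} (hq : Fintype.card F = q ^ 2)
    (n : ℕ) (hn : 4 ≤ n) (he : Even n) (D : Fin 2 → Submodule F (Fin n → F)) (hD : Cfsg.Geo.IsMDecomposition (n / 2) D)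
    (hDs : ∀ i, Cfsg.Geo.IsTotallySingularFor (Cfsg.hermForm n F q) (D i))
    (r : ℕ) [Fact r.Prime]
    (hΩ : r ∣ (Cfsg.Geo.decompositionStabilizer D).relIndex (Cfsg.GU n F q ⊓ Cfsg.Geo.specialLinear (Fin n) F)) :
    (∀ x ∈ Cfsg.GU n F q ⊓ Cfsg.Geo.specialLinear (Fin n) F, (∃ z : F, ((x ^ r : GL (Fin n) F) : Matrix (Fin n) (Fin n) F) = z • (1 : Matrix (Fin n) (Fin n) F)) →
      (∀ z : F, (x : Matrix (Fin n) (Fin n) F) ≠ z • (1 : Matrix (Fin n) (Fin n) F)) →
      ∃ g ∈ Cfsg.GU n F q ⊓ Cfsg.Geo.specialLinear (Fin n) F, g⁻¹ * x * g ∈ Cfsg.Geo.decompositionStabilizer D) ↔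
    (r = 2 ∧ Odd q ∧ padicValNat 2 (q + 1) ≤ padicValNat 2 n) := by
  classical
  obtain ⟨m, rfl⟩ : ∃ m, n = 2 * m := ⟨n / 2, by obtain ⟨k, hk⟩ := he; omega⟩
  have hm : 2 ≤ m := by omega
  rw [show 2 * m / 2 = m by omega] at hD
  have hr : r.Prime := Fact.out
  have hq2 := Unitary.two_le_q hq
  have hp : LagPair.IsPair (Cfsg.hermForm (2 * m) F q) m (D 0) (D 1) := by
    refine PairU.isPair_of_sup hq rfl (eq_top_iff.2 (hD.iSup_eq_top ▸ iSup_le fun i => ?_)) (hDs 0) (hDs 1)
    fin_cases i
    · exact le_sup_left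
    · exact le_sup_right
  -- the criterion in terms of pairs
  have hno : ∀ X : GL (Fin (2 * m)) F, X ∈ Cfsg.GU (2 * m) F q ⊓ Cfsg.Geo.specialLinear (Fin (2 * m)) F →
      ∀ g ∈ Cfsg.GU (2 * m) F q ⊓ Cfsg.Geo.specialLinear (Fin (2 * m)) F, g⁻¹ * X * g ∈ Cfsg.Geo.decompositionStabilizer D →
      ∀ (a : F) (Y : Module.End F (Fin (2 * m) → F)), a ≠ 0 →
        Matrix.toLin' (X : Matrix (Fin (2 * m)) (Fin (2 * m)) F) = a • Y →
      ∃ U W, LagPair.IsPair (Cfsg.hermForm (2 * m) F q) m U W ∧
        (((∀ v ∈ U, Y v ∈ U) ∧ ∀ v ∈ W, Y v ∈ W) ∨ ((∀ v ∈ U, Y v ∈ W) ∧ ∀ v ∈ W, Y v ∈ U)) := by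
    rintro X - g hg ⟨σ, hσ⟩ a Y ha hXY
    set G := Matrix.toLin' (g : Matrix (Fin (2 * m)) (Fin (2 * m)) F) with hG
    have hconj : ∀ i, ∀ v ∈ (D i).map G, Y v ∈ (D (σ i)).map G := by
      rintro i _ ⟨v, hv, rfl⟩
      have h1 : Matrix.toLin' ((g⁻¹ * X * g : GL (Fin (2 * m)) F) : Matrix (Fin (2 * m)) (Fin (2 * m)) F) v ∈ D (σ i) :=
        (hσ i).le ⟨v, hv, rfl⟩
      have h2 : (a • Y) (G v) ∈ (D (σ i)).map G := ⟨_, h1, by
        rw [← hXY, hG, ← Matrix.toLin'_mul_apply, ← Matrix.toLin'_mul_apply, ← Units.val_mul, ← Units.val_mul]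
        congr 3
        group⟩
      rw [LinearMap.smul_apply] at h2
      have := Submodule.smul_mem _ a⁻¹ h2
      rwa [inv_smul_smul₀ ha] at this
    have hiso : ∀ i, ∀ x ∈ (D i).map G, ∀ y ∈ (D i).map G, Cfsg.hermForm (2 * m) F q x y = 0 := by
      rintro i _ ⟨x, hx, rfl⟩ _ ⟨y, hy, rfl⟩
      rw [hG, Matrix.toLin'_apply, Matrix.toLin'_apply]
      exact (hg.1 x y).trans (hDs i x hx y hy)
    have hsurj : Function.Surjective G := fun v =>
      ⟨Matrix.toLin' ((g⁻¹ : GL (Fin (2 * m)) F) : Matrix (Fin (2 * m)) (Fin (2 * m)) F) v, by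
        rw [hG, ← Matrix.toLin'_mul_apply, ← Units.val_mul, mul_inv_cancel, Units.val_one, Matrix.toLin'_one]; rfl⟩
    refine ⟨_, _, PairU.isPair_of_sup hq rfl ?_ (hiso 0) (hiso 1), ?_⟩
    · rw [← Submodule.map_sup, hp.compl.sup_eq_top, Submodule.map_top, LinearMap.range_eq_top.2 hsurj]
    · rcases Fin.exists_fin_two.1 ⟨σ 0, rfl⟩ with h | h
      · refine Or.inl ⟨fun v hv => ?_, fun v hv => ?_⟩
        · simpa [h] using hconj 0 v hv
        · have h1 : σ 1 = 1 := by
            have : σ 1 ≠ σ 0 := σ.injective.ne (by decide)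
            rw [h] at this
            omega
          simpa [h1] using hconj 1 v hv
      · have h1 : σ 1 = 0 := by
          have : σ 1 ≠ σ 0 := σ.injective.ne (by decide)
          rw [h] at this
          omega
        exact Or.inr ⟨fun v hv => by simpa [h] using hconj 0 v hv, fun v hv => by simpa [h1] using hconj 1 v hv⟩
  -- a homology-like element fixes no pair
  have hbad : ∀ (X : GL (Fin (2 * m)) F), X ∈ Cfsg.GU (2 * m) F q ⊓ Cfsg.Geo.specialLinear (Fin (2 * m)) F →
      (∃ z : F, ((X ^ r : GL (Fin (2 * m)) F) : Matrix (Fin (2 * m)) (Fin (2 * m)) F) = z • 1) →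
      ∀ (a : F) (Y : Module.End F (Fin (2 * m) → F)) (e : ℕ), a ≠ 0 →
        Matrix.toLin' (X : Matrix (Fin (2 * m)) (Fin (2 * m)) F) = a • Y →
        (∀ x y, Cfsg.hermForm (2 * m) F q (Y x) (Y y) = Cfsg.hermForm (2 * m) F q x y) →
        Disjoint (LinearMap.ker (Y - 1)) (LinearMap.range (Y - 1)) →
        finrank F (LinearMap.range (Y - 1)) = e → Odd e → e < 2 * m →
        (e < m ∨ (r ≠ 2 ∧ Y ^ r = 1)) →
      ¬ ∀ x ∈ Cfsg.GU (2 * m) F q ⊓ Cfsg.Geo.specialLinear (Fin (2 * m)) F,
        (∃ z : F, ((x ^ r : GL (Fin (2 * m)) F) : Matrix (Fin (2 * m)) (Fin (2 * m)) F) = z • 1) →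
        (∀ z : F, (x : Matrix (Fin (2 * m)) (Fin (2 * m)) F) ≠ z • 1) →
        ∃ g ∈ Cfsg.GU (2 * m) F q ⊓ Cfsg.Geo.specialLinear (Fin (2 * m)) F, g⁻¹ * x * g ∈ Cfsg.Geo.decompositionStabilizer D := by
    intro X hX hXz a Y e ha hXY hY hd hrk hodd hen hsw H
    have he0 : 0 < e := hodd.pos
    obtain ⟨g, hg, hgX⟩ := H X hX hXz (not_scalar hXY ha hrk he0 hen)
    obtain ⟨U, W, hUW, hfix | ⟨hsU, hsW⟩⟩ := hno X hX g hg hgX a Y ha hXY
    · exact not_fix hq hUW hY hd (hrk ▸ hodd) hfix.1 hfix.2
    · rcases hsw with h | ⟨hr2, hYr⟩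
      · have := rank_of_swap hq hUW hsU
        omega
      · obtain ⟨l, hl⟩ := hr.odd_of_ne_two hr2
        have heven : ∀ k, ∀ v ∈ U, (Y ^ (2 * k)) v ∈ U := by
          intro k
          induction k with
          | zero => intro v hv; simpa using hv
          | succ k ih =>
            intro v hv
            rw [show 2 * (k + 1) = 2 + 2 * k by ring, pow_add, Module.End.mul_apply, pow_two, Module.End.mul_apply]
            exact hsW _ (hsU _ (ih v hv))
        have hbot : U = ⊥ := by
          rw [Submodule.eq_bot_iff]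
          intro v hv
          refine hUW.eq_zero hv ?_
          have h1 := hsU _ (heven l v hv)
          rwa [← Module.End.mul_apply, ← pow_succ', ← hl, hYr, Module.End.one_apply] at h1
        have := hUW.fin₁
        rw [hbot, finrank_bot] at this
        omega
  constructor
  · intro H
    by_cases hrF : (r : F) = 0
    · exfalso
      have hf := LagPair.isPairForm_herm (n := 2 * m) hq
      obtain ⟨θ, hθ, hθc⟩ := LagPair.exists_skew_ne_zero hq
      obtain ⟨c, hc⟩ := Unitary.exists_norm_eq hq (t := (-1 : F)) (by rw [Unitary.neg_pow_q hq, one_pow])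
      let i₀ : Fin (2 * m) := ⟨0, by omega⟩
      let i₁ : Fin (2 * m) := ⟨1, by omega⟩
      set v : Fin (2 * m) → F := Unitary.eI i₀ + c • Unitary.eI i₁ with hv
      have h01 : i₀ ≠ i₁ := by simp [i₀, i₁]
      have hv0 : v i₀ = 1 := by simp [hv, Unitary.eI, h01]
      have hvv : Cfsg.hermForm (2 * m) F q v v = 0 := by
        show Unitary.herm q v v = 0
        simp only [hv, Unitary.herm_add_left, Unitary.herm_add_right hq, Unitary.herm_smul_left,
          Unitary.herm_smul_right hq, Unitary.herm_eI_eI hq, if_pos trivial, if_neg h01, if_neg h01.symm, reduceIte]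
        rw [pow_succ] at hc
        linear_combination hc
      set X := LagPair.T (Cfsg.hermForm (2 * m) F q) v θ with hXdef
      have hXv : ∀ x, (X : Matrix (Fin (2 * m)) (Fin (2 * m)) F) *ᵥ x = x + (θ * Cfsg.hermForm (2 * m) F q x v) • v :=
        fun x => LagPair.T_mulVec hf hvv θ x
      have hX : X ∈ Cfsg.GU (2 * m) F q ⊓ Cfsg.Geo.specialLinear (Fin (2 * m)) F :=
        ⟨LagPair.T_mem_isom hf hvv hθc, MaxSub.det_tv _ _⟩
      set Y := Matrix.toLin' (X : Matrix (Fin (2 * m)) (Fin (2 * m)) F) with hYdef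
      have hY : ∀ x, Y x = x + (θ * Cfsg.hermForm (2 * m) F q x v) • v := fun x => by
        rw [hYdef, Matrix.toLin'_apply, hXv]
      have hpow : ∀ (k : ℕ) x, (Y ^ k) x = x + ((k : F) * (θ * Cfsg.hermForm (2 * m) F q x v)) • v := by
        intro k
        induction k with
        | zero => intro x; simp
        | succ k ih =>
          intro x
          rw [pow_succ, Module.End.mul_apply, ih, hY]
          show _ + ((k : F) * (θ * Unitary.herm q (x + _ • v) v)) • v = _
          rw [Unitary.herm_add_left, Unitary.herm_smul_left]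
          show _ + ((k : F) * (θ * (Cfsg.hermForm (2 * m) F q x v + _ * Cfsg.hermForm (2 * m) F q v v))) • v = _
          rw [hvv]
          push_cast
          module
      have hXr : X ^ r = 1 := Units.ext (Matrix.toLin'.injective (LinearMap.ext fun x => by
        rw [Units.val_pow_eq_pow_val, Matrix.toLin'_pow, ← hYdef, hpow, hrF, zero_mul, zero_smul, add_zero,
          Units.val_one, Matrix.toLin'_one]; rfl))
      have hrange : finrank F (LinearMap.range (Y - 1)) = 1 := by
        have : LinearMap.range (Y - 1) = F ∙ v := by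
          refine le_antisymm ?_ ?_
          · rintro _ ⟨x, rfl⟩
            exact Submodule.mem_span_singleton.2 ⟨θ * Cfsg.hermForm (2 * m) F q x v, by
              rw [LinearMap.sub_apply, Module.End.one_apply, hY, add_sub_cancel_left]⟩
          · rw [Submodule.span_singleton_le_iff_mem]
            refine ⟨θ⁻¹ • Unitary.eI i₀, ?_⟩
            rw [LinearMap.sub_apply, Module.End.one_apply, hY, add_sub_cancel_left]
            show (θ * Unitary.herm q _ v) • v = v
            rw [Unitary.herm_smul_left, Unitary.herm_eI_left, hv0, one_pow, mul_one, mul_inv_cancel₀ hθ, one_smul]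
        rw [this, finrank_span_singleton (fun e => by simp [e] at hv0)]
      have hns : ∀ z : F, (X : Matrix (Fin (2 * m)) (Fin (2 * m)) F) ≠ z • 1 :=
        not_scalar (Y := Y) (by rw [one_smul]) one_ne_zero hrange one_pos (by omega)
      obtain ⟨g, hg, hgX⟩ := H X hX ⟨1, by rw [hXr, Units.val_one, one_smul]⟩ hns
      obtain ⟨U, W, hUW, hfix | ⟨hsU, -⟩⟩ := hno X hX g hg hgX 1 Y one_ne_zero (by rw [one_smul])
      · -- the centre lies in one member
        have key : ∀ U W : Submodule F (Fin (2 * m) → F), LagPair.IsPair (Cfsg.hermForm (2 * m) F q) m U W →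
            (∀ x ∈ U, Y x ∈ U) → (∀ x ∈ W, Y x ∈ W) →
            (∃ x ∈ U, Cfsg.hermForm (2 * m) F q x v ≠ 0) → False := by
          rintro U W hUW hU hW ⟨x, hx, hxv⟩
          have hvU : v ∈ U := by
            have h1 := U.sub_mem (hU x hx) hx
            rw [hY, add_sub_cancel_left] at h1
            have h2' := U.smul_mem (θ * Cfsg.hermForm (2 * m) F q x v)⁻¹ h1
            rwa [inv_smul_smul₀ (mul_ne_zero hθ hxv)] at h2'
          exact hxv (hUW.iso₁ x hx v hvU)
        obtain ⟨x, hx⟩ : ∃ x, Cfsg.hermForm (2 * m) F q x v ≠ 0 := by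
          by_contra hn
          push Not at hn
          exact (by simp : (0 : Fin (2 * m) → F) i₀ ≠ 1) (by rw [← PairU.eq_zero_of_left hq hn, hv0])
        obtain ⟨u, hu, w, hw, rfl⟩ := hUW.exists_add x
        by_cases hu0 : Cfsg.hermForm (2 * m) F q u v = 0
        · refine key W U hUW.symm hfix.2 hfix.1 ⟨w, hw, fun h0 => hx ?_⟩
          show Unitary.herm q (u + w) v = 0
          rw [Unitary.herm_add_left]
          show Cfsg.hermForm (2 * m) F q u v + Cfsg.hermForm (2 * m) F q w v = 0
          rw [hu0, h0, add_zero]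
        · exact key U W hUW hfix.1 hfix.2 ⟨u, hu, hu0⟩
      · have := rank_of_swap hq hUW hsU
        omega
    have hrq : ¬ r ∣ q := fun h => hrF (by
      have h0 : ((q ^ 2 : ℕ) : F) = 0 := by rw [← hq]; exact FiniteField.cast_card_eq_zero F
      obtain ⟨c, rfl⟩ := h
      obtain ⟨p', k, hp', -, -, hqp⟩ := Unitary.exists_prime_pow hq
      have hrp : r = p' := (Nat.prime_dvd_prime_iff_eq hr hp').1 (hr.dvd_of_dvd_pow (hqp ▸ dvd_mul_right r c))
      have hz : ((r * c : ℕ) : F) = 0 := eq_zero_of_pow_eq_zero (n := 2) (by exact_mod_cast h0)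
      rw [hqp, ← hrp, Nat.cast_pow] at hz
      exact eq_zero_of_pow_eq_zero hz)
    by_cases hr2 : r = 2
    · subst hr2
      have h2 : (2 : F) ≠ 0 := by exact_mod_cast hrF
      refine ⟨rfl, Nat.not_even_iff_odd.1 fun hev => hrq hev.two_dvd, ?_⟩
      by_contra hlt
      push Not at hlt
      set v := padicValNat 2 (2 * m) with hv
      have hdv : 2 ^ (v + 1) ∣ q + 1 := (pow_dvd_pow 2 hlt).trans pow_padicValNat_dvd
      obtain ⟨l, hl⟩ : 2 ^ v ∣ 2 * m := pow_padicValNat_dvd
      have hlodd : Odd l := by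
        rw [← Nat.not_even_iff_odd]
        rintro ⟨k, rfl⟩
        have h1 : 2 ^ (v + 1) ∣ 2 * m := ⟨k, by rw [hl, pow_succ]; ring⟩
        rw [padicValNat_dvd_iff_le (by omega), ← hv] at h1
        omega
      obtain ⟨a, ha⟩ : ∃ a : F, orderOf a = 2 ^ (v + 1) := by
        classical
        obtain ⟨g, hg⟩ := IsCyclic.exists_ofOrder_eq_natCard (α := Fˣ)
        rw [Nat.card_units, Nat.card_eq_fintype_card, hq] at hg
        obtain ⟨k, hk⟩ : 2 ^ (v + 1) ∣ q ^ 2 - 1 := hdv.trans ⟨q - 1, by rw [← Nat.sq_sub_sq, one_pow]⟩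
        refine ⟨(g ^ k : Fˣ), ?_⟩
        have hk0 : k ≠ 0 := by
          rintro rfl
          rw [mul_zero] at hk
          have : 4 ≤ q ^ 2 := by calc 4 = 2 ^ 2 := by norm_num
                                   _ ≤ q ^ 2 := Nat.pow_le_pow_left hq2 2
          omega
        rw [orderOf_units, orderOf_pow' _ hk0, hg, hk, Nat.gcd_mul_left_left, Nat.mul_div_cancel _ (Nat.pos_of_ne_zero hk0)]
      have haq : a ^ (q + 1) = 1 := orderOf_dvd_iff_pow_eq_one.1 (ha ▸ hdv)
      have ha0 : a ≠ 0 := fun e => by simp [e] at haq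
      have han : a ^ (2 * m) = -1 := by
        have h1 : (a ^ 2 ^ v) ^ 2 = 1 := by rw [← pow_mul, ← pow_succ, ← ha, pow_orderOf_eq_one]
        have h2' : a ^ 2 ^ v ≠ 1 := fun e => by
          have := Nat.le_of_dvd (by positivity) (ha ▸ orderOf_dvd_of_pow_eq_one e)
          have := Nat.pow_lt_pow_right one_lt_two (Nat.lt_succ_self v)
          omega
        rw [hl, pow_mul, (sq_eq_one_iff.1 h1).resolve_left h2', hlodd.neg_one_pow]
      let i₀ : Fin (2 * m) := ⟨0, by omega⟩
      let t : Fin (2 * m) → F := Function.update 1 i₀ (-1)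
      have ht : ∀ i, t i = if i = i₀ then -1 else 1 := fun i => by simp [t, Function.update_apply]
      have hodd1 : Even (q + 1) := (pow_dvd_pow 2 (Nat.le_add_left 1 v)).trans hdv |> fun h => even_iff_two_dvd.2 (by simpa using h)
      obtain ⟨X, hXv, hXU⟩ := exists_diag hq (fun i => a * t i) (fun i => by
        rw [mul_pow, haq, one_mul, ht]
        split_ifs
        · exact hodd1.neg_one_pow
        · exact one_pow _)
      have hdet : (X : Matrix (Fin (2 * m)) (Fin (2 * m)) F).det = 1 := by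
        rw [hXv, Matrix.det_diagonal, Finset.prod_mul_distrib, Finset.prod_const, Finset.card_univ, Fintype.card_fin,
          han, Finset.prod_update_of_mem (Finset.mem_univ _)]
        simp
      obtain ⟨T, hTv, hTU⟩ := exists_diag hq t (fun i => by
        rw [ht]; split_ifs
        · exact hodd1.neg_one_pow
        · exact one_pow _)
      refine hbad X ⟨hXU, Units.ext hdet⟩ ⟨a ^ 2, ?_⟩ a (Matrix.toLin' (Matrix.diagonal t)) 1 ha0 ?_ ?_ (disjoint_diag t) ?_
        odd_one (by omega) (Or.inl (by omega)) H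
      · rw [Units.val_pow_eq_pow_val, hXv, Matrix.diagonal_pow]
        ext i j
        simp only [Matrix.diagonal_apply, Matrix.smul_apply, Matrix.one_apply, Pi.pow_apply, mul_pow, ht]
        split_ifs <;> simp
      · rw [hXv, ← map_smul, ← Matrix.diagonal_smul]; rfl
      · intro x y
        rw [← hTv, Matrix.toLin'_apply, Matrix.toLin'_apply]
        exact hTU x y
      · rw [finrank_range_diag, Finset.card_eq_one]
        refine ⟨i₀, Finset.ext fun i => ?_⟩
        rw [Finset.mem_filter, ht, Finset.mem_singleton]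
        split_ifs with h
        · simp only [h, Finset.mem_univ, true_and, iff_true]
          exact fun e => h2 (by linear_combination -e)
        · simp [h]
    · exfalso
      have hodd := hr.odd_of_ne_two hr2
      have hdvd := (mul_dvd_mul_left _ hΩ).trans (PairU.card_dvd hq rfl (by omega) hp)
      obtain ⟨b, hb, hbodd, hbm, hrb⟩ := PairU.arith hq hm hr hr2 hrq hdvd
      by_cases hb1 : b = 1
      · subst hb1
        rw [pow_one] at hrb
        classical
        obtain ⟨ζu, hζu⟩ := exists_prime_orderOf_dvd_card' (G := Fˣ) r (by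
          rw [Nat.card_units, Nat.card_eq_fintype_card, hq]
          exact hrb.trans ⟨q - 1, by rw [← Nat.sq_sub_sq, one_pow]⟩)
        set ζ : F := (ζu : F) with hζdef
        have hζ : orderOf ζ = r := by rw [hζdef, orderOf_units, hζu]
        have hζr : ζ ^ r = 1 := hζ ▸ pow_orderOf_eq_one ζ
        have hζq : ζ ^ (q + 1) = 1 := orderOf_dvd_iff_pow_eq_one.1 (hζ ▸ hrb)
        have hζ0 : ζ ≠ 0 := ζu.ne_zero
        have hζ1 : ζ ≠ 1 := fun e => by rw [e, orderOf_one] at hζ; exact hr.ne_one hζ.symm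
        have hζ2 : (ζ ^ 2)⁻¹ ≠ 1 := fun e => by
          rw [inv_eq_one] at e
          have := Nat.le_of_dvd two_pos (hζ ▸ orderOf_dvd_of_pow_eq_one e)
          have := hr.two_le
          omega
        let t : Fin (2 * m) → F := fun i => if i.1 < 2 then ζ else if i.1 = 2 then (ζ ^ 2)⁻¹ else 1
        obtain ⟨X, hXv, hXU⟩ := exists_diag hq t (fun i => by
          simp only [t]
          split_ifs
          · exact hζq
          · rw [inv_pow, ← pow_mul, mul_comm, pow_mul, hζq, one_pow, inv_one]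
          · exact one_pow _)
        obtain ⟨k, hk⟩ : ∃ k, 2 * m = k + 3 := ⟨2 * m - 3, by omega⟩
        have hdet : (X : Matrix (Fin (2 * m)) (Fin (2 * m)) F).det = 1 := by
          rw [hXv, Matrix.det_diagonal]
          rw [Fintype.prod_eq_prod_compl_mul (⟨0, by omega⟩ : Fin (2 * m)),
            ← Finset.mul_prod_erase _ _ (show (⟨1, by omega⟩ : Fin (2 * m)) ∈ ({⟨0, by omega⟩} : Finset (Fin (2 * m)))ᶜ by simp),
            ← Finset.mul_prod_erase _ _ (show (⟨2, by omega⟩ : Fin (2 * m)) ∈ (({⟨0, by omega⟩} : Finset (Fin (2 * m)))ᶜ).erase ⟨1, by omega⟩ by simp),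
            Finset.prod_eq_one fun i hi => ?_]
          · simp only [t]
            norm_num
            field_simp
          · simp only [Finset.mem_erase, Finset.mem_compl, Finset.mem_singleton, ne_eq, Fin.ext_iff] at hi
            simp only [t]
            rw [if_neg (by omega), if_neg (by omega)]
        have htr : ∀ i, t i ^ r = 1 := fun i => by
          simp only [t]
          split_ifs
          · exact hζr
          · rw [inv_pow, ← pow_mul, mul_comm, pow_mul, hζr, one_pow, inv_one]
          · exact one_pow _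
        have hXr : (Matrix.toLin' (Matrix.diagonal t)) ^ r = 1 := by
          rw [← Matrix.toLin'_pow, Matrix.diagonal_pow, show t ^ r = fun _ => (1 : F) from funext htr, Matrix.diagonal_one,
            Matrix.toLin'_one]
          rfl
        refine hbad X ⟨hXU, Units.ext hdet⟩ ⟨1, ?_⟩ 1 (Matrix.toLin' (Matrix.diagonal t)) 3 one_ne_zero
          (by rw [hXv, one_smul]) (fun x y => ?_) (disjoint_diag t) ?_ (by decide) (by omega) (Or.inr ⟨hr2, hXr⟩) H
        · rw [Units.val_pow_eq_pow_val, hXv, Matrix.diagonal_pow, show t ^ r = fun _ => (1 : F) from funext htr,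
            Matrix.diagonal_one, one_smul]
        · rw [← hXv, Matrix.toLin'_apply, Matrix.toLin'_apply]
          exact hXU x y
        · rw [finrank_range_diag, show (Finset.univ.filter fun i => t i ≠ 1) =
            (Finset.univ : Finset (Fin 3)).map (Fin.castLEEmb (by omega : 3 ≤ 2 * m)) from ?_, Finset.card_map,
            Finset.card_univ, Fintype.card_fin]
          ext i
          simp only [Finset.mem_filter, Finset.mem_univ, true_and, Finset.mem_map, t]
          constructor
          · intro h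
            split_ifs at h with h1 h2
            · exact ⟨⟨i.1, by omega⟩, Fin.ext rfl⟩
            · exact ⟨⟨i.1, by omega⟩, Fin.ext rfl⟩
            · exact absurd rfl h
          · rintro ⟨j, rfl⟩
            have := j.2
            simp only [Fin.castLEEmb_apply, Fin.val_castLE]
            split_ifs with h1 h2
            · exact hζ1
            · exact hζ2
            · omega
      · obtain ⟨X, hX, hXr, hXrk⟩ := PairU.exists_odd_elt hq hr hrF hb hb1 hbodd hrb (by omega : b ≤ 2 * m)
        have hYr : (Matrix.toLin' (X : Matrix (Fin (2 * m)) (Fin (2 * m)) F)) ^ r = 1 := by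
          rw [← Matrix.toLin'_pow, ← Units.val_pow_eq_pow_val, hXr, Units.val_one, Matrix.toLin'_one]; rfl
        haveI := Fact.mk hr
        refine hbad X hX ⟨1, by rw [hXr, Units.val_one, one_smul]⟩ 1 _ b one_ne_zero (one_smul _ _).symm
          (fun x y => by rw [Matrix.toLin'_apply, Matrix.toLin'_apply]; exact hX.1 x y)
          (ClMax99.Inv.disjoint_ker_range hrF hYr) hXrk hbodd (by omega) (Or.inr ⟨hr2, hYr⟩) H
  · rintro ⟨rfl, hodd, hval⟩ x hx ⟨z, hz⟩ -
    have h2 : (2 : F) ≠ 0 := UnitaryOrthogonal.two_ne_zero_of_card_odd (by rw [hq]; exact hodd.pow)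
    obtain ⟨U, W, hUW, hU, hW⟩ := PairU.exists_pair_of_invol hq (by omega) h2 hx.1 (Matrix.GeneralLinearGroup.val_det_apply x ▸ congrArg Units.val hx.2) hz hval
    obtain ⟨g, hg, hgU, hgW⟩ := PairU.exists_move hq rfl (by omega) hp hUW
    refine ⟨g, hg, LagPair.mem_stab_of_fix (fun v hv => ?_) fun v hv => ?_⟩
    all_goals
      rw [Units.val_mul, Units.val_mul, ← Matrix.mulVec_mulVec, ← Matrix.mulVec_mulVec]
    · obtain ⟨w, hw, e⟩ := (LagPair.map_eq_of_forall hgU (by rw [hUW.fin₁, hp.fin₁])).ge (hU _ (hgU v hv))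
      rw [← e, Matrix.mulVecLin_apply, Matrix.mulVec_mulVec, ← Units.val_mul, inv_mul_cancel, Units.val_one, Matrix.one_mulVec]
      exact hw
    · obtain ⟨w, hw, e⟩ := (LagPair.map_eq_of_forall hgW (by rw [hUW.fin₂, hp.fin₂])).ge (hW _ (hgW v hv))
      rw [← e, Matrix.mulVecLin_apply, Matrix.mulVec_mulVec, ← Units.val_mul, inv_mul_cancel, Units.val_one, Matrix.one_mulVec]
      exact hw

end Cfsg.Agent.S5984
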