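import Cfsg.Statements.S5985
import Cfsg.Agent.OrthFix.Std
import Cfsg.Agent.Forms59.PlusOmega
import Cfsg.Agent.ClMax99.AltSim

set_option autoImplicit false
open scoped MatrixGroups
open Cfsg

namespace Cfsg.Agent.S5985

open QuadraticMap

variable {F : Type*} [Field F] [Fintype F] {d : ℕ}

theorem sq_eq_one (h2 : (2 : F) = 0) {a : F} (h : a * a = 1) : a = 1 := by
  have : (a - 1) * (a - 1) = 0 := by linear_combination h + (1 - a) * h2
  exact sub_eq_zero.1 (mul_self_eq_zero.1 this)

/-- An invariant nonsingular line is fixed pointwise. -/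
theorem fixed_of_line (h2 : (2 : F) = 0) {Q : QuadraticForm F (Fin d ⊕ Fin d → F)}
    {T : (Fin d ⊕ Fin d → F) →ₗ[F] (Fin d ⊕ Fin d → F)} (hT : ∀ v, Q (T v) = Q v)
    {W : Submodule F (Fin d ⊕ Fin d → F)} (hW : Module.finrank F W = 1)
    (hv : ∃ v ∈ W, Q v ≠ 0) (hinv : ∀ x ∈ W, T x ∈ W) :
    ∃ v, Q v ≠ 0 ∧ T v = v := by
  obtain ⟨v, hvW, hv⟩ := hv
  obtain ⟨c, hc⟩ := (finrank_eq_one_iff_of_nonzero' (⟨v, hvW⟩ : W) (fun e => hv (by
    rw [Subtype.ext_iff] at e
    rw [show v = 0 from e, QuadraticMap.map_zero]))).1 hW ⟨T v, hinv v hvW⟩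
  have hc' : c • v = T v := congrArg Subtype.val hc
  have := hT v
  rw [← hc', QuadraticMap.map_smul, smul_eq_mul] at this
  have hc1 := sq_eq_one h2 ((mul_eq_right₀ hv).1 this)
  exact ⟨v, hv, by rw [← hc', hc1, one_smul]⟩

theorem line_invariant {Q : QuadraticForm F (Fin d ⊕ Fin d → F)}
    {T : (Fin d ⊕ Fin d → F) →ₗ[F] (Fin d ⊕ Fin d → F)} {v : Fin d ⊕ Fin d → F}
    (hv : Q v ≠ 0) (hT : T v = v) :
    ∃ W : Submodule F (Fin d ⊕ Fin d → F), (Module.finrank F W = 1 ∧ ∃ v ∈ W, Q v ≠ 0) ∧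
      W.map T ≤ W := by
  refine ⟨Submodule.span F {v}, ⟨finrank_span_singleton (fun e => hv (by rw [e, QuadraticMap.map_zero])),
    v, Submodule.mem_span_singleton_self v, hv⟩, ?_⟩
  rw [Submodule.map_span, Set.image_singleton, hT]

/-- An involutive isometry fixes a nonsingular vector when half the dimension is odd. -/
theorem invol_fix (h2 : (2 : F) = 0) {Q : QuadraticForm F (Fin d ⊕ Fin d → F)}
    (hQ : (polarBilin Q).Nondegenerate) (hd : Odd d)
    {T : (Fin d ⊕ Fin d → F) →ₗ[F] (Fin d ⊕ Fin d → F)} (hT : ∀ v, Q (T v) = Q v)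
    (hT2 : ∀ v, T (T v) = v) : ∃ v, Q v ≠ 0 ∧ T v = v := by
  by_contra hcon
  push Not at hcon
  have hneg : ∀ x : Fin d ⊕ Fin d → F, x + x = 0 := fun x => by
    funext i; simp only [Pi.add_apply, Pi.zero_apply]; linear_combination (x i) * h2
  set N : (Fin d ⊕ Fin d → F) →ₗ[F] (Fin d ⊕ Fin d → F) := T + LinearMap.id with hN
  have hNker : ∀ v, N v = 0 ↔ T v = v := fun v => by
    show T v + v = 0 ↔ _
    constructor
    · intro h
      linear_combination (norm := module) h - hneg v
    · intro h; rw [h]; exact hneg v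
  set K := LinearMap.ker N with hK
  have hKQ : ∀ v ∈ K, Q v = 0 := fun v hv => by
    by_contra h; exact hcon v h ((hNker v).1 hv)
  have hKpolar : ∀ u ∈ K, ∀ v ∈ K, polar Q u v = 0 := fun u hu v hv => by
    simp [QuadraticMap.polar, hKQ u hu, hKQ v hv, hKQ _ (K.add_mem hu hv)]
  have hNK : ∀ v, N v ∈ K := fun v => by
    show N (N v) = 0
    rw [hNker]
    show T (T v + v) = T v + v
    rw [map_add, hT2, add_comm]
  have halt : ∀ v, polar Q v (N v) = 0 := fun v => by
    have e : T v = v + N v := by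
      show T v = v + (T v + v)
      linear_combination (norm := module) -hneg v
    have := hT v
    rw [e, QuadraticMap.map_add ⇑Q v, hKQ _ (hNK v)] at this
    linear_combination this
  let B : LinearMap.BilinForm F (Fin d ⊕ Fin d → F) := (polarBilin Q).compl₂ N
  have hA : B.IsAlt := halt
  obtain ⟨M, hM⟩ := K.exists_isCompl
  have hdec : ∀ u : Fin d ⊕ Fin d → F, ∃ a ∈ K, ∃ b ∈ M, u = a + b := fun u => by
    obtain ⟨a, ha, b, hb, e⟩ := Submodule.mem_sup.1
      (hM.sup_eq_top ▸ Submodule.mem_top : u ∈ K ⊔ M)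
    exact ⟨a, ha, b, hb, e.symm⟩
  have hev := Cfsg.Agent.ClMax99.AltSim.even_finrank B hA M fun v hv h => by
    refine Submodule.disjoint_def.1 hM.disjoint v ?_ hv
    refine hQ.2 _ fun u => ?_
    obtain ⟨a, ha, b, hb, rfl⟩ := hdec u
    show polar Q (a + b) (N v) = 0
    rw [polar_add_left, hKpolar a ha _ (hNK v), zero_add]
    have hsw := LinearMap.IsAlt.neg hA v b
    show B b v = 0
    rw [← hsw, h b hb, neg_zero]
  have hle := Cfsg.Agent.ClMax99.AltSim.finrank_le_of_pairing (polarBilin Q) K M fun a ha h => by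
    refine hQ.1 a fun u => ?_
    obtain ⟨a', ha', b, hb, rfl⟩ := hdec u
    rw [map_add, show polarBilin Q a a' = 0 from hKpolar a ha a' ha', zero_add, h b hb]
  have hsum := Submodule.finrank_add_eq_of_isCompl hM
  have hrn := N.finrank_range_add_finrank_ker
  have hrk : Module.finrank F (LinearMap.range N) ≤ Module.finrank F K :=
    Submodule.finrank_mono (by rintro _ ⟨v, rfl⟩; exact hNK v)
  rw [OrthFix.finrank_fun_plus] at hsum hrn
  rw [← hK] at hrn
  obtain ⟨k, hk⟩ := hev
  obtain ⟨l, hl⟩ := hd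
  omega

/-- For even `d` some involution in `Ω` fixes no nonsingular vector. -/
theorem exists_free_invol [CharP F 2] (hd : Even d) (hd1 : 3 ≤ d) :
    ∃ h : ↥(Cfsg.isometryGroup F ⇑(Reflections.qPlus d F)),
      h ∈ Cfsg.Omega F ⇑(Reflections.qPlus d F) ∧ h ^ 2 = 1 ∧ h ≠ 1 ∧
      ∀ v, Reflections.qPlus d F v ≠ 0 → Reflections.act h v ≠ v := by
  have h2 : (2 : F) = 0 := by exact_mod_cast CharP.cast_eq_zero F 2
  have hσ : ∀ i : Fin d, i.rev ≠ i := fun i h => by
    obtain ⟨k, hk⟩ := hd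
    have := congrArg Fin.val h
    rw [Fin.val_rev] at this
    omega
  let L : (Fin d ⊕ Fin d → F) →ₗ[F] (Fin d ⊕ Fin d → F) :=
    LinearMap.pi (Sum.elim (fun i : Fin d => (LinearMap.proj (Sum.inl i) : (Fin d ⊕ Fin d → F) →ₗ[F] F) + LinearMap.proj (Sum.inr i.rev))
      fun i : Fin d => (LinearMap.proj (Sum.inr i) : (Fin d ⊕ Fin d → F) →ₗ[F] F))
  have hL1 : ∀ v i, L v (Sum.inl i) = v (Sum.inl i) + v (Sum.inr i.rev) := fun v i => rfl
  have hL2 : ∀ v i, L v (Sum.inr i) = v (Sum.inr i) := fun v i => rfl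
  have hinv : Function.Involutive L := fun v => by
    funext k
    rcases k with i | i
    · rw [hL1, hL1, hL2]; linear_combination (v (Sum.inr i.rev)) * h2
    · rw [hL2, hL2]
  have hiso : ∀ v, Reflections.qPlus d F (L v) = Reflections.qPlus d F v := fun v => by
    simp only [Reflections.coe_qPlus, Cfsg.quadFormPlus, hL1, hL2, add_mul, Finset.sum_add_distrib]
    rw [add_eq_left]
    refine Finset.sum_involution (fun i _ => i.rev) (fun i _ => ?_) (fun i _ _ => hσ i)
      (fun i _ => Finset.mem_univ _) fun i _ => Fin.rev_rev i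
    rw [Fin.rev_rev]
    linear_combination (v (Sum.inr i.rev) * v (Sum.inr i)) * h2
  obtain ⟨h, hh⟩ := Forms59.exists_of_linearEquiv (Q := Reflections.qPlus d F)
    (LinearEquiv.ofInvolutive L hinv) hiso
  have hh' : ∀ x, Reflections.act h x = L x := hh
  have hsq : h ^ 2 = 1 := by
    refine Subtype.ext (Units.ext (Matrix.toLin'.injective (LinearMap.ext fun v => ?_)))
    rw [pow_two, Subgroup.coe_mul, Units.val_mul, Matrix.toLin'_mul, OneMemClass.coe_one,
      Units.val_one, Matrix.toLin'_one]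
    show Reflections.act h (Reflections.act h v) = v
    rw [hh', hh', hinv]
  refine ⟨h, (Forms59.classHom_eq_one_iff_mem_omega (by omega) (Or.inr (by omega)) h).1 ?_, hsq,
    fun e => ?_, fun v hv e => ?_⟩
  · rw [Forms59.classHom_eq_one_iff]
    have : Forms59.imgSub h (CG26.Plus.std d F) = CG26.Plus.std d F := by
      have hstd : ∀ x, x ∈ CG26.Plus.std d F ↔ ∀ i : Fin d, x (Sum.inr i) = 0 := fun x => Iff.rfl
      ext x
      rw [Forms59.mem_imgSub]
      constructor
      · rintro ⟨y, hy, rfl⟩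
        rw [hh', hstd]; intro i; rw [hL2]; exact (hstd y).1 hy i
      · intro hx
        refine ⟨L x, (hstd _).2 fun i => ?_, by rw [hh', hinv]⟩
        rw [hL2]; exact (hstd x).1 hx i
    rw [Forms59.fixDim, this, inf_idem, CG26.Plus.std_finrank, Nat.sub_self]
    exact Even.zero
  · let j : Fin d := ⟨0, by omega⟩
    have := congrFun (hh' (Pi.single (Sum.inr j.rev) 1)) (Sum.inl j)
    rw [hL1, e] at this
    simp [Reflections.act, Reflections.mat] at this
  · rw [hh'] at e
    refine hv ?_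
    rw [Reflections.coe_qPlus]
    refine Finset.sum_eq_zero fun i _ => ?_
    have := congrFun e (Sum.inl i.rev)
    rw [hL1, Fin.rev_rev, add_eq_left] at this
    show v (Sum.inl i) * v (Sum.inr i) = 0
    rw [this, mul_zero]

/-- The nonsingular points correspond to the vectors of value one. -/
theorem card_points [CharP F 2] (Q : QuadraticForm F (Fin d ⊕ Fin d → F)) :
    Nat.card {W : Submodule F (Fin d ⊕ Fin d → F) // Module.finrank F ↥W = 1 ∧ ∃ v ∈ W, Q v ≠ 0} =
      UnitaryOrthogonal.level Q 1 := by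
  have h2 : (2 : F) = 0 := by exact_mod_cast CharP.cast_eq_zero F 2
  refine (Nat.card_eq_of_bijective (fun v : {v // Q v = 1} =>
    (⟨Submodule.span F {v.1}, finrank_span_singleton (fun e => by
      have h := v.2; rw [e, QuadraticMap.map_zero] at h; exact zero_ne_one h),
      v.1, Submodule.mem_span_singleton_self _, by rw [v.2]; exact one_ne_zero⟩ :
    {W : Submodule F (Fin d ⊕ Fin d → F) // Module.finrank F ↥W = 1 ∧ ∃ v ∈ W, Q v ≠ 0})) ⟨?_, ?_⟩).symm
  · rintro ⟨v, hv⟩ ⟨w, hw⟩ h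
    have hw' : w ∈ Submodule.span F {v} := by
      rw [show Submodule.span F {v} = Submodule.span F {w} from congrArg Subtype.val h]
      exact Submodule.mem_span_singleton_self w
    obtain ⟨c, rfl⟩ := Submodule.mem_span_singleton.1 hw'
    rw [QuadraticMap.map_smul, hv, smul_eq_mul, mul_one] at hw
    simp [sq_eq_one h2 hw]
  · rintro ⟨W, hW, u, hu, hQu⟩
    obtain ⟨c, hc⟩ := Forms59.isSquare_of_two_eq_zero h2 (Q u)⁻¹
    have hc0 : c ≠ 0 := fun e => hQu (inv_eq_zero.1 (by rw [hc, e, mul_zero]))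
    refine ⟨⟨c • u, by rw [QuadraticMap.map_smul, smul_eq_mul, ← hc, inv_mul_cancel₀ hQu]⟩, ?_⟩
    refine Subtype.ext (Submodule.eq_of_le_of_finrank_eq
      ((Submodule.span_singleton_le_iff_mem _ _).2 (W.smul_mem c hu)) ?_)
    rw [hW]
    exact finrank_span_singleton (smul_ne_zero hc0 fun e => hQu (by rw [e, QuadraticMap.map_zero]))


/-- Elements of prime order of Ω⁺_n(q), q even, with no fixed nonsingular 1-space. Here `T = PΩ⁺_n(F)`, `n = 2d ≥ 8`, realised through `Ω⁺_n(q)`, the commutator subgroup of the isometry group of `Q = Σ xᵢyᵢ` over the field `F` with `q` elements; an element of `T` of prime order `r` is an element `x` of `Ω⁺_n(q)` with `x^r` scalar and `x` not scalar; `q` is even (so the centre is trivial). Let Ω be the set of 1-dimensional subspaces spanned by a vector `v` with `Q(v) ≠ 0`, and let `r` be a prime dividing their number. Then every element of `T` of order `r` fixes some nonsingular 1-space if and only if `r = 2` and `n ≡ 2 (mod 4)` (that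 is, `d` is odd). -/
theorem result {F : Type*} [Field F] [Fintype F] {p : ℕ} [Fact p.Prime] [CharP F p] {q : ℕ} (hq : Fintype.card F = q)
    (hp : p = 2) (d : ℕ) (hd : 4 ≤ d) (r : ℕ) [Fact r.Prime]
    (hrΩ : r ∣ Nat.card {W : Submodule F (Fin d ⊕ Fin d → F) // Module.finrank F ↥W = 1 ∧ ∃ v ∈ W, Cfsg.quadFormPlus d F v ≠ 0}) :
    (∀ x : GL (Fin d ⊕ Fin d) F, x ∈ Cfsg.Geo.omegaGL (Cfsg.quadFormPlus d F) →
      (∃ z : F, ((x ^ r : GL (Fin d ⊕ Fin d) F) : Matrix (Fin d ⊕ Fin d) (Fin d ⊕ Fin d) F) = z • (1 : Matrix (Fin d ⊕ Fin d) (Fin d ⊕ Fin d) F)) →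
      (∀ z : F, (x : Matrix (Fin d ⊕ Fin d) (Fin d ⊕ Fin d) F) ≠ z • (1 : Matrix (Fin d ⊕ Fin d) (Fin d ⊕ Fin d) F)) →
      ∃ W : Submodule F (Fin d ⊕ Fin d → F), (Module.finrank F ↥W = 1 ∧ ∃ v ∈ W, Cfsg.quadFormPlus d F v ≠ 0) ∧ W.map (Matrix.toLin' (x : Matrix (Fin d ⊕ Fin d) (Fin d ⊕ Fin d) F)) ≤ W) ↔ (r = 2 ∧ Odd d) := by
  subst hp
  obtain rfl : Fintype.card F = q := hq
  have h2 : (2 : F) = 0 := by exact_mod_cast CharP.cast_eq_zero F 2
  have hr' : r.Prime := Fact.out
  constructor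
  · intro H
    by_cases hr2 : r = 2
    · subst hr2
      refine ⟨rfl, ?_⟩
      by_contra hodd
      obtain ⟨h, hh, hsq, hne, hfree⟩ := exists_free_invol (F := F) (Nat.not_odd_iff_even.1 hodd)
        (by omega : 3 ≤ d)
      have hf := Reflections.coe_qPlus d F
      obtain ⟨W, ⟨hW, hv⟩, hinv⟩ := H (h : GL (Fin d ⊕ Fin d) F) (by rw [← hf]; exact ⟨h, hh, rfl⟩)
        ⟨1, by rw [← Subgroup.coe_pow, hsq, one_smul]; rfl⟩ (fun z hz => hne (by
          have hz1 : z = 1 := by
            obtain ⟨v, hv⟩ := Forms59.exists_value_one (F := F) (m := d) (by omega)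
            have h1 := Reflections.act_Q h v
            rw [Reflections.act, Reflections.mat, hz, Matrix.smul_mulVec, Matrix.one_mulVec,
              QuadraticMap.map_smul, smul_eq_mul] at h1
            exact sq_eq_one h2 ((mul_eq_right₀ hv).1 h1)
          rw [hz1, one_smul] at hz
          exact Subtype.ext (Units.ext hz)))
      rw [← hf] at hv
      obtain ⟨v, hv, hTv⟩ := fixed_of_line h2
        (T := Matrix.toLin' ((h : GL (Fin d ⊕ Fin d) F) : Matrix _ _ F))
        (fun v => Reflections.act_Q h v) hW hv (fun x hx => hinv ⟨x, hx, rfl⟩)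
      exact hfree v hv hTv
    · exfalso
      have hr2' : 2 < r := lt_of_le_of_ne hr'.two_le (Ne.symm hr2)
      have hro : Odd r := hr'.odd_of_ne_two hr2
      set i := orderOf (Fintype.card F : ZMod r) with hi
      have S := OrthFix.setup_of (F := F) (p := 2) rfl hr' hr2' hr2 hi
        (rfl : (if Even i then i else 2 * i) = _)
      have hf := OrthFix.coe_qPlus (F := F) d
      have hQ := OrthFix.polarND_qPlus (F := F) d
      rw [← hf] at hrΩ H
      rw [card_points] at hrΩ
      have hid : i ∣ d := S.pow_eq_one_iff.1 (by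
        have h := congrArg (Int.cast : ℤ → ZMod r) ((OrthFix.sig_qPlus (F := F) d).count 1)
        rw [OrthFix.finrank_fun_plus, OrthFix.kern_even (even_two_mul d), OrthFix.nu,
          if_neg one_ne_zero, show 2 * d / 2 = d by omega, two_mul, pow_add] at h
        push_cast at h
        rw [(ZMod.natCast_eq_zero_iff _ _).2 hrΩ, mul_zero] at h
        have h' : (Fintype.card F : ZMod r) ^ d * ((Fintype.card F : ZMod r) ^ d - 1) = 0 := by
          linear_combination -h
        exact sub_eq_zero.1 ((mul_eq_zero.1 h').resolve_left (pow_ne_zero _ S.q_ne)))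
      obtain ⟨t, ht⟩ := hid
      have hs : ∃ s, s * (if Even i then i else 2 * i) = 2 * d ∧
          (if Even i then (-1 : ℤ) else 1) ^ s = 1 := by
        by_cases he : Even i
        · exact ⟨2 * t, by rw [if_pos he, ht]; ring, by rw [if_pos he, pow_mul, neg_one_sq, one_pow]⟩
        · exact ⟨t, by rw [if_neg he, ht]; ring, by rw [if_neg he, one_pow]⟩
      obtain ⟨s, hs1, hs2⟩ := hs
      obtain ⟨g, M, hg, -, -, hMd, -, hMfix, -⟩ := OrthFix.exists_elem S s
        (OrthFix.ndOn_top hQ) (OrthFix.sigOn_top (OrthFix.sig_qPlus (F := F) d))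
        (by rw [finrank_top, OrthFix.finrank_fun_plus, hs1]) (fun _ => hs2.symm)
      have hM : M = ⊤ := Submodule.eq_top_of_finrank_eq (by rw [hMd, hs1, OrthFix.finrank_fun_plus])
      subst hM
      have hne : Nonempty (Fin d ⊕ Fin d) := ⟨Sum.inl ⟨0, by omega⟩⟩
      obtain ⟨W, ⟨hW, hv⟩, hinv⟩ := (OrthFix.forall_scalar_iff rfl hQ (by simp; omega) hne hro _).1 H g hg
        (fun e => by
          obtain ⟨j⟩ := hne
          exact Pi.single_ne_zero_iff.2 one_ne_zero (hMfix (Pi.single j 1) trivial (by rw [e]; rfl)))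
      obtain ⟨v, hv, hTv⟩ := fixed_of_line h2 (T := g.1.toLinearMap) (fun v => g.2 v) hW hv hinv
      exact hv (by rw [hMfix v trivial hTv, QuadraticMap.map_zero])
  · rintro ⟨rfl, hd'⟩ x hx ⟨z, hz⟩ -
    have hf := Reflections.coe_qPlus d F
    rw [← hf] at hx ⊢
    obtain ⟨h, -, rfl⟩ := hx
    have hQz : z = 1 := by
      obtain ⟨v, hv⟩ := Forms59.exists_value_one (F := F) (m := d) (by omega)
      have h1 := Reflections.act_Q (h ^ 2) v
      rw [Reflections.act, Reflections.mat, Subgroup.coe_pow] at h1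
      erw [hz] at h1
      rw [Matrix.smul_mulVec, Matrix.one_mulVec, QuadraticMap.map_smul, smul_eq_mul] at h1
      exact sq_eq_one h2 ((mul_eq_right₀ hv).1 h1)
    obtain ⟨v, hv, hTv⟩ := invol_fix h2 Forms59.qPlus_nondegenerate hd'
      (T := Matrix.toLin' ((h : GL (Fin d ⊕ Fin d) F) : Matrix _ _ F))
      (fun v => Reflections.act_Q h v) (fun v => by
        rw [← Matrix.toLin'_mul_apply, ← Units.val_mul, ← pow_two]
        erw [hz]
        rw [hQz, one_smul, Matrix.toLin'_one]; rfl)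
    exact line_invariant hv hTv

end Cfsg.Agent.S5985
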