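import Cfsg.Statements.S5986
import Cfsg.Agent.OrthFix.Std
import Cfsg.Agent.Forms59.Elliptic

set_option autoImplicit false
open Cfsg

namespace Cfsg.Agent.S5986

open QuadraticMap
open Cfsg.Agent.UnitaryOrthogonal (qMinus)

variable {F : Type*} [Field F] [Fintype F] {ι : Type} [Fintype ι]

theorem sq_eq_one (h2 : (2 : F) = 0) {a : F} (h : a * a = 1) : a = 1 := by
  have : (a - 1) * (a - 1) = 0 := by linear_combination h + (1 - a) * h2
  exact sub_eq_zero.1 (mul_self_eq_zero.1 this)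

/-- An invariant nonsingular line is fixed pointwise. -/
theorem fixed_of_line (h2 : (2 : F) = 0) {Q : QuadraticForm F (ι → F)}
    {T : (ι → F) →ₗ[F] (ι → F)} (hT : ∀ v, Q (T v) = Q v)
    {W : Submodule F (ι → F)} (hW : Module.finrank F W = 1)
    (hv : ∃ v ∈ W, Q v ≠ 0) (hinv : ∀ x ∈ W, T x ∈ W) :
    ∃ v, Q v ≠ 0 ∧ T v = v := by
  obtain ⟨v, hvW, hv⟩ := hv
  obtain ⟨c, hc⟩ := (finrank_eq_one_iff_of_nonzero' (⟨v, hvW⟩ : W) (fun e => hv (by
    rw [Subtype.ext_iff] at e
    rw [show v = 0 from e, QuadraticMap.map_zero]))).1 hW ⟨T v, hinv v hvW⟩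
  have hc' : c • v = T v := congrArg Subtype.val hc
  have := hT v
  rw [← hc', QuadraticMap.map_smul, smul_eq_mul] at this
  have hc1 := sq_eq_one h2 ((mul_eq_right₀ hv).1 this)
  exact ⟨v, hv, by rw [← hc', hc1, one_smul]⟩

/-- An involutive isometry with a small Witt index fixes a nonsingular vector. -/
theorem invol_fix (h2 : (2 : F) = 0) {Q : QuadraticForm F (ι → F)} {k : ℕ}
    (hk : 2 * k < Fintype.card ι)
    (hts : ∀ U : Submodule F (ι → F), (∀ u ∈ U, Q u = 0) → Module.finrank F U ≤ k)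
    {T : (ι → F) →ₗ[F] (ι → F)} (hT2 : ∀ v, T (T v) = v) : ∃ v, Q v ≠ 0 ∧ T v = v := by
  by_contra hcon
  push Not at hcon
  have hneg : ∀ x : ι → F, x + x = 0 := fun x => by
    funext i; simp only [Pi.add_apply, Pi.zero_apply]; linear_combination (x i) * h2
  set N : (ι → F) →ₗ[F] (ι → F) := T + LinearMap.id with hN
  have hNker : ∀ v, N v = 0 ↔ T v = v := fun v => by
    show T v + v = 0 ↔ _
    constructor
    · intro h
      linear_combination (norm := module) h - hneg v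
    · intro h; rw [h]; exact hneg v
  have hle := hts (LinearMap.ker N) fun v hv => by
    by_contra h; exact hcon v h ((hNker v).1 hv)
  have hrk : Module.finrank F (LinearMap.range N) ≤ Module.finrank F (LinearMap.ker N) :=
    Submodule.finrank_mono (by
      rintro _ ⟨v, rfl⟩
      rw [LinearMap.mem_ker, hNker]
      show T (T v + v) = T v + v
      rw [map_add, hT2, add_comm])
  have hrn := N.finrank_range_add_finrank_ker
  rw [Module.finrank_fintype_fun_eq_card] at hrn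
  omega

/-- The nonsingular points correspond to the vectors of value one. -/
theorem card_points [CharP F 2] (Q : QuadraticForm F (ι → F)) :
    Nat.card {W : Submodule F (ι → F) // Module.finrank F ↥W = 1 ∧ ∃ v ∈ W, Q v ≠ 0} =
      UnitaryOrthogonal.level Q 1 := by
  have h2 : (2 : F) = 0 := by exact_mod_cast CharP.cast_eq_zero F 2
  refine (Nat.card_eq_of_bijective (fun v : {v // Q v = 1} =>
    (⟨Submodule.span F {v.1}, finrank_span_singleton (fun e => by
      have h := v.2; rw [e, QuadraticMap.map_zero] at h; exact zero_ne_one h),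
      v.1, Submodule.mem_span_singleton_self _, by rw [v.2]; exact one_ne_zero⟩ :
    {W : Submodule F (ι → F) // Module.finrank F ↥W = 1 ∧ ∃ v ∈ W, Q v ≠ 0})) ⟨?_, ?_⟩).symm
  · rintro ⟨v, hv⟩ ⟨w, hw⟩ h
    have hw' : w ∈ Submodule.span F {v} := by
      rw [show Submodule.span F {v} = Submodule.span F {w} from congrArg Subtype.val h]
      exact Submodule.mem_span_singleton_self w
    obtain ⟨c, rfl⟩ := Submodule.mem_span_singleton.1 hw'
    rw [QuadraticMap.map_smul, hv, smul_eq_mul, mul_one] at hw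
    simp [sq_eq_one h2 hw]
  · rintro ⟨W, hW, u, hu, hQu⟩
    obtain ⟨c, hc⟩ := FiniteField.isSquare_of_char_two (F := F) (ringChar.eq F 2) (Q u)⁻¹
    have hc0 : c ≠ 0 := fun e => hQu (inv_eq_zero.1 (by rw [hc, e, mul_zero]))
    refine ⟨⟨c • u, by rw [QuadraticMap.map_smul, smul_eq_mul, ← hc, inv_mul_cancel₀ hQu]⟩, ?_⟩
    refine Subtype.ext (Submodule.eq_of_le_of_finrank_eq
      ((Submodule.span_singleton_le_iff_mem _ _).2 (W.smul_mem c hu)) ?_)
    rw [hW]
    exact finrank_span_singleton (smul_ne_zero hc0 fun e => hQu (by rw [e, QuadraticMap.map_zero]))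


/-- Elements of prime order of Ω⁻_n(q), q even, with no fixed nonsingular 1-space. Here `T = PΩ⁻_n(F)`, `n = 2d ≥ 8`, realised through `Ω⁻_n(q)`, the commutator subgroup of the isometry group of `Q = Σ_{i<d−1} xᵢyᵢ + z₁² + a z₁z₂ + b z₂²` with `z₁² + a z₁z₂ + b z₂²` anisotropic, over the field `F` with `q` elements; an element of `T` of prime order `r` is an element `x` of `Ω⁻_n(q)` with `x^r` scalar and `x` not scalar; `q` is even (so the centre is trivial). Let Ω be the set of 1-dimensional subspaces spanned by a vector `v` with `Q(v) ≠ 0`, and let `r` be a prime dividing their number. Then every element of `T` of order `r` fixes some nonsingular 1-space if and only if `r = 2`. -/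
theorem result {F : Type*} [Field F] [Fintype F] {p : ℕ} [Fact p.Prime] [CharP F p] {q : ℕ} (hq : Fintype.card F = q)
    (hp : p = 2) (d : ℕ) (hd : 4 ≤ d) (a b : F) (hab : ∀ x y : F, x ^ 2 + a * x * y + b * y ^ 2 = 0 → x = 0 ∧ y = 0) (r : ℕ) [Fact r.Prime]
    (hrΩ : r ∣ Nat.card {W : Submodule F ((Fin (d - 1) ⊕ Fin (d - 1)) ⊕ Fin 2 → F) // Module.finrank F ↥W = 1 ∧ ∃ v ∈ W, Cfsg.quadFormMinus (d - 1) F a b v ≠ 0}) :
    (∀ x : GL ((Fin (d - 1) ⊕ Fin (d - 1)) ⊕ Fin 2) F, x ∈ Cfsg.Geo.omegaGL (Cfsg.quadFormMinus (d - 1) F a b) →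
      (∃ z : F, ((x ^ r : GL ((Fin (d - 1) ⊕ Fin (d - 1)) ⊕ Fin 2) F) : Matrix ((Fin (d - 1) ⊕ Fin (d - 1)) ⊕ Fin 2) ((Fin (d - 1) ⊕ Fin (d - 1)) ⊕ Fin 2) F) = z • (1 : Matrix ((Fin (d - 1) ⊕ Fin (d - 1)) ⊕ Fin 2) ((Fin (d - 1) ⊕ Fin (d - 1)) ⊕ Fin 2) F)) →
      (∀ z : F, (x : Matrix ((Fin (d - 1) ⊕ Fin (d - 1)) ⊕ Fin 2) ((Fin (d - 1) ⊕ Fin (d - 1)) ⊕ Fin 2) F) ≠ z • (1 : Matrix ((Fin (d - 1) ⊕ Fin (d - 1)) ⊕ Fin 2) ((Fin (d - 1) ⊕ Fin (d - 1)) ⊕ Fin 2) F)) →
      ∃ W : Submodule F ((Fin (d - 1) ⊕ Fin (d - 1)) ⊕ Fin 2 → F), (Module.finrank F ↥W = 1 ∧ ∃ v ∈ W, Cfsg.quadFormMinus (d - 1) F a b v ≠ 0) ∧ W.map (Matrix.toLin' (x : Matrix ((Fin (d - 1) ⊕ Fin (d - 1)) ⊕ Fin 2) ((Fin (d - 1) ⊕ Fin (d - 1)) ⊕ Fin 2) F)) ≤ W) ↔ r = 2 := by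
  subst hp
  obtain rfl : Fintype.card F = q := hq
  have h2 : (2 : F) = 0 := by exact_mod_cast CharP.cast_eq_zero F 2
  have hr' : r.Prime := Fact.out
  have hf := OrthFix.coe_qMinus (F := F) (d - 1) a b
  have hQ := OrthFix.polarND_qMinus (F := F) (a := a) (b := b) hab (d - 1)
  have hsig := OrthFix.sig_qMinus (F := F) (a := a) (b := b) hab (d - 1)
  have hcard : Fintype.card ((Fin (d - 1) ⊕ Fin (d - 1)) ⊕ Fin 2) = 2 * d := by
    simp; omega
  have hne : Nonempty ((Fin (d - 1) ⊕ Fin (d - 1)) ⊕ Fin 2) := ⟨Sum.inr 0⟩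
  rw [← hf] at hrΩ ⊢
  constructor
  · intro H
    by_contra hr2
    have hr2' : 2 < r := lt_of_le_of_ne hr'.two_le (Ne.symm hr2)
    have hro : Odd r := hr'.odd_of_ne_two hr2
    set i := orderOf (Fintype.card F : ZMod r) with hi
    have S := OrthFix.setup_of (F := F) (p := 2) rfl hr' hr2' hr2 hi
      (rfl : (if Even i then i else 2 * i) = _)
    rw [card_points] at hrΩ
    have hqd : (Fintype.card F : ZMod r) ^ d = -1 := by
      have h := congrArg (Int.cast : ℤ → ZMod r) (hsig.count 1)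
      rw [OrthFix.finrank_fun_minus (by omega), OrthFix.kern_even (even_two_mul d), OrthFix.nu,
        if_neg one_ne_zero, show 2 * d / 2 = d by omega, two_mul, pow_add] at h
      push_cast at h
      rw [(ZMod.natCast_eq_zero_iff _ _).2 hrΩ, mul_zero] at h
      have h' : (Fintype.card F : ZMod r) ^ d * ((Fintype.card F : ZMod r) ^ d + 1) = 0 := by
        linear_combination -h
      exact eq_neg_of_add_eq_zero_left ((mul_eq_zero.1 h').resolve_left (pow_ne_zero _ S.q_ne))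
    have hne1 : (-1 : ZMod r) ≠ 1 := by
      haveI : Fact (2 < r) := ⟨hr2'⟩
      exact ZMod.neg_one_ne_one
    have hnd : ¬ i ∣ d := fun h => hne1 (by rw [← hqd, S.pow_eq_one_iff.2 h])
    obtain ⟨t, ht⟩ : i ∣ 2 * d := S.pow_eq_one_iff.1 (by rw [two_mul, pow_add, hqd]; ring)
    have hto : Odd t := by
      rcases Nat.even_or_odd t with ⟨u, rfl⟩ | h
      · exact absurd ⟨u, by nlinarith [ht]⟩ hnd
      · exact h
    have hie : Even i := by
      have : Even (i * t) := ht ▸ even_two_mul d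
      exact (Nat.even_mul.1 this).resolve_right (Nat.not_even_iff_odd.2 hto)
    have hs1 : t * (if Even i then i else 2 * i) = 2 * d := by rw [if_pos hie, ht, mul_comm]
    obtain ⟨g, M, hg, -, -, hMd, -, hMfix, -⟩ := OrthFix.exists_elem S t
      (OrthFix.ndOn_top hQ) (OrthFix.sigOn_top hsig)
      (by rw [finrank_top, OrthFix.finrank_fun_minus (by omega), hs1])
      (fun _ => by rw [if_pos hie, hto.neg_one_pow])
    have hM : M = ⊤ := Submodule.eq_top_of_finrank_eq (by
      rw [hMd, hs1, OrthFix.finrank_fun_minus (by omega)])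
    subst hM
    obtain ⟨W, ⟨hW, hv⟩, hinv⟩ := (OrthFix.forall_scalar_iff rfl hQ (by omega) hne hro _).1 H g hg
      (fun e => by
        obtain ⟨j⟩ := hne
        exact Pi.single_ne_zero_iff.2 one_ne_zero (hMfix (Pi.single j 1) trivial (by rw [e]; rfl)))
    obtain ⟨v, hv, hTv⟩ := fixed_of_line h2 (T := g.1.toLinearMap) (fun v => g.2 v) hW hv hinv
    exact hv (by rw [hMfix v trivial hTv, QuadraticMap.map_zero])
  · rintro rfl x hx ⟨z, hz⟩ -
    obtain ⟨h, -, rfl⟩ := hx
    set g := UnitaryOrthogonal.isometryGroupEquiv (qMinus (d - 1) F a b) (fun v => rfl) h with hg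
    obtain ⟨j⟩ := hne
    obtain ⟨v₀, hv₀⟩ := OrthFix.exists_form_ne_zero hQ
      (show (Pi.single j (1 : F) : _ → F) ≠ 0 by simp)
    have hz' : ∀ v, g.1 (g.1 v) = z • v := fun v => by
      rw [hg, ← OrthFix.toLin'_eq rfl, ← OrthFix.toLin'_eq rfl, ← Matrix.toLin'_mul_apply,
        ← Units.val_mul, ← pow_two]
      erw [hz]
      rw [map_smul, Matrix.toLin'_one]; rfl
    have hz1 : z = 1 := sq_eq_one h2 ((mul_eq_right₀ hv₀).1 (by
      rw [← smul_eq_mul, ← QuadraticMap.map_smul, ← hz' v₀, g.2, g.2]))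
    obtain ⟨v, hv, hTv⟩ := invol_fix (k := d - 1) h2 (by omega)
      (fun U hU => Forms59.finrank_le_of_totally_singular_minus (d - 1) a b hab U
        fun u hu => (congrFun hf u).symm.trans (hU u hu))
      (T := g.1.toLinearMap) (fun v => by
        show g.1 (g.1 v) = v
        rw [hz', hz1, one_smul])
    refine ⟨Submodule.span F {v}, ⟨finrank_span_singleton (fun e => hv (by
      rw [e, QuadraticMap.map_zero])), v, Submodule.mem_span_singleton_self v, hv⟩, ?_⟩
    rw [Submodule.map_span, Set.image_singleton]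
    erw [OrthFix.toLin'_eq rfl]
    exact le_of_eq (congrArg (fun w => Submodule.span F {w}) hTv)

end Cfsg.Agent.S5986
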