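import Cfsg.Statements.S5988
import Cfsg.Agent.OrthFix.Rows

set_option autoImplicit false
open scoped MatrixGroups
open Cfsg

namespace Cfsg.Agent.S5988

/-- Elements of prime order of PΩ⁺_n(q) with no fixed elliptic `m`-space. Here `T = PΩ⁺_n(F)`, `n = 2d ≥ 8`, realised through `Ω⁺_n(q)`, the commutator subgroup of the isometry group of `Q = Σ xᵢyᵢ` over the field `F` with `q` elements; an element of `T` of prime order `r` is an element `x` of `Ω⁺_n(q)` with `x^r` scalar and `x` not scalar; a nondegenerate `m`-space (even `m`) is a subspace on which the polar form of `Q` is nondegenerate; it is hyperbolic if it contains an `m/2`-dimensional subspace on which `Q` vanishes, elliptic otherwise. Let `m` be even with `2 ≤ m < n/2` and let `r` be a prime dividing the number of elliptic `m`-spaces; for `r ≠ p` let `i` be the multiplicative order of `q` modulo `r`, `c = i` for `i` even and `c = 2i` for `i` odd, and write `k = n mod c`, `ℓ = m mod i`,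 `ℓ' = m mod c`, `n' = ⌊n/i⌋`, `m' = ⌊m/i⌋`, `t = (r−1)/i`. Then every element of `T` of order `r` fixes some elliptic `m`-space if and only if one of: (i) `r = 2 ≠ p` and either `n ≡ 0 (mod 4)`, `q ≡ 3 (mod 4)` and `m ≡ 2 (mod 4)`, or `n ≡ 2 (mod 4)` and `q ≢ 1 (mod 8)`; (ii) `r ≠ p` odd, `i` odd, `c ≤ m` and `k > ℓ' > 0`; (iii) `r ≠ p` odd, `i` even, and either `k = 0` and (`n/i` odd, or `ℓ' = 0` and `m/i` odd), or `i ≤ m` and (`k > ℓ' > 0`, or `k = ℓ' > 0` and `(n + m − 2k)/i` odd, or `k > ℓ' = 0` and `m/i` odd). (For `r = p` there is always an element of order `p` fixing no elliptic `m`-space.) -/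
theorem result {F : Type*} [Field F] [Fintype F] {p : ℕ} [Fact p.Prime] [CharP F p] {q : ℕ} (hq : Fintype.card F = q)
    (d m : ℕ) (hd : 4 ≤ d) (hm : 2 ≤ m) (hme : Even m) (hmd : m < d)
    (r : ℕ) [Fact r.Prime]
    (hrΩ : r ∣ Nat.card {W : Submodule F (Fin d ⊕ Fin d → F) // Module.finrank F ↥W = m ∧ Cfsg.Geo.IsNondegenerateOn (QuadraticMap.polar (Cfsg.quadFormPlus d F)) W ∧ ¬ Cfsg.Geo.IsPlusTypeOn (Cfsg.quadFormPlus d F) W})
    (i c : ℕ) (hi : i = orderOf (q : ZMod r)) (hc : c = if Even i then i else 2 * i) :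
    (∀ x : GL (Fin d ⊕ Fin d) F, x ∈ Cfsg.Geo.omegaGL (Cfsg.quadFormPlus d F) →
      (∃ z : F, ((x ^ r : GL (Fin d ⊕ Fin d) F) : Matrix (Fin d ⊕ Fin d) (Fin d ⊕ Fin d) F) = z • (1 : Matrix (Fin d ⊕ Fin d) (Fin d ⊕ Fin d) F)) →
      (∀ z : F, (x : Matrix (Fin d ⊕ Fin d) (Fin d ⊕ Fin d) F) ≠ z • (1 : Matrix (Fin d ⊕ Fin d) (Fin d ⊕ Fin d) F)) →
      ∃ W : Submodule F (Fin d ⊕ Fin d → F), (Module.finrank F ↥W = m ∧ Cfsg.Geo.IsNondegenerateOn (QuadraticMap.polar (Cfsg.quadFormPlus d F)) W ∧ ¬ Cfsg.Geo.IsPlusTypeOn (Cfsg.quadFormPlus d F) W) ∧ W.map (Matrix.toLin' (x : Matrix (Fin d ⊕ Fin d) (Fin d ⊕ Fin d) F)) ≤ W) ↔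
    ((r = 2 ∧ p ≠ 2 ∧ ((Even d ∧ q % 4 = 3 ∧ m % 4 = 2) ∨ (Odd d ∧ q % 8 ≠ 1))) ∨
     (r ≠ p ∧ 2 < r ∧ Odd i ∧ c ≤ m ∧ 0 < m % c ∧ m % c < (2 * d) % c) ∨
     (r ≠ p ∧ 2 < r ∧ Even i ∧
       (((2 * d) % c = 0 ∧ (Odd ((2 * d) / i) ∨ (m % c = 0 ∧ Odd (m / i)))) ∨
        (i ≤ m ∧ ((0 < m % c ∧ m % c < (2 * d) % c) ∨
                  (0 < m % c ∧ m % c = (2 * d) % c ∧ Odd ((2 * d + m - 2 * ((2 * d) % c)) / i)) ∨
                  (m % c = 0 ∧ 0 < (2 * d) % c ∧ Odd (m / i))))))) := by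
  obtain rfl : Fintype.card F = q := hq
  have hQ := OrthFix.polarND_qPlus (F := F) d
  have hs := OrthFix.sig_qPlus (F := F) d
  have hf := OrthFix.coe_qPlus (F := F) d
  have hk := OrthFix.isKind_minus (Q := UnitaryOrthogonal.qPlus d F) hf hme
  have hn := OrthFix.finrank_fun_plus (F := F) d
  have hcard : Fintype.card (Fin d ⊕ Fin d) = 2 * d := by simp; omega
  have hm0 : 0 < m := by omega
  have hrp' : r.Prime := Fact.out
  by_cases hrp : r = p
  · subst hrp
    refine iff_of_false ?_ (by rintro (⟨e1, e2, -⟩ | ⟨e, -⟩ | ⟨e, -⟩) <;> omega)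
    obtain ⟨g, hge, hgp, hg1, hno⟩ := OrthFix.exists_hyperbolic_only_plus (p := r) hQ hs hn (by omega)
    obtain ⟨t, ht⟩ := hme
    exact OrthFix.not_forall_scalar_of_witness hf hQ (by omega) hge hgp hg1 hk
      fun W hWd hW hWs hinv => absurd (hWs.unique (hno W t hW hinv (by omega))) (by decide)
  rcases eq_or_lt_of_le hrp'.two_le with h | h
  · subst h
    have h2 : (2 : F) ≠ 0 := fun e => hrp ((Nat.prime_dvd_prime_iff_eq (Fact.out : p.Prime) Nat.prime_two).1
      ((CharP.cast_eq_zero_iff F p 2).1 (by exact_mod_cast e))).symm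
    rw [OrthFix.forall_two_iff hf hQ h2 hn (by omega) hs hm0 (by omega) (Or.inr rfl) hk,
      OrthFix.chi_neg_one_eq h2, OrthFix.chi_two_eq h2]
    have hodd : Fintype.card F % 2 = 1 := FiniteField.odd_card_of_char_ne_two (fun e => h2 (by
      haveI := ringChar.of_eq e; exact CharTwo.two_eq_zero))
    have hp2 : p ≠ 2 := fun e => hrp e.symm
    have hme' : Even m := hme
    obtain ⟨t, ht⟩ := hme
    have hd2 : m / 2 = t := by omega
    simp only [hme', hd2, hp2, ne_eq, not_false_eq_true, true_and, and_true, Nat.lt_irrefl, false_and,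
      and_false, or_false, OrthFix.neg_pow_eq_neg_one]
    by_cases h4 : Fintype.card F % 4 = 3 <;>
      by_cases h8 : (Fintype.card F % 8 = 3 ∨ Fintype.card F % 8 = 5) <;>
      simp only [h4, h8, if_true, if_false, one_pow, OrthFix.one_eq_neg_pow, OrthFix.neg_one_eq_neg_pow,
        OrthFix.neg_pow_eq_one, OrthFix.one_eq_neg_one_iff, OrthFix.neg_one_eq_one_iff,
        Nat.odd_iff, Nat.even_iff, eq_self_iff_true, and_true, true_and] <;>
      grind
  have hr2 : Odd r := hrp'.odd_of_ne_two (by omega)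
  rw [OrthFix.forall_scalar_iff hf hQ (by omega) (Fintype.card_pos_iff.1 (by omega)) hr2,
    OrthFix.forall_kind_congr hk]
  rw [OrthFix.IsKind.card hk] at hrΩ
  have S := OrthFix.setup_of (p := p) rfl hrp' h hrp hi hc
  rw [OrthFix.criterion_cond S hQ hs hn hm0 (by omega) (Or.inr rfl) (fun _ => hme) hrΩ]
  have hc0 := S.c_pos
  have hr : r ≠ 2 := by omega
  rcases Nat.even_or_odd i with hev | hod
  · have hci : c = i := by rw [hc, if_pos hev]
    subst hci
    have hsum := OrthFix.div_sum c (2 * d) m hc0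
    rw [show (if Even c then (-1 : ℤ) else 1) = -1 from if_pos hev]
    simp only [OrthFix.Cond, neg_one_mul, one_mul, OrthFix.one_eq_neg_neg_pow, OrthFix.neg_neg_pow_eq_one,
      OrthFix.neg_neg_pow_eq_pow, Nat.not_odd_iff_even.2 hev, hev, h, hrp, hr,
      false_and, and_false, true_and, false_or, not_false_eq_true, ne_eq]
    rcases Nat.eq_zero_or_pos ((2 * d) % c) with hk0 | hk0
    · grind
    · grind
  · have hne2 : ¬ Even i := Nat.not_even_iff_odd.2 hod
    rw [show (if Even i then (-1 : ℤ) else 1) = 1 from if_neg hne2]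
    simp only [OrthFix.Cond, one_pow, mul_one, one_mul, hne2, hod, h, hrp, hr, false_and, and_false,
      true_and, false_or, or_false, not_false_eq_true, ne_eq,
      show ¬ ((-1 : ℤ) = 1) by decide, show ¬ ((1 : ℤ) = -1) by decide, imp_false, not_true_eq_false]
    omega

end Cfsg.Agent.S5988
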