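import Cfsg.Statements.S5989
import Cfsg.Agent.OrthFix.Rows

set_option autoImplicit false
open scoped MatrixGroups
open Cfsg

namespace Cfsg.Agent.S5989

/-- Elements of prime order of PΩ⁺_n(q), q odd, with no fixed nondegenerate `m`-space of odd dimension. Here `T = PΩ⁺_n(F)`, `n = 2d ≥ 8`, realised through `Ω⁺_n(q)`, the commutator subgroup of the isometry group of `Q = Σ xᵢyᵢ` over the field `F` with `q` elements; an element of `T` of prime order `r` is an element `x` of `Ω⁺_n(q)` with `x^r` scalar and `x` not scalar; `q` and `m` are odd, `1 ≤ m < n/2`. The nondegenerate `m`-spaces (subspaces on which the polar form is nondegenerate) fall into two isometry classes, each an orbit of `T`, and the two actions are equivalent; fix one such space `W₀` and let Ω be the set of nondegenerate `m`-spaces isometric to `W₀` (some linear isomorphism preserves `Q`). Let `r` be a prime dividing the size of Ω; for `r ≠ p` let `i` be the multiplicative order of `q` modulo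 `r`, `c = i` for `i` even and `c = 2i` for `i` odd, and write `k = n mod c`, `ℓ = m mod i`, `ℓ' = m mod c`, `n' = ⌊n/i⌋`, `m' = ⌊m/i⌋`, `t = (r−1)/i`. Then every element of `T` of order `r` fixes a member of Ω if and only if one of: (i) `r = 2`, `n ≡ 2 (mod 4)` and `q ≢ 1 (mod 8)`; (ii) `r ≠ p` odd, `i` odd, `c ≤ m` and `k > ℓ' > 0`; (iii) `r ≠ p` odd, `i` even, and either `k = 0` and `n/i` odd, or `i ≤ m` and `k > ℓ' > 0`. (For `r = p` there is always an element of order `p` fixing no member of Ω.) -/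
theorem result {F : Type*} [Field F] [Fintype F] {p : ℕ} [Fact p.Prime] [CharP F p] {q : ℕ} (hq : Fintype.card F = q)
    (hodd : Odd q) (d m : ℕ) (hd : 4 ≤ d) (hm : Odd m) (hmd : m < d)
    (W₀ : Submodule F (Fin d ⊕ Fin d → F)) (hW₀ : Module.finrank F ↥W₀ = m ∧ Cfsg.Geo.IsNondegenerateOn (QuadraticMap.polar (Cfsg.quadFormPlus d F)) W₀)
    (r : ℕ) [Fact r.Prime]
    (hrΩ : r ∣ Nat.card {W : Submodule F (Fin d ⊕ Fin d → F) // Module.finrank F ↥W = m ∧ Cfsg.Geo.IsNondegenerateOn (QuadraticMap.polar (Cfsg.quadFormPlus d F)) W ∧ Cfsg.Geo.AreIsometricFor (Cfsg.quadFormPlus d F) W W₀})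
    (i c : ℕ) (hi : i = orderOf (q : ZMod r)) (hc : c = if Even i then i else 2 * i) :
    (∀ x : GL (Fin d ⊕ Fin d) F, x ∈ Cfsg.Geo.omegaGL (Cfsg.quadFormPlus d F) →
      (∃ z : F, ((x ^ r : GL (Fin d ⊕ Fin d) F) : Matrix (Fin d ⊕ Fin d) (Fin d ⊕ Fin d) F) = z • (1 : Matrix (Fin d ⊕ Fin d) (Fin d ⊕ Fin d) F)) →
      (∀ z : F, (x : Matrix (Fin d ⊕ Fin d) (Fin d ⊕ Fin d) F) ≠ z • (1 : Matrix (Fin d ⊕ Fin d) (Fin d ⊕ Fin d) F)) →
      ∃ W : Submodule F (Fin d ⊕ Fin d → F), (Module.finrank F ↥W = m ∧ Cfsg.Geo.IsNondegenerateOn (QuadraticMap.polar (Cfsg.quadFormPlus d F)) W ∧ Cfsg.Geo.AreIsometricFor (Cfsg.quadFormPlus d F) W W₀) ∧ W.map (Matrix.toLin' (x : Matrix (Fin d ⊕ Fin d) (Fin d ⊕ Fin d) F)) ≤ W) ↔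
    ((r = 2 ∧ Odd d ∧ q % 8 ≠ 1) ∨
     (r ≠ p ∧ 2 < r ∧ Odd i ∧ c ≤ m ∧ 0 < m % c ∧ m % c < (2 * d) % c) ∨
     (r ≠ p ∧ 2 < r ∧ Even i ∧ (((2 * d) % c = 0 ∧ Odd ((2 * d) / i)) ∨ (i ≤ m ∧ 0 < m % c ∧ m % c < (2 * d) % c)))) := by
  obtain rfl : Fintype.card F = q := hq
  have h2 : (2 : F) ≠ 0 := UnitaryOrthogonal.two_ne_zero_of_card_odd hodd
  have hQ := OrthFix.polarND_qPlus (F := F) d
  have hs := OrthFix.sig_qPlus (F := F) d
  have hf := OrthFix.coe_qPlus (F := F) d
  have hn := OrthFix.finrank_fun_plus (F := F) d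
  have hcard : Fintype.card (Fin d ⊕ Fin d) = 2 * d := by simp; omega
  obtain ⟨ε, hε⟩ := OrthFix.exists_sig ((OrthFix.isNondegenerateOn_iff hf W₀).1 hW₀.2)
  have hk := OrthFix.isKind_class hf hW₀.1 hW₀.2 hε
  have hm0 : 0 < m := hm.pos
  have hrp' : r.Prime := Fact.out
  by_cases hrp : r = p
  · subst hrp
    have hr2 : r ≠ 2 := fun e => h2 (by subst e; exact_mod_cast CharP.cast_eq_zero F 2)
    refine iff_of_false ?_ (by rintro (⟨e, -⟩ | ⟨e, -⟩ | ⟨e, -⟩) <;> omega)
    obtain ⟨g, hge, hgp, hg1, hno⟩ := OrthFix.exists_avoid_odd (p := r) (hrp'.odd_of_ne_two hr2) hQ h2 hs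
      hn (by omega) hm hε.unit
    exact OrthFix.not_forall_scalar_of_witness hf hQ (by omega) hge hgp hg1 hk hno
  rcases eq_or_lt_of_le hrp'.two_le with h | h
  · subst h
    rw [OrthFix.forall_two_iff hf hQ h2 hn (by omega) hs hm0 (by omega) hε.unit hk,
      OrthFix.chi_neg_one_eq h2, OrthFix.chi_two_eq h2]
    have hq2 := Nat.odd_iff.1 hodd
    simp only [Nat.not_even_iff_odd.2 hm, false_and, or_false, Nat.lt_irrefl, and_false, true_and]
    by_cases h4 : Fintype.card F % 4 = 3 <;>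
      by_cases h8 : (Fintype.card F % 8 = 3 ∨ Fintype.card F % 8 = 5) <;>
      simp only [h4, h8, if_true, if_false, one_pow, OrthFix.one_eq_neg_pow, OrthFix.neg_one_eq_neg_pow,
        OrthFix.neg_pow_eq_one, OrthFix.one_eq_neg_one_iff, OrthFix.neg_one_eq_one_iff, true_or, or_true,
        Nat.odd_iff, Nat.even_iff, eq_self_iff_true, false_and, not_false_eq_true, and_true, true_and] <;>
      grind
  have hr2 : Odd r := hrp'.odd_of_ne_two (by omega)
  rw [OrthFix.forall_scalar_iff hf hQ (by omega) (Fintype.card_pos_iff.1 (by omega)) hr2,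
    OrthFix.forall_kind_congr hk]
  rw [OrthFix.IsKind.card hk] at hrΩ
  have S := OrthFix.setup_of (p := p) rfl hrp' h hrp hi hc
  rw [OrthFix.criterion_cond S hQ hs hn hm0 (by omega) hε.unit (fun e => absurd e h2) hrΩ]
  have hr : r ≠ 2 := by omega
  have e1 := OrthFix.mod_mod_two S.c_even (2 * d)
  have e2 := OrthFix.mod_mod_two S.c_even m
  have hm2 := Nat.odd_iff.1 hm
  have hne : m % c ≠ (2 * d) % c := by omega
  have hne0 : m % c ≠ 0 := by omega
  rcases Nat.even_or_odd i with hev | hod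
  · have hci : c = i := by rw [hc, if_pos hev]
    subst hci
    rw [show (if Even c then (-1 : ℤ) else 1) = -1 from if_pos hev]
    simp only [OrthFix.Cond, OrthFix.one_eq_neg_neg_pow, hne, hne0, Nat.not_odd_iff_even.2 hev, hev, h, hrp, hr,
      false_and, and_false, true_and, false_or, or_false, false_implies, and_true, not_false_eq_true, ne_eq, implies_true]
    grind
  · have hne2 : ¬ Even i := Nat.not_even_iff_odd.2 hod
    rw [show (if Even i then (-1 : ℤ) else 1) = 1 from if_neg hne2]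
    simp only [OrthFix.Cond, one_pow, hne, hne0, hne2, hod, h, hrp, hr, false_and, and_false,
      true_and, and_true, false_or, or_false, false_implies, not_false_eq_true, ne_eq,
      show ¬ ((1 : ℤ) = -1) by decide]
    omega

end Cfsg.Agent.S5989
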