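import Cfsg.Statements.S5993
import Cfsg.Agent.OrthFix.Rows

set_option autoImplicit false
open scoped MatrixGroups
open Cfsg

namespace Cfsg.Agent.S5993

/-- Elements of prime order of Ω_n(q), nq odd, with no fixed elliptic `m`-space. Here `T = Ω_n(F)`, `n = 2d+1 ≥ 7`, `q` odd, realised as the commutator subgroup of the isometry group of `Q = x₀² + Σ xᵢyᵢ` over the field `F` with `q` elements (trivial centre, so its elements of prime order `r` are used directly); a nondegenerate `m`-space (even `m`) is a subspace on which the polar form of `Q` is nondegenerate; it is hyperbolic if it contains an `m/2`-dimensional subspace on which `Q` vanishes, elliptic otherwise. Let `m` be even with `2 ≤ m ≤ n − 1` (no restriction `m < n/2`) and let `r` be a prime dividing the number of elliptic `m`-spaces; for `r ≠ p` let `i` be the multiplicative order of `q` modulo `r`, `c = i` for `i` even and `c = 2i` for `i` odd, and write `k = n mod c`, `ℓ' = m mod c`. Then every element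 of `T` of order `r` fixes some elliptic `m`-space if and only if `r = 2`, or `r ≠ p` is odd and one of: (i) `i` odd, `c ≤ m` and `k > ℓ' > 0`; (ii) `i` even, `i ≤ m`, `k > ℓ'`, and `m/i` odd whenever `ℓ' = 0`. (For `r = p` there is always an element of order `p` fixing no elliptic `m`-space.) -/
theorem result {F : Type*} [Field F] [Fintype F] {p : ℕ} [Fact p.Prime] [CharP F p] {q : ℕ} (hq : Fintype.card F = q) (hqodd : Odd q)
    (d m : ℕ) (hd : 3 ≤ d) (hm : 2 ≤ m) (hme : Even m) (hmn : m ≤ 2 * d)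
    (r : ℕ) [Fact r.Prime]
    (hrΩ : r ∣ Nat.card {W : Submodule F (Unit ⊕ (Fin d ⊕ Fin d) → F) // Module.finrank F ↥W = m ∧ Cfsg.Geo.IsNondegenerateOn (QuadraticMap.polar (Cfsg.quadFormOdd d F)) W ∧ ¬ Cfsg.Geo.IsPlusTypeOn (Cfsg.quadFormOdd d F) W})
    (i c : ℕ) (hi : i = orderOf (q : ZMod r)) (hc : c = if Even i then i else 2 * i) :
    (∀ x : GL (Unit ⊕ (Fin d ⊕ Fin d)) F, x ∈ Cfsg.Geo.omegaGL (Cfsg.quadFormOdd d F) → orderOf x = r →
      ∃ W : Submodule F (Unit ⊕ (Fin d ⊕ Fin d) → F), (Module.finrank F ↥W = m ∧ Cfsg.Geo.IsNondegenerateOn (QuadraticMap.polar (Cfsg.quadFormOdd d F)) W ∧ ¬ Cfsg.Geo.IsPlusTypeOn (Cfsg.quadFormOdd d F) W) ∧ W.map (Matrix.toLin' (x : Matrix (Unit ⊕ (Fin d ⊕ Fin d)) (Unit ⊕ (Fin d ⊕ Fin d)) F)) ≤ W) ↔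
    (r = 2 ∨
     (r ≠ p ∧ 2 < r ∧ Odd i ∧ c ≤ m ∧ 0 < m % c ∧ m % c < (2 * d + 1) % c) ∨
     (r ≠ p ∧ 2 < r ∧ Even i ∧ i ≤ m ∧ m % c < (2 * d + 1) % c ∧ (0 < m % c ∨ Odd (m / i)))) := by
  obtain rfl : Fintype.card F = q := hq
  have h2 : (2 : F) ≠ 0 := UnitaryOrthogonal.two_ne_zero_of_card_odd hqodd
  have hQ := OrthFix.polarND_qOdd h2 d
  have hs := OrthFix.sig_qOdd h2 d
  have hf := OrthFix.coe_qOdd (F := F) d
  have hk := OrthFix.isKind_minus (Q := UnitaryOrthogonal.qOdd d F) hf hme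
  have hn := OrthFix.finrank_fun_odd (F := F) d
  have hcard : Fintype.card (Unit ⊕ (Fin d ⊕ Fin d)) = 2 * d + 1 := by simp; omega
  have hm0 : 0 < m := by omega
  have hrp' : r.Prime := Fact.out
  rcases eq_or_lt_of_le hrp'.two_le with h | h
  · subst h
    refine iff_of_true ?_ (Or.inl rfl)
    rintro _ ⟨g, -, rfl⟩ hord
    change orderOf (g : GL (Unit ⊕ (Fin d ⊕ Fin d)) F) = 2 at hord
    rw [Subgroup.orderOf_coe] at hord
    have hg : (UnitaryOrthogonal.isometryGroupEquiv _ (fun v => congrFun hf v) g) ^ 2 = 1 := by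
      rw [← map_pow, ← hord, pow_orderOf_eq_one, map_one]
    obtain ⟨W, hW, hinv⟩ := OrthFix.exists_fixed_invol hQ h2 hg (by omega) hm0 (by omega) (Or.inr rfl)
    exact ⟨W, (hk W).2 hW, (OrthFix.invariant_iff hf g W).2 hinv⟩
  have hr2 : Odd r := hrp'.odd_of_ne_two (by omega)
  rw [OrthFix.forall_orderOf_iff hf hQ (by omega) hr2, OrthFix.forall_kind_congr hk]
  by_cases hrp : r = p
  · subst hrp
    refine iff_of_false (fun H => ?_) (by rintro (e | ⟨e, -⟩ | ⟨e, -⟩) <;> omega)
    obtain ⟨g, -, hgp, hg1, hno⟩ := OrthFix.exists_hyperbolic_only_odd (p := r) hQ h2 hs hn (by omega)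
    obtain ⟨W, ⟨hWd, hW, hWs⟩, hinv⟩ := H g hgp hg1
    obtain ⟨t, ht⟩ := hme
    exact absurd (hWs.unique (hno W t hW hinv (by omega))) (by decide)
  rw [OrthFix.IsKind.card hk] at hrΩ
  have S := OrthFix.setup_of (p := p) rfl hrp' h hrp hi hc
  rw [OrthFix.criterion_cond S hQ hs hn hm0 (by omega) (Or.inr rfl) (fun e => absurd e h2) hrΩ]
  have e1 := OrthFix.mod_mod_two S.c_even (2 * d + 1)
  have e2 := OrthFix.mod_mod_two S.c_even m
  obtain ⟨u, hu⟩ := hme
  have hne : (2 * d + 1) % c ≠ 0 := by omega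
  have hne' : m % c ≠ (2 * d + 1) % c := by omega
  have hr : r ≠ 2 := by omega
  rcases Nat.even_or_odd i with hev | hod
  · have hci : c = i := by rw [hc, if_pos hev]
    subst hci
    rw [show (if Even c then (-1 : ℤ) else 1) = -1 from if_pos hev]
    simp only [OrthFix.Cond, neg_one_mul, neg_eq_iff_eq_neg, OrthFix.neg_pow_eq_neg_one,
      Nat.not_odd_iff_even.2 hev, hev, h, hrp, hr, hne, hne', false_and, and_false, true_and, false_or,
      not_false_eq_true, ne_eq, false_implies, and_true]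
    constructor
    · rintro ⟨h1, h3, h4, h5⟩
      refine ⟨h3, by omega, ?_⟩
      rcases Nat.eq_zero_or_pos (m % c) with h0 | h0
      · exact Or.inr (h5 h0)
      · exact Or.inl h0
    · rintro ⟨h1, h3, h4⟩
      exact ⟨by omega, h1, h3.le, fun h0 => h4.resolve_left (by omega)⟩
  · have hne2 : ¬ Even i := Nat.not_even_iff_odd.2 hod
    rw [show (if Even i then (-1 : ℤ) else 1) = 1 from if_neg hne2]
    simp only [OrthFix.Cond, one_pow, mul_one, hne2, hod, h, hrp, hr, hne, hne', false_and, and_false,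
      true_and, false_or, or_false, not_false_eq_true, ne_eq, false_implies, and_true,
      show ¬ ((-1 : ℤ) = 1) by decide, imp_false]
    constructor
    · rintro ⟨h1, h3, h4, h5⟩
      exact ⟨h3, by omega⟩
    · rintro ⟨h1, h3⟩
      exact ⟨by omega, h1, by omega, by omega⟩

end Cfsg.Agent.S5993
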