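import Cfsg.Statements.S5994
import Cfsg.Agent.OrthFix.JordanRows

set_option autoImplicit false
open scoped MatrixGroups
open Cfsg

namespace Cfsg.Agent.S5994

/-- A necessary condition for every element of order p of PΩ⁻_n(q), q odd, to fix an elliptic `m`-space. Here `T = PΩ⁻_n(F)`, `n = 2d ≥ 8`, realised through `Ω⁻_n(q)`, the commutator subgroup of the isometry group of `Q = Σ_{i<d−1} xᵢyᵢ + z₁² + a z₁z₂ + b z₂²` with `z₁² + a z₁z₂ + b z₂²` anisotropic, over the field `F` with `q` elements; an element of `T` of prime order `r` is an element `x` of `Ω⁻_n(q)` with `x^r` scalar and `x` not scalar; `q` is odd; a nondegenerate `m`-space (even `m`) is a subspace on which the polar form of `Q` is nondegenerate; it is hyperbolic if it contains an `m/2`-dimensional subspace on which `Q` vanishes, elliptic otherwise. Let `m` be even with `2 ≤ m ≤ n − 2` and suppose `p` divides the number of elliptic `m`-spaces. If every element of `T` of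 order `p` fixes some elliptic `m`-space, then `n ≡ m (mod 4)` and every partition of `n` into parts of size at most `p` in which every even part has even multiplicity contains (as a sub-multiset) a partition of `m` in which every even part has even multiplicity. -/
theorem result {F : Type*} [Field F] [Fintype F] {p : ℕ} [Fact p.Prime] [CharP F p] {q : ℕ} (hq : Fintype.card F = q) (hqodd : Odd q)
    (d m : ℕ) (hd : 4 ≤ d) (hm : 2 ≤ m) (hme : Even m) (hmn : m + 2 ≤ 2 * d) (a b : F) (hab : ∀ x y : F, x ^ 2 + a * x * y + b * y ^ 2 = 0 → x = 0 ∧ y = 0)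
    (hpΩ : p ∣ Nat.card {W : Submodule F ((Fin (d - 1) ⊕ Fin (d - 1)) ⊕ Fin 2 → F) // Module.finrank F ↥W = m ∧ Cfsg.Geo.IsNondegenerateOn (QuadraticMap.polar (Cfsg.quadFormMinus (d - 1) F a b)) W ∧ ¬ Cfsg.Geo.IsPlusTypeOn (Cfsg.quadFormMinus (d - 1) F a b) W}) :
    (∀ x : GL ((Fin (d - 1) ⊕ Fin (d - 1)) ⊕ Fin 2) F, x ∈ Cfsg.Geo.omegaGL (Cfsg.quadFormMinus (d - 1) F a b) →
      (∃ z : F, ((x ^ p : GL ((Fin (d - 1) ⊕ Fin (d - 1)) ⊕ Fin 2) F) : Matrix ((Fin (d - 1) ⊕ Fin (d - 1)) ⊕ Fin 2) ((Fin (d - 1) ⊕ Fin (d - 1)) ⊕ Fin 2) F) = z • (1 : Matrix ((Fin (d - 1) ⊕ Fin (d - 1)) ⊕ Fin 2) ((Fin (d - 1) ⊕ Fin (d - 1)) ⊕ Fin 2) F)) →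
      (∀ z : F, (x : Matrix ((Fin (d - 1) ⊕ Fin (d - 1)) ⊕ Fin 2) ((Fin (d - 1) ⊕ Fin (d - 1)) ⊕ Fin 2) F) ≠ z • (1 : Matrix ((Fin (d - 1) ⊕ Fin (d - 1)) ⊕ Fin 2) ((Fin (d - 1) ⊕ Fin (d - 1)) ⊕ Fin 2) F)) →
      ∃ W : Submodule F ((Fin (d - 1) ⊕ Fin (d - 1)) ⊕ Fin 2 → F), (Module.finrank F ↥W = m ∧ Cfsg.Geo.IsNondegenerateOn (QuadraticMap.polar (Cfsg.quadFormMinus (d - 1) F a b)) W ∧ ¬ Cfsg.Geo.IsPlusTypeOn (Cfsg.quadFormMinus (d - 1) F a b) W) ∧ W.map (Matrix.toLin' (x : Matrix ((Fin (d - 1) ⊕ Fin (d - 1)) ⊕ Fin 2) ((Fin (d - 1) ⊕ Fin (d - 1)) ⊕ Fin 2) F)) ≤ W) →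
    ((2 * d) % 4 = m % 4 ∧ (∀ μ : Multiset ℕ, (∀ e ∈ μ, 0 < e ∧ e ≤ p) → (∀ e : ℕ, Even e → Even (μ.count e)) → μ.sum = 2 * d →
        ∃ ν : Multiset ℕ, ν ≤ μ ∧ ν.sum = m ∧ ∀ e : ℕ, Even e → Even (ν.count e))) := by
  obtain rfl : Fintype.card F = q := hq
  intro H
  have h2 : (2 : F) ≠ 0 := UnitaryOrthogonal.two_ne_zero_of_card_odd hqodd
  have hp' : p.Prime := Fact.out
  have hp : Odd p := hp'.odd_of_ne_two fun e => h2 (by subst e; exact_mod_cast CharP.cast_eq_zero F 2)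
  have hQ := OrthFix.polarND_qMinus (F := F) hab (d - 1)
  have hs := OrthFix.sig_qMinus (F := F) hab (d - 1)
  have hf := OrthFix.coe_qMinus (F := F) (d - 1) a b
  have hk := OrthFix.isKind_minus (Q := UnitaryOrthogonal.qMinus (d - 1) F a b) hf hme
  have hn := OrthFix.finrank_fun_minus (F := F) (d := d) (by omega)
  have hcard : Fintype.card ((Fin (d - 1) ⊕ Fin (d - 1)) ⊕ Fin 2) = 2 * d := by simp; omega
  rw [OrthFix.forall_scalar_iff hf hQ (by omega) (Fintype.card_pos_iff.1 (by omega)) hp, OrthFix.forall_kind_congr hk] at H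
  have hpart := OrthFix.exists_part hp h2 hQ hs (m := m) hme (by omega) fun g hg hg1 => by
    obtain ⟨W, ⟨a, b, -⟩, c⟩ := H g hg hg1
    exact ⟨W, ⟨a, b⟩, c⟩
  rw [hn] at hpart
  refine ⟨?_, hpart⟩
  obtain ⟨t, ht⟩ := hme
  rcases Nat.even_or_odd d with ⟨u, hu⟩ | hdo
  · have hp3 : 3 ≤ p := by obtain ⟨e, he⟩ := hp; have := hp'.two_le; omega
    obtain ⟨ν, hν, hνs, hνp⟩ := hpart ({3, 1} + Multiset.replicate (2 * (u - 1)) 2)
      (fun e he => by
        simp only [Multiset.mem_add, Multiset.insert_eq_cons, Multiset.mem_cons, Multiset.mem_singleton,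
          Multiset.mem_replicate] at he
        omega)
      (fun e he => by
        rw [Nat.even_iff] at he
        rw [Multiset.count_add, Multiset.count_eq_zero.2 (by simp; omega), Multiset.count_replicate]
        split_ifs
        · simp
        · simp)
      (by simp only [Multiset.sum_add, Multiset.insert_eq_cons, Multiset.sum_cons, Multiset.sum_singleton,
            Multiset.sum_replicate, smul_eq_mul]
          omega)
    have := OrthFix.mod_four_of_part ⟨t, ht⟩ (fun σ h => by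
      have h' := Multiset.mem_powerset.2 h
      fin_cases h' <;> decide) (by decide) hν hνs hνp
    omega
  · by_contra hcon
    obtain ⟨g, -, hgp, hg1, hno⟩ := OrthFix.exists_no_elliptic (p := p) (CharP.cast_eq_zero F p) hQ hs hn
      (by omega) hdo
    obtain ⟨W, ⟨hWd, hW, hWs⟩, hinv⟩ := H g hgp hg1
    obtain ⟨u, hu⟩ := hdo
    exact absurd (hWs.unique (hno W t hW hinv (by omega) ⟨t / 2, by omega⟩)) (by decide)
end Cfsg.Agent.S5994
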