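import Cfsg.Statements.S5995
import Cfsg.Agent.OrthFix.JordanRows

set_option autoImplicit false
open scoped MatrixGroups
open Cfsg

namespace Cfsg.Agent.S5995

/-- A necessary condition for every element of order p of Ω_n(q), nq odd, to fix a hyperbolic `m`-space. Here `T = Ω_n(F)`, `n = 2d+1 ≥ 7`, `q` odd, realised as the commutator subgroup of the isometry group of `Q = x₀² + Σ xᵢyᵢ` over the field `F` with `q` elements (trivial centre, so its elements of prime order `r` are used directly); a nondegenerate `m`-space (even `m`) is a subspace on which the polar form of `Q` is nondegenerate; it is hyperbolic if it contains an `m/2`-dimensional subspace on which `Q` vanishes, elliptic otherwise. Let `m` be even with `2 ≤ m ≤ n − 1` and suppose `p` divides the number of hyperbolic `m`-spaces. If every element of `T` of order `p` fixes some hyperbolic `m`-space, then `m ≡ 0 (mod 4)` and every partition of `n` into parts of size at most `p` in which every even part has even multiplicity contains (as a sub-multiset)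 a partition of `m` in which every even part has even multiplicity. -/
theorem result {F : Type*} [Field F] [Fintype F] {p : ℕ} [Fact p.Prime] [CharP F p] {q : ℕ} (hq : Fintype.card F = q) (hqodd : Odd q)
    (d m : ℕ) (hd : 3 ≤ d) (hm : 2 ≤ m) (hme : Even m) (hmn : m ≤ 2 * d)
    (hpΩ : p ∣ Nat.card {W : Submodule F (Unit ⊕ (Fin d ⊕ Fin d) → F) // Module.finrank F ↥W = m ∧ Cfsg.Geo.IsNondegenerateOn (QuadraticMap.polar (Cfsg.quadFormOdd d F)) W ∧ Cfsg.Geo.IsPlusTypeOn (Cfsg.quadFormOdd d F) W}) :
    (∀ x : GL (Unit ⊕ (Fin d ⊕ Fin d)) F, x ∈ Cfsg.Geo.omegaGL (Cfsg.quadFormOdd d F) → orderOf x = p →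
      ∃ W : Submodule F (Unit ⊕ (Fin d ⊕ Fin d) → F), (Module.finrank F ↥W = m ∧ Cfsg.Geo.IsNondegenerateOn (QuadraticMap.polar (Cfsg.quadFormOdd d F)) W ∧ Cfsg.Geo.IsPlusTypeOn (Cfsg.quadFormOdd d F) W) ∧ W.map (Matrix.toLin' (x : Matrix (Unit ⊕ (Fin d ⊕ Fin d)) (Unit ⊕ (Fin d ⊕ Fin d)) F)) ≤ W) →
    (m % 4 = 0 ∧ (∀ μ : Multiset ℕ, (∀ e ∈ μ, 0 < e ∧ e ≤ p) → (∀ e : ℕ, Even e → Even (μ.count e)) → μ.sum = 2 * d + 1 →
        ∃ ν : Multiset ℕ, ν ≤ μ ∧ ν.sum = m ∧ ∀ e : ℕ, Even e → Even (ν.count e))) := by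
  obtain rfl : Fintype.card F = q := hq
  intro H
  have h2 : (2 : F) ≠ 0 := UnitaryOrthogonal.two_ne_zero_of_card_odd hqodd
  have hp' : p.Prime := Fact.out
  have hp : Odd p := hp'.odd_of_ne_two fun e => h2 (by subst e; exact_mod_cast CharP.cast_eq_zero F 2)
  have hQ := OrthFix.polarND_qOdd h2 d
  have hs := OrthFix.sig_qOdd h2 d
  have hf := OrthFix.coe_qOdd (F := F) d
  have hk := OrthFix.isKind_plus (Q := UnitaryOrthogonal.qOdd d F) hf hme
  have hn := OrthFix.finrank_fun_odd (F := F) d
  have hcard : Fintype.card (Unit ⊕ (Fin d ⊕ Fin d)) = 2 * d + 1 := by simp; omega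
  rw [OrthFix.forall_orderOf_iff hf hQ (by omega) hp, OrthFix.forall_kind_congr hk] at H
  have hpart := OrthFix.exists_part hp h2 hQ hs (m := m) hme (by omega) fun g hg hg1 => by
    obtain ⟨W, ⟨a, b, -⟩, c⟩ := H g hg hg1
    exact ⟨W, ⟨a, b⟩, c⟩
  rw [hn] at hpart
  refine ⟨?_, hpart⟩
  have hp3 : 3 ≤ p := by obtain ⟨e, he⟩ := hp; have := hp'.two_le; omega
  have key : ∀ (o k : ℕ), Odd o → o ≤ p → Even k → o + k * 2 = 2 * d + 1 → m % 4 = 0 := by
    intro o k ho hop hk2 hsum
    obtain ⟨ν, hν, hνs, hνp⟩ := hpart ({o} + Multiset.replicate k 2)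
      (fun e he => by
        rw [Nat.odd_iff] at ho
        simp only [Multiset.mem_add, Multiset.mem_singleton, Multiset.mem_replicate] at he
        omega)
      (fun e he => by
        rw [Multiset.count_add, Multiset.count_singleton,
          if_neg (by rintro rfl; exact Nat.not_even_iff_odd.2 ho he), Multiset.count_replicate]
        split_ifs
        · simpa using hk2
        · simp)
      (by simp only [Multiset.sum_add, Multiset.sum_singleton, Multiset.sum_replicate, smul_eq_mul]
          omega)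
    refine OrthFix.mod_four_of_part hme (fun σ hσ hev => ?_)
      (by rw [Multiset.mem_singleton]; rintro rfl; exact Nat.not_odd_iff_even.2 even_two ho) hν hνs hνp
    rcases (Multiset.le_singleton).1 hσ with rfl | rfl
    · simp
    · rw [Multiset.sum_singleton] at hev; exact absurd hev (Nat.not_even_iff_odd.2 ho)
  rcases Nat.even_or_odd d with hde | ⟨u, hu⟩
  · exact key 1 d odd_one (by omega) hde (by omega)
  · exact key 3 (d - 1) (by decide) hp3 ⟨u, by omega⟩ (by omega)
end Cfsg.Agent.S5995
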