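import Cfsg.Statements.S5997
import Mathlib

set_option autoImplicit false
open scoped MatrixGroups
open Cfsg

namespace Cfsg.Agent.S5997

open Matrix

section
variable {F : Type*} [Field F]

theorem ch2 (A : Matrix (Fin 2) (Fin 2) F) : A * A = A.trace • A - A.det • 1 := by
  ext i j
  fin_cases i <;> fin_cases j <;> simp [Matrix.mul_apply, det_fin_two, trace_fin_two] <;> ring

theorem eq_zero_of_smul {A : Matrix (Fin 2) (Fin 2) F} (hA : ∀ z : F, A ≠ z • 1) {a b : F}
    (h : a • A = b • 1) : a = 0 ∧ b = 0 := by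
  by_cases ha : a = 0
  · refine ⟨ha, ?_⟩
    have h00 := congrArg (fun M : Matrix (Fin 2) (Fin 2) F => M 0 0) h
    simp [ha] at h00
    exact h00.symm
  · exact absurd (by rw [← inv_smul_smul₀ ha A, h, smul_smul]) (hA (a⁻¹ * b))

theorem exists_basis {A : Matrix (Fin 2) (Fin 2) F} (hA : ∀ z : F, A ≠ z • 1) :
    ∃ P : Matrix (Fin 2) (Fin 2) F, P.det ≠ 0 ∧
      A * P = P * !![0, -A.det; 1, A.trace] := by
  have key : ∀ u v : F, A * !![u, A 0 0 * u + A 0 1 * v; v, A 1 0 * u + A 1 1 * v] =
      !![u, A 0 0 * u + A 0 1 * v; v, A 1 0 * u + A 1 1 * v] * !![0, -A.det; 1, A.trace] := by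
    intro u v
    ext i j
    fin_cases i <;> fin_cases j <;> simp [Matrix.mul_apply, det_fin_two, trace_fin_two] <;> ring
  by_contra hne
  have h : ∀ u v : F,
      u * (A 1 0 * u + A 1 1 * v) - (A 0 0 * u + A 0 1 * v) * v = 0 := fun u v => by
    by_contra h'
    exact hne ⟨_, by simpa [det_fin_two] using h', key u v⟩
  have h1 : A 1 0 = 0 := by simpa using h 1 0
  have h2 : A 0 1 = 0 := by simpa using h 0 1
  have h3 : A 1 1 - A 0 0 = 0 := by simpa [h1, h2] using h 1 1
  refine hA (A 0 0) ?_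
  ext i j
  fin_cases i <;> fin_cases j <;> simp [h1, h2, sub_eq_zero.1 h3]

theorem exists_quad [Fintype F] (h2 : (2 : F) ≠ 0) {t : F} (ht : t ^ 2 ≠ 4) (c : F) :
    ∃ a b : F, a ^ 2 + t * a * b + b ^ 2 = c := by
  have hchar : ringChar F ≠ 2 := fun h => h2 (by
    have := ringChar.Nat.cast_ringChar (R := F)
    rw [h] at this
    exact_mod_cast this)
  obtain ⟨u, rfl⟩ : ∃ u, t = 2 * u := ⟨t / 2, by field_simp⟩
  have hd : (1 - u ^ 2 : F) ≠ 0 := fun h => ht (by linear_combination -(4 : F) * h)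
  obtain ⟨a, b, hab⟩ := FiniteField.exists_root_sum_quadratic
    (Polynomial.degree_X_pow_sub_C (by norm_num : 0 < 2) c)
    (Polynomial.degree_C_mul_X_pow 2 hd) (FiniteField.odd_card_of_char_ne_two hchar)
  simp only [Polynomial.eval_sub, Polynomial.eval_pow, Polynomial.eval_X, Polynomial.eval_C,
    Polynomial.eval_mul] at hab
  exact ⟨a - u * b, b, by linear_combination hab⟩

theorem conj_of_trace [Fintype F] (h2 : (2 : F) ≠ 0) {A B : Matrix (Fin 2) (Fin 2) F}
    (hA : ∀ z : F, A ≠ z • 1) (hB : ∀ z : F, B ≠ z • 1) (hdA : A.det = 1) (hdB : B.det = 1)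
    (htr : A.trace = B.trace) (ht : A.trace ^ 2 ≠ 4) :
    ∃ g : GL (Fin 2) F, (g : Matrix (Fin 2) (Fin 2) F).det = 1 ∧
      A * (g : Matrix (Fin 2) (Fin 2) F) = (g : Matrix (Fin 2) (Fin 2) F) * B := by
  obtain ⟨P, hP, hAP⟩ := exists_basis hA
  obtain ⟨Q, hQ, hBQ⟩ := exists_basis hB
  rw [hdA] at hAP
  rw [hdB, ← htr] at hBQ
  obtain ⟨a, b, hab⟩ := exists_quad h2 ht (Q.det / P.det)
  set Z := a • (1 : Matrix (Fin 2) (Fin 2) F) + b • A with hZ
  have hZd : Z.det = Q.det / P.det := by
    rw [← hab, hZ]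
    simp [det_fin_two, trace_fin_two] at hdA ⊢
    linear_combination b ^ 2 * hdA
  have hZA : A * Z = Z * A := by simp [hZ, mul_add, add_mul]
  have hQ' : IsUnit Q.det := isUnit_iff_ne_zero.2 hQ
  have hg : (Z * P * Q⁻¹).det = 1 := by
    rw [det_mul, det_mul, det_nonsing_inv, Ring.inverse_eq_inv', hZd]
    field_simp
  refine ⟨Matrix.GeneralLinearGroup.mkOfDetNeZero (Z * P * Q⁻¹) (by rw [hg]; exact one_ne_zero),
    hg, ?_⟩
  show A * (Z * P * Q⁻¹) = Z * P * Q⁻¹ * B
  calc A * (Z * P * Q⁻¹) = Z * (A * P) * Q⁻¹ := by rw [← mul_assoc, ← mul_assoc, hZA, mul_assoc Z]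
    _ = Z * P * (Q⁻¹ * (B * Q)) * Q⁻¹ := by
        rw [hAP, hBQ, ← mul_assoc Q⁻¹, nonsing_inv_mul Q hQ', one_mul, ← mul_assoc Z P]
    _ = Z * P * Q⁻¹ * B := by simp only [mul_assoc, mul_nonsing_inv Q hQ', mul_one]

theorem eq_scalar_of_commute {A B X : Matrix (Fin 2) (Fin 2) F} (hAB : A * B ≠ B * A)
    (hXA : X * A = A * X) (hXB : X * B = B * X) : ∃ z : F, X = z • 1 := by
  have hA : ∀ z : F, A ≠ z • 1 := fun z h => hAB (by simp [h])
  obtain ⟨P, hP, hAP⟩ := exists_basis hA
  have hP' : IsUnit P.det := isUnit_iff_ne_zero.2 hP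
  set C := (!![0, -A.det; 1, A.trace] : Matrix (Fin 2) (Fin 2) F) with hC
  have hY : P⁻¹ * X * P * C = C * (P⁻¹ * X * P) := by
    have hC' : C = P⁻¹ * (A * P) := by rw [hAP, ← mul_assoc, nonsing_inv_mul P hP', one_mul]
    calc P⁻¹ * X * P * C = P⁻¹ * (X * A) * P := by
          rw [hC', mul_assoc, ← mul_assoc P, mul_nonsing_inv P hP', one_mul]
          simp only [mul_assoc]
      _ = C * (P⁻¹ * X * P) := by
          rw [hXA, hC']
          simp only [mul_assoc, ← mul_assoc P P⁻¹, mul_nonsing_inv P hP', one_mul]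
  set Y := P⁻¹ * X * P with hYd
  have hYlin : Y = Y 0 0 • 1 + Y 1 0 • C := by
    have h00 := congrArg (fun M : Matrix (Fin 2) (Fin 2) F => M 0 0) hY
    have h10 := congrArg (fun M : Matrix (Fin 2) (Fin 2) F => M 1 0) hY
    simp [hC, Matrix.mul_apply] at h00 h10
    ext i j
    fin_cases i <;> fin_cases j <;> simp [hC]
    · linear_combination h00
    · linear_combination h10
  have hX : X = Y 0 0 • 1 + Y 1 0 • A := by
    calc X = P * Y * P⁻¹ := by
          simp only [hYd, mul_assoc, mul_nonsing_inv P hP', mul_one, ← mul_assoc P P⁻¹, one_mul]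
      _ = _ := by
          rw [hYlin]
          simp only [mul_add, add_mul, Matrix.mul_smul, Matrix.smul_mul, mul_one, ← hAP,
            mul_assoc, mul_nonsing_inv P hP']
          simp [hC]
  by_cases hb : Y 1 0 = 0
  · exact ⟨Y 0 0, by rw [hX, hb]; simp⟩
  refine absurd ?_ hAB
  rw [hX] at hXB
  simp only [add_mul, mul_add, Matrix.smul_mul, Matrix.mul_smul, one_mul, mul_one,
    add_right_inj] at hXB
  exact (smul_right_injective (Matrix (Fin 2) (Fin 2) F) hb) hXB

/-- The generators of a quaternion subgroup. -/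
theorem exists_gens (R : Subgroup (GL (Fin 2) F)) (hR : Nonempty (↥R ≃* QuaternionGroup 2)) :
    ∃ I J : GL (Fin 2) F, I ∈ R ∧ J ∈ R ∧
      (I : Matrix (Fin 2) (Fin 2) F) * I = -1 ∧ (J : Matrix (Fin 2) (Fin 2) F) * J = -1 ∧
      (J : Matrix (Fin 2) (Fin 2) F) * I = -((I : Matrix (Fin 2) (Fin 2) F) * J) ∧
      (I : Matrix (Fin 2) (Fin 2) F) * J ≠ (J : Matrix (Fin 2) (Fin 2) F) * I ∧
      ∀ h ∈ R, ∃ k : ℕ, h = I ^ k ∨ h = J * I ^ k := by
  obtain ⟨e⟩ := hR
  set f : QuaternionGroup 2 →* GL (Fin 2) F := R.subtype.comp e.symm.toMonoidHom with hf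
  have hinj : Function.Injective f := R.subtype_injective.comp e.symm.injective
  have hmem : ∀ q, f q ∈ R := fun q => (e.symm q).2
  let I := f (QuaternionGroup.a 1)
  let J := f (QuaternionGroup.xa 0)
  let Z := f (QuaternionGroup.a 2)
  have hJJ : J * J = Z := by
    simp only [J, Z, ← map_mul]; rfl
  have hII : I * I = Z := by
    simp only [I, Z, ← map_mul]; rfl
  have hJI : J * I = I * J * Z := by
    simp only [I, J, Z, ← map_mul]; congr 1
  have hne : I * J ≠ J * I := by
    simp only [I, J, ← map_mul]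
    exact fun h => absurd (hinj h) (by decide)
  have hZI : Z * I = I * Z := by rw [← hII, mul_assoc]
  have hZJ : Z * J = J * Z := by rw [← hJJ, mul_assoc]
  have hne' : (I : Matrix (Fin 2) (Fin 2) F) * J ≠ (J : Matrix (Fin 2) (Fin 2) F) * I := fun h =>
    hne (Units.ext (by simpa using h))
  obtain ⟨z, hz⟩ := eq_scalar_of_commute hne' (congrArg Units.val hZI) (congrArg Units.val hZJ)
  have hZ1 : Z * Z = 1 := by simp only [Z, ← map_mul]; exact map_one f
  have hz2 : z * z = 1 := by
    have := congrArg (fun M : Matrix (Fin 2) (Fin 2) F => M 0 0) (congrArg Units.val hZ1)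
    simpa [hz] using this
  have hzne : z ≠ 1 := fun h => by
    have h1 : Z = 1 := Units.ext (by rw [hz, h, one_smul]; rfl)
    exact absurd (hinj (h1.trans (map_one f).symm)) (by decide)
  have hzm : z = -1 := by
    rcases mul_self_eq_one_iff.1 hz2 with h | h
    · exact absurd h hzne
    · exact h
  have hZm : (Z : Matrix (Fin 2) (Fin 2) F) = -1 := by rw [hz, hzm, neg_one_smul]
  refine ⟨I, J, hmem _, hmem _, ?_, ?_, ?_, hne', fun h hh => ?_⟩
  · rw [← Units.val_mul, hII, hZm]
  · rw [← Units.val_mul, hJJ, hZm]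
  · rw [← Units.val_mul, hJI, Units.val_mul, hZm, Units.val_mul, mul_neg, mul_one]
  · have hh' : h = f (e ⟨h, hh⟩) := by simp [hf]
    rcases hq : e ⟨h, hh⟩ with i | i
    · refine ⟨i.val, Or.inl ?_⟩
      rw [hh', hq]
      simp only [I, ← map_pow, QuaternionGroup.a_one_pow, ZMod.natCast_zmod_val]
    · refine ⟨i.val, Or.inr ?_⟩
      rw [hh', hq]
      simp only [I, J, ← map_pow, ← map_mul, QuaternionGroup.a_one_pow, ZMod.natCast_zmod_val,
        QuaternionGroup.xa_mul_a, zero_add]

theorem omega_eqs (h2 : (2 : F) ≠ 0) {M N : Matrix (Fin 2) (Fin 2) F} (hM : M * M = -1)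
    (hN : N * N = -1) (hNM : N * M = -(M * N)) (W : Matrix (Fin 2) (Fin 2) F)
    (hW : W = (2 : F)⁻¹ • (-1 + M + N + M * N)) :
    W * M = (M * N) * W ∧ W * N = M * W ∧ W * W + W + 1 = 0 := by
  subst hW
  have a1 : ∀ A, M * (M * A) = -A := fun A => by rw [← mul_assoc, hM, neg_one_mul]
  have a2 : ∀ A, N * (N * A) = -A := fun A => by rw [← mul_assoc, hN, neg_one_mul]
  have a3 : ∀ A, N * (M * A) = -(M * (N * A)) := fun A => by
    rw [← mul_assoc, hNM, neg_mul, mul_assoc]
  refine ⟨?_, ?_, ?_⟩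
  · simp only [Matrix.smul_mul, Matrix.mul_smul, add_mul, mul_add, neg_mul, mul_neg, one_mul,
      mul_one, mul_assoc, hM, hN, hNM, a1, a2, a3, neg_neg]
    congr 1
    abel
  · simp only [Matrix.smul_mul, Matrix.mul_smul, add_mul, mul_add, neg_mul, mul_neg, one_mul,
      mul_one, mul_assoc, hM, hN, hNM, a1, a2, a3, neg_neg]
    congr 1
    abel
  · simp only [Matrix.smul_mul, Matrix.mul_smul, add_mul, mul_add, neg_mul, mul_neg, one_mul,
      mul_one, mul_assoc, hM, hN, hNM, a1, a2, a3, neg_neg, smul_smul, smul_add, smul_neg]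
    match_scalars <;> field_simp <;> ring

theorem trace_of_sq {A : Matrix (Fin 2) (Fin 2) F} (hA : ∀ z : F, A ≠ z • 1) {a b : F}
    (h : A * A = a • A + b • 1) : A.trace = a ∧ A.det = -b := by
  have h' : (A.trace - a) • A = (A.det + b) • 1 := by
    have := (ch2 A).symm.trans h
    rw [sub_smul, add_smul]
    linear_combination (norm := abel) this
  obtain ⟨h1, h2⟩ := eq_zero_of_smul hA h'
  exact ⟨sub_eq_zero.1 h1, eq_neg_of_add_eq_zero_left h2⟩

end

/-- Elements of prime order of PSL_2(p) and the normalizer of a quaternion subgroup. Here `T = PSL_2(F)` for the field `F` with `p` elements, `p ≥ 5` prime; `R` is a subgroup of GL_2(F) isomorphic to the quaternion group of order 8 (an absolutely irreducible 2-group of symplectic type), and `H` is the subgroup of matrices of determinant 1 normalizing `R` — a subgroup of type 2^{1+2}.O₂⁻(2), isomorphic modulo scalars to A₄ or S₄ (maximality is not assumed). Ω is the set of cosets of `H` in `T`, so an element of `T` of prime order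 `r` (a matrix `x` of determinant 1 with `x^r` scalar, `x` not scalar) fixes a point of Ω exactly when some conjugate of `x` by a matrix of determinant 1 normalizes `R`. Let `r` be a prime dividing the index of `H`. Then every element of `T` of order `r` fixes a point of Ω if and only if `r = 2` or `r = 3`. -/
theorem result {F : Type*} [Field F] [Fintype F] {p : ℕ} [Fact p.Prime] [CharP F p] (hF : Fintype.card F = p) (hp : 5 ≤ p)
    (R : Subgroup (GL (Fin 2) F)) (hR : Nonempty (↥R ≃* QuaternionGroup 2))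
    (r : ℕ) [Fact r.Prime]
    (hΩ : r ∣ (Cfsg.Geo.subgroupNormalizer R).relIndex (Cfsg.Geo.specialLinear (Fin 2) F)) :
    (∀ x ∈ Cfsg.Geo.specialLinear (Fin 2) F, (∃ z : F, ((x ^ r : GL (Fin 2) F) : Matrix (Fin 2) (Fin 2) F) = z • (1 : Matrix (Fin 2) (Fin 2) F)) →
      (∀ z : F, (x : Matrix (Fin 2) (Fin 2) F) ≠ z • (1 : Matrix (Fin 2) (Fin 2) F)) →
      ∃ g ∈ Cfsg.Geo.specialLinear (Fin 2) F, g⁻¹ * x * g ∈ Cfsg.Geo.subgroupNormalizer R) ↔ (r = 2 ∨ r = 3) := by
  classical
  have hr : r.Prime := Fact.out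
  have h2 : (2 : F) ≠ 0 := by
    intro h
    have h' : ((2 : ℕ) : F) = 0 := by exact_mod_cast h
    have := Nat.le_of_dvd (by norm_num) ((CharP.cast_eq_zero_iff F p 2).1 h')
    omega
  have h3 : (3 : F) ≠ 0 := by
    intro h
    have h' : ((3 : ℕ) : F) = 0 := by exact_mod_cast h
    have := Nat.le_of_dvd (by norm_num) ((CharP.cast_eq_zero_iff F p 3).1 h')
    omega
  obtain ⟨I, J, hI, hJ, hII, hJJ, hJI, hne, hgen⟩ := exists_gens R hR
  set M := (I : Matrix (Fin 2) (Fin 2) F) with hM
  set N := (J : Matrix (Fin 2) (Fin 2) F) with hN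
  have hsl : ∀ g : GL (Fin 2) F, g ∈ Cfsg.Geo.specialLinear (Fin 2) F ↔
      (g : Matrix (Fin 2) (Fin 2) F).det = 1 := fun g => by
    rw [Cfsg.Geo.specialLinear, MonoidHom.mem_ker, Units.ext_iff]
    rfl
  constructor
  · intro hall
    by_contra hcon
    rw [not_or] at hcon
    have hr5 : 5 ≤ r := by
      have h4 : r ≠ 4 := by rintro rfl; norm_num at hr
      have := hr.two_le
      omega
    have hrR : ¬ r ∣ 8 := fun h => by
      have := (Nat.prime_dvd_prime_iff_eq hr Nat.prime_two).1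
        (hr.dvd_of_dvd_pow (show r ∣ 2 ^ 3 by simpa using h))
      omega
    obtain ⟨x, hx⟩ := exists_prime_orderOf_dvd_card' r (hΩ.trans
      (show (Cfsg.Geo.subgroupNormalizer R).relIndex (Cfsg.Geo.specialLinear (Fin 2) F) ∣ _ from
        Subgroup.index_dvd_card _))
    have hxr : ((x : GL (Fin 2) F)) ^ r = 1 := by
      rw [← hx]; exact_mod_cast pow_orderOf_eq_one x
    have hxne : (x : GL (Fin 2) F) ≠ 1 := fun h => by
      rw [Subtype.ext (h.trans rfl : (x : GL (Fin 2) F) = ((1 : Cfsg.Geo.specialLinear (Fin 2) F) :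
        GL (Fin 2) F)), orderOf_one] at hx
      exact hr.ne_one hx.symm
    have hnsc : ∀ z : F, ((x : GL (Fin 2) F) : Matrix (Fin 2) (Fin 2) F) ≠ z • 1 := fun z hz => by
      have hd := (hsl x).1 x.2
      have hp' := congrArg (fun g : GL (Fin 2) F => (g : Matrix (Fin 2) (Fin 2) F)) hxr
      simp only [Units.val_pow_eq_pow_val, hz, smul_pow, one_pow, Units.val_one] at hp'
      rw [hz, det_smul, det_one, mul_one, Fintype.card_fin] at hd
      have hzr : z ^ r = 1 := by
        simpa using congrArg (fun A : Matrix (Fin 2) (Fin 2) F => A 0 0) hp'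
      obtain ⟨k, hk⟩ := hr.odd_of_ne_two hcon.1
      rw [hk, pow_succ, pow_mul, hd, one_pow, one_mul] at hzr
      exact hxne (Units.ext (by rw [hz, hzr, one_smul]; rfl))
    obtain ⟨g, hg, hgN⟩ := hall x x.2 ⟨1, by rw [hxr, one_smul]; rfl⟩ hnsc
    obtain ⟨y, hy⟩ : ∃ y : GL (Fin 2) F, y = g⁻¹ * (x : GL (Fin 2) F) * g := ⟨_, rfl⟩
    rw [← hy] at hgN
    have hyr : y ^ r = 1 := by
      have := (map_pow (MulAut.conj g⁻¹).toMonoidHom (x : GL (Fin 2) F) r).symm
      simp only [MulEquiv.coe_toMonoidHom, MulAut.conj_apply, inv_inv, hxr, mul_one,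
        inv_mul_cancel, ← hy] at this
      exact this
    have hcard : Nat.card R = 8 := by
      rw [Nat.card_congr hR.some.toEquiv, Nat.card_eq_fintype_card, QuaternionGroup.card]
    let σ : Equiv.Perm R := ((MulAut.conj y).toEquiv.subtypeEquiv fun h => by
      simpa using (Subgroup.mem_normalizer_iff.1 hgN h))
    have hσ : ∀ (n : ℕ) (h : R), ((σ ^ n) h : GL (Fin 2) F) = y ^ n * h * (y ^ n)⁻¹ := by
      intro n
      induction n with
      | zero => intro h; simp
      | succ n ih =>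
        intro h
        rw [pow_succ', Equiv.Perm.mul_apply]
        show y * ((σ ^ n) h : GL (Fin 2) F) * y⁻¹ = _
        rw [ih, pow_succ', _root_.mul_inv_rev]
        simp only [mul_assoc]
    have hσr : σ ^ r ^ 1 = 1 := by
      rw [pow_one]
      exact Equiv.ext fun h => Subtype.ext (by rw [hσ, hyr]; simp)
    haveI := Fintype.ofFinite R
    have hmod := Equiv.Perm.card_compl_support_modEq hσr
    let C : Subgroup R := (Subgroup.centralizer {y}).subgroupOf R
    have hC : ∀ h : R, h ∈ C ↔ σ h = h := fun h => by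
      rw [Subgroup.mem_subgroupOf, Subgroup.mem_centralizer_singleton_iff, Subtype.ext_iff]
      show _ ↔ y * (h : GL (Fin 2) F) * y⁻¹ = h
      rw [mul_inv_eq_iff_eq_mul]
      exact eq_comm
    have hCc : σ.supportᶜ.card = Nat.card C := by
      rw [Nat.card_eq_fintype_card, Fintype.card_subtype]
      congr 1
      ext h
      simp [hC]
    rw [hCc, ← Nat.card_eq_fintype_card (α := R), hcard] at hmod
    have hCdvd : Nat.card C ∣ 8 := hcard ▸ C.card_subgroup_dvd_card
    have hZC : (⟨I * I, R.mul_mem hI hI⟩ : R) ∈ C := by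
      rw [Subgroup.mem_subgroupOf, Subgroup.mem_centralizer_singleton_iff]
      refine Units.ext ?_
      simp only [Units.val_mul, ← hM, hII]
      simp
    have hC1 : Nat.card C ≠ 1 := fun h => by
      have h' := Subgroup.mem_bot.1 ((Subgroup.card_eq_one.1 h) ▸ hZC)
      have h'' := congrArg (fun a : R => ((a : GL (Fin 2) F) : Matrix (Fin 2) (Fin 2) F) 0 0) h'
      simp only [Units.val_mul, ← hM, hII, Units.val_one, OneMemClass.coe_one, Matrix.neg_apply,
        Matrix.one_apply_eq] at h''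
      exact h2 (by linear_combination -h'')
    have hCle : Nat.card C ≤ 8 := Nat.le_of_dvd (by norm_num) hCdvd
    have hC8 : Nat.card C = 8 := by
      have hd : r ∣ 8 - Nat.card C := (Nat.modEq_iff_dvd' hCle).1 hmod
      generalize Nat.card C = c at *
      interval_cases c
      all_goals try omega
      all_goals have := Nat.le_of_dvd (by norm_num) hd
      all_goals try omega
      all_goals interval_cases r <;> norm_num at *
    have hcomm : ∀ h : R, (h : GL (Fin 2) F) * y = y * h := fun h => by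
      have htop : C = ⊤ := Subgroup.eq_top_of_card_eq C (by rw [hC8, hcard])
      have : h ∈ C := htop ▸ Subgroup.mem_top h
      exact Subgroup.mem_centralizer_singleton_iff.1 (Subgroup.mem_subgroupOf.1 this)
    obtain ⟨z, hz⟩ := eq_scalar_of_commute hne (congrArg Units.val (hcomm ⟨I, hI⟩)).symm
      (congrArg Units.val (hcomm ⟨J, hJ⟩)).symm
    refine hnsc z ?_
    have e : (x : GL (Fin 2) F) = g * y * g⁻¹ := by rw [hy]; group
    rw [e, Units.val_mul, Units.val_mul, hz, Matrix.mul_smul, mul_one, Matrix.smul_mul,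
      Units.mul_inv]
  · rintro hcase x hx ⟨z, hz⟩ hns
    set A := (x : Matrix (Fin 2) (Fin 2) F) with hA
    have hdA : A.det = 1 := (hsl x).1 hx
    have hch : A * A = A.trace • A - (1 : Matrix (Fin 2) (Fin 2) F) := by
      rw [ch2 A, hdA, one_smul]
    have fin : ∀ B : GL (Fin 2) F, B ∈ Cfsg.Geo.subgroupNormalizer R →
        (∀ w : F, (B : Matrix (Fin 2) (Fin 2) F) ≠ w • 1) →
        (B : Matrix (Fin 2) (Fin 2) F).det = 1 → (B : Matrix (Fin 2) (Fin 2) F).trace = A.trace →
        A.trace ^ 2 ≠ 4 →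
        ∃ g ∈ Cfsg.Geo.specialLinear (Fin 2) F, g⁻¹ * x * g ∈ Cfsg.Geo.subgroupNormalizer R := by
      intro B hB hBs hBd hBt ht
      obtain ⟨g, hg, hgc⟩ := conj_of_trace h2 hns hBs hdA hBd hBt.symm ht
      refine ⟨g, (hsl g).2 hg, ?_⟩
      have : x * g = g * B := Units.ext hgc
      rwa [mul_assoc, this, inv_mul_cancel_left]
    have hMs : ∀ w : F, M ≠ w • 1 := fun w h => hne (by simp [h])
    rcases hcase with rfl | rfl
    · rw [Units.val_pow_eq_pow_val, pow_two] at hz
      obtain ⟨ht, -⟩ := trace_of_sq hns (a := 0) (b := z) (by rw [hz]; simp)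
      obtain ⟨htI, hdI⟩ := trace_of_sq hMs (a := 0) (b := -1) (by rw [hII]; simp)
      refine fin I (Subgroup.le_normalizer hI) hMs (by rw [hdI]; simp) (by rw [htI, ht]) ?_
      rw [ht, zero_pow two_ne_zero, show (4 : F) = 2 * 2 by norm_num]
      exact (mul_ne_zero h2 h2).symm
    · obtain ⟨e1, e2, e3⟩ := omega_eqs h2 hII hJJ hJI _ rfl
      set W := (2 : F)⁻¹ • (-1 + M + N + M * N) with hW
      have hWs : ∀ w : F, W ≠ w • 1 := by
        intro w hw
        rw [hw] at e2
        have hw0 : w = 0 := by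
          by_contra hw0
          refine hne ?_
          have : N = M := smul_right_injective (Matrix (Fin 2) (Fin 2) F) hw0 (by simpa using e2)
          rw [this]
        rw [hw, hw0] at e3
        simp at e3
      obtain ⟨htW, hdW⟩ := trace_of_sq hWs (a := -1) (b := -1)
        (by linear_combination (norm := module) e3)
      have hdW1 : W.det = 1 := by rw [hdW, neg_neg]
      let Ω' : GL (Fin 2) F :=
        Matrix.GeneralLinearGroup.mkOfDetNeZero W (by rw [hdW1]; exact one_ne_zero)
      have hΩ' : Ω' ∈ Cfsg.Geo.subgroupNormalizer R := by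
        refine Subgroup.mem_normalizer_fintype (S := (R : Set (GL (Fin 2) F))) fun h hh => ?_
        have c1 : Ω' * I * Ω'⁻¹ = I * J := by
          rw [mul_inv_eq_iff_eq_mul]; exact Units.ext e1
        have c2 : Ω' * J * Ω'⁻¹ = I := by
          rw [mul_inv_eq_iff_eq_mul]; exact Units.ext e2
        have key : R ≤ R.comap (MulAut.conj Ω').toMonoidHom := by
          intro h hh
          have hI' : I ∈ R.comap (MulAut.conj Ω').toMonoidHom := by
            simp [c1, R.mul_mem hI hJ]
          have hJ' : J ∈ R.comap (MulAut.conj Ω').toMonoidHom := by simp [c2, hI]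
          obtain ⟨k, rfl | rfl⟩ := hgen h hh
          · exact pow_mem hI' k
          · exact mul_mem hJ' (pow_mem hI' k)
        exact key hh
      rw [Units.val_pow_eq_pow_val, pow_succ, pow_two] at hz
      have h3' : (A.trace ^ 2 - 1) • A = (z + A.trace) • 1 := by
        rw [← hA, hch, sub_mul, one_mul, Matrix.smul_mul, hch] at hz
        linear_combination (norm := module) hz
      have ht1 : A.trace ^ 2 = 1 := sub_eq_zero.1 (eq_zero_of_smul hns h3').1
      have ht4 : A.trace ^ 2 ≠ 4 := by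
        rw [ht1]; intro h; exact h3 (by linear_combination -h)
      rcases eq_or_ne A.trace (-1) with ht | ht
      · exact fin Ω' hΩ' hWs hdW1 (htW.trans ht.symm) ht4
      · have ht' : A.trace = 1 := (sq_eq_one_iff.1 ht1).resolve_right ht
        have hv : ((Ω' * (I * I) : GL (Fin 2) F) : Matrix (Fin 2) (Fin 2) F) = -W := by
          rw [Units.val_mul, Units.val_mul, ← hM, hII, mul_neg, mul_one]
          rfl
        refine fin (Ω' * (I * I)) (mul_mem hΩ' (Subgroup.le_normalizer (R.mul_mem hI hI))) ?_ ?_ ?_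
          ht4
        · intro w h
          rw [hv] at h
          exact hWs (-w) (by rw [neg_smul, ← h, neg_neg])
        · rw [hv, det_neg, hdW1]; simp
        · rw [hv, trace_neg, htW, ht', neg_neg]

end Cfsg.Agent.S5997
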