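import Cfsg.Statements.S5998
import Cfsg.Agent.LinGrp12.HeisThreeTools
import Cfsg.Agent.Lib.LinearGroup.Card

set_option autoImplicit false
open scoped MatrixGroups
open Cfsg

namespace Cfsg.Agent.S5998

open Cfsg.Agent.LinGrp12 Matrix

theorem not_dvd81 : ∀ a : ZMod 81, (a.val % 9 = 4 ∨ a.val % 9 = 7) →
    (a ^ 2 - 1) * (a ^ 3 - 1) ≠ 0 := by decide

theorem card_special (F : Type*) [Field F] [Fintype F] :
    Nat.card (Cfsg.Geo.specialLinear (Fin 3) F) =
      Fintype.card F ^ 3 * ((Fintype.card F ^ 2 - 1) * (Fintype.card F ^ 3 - 1)) := by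
  have h := Cfsg.Agent.LinearGroup.card_SL_eq_pow_mul_prod (F := F) 2
  rw [Finset.prod_range_succ, Finset.prod_range_succ, Finset.prod_range_zero, one_mul,
    Nat.card_eq_fintype_card (α := F), Fin.sum_univ_three] at h
  rw [show Fintype.card F ^ 3 = Fintype.card F ^ ((0 : ℕ) + 1 + 2) from rfl]
  refine Eq.trans ?_ h
  refine (Nat.card_congr (Equiv.ofBijective
    (fun A : Matrix.SpecialLinearGroup (Fin 3) F =>
      (⟨Matrix.SpecialLinearGroup.toGL A, Units.ext A.2⟩ : Cfsg.Geo.specialLinear (Fin 3) F))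
    ⟨fun A B hAB => Subtype.ext (congrArg (fun g : GL (Fin 3) F => (g : Matrix (Fin 3) (Fin 3) F))
        (congrArg Subtype.val hAB)),
     fun g => ⟨⟨(g.1 : Matrix (Fin 3) (Fin 3) F), (mem_special_iff g.1).1 g.2⟩,
        Subtype.ext (Units.ext rfl)⟩⟩)).symm

/-- Elements of prime order of PSL_3(p), p ≡ 1 (mod 3), and the normalizer of an extraspecial subgroup of order 27. Here `T = PSL_3(F)` for the field `F` with `p` elements, `p` a prime with `p ≡ 1 (mod 3)`; `R` is a non-abelian subgroup of GL_3(F) of order 27 and exponent 3 (an extraspecial group 3^{1+2}, acting absolutely irreducibly), and `H` is the subgroup of matrices of determinant 1 normalizing `R` — a subgroup of type 3^{1+2}.Sp₂(3) (maximality is not assumed). Ω is the set of cosets of `H` in `T`, so an element of `T` of prime order `r` (a matrix `x` of determinant 1 with `x^r` scalar, `x` not scalar) fixes a point of Ω exactly when some conjugate of `x` by a matrix of determinant 1 normalizes `R`. Let `r`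 be a prime dividing the index of `H`. Then every element of `T` of order `r` fixes a point of Ω if and only if `r = 2`, or `r = 3` and `p ≡ 1 (mod 9)`. -/
theorem result {F : Type*} [Field F] [Fintype F] {p : ℕ} [Fact p.Prime] [CharP F p] (hF : Fintype.card F = p) (hp3 : p % 3 = 1)
    (R : Subgroup (GL (Fin 3) F)) (hR : Nat.card R = 27) (hRe : Monoid.exponent R = 3) (hRna : ¬ IsMulCommutative R)
    (r : ℕ) [Fact r.Prime]
    (hΩ : r ∣ (Cfsg.Geo.subgroupNormalizer R).relIndex (Cfsg.Geo.specialLinear (Fin 3) F)) :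
    (∀ x ∈ Cfsg.Geo.specialLinear (Fin 3) F, (∃ z : F, ((x ^ r : GL (Fin 3) F) : Matrix (Fin 3) (Fin 3) F) = z • (1 : Matrix (Fin 3) (Fin 3) F)) →
      (∀ z : F, (x : Matrix (Fin 3) (Fin 3) F) ≠ z • (1 : Matrix (Fin 3) (Fin 3) F)) →
      ∃ g ∈ Cfsg.Geo.specialLinear (Fin 3) F, g⁻¹ * x * g ∈ Cfsg.Geo.subgroupNormalizer R) ↔ (r = 2 ∨ (r = 3 ∧ p % 9 = 1)) := by
  classical
  haveI : Fact (Nat.Prime 3) := ⟨Nat.prime_three⟩
  have hp := (Fact.out : p.Prime)
  have hr := (Fact.out : r.Prime)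
  have hp7 : 7 ≤ p := by
    by_contra h
    have := hp.two_le
    interval_cases p <;> first | omega | norm_num at hp
  have hcast : ∀ k : ℕ, 0 < k → k < p → (k : F) ≠ 0 := fun k hk0 hk h => by
    have := Nat.le_of_dvd hk0 ((CharP.cast_eq_zero_iff F p k).1 h)
    omega
  have h2F : (2 : F) ≠ 0 := by exact_mod_cast hcast 2 (by norm_num) (by omega)
  have h3F : (3 : F) ≠ 0 := by exact_mod_cast hcast 3 (by norm_num) (by omega)
  have hunits : Nat.card Fˣ = p - 1 := by
    rw [Nat.card_units, Nat.card_eq_fintype_card, hF]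
  have hroot : ∀ k : ℕ, k ∣ p - 1 → ∃ ζ : F, IsPrimitiveRoot ζ k := by
    intro k hk
    obtain ⟨g, hg⟩ := IsCyclic.exists_ofOrder_eq_natCard (α := Fˣ)
    have hp1 : 0 < p - 1 := by omega
    obtain ⟨m, hm⟩ := hk
    refine ⟨((g ^ m : Fˣ) : F), ?_⟩
    rw [IsPrimitiveRoot.iff_orderOf, orderOf_units, orderOf_pow' _ (by rintro rfl; omega), hg,
      hunits, hm, Nat.gcd_mul_left_left]
    exact Nat.mul_div_cancel _ (Nat.pos_of_ne_zero (by rintro rfl; omega))
  obtain ⟨η, hη⟩ := hroot 3 (by omega)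
  obtain ⟨ω, hω, P, hP⟩ := exists_normal_form R hR hRe hRna h3F hη
  constructor
  · intro hall
    by_contra hne
    push Not at hne
    obtain ⟨hr2, hr9⟩ := hne
    have hdvd : (Cfsg.Geo.subgroupNormalizer R).relIndex (Cfsg.Geo.specialLinear (Fin 3) F) ∣
        R.relIndex (Cfsg.Geo.specialLinear (Fin 3) F) :=
      Subgroup.relIndex_dvd_of_le_left _ Subgroup.le_normalizer
    have hle := heis_le_special hω hP
    have hcard := Subgroup.card_mul_index (R.subgroupOf (Cfsg.Geo.specialLinear (Fin 3) F))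
    rw [Nat.card_congr (Subgroup.subgroupOfEquivOfLe hle).toEquiv, hR, card_special, hF] at hcard
    by_cases hr3 : r = 3
    · subst hr3
      have hp9 : p % 9 ≠ 1 := hr9 rfl
      obtain ⟨m, hm⟩ := hΩ.trans hdvd
      have h81 : 81 ∣ p ^ 3 * ((p ^ 2 - 1) * (p ^ 3 - 1)) := by
        rw [← hcard]
        refine ⟨m, ?_⟩
        show 27 * R.relIndex _ = _
        rw [hm]
        ring
      have hcop : Nat.Coprime 81 (p ^ 3) := by
        rw [show 81 = 3 ^ 4 by norm_num]
        exact Nat.Coprime.pow _ _ ((Nat.coprime_primes Nat.prime_three hp).2 (by omega))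
      have h := (ZMod.natCast_eq_zero_iff _ 81).2 (hcop.dvd_of_dvd_mul_left h81)
      rw [Nat.cast_mul, Nat.cast_sub (Nat.one_le_pow _ _ hp.pos),
        Nat.cast_sub (Nat.one_le_pow _ _ hp.pos)] at h
      push_cast at h
      refine not_dvd81 (p : ZMod 81) ?_ h
      rw [ZMod.val_natCast]
      omega
    · have hrdvd : r ∣ Nat.card (Cfsg.Geo.specialLinear (Fin 3) F) :=
        hΩ.trans ((Subgroup.index_dvd_card _))
      obtain ⟨x, hx⟩ := exists_prime_orderOf_dvd_card' r hrdvd
      have hxr : (x : GL (Fin 3) F) ^ r = 1 := by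
        rw [← hx, ← Subgroup.orderOf_coe, pow_orderOf_eq_one]
      obtain ⟨g, hg, hgx⟩ := hall x x.2 ⟨1, by rw [hxr, Units.val_one, one_smul]⟩ (fun z hz => by
        have h3 : z ^ 3 = 1 := by
          have := (mem_special_iff (x : GL (Fin 3) F)).1 x.2
          rwa [hz, det_smul, det_one, mul_one, Fintype.card_fin] at this
        have hx3 : (x : GL (Fin 3) F) ^ 3 = 1 := by
          apply Units.ext
          rw [Units.val_pow_eq_pow_val, hz, _root_.smul_pow, h3, one_pow, one_smul, Units.val_one]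
        have := orderOf_dvd_of_pow_eq_one hx3
        rw [Subgroup.orderOf_coe, hx] at this
        exact hr3 ((Nat.prime_dvd_prime_iff_eq hr Nat.prime_three).1 this))
      have hdet : ((g⁻¹ * (x : GL (Fin 3) F) * g : GL (Fin 3) F) :
          Matrix (Fin 3) (Fin 3) F).det = 1 :=
        (mem_special_iff _).1 (mul_mem (mul_mem (inv_mem hg) x.2) hg)
      refine no_large hω hP hR hgx hdet hr2 hr3 ?_
      have h1 : orderOf (g⁻¹ * (x : GL (Fin 3) F) * g) = orderOf (x : GL (Fin 3) F) := by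
        have := (MulAut.conj g⁻¹).orderOf_eq (x : GL (Fin 3) F)
        simpa using this
      rw [h1, Subgroup.orderOf_coe, hx]
  · intro hcase x hx hxz hns
    obtain ⟨z, hz⟩ := hxz
    have hdet := (mem_special_iff x).1 hx
    suffices ∃ (h Q Q' : GL (Fin 3) F) (d : Fin 3 → F),
        h ∈ Subgroup.normalizer (R : Set (GL (Fin 3) F)) ∧
        (x : Matrix (Fin 3) (Fin 3) F) * Q = (Q : Matrix (Fin 3) (Fin 3) F) * diagonal d ∧
        (h : Matrix (Fin 3) (Fin 3) F) * Q' = (Q' : Matrix (Fin 3) (Fin 3) F) * diagonal d by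
      obtain ⟨h, Q, Q', d, hh, hQ, hQ'⟩ := this
      obtain ⟨g, hg, hgx⟩ := exists_sl_conj hQ hQ'
      exact ⟨g, hg, by rw [hgx]; exact hh⟩
    rcases hcase with rfl | ⟨rfl, hp9⟩
    · exact exists_diag_two hω h2F hP hdet hz hns
    · obtain ⟨ζ, hζ⟩ := hroot 9 (by omega)
      have hz3 : z ^ 3 = 1 := by
        have := congrArg Matrix.det hz
        rw [Units.val_pow_eq_pow_val, det_pow, hdet, one_pow, det_smul, det_one, mul_one,
          Fintype.card_fin] at this
        exact this.symm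
      obtain ⟨k, -, hk⟩ := (hζ.pow (by norm_num) (show 9 = 3 * 3 by norm_num)).eq_pow_of_pow_eq_one hz3
      refine exists_diag_three hω h3F hP (ε := ζ ^ k) (pow_ne_zero _ (hζ.ne_zero (by norm_num))) ?_
      rw [hz, ← hk, ← pow_mul, ← pow_mul, mul_comm 3 k]

end Cfsg.Agent.S5998
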