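import Cfsg.Statements.S5999
import Cfsg.Agent.LinGrp12.HeisThreeUnitary

set_option autoImplicit false
open scoped MatrixGroups
open Cfsg

namespace Cfsg.Agent.S5999

open Cfsg.Agent.LinGrp12 Matrix

theorem not_dvd81 : ∀ a : ZMod 81, (a.val % 9 = 2 ∨ a.val % 9 = 5) →
    (a ^ 2 - 1) * (a ^ 3 + 1) ≠ 0 := by decide

theorem card_special_unitary (F : Type*) [Field F] [Fintype F] {q : ℕ}
    (hF : Fintype.card F = q ^ 2) :
    Nat.card (Cfsg.GU 3 F q ⊓ Cfsg.Geo.specialLinear (Fin 3) F : Subgroup (GL (Fin 3) F)) =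
      q ^ 3 * ((q ^ 2 - 1) * (q ^ 3 + 1)) := by
  have h := Cfsg.Agent.Unitary.card_SU_mul (F := F) hF (n := 3) (by norm_num)
  rw [Cfsg.Agent.Unitary.card_GU hF 3] at h
  simp [Finset.prod_range_succ, Nat.even_iff] at h
  have e : Nat.card (SU 3 F q) =
      Nat.card (Cfsg.GU 3 F q ⊓ Cfsg.Geo.specialLinear (Fin 3) F : Subgroup (GL (Fin 3) F)) :=
    Nat.card_congr
      { toFun := fun g => ⟨Matrix.SpecialLinearGroup.toGL g.1,
          Subgroup.mem_inf.2 ⟨g.2, Units.ext g.1.2⟩⟩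
        invFun := fun g => ⟨⟨((g : GL (Fin 3) F) : Matrix (Fin 3) (Fin 3) F),
          (mem_special_iff _).1 (Subgroup.mem_inf.1 g.2).2⟩, (Subgroup.mem_inf.1 g.2).1⟩
        left_inv := fun g => rfl
        right_inv := fun g => Subtype.ext (Units.ext rfl) }
  rw [← e]
  refine Nat.eq_of_mul_eq_mul_left (Nat.succ_pos q) ?_
  rw [Nat.succ_eq_add_one, h]
  ring

/-- Elements of prime order of PSU_3(p), p ≡ 2 (mod 3), and the normalizer of an extraspecial subgroup of order 27. Here `T = PSU_3(p)` for a prime `p ≥ 5` with `p ≡ 2 (mod 3)`, realised through `SU_3(p)`, the matrices of determinant 1 over the field `F` with `p²` elements preserving the hermitian form `Σ uᵢvᵢ^p`; `R` is a non-abelian subgroup of order 27 and exponent 3 of the full unitary group of that form (an extraspecial group 3^{1+2}, acting absolutely irreducibly), and `H` is the subgroup of `SU_3(p)` normalizing `R` — a subgroup of type 3^{1+2}.Sp₂(3) (maximality is not assumed). Ω is the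 set of cosets of `H`, so an element of `T` of prime order `r` (`x ∈ SU_3(p)` with `x^r` scalar, `x` not scalar) fixes a point of Ω exactly when some `SU_3(p)`-conjugate of `x` normalizes `R`. Let `r` be a prime dividing the index of `H`. Then every element of `T` of order `r` fixes a point of Ω if and only if `r = 2`, or `r = 3` and `p ≡ 8 (mod 9)`. -/
theorem result {F : Type*} [Field F] [Fintype F] {p : ℕ} [Fact p.Prime] [CharP F p] (hF : Fintype.card F = p ^ 2) (hp : 5 ≤ p) (hp3 : p % 3 = 2)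
    (R : Subgroup (GL (Fin 3) F)) (hRU : R ≤ Cfsg.GU 3 F p) (hR : Nat.card R = 27) (hRe : Monoid.exponent R = 3) (hRna : ¬ IsMulCommutative R)
    (r : ℕ) [Fact r.Prime]
    (hΩ : r ∣ (Cfsg.Geo.subgroupNormalizer R).relIndex (Cfsg.GU 3 F p ⊓ Cfsg.Geo.specialLinear (Fin 3) F)) :
    (∀ x ∈ Cfsg.GU 3 F p ⊓ Cfsg.Geo.specialLinear (Fin 3) F, (∃ z : F, ((x ^ r : GL (Fin 3) F) : Matrix (Fin 3) (Fin 3) F) = z • (1 : Matrix (Fin 3) (Fin 3) F)) →
      (∀ z : F, (x : Matrix (Fin 3) (Fin 3) F) ≠ z • (1 : Matrix (Fin 3) (Fin 3) F)) →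
      ∃ g ∈ Cfsg.GU 3 F p ⊓ Cfsg.Geo.specialLinear (Fin 3) F, g⁻¹ * x * g ∈ Cfsg.Geo.subgroupNormalizer R) ↔ (r = 2 ∨ (r = 3 ∧ p % 9 = 8)) := by
  classical
  haveI : Fact (Nat.Prime 3) := ⟨Nat.prime_three⟩
  have hpp := (Fact.out : p.Prime)
  have hr := (Fact.out : r.Prime)
  have hcast : ∀ k : ℕ, 0 < k → k < p → (k : F) ≠ 0 := fun k hk0 hk h => by
    have := Nat.le_of_dvd hk0 ((CharP.cast_eq_zero_iff F p k).1 h)
    omega
  have h2F : (2 : F) ≠ 0 := by exact_mod_cast hcast 2 (by norm_num) (by omega)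
  have h3F : (3 : F) ≠ 0 := by exact_mod_cast hcast 3 (by norm_num) (by omega)
  have hsq : p ^ 2 - 1 = (p + 1) * (p - 1) := by simpa using Nat.sq_sub_sq p 1
  have hunits : Nat.card Fˣ = p ^ 2 - 1 := by
    rw [Nat.card_units, Nat.card_eq_fintype_card, hF]
  have hroot : ∀ k : ℕ, k ∣ p + 1 → ∃ ζ : F, IsPrimitiveRoot ζ k := by
    intro k hk
    obtain ⟨g, hg⟩ := IsCyclic.exists_ofOrder_eq_natCard (α := Fˣ)
    obtain ⟨m, hm⟩ := hk.trans (Dvd.intro _ hsq.symm : p + 1 ∣ p ^ 2 - 1)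
    have hpos : 0 < p ^ 2 - 1 := by rw [hsq]; exact Nat.mul_pos (by omega) (by omega)
    refine ⟨((g ^ m : Fˣ) : F), ?_⟩
    rw [IsPrimitiveRoot.iff_orderOf, orderOf_units,
      orderOf_pow' _ (by rintro rfl; omega), hg, hunits, hm, Nat.gcd_mul_left_left]
    exact Nat.mul_div_cancel _ (Nat.pos_of_ne_zero (by rintro rfl; omega))
  obtain ⟨η, hη⟩ := hroot 3 (by omega)
  obtain ⟨ω, hω, P₀, hP₀⟩ := exists_normal_form R hR hRe hRna h3F hη
  have hωp : ω ^ (p + 1) = 1 := (hω.pow_eq_one_iff_dvd _).2 (by omega)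
  obtain ⟨P, hPU, hP⟩ := exists_unitary_form hF hω hωp hRU hP₀
  constructor
  · intro hall
    by_contra hne
    push Not at hne
    obtain ⟨hr2, hr9⟩ := hne
    set S := Cfsg.GU 3 F p ⊓ Cfsg.Geo.specialLinear (Fin 3) F with hS
    have hdvd : (Cfsg.Geo.subgroupNormalizer R).relIndex S ∣ R.relIndex S :=
      Subgroup.relIndex_dvd_of_le_left _ Subgroup.le_normalizer
    have hle : R ≤ S := le_inf hRU (heis_le_special hω hP)
    have hcard := Subgroup.card_mul_index (R.subgroupOf S)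
    rw [Nat.card_congr (Subgroup.subgroupOfEquivOfLe hle).toEquiv, hR,
      card_special_unitary F hF] at hcard
    by_cases hr3 : r = 3
    · subst hr3
      have hp9 : p % 9 ≠ 8 := hr9 rfl
      obtain ⟨m, hm⟩ := hΩ.trans hdvd
      have h81 : 81 ∣ p ^ 3 * ((p ^ 2 - 1) * (p ^ 3 + 1)) := by
        rw [← hcard]
        refine ⟨m, ?_⟩
        show 27 * R.relIndex _ = _
        rw [hm]
        ring
      have hcop : Nat.Coprime 81 (p ^ 3) := by
        rw [show 81 = 3 ^ 4 by norm_num]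
        exact Nat.Coprime.pow _ _ ((Nat.coprime_primes Nat.prime_three hpp).2 (by omega))
      have h := (ZMod.natCast_eq_zero_iff _ 81).2 (hcop.dvd_of_dvd_mul_left h81)
      rw [Nat.cast_mul, Nat.cast_sub (Nat.one_le_pow _ _ hpp.pos)] at h
      push_cast at h
      refine not_dvd81 (p : ZMod 81) ?_ h
      rw [ZMod.val_natCast]
      omega
    · have hrdvd : r ∣ Nat.card S := hΩ.trans (Subgroup.index_dvd_card _)
      obtain ⟨x, hx⟩ := exists_prime_orderOf_dvd_card' r hrdvd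
      have hxr : (x : GL (Fin 3) F) ^ r = 1 := by
        rw [← hx, ← Subgroup.orderOf_coe, pow_orderOf_eq_one]
      obtain ⟨g, hg, hgx⟩ := hall x x.2 ⟨1, by rw [hxr, Units.val_one, one_smul]⟩ (fun z hz => by
        have h3 : z ^ 3 = 1 := by
          have := (mem_special_iff (x : GL (Fin 3) F)).1 (Subgroup.mem_inf.1 x.2).2
          rwa [hz, det_smul, det_one, mul_one, Fintype.card_fin] at this
        have hx3 : (x : GL (Fin 3) F) ^ 3 = 1 := by
          apply Units.ext
          rw [Units.val_pow_eq_pow_val, hz, _root_.smul_pow, h3, one_pow, one_smul, Units.val_one]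
        have := orderOf_dvd_of_pow_eq_one hx3
        rw [Subgroup.orderOf_coe, hx] at this
        exact hr3 ((Nat.prime_dvd_prime_iff_eq hr Nat.prime_three).1 this))
      have hdet : ((g⁻¹ * (x : GL (Fin 3) F) * g : GL (Fin 3) F) :
          Matrix (Fin 3) (Fin 3) F).det = 1 :=
        (mem_special_iff _).1 (Subgroup.mem_inf.1 (mul_mem (mul_mem (inv_mem hg) x.2) hg)).2
      refine no_large hω hP hR hgx hdet hr2 hr3 ?_
      have h1 : orderOf (g⁻¹ * (x : GL (Fin 3) F) * g) = orderOf (x : GL (Fin 3) F) := by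
        have := (MulAut.conj g⁻¹).orderOf_eq (x : GL (Fin 3) F)
        simpa using this
      rw [h1, Subgroup.orderOf_coe, hx]
  · intro hcase x hx hxz hns
    obtain ⟨z, hz⟩ := hxz
    obtain ⟨hxU, hxS⟩ := Subgroup.mem_inf.1 hx
    have hdet := (mem_special_iff x).1 hxS
    rw [Units.val_pow_eq_pow_val] at hz
    suffices ∃ (h Q Q' : GL (Fin 3) F) (d : Fin 3 → F),
        h ∈ Subgroup.normalizer (R : Set (GL (Fin 3) F)) ∧ Q ∈ Cfsg.GU 3 F p ∧
        Q' ∈ Cfsg.GU 3 F p ∧
        (x : Matrix (Fin 3) (Fin 3) F) * Q = (Q : Matrix (Fin 3) (Fin 3) F) * diagonal d ∧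
        (h : Matrix (Fin 3) (Fin 3) F) * Q' = (Q' : Matrix (Fin 3) (Fin 3) F) * diagonal d by
      obtain ⟨h, Q, Q', d, hh, hQU, hQU', hQ, hQ'⟩ := this
      obtain ⟨g, hg, hgx⟩ := exists_su_conj hF hQU hQU' hQ hQ'
      exact ⟨g, hg, by rw [hgx]; exact hh⟩
    have hz3 : z ^ 3 = 1 := by
      have := congrArg Matrix.det hz
      rw [det_pow, hdet, one_pow, det_smul, det_one, mul_one, Fintype.card_fin] at this
      exact this.symm
    have hz0 : z ≠ 0 := fun h => by simp [h] at hz3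
    have hzn : z ^ (p + 1) = 1 :=
      orderOf_dvd_iff_pow_eq_one.1 ((orderOf_dvd_of_pow_eq_one hz3).trans (by omega))
    rcases hcase with rfl | ⟨rfl, hp9⟩
    · have hp2 : 2 ∣ p + 1 := by
        rcases hpp.eq_two_or_odd with h | h <;> omega
      obtain ⟨Q, hQU, hQ⟩ := diag_two hF h2F hp2 hxU hdet hzn hz hns
      set h₀ : GL (Fin 3) F := dia (fun _ => z⁻¹) (fun _ => inv_ne_zero hz0) * negSwapGL F with hh₀
      have hc : ((dia (fun _ => z⁻¹) (fun _ => inv_ne_zero hz0) : GL (Fin 3) F) :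
          Matrix (Fin 3) (Fin 3) F) = z⁻¹ • 1 := by
        rw [coe_dia, smul_one_eq_diagonal]
      have hcoe : (h₀ : Matrix (Fin 3) (Fin 3) F) = z⁻¹ • negSwap F := by
        rw [hh₀, Units.val_mul, hc, Matrix.smul_mul, one_mul]
        rfl
      have hzi : z⁻¹ ^ 3 = 1 := by rw [inv_pow, hz3, inv_one]
      obtain ⟨Q', hQU', hQ'⟩ := diag_two hF h2F hp2 (x := h₀) (z := z)
        (mul_mem (dia_mem_GU hF _ fun _ => by rw [inv_pow, hzn, inv_one]) (negSwapGL_mem_GU hF))
        (by rw [hcoe, det_smul, det_negSwap, Fintype.card_fin, hzi, mul_one]) hzn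
        (by
          rw [hcoe, _root_.smul_pow,
            show negSwap F ^ 2 = 1 by
              rw [pow_two]
              ext i j
              fin_cases i <;> fin_cases j <;> simp [negSwap, Matrix.mul_apply, Fin.sum_univ_three],
            show z⁻¹ ^ 2 = z by
              rw [inv_pow]
              exact inv_eq_of_mul_eq_one_left (by rw [← hz3]; ring)])
        (fun c hc' => by
          have h12 := congrFun (congrFun hc' 1) 2
          simp [hcoe, negSwap, hz0] at h12)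
      exact ⟨P * h₀ * P⁻¹, Q, P * Q', _,
        conj_mem_normalizer hP (mul_mem (scalar_mem_normalizer hc _) (negSwap_mem_normalizer hω)),
        hQU, mul_mem hPU hQU', hQ, coe_map_conj P hQ' rfl⟩
    · obtain ⟨ζ, hζ⟩ := hroot 9 (by omega)
      obtain ⟨k, -, hk⟩ :=
        (hζ.pow (by norm_num) (show 9 = 3 * 3 by norm_num)).eq_pow_of_pow_eq_one hz3
      set ε := ζ ^ k with hεdef
      have hε3 : ε ^ 3 = z := by rw [hεdef, ← hk, ← pow_mul, ← pow_mul, mul_comm]
      have hε0 : ε ≠ 0 := pow_ne_zero _ (hζ.ne_zero (by norm_num))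
      have hεn : ε ^ (p + 1) = 1 := by
        rw [hεdef, ← pow_mul, mul_comm, pow_mul, (hζ.pow_eq_one_iff_dvd _).2 (by omega), one_pow]
      obtain ⟨Q, f, hQU, hQ⟩ := exists_diag_unitary hF hω (by exact_mod_cast h3F) (by omega)
        (M := ε⁻¹ • (x : Matrix (Fin 3) (Fin 3) F))
        (by rw [_root_.smul_pow, hz, smul_smul, inv_pow, hε3, inv_mul_cancel₀ hz0, one_smul])
        (fun u v => by
          rw [Matrix.smul_mulVec, Matrix.smul_mulVec, Cfsg.Agent.Unitary.herm_smul_left,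
            Cfsg.Agent.Unitary.herm_smul_right hF, ← mul_assoc,
            ← pow_succ', inv_pow, hεn, inv_one, one_mul]
          exact hxU u v)
      have hd : ∀ i, ε * ω ^ (f i : ℕ) ≠ 0 := fun i =>
        mul_ne_zero hε0 (pow_ne_zero _ (hω.ne_zero (by norm_num)))
      refine ⟨P * dia _ hd * P⁻¹, Q, P, fun i => ε * ω ^ (f i : ℕ),
        conj_mem_normalizer hP (dia_mem_normalizer hω _ hd (fun _ => rfl)),
        hQU, hPU, ?_, ?_⟩
      · rw [Matrix.smul_mul] at hQ
        calc (x : Matrix (Fin 3) (Fin 3) F) * (Q : Matrix (Fin 3) (Fin 3) F)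
            = ε • (ε⁻¹ • ((x : Matrix (Fin 3) (Fin 3) F) * (Q : Matrix (Fin 3) (Fin 3) F))) := by
              rw [smul_smul, mul_inv_cancel₀ hε0, one_smul]
          _ = _ := by
              rw [hQ, ← Matrix.mul_smul, ← diagonal_smul]
              rfl
      · rw [← Units.val_mul, show P * dia _ hd * P⁻¹ * P = P * dia _ hd by group, Units.val_mul,
          coe_dia]

end Cfsg.Agent.S5999
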