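import Cfsg.Statements.S6000
import Cfsg.Agent.C6Dim4.Linear
-- import your own Cfsg.Agent.* helpers here

set_option autoImplicit false
open scoped MatrixGroups
open Cfsg

namespace Cfsg.Agent.S6000

/-- Elements of prime order of PSL_4(p), p ≡ 1 (mod 4), and the normalizer of a 2-group of symplectic type of order 2⁶. Here `T = PSL_4(F)` for the field `F` with `p` elements, `p` a prime with `p ≡ 1 (mod 4)`; `R` is an absolutely irreducible subgroup of GL_4(F) of order 2⁶ that is a 2-group of symplectic type of exponent 4 with centre of order 4 (the central product of the scalars of order 4 with an extraspecial group 2^{1+4}), and `H` is the subgroup of matrices of determinant 1 normalizing `R` — a subgroup of type 2⁴.Sp₄(2) (maximality is not assumed). Ω is the set of cosets of `H` in `T`, so an element of `T` of prime order `r` (a matrix `x` of determinant 1 with `x^r` scalar, `x` not scalar) fixes a point of Ω exactly when some conjugate of `x` by a matrix of determinant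 1 normalizes `R`. Let `r` be a prime dividing the index of `H`. Then every element of `T` of order `r` fixes a point of Ω if and only if `r = 2`, or `r = 3` and `p ≡ 2 (mod 3)`, or `r = 5` and `p ≡ ±2 (mod 5)` (`p` has multiplicative order 4 modulo 5). -/
theorem result {F : Type*} [Field F] [Fintype F] {p : ℕ} [Fact p.Prime] [CharP F p] (hF : Fintype.card F = p) (hp4 : p % 4 = 1)
    (R : Subgroup (GL (Fin 4) F)) (hR : Cfsg.Geo.IsLinearSymplecticTypeData 2 R) (hR6 : Nat.card R = 2 ^ 6)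
    (r : ℕ) [Fact r.Prime]
    (hΩ : r ∣ (Cfsg.Geo.subgroupNormalizer R).relIndex (Cfsg.Geo.specialLinear (Fin 4) F)) :
    (∀ x ∈ Cfsg.Geo.specialLinear (Fin 4) F, (∃ z : F, ((x ^ r : GL (Fin 4) F) : Matrix (Fin 4) (Fin 4) F) = z • (1 : Matrix (Fin 4) (Fin 4) F)) →
      (∀ z : F, (x : Matrix (Fin 4) (Fin 4) F) ≠ z • (1 : Matrix (Fin 4) (Fin 4) F)) →
      ∃ g ∈ Cfsg.Geo.specialLinear (Fin 4) F, g⁻¹ * x * g ∈ Cfsg.Geo.subgroupNormalizer R) ↔ (r = 2 ∨ (r = 3 ∧ p % 3 = 2) ∨ (r = 5 ∧ orderOf (p : ZMod 5) = 4)) := by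
  have hp : p ≠ 2 := by omega
  obtain ⟨hs, hi, q, e, hrq, -, hd⟩ := hR
  have hZ : Nat.card (Subgroup.center R) = 4 := by
    rcases hd with ⟨h, -⟩ | ⟨-, -, h, -⟩ | ⟨-, -, -, h, -⟩
    · exact absurd h (by decide)
    · exact h
    · rw [hR6] at h; norm_num at h
  have P := C6Dim4.pre_of (C6Dim4.two_ne hp) (Fintype.card_fin 4) hs hi (Or.inl ⟨by rw [hR6]; norm_num, hZ⟩)
  obtain ⟨i₀, hiR, hi₀, his⟩ := C6Dim4.exists_i (Fintype.card_fin 4) hs hi P hZ
  obtain ⟨Φ⟩ := C6Dim4.frame_four P hiR hi₀ his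
  have hdet : ∀ x ∈ Geo.specialLinear (Fin 4) F, (x : Matrix (Fin 4) (Fin 4) F).det = 1 := fun x hx =>
    C6Dim4.mem_sl.1 hx
  rw [C6Dim4.order_four_iff]
  constructor
  · intro hall
    by_contra hcon
    simp only [not_or, not_and] at hcon
    obtain ⟨hr2, hr3, hr5⟩ := hcon
    have hodd : Odd r := (Fact.out : r.Prime).odd_of_ne_two hr2
    by_cases h7 : 7 ≤ r
    · obtain ⟨x, hx, hxr, hns⟩ := C6Dim4.exists_order (Fintype.card_fin 4) hdet hΩ hr2
      obtain ⟨g, hg, hgN⟩ := hall x hx ⟨1, by simp [hxr]⟩ fun z hz => hns ⟨z, hz⟩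
      refine C6Dim4.not_sc_conj (g := g) hns (Φ.big hgN h7 ?_)
      rw [show (g⁻¹ * x * g) ^ r = g⁻¹ * x ^ r * g by simpa using conj_pow (i := r) (a := g⁻¹) (b := x), hxr,
        mul_one, inv_mul_cancel]
      exact C6Dim4.isSc_one
    · have hr : r = 3 ∨ r = 5 := by
        have := (Fact.out : r.Prime).two_le
        have := (Fact.out : r.Prime)
        interval_cases r <;> first | omega | exact absurd this (by decide)
      obtain ⟨x, hx, hxr, hns, hno⟩ := C6Dim4.linear_bad hF hp Φ (r := r) (by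
        rcases hr with rfl | rfl
        · exact Or.inl ⟨rfl, hr3 rfl⟩
        · exact Or.inr ⟨rfl, fun h => by have := hr5 rfl; omega⟩)
      obtain ⟨g, hg, hgN⟩ := hall x hx ⟨1, by simp [hxr]⟩ fun z hz => hns ⟨z, hz⟩
      exact hno g hg hgN
  · rintro (rfl | ⟨rfl, h3⟩ | ⟨rfl, h5⟩)
    · intro x hx hz hns
      exact C6Dim4.linear_two hp Φ hiR hi₀ his hx hz fun ⟨z, h⟩ => hns z h
    · exact C6Dim4.reduce_odd (Fintype.card_fin 4) hdet (by decide) fun y _ hy hns =>
        C6Dim4.linear_three hF hp h3 Φ hiR hi₀ his hy hns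
    · exact C6Dim4.reduce_odd (Fintype.card_fin 4) hdet (by decide) fun y _ hy hns =>
        C6Dim4.linear_five hF h5 Φ hy hns

end Cfsg.Agent.S6000
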