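import Cfsg.Statements.S6001
import Cfsg.Agent.C6Dim4.Unitary
-- import your own Cfsg.Agent.* helpers here

set_option autoImplicit false
open scoped MatrixGroups
open Cfsg

namespace Cfsg.Agent.S6001

/-- Elements of prime order of PSU_4(p), p ≡ 3 (mod 4), and the normalizer of a 2-group of symplectic type of order 2⁶. Here `T = PSU_4(p)` for a prime `p ≡ 3 (mod 4)`, realised through `SU_4(p)`, the matrices of determinant 1 over the field `F` with `p²` elements preserving the hermitian form `f = Σ uᵢvᵢ^p`; `R` is an absolutely irreducible subgroup of the full unitary group of `f` of order 2⁶ that is a 2-group of symplectic type of exponent 4 with centre of order 4, and `H` is the subgroup of `SU_4(p)` normalizing `R` — a subgroup of type 2⁴.Sp₄(2) (maximality is not assumed). Ω is the set of cosets of `H`, so an element of `T` of prime order `r` (`x ∈ SU_4(p)` with `x^r` scalar, `x` not scalar) fixes a point of Ω exactly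 when some `SU_4(p)`-conjugate of `x` normalizes `R`. Let `r` be a prime dividing the index of `H`. Then every element of `T` of order `r` fixes a point of Ω if and only if `r = 2`, or `r = 3` and `p ≡ 1 (mod 3)`, or `r = 5` and `p ≡ ±2 (mod 5)` (`p` has multiplicative order 4 modulo 5). -/
theorem result {F : Type*} [Field F] [Fintype F] {p : ℕ} [Fact p.Prime] [CharP F p] (hF : Fintype.card F = p ^ 2) (hp4 : p % 4 = 3)
    (R : Subgroup (GL (Fin 4) F)) (hRs : Cfsg.Geo.IsSymplecticTypeGroup 2 R) (hRi : Cfsg.Geo.ActsAbsolutelyIrreducibly (Cfsg.Geo.matrixSet R))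
    (hRU : R ≤ Cfsg.GU 4 F p) (hR6 : Nat.card R = 2 ^ 6) (hRZ : Nat.card (Subgroup.center R) = 4)
    (r : ℕ) [Fact r.Prime]
    (hΩ : r ∣ (Cfsg.Geo.subgroupNormalizer R).relIndex (Cfsg.GU 4 F p ⊓ Cfsg.Geo.specialLinear (Fin 4) F)) :
    (∀ x ∈ Cfsg.GU 4 F p ⊓ Cfsg.Geo.specialLinear (Fin 4) F, (∃ z : F, ((x ^ r : GL (Fin 4) F) : Matrix (Fin 4) (Fin 4) F) = z • (1 : Matrix (Fin 4) (Fin 4) F)) →
      (∀ z : F, (x : Matrix (Fin 4) (Fin 4) F) ≠ z • (1 : Matrix (Fin 4) (Fin 4) F)) →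
      ∃ g ∈ Cfsg.GU 4 F p ⊓ Cfsg.Geo.specialLinear (Fin 4) F, g⁻¹ * x * g ∈ Cfsg.Geo.subgroupNormalizer R) ↔ (r = 2 ∨ (r = 3 ∧ p % 3 = 1) ∨ (r = 5 ∧ orderOf (p : ZMod 5) = 4)) := by
  have hp : p ≠ 2 := by omega
  letI : StarRing F := Forms59.starRingOfCard hF
  have hs : ∀ x : F, star x = x ^ p := fun x => rfl
  obtain ⟨θ, hθ⟩ := (Forms59.card_sq_facts hF).2.2.2
  have P := C6Dim4.pre_of (C6Dim4.two_ne hp) (Fintype.card_fin 4) hRs hRi (Or.inl ⟨by rw [hR6]; norm_num, hRZ⟩)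
  obtain ⟨i₀, hiR, hi₀, his⟩ := C6Dim4.exists_i (Fintype.card_fin 4) hRs hRi P hRZ
  obtain ⟨Φ⟩ := C6Dim4.frame_four P hiR hi₀ his
  have hdet : ∀ x ∈ Cfsg.GU 4 F p ⊓ Geo.specialLinear (Fin 4) F, (x : Matrix (Fin 4) (Fin 4) F).det = 1 :=
    fun x hx => ((C6Dim4.mem_su hs).1 hx).2
  rw [C6Dim4.order_four_iff]
  constructor
  · intro hall
    by_contra hcon
    simp only [not_or, not_and] at hcon
    obtain ⟨hr2, hr3, hr5⟩ := hcon
    by_cases h7 : 7 ≤ r
    · exact C6Dim4.big_case (Fintype.card_fin 4) Φ hdet hΩ h7 hall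
    · obtain ⟨x, hx, hxr, hns, hno⟩ := C6Dim4.unitary_bad hF hp4 θ hθ hs Φ (r := r) (by
        rcases C6Dim4.prime_cases h7 hr2 with rfl | rfl
        · exact Or.inl ⟨rfl, hr3 rfl⟩
        · exact Or.inr ⟨rfl, fun h => by have := hr5 rfl; omega⟩)
      obtain ⟨g, hg, hgN⟩ := hall x hx ⟨1, by simp [hxr]⟩ fun z hz => hns ⟨z, hz⟩
      exact hno g hg hgN
  · rintro (rfl | ⟨rfl, h3⟩ | ⟨rfl, h5⟩)
    · intro x hx hz hns
      exact C6Dim4.unitary_two hF hp4 θ hθ hs Φ hRU hiR hi₀ his hx hz fun ⟨z, h⟩ => hns z h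
    · exact C6Dim4.reduce_odd (Fintype.card_fin 4) hdet (by decide) fun y hy hy3 hns =>
        C6Dim4.unitary_three hp4 h3 θ hθ hs Φ hRU hiR hi₀ his hy.1 hy3 hns
    · exact C6Dim4.reduce_odd (Fintype.card_fin 4) hdet (by decide) fun y hy hy5 hns =>
        C6Dim4.unitary_five hF h5 θ hθ hs Φ hRU hy.1 hy5 hns

end Cfsg.Agent.S6001
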